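import Groth.Statements.S4130
import Groth.Agent.H93.CMMMin

set_option autoImplicit false
universe u
open TensorProduct
open SGA3

namespace Groth.Agent.S4130

/-- Let A be a finitely generated commutative and cocommutative Hopf algebra over a field k (a
commutative affine algebraic group G = Spec A). Then G has a largest subgroup M of multiplicative
type and G/M is unipotent: there is a Hopf ideal J of A (defining M) such that A/J is of
multiplicative type (diagonalizable after a faithfully flat extension of k), J is contained in every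
Hopf ideal I with A/I of multiplicative type, and J is the ideal generated by the augmentation ideal
of the image of an injective bialgebra map φ : B → A from a Hopf algebra B (so Spec B = G/M) which
is unipotent in the fixed-vector sense. -/
theorem result (k : Type u) [Field k]
    (A : Type u) [CommRing A] [HopfAlgebra k A] [Algebra.FiniteType k A] [Coalgebra.IsCocomm k A] :
    ∃ (J : Ideal A) (_ : J.IsHopfIdeal k), SGA3b.IsMultTypeConst k (A ⧸ J) ∧
      (∀ (I : Ideal A) [I.IsHopfIdeal k], SGA3b.IsMultTypeConst k (A ⧸ I) → J ≤ I) ∧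
      ∃ (B : Type u) (_ : CommRing B) (_ : HopfAlgebra k B) (φ : B →ₐc[k] A), Function.Injective φ ∧
        J = Ideal.map (φ : B →+* A) (RingHom.ker (Bialgebra.counitAlgHom k B)) ∧ HopfRep.IsUnipotent k B := by
  classical
  letI hB : HopfAlgebra k ↥(Groth.Agent.H93.CMM.conil k A) :=
    Groth.Agent.H93.HopfSub.hopfAlgebra Groth.Agent.H93.CMM.isHopfSub_conil
  let ψ : ↥(Groth.Agent.H93.CMM.conil k A) →ₐc[k] A :=
    Groth.Agent.H93.HopfSub.incl Groth.Agent.H93.CMM.isHopfSub_conil
  let J : Ideal A := Groth.Agent.H82.Takeuchi.augMap ψ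
  haveI hJ : J.IsHopfIdeal k := Groth.Agent.H82.TrigStruct2.isHopfIdeal_augMap ψ
  have hmem : ∀ b ∈ Groth.Agent.H93.CMM.conil k A,
      b - algebraMap k A (Coalgebra.counit (R := k) b) ∈ J := by
    intro b hb
    have h1 : ((⟨b, hb⟩ : ↥(Groth.Agent.H93.CMM.conil k A)) -
        algebraMap k ↥(Groth.Agent.H93.CMM.conil k A) (Coalgebra.counit (R := k) b)) ∈
        RingHom.ker (Bialgebra.counitAlgHom k ↥(Groth.Agent.H93.CMM.conil k A)) := by
      rw [RingHom.mem_ker, map_sub, AlgHom.commutes, sub_eq_zero]
      rfl
    have h2 := Ideal.mem_map_of_mem (ψ : ↥(Groth.Agent.H93.CMM.conil k A) →+* A) h1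
    exact h2
  refine ⟨J, hJ, ?_, ?_, ↥(Groth.Agent.H93.CMM.conil k A), inferInstance, hB, ψ,
    Subtype.val_injective, rfl, Groth.Agent.H93.CMM.isUnipotent_conil⟩
  · refine ⟨AlgebraicClosure k, inferInstance, inferInstance, inferInstance, ?_⟩
    exact Groth.Agent.H26.isDiag_of_span_isGroupLikeElem _ _
      (Groth.Agent.H93.CMM.span_groupLike_quot k A (AlgebraicClosure k) J hmem)
  · intro I _ hI
    change Ideal.map _ _ ≤ I
    rw [Ideal.map_le_iff_le_comap]
    intro b' hb'
    rw [Ideal.mem_comap]
    have h1 := Groth.Agent.H93.CMM.sub_counit_mem_of_isMultTypeConst k A I hI (b' : A) b'.2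
    have hε : Coalgebra.counit (R := k) (b' : A) = 0 := hb'
    rw [hε, map_zero, sub_zero] at h1
    exact h1

end Groth.Agent.S4130
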