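import Groth.Statements.S4183
import Groth.Agent.H21.AnAffine

set_option autoImplicit false
open CategoryTheory AlgebraicGeometry Topology TopologicalSpace
open An

namespace Groth.Agent.S4183

lemma surj_pi (n : ℕ) : Function.Surjective
    (MvPolynomial.eval₂Hom (An.strHom (𝔸(Fin n; An.SC))) (AffineSpace.coord An.SC)) := by
  have h := AffineSpace.SpecIso_hom_appTop (n := Fin n) (CommRingCat.of ℂ)
  have hiso : IsIso ((Scheme.ΓSpecIso _).hom ≫
      CommRingCat.ofHom (MvPolynomial.eval₂Hom ((Scheme.ΓSpecIso _).inv ≫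
        (𝔸(Fin n; Spec (CommRingCat.of ℂ)) ↘ Spec (CommRingCat.of ℂ)).appTop).hom
        (AffineSpace.coord (Spec (CommRingCat.of ℂ))))) := by
    rw [← h]; exact inferInstanceAs (IsIso ((AffineSpace.SpecIso (Fin n) (CommRingCat.of ℂ)).hom.app ⊤))
  have hiso2 : IsIso (CommRingCat.ofHom (MvPolynomial.eval₂Hom ((Scheme.ΓSpecIso _).inv ≫
        (𝔸(Fin n; Spec (CommRingCat.of ℂ)) ↘ Spec (CommRingCat.of ℂ)).appTop).hom
        (AffineSpace.coord (Spec (CommRingCat.of ℂ))))) := IsIso.of_isIso_comp_left (Scheme.ΓSpecIso _).hom _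
  have := (ConcreteCategory.bijective_of_isIso (CommRingCat.ofHom (MvPolynomial.eval₂Hom ((Scheme.ΓSpecIso _).inv ≫
        (𝔸(Fin n; Spec (CommRingCat.of ℂ)) ↘ Spec (CommRingCat.of ℂ)).appTop).hom
        (AffineSpace.coord (Spec (CommRingCat.of ℂ)))))).2
  exact this

theorem result (n : ℕ) :
    IsHomeomorph (fun (x : An.Pts (𝔸(Fin n; An.SC))) (i : Fin n) => x.evTop (AffineSpace.coord An.SC i)) := by
  have hce := Groth.Agent.H21.isClosedEmbedding_genMap (X := 𝔸(Fin n; An.SC)) (AffineSpace.coord An.SC) (surj_pi n)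
  have hsurj : Function.Surjective (Groth.Agent.H21.genMap (X := 𝔸(Fin n; An.SC)) (AffineSpace.coord An.SC)) := by
    intro v
    let p : An.SC ⟶ 𝔸(Fin n; An.SC) := AffineSpace.homOfVector (𝟙 An.SC)
      (fun i => (Scheme.ΓSpecIso (CommRingCat.of ℂ)).inv (v i))
    have hp : p ≫ (𝔸(Fin n; An.SC) ↘ An.SC) = 𝟙 An.SC := AffineSpace.homOfVector_over _ _
    refine ⟨⟨p, hp⟩, ?_⟩
    funext i
    simp only [Groth.Agent.H21.genMap]
    refine (Groth.Agent.H21.evTop_eq _ _).trans ?_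
    change (Scheme.ΓSpecIso (CommRingCat.of ℂ)).hom (p.appTop (AffineSpace.coord An.SC i)) = v i
    rw [AffineSpace.homOfVector_appTop_coord]
    simp
  exact (hce.isEmbedding.toHomeomorphOfSurjective hsurj).isHomeomorph

end Groth.Agent.S4183
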