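import Groth.Statements.S4191
import Groth.Agent.H21.ConnSch

set_option autoImplicit false
open CategoryTheory AlgebraicGeometry Topology TopologicalSpace
open An

namespace Groth.Agent.S4191

/-- Let X be a scheme locally of finite type over ℂ. Then X is connected (and nonempty) if and only if
X(ℂ) with the complex topology is connected (and nonempty). -/
theorem result (X : Scheme.{0}) [X.Over An.SC] [LocallyOfFiniteType (X ↘ An.SC)] :
    ConnectedSpace ↥X ↔ ConnectedSpace (An.Pts X) := by
  constructor
  · intro h
    obtain ⟨x⟩ := H21.nonempty_iff_nonempty_pts.1 h.toNonempty
    have hpre : PreconnectedSpace (An.Pts X) := by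
      constructor
      have huniv : (Set.univ : Set (An.Pts X)) = connectedComponent x := by
        symm
        rw [Set.eq_univ_iff_forall]
        intro y
        apply H21.mem_connectedComponent_of_pt_mem
        rw [PreconnectedSpace.connectedComponent_eq_univ]
        trivial
      rw [huniv]
      exact isPreconnected_connectedComponent
    exact { toNonempty := ⟨x⟩ }
  · intro h
    have hne : Nonempty X := H21.nonempty_iff_nonempty_pts.2 h.toNonempty
    have : JacobsonSpace X := H21.jacobsonSpace_of_lft
    have hdense : DenseRange (An.Pts.pt : An.Pts X → X) := by
      rw [DenseRange, H21.range_pt, dense_iff_closure_eq]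
      exact closure_closedPoints
    have hpre : PreconnectedSpace X := hdense.preconnectedSpace An.Pts.continuous_pt
    exact { toNonempty := hne }

end Groth.Agent.S4191
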