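import Groth.Statements.S4192
import Groth.Agent.H21.ConnSch

set_option autoImplicit false
open CategoryTheory AlgebraicGeometry Topology TopologicalSpace
open An

namespace Groth.Agent.S4192

/-- For X locally of finite type over ℂ, the map π_0(X(ℂ)) → π_0(X) induced by the continuous map X(ℂ) →
X is bijective. -/
theorem result (X : Scheme.{0}) [X.Over An.SC] [LocallyOfFiniteType (X ↘ An.SC)] :
    Function.Bijective (An.Pts.continuous_pt (X := X)).connectedComponentsMap := by
  have : JacobsonSpace X := H21.jacobsonSpace_of_lft
  constructor
  · intro a b hab
    obtain ⟨x, rfl⟩ := ConnectedComponents.surjective_coe a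
    obtain ⟨y, rfl⟩ := ConnectedComponents.surjective_coe b
    have h1 : ((An.Pts.pt x : X) : ConnectedComponents X) = (An.Pts.pt y : X) := hab
    rw [ConnectedComponents.coe_eq_coe'] at h1 ⊢
    have h2 : y.pt ∈ connectedComponent x.pt := by
      rw [← connectedComponent_eq h1]
      exact mem_connectedComponent
    have h3 := H21.mem_connectedComponent_of_pt_mem x y h2
    rw [← connectedComponent_eq h3]
    exact mem_connectedComponent
  · intro c
    obtain ⟨p, rfl⟩ := ConnectedComponents.surjective_coe c
    have h1 := closure_inter_closedPoints (X := X) (Z := connectedComponent p)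
      isClosed_connectedComponent
    have h2 : (connectedComponent p ∩ closedPoints X).Nonempty := by
      by_contra hempty
      rw [Set.not_nonempty_iff_eq_empty] at hempty
      rw [hempty, closure_empty] at h1
      exact (Set.nonempty_of_mem (mem_connectedComponent (x := p))).ne_empty h1.symm
    obtain ⟨q, hq1, hq2⟩ := h2
    obtain ⟨z, hz⟩ := H21.exists_pts_of_isClosed_singleton q hq2
    refine ⟨(z : ConnectedComponents (An.Pts X)), ?_⟩
    change ((An.Pts.pt z : X) : ConnectedComponents X) = (p : ConnectedComponents X)
    rw [ConnectedComponents.coe_eq_coe', hz]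
    exact hq1

end Groth.Agent.S4192
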