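import Groth.Statements.S4201
import Groth.Agent.H21.AnClosed
import Mathlib.AlgebraicGeometry.Morphisms.Immersion

set_option autoImplicit false
open CategoryTheory AlgebraicGeometry Topology TopologicalSpace
open An

namespace Groth.Agent.S4201

/-- The direction from schemes to spaces: an immersion f : X → Y of schemes locally of finite type over
ℂ induces an embedding X(ℂ) → Y(ℂ) whose image is locally closed. -/
theorem result (X Y : Scheme.{0}) [X.Over An.SC] [LocallyOfFiniteType (X ↘ An.SC)]
    [Y.Over An.SC] [LocallyOfFiniteType (Y ↘ An.SC)] (f : X ⟶ Y) [f.IsOver An.SC] [IsImmersion f] :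
    Topology.IsEmbedding (An.Pts.map f) ∧ IsLocallyClosed (Set.range (An.Pts.map f)) := by
  have : (f.liftCoborder).IsOver An.SC := ⟨by
    change f.liftCoborder ≫ (f.coborderRange.ι ≫ Y ↘ An.SC) = X ↘ An.SC
    rw [← Category.assoc, Scheme.Hom.liftCoborder_ι, comp_over f An.SC]⟩
  have hcl := Groth.Agent.H21.isClosedEmbedding_map_of_isClosedImmersion f.liftCoborder
  have hop := Groth.Agent.H21.isOpenEmbedding_map_of_isOpenImmersion f.coborderRange.ι
  have hfac : An.Pts.map f = An.Pts.map f.coborderRange.ι ∘ An.Pts.map f.liftCoborder := by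
    funext x
    apply Subtype.ext
    simp only [An.Pts.map_val, Function.comp_apply, Category.assoc, Scheme.Hom.liftCoborder_ι]
  rw [hfac]
  refine ⟨hop.isEmbedding.comp hcl.isEmbedding, ?_⟩
  rw [Set.range_comp]
  exact hcl.isClosed_range.isLocallyClosed.image hop.isInducing hop.isOpen_range.isLocallyClosed

end Groth.Agent.S4201
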