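import Groth.Statements.S4205
import Groth.Agent.H21.AnProperMap

set_option autoImplicit false
open CategoryTheory AlgebraicGeometry Topology TopologicalSpace
open An

namespace Groth.Agent.S4205

/-- Let X be a scheme of finite type over ℂ (locally of finite type and quasi-compact over ℂ, carried as
two instance hypotheses). Then X is proper over ℂ if and only if X(ℂ) with the complex topology is
compact and Hausdorff. -/
theorem result (X : Scheme.{0}) [X.Over An.SC] [LocallyOfFiniteType (X ↘ An.SC)] [QuasiCompact (X ↘ An.SC)] :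
    IsProper (X ↘ An.SC) ↔ CompactSpace (An.Pts X) ∧ T2Space (An.Pts X) := by
  letI : An.SC.Over An.SC := Groth.Agent.H21.AnProj.scOver
  haveI hover : (X ↘ An.SC).IsOver An.SC := ⟨Category.comp_id _⟩
  haveI hlft : LocallyOfFiniteType (An.SC ↘ An.SC) :=
    inferInstanceAs (LocallyOfFiniteType (𝟙 An.SC))
  have hsub : Subsingleton (An.Pts An.SC) := by
    constructor
    intro x y
    apply Subtype.ext
    have hx : x.1 ≫ 𝟙 An.SC = 𝟙 An.SC := x.2
    have hy : y.1 ≫ 𝟙 An.SC = 𝟙 An.SC := y.2
    rw [Category.comp_id] at hx hy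
    rw [hx, hy]
  rw [Groth.Agent.H21.AnProj.isProper_iff (X ↘ An.SC)]
  have y₀ : An.Pts An.SC := ⟨𝟙 An.SC, Category.comp_id _⟩
  have hconst : An.Pts.map (X ↘ An.SC) = fun _ => y₀ := funext (fun _ => Subsingleton.elim _ _)
  rw [hconst, isProperMap_const_iff y₀, ← t2space_iff_isSeparatedMap y₀]

end Groth.Agent.S4205
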