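import Groth.Statements.S4210
import Groth.Agent.H21.EpsFlat
import Groth.Agent.H1.LanFlat

set_option autoImplicit false
open CategoryTheory AlgebraicGeometry Topology TopologicalSpace
open An

namespace Groth.Agent.S4210

/-- Ε is a morphism of sites, so its inverse image functor is exact: for X locally of finite type over ℂ
the inverse image ε^* from abelian etale sheaves on X to abelian sheaves on the classical site of
X(ℂ) preserves finite limits (it preserves colimits, being a left adjoint). This is the exactness
hypothesis carried by the comparison maps on cohomology. -/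
theorem result (X : Scheme.{0}) [X.Over An.SC] [LocallyOfFiniteType (X ↘ An.SC)]
    [Fact An.EtaleLH] [An.EpsCont X] :
    Limits.PreservesFiniteLimits (An.epsPull X) := by
  have hfilt : ∀ K : (An.Cl (An.Pts X))ᵒᵖ,
      IsFiltered (CostructuredArrow (An.eps X).op K) := fun K =>
    IsFiltered.of_equivalence (structuredArrowOpEquivalence (An.eps X) (Opposite.unop K))
  have hAB5 : AB5OfSize.{0, 1} AddCommGrpCat.{1} :=
    AB5OfSize_of_univLE.{0, 1, 1, 1} AddCommGrpCat.{1}
  have hex : ∀ K : (An.Cl (An.Pts X))ᵒᵖ,
      HasExactColimitsOfShape (CostructuredArrow (An.eps X).op K) AddCommGrpCat.{1} :=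
    fun K => inferInstance
  have : Limits.PreservesFiniteLimits ((An.eps X).op.lan :
      ((X.Etale)ᵒᵖ ⥤ AddCommGrpCat.{1}) ⥤ (An.Cl (An.Pts X))ᵒᵖ ⥤ AddCommGrpCat.{1}) :=
    Groth.Agent.H1.lan_preservesFiniteLimits_of_flat_gen AddCommGrpCat.{1} (An.eps X)
  exact Functor.sheafPullbackConstruction.preservesFiniteLimits (An.eps X) AddCommGrpCat.{1}
    X.smallEtaleTopology (An.Cl.topology (An.Pts X))

end Groth.Agent.S4210
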