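import Groth.Statements.S4243
import Mathlib.FieldTheory.Finite.Polynomial

set_option autoImplicit false
open SGA4h

namespace Groth.Agent.S4243

open MvPolynomial in
/-- Let k be a finite field with q elements and P a nonzero homogeneous polynomial of degree d in r+1
variables over k. If P vanishes at every point of k^{r+1} (that is, the hypersurface P = 0 in
projective r-space passes through every rational point), then d ≥ q + 1. -/
theorem result (k : Type) [Field k] [Fintype k] (r d : ℕ)
    (P : MvPolynomial (Fin (r + 1)) k) (hP : P.IsHomogeneous d) (hP0 : P ≠ 0)
    (hvan : ∀ x : Fin (r + 1) → k, MvPolynomial.eval x P = 0) :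
    Fintype.card k + 1 ≤ d := by
  classical
  by_contra hlt
  push Not at hlt
  apply hP0
  set q := Fintype.card k with hq
  have hdq : d ≤ q := by omega
  have hq2 : 2 ≤ q := Fintype.one_lt_card
  let c : Fin (r + 1) → k := fun i => P.coeff (Finsupp.single i q)
  set Q : MvPolynomial (Fin (r + 1)) k := P - ∑ i, C (c i) * (X i ^ q - X i) with hQ
  have hQvan : ∀ x, eval x Q = 0 := by
    intro x
    simp [hQ, hvan, hq, FiniteField.pow_card]
  have hcoeffX : ∀ (s : Fin (r + 1) →₀ ℕ) (i : Fin (r + 1)), q ≤ s i →
      ∀ j, coeff s (X j : MvPolynomial (Fin (r + 1)) k) = 0 := by
    intro s i hsi j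
    rw [coeff_X]
    split_ifs with h
    · exfalso
      have := congrArg (fun t => t i) h
      simp only [Finsupp.single_apply] at this
      split_ifs at this <;> omega
    · rfl
  have hQmem : Q ∈ restrictDegree (Fin (r + 1)) k (q - 1) := by
    rw [mem_restrictDegree]
    intro s hs i
    by_contra hlt'
    push Not at hlt'
    have hsi : q ≤ s i := by omega
    rw [mem_support_iff] at hs
    apply hs
    have h1 : coeff s Q = coeff s P - ∑ j, c j * (if Finsupp.single j q = s then 1 else 0) := by
      rw [hQ, coeff_sub, coeff_sum]
      congr 1
      apply Finset.sum_congr rfl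
      intro j _
      rw [coeff_C_mul, coeff_sub, hcoeffX s i hsi j, sub_zero, X_pow_eq_monomial, coeff_monomial]
    rw [h1]
    by_cases hs' : s = Finsupp.single i q
    · subst hs'
      rw [Finset.sum_eq_single i]
      · simp [c]
      · intro j _ hji
        rw [if_neg, mul_zero]
        intro h
        have := congrArg (fun t => t i) h
        simp [Finsupp.single_apply, hji] at this
        omega
      · intro h; exact absurd (Finset.mem_univ i) h
    · have hzero : coeff s P = 0 := by
        by_contra hne
        have hdeg := hP hne
        apply hs'
        have hdeg' : s.degree = d := by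
          rw [← hdeg, Finsupp.degree_eq_weight_one]
          rfl
        ext j
        rw [Finsupp.single_apply]
        have hle : s i ≤ s.degree := by
          rw [Finsupp.degree]
          by_cases hi : i ∈ s.support
          · exact Finset.single_le_sum (f := fun a => s a) (fun a _ => Nat.zero_le _) hi
          · rw [Finsupp.notMem_support_iff] at hi; omega
        have hsi' : s i = q := by omega
        split_ifs with hij
        · subst hij; exact hsi'
        · by_contra hne0
          have hjs : j ∈ s.support := by rwa [Finsupp.mem_support_iff]
          have his : i ∈ s.support := by rw [Finsupp.mem_support_iff]; omega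
          have : s i + s j ≤ s.degree := by
            rw [Finsupp.degree]
            have hsub : ({i, j} : Finset (Fin (r + 1))) ⊆ s.support := by
              intro a ha
              rcases Finset.mem_insert.1 ha with rfl | ha
              · exact his
              · rw [Finset.mem_singleton] at ha; subst ha; exact hjs
            calc s i + s j = ∑ a ∈ ({i, j} : Finset (Fin (r + 1))), s a := by
                  rw [Finset.sum_pair hij]
              _ ≤ ∑ a ∈ s.support, s a := Finset.sum_le_sum_of_subset hsub
          omega
      rw [hzero, zero_sub, neg_eq_zero]
      apply Finset.sum_eq_zero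
      intro j _
      rw [if_neg, mul_zero]
      intro h
      apply hs'
      rw [← h]
      have := congrArg (fun t => t i) h
      simp only [Finsupp.single_apply] at this
      split_ifs at this with hji
      · subst hji; rfl
      · omega
  have hQ0 : Q = 0 := eq_zero_of_eval_eq_zero (Fin (r + 1)) k Q hQvan hQmem
  -- take the homogeneous component of degree 1
  have hPeq : P = ∑ i, C (c i) * (X i ^ q - X i) := by
    rw [hQ, sub_eq_zero] at hQ0
    exact hQ0
  by_cases hd1 : d = q
  · have hcomp : homogeneousComponent 1 P = 0 := by
      apply homogeneousComponent_of_mem hP |>.trans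
      rw [if_neg]
      omega
    have hcomp2 : homogeneousComponent 1 (∑ i, C (c i) * (X i ^ q - X i) : MvPolynomial (Fin (r + 1)) k)
        = - ∑ i, C (c i) * X i := by
      rw [map_sum, ← Finset.sum_neg_distrib]
      apply Finset.sum_congr rfl
      intro i _
      rw [mul_sub, map_sub]
      have h1 : (C (c i) * X i ^ q : MvPolynomial (Fin (r + 1)) k).IsHomogeneous q := by
        have := (isHomogeneous_C (Fin (r + 1)) (c i)).mul ((isHomogeneous_X k i).pow q)
        simpa using this
      have h2 : (C (c i) * X i : MvPolynomial (Fin (r + 1)) k).IsHomogeneous 1 := by
        have := (isHomogeneous_C (Fin (r + 1)) (c i)).mul (isHomogeneous_X k i)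
        simpa using this
      rw [homogeneousComponent_of_mem h1, homogeneousComponent_of_mem h2, if_neg (by omega), if_pos rfl,
        zero_sub]
    rw [← hPeq, hcomp] at hcomp2
    have hc0 : ∀ i, c i = 0 := by
      intro i
      have := congrArg (coeff (Finsupp.single i 1)) hcomp2
      rw [coeff_zero, coeff_neg, coeff_sum] at this
      rw [Finset.sum_eq_single i] at this
      · rw [coeff_C_mul, coeff_X] at this
        simpa using this.symm
      · intro j _ hji
        rw [coeff_C_mul, coeff_X, if_neg, mul_zero]
        intro h
        apply hji
        exact (Finsupp.single_left_injective one_ne_zero h)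
      · intro h; exact absurd (Finset.mem_univ i) h
    rw [hPeq]
    apply Finset.sum_eq_zero
    intro i _
    rw [hc0 i, C_0, zero_mul]
  · -- d < q : all c i = 0 since single i q has degree q ≠ d
    have hc0 : ∀ i, c i = 0 := by
      intro i
      by_contra hne
      have := hP hne
      rw [Finsupp.weight_single] at this
      simp at this
      omega
    rw [hPeq]
    apply Finset.sum_eq_zero
    intro i _
    rw [hc0 i, C_0, zero_mul]

end Groth.Agent.S4243
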