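import Groth.Statements.S4295
import Groth.Agent.H28.PCohTower2

set_option autoImplicit false
universe w v u
open CategoryTheory CategoryTheory.Limits
open PCoh

namespace Groth.Agent.S4295

/-- Punctual site: let C be an abelian category and C₀ a strictly full additive subcategory (closed
under isomorphisms, containing zero, closed under binary products) which is quasi-stable under
kernels of epimorphisms and quasi-liftable in C. If F ∈ D(C) is C₀-pseudo-coherent (for every n
isomorphic to a bounded above complex with terms in C₀ from degree n on), then F is isomorphic in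
D(C) to the image of one bounded above complex all of whose terms lie in C₀. -/
theorem result {C : Type u} [Category.{v} C] [Abelian C] [HasDerivedCategory.{w} C]
    (P : ObjectProperty C) [P.IsClosedUnderIsomorphisms] [P.ContainsZero] (hsum : ∀ X Y : C, P X → P Y → P (X ⨯ Y))
    (hqs : PCoh.IsQuasiStableUnderKernels P) (hql : PCoh.IsQuasiLiftable P)
    (F : DerivedCategory C) (hF : PCoh.IsPC P F) :
    ∃ E : CochainComplex C ℤ, PCoh.IsStrictPCAll P E ∧ Nonempty (DerivedCategory.Q.obj E ≅ F) := by
  obtain ⟨E₀, ⟨⟨b, hb⟩, -⟩, ⟨e⟩⟩ := hF 0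
  have hac : ∀ i : ℤ, b + 1 ≤ i → IsZero ((DerivedCategory.homologyFunctor C i).obj F) := by
    intro i hi
    refine IsZero.of_iso ?_ ((DerivedCategory.homologyFunctor C i).mapIso e.symm ≪≫
      Groth.Agent.H28.PCohDer.homologyQIso E₀ i)
    exact Groth.Agent.H28.PCohCore.isZero_homology_of_isZero_X E₀ i (hb i (by omega))
  obtain ⟨E, hE, -, hiso⟩ :=
    Groth.Agent.H28.PCohTower.exists_strictPCAll_iso hql hsum hqs (b + 1) F hF hac
  exact ⟨E, hE, hiso⟩

end Groth.Agent.S4295
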