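import Groth.Statements.S4329
import Groth.Agent.S0101
import Groth.Agent.H33.KInj.Main
import Groth.Agent.H33.DerComp
import Groth.Agent.H33.KInjAdj

set_option autoImplicit false
universe u
open CategoryTheory CategoryTheory.Limits AlgebraicGeometry Opposite
attribute [local instance] HasDerivedCategory.standard
open EtSix

namespace Groth.Agent.S4329

/-- Composition of derived direct images: for the small etale sites of schemes and abelian sheaves: let
f : X -> Y and g : Y -> Z be morphisms of schemes and assume the unbounded derived direct images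
Rf_*, Rg_* and R(g ∘ f)_* exist (they do; the existence is recorded as instance hypotheses). Then
the canonical morphism R(g ∘ f)_* -> Rg_* ∘ Rf_* of functors D(X_et) -> D(Z_et), induced by (g ∘
f)_* ≅ g_* ∘ f_* through the universal property of R(g ∘ f)_* as a right derived functor, is an
isomorphism. -/
theorem result {X Y Z : Scheme.{u}} (f : X ⟶ Y) (g : Y ⟶ Z)
    [DCoh.HasRpushEt X f] [DCoh.HasRpushEt Y g] [DCoh.HasRpushEt X (f ≫ g)] :
    IsIso (EtSix.compMap f g) := by
  have hKX : ∀ K : CochainComplex (EtCoh.Ab X) ℤ, ∃ (I : CochainComplex (EtCoh.Ab X) ℤ) (φ : K ⟶ I),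
      I.IsKInjective ∧ QuasiIso φ := fun K => by
    obtain ⟨I, φ, h1, h2, -, -⟩ := Groth.Agent.H33.KInj.exists_kInjective_resolution K
    exact ⟨I, φ, h1, h2⟩
  have hKY : ∀ K : CochainComplex (EtCoh.Ab Y) ℤ, ∃ (I : CochainComplex (EtCoh.Ab Y) ℤ) (φ : K ⟶ I),
      I.IsKInjective ∧ QuasiIso φ := fun K => by
    obtain ⟨I, φ, h1, h2, -, -⟩ := Groth.Agent.H33.KInj.exists_kInjective_resolution K
    exact ⟨I, φ, h1, h2⟩
  have hpf : PreservesFiniteLimits (EtCoh.pull f) := Groth.Agent.S0101.result f
  unfold EtSix.compMap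
  refine (Functor.isRightDerivedFunctor_iff_isIso_rightDerivedDesc _ _ _ _ _).mp ?_
  have := Groth.Agent.H5.KInjDeriv.isRightDerivabilityStructure hKX
  refine (Groth.Agent.H5.KInjDeriv.derives (DCoh.pushEtKh X (f ≫ g))).isRightDerivedFunctor_of_isIso
    _ (fun I => ?_)
  dsimp [EtSix.compUnit]
  simp only [Category.comp_id, Category.id_comp]
  have h1 : IsIso ((NatTrans.mapHomotopyCategory (EtCoh.pushComp g f).inv (ComplexShape.up ℤ)).app
      ((Groth.Agent.H5.KInjDeriv.Φ (EtCoh.Ab X)).functor.obj I)) := by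
    refine ⟨(NatTrans.mapHomotopyCategory (EtCoh.pushComp g f).hom (ComplexShape.up ℤ)).app _, ?_, ?_⟩
    · rw [← NatTrans.comp_app, ← NatTrans.mapHomotopyCategory_comp, Iso.inv_hom_id,
        NatTrans.mapHomotopyCategory_id, NatTrans.id_app]
    · rw [← NatTrans.comp_app, ← NatTrans.mapHomotopyCategory_comp, Iso.hom_inv_id,
        NatTrans.mapHomotopyCategory_id, NatTrans.id_app]
  have hI : CochainComplex.IsKInjective
      (((EtCoh.push f).mapHomologicalComplex (ComplexShape.up ℤ)).obj I.obj.as) := by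
    have : CochainComplex.IsKInjective I.obj.as := I.property
    exact Groth.Agent.H33.KInjAdj.isKInjective_map (EtCoh.pullPushAdj f) I.obj.as
  have h2 : IsIso (((DCoh.pushEtKh Y g).totalRightDerivedUnit DerivedCategory.Qh
      (HomotopyCategory.quasiIso (EtCoh.Ab Y) (ComplexShape.up ℤ))).app
        (((EtCoh.push f).mapHomotopyCategory (ComplexShape.up ℤ)).obj
          ((Groth.Agent.H5.KInjDeriv.Φ (EtCoh.Ab X)).functor.obj I))) :=
    Groth.Agent.H5.KInjDeriv.isIso_totalRightDerivedUnit_app hKY (DCoh.pushEtKh Y g) _ hI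
  have h3 : IsIso (((DCoh.pushEtKh X f).totalRightDerivedUnit DerivedCategory.Qh
      (HomotopyCategory.quasiIso (EtCoh.Ab X) (ComplexShape.up ℤ))).app
        ((Groth.Agent.H5.KInjDeriv.Φ (EtCoh.Ab X)).functor.obj I)) :=
    Groth.Agent.H33.DerComp.isIso_RFunit_app hKX (DCoh.pushEtKh X f) I
  infer_instance

end Groth.Agent.S4329
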