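import Groth.Statements.S4337
import Groth.Agent.H22.LinTop
import Mathlib.RingTheory.Nakayama
import Mathlib.LinearAlgebra.TensorProduct.Quotient
import Mathlib.LinearAlgebra.TensorProduct.RightExactness

set_option autoImplicit false
universe u
open LinTop

namespace Groth.Agent.S4337

/-- Let A be an admissible ring, J an ideal of definition, and u : M -> N a homomorphism of A-modules
with N of finite type. Then u is surjective if and only if u tensored with A/J is surjective. -/
theorem result
    (A : Type u) [CommRing A] [UniformSpace A] [IsUniformAddGroup A] [IsTopologicalRing A]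
    (hA : LinTop.IsAdmissible A) (J : Ideal A) (hJ : LinTop.IsIdealOfDefinition A J)
    (M N : Type u) [AddCommGroup M] [Module A M] [AddCommGroup N] [Module A N] [Module.Finite A N]
    (u : M →ₗ[A] N) :
    Function.Surjective u ↔ Function.Surjective (u.rTensor (A ⧸ J)) := by
  refine ⟨fun h => LinearMap.rTensor_surjective _ h, fun h => ?_⟩
  have hjac := Groth.Agent.H22.idealOfDefinition_le_jacobson A hA J hJ
  apply LinearMap.surjective_of_surjective_comp_mkQ u J hjac
  have key : (J • (⊤ : Submodule A N)).mkQ ∘ₗ u =
      ((TensorProduct.tensorQuotEquivQuotSMul N J).toLinearMap ∘ₗ (u.rTensor (A ⧸ J))) ∘ₗ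
        ((TensorProduct.tensorQuotEquivQuotSMul M J).symm.toLinearMap ∘ₗ
          (J • (⊤ : Submodule A M)).mkQ) := by
    ext m
    simp only [LinearMap.coe_comp, Function.comp_apply, Submodule.mkQ_apply,
      LinearEquiv.coe_coe, TensorProduct.tensorQuotEquivQuotSMul_symm_mk,
      LinearMap.rTensor_tmul]
    rw [← map_one (Ideal.Quotient.mk J), TensorProduct.tensorQuotEquivQuotSMul_tmul_mk, one_smul]
  rw [key]
  simp only [LinearMap.coe_comp, LinearEquiv.coe_coe]
  exact ((TensorProduct.tensorQuotEquivQuotSMul N J).surjective.comp h).comp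
    ((TensorProduct.tensorQuotEquivQuotSMul M J).symm.surjective.comp (Submodule.mkQ_surjective _))

end Groth.Agent.S4337
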