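import Groth.Statements.S4345
import Groth.Agent.H22.LocalSub

set_option autoImplicit false
universe u
open SchLoc

namespace Groth.Agent.S4345

/-- Let A and B be subrings of a field R, C the subring generated by A and B, and for a subring E let
L(E) be the set of local subrings E_p of R, p a prime ideal of E. The following are equivalent: (i)
for every local subring Q of R containing A and B, the localizations of A and of B at the traces of
the maximal ideal of Q coincide; (ii) for every prime ideal r of C the localizations of A and B at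
the traces of r coincide; (iii) two members of L(A) and L(B) dominated by a common local subring of
R are equal; (iv) the intersection of L(A) and L(B) is L(C). -/
theorem result
    (R : Type u) [Field R] (A B : Subring R) :
    [ ∀ (Q : LocalSubring R) (hA : A ≤ Q.toSubring) (hB : B ≤ Q.toSubring),
        LocalSubring.ofPrime A ((IsLocalRing.maximalIdeal Q.toSubring).comap (Subring.inclusion hA)) =
          LocalSubring.ofPrime B ((IsLocalRing.maximalIdeal Q.toSubring).comap (Subring.inclusion hB)),
      ∀ r : PrimeSpectrum ↥(A ⊔ B),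
        LocalSubring.ofPrime A (r.asIdeal.comap (Subring.inclusion (le_sup_left : A ≤ A ⊔ B))) =
          LocalSubring.ofPrime B (r.asIdeal.comap (Subring.inclusion (le_sup_right : B ≤ A ⊔ B))),
      ∀ (p : PrimeSpectrum A) (q : PrimeSpectrum B),
        (∃ Q : LocalSubring R, LocalSubring.ofPrime A p.asIdeal ≤ Q ∧ LocalSubring.ofPrime B q.asIdeal ≤ Q) →
          LocalSubring.ofPrime A p.asIdeal = LocalSubring.ofPrime B q.asIdeal,
      Set.range (fun p : PrimeSpectrum A ↦ LocalSubring.ofPrime A p.asIdeal) ∩
          Set.range (fun q : PrimeSpectrum B ↦ LocalSubring.ofPrime B q.asIdeal) =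
        Set.range (fun r : PrimeSpectrum ↥(A ⊔ B) ↦ LocalSubring.ofPrime (A ⊔ B) r.asIdeal) ].TFAE := by
  classical
  have hAC : A ≤ A ⊔ B := le_sup_left
  have hBC : B ≤ A ⊔ B := le_sup_right
  -- traces are transitive
  have trace_trans : ∀ (Q : LocalSubring R) {E F : Subring R} (hEF : E ≤ F) (hF : F ≤ Q.toSubring),
      (Groth.Agent.H22.trace Q hF).comap (Subring.inclusion hEF) =
        Groth.Agent.H22.trace Q (hEF.trans hF) := by
    intro Q E F hEF hF
    unfold Groth.Agent.H22.trace
    rw [Ideal.comap_comap]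
    rfl
  -- key claim: under (ii), `C_r = A_{r ∩ A}`
  have claim : (∀ r : PrimeSpectrum ↥(A ⊔ B),
        LocalSubring.ofPrime A (r.asIdeal.comap (Subring.inclusion hAC)) =
          LocalSubring.ofPrime B (r.asIdeal.comap (Subring.inclusion hBC))) →
      ∀ r : PrimeSpectrum ↥(A ⊔ B),
        LocalSubring.ofPrime (A ⊔ B) r.asIdeal =
          LocalSubring.ofPrime A (r.asIdeal.comap (Subring.inclusion hAC)) := by
    intro h2 r
    set Cr := LocalSubring.ofPrime (A ⊔ B) r.asIdeal with hCr
    have hCle : A ⊔ B ≤ Cr.toSubring := LocalSubring.le_ofPrime _ _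
    have htr : Groth.Agent.H22.trace Cr hCle = r.asIdeal := Groth.Agent.H22.trace_ofPrime _ _
    have htrA : Groth.Agent.H22.trace Cr (hAC.trans hCle) = r.asIdeal.comap (Subring.inclusion hAC) := by
      rw [← trace_trans Cr hAC hCle, htr]
    have htrB : Groth.Agent.H22.trace Cr (hBC.trans hCle) = r.asIdeal.comap (Subring.inclusion hBC) := by
      rw [← trace_trans Cr hBC hCle, htr]
    set D := LocalSubring.ofPrime A (r.asIdeal.comap (Subring.inclusion hAC)) with hD
    have hDle : D ≤ Cr := by
      have := Groth.Agent.H22.ofPrime_trace_le Cr (hAC.trans hCle)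
      rwa [Groth.Agent.H22.ofPrime_congr A _ _ htrA] at this
    have hAD : A ≤ D.toSubring := LocalSubring.le_ofPrime _ _
    have hBD : B ≤ D.toSubring := by
      rw [hD, h2 r]
      exact LocalSubring.le_ofPrime _ _
    have hCD : A ⊔ B ≤ D.toSubring := sup_le hAD hBD
    apply LocalSubring.toSubring_injective
    apply le_antisymm _ hDle.1
    intro x hx
    obtain ⟨c, s, hs, rfl⟩ := (Groth.Agent.H22.mem_ofPrime_iff _ _ x).mp hx
    refine D.toSubring.mul_mem (hCD c.2) ?_
    -- `s` is a unit of `D`
    by_contra hsD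
    apply hs
    have h1 : s ∈ Groth.Agent.H22.trace D hCD := by
      rw [Groth.Agent.H22.mem_trace_iff]
      exact Or.inr hsD
    have h2' : Groth.Agent.H22.trace D hCD = Groth.Agent.H22.trace Cr hCle := by
      ext t
      rw [Groth.Agent.H22.mem_trace_iff, Groth.Agent.H22.mem_trace_iff]
      obtain ⟨hDC, hloc⟩ := hDle
      constructor
      · rintro (h | h)
        · exact Or.inl h
        · by_cases ht0 : (t : R) = 0
          · exact Or.inl ht0
          · right
            intro hinv
            -- `t` would be a unit of `Cr`, hence of `D` by locality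
            apply h
            have hu : IsUnit (Subring.inclusion hDC ⟨(t : R), hCD t.2⟩) := by
              rw [Groth.Agent.H22.isUnit_subring_iff]
              exact ⟨ht0, hinv⟩
            have hu' := hloc.map_nonunit _ hu
            rw [Groth.Agent.H22.isUnit_subring_iff] at hu'
            exact hu'.2
      · rintro (h | h)
        · exact Or.inl h
        · exact Or.inr fun hinv => h (hDC hinv)
    rw [h2', htr] at h1
    exact h1
  tfae_have 1 → 2 := by
    intro h1 r
    set Cr := LocalSubring.ofPrime (A ⊔ B) r.asIdeal with hCr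
    have hCle : A ⊔ B ≤ Cr.toSubring := LocalSubring.le_ofPrime _ _
    have htr : Groth.Agent.H22.trace Cr hCle = r.asIdeal := Groth.Agent.H22.trace_ofPrime _ _
    have := h1 Cr (hAC.trans hCle) (hBC.trans hCle)
    have e1 : (IsLocalRing.maximalIdeal Cr.toSubring).comap (Subring.inclusion (hAC.trans hCle)) =
        r.asIdeal.comap (Subring.inclusion hAC) := by
      change Groth.Agent.H22.trace Cr (hAC.trans hCle) = _
      rw [← trace_trans Cr hAC hCle, htr]
    have e2 : (IsLocalRing.maximalIdeal Cr.toSubring).comap (Subring.inclusion (hBC.trans hCle)) =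
        r.asIdeal.comap (Subring.inclusion hBC) := by
      change Groth.Agent.H22.trace Cr (hBC.trans hCle) = _
      rw [← trace_trans Cr hBC hCle, htr]
    rw [← Groth.Agent.H22.ofPrime_congr A _ _ e1, ← Groth.Agent.H22.ofPrime_congr B _ _ e2]
    exact this
  tfae_have 2 → 1 := by
    intro h2 Q hA hB
    have hC : A ⊔ B ≤ Q.toSubring := sup_le hA hB
    let r : PrimeSpectrum ↥(A ⊔ B) := ⟨Groth.Agent.H22.trace Q hC, inferInstance⟩
    have := h2 r
    have e1 : r.asIdeal.comap (Subring.inclusion hAC) =
        (IsLocalRing.maximalIdeal Q.toSubring).comap (Subring.inclusion hA) :=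
      trace_trans Q hAC hC
    have e2 : r.asIdeal.comap (Subring.inclusion hBC) =
        (IsLocalRing.maximalIdeal Q.toSubring).comap (Subring.inclusion hB) :=
      trace_trans Q hBC hC
    rw [← Groth.Agent.H22.ofPrime_congr A _ _ e1, ← Groth.Agent.H22.ofPrime_congr B _ _ e2]
    exact this
  tfae_have 1 → 3 := by
    rintro h1 p q ⟨Q, hpQ, hqQ⟩
    have hA : A ≤ Q.toSubring := (LocalSubring.le_ofPrime A p.asIdeal).trans hpQ.1
    have hB : B ≤ Q.toSubring := (LocalSubring.le_ofPrime B q.asIdeal).trans hqQ.1
    have e1 := Groth.Agent.H22.trace_eq_of_ofPrime_le A p.asIdeal Q hpQ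
    have e2 := Groth.Agent.H22.trace_eq_of_ofPrime_le B q.asIdeal Q hqQ
    have := h1 Q hA hB
    rw [← Groth.Agent.H22.ofPrime_congr A _ _ e1, ← Groth.Agent.H22.ofPrime_congr B _ _ e2]
    exact this
  tfae_have 3 → 1 := by
    intro h3 Q hA hB
    let p : PrimeSpectrum A := ⟨Groth.Agent.H22.trace Q hA, inferInstance⟩
    let q : PrimeSpectrum B := ⟨Groth.Agent.H22.trace Q hB, inferInstance⟩
    exact h3 p q ⟨Q, Groth.Agent.H22.ofPrime_trace_le Q hA, Groth.Agent.H22.ofPrime_trace_le Q hB⟩
  tfae_have 2 → 4 := by
    intro h2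
    have hcl := claim h2
    ext E
    constructor
    · rintro ⟨⟨p, rfl⟩, ⟨q, hq⟩⟩
      -- E = A_p = B_q
      set E := LocalSubring.ofPrime A p.asIdeal with hE
      have hAE : A ≤ E.toSubring := LocalSubring.le_ofPrime _ _
      have hBE : B ≤ E.toSubring := by
        have : LocalSubring.ofPrime B q.asIdeal = E := hq
        rw [← this]
        exact LocalSubring.le_ofPrime _ _
      have hCE : A ⊔ B ≤ E.toSubring := sup_le hAE hBE
      let r : PrimeSpectrum ↥(A ⊔ B) := ⟨Groth.Agent.H22.trace E hCE, inferInstance⟩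
      refine ⟨r, ?_⟩
      change LocalSubring.ofPrime (A ⊔ B) r.asIdeal = E
      rw [hcl r]
      have e1 : r.asIdeal.comap (Subring.inclusion hAC) = p.asIdeal := by
        have := trace_trans E hAC hCE
        rw [this]
        exact Groth.Agent.H22.trace_ofPrime A p.asIdeal
      exact Groth.Agent.H22.ofPrime_congr A _ _ e1
    · rintro ⟨r, rfl⟩
      refine ⟨⟨⟨r.asIdeal.comap (Subring.inclusion hAC), inferInstance⟩, (hcl r).symm⟩,
        ⟨⟨r.asIdeal.comap (Subring.inclusion hBC), inferInstance⟩, ?_⟩⟩
      change LocalSubring.ofPrime B (r.asIdeal.comap (Subring.inclusion hBC)) =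
        LocalSubring.ofPrime (A ⊔ B) r.asIdeal
      rw [hcl r, h2 r]
  tfae_have 4 → 1 := by
    intro h4 Q hA hB
    have hC : A ⊔ B ≤ Q.toSubring := sup_le hA hB
    let r : PrimeSpectrum ↥(A ⊔ B) := ⟨Groth.Agent.H22.trace Q hC, inferInstance⟩
    set Cr := LocalSubring.ofPrime (A ⊔ B) r.asIdeal with hCr
    have hCle : A ⊔ B ≤ Cr.toSubring := LocalSubring.le_ofPrime _ _
    have htr : Groth.Agent.H22.trace Cr hCle = r.asIdeal := Groth.Agent.H22.trace_ofPrime _ _
    have hmem : Cr ∈ Set.range (fun r : PrimeSpectrum ↥(A ⊔ B) ↦ LocalSubring.ofPrime (A ⊔ B) r.asIdeal) :=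
      ⟨r, rfl⟩
    rw [← h4] at hmem
    obtain ⟨⟨p, hp⟩, ⟨q, hq⟩⟩ := hmem
    have hp' : LocalSubring.ofPrime A p.asIdeal = Cr := hp
    have hq' : LocalSubring.ofPrime B q.asIdeal = Cr := hq
    -- identify p and q with the traces
    have ep : p.asIdeal = (IsLocalRing.maximalIdeal Q.toSubring).comap (Subring.inclusion hA) := by
      have h1 := Groth.Agent.H22.trace_eq_of_ofPrime_le A p.asIdeal Cr (le_of_eq hp')
      have h2 : Groth.Agent.H22.trace Cr (hAC.trans hCle) = r.asIdeal.comap (Subring.inclusion hAC) := by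
        rw [← trace_trans Cr hAC hCle, htr]
      have h3 : r.asIdeal.comap (Subring.inclusion hAC) = Groth.Agent.H22.trace Q hA := trace_trans Q hAC hC
      rw [← h1]
      exact h2.trans h3
    have eq' : q.asIdeal = (IsLocalRing.maximalIdeal Q.toSubring).comap (Subring.inclusion hB) := by
      have h1 := Groth.Agent.H22.trace_eq_of_ofPrime_le B q.asIdeal Cr (le_of_eq hq')
      have h2 : Groth.Agent.H22.trace Cr (hBC.trans hCle) = r.asIdeal.comap (Subring.inclusion hBC) := by
        rw [← trace_trans Cr hBC hCle, htr]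
      have h3 : r.asIdeal.comap (Subring.inclusion hBC) = Groth.Agent.H22.trace Q hB := trace_trans Q hBC hC
      rw [← h1]
      exact h2.trans h3
    rw [← Groth.Agent.H22.ofPrime_congr A _ _ ep, ← Groth.Agent.H22.ofPrime_congr B _ _ eq', hp', hq']
  tfae_finish


end Groth.Agent.S4345
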