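import Groth.Statements.S4346
import Mathlib.AlgebraicGeometry.Stalk

set_option autoImplicit false
universe u
open SchLoc

namespace Groth.Agent.S4346

open AlgebraicGeometry in
/-- On an integral separated scheme distinct points have distinct local rings inside the function field. -/
theorem result (X : Scheme.{u}) [IsIntegral X] [X.IsSeparated] :
    Function.Injective (fun x : X ↦ (algebraMap (X.presheaf.stalk x) X.functionField).range) := by
  open CategoryTheory in
  intro x y hxy
  replace hxy : (algebraMap (X.presheaf.stalk x) X.functionField).range =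
    (algebraMap (X.presheaf.stalk y) X.functionField).range := hxy
  set ix := algebraMap (X.presheaf.stalk x) X.functionField with hix
  set iy := algebraMap (X.presheaf.stalk y) X.functionField with hiy
  have hix_inj : Function.Injective ix := IsFractionRing.injective _ _
  have hiy_inj : Function.Injective iy := IsFractionRing.injective _ _
  let ex : X.presheaf.stalk x ≃+* ix.range := RingEquiv.ofBijective ix.rangeRestrict
    ⟨fun a b hab => hix_inj (congrArg Subtype.val hab), ix.rangeRestrict_surjective⟩
  let ey : X.presheaf.stalk y ≃+* iy.range := RingEquiv.ofBijective iy.rangeRestrict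
    ⟨fun a b hab => hiy_inj (congrArg Subtype.val hab), iy.rangeRestrict_surjective⟩
  let ψ : X.presheaf.stalk y ≃+* X.presheaf.stalk x :=
    (ey.trans (RingEquiv.subringCongr hxy.symm)).trans ex.symm
  have hψ : ∀ b, ix (ψ b) = iy b := by
    intro b
    have h1 : ex (ψ b) = (RingEquiv.subringCongr hxy.symm) (ey b) := by
      simp [ψ]
    have h2 := congrArg Subtype.val h1
    exact h2
  have hψ' : ix.comp ψ.toRingHom = iy := RingHom.ext hψ
  let α : Spec (X.presheaf.stalk x) ⟶ X := X.fromSpecStalk x
  let β : Spec (X.presheaf.stalk x) ⟶ X :=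
    Spec.map (CommRingCat.ofHom ψ.toRingHom) ≫ X.fromSpecStalk y
  let ι : Spec X.functionField ⟶ Spec (X.presheaf.stalk x) := Spec.map (CommRingCat.ofHom ix)
  have hι : IsDominant ι := by
    constructor
    show DenseRange (PrimeSpectrum.comap ix)
    rw [PrimeSpectrum.denseRange_comap_iff_ker_le_nilRadical,
      (RingHom.injective_iff_ker_eq_bot ix).mp hix_inj]
    exact bot_le
  have hgx : (genericPoint X) ⤳ x := (genericPoint_spec X).specializes trivial
  have hgy : (genericPoint X) ⤳ y := (genericPoint_spec X).specializes trivial
  have hix' : CommRingCat.ofHom ix = X.presheaf.stalkSpecializes hgx := rfl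
  have hiy' : CommRingCat.ofHom iy = X.presheaf.stalkSpecializes hgy := rfl
  have h1 : ι ≫ α = X.fromSpecStalk (genericPoint X) := by
    show Spec.map (CommRingCat.ofHom ix) ≫ X.fromSpecStalk x = _
    rw [hix', Scheme.SpecMap_stalkSpecializes_fromSpecStalk]
  have h2 : ι ≫ β = X.fromSpecStalk (genericPoint X) := by
    show Spec.map (CommRingCat.ofHom ix) ≫ Spec.map (CommRingCat.ofHom ψ.toRingHom) ≫
      X.fromSpecStalk y = _
    rw [← Spec.map_comp_assoc, ← CommRingCat.ofHom_comp, hψ', hiy',
      Scheme.SpecMap_stalkSpecializes_fromSpecStalk]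
  have hαβ : α = β := ext_of_isDominant ι (h1.trans h2.symm)
  have h3 : α (IsLocalRing.closedPoint _) = x := Scheme.fromSpecStalk_closedPoint
  have h4 : β (IsLocalRing.closedPoint _) = y := by
    show (X.fromSpecStalk y) ((Spec.map (CommRingCat.ofHom ψ.toRingHom)) (IsLocalRing.closedPoint _)) = y
    have : (Spec.map (CommRingCat.ofHom ψ.toRingHom)) (IsLocalRing.closedPoint _) =
        IsLocalRing.closedPoint _ := by
      have : IsLocalHom ψ.toRingHom :=
        ⟨fun a ha => by simpa using ha⟩
      exact IsLocalRing.comap_closedPoint ψ.toRingHom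
    rw [this, Scheme.fromSpecStalk_closedPoint]
  rw [← h3, ← h4, hαβ]

end Groth.Agent.S4346
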