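import Groth.Statements.S4349
import Mathlib.CategoryTheory.Limits.ConcreteCategory.Basic
import Mathlib.Algebra.Category.Ring.FilteredColimits
import Mathlib.CategoryTheory.Filtered.Basic

set_option autoImplicit false
universe u
open RatFun

namespace Groth.Agent.S4349

open AlgebraicGeometry in
/-- Second assertion (in the form: sections over a dense open inject into the ring of rational
functions). Let X be a reduced scheme and V a dense open subset of X. The canonical map from the
sections of O_X over V to the ring R(X) of rational functions on X is injective. (The published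
statement also assumes X locally integral or locally Noetherian; that hypothesis serves the
quasi-coherence of the sheaf of rational functions and is not needed here.) -/
theorem result (X : Scheme.{u}) [IsReduced X]
    (V : X.Opens) (hV : Dense (V : Set X)) :
    Function.Injective (RatFun.toRing X V hV) := by
  open CategoryTheory CategoryTheory.Limits in
  have hcof : IsCofiltered ((RatFun.IsDenseOpen X).FullSubcategory) :=
    { cone_objs := fun U W => ⟨⟨U.obj ⊓ W.obj, U.property.inter_of_isOpen_left W.property U.obj.2⟩,
        ObjectProperty.homMk (homOfLE inf_le_left), ObjectProperty.homMk (homOfLE inf_le_right),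
        trivial⟩
      cone_maps := fun U W f g => ⟨U, 𝟙 U, by
        apply ObjectProperty.hom_ext
        apply Subsingleton.elim⟩
      nonempty := ⟨⟨⊤, by simp [RatFun.IsDenseOpen]⟩⟩ }
  rw [injective_iff_map_eq_zero]
  intro s hs
  have h0 : (RatFun.toRing X V hV) s = (RatFun.toRing X V hV) 0 := by rw [hs, map_zero]
  obtain ⟨k, f, g, hfg⟩ := (Concrete.colimit_rep_eq_iff_exists (RatFun.sectionsOnDense X)
    (i := Opposite.op ⟨V, hV⟩) (j := Opposite.op ⟨V, hV⟩) s 0).mp h0
  rw [map_zero] at hfg
  -- `s` restricts to zero on the dense open `k.unop.obj ≤ V`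
  have hle : k.unop.obj ≤ V := leOfHom f.unop.hom
  have hs0 : X.presheaf.map (homOfLE hle).op s = 0 := hfg
  rw [← basicOpen_eq_bot_iff, eq_bot_iff]
  intro x hx
  have hopen : IsOpen ((X.basicOpen s : X.Opens) : Set X) := (X.basicOpen s).2
  obtain ⟨y, hy1, hy2⟩ := k.unop.property.inter_open_nonempty _ hopen ⟨x, hx⟩
  have : y ∈ X.basicOpen (X.presheaf.map (homOfLE hle).op s) := by
    rw [Scheme.basicOpen_res]
    exact ⟨hy2, hy1⟩
  rw [hs0, Scheme.basicOpen_zero] at this
  exact this

end Groth.Agent.S4349
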