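import Groth.Statements.S4362
import Mathlib.Data.DFinsupp.WellFounded

set_option autoImplicit false
universe u
open FinCond

namespace Groth.Agent.S4362

open AlgebraicGeometry in
open CategoryTheory in
/-- If X is a Noetherian scheme, every increasing sequence of quasi-coherent sheaves of ideals of the
structure sheaf is eventually constant; equivalently the ordered set of quasi-coherent ideal sheaves
of X is well-founded for the reverse order. (On a locally Noetherian scheme quasi-coherent and
coherent ideal sheaves coincide.) -/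
theorem result
    (X : Scheme.{u}) [IsNoetherian X] : WellFoundedGT X.IdealSheafData := by
  have hex : ∀ x : X, ∃ U : X.affineOpens, x ∈ U.1 := by
    intro x
    obtain ⟨_, ⟨U : X.Opens, hU, rfl⟩, hxU, -⟩ :=
      X.isBasis_affineOpens.exists_subset_of_mem_open (Set.mem_univ x) isOpen_univ
    exact ⟨⟨U, hU⟩, hxU⟩
  choose U hxU using hex
  obtain ⟨t, ht⟩ := isCompact_univ.elim_finite_subcover (fun x : X => ((U x).1 : Set X))
    (fun x => (U x).1.isOpen) (fun x _ => Set.mem_iUnion.mpr ⟨x, hxU x⟩)
  have hcov : ⨆ i : t, (U i.1).1 = ⊤ := by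
    rw [eq_top_iff]
    intro x _
    obtain ⟨y, hy, hxy⟩ := Set.mem_iUnion₂.mp (ht (Set.mem_univ x))
    exact TopologicalSpace.Opens.mem_iSup.mpr ⟨⟨y, hy⟩, hxy⟩
  let F : X.IdealSheafData → (∀ i : t, Ideal Γ(X, (U i.1).1)) := fun I i => I.ideal (U i.1)
  have hF : StrictMono F := by
    intro I J hIJ
    refine lt_of_le_of_ne (fun i => hIJ.le (U i.1)) (fun h => hIJ.ne ?_)
    exact Scheme.IdealSheafData.ext_of_iSup_eq_top (fun i : t => U i.1) hcov
      (fun i => congrFun h i)
  have hwf : WellFoundedGT (∀ i : t, Ideal Γ(X, (U i.1).1)) := by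
    have : ∀ i : t, WellFoundedGT (Ideal Γ(X, (U i.1).1)) := fun i => by
      have : IsNoetherianRing Γ(X, (U i.1).1) := IsLocallyNoetherian.component_noetherian (U i.1)
      infer_instance
    have : WellFoundedLT (∀ i : t, (Ideal Γ(X, (U i.1).1))ᵒᵈ) := Pi.wellFoundedLT
    exact ⟨this.wf⟩
  exact hF.wellFoundedGT

end Groth.Agent.S4362
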