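import Groth.Statements.S4369
-- import your own Groth.Agent.* helpers here

set_option autoImplicit false
universe u
open AffSch

namespace Groth.Agent.S4369

/-- Let φ : A' -> A be a ring homomorphism such that every f in A can be written f = h φ(f') with h
invertible in A (this holds in particular when φ is surjective). Then the associated continuous map
Spec A -> Spec A' is a homeomorphism onto its image. -/
theorem result
    {A' A : Type u} [CommRing A'] [CommRing A] (φ : A' →+* A)
    (h : ∀ f : A, ∃ (u : Aˣ) (f' : A'), f = (u : A) * φ f') :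
    Topology.IsEmbedding (PrimeSpectrum.comap φ) := by
  have key : ∀ (p : PrimeSpectrum A) (f : A) (u : Aˣ) (f' : A'), f = (u : A) * φ f' →
      (f ∈ p.asIdeal ↔ f' ∈ (PrimeSpectrum.comap φ p).asIdeal) := by
    intro p f u f' hf
    rw [PrimeSpectrum.comap_asIdeal, Ideal.mem_comap, hf]
    exact ⟨fun h => (p.2.mem_or_mem h).resolve_left
      (fun hu => p.2.ne_top (Ideal.eq_top_of_isUnit_mem _ hu u.isUnit)),
      fun h => Ideal.mul_mem_left _ _ h⟩
  refine ⟨⟨TopologicalSpace.ext_isClosed fun Z => ?_⟩, ?_⟩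
  · simp_rw [isClosed_induced_iff, PrimeSpectrum.isClosed_iff_zeroLocus,
      @eq_comm _ _ (PrimeSpectrum.zeroLocus _), exists_exists_eq_and,
      PrimeSpectrum.preimage_comap_zeroLocus]
    constructor
    · rintro ⟨s, rfl⟩
      refine ⟨{f' | ∃ f ∈ s, ∃ u : Aˣ, f = (u : A) * φ f'}, ?_⟩
      ext p
      rw [PrimeSpectrum.mem_zeroLocus, PrimeSpectrum.mem_zeroLocus]
      refine Iff.symm ⟨?_, ?_⟩
      · rintro hp _ ⟨f', ⟨f, hf, u, hfu⟩, rfl⟩
        exact (key p f u f' hfu).mp (hp hf)
      · intro hp f hf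
        obtain ⟨u, f', hfu⟩ := h f
        rw [SetLike.mem_coe, key p f u f' hfu]
        exact hp ⟨f', ⟨f, hf, u, hfu⟩, rfl⟩
    · rintro ⟨s, rfl⟩
      exact ⟨_, rfl⟩
  · intro p q hpq
    ext f
    obtain ⟨u, f', hfu⟩ := h f
    rw [key p f u f' hfu, key q f u f' hfu, hpq]

end Groth.Agent.S4369
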