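import Groth.Statements.S4370
import Groth.Agent.H22.RedSub
import Mathlib.AlgebraicGeometry.Morphisms.UnderlyingMap

set_option autoImplicit false
universe u
open RedSep

namespace Groth.Agent.S4370

open AlgebraicGeometry in
open CategoryTheory in
/-- Let f : X -> Y be an open immersion and let g : X_red -> Y_red be the morphism of reduced schemes
induced by f, i.e. the morphism between the closed subschemes defined by the nilradicals whose
composite with the inclusion of Y_red in Y is the inclusion of X_red in X followed by f. Then g is
an open immersion. -/
theorem result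
    {X Y : Scheme.{u}} (f : X ⟶ Y) [IsOpenImmersion f]
    (g : X.nilradical.subscheme ⟶ Y.nilradical.subscheme)
    (hg : g ≫ Y.nilradical.subschemeι = X.nilradical.subschemeι ≫ f) :
    IsOpenImmersion g := by
  open Groth.Agent.H22 in
  let P := Limits.pullback f Y.nilradical.subschemeι
  have hP : IsReduced P := isReduced_of_isOpenImmersion (Limits.pullback.snd f Y.nilradical.subschemeι)
  let φ : X.nilradical.subscheme ⟶ P := Limits.pullback.lift X.nilradical.subschemeι g hg.symm
  have hφ : φ ≫ Limits.pullback.fst f Y.nilradical.subschemeι = X.nilradical.subschemeι :=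
    Limits.pullback.lift_fst _ _ _
  have hker : X.nilradical.subschemeι.ker = (Limits.pullback.fst f Y.nilradical.subschemeι).ker := by
    rw [ker_eq_nilradical_of_isReduced, ker_eq_nilradical_of_isReduced]
  have : IsIso φ := IsClosedImmersion.isIso_of_ker_eq X.nilradical.subschemeι
    (Limits.pullback.fst f Y.nilradical.subschemeι) φ hφ hker
  have hg' : g = φ ≫ Limits.pullback.snd f Y.nilradical.subschemeι :=
    (Limits.pullback.lift_snd _ _ _).symm
  rw [hg']
  infer_instance

end Groth.Agent.S4370
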