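import Groth.Statements.S4378
-- import your own Groth.Agent.* helpers here

set_option autoImplicit false
universe u
open CategoryTheory CategoryTheory.Limits AlgebraicGeometry
open EGA2

namespace Groth.Agent.S4378

/-- Let q : Y → S be separated and of finite type, and f : X → Y a morphism such that X is also
separated and of finite type over S through f ≫ q. Then f is proper if and only if for every scheme
S' over S the morphism X ×_S S' → Y ×_S S' induced by f is closed (as a map of topological spaces). -/
theorem result {X Y S : Scheme.{u}} (q : Y ⟶ S) (f : X ⟶ Y)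
    [IsSeparated q] [LocallyOfFiniteType q] [QuasiCompact q]
    [IsSeparated (f ≫ q)] [LocallyOfFiniteType (f ≫ q)] [QuasiCompact (f ≫ q)] :
    IsProper f ↔ ∀ (S' : Scheme.{u}) (g : S' ⟶ S),
      IsClosedMap (pullback.map (f ≫ q) g q g f (𝟙 S') (𝟙 S) (Category.comp_id (f ≫ q))
        ((Category.comp_id g).trans (Category.id_comp g).symm)).base := by
  constructor
  · intro hf S' g
    have h1 : IsProper (pullback.map (f ≫ q) g q g f (𝟙 S') (𝟙 S) (Category.comp_id (f ≫ q))
        ((Category.comp_id g).trans (Category.id_comp g).symm)) :=
      MorphismProperty.pullbackMap (P := @IsProper) (f := f ≫ q) (g := g) (f' := q) (g' := g)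
        (i₁ := f) (i₂ := 𝟙 S') hf inferInstance rfl (Category.id_comp g).symm
    exact (pullback.map (f ≫ q) g q g f (𝟙 S') (𝟙 S) (Category.comp_id (f ≫ q))
        ((Category.comp_id g).trans (Category.id_comp g).symm)).isClosedMap
  · intro H
    have hsep : IsSeparated f := IsSeparated.of_comp f q
    have hlft : LocallyOfFiniteType f := locallyOfFiniteType_of_comp f q
    have hqc : QuasiCompact f := QuasiCompact.of_comp f q
    have huc : UniversallyClosed f := by
      rw [universallyClosed_eq]
      intro X' Y' i₁ i₂ f' hP
      -- reduce to the canonical pullback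
      have hiso : f' = hP.flip.isoPullback.hom ≫ pullback.snd f i₂ := by
        rw [IsPullback.isoPullback_hom_snd]
      suffices hsnd : IsClosedMap (pullback.snd f i₂).base by
        rw [hiso]
        change IsClosedMap (hP.flip.isoPullback.hom ≫ pullback.snd f i₂).base
        rw [Scheme.Hom.comp_base, TopCat.coe_comp]
        exact hsnd.comp (Scheme.Hom.homeomorph hP.flip.isoPullback.hom).isClosedMap
      let g : Y' ⟶ S := i₂ ≫ q
      let m := pullback.map (f ≫ q) g q g f (𝟙 Y') (𝟙 S) (Category.comp_id (f ≫ q))
        ((Category.comp_id g).trans (Category.id_comp g).symm)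
      have hm : IsClosedMap m.base := H Y' g
      let j : pullback f i₂ ⟶ pullback (f ≫ q) g := pullback.mapDesc f i₂ q
      let Γ : Y' ⟶ pullback q g := pullback.lift i₂ (𝟙 Y') (by simp [g])
      have hΓ1 : Γ ≫ pullback.snd q g = 𝟙 Y' := pullback.lift_snd _ _ _
      have hΓ : IsClosedImmersion Γ := by
        have : IsClosedImmersion (Γ ≫ pullback.snd q g) := by rw [hΓ1]; infer_instance
        exact IsClosedImmersion.of_comp Γ (pullback.snd q g)
      have hcomm : j ≫ m = pullback.snd f i₂ ≫ Γ := by
        apply pullback.hom_ext
        · simp only [j, m, Γ, Category.assoc, pullback.lift_fst, pullback.lift_snd, pullback.mapDesc]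
          rw [pullback.lift_fst_assoc, Category.comp_id, pullback.condition]
        · simp only [j, m, Γ, Category.assoc, pullback.lift_fst, pullback.lift_snd, pullback.mapDesc]
          rw [pullback.lift_snd_assoc, Category.comp_id, Category.comp_id]
      have hjm : IsClosedMap (j ≫ m).base := by
        rw [Scheme.Hom.comp_base, TopCat.coe_comp]
        exact hm.comp j.isClosedEmbedding.isClosedMap
      rw [hcomm, Scheme.Hom.comp_base, TopCat.coe_comp] at hjm
      intro C hC
      have h1 := hjm C hC
      rw [Set.image_comp] at h1
      have h2 : (pullback.snd f i₂).base '' C = Γ.base ⁻¹' (Γ.base '' ((pullback.snd f i₂).base '' C)) :=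
        (Set.preimage_image_eq _ Γ.isClosedEmbedding.injective).symm
      rw [h2]
      exact h1.preimage Γ.continuous
    exact { }


end Groth.Agent.S4378
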