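import Groth.Statements.S4385
import Groth.Agent.H18.STL.Idempotent

set_option autoImplicit false
universe u
open CategoryTheory CategoryTheory.Limits AlgebraicGeometry
open EGA2

namespace Groth.Agent.S4385

/-- Let f : X → Y and f' : X' → Y be quasi-compact morphisms, X'' = X ⨿ X' their disjoint union with f''
: X'' → Y the morphism restricting to f and f', and L'' an O_{X''}-module whose inverse images L on
X and L' on X' (along the two coprojections) are invertible. Then L'' is ample relative to f'' if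
and only if L is ample relative to f and L' is ample relative to f'. -/
theorem result {X X' Y : Scheme.{u}} (f : X ⟶ Y) (f' : X' ⟶ Y) [QuasiCompact f] [QuasiCompact f']
    (L'' : (X ⨿ X').Modules)
    (hL : PicF.IsInvertible ((Scheme.Modules.pullback (coprod.inl : X ⟶ X ⨿ X')).obj L''))
    (hL' : PicF.IsInvertible ((Scheme.Modules.pullback (coprod.inr : X' ⟶ X ⨿ X')).obj L'')) :
    RelAmple.IsRelAmple (coprod.desc f f') L'' ↔
      RelAmple.IsRelAmple f ((Scheme.Modules.pullback (coprod.inl : X ⟶ X ⨿ X')).obj L'') ∧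
        RelAmple.IsRelAmple f' ((Scheme.Modules.pullback (coprod.inr : X' ⟶ X ⨿ X')).obj L'') := by
  have hF₁ : ∀ x : X, (coprod.desc f f') ((coprod.inl : X ⟶ X ⨿ X') x) = f x := by
    intro x
    rw [← Scheme.Hom.comp_apply, coprod.inl_desc]
  have hF₂ : ∀ x : X', (coprod.desc f f') ((coprod.inr : X' ⟶ X ⨿ X') x) = f' x := by
    intro x
    rw [← Scheme.Hom.comp_apply, coprod.inr_desc]
  have hcompl := isCompl_range_inl_inr X X'
  have hcases : ∀ t : ↥(X ⨿ X'), t ∈ Set.range (coprod.inl : X ⟶ X ⨿ X') ∨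
      t ∈ Set.range (coprod.inr : X' ⟶ X ⨿ X') := by
    intro t
    have h0 : Set.range (coprod.inl : X ⟶ X ⨿ X') ∪ Set.range (coprod.inr : X' ⟶ X ⨿ X') =
        Set.univ := hcompl.sup_eq_top
    have : t ∈ Set.range (coprod.inl : X ⟶ X ⨿ X') ∪ Set.range (coprod.inr : X' ⟶ X ⨿ X') := by
      rw [h0]; trivial
    exact this
  have hdisj : ∀ t : ↥(X ⨿ X'), t ∈ Set.range (coprod.inl : X ⟶ X ⨿ X') →
      t ∈ Set.range (coprod.inr : X' ⟶ X ⨿ X') → False := by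
    intro t h1 h2
    have : t ∈ Set.range (coprod.inl : X ⟶ X ⨿ X') ∩ Set.range (coprod.inr : X' ⟶ X ⨿ X') :=
      ⟨h1, h2⟩
    have h0 : Set.range (coprod.inl : X ⟶ X ⨿ X') ∩ Set.range (coprod.inr : X' ⟶ X ⨿ X') =
        ∅ := hcompl.inf_eq_bot
    rw [h0] at this
    exact this
  -- ranges
  have hr₁ : ∀ V : Y.Opens, Set.range ((f ⁻¹ᵁ V).ι ≫ (coprod.inl : X ⟶ X ⨿ X')) =
      {t | (coprod.desc f f') t ∈ V ∧ t ∈ Set.range (coprod.inl : X ⟶ X ⨿ X')} := by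
    intro V
    ext t
    constructor
    · rintro ⟨p, rfl⟩
      refine ⟨?_, ⟨(f ⁻¹ᵁ V).ι p, rfl⟩⟩
      change (coprod.desc f f') ((coprod.inl : X ⟶ X ⨿ X') ((f ⁻¹ᵁ V).ι p)) ∈ V
      rw [hF₁]
      exact p.2
    · rintro ⟨htV, ⟨x, rfl⟩⟩
      rw [hF₁] at htV
      exact ⟨⟨x, htV⟩, rfl⟩
  have hr₂ : ∀ V : Y.Opens, Set.range ((f' ⁻¹ᵁ V).ι ≫ (coprod.inr : X' ⟶ X ⨿ X')) =
      {t | (coprod.desc f f') t ∈ V ∧ t ∈ Set.range (coprod.inr : X' ⟶ X ⨿ X')} := by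
    intro V
    ext t
    constructor
    · rintro ⟨p, rfl⟩
      refine ⟨?_, ⟨(f' ⁻¹ᵁ V).ι p, rfl⟩⟩
      change (coprod.desc f f') ((coprod.inr : X' ⟶ X ⨿ X') ((f' ⁻¹ᵁ V).ι p)) ∈ V
      rw [hF₂]
      exact p.2
    · rintro ⟨htV, ⟨x, rfl⟩⟩
      rw [hF₂] at htV
      exact ⟨⟨x, htV⟩, rfl⟩
  constructor
  · rintro ⟨-, hA⟩
    refine ⟨⟨inferInstance, fun V => ?_⟩, ⟨inferInstance, fun V => ?_⟩⟩
    · have hcpt : CompactSpace ↥(f ⁻¹ᵁ V.1 : Scheme.{u}) :=
        isCompact_iff_compactSpace.1 (QuasiCompact.isCompact_preimage (f := f) _ V.1.isOpen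
          V.2.isCompact)
      refine (Groth.Agent.H18.STL.OI.isAmple_restrict_pullback_iff (L := L'')
        (coprod.inl : X ⟶ X ⨿ X') (f ⁻¹ᵁ V.1).ι ((f ⁻¹ᵁ V.1).ι ≫ coprod.inl) rfl).2 ?_
      refine Groth.Agent.H18.STL.OI.isAmple_restrict_of_range_le
        ((coprod.desc f f') ⁻¹ᵁ V.1).ι _ ?_ hcpt (hA V)
      rw [hr₁, Scheme.Opens.range_ι]
      exact fun t ht => ht.1
    · have hcpt : CompactSpace ↥(f' ⁻¹ᵁ V.1 : Scheme.{u}) :=
        isCompact_iff_compactSpace.1 (QuasiCompact.isCompact_preimage (f := f') _ V.1.isOpen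
          V.2.isCompact)
      refine (Groth.Agent.H18.STL.OI.isAmple_restrict_pullback_iff (L := L'')
        (coprod.inr : X' ⟶ X ⨿ X') (f' ⁻¹ᵁ V.1).ι ((f' ⁻¹ᵁ V.1).ι ≫ coprod.inr) rfl).2 ?_
      refine Groth.Agent.H18.STL.OI.isAmple_restrict_of_range_le
        ((coprod.desc f f') ⁻¹ᵁ V.1).ι _ ?_ hcpt (hA V)
      rw [hr₂, Scheme.Opens.range_ι]
      exact fun t ht => ht.1
  · rintro ⟨⟨-, h₁⟩, ⟨-, h₂⟩⟩
    have hqc : QuasiCompact (coprod.desc f f') := by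
      refine ⟨fun U hUo hUc => ?_⟩
      have h1 := (QuasiCompact.isCompact_preimage (f := f) U hUo hUc).image
        (coprod.inl : X ⟶ X ⨿ X').continuous
      have h2 := (QuasiCompact.isCompact_preimage (f := f') U hUo hUc).image
        (coprod.inr : X' ⟶ X ⨿ X').continuous
      have : (coprod.desc f f') ⁻¹' U =
          (coprod.inl : X ⟶ X ⨿ X') '' (f ⁻¹' U) ∪ (coprod.inr : X' ⟶ X ⨿ X') '' (f' ⁻¹' U) := by
        ext t
        constructor
        · intro ht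
          rcases hcases t with ⟨x, rfl⟩ | ⟨x, rfl⟩
          · left
            refine ⟨x, ?_, rfl⟩
            change (coprod.desc f f') _ ∈ U at ht
            rwa [hF₁] at ht
          · right
            refine ⟨x, ?_, rfl⟩
            change (coprod.desc f f') _ ∈ U at ht
            rwa [hF₂] at ht
        · rintro (⟨x, hx, rfl⟩ | ⟨x, hx, rfl⟩)
          · change (coprod.desc f f') _ ∈ U
            rw [hF₁]; exact hx
          · change (coprod.desc f f') _ ∈ U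
            rw [hF₂]; exact hx
      rw [this]
      exact h1.union h2
    refine ⟨hqc, fun V => ?_⟩
    have : CompactSpace ↥((coprod.desc f f') ⁻¹ᵁ V.1 : Scheme.{u}) :=
      isCompact_iff_compactSpace.1 (QuasiCompact.isCompact_preimage (f := coprod.desc f f') _
        V.1.isOpen V.2.isCompact)
    refine Groth.Agent.H18.STL.isAmple_of_disjoint_cover
      (((coprod.desc f f') ⁻¹ᵁ V.1).ι ⁻¹ᵁ (coprod.inl : X ⟶ X ⨿ X').opensRange)
      (((coprod.desc f f') ⁻¹ᵁ V.1).ι ⁻¹ᵁ (coprod.inr : X' ⟶ X ⨿ X').opensRange)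
      (fun p => hcases _) ?_ ?_ ?_
    · ext p
      simp only [TopologicalSpace.Opens.coe_inf, Set.mem_inter_iff, SetLike.mem_coe,
        TopologicalSpace.Opens.coe_bot, Set.mem_empty_iff_false, iff_false, not_and]
      exact fun h1 h2 => hdisj _ h1 h2
    · refine (Groth.Agent.H18.STL.OI.isAmple_restrict_restrict_iff (L := L'')
        ((coprod.desc f f') ⁻¹ᵁ V.1).ι (Scheme.Opens.ι _)
        ((f ⁻¹ᵁ V.1).ι ≫ (coprod.inl : X ⟶ X ⨿ X')) ?_).2
        ((Groth.Agent.H18.STL.OI.isAmple_restrict_pullback_iff (L := L'')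
          (coprod.inl : X ⟶ X ⨿ X') (f ⁻¹ᵁ V.1).ι ((f ⁻¹ᵁ V.1).ι ≫ coprod.inl) rfl).1 (h₁ V))
      rw [hr₁]
      ext t
      constructor
      · rintro ⟨htV, htr⟩
        exact ⟨⟨⟨t, htV⟩, htr⟩, rfl⟩
      · rintro ⟨q, rfl⟩
        exact ⟨q.1.2, q.2⟩
    · refine (Groth.Agent.H18.STL.OI.isAmple_restrict_restrict_iff (L := L'')
        ((coprod.desc f f') ⁻¹ᵁ V.1).ι (Scheme.Opens.ι _)
        ((f' ⁻¹ᵁ V.1).ι ≫ (coprod.inr : X' ⟶ X ⨿ X')) ?_).2
        ((Groth.Agent.H18.STL.OI.isAmple_restrict_pullback_iff (L := L'')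
          (coprod.inr : X' ⟶ X ⨿ X') (f' ⁻¹ᵁ V.1).ι ((f' ⁻¹ᵁ V.1).ι ≫ coprod.inr) rfl).1 (h₂ V))
      rw [hr₂]
      ext t
      constructor
      · rintro ⟨htV, htr⟩
        exact ⟨⟨⟨t, htV⟩, htr⟩, rfl⟩
      · rintro ⟨q, rfl⟩
        exact ⟨q.1.2, q.2⟩

end Groth.Agent.S4385
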