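import Groth.Statements.S4388
import Groth.Agent.H18.STL.CounitEpi
import Groth.Agent.H18.STL.AmpleTensor

set_option autoImplicit false
universe u
open CategoryTheory CategoryTheory.Limits AlgebraicGeometry
open EGA2

namespace Groth.Agent.S4388

/-- Let f : X → Y be a quasi-compact morphism, L an O_X-module ample relative to f and L' an invertible
O_X-module such that, for some n > 0, the canonical morphism f^*(f_*(L'^{⊗n})) → L'^{⊗n} (counit of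
the adjunction between f^* and f_*) is an epimorphism. Then L ⊗ L' is ample relative to f. -/
theorem result {X Y : Scheme.{u}} (f : X ⟶ Y) [QuasiCompact f] (L L' : X.Modules)
    (hL : RelAmple.IsRelAmple f L) (hL' : PicF.IsInvertible L') (n : ℕ) (hn : 0 < n)
    (hepi : Epi ((Scheme.Modules.pullbackPushforwardAdjunction f).counit.app (CohB1.tensorPow L' n))) :
    RelAmple.IsRelAmple f (CohB1.tensorMod L L') := by
  open Groth.Agent.H18 Groth.Agent.H18.PUP Groth.Agent.H18.STL in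
  obtain ⟨n', rfl⟩ : ∃ n', n = n' + 1 := ⟨n - 1, by omega⟩
  have hLinv := isInvertible_of_isRelAmple f hL
  have hM : PicF.IsInvertible (CohB1.tensorPow L' (n' + 1)) := isInvertible_tensorPow hL' _
  refine ⟨inferInstance, fun V => ?_⟩
  rw [isAmple_restrict_tensorMod_iff hLinv hL' (f ⁻¹ᵁ V.1)]
  have hA := hL.2 V
  haveI : CompactSpace ↥(f ⁻¹ᵁ V.1 : Scheme.{u}) := hA.2.1
  haveI : QuasiSeparatedSpace ↥(f ⁻¹ᵁ V.1 : Scheme.{u}) :=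
    quasiSeparatedSpace_of_cover hA.1 hA.2.2
  haveI : IsAffine (V.1 : Scheme.{u}) := V.2
  refine isAmple_tensorMod_of_generated hA
    (Groth.Agent.H67.ParaMono.isInvertible_restrict _ L' hL') (fun z => ?_)
  obtain ⟨V₀, hxV₀, τ, hτ⟩ := exists_isGenAt_of_epi_counit f hM hepi ((f ⁻¹ᵁ V.1).ι z)
  have hι : V.1.ι ((f ∣_ V.1) z) = f ((f ⁻¹ᵁ V.1).ι z) := by
    rw [← Scheme.Hom.comp_apply, morphismRestrict_ι]
    rfl
  obtain ⟨_, ⟨h', rfl⟩, hvh, hle⟩ := TopologicalSpace.Opens.isBasis_iff_nbhd.1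
    (isBasis_basicOpen (V.1 : Scheme.{u}))
    (show (f ∣_ V.1) z ∈ V.1.ι ⁻¹ᵁ V₀ from by
      change V.1.ι ((f ∣_ V.1) z) ∈ V₀
      rw [hι]; exact hxV₀)
  have hbo : (f ⁻¹ᵁ V.1 : Scheme.{u}).basicOpen ((f ∣_ V.1).appTop h') =
      (f ∣_ V.1) ⁻¹ᵁ ((V.1 : Scheme.{u}).basicOpen h') :=
    (Scheme.preimage_basicOpen_top _ _).symm
  have hz : z ∈ (f ⁻¹ᵁ V.1 : Scheme.{u}).basicOpen ((f ∣_ V.1).appTop h') := by
    rw [hbo]; exact hvh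
  have himg : (f ⁻¹ᵁ V.1).ι ''ᵁ ((f ⁻¹ᵁ V.1 : Scheme.{u}).basicOpen ((f ∣_ V.1).appTop h')) ≤
      f ⁻¹ᵁ V₀ := by
    rintro _ ⟨p, hp, rfl⟩
    rw [hbo] at hp
    have h2 : V.1.ι ((f ∣_ V.1) p) ∈ V₀ := hle hp
    have h3 : V.1.ι ((f ∣_ V.1) p) = f ((f ⁻¹ᵁ V.1).ι p) := by
      rw [← Scheme.Hom.comp_apply, morphismRestrict_ι]
      rfl
    rw [h3] at h2
    exact h2
  have hzimg : (f ⁻¹ᵁ V.1).ι z ∈
      (f ⁻¹ᵁ V.1).ι ''ᵁ ((f ⁻¹ᵁ V.1 : Scheme.{u}).basicOpen ((f ∣_ V.1).appTop h')) :=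
    ⟨z, hz, rfl⟩
  obtain ⟨b, hb⟩ := exists_mem_genLocus_of_isGenAt_basicOpen
    (Z := (f ⁻¹ᵁ V.1 : Scheme.{u})) (F := (CohB1.tensorPow L' (n' + 1)).restrict (f ⁻¹ᵁ V.1).ι)
    (Groth.Agent.H67.ParaMono.isInvertible_restrict _ _ hM) ((f ∣_ V.1).appTop h')
    (OI.toRestrict (f ⁻¹ᵁ V.1).ι _ _ (mres (CohB1.tensorPow L' (n' + 1)) himg τ)) z hz
    ((isGenAt_restrict_iff (f ⁻¹ᵁ V.1).ι _).2 ((isGenAt_mres_iff himg τ hzimg).2 hτ))
  obtain ⟨s', hs'⟩ := (exists_transfer_restrict_tensorPow hL' (f ⁻¹ᵁ V.1) (n' + 1)).1 b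
  exact ⟨n', s', hs' ▸ hb⟩

end Groth.Agent.S4388
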