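import Groth.Statements.S4395
import Groth.Agent.H22.GradedPrime

set_option autoImplicit false
universe u
open EGA2

namespace Groth.Agent.S4395

/-- Let S be a ring graded in nonnegative degrees, n₀ > 0 an integer and, for every n ≥ n₀, p_n an
additive subgroup of S_n. Then there is a graded prime ideal p of S not containing S_+ with p ∩ S_n
= p_n for all n ≥ n₀ if and only if: (1) S_m p_n ⊆ p_{m+n} for all m ≥ 0 and n ≥ n₀; (2) for m ≥ n₀,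
n ≥ n₀, f ∈ S_m, g ∈ S_n, fg ∈ p_{m+n} implies f ∈ p_m or g ∈ p_n; (3) p_n ≠ S_n for at least one n
≥ n₀. Moreover such a graded prime ideal is unique. -/
theorem result {R A : Type u} [CommRing R] [CommRing A] [Algebra R A] (𝒜 : ℕ → Submodule R A) [GradedAlgebra 𝒜]
    (n₀ : ℕ) (hn₀ : 0 < n₀) (p : ℕ → AddSubgroup A) (hp : ∀ n : ℕ, n₀ ≤ n → (p n : Set A) ⊆ 𝒜 n) :
    ((∃ 𝔭 : HomogeneousIdeal 𝒜, 𝔭.toIdeal.IsPrime ∧ ¬ HomogeneousIdeal.irrelevant 𝒜 ≤ 𝔭 ∧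
        ∀ n : ℕ, n₀ ≤ n → (𝔭.toIdeal : Set A) ∩ 𝒜 n = p n) ↔
      ((∀ m n : ℕ, n₀ ≤ n → ∀ a ∈ 𝒜 m, ∀ b ∈ p n, a * b ∈ p (m + n)) ∧
        (∀ m n : ℕ, n₀ ≤ m → n₀ ≤ n → ∀ f ∈ 𝒜 m, ∀ g ∈ 𝒜 n, f * g ∈ p (m + n) → f ∈ p m ∨ g ∈ p n) ∧
        ∃ n : ℕ, n₀ ≤ n ∧ (p n : Set A) ≠ 𝒜 n)) ∧
    ∀ 𝔭 𝔮 : HomogeneousIdeal 𝒜, 𝔭.toIdeal.IsPrime → 𝔮.toIdeal.IsPrime →
      ¬ HomogeneousIdeal.irrelevant 𝒜 ≤ 𝔭 → ¬ HomogeneousIdeal.irrelevant 𝒜 ≤ 𝔮 →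
      (∀ n : ℕ, n₀ ≤ n → (𝔭.toIdeal : Set A) ∩ 𝒜 n = p n) → (∀ n : ℕ, n₀ ≤ n → (𝔮.toIdeal : Set A) ∩ 𝒜 n = p n) →
      𝔭 = 𝔮 := by
  classical
  -- (L1) a homogeneous prime not containing the irrelevant ideal misses some `f ∈ 𝒜 d`, `d ≥ n₀`
  have L1 : ∀ 𝔭 : HomogeneousIdeal 𝒜, 𝔭.toIdeal.IsPrime → ¬ HomogeneousIdeal.irrelevant 𝒜 ≤ 𝔭 →
      ∃ d f, n₀ ≤ d ∧ f ∈ 𝒜 d ∧ f ∉ 𝔭.toIdeal := by
    intro 𝔭 h𝔭 hirr
    rw [HomogeneousIdeal.irrelevant_le] at hirr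
    push Not at hirr
    obtain ⟨i, hi, hle⟩ := hirr
    obtain ⟨s, hs, hs𝔭⟩ := SetLike.not_le_iff_exists.mp hle
    refine ⟨n₀ • i, s ^ n₀, ?_, SetLike.pow_mem_graded n₀ hs, fun h => hs𝔭 (h𝔭.mem_of_pow_mem _ h)⟩
    exact Nat.le_mul_of_pos_right n₀ hi
  refine ⟨⟨?_, ?_⟩, ?_⟩
  · -- (⇒)
    rintro ⟨𝔭, h𝔭, hirr, hpn⟩
    refine ⟨?_, ?_, ?_⟩
    · intro m n hn a ha b hb
      have hb' : b ∈ (𝔭.toIdeal : Set A) ∩ 𝒜 n := by rw [hpn n hn]; exact hb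
      have : a * b ∈ (𝔭.toIdeal : Set A) ∩ 𝒜 (m + n) :=
        ⟨𝔭.toIdeal.mul_mem_left a hb'.1, SetLike.mul_mem_graded ha hb'.2⟩
      rw [hpn (m + n) (by omega)] at this
      exact this
    · intro m n hm hn f hf g hg hfg
      have hfg' : f * g ∈ (𝔭.toIdeal : Set A) ∩ 𝒜 (m + n) := by rw [hpn (m + n) (by omega)]; exact hfg
      rcases h𝔭.mem_or_mem hfg'.1 with h | h
      · left
        have : f ∈ (𝔭.toIdeal : Set A) ∩ 𝒜 m := ⟨h, hf⟩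
        rw [hpn m hm] at this
        exact this
      · right
        have : g ∈ (𝔭.toIdeal : Set A) ∩ 𝒜 n := ⟨h, hg⟩
        rw [hpn n hn] at this
        exact this
    · obtain ⟨d, f, hd, hf, hf𝔭⟩ := L1 𝔭 h𝔭 hirr
      refine ⟨d, hd, fun h => hf𝔭 ?_⟩
      have : f ∈ (p d : Set A) := by rw [h]; exact hf
      rw [← hpn d hd] at this
      exact this.1
  · -- (⇐)
    rintro ⟨h1, h2, d, hd, hne⟩
    obtain ⟨f, hf, hfp⟩ : ∃ f ∈ 𝒜 d, f ∉ p d := by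
      by_contra hcon
      push Not at hcon
      exact hne (Set.Subset.antisymm (hp d hd) fun x hx => hcon x hx)
    have h1' : ∀ m n : ℕ, d ≤ n → ∀ a ∈ 𝒜 m, ∀ b ∈ p n, a * b ∈ p (m + n) :=
      fun m n hn => h1 m n (hd.trans hn)
    let I := Groth.Agent.H22.tailIdeal 𝒜 p d f hf h1'
    have hIhom : I.IsHomogeneous 𝒜 := Groth.Agent.H22.tailIdeal_isHomogeneous p d f hf h1'
    have hmem : ∀ {x : A} {m : ℕ}, x ∈ 𝒜 m → (x ∈ I ↔ f * x ∈ p (d + m)) :=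
      fun hx => Groth.Agent.H22.mem_tailIdeal_of_mem p d f hf h1' hx
    have hfI : f ∉ I := by
      rw [hmem hf]
      intro h
      rcases h2 d d hd hd f hf f hf h with h | h <;> exact hfp h
    have hIprime : I.IsPrime := by
      apply hIhom.isPrime_of_homogeneous_mem_or_mem
      · intro htop
        have h1I : (1 : A) ∈ I := htop ▸ Submodule.mem_top
        rw [hmem (SetLike.GradedOne.one_mem (A := 𝒜)), mul_one, add_zero] at h1I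
        exact hfp h1I
      · rintro x y ⟨m, hx⟩ ⟨n, hy⟩ hxy
        rw [hmem (SetLike.mul_mem_graded hx hy)] at hxy
        have h3 := h1 d (d + (m + n)) (by omega) f hf _ hxy
        have h4 : (f * x) * (f * y) ∈ p ((d + m) + (d + n)) := by
          rw [show (d + m) + (d + n) = d + (d + (m + n)) by omega,
            show (f * x) * (f * y) = f * (f * (x * y)) by ring]
          exact h3
        rcases h2 (d + m) (d + n) (by omega) (by omega) _ (SetLike.mul_mem_graded hf hx) _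
          (SetLike.mul_mem_graded hf hy) h4 with h | h
        · left; rwa [hmem hx]
        · right; rwa [hmem hy]
    refine ⟨⟨I, hIhom⟩, hIprime, ?_, ?_⟩
    · intro hle
      exact hfI (hle (HomogeneousIdeal.mem_irrelevant_of_mem 𝒜 (hn₀.trans_le hd) hf))
    · intro n hn
      ext x
      constructor
      · rintro ⟨hxI, hxn⟩
        have hxI' : x ∈ I := hxI
        rw [hmem hxn] at hxI'
        rcases h2 d n hd hn f hf x hxn hxI' with h | h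
        · exact absurd h hfp
        · exact h
      · intro hx
        have hxn : x ∈ 𝒜 n := hp n hn hx
        refine ⟨?_, hxn⟩
        change x ∈ I
        rw [hmem hxn]
        exact h1 d n hn f hf x hx
  · -- uniqueness
    intro 𝔭 𝔮 h𝔭 h𝔮 hirr𝔭 hirr𝔮 hp𝔭 hp𝔮
    obtain ⟨d, f, hd, hf, hf𝔭⟩ := L1 𝔭 h𝔭 hirr𝔭
    have hf𝔮 : f ∉ 𝔮.toIdeal := by
      intro h
      have : f ∈ (𝔮.toIdeal : Set A) ∩ 𝒜 d := ⟨h, hf⟩
      rw [hp𝔮 d hd, ← hp𝔭 d hd] at this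
      exact hf𝔭 this.1
    -- homogeneous elements
    have key : ∀ (m : ℕ) (x : A), x ∈ 𝒜 m → (x ∈ 𝔭.toIdeal ↔ x ∈ 𝔮.toIdeal) := by
      intro m x hx
      have hfx : f * x ∈ 𝒜 (d + m) := SetLike.mul_mem_graded hf hx
      have e1 : x ∈ 𝔭.toIdeal ↔ f * x ∈ (𝔭.toIdeal : Set A) ∩ 𝒜 (d + m) :=
        ⟨fun h => ⟨𝔭.toIdeal.mul_mem_left f h, hfx⟩,
          fun h => (h𝔭.mem_or_mem h.1).resolve_left hf𝔭⟩
      have e2 : x ∈ 𝔮.toIdeal ↔ f * x ∈ (𝔮.toIdeal : Set A) ∩ 𝒜 (d + m) :=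
        ⟨fun h => ⟨𝔮.toIdeal.mul_mem_left f h, hfx⟩,
          fun h => (h𝔮.mem_or_mem h.1).resolve_left hf𝔮⟩
      rw [e1, e2, hp𝔭 (d + m) (by omega), hp𝔮 (d + m) (by omega)]
    apply HomogeneousIdeal.toIdeal_injective
    ext x
    rw [𝔭.isHomogeneous.mem_iff, 𝔮.isHomogeneous.mem_iff]
    exact forall_congr' fun i => key i _ (Subtype.prop _)


end Groth.Agent.S4395
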