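import Groth.Statements.S4399
import Groth.Agent.H18.RestrictRestrict

set_option autoImplicit false
universe u
open CategoryTheory CategoryTheory.Limits AlgebraicGeometry
open EGA2

namespace Groth.Agent.S4399

/-- Let S be a ring graded in nonnegative degrees, X = Proj S, d > 0, and U the union of the opens
D_+(f) for f running through S_d. Then for every integer n the restriction of the twisting sheaf
O_X(nd) to U is an invertible O_U-module. -/
theorem result {R A : Type u} [CommRing R] [CommRing A] [Algebra R A] (𝒜 : ℕ → Submodule R A) [GradedAlgebra 𝒜]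
    (d : ℕ) (hd : 0 < d) (n : ℤ) :
    PicF.IsInvertible ((Twist.twist 𝒜 (n * d)).restrict (⨆ f : 𝒜 d, Proj.basicOpen 𝒜 (f : A)).ι) := by
  generalize hU : (⨆ f : 𝒜 d, Proj.basicOpen 𝒜 (f : A)) = U
  intro y
  have hy : ∀ z : Proj 𝒜, z ∈ U → ∃ f : 𝒜 d, z ∈ Proj.basicOpen 𝒜 (f : A) := by
    intro z hz
    rw [← hU] at hz
    exact TopologicalSpace.Opens.mem_iSup.mp hz
  obtain ⟨f, hyf⟩ := hy y.1 y.2
  let V : (U : Scheme.{u}).Opens := U.ι ⁻¹ᵁ Proj.basicOpen 𝒜 (f : A)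
  have hyV : y ∈ V := hyf
  have hVle : U.ι ''ᵁ V ≤ Proj.basicOpen 𝒜 (f : A) := by
    rintro _ ⟨z, hz, rfl⟩
    exact hz
  have hone : ∀ x : ProjectiveSpectrum 𝒜, x ∈ U.ι ''ᵁ V → (1 : A) ∉ x.asHomogeneousIdeal :=
    fun x _ h => x.isPrime.ne_top ((Ideal.eq_top_iff_one _).mpr h)
  have hpow : ∀ k : ℕ, ∀ x : ProjectiveSpectrum 𝒜, x ∈ U.ι ''ᵁ V → (f : A) ^ k ∉ x.asHomogeneousIdeal :=
    fun k x hx h => hVle hx (x.isPrime.mem_of_pow_mem k h)
  have hpm : ∀ k : ℕ, (f : A) ^ k ∈ 𝒜 (k * d) := by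
    intro k
    have := SetLike.pow_mem_graded k f.2
    simpa [smul_eq_mul] using this
  refine ⟨V, hyV, ?_⟩
  rcases le_or_gt 0 n with hn | hn
  · obtain ⟨k, rfl⟩ := Int.eq_ofNat_of_zero_le hn
    exact Groth.Agent.H18.nonempty_twist_restrict_restrict_iso 𝒜 (hpm k)
      (SetLike.GradedOne.one_mem : (1 : A) ∈ 𝒜 0) (by push_cast; ring) U V (hpow k) hone
  · obtain ⟨k, hk⟩ := Int.eq_ofNat_of_zero_le (by omega : 0 ≤ -n)
    have hn' : n = -(k : ℤ) := by omega
    subst hn'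
    exact Groth.Agent.H18.nonempty_twist_restrict_restrict_iso 𝒜
      (SetLike.GradedOne.one_mem : (1 : A) ∈ 𝒜 0) (hpm k) (by push_cast; ring) U V hone (hpow k)

end Groth.Agent.S4399
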