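import Groth.Statements.S4401
import Groth.Agent.H18.SectionHom

set_option autoImplicit false
universe u
open CategoryTheory CategoryTheory.Limits AlgebraicGeometry
open EGA2

namespace Groth.Agent.S4401

/-- Let S be a ring graded in nonnegative degrees whose irrelevant ideal S_+ is generated by finitely
many elements of degree one, and X = Proj S. Then for every integer n ≥ 0 there exist an integer k
and an epimorphism of O_X-modules O_X^k → O_X(n). -/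
theorem result {R A : Type u} [CommRing R] [CommRing A] [Algebra R A] (𝒜 : ℕ → Submodule R A) [GradedAlgebra 𝒜]
    (s : Finset A) (hs1 : ∀ f ∈ s, f ∈ 𝒜 1)
    (hs : (HomogeneousIdeal.irrelevant 𝒜).toIdeal = Ideal.span (s : Set A)) (n : ℕ) :
    ∃ (k : ℕ) (p : FlatMod.freeMod (Proj 𝒜) k ⟶ Twist.twist 𝒜 (n : ℤ)), Epi p := by
  classical
  let D : Groth.Agent.H18.Charts 𝒜 :=
    { I := ↥s, f := fun i => i.1, hf := fun i => hs1 i.1 i.2 }
  have hcov : ∀ x : ProjectiveSpectrum 𝒜, ∃ j, D.f j ∉ x.asHomogeneousIdeal := by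
    intro x
    by_contra hcon
    push Not at hcon
    apply x.not_irrelevant_le
    change (HomogeneousIdeal.irrelevant 𝒜).toIdeal ≤ x.asHomogeneousIdeal.toIdeal
    rw [hs, Ideal.span_le]
    intro g hg
    exact hcon ⟨g, hg⟩
  let eqv : Fin (Fintype.card ↥s) ≃ D.I := (Fintype.equivFin ↥s).symm
  have he : (n : ℤ) = ((0 : ℕ) : ℤ) + (n : ℤ) := by push_cast; ring
  have h1 : ∀ (W : (Proj 𝒜).Opens) (x : ProjectiveSpectrum 𝒜), x ∈ W → (1 : A) ∉ x.asHomogeneousIdeal :=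
    fun W x _ => GrMod.one_nin x
  let σ : Fin (Fintype.card ↥s) → Γ(Twist.twist 𝒜 (n : ℤ), (⊤ : (Proj 𝒜).Opens)) := fun i =>
    Groth.Agent.H18.fracTw 𝒜 (Groth.Agent.H18.GammaStar.fpow_mem D (eqv i) n)
      (SetLike.GradedOne.one_mem : (1 : A) ∈ 𝒜 0) he ⊤ (h1 ⊤)
  refine ⟨Fintype.card ↥s, Sigma.desc (fun i => Groth.Agent.H18.sectionHom _ (σ i)),
    Groth.Agent.H18.epi_desc_sectionHom _ σ ?_⟩
  intro V t x hx
  obtain ⟨j, hj⟩ := hcov x
  have hxj : x ∈ Groth.Agent.H18.GammaStar.U D j := hj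
  refine ⟨V ⊓ Groth.Agent.H18.GammaStar.U D j, inf_le_left, ⟨hx, hxj⟩, ?_⟩
  have hVa : ∀ z : ProjectiveSpectrum 𝒜, z ∈ V ⊓ Groth.Agent.H18.GammaStar.U D j →
      D.f j ^ n ∉ z.asHomogeneousIdeal :=
    fun z hz => Groth.Agent.H18.GammaStar.notMem_of_mem_U D hz.2 n
  obtain ⟨r, hr⟩ := Groth.Agent.H18.smul_fracTw_surjective 𝒜
    (Groth.Agent.H18.GammaStar.fpow_mem D j n) (SetLike.GradedOne.one_mem : (1 : A) ∈ 𝒜 0) he
    (V ⊓ Groth.Agent.H18.GammaStar.U D j) hVa (h1 _)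
    (Groth.Agent.H18.mres (Twist.twist 𝒜 (n : ℤ)) inf_le_left t)
  have hr' : r • Groth.Agent.H18.fracTw 𝒜 (Groth.Agent.H18.GammaStar.fpow_mem D j n)
      (SetLike.GradedOne.one_mem : (1 : A) ∈ 𝒜 0) he (V ⊓ Groth.Agent.H18.GammaStar.U D j) (h1 _) =
      Groth.Agent.H18.mres (Twist.twist 𝒜 (n : ℤ)) inf_le_left t := hr
  rw [← hr']
  refine Submodule.smul_mem _ r (Submodule.subset_span ⟨eqv.symm j, ?_⟩)
  have key : ∀ (i : Fin (Fintype.card ↥s)) (j' : D.I) (_ : eqv i = j') (W : (Proj 𝒜).Opens),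
      Groth.Agent.H18.mres (Twist.twist 𝒜 (n : ℤ)) (le_top : W ≤ ⊤) (σ i) =
        Groth.Agent.H18.fracTw 𝒜 (Groth.Agent.H18.GammaStar.fpow_mem D j' n)
          (SetLike.GradedOne.one_mem : (1 : A) ∈ 𝒜 0) he W (h1 W) := by
    intro i j' hij W
    subst hij
    rfl
  exact key (eqv.symm j) j (eqv.apply_symm_apply j) _

end Groth.Agent.S4401
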