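import Groth.Statements.S4404
import Groth.Agent.H18.ProjBasic

set_option autoImplicit false
universe u
open EGA2

namespace Groth.Agent.S4404

/-- (a) ⇔ (b): let S be a ring graded in nonnegative degrees and E a subset of the irrelevant ideal S_+.
Then V_+(E) is the whole of Proj S if and only if every element of E is nilpotent. -/
theorem result {R A : Type u} [CommRing R] [CommRing A] [Algebra R A] (𝒜 : ℕ → Submodule R A) [GradedAlgebra 𝒜]
    (E : Set A) (hE : E ⊆ (HomogeneousIdeal.irrelevant 𝒜).toIdeal) :
    ProjectiveSpectrum.zeroLocus 𝒜 E = Set.univ ↔ ∀ e ∈ E, IsNilpotent e := by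
  constructor
  · intro h e he
    have hmem : e ∈ (⊥ : Ideal A).radical := by
      refine Groth.Agent.H18.mem_radical_of_mem_irrelevant_of_forall_mem 𝒜 ⊥ (Ideal.IsHomogeneous.bot 𝒜)
        (hE he) fun p _ => ?_
      have hp : p ∈ ProjectiveSpectrum.zeroLocus 𝒜 E := by rw [h]; trivial
      exact hp he
    exact hmem
  · intro h
    rw [Set.eq_univ_iff_forall]
    intro p e he
    obtain ⟨n, hn⟩ := h e he
    exact p.isPrime.mem_of_pow_mem n (hn ▸ Ideal.zero_mem _)


end Groth.Agent.S4404
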