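import Groth.Statements.S4405
import Groth.Agent.H18.ProjBasic

set_option autoImplicit false
universe u
open EGA2

namespace Groth.Agent.S4405

/-- Let S be a ring graded in nonnegative degrees and E any subset of the irrelevant ideal S_+. Then the
intersection of S_+ with the vanishing ideal of the closed subset V_+(E) of Proj S equals the
intersection of S_+ with the radical of the graded ideal generated by E (the smallest homogeneous
ideal containing E). -/
theorem result {R A : Type u} [CommRing R] [CommRing A] [Algebra R A] (𝒜 : ℕ → Submodule R A) [GradedAlgebra 𝒜]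
    (E : Set A) (hE : E ⊆ (HomogeneousIdeal.irrelevant 𝒜).toIdeal) :
    (HomogeneousIdeal.irrelevant 𝒜).toIdeal ⊓
        (ProjectiveSpectrum.vanishingIdeal (ProjectiveSpectrum.zeroLocus 𝒜 E)).toIdeal =
      (HomogeneousIdeal.irrelevant 𝒜).toIdeal ⊓ (Ideal.homogeneousHull 𝒜 (Ideal.span E)).toIdeal.radical := by
  have hJ : (Ideal.homogeneousHull 𝒜 (Ideal.span E)).toIdeal.IsHomogeneous 𝒜 :=
    (Ideal.homogeneousHull 𝒜 (Ideal.span E)).isHomogeneous
  have key : ∀ p : ProjectiveSpectrum 𝒜,
      p ∈ ProjectiveSpectrum.zeroLocus 𝒜 E ↔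
        (Ideal.homogeneousHull 𝒜 (Ideal.span E)).toIdeal ≤ p.asHomogeneousIdeal.toIdeal := by
    intro p
    constructor
    · intro hp
      have h1 : Ideal.span E ≤ p.asHomogeneousIdeal.toIdeal := Ideal.span_le.mpr hp
      have h2 := Ideal.homogeneousHull_mono 𝒜 h1
      rwa [HomogeneousIdeal.homogeneousHull_toIdeal_eq_self] at h2
    · intro hp e he
      exact hp (Ideal.le_toIdeal_homogeneousHull 𝒜 _ (Ideal.subset_span he))
  ext x
  simp only [Ideal.mem_inf]
  constructor
  · rintro ⟨hx1, hx2⟩
    refine ⟨hx1, Groth.Agent.H18.mem_radical_of_mem_irrelevant_of_forall_mem 𝒜 _ hJ hx1 fun p hp => ?_⟩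
    have := (ProjectiveSpectrum.mem_vanishingIdeal _ _).mp hx2
    exact this p ((key p).mpr hp)
  · rintro ⟨hx1, hx2⟩
    refine ⟨hx1, (ProjectiveSpectrum.mem_vanishingIdeal _ _).mpr fun p hp => ?_⟩
    have hle := (key p).mp hp
    exact (Ideal.IsPrime.radical_le_iff p.isPrime).mpr hle hx2


end Groth.Agent.S4405
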