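import Groth.Statements.S4408
import Groth.Agent.H12.QAffCrit

set_option autoImplicit false
universe u
open CategoryTheory CategoryTheory.Limits AlgebraicGeometry
open EGA2

namespace Groth.Agent.S4408

/-- (e') ⇒ (a): let X be a quasi-compact separated scheme such that every quasi-coherent submodule of
finite type of O_X is generated by its global sections. Then X is quasi-affine. (The published
statement also allows X to be a scheme whose underlying space is Noetherian; this row assumes it
quasi-compact and separated.) -/
theorem result (X : Scheme.{u}) [CompactSpace X] [X.IsSeparated]
    (h : ∀ (J : X.Modules) (i : J ⟶ Coh.structureModule X), Mono i → Coh.IsQCoh J → CohB1.IsFT J →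
      Curv2.IsGloballyGenerated J) :
    X.IsQuasiAffine := by
  have hqs : QuasiSeparatedSpace X := inferInstance
  exact Groth.Agent.H12.QAffCrit.isQuasiAffine_of_ft_ideals_globally_generated
    (fun J i hi hq hft => h J i hi hq hft)

end Groth.Agent.S4408
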