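import Groth.Statements.S4414
import Groth.Agent.H18.VA.ProjSpaceBasic
import Groth.Agent.S9710

set_option autoImplicit false
universe u
open CategoryTheory CategoryTheory.Limits AlgebraicGeometry
open EGA2

namespace Groth.Agent.S4414

/-- Let Y be a quasi-compact separated scheme possessing an ample invertible O_Y-module, and f : X → Y a
morphism. Then f is quasi-projective (of finite type with some O_X-module ample relative to f) if
and only if f is of finite type and there are r ≥ 0 and an immersion i of X into projective r-space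
over Y with i followed by the projection equal to f. -/
theorem result {X Y : Scheme.{u}} [CompactSpace Y] [Y.IsSeparated]
    (hY : ∃ M : Y.Modules, CohB1.IsAmple M) (f : X ⟶ Y) :
    RelProj.IsQuasiProjective f ↔
      (LocallyOfFiniteType f ∧ QuasiCompact f ∧
        ∃ (r : ℕ) (i : X ⟶ CohB1.ProjSpaceOver r Y), IsImmersion i ∧ i ≫ CohB1.ProjSpaceOver.toBase r Y = f) := by
  obtain ⟨N, hN⟩ := hY
  let g := specULiftZIsTerminal.from Y
  haveI : QuasiCompact g := by
    rw [HasAffineProperty.iff_of_isAffine (P := @QuasiCompact)]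
    infer_instance
  constructor
  · rintro ⟨hft, hqc, L, hL⟩
    refine ⟨hft, hqc, ?_⟩
    have hK : RelAmple.IsRelAmple g N :=
      (Groth.Agent.H18.STL.isRelAmple_iff_isAmple_of_isAffine _ _).2 hN
    obtain ⟨n₀, -, h⟩ :=
      Groth.Agent.H18.STL.exists_isRelAmple_comp_tensorMod_pullback_tensorPow f g hL hK
    have h1 := (Groth.Agent.H18.STL.isRelAmple_iff_isAmple_of_isAffine _ _).1 (h n₀ le_rfl)
    obtain ⟨d₀, -, h2⟩ := Groth.Agent.S9710.result f _ h1
    obtain ⟨n, i, hi, hcomm, -⟩ := h2 d₀ le_rfl
    exact ⟨n, i, hi, hcomm⟩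
  · rintro ⟨hft, hqc, r, i, hi, hcomm⟩
    refine ⟨hft, hqc, ?_⟩
    haveI : CompactSpace X := QuasiCompact.compactSpace_of_compactSpace f
    obtain ⟨M, hM⟩ := Groth.Agent.H18.VA.exists_isAmple_projSpaceOver r hN
    have hL := Groth.Agent.H67.AmplePullback.isAmple_pullback_of_isEmbedding i
      (Scheme.Hom.isEmbedding i) M hM
    refine ⟨(Scheme.Modules.pullback i).obj M, hqc, fun V => ?_⟩
    exact Groth.Agent.H18.STL.isAmple_restrict hL _ (isCompact_iff_compactSpace.1
      (QuasiCompact.isCompact_preimage (f := f) _ V.1.isOpen V.2.isCompact))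

end Groth.Agent.S4414
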