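import Groth.Statements.S4415
import Groth.Agent.H20.RelProj.ChowProj

set_option autoImplicit false
universe u
open CategoryTheory CategoryTheory.Limits AlgebraicGeometry
open EGA2

namespace Groth.Agent.S4415

/-- Let r : X → S be a separated morphism of finite type and assume either (a) S is Noetherian, or (b) S
is quasi-compact and separated and X has finitely many irreducible components. Then there exist a
scheme X' and a morphism f : X' → X such that: (i) X' is quasi-projective over S through f ≫ r, and
f is projective and surjective; (ii) for some open U of X the open f⁻¹(U) is dense in X' and f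
restricted over U is an isomorphism; (iii) X' is reduced (resp. irreducible, resp. integral) if X
is. -/
theorem result {X S : Scheme.{u}} (r : X ⟶ S) [IsSeparated r] [LocallyOfFiniteType r] [QuasiCompact r]
    (h : IsNoetherian S ∨ (CompactSpace S ∧ S.IsSeparated ∧ (irreducibleComponents X).Finite)) :
    ∃ (X' : Scheme.{u}) (f : X' ⟶ X),
      RelProj.IsQuasiProjective (f ≫ r) ∧ RelProj.IsProjective f ∧ Surjective f ∧
      (∃ U : X.Opens, Dense ((f ⁻¹ᵁ U : X'.Opens) : Set X') ∧ IsIso (f ∣_ U)) ∧
      (IsReduced X → IsReduced X') ∧ (IrreducibleSpace X → IrreducibleSpace X') ∧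
      (IsIntegral X → IsIntegral X') := by
  have key : ∃ (_ : CompactSpace S) (_ : QuasiSeparatedSpace S),
      (irreducibleComponents (X : Type u)).Finite := by
    rcases h with h | ⟨h1, h2, h3⟩
    · have hX : IsNoetherian X :=
        { __ := LocallyOfFiniteType.isLocallyNoetherian r
          __ := QuasiCompact.compactSpace_of_compactSpace r }
      exact ⟨inferInstance, inferInstance, finite_irreducibleComponents_of_isNoetherian⟩
    · exact ⟨h1, inferInstance, h3⟩
  obtain ⟨hc, hqs, hirr⟩ := key
  obtain ⟨n, X', π, j, hj, hjπ, hπ, hπs, hred, U, hUd, hUiso, hUd'⟩ :=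
    Groth.Agent.H20.Chow.chow_dense'' r hirr
  refine ⟨X', π, Groth.Agent.H20.RelProj.isQuasiProjective_comp_of_immersion π r j hjπ,
    Groth.Agent.H20.RelProj.isProjective_of_immersion_of_isProper π r j hjπ, hπs,
    ⟨U, hUd', hUiso⟩, hred, ?_, ?_⟩
  · intro hX
    exact Groth.Agent.H20.RelProj.irreducibleSpace_of_dense_preimage π U hUd' hUd.nonempty
  · intro hX
    haveI := hred inferInstance
    haveI := Groth.Agent.H20.RelProj.irreducibleSpace_of_dense_preimage π U hUd' hUd.nonempty
    exact isIntegral_of_irreducibleSpace_of_isReduced X'

end Groth.Agent.S4415
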