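import Groth.Statements.S4416
import Groth.Agent.H20.RelProj.ChowProj

set_option autoImplicit false
universe u
open CategoryTheory CategoryTheory.Limits AlgebraicGeometry
open EGA2

namespace Groth.Agent.S4416

/-- Let r : X → S be separated of finite type, and assume either S Noetherian, or S quasi-compact and
separated with X having finitely many irreducible components. Then r is proper if and only if there
are a scheme X' and a surjective morphism f : X' → X with f ≫ r projective. Moreover, when r is
proper, f can be chosen so that in addition there is a dense open U of X with f⁻¹(U) dense in X'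
over which f is an isomorphism, and with X' irreducible (resp. reduced) if X is. (The published
statement also remarks that f is then projective; that is not stated here.) -/
theorem result {X S : Scheme.{u}} (r : X ⟶ S) [IsSeparated r] [LocallyOfFiniteType r] [QuasiCompact r]
    (h : IsNoetherian S ∨ (CompactSpace S ∧ S.IsSeparated ∧ (irreducibleComponents X).Finite)) :
    (IsProper r ↔ ∃ (X' : Scheme.{u}) (f : X' ⟶ X), Surjective f ∧ RelProj.IsProjective (f ≫ r)) ∧
    (IsProper r → ∃ (X' : Scheme.{u}) (f : X' ⟶ X), Surjective f ∧ RelProj.IsProjective (f ≫ r) ∧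
        (∃ U : X.Opens, Dense (U : Set X) ∧ Dense ((f ⁻¹ᵁ U : X'.Opens) : Set X') ∧ IsIso (f ∣_ U)) ∧
        (IrreducibleSpace X → IrreducibleSpace X') ∧ (IsReduced X → IsReduced X')) := by
  have key : ∃ (_ : CompactSpace S) (_ : QuasiSeparatedSpace S),
      (irreducibleComponents (X : Type u)).Finite := by
    rcases h with h | ⟨h1, h2, h3⟩
    · have hX : IsNoetherian X :=
        { __ := LocallyOfFiniteType.isLocallyNoetherian r
          __ := QuasiCompact.compactSpace_of_compactSpace r }
      exact ⟨inferInstance, inferInstance, finite_irreducibleComponents_of_isNoetherian⟩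
    · exact ⟨h1, inferInstance, h3⟩
  obtain ⟨hc, hqs, hirr⟩ := key
  have part2 : IsProper r → ∃ (X' : Scheme.{u}) (f : X' ⟶ X), Surjective f ∧
      RelProj.IsProjective (f ≫ r) ∧
      (∃ U : X.Opens, Dense (U : Set X) ∧ Dense ((f ⁻¹ᵁ U : X'.Opens) : Set X') ∧ IsIso (f ∣_ U)) ∧
      (IrreducibleSpace X → IrreducibleSpace X') ∧ (IsReduced X → IsReduced X') := by
    intro hr
    obtain ⟨n, X', π, j, hj, hjπ, hπ, hπs, hred, U, hUd, hUiso, hUd'⟩ :=
      Groth.Agent.H20.Chow.chow_dense'' r hirr
    refine ⟨X', π, hπs,
      Groth.Agent.H20.RelProj.isProjective_comp_of_immersion_of_isProper π r j hjπ,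
      ⟨U, hUd, hUd', hUiso⟩, ?_, hred⟩
    intro hX
    exact Groth.Agent.H20.RelProj.irreducibleSpace_of_dense_preimage π U hUd' hUd.nonempty
  refine ⟨⟨fun hr => ?_, ?_⟩, part2⟩
  · obtain ⟨X', f, hf, hp, -⟩ := part2 hr
    exact ⟨X', f, hf, hp⟩
  · rintro ⟨X', f, hf, hp⟩
    have hproper : IsProper (f ≫ r) := (Groth.Agent.S4418.result (f ≫ r) hp).2
    have huc : UniversallyClosed r := UniversallyClosed.of_comp_surjective f r
    exact { }

end Groth.Agent.S4416
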