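import Groth.Statements.S9717
import Groth.Agent.H20.RelProj.HProjChart

set_option autoImplicit false
universe u
open CategoryTheory AlgebraicGeometry
open Mor

namespace Groth.Agent.S9717

/-- An H-projective morphism f : X ⟶ S (a closed immersion into some projective space P^n_S followed by
the projection) is projective. Here projective means that X is isomorphic over S to the relative
Proj of a quasi-coherent graded O_S-algebra generated by its degree-one part, with that part of
finite type; the published definition uses closed subschemes of a projective bundle P(E) with E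
quasi-coherent of finite type, an equivalent condition. -/
theorem result {X S : Scheme.{u}} (f : X ⟶ S) (hf : RelProj.IsHProjective f) :
    RelProj.IsProjective f := by
  obtain ⟨n, i, hi, rfl⟩ := hf
  refine ⟨Groth.Agent.H20.RelProj.qcGrAlg (Groth.Agent.H20.RelProj.idealFam i), X,
    i ≫ CohB1.ProjSpaceOver.toBase n S,
    fun U hU => Groth.Agent.H20.RelProj.chartU i ⟨U, hU⟩, Iso.refl X,
    Groth.Agent.H20.RelProj.isGenDegOne _, Groth.Agent.H20.RelProj.isFTDeg_one _, ?_,
    Category.id_comp _⟩
  exact ⟨fun U hU => Groth.Agent.H20.RelProj.chart_over_aux i ⟨U, hU⟩,
    fun U hU r => Groth.Agent.H20.RelProj.chart_res_aux i ⟨U, hU⟩ r⟩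

end Groth.Agent.S9717
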