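import Groth.Statements.S4420
import Groth.Agent.S4418
import Groth.Agent.S1496
import Groth.Agent.S9717

set_option autoImplicit false
universe u
open CategoryTheory CategoryTheory.Limits AlgebraicGeometry
open EGA2

namespace Groth.Agent.S4420

/-- Let Y be a quasi-compact separated scheme possessing an ample invertible O_Y-module and f : X → Y a
morphism. Then f is projective if and only if there are r ≥ 0 and a closed immersion of X into
projective r-space over Y compatible with the projections (f is H-projective). -/
theorem result {X Y : Scheme.{u}} [CompactSpace Y] [Y.IsSeparated]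
    (hY : ∃ M : Y.Modules, CohB1.IsAmple M) (f : X ⟶ Y) :
    RelProj.IsProjective f ↔ RelProj.IsHProjective f := by
  constructor
  · intro h
    obtain ⟨hq, hp⟩ := Groth.Agent.S4418.result f h
    obtain ⟨_, _, L, hL⟩ := hq
    have h1 := Groth.Agent.S1496.result hY f
    obtain ⟨n, i, hi, hif⟩ := h1.1.2 (h1.2.2 ⟨hp, L, hL⟩)
    exact ⟨n, i, hi, hif⟩
  · exact Groth.Agent.S9717.result f

end Groth.Agent.S4420
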