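import Groth.Statements.S4434
import Groth.Agent.H22.DVRDom

set_option autoImplicit false
universe u
open EGA2

namespace Groth.Agent.S4434

/-- Let A be a Noetherian domain with field of fractions K and L a finitely generated field extension of
K. The integral closure of A in L is the intersection of the discrete valuation subrings of L (with
fraction field L) containing the image of A: an element of L is integral over A exactly when it
belongs to all of them. -/
theorem result (A : Type u) [CommRing A] [IsDomain A] [IsNoetherianRing A]
    (K : Type u) [Field K] [Algebra A K] [IsFractionRing A K]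
    (L : Type u) [Field L] [Algebra K L] [Algebra A L] [IsScalarTower A K L] (hfg : (⊤ : IntermediateField K L).FG) (x : L) :
    IsIntegral A x ↔ ∀ R : ValuationSubring L, IsDiscreteValuationRing R → (∀ a : A, algebraMap A L a ∈ R) → x ∈ R := by
  haveI : FaithfulSMul A L := (faithfulSMul_iff_algebraMap_injective A L).mpr (by
    rw [IsScalarTower.algebraMap_eq A K L]
    exact (algebraMap K L).injective.comp (IsFractionRing.injective A K))
  constructor
  · intro hx R _ hAR
    exact Groth.Agent.H22.DVRDom.mem_valuationSubring_of_isIntegral R hAR hx
  · intro h
    by_contra hx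
    obtain ⟨s, hs⟩ := hfg
    have hs' : Subfield.closure (Set.range (algebraMap A L) ∪ (s : Set L)) = ⊤ := by
      rw [eq_top_iff]
      intro z _
      have hz : z ∈ IntermediateField.adjoin K (s : Set L) := hs ▸ IntermediateField.mem_top
      have hz' : z ∈ Subfield.closure (Set.range (algebraMap K L) ∪ ↑s) := hz
      refine (Subfield.closure_le.mpr ?_) hz'
      rintro y (⟨k, rfl⟩ | hy)
      · obtain ⟨a, b, hb, rfl⟩ := IsFractionRing.div_surjective (A := A) k
        rw [map_div₀, ← IsScalarTower.algebraMap_apply, ← IsScalarTower.algebraMap_apply]
        exact div_mem (Subfield.subset_closure (Or.inl ⟨a, rfl⟩))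
          (Subfield.subset_closure (Or.inl ⟨b, rfl⟩))
      · exact Subfield.subset_closure (Or.inr hy)
    obtain ⟨R, hR, hAR, hxR⟩ :=
      Groth.Agent.H22.DVRDom.exists_dvr_not_mem_of_not_isIntegral s hs' hx
    exact hxR (h R hR hAR)

end Groth.Agent.S4434
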