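import Groth.Statements.S4441
-- import your own Groth.Agent.* helpers here

set_option autoImplicit false
universe u
open CategoryTheory CategoryTheory.Limits AlgebraicGeometry
open EGA2

namespace Groth.Agent.S4441

/-- Let X and Y be integral separated schemes and f : X ⟶ Y a dominant, quasi-compact, universally
closed morphism, ξ the generic point of X. Every valuation subring R of the function field K(X) of X
which dominates the local ring of Y at a point y (via O_{Y,y} → O_{Y,f(ξ)} → K(X): image inside R,
maximal ideal into the maximal ideal of R) also dominates the local ring of X at some point x (via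
O_{X,x} → K(X)). -/
theorem result {X Y : Scheme.{u}} [IsIntegral X] [IsIntegral Y]
    [X.IsSeparated] [Y.IsSeparated] (f : X ⟶ Y) [IsDominant f] [QuasiCompact f] [UniversallyClosed f]
    (R : ValuationSubring X.functionField) (y : Y) (hy : f.base (genericPoint X) ⤳ y)
    (hdom : (∀ a : Y.presheaf.stalk y, (Y.presheaf.stalkSpecializes hy ≫ f.stalkMap (genericPoint X)).hom a ∈ R) ∧
      ∀ a ∈ IsLocalRing.maximalIdeal (Y.presheaf.stalk y),
        R.valuation ((Y.presheaf.stalkSpecializes hy ≫ f.stalkMap (genericPoint X)).hom a) < 1) :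
    ∃ x : X, (∀ a : X.presheaf.stalk x, algebraMap (X.presheaf.stalk x) X.functionField a ∈ R) ∧
      ∀ a ∈ IsLocalRing.maximalIdeal (X.presheaf.stalk x), R.valuation (algebraMap (X.presheaf.stalk x) X.functionField a) < 1 := by
  classical
  let K := X.functionField
  let ξ := genericPoint X
  -- the local ring map `O_{Y,y} → R`
  let φ : Y.presheaf.stalk y ⟶ K := Y.presheaf.stalkSpecializes hy ≫ f.stalkMap ξ
  let ψ : Y.presheaf.stalk y ⟶ CommRingCat.of R :=
    CommRingCat.ofHom (φ.hom.codRestrict R.toSubring hdom.1)
  -- the valuative square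
  have w : X.fromSpecStalk ξ ≫ f =
      Spec.map (CommRingCat.ofHom (algebraMap R K)) ≫ (Spec.map ψ ≫ Y.fromSpecStalk y) := by
    rw [← Scheme.SpecMap_stalkMap_fromSpecStalk, ← Scheme.SpecMap_stalkSpecializes_fromSpecStalk hy]
    simp_rw [← Spec.map_comp_assoc]
    rfl
  have hex : ValuativeCriterion.Existence f := by
    have : (ValuativeCriterion.Existence ⊓ @QuasiCompact) f := by
      rw [← UniversallyClosed.eq_valuativeCriterion]
      infer_instance
    exact this.1
  let S : ValuativeCommSq f :=
    { R := R, K := K, i₁ := X.fromSpecStalk ξ, i₂ := Spec.map ψ ≫ Y.fromSpecStalk y, commSq := ⟨w⟩ }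
  obtain ⟨⟨l, hl₁, hl₂⟩⟩ := (hex S).exists_lift
  change Spec.map (CommRingCat.ofHom (algebraMap R K)) ≫ l = X.fromSpecStalk ξ at hl₁
  let x : X := l.base (IsLocalRing.closedPoint R)
  let θ : X.presheaf.stalk x ⟶ CommRingCat.of R := Scheme.stalkClosedPointTo l
  have hθ : Spec.map θ ≫ X.fromSpecStalk x = l := Scheme.Spec_stalkClosedPointTo_fromSpecStalk l
  have hsp : ξ ⤳ x := (genericPoint_spec X).specializes trivial
  -- the composite `O_{X,x} → R → K` is the canonical map
  have key : θ ≫ CommRingCat.ofHom (algebraMap R K) = X.presheaf.stalkSpecializes hsp := by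
    apply Spec.map_injective
    rw [← cancel_mono (X.fromSpecStalk x), Spec.map_comp, Category.assoc, hθ, hl₁,
      Scheme.SpecMap_stalkSpecializes_fromSpecStalk]
  have key' : ∀ a : X.presheaf.stalk x,
      algebraMap (X.presheaf.stalk x) X.functionField a = ((θ.hom a : R) : K) := by
    intro a
    have := congrArg (fun g => g.hom a) key
    exact this.symm
  refine ⟨x, fun a => ?_, fun a ha => ?_⟩
  · rw [key']
    exact (θ.hom a).2
  · rw [key']
    have hloc : IsLocalHom θ.hom := Scheme.isLocalHom_stalkClosedPointTo' l
    have hmem : θ.hom a ∈ IsLocalRing.maximalIdeal R := by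
      rw [IsLocalRing.mem_maximalIdeal, mem_nonunits_iff] at ha ⊢
      exact fun hu => ha (hloc.map_nonunit a hu)
    exact (ValuationSubring.valuation_lt_one_iff R _).mp hmem


end Groth.Agent.S4441
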