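import Groth.Statements.S4443
import Groth.Agent.H22.CurveTop

set_option autoImplicit false
universe u
open CategoryTheory CategoryTheory.Limits AlgebraicGeometry
open EGA2

namespace Groth.Agent.S4443

/-- Let X be an irreducible algebraic curve over a field k (separated and of finite type over k,
nonempty, irreducible, local rings at closed points of dimension one). Then the generic point is the
only non-closed point of X, and the closed subsets of X distinct from X are exactly the finite sets
of closed points. (The published statement adds that these are also exactly the subsets of X that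
are not dense in X, an immediate consequence; this row does not state it.) -/
theorem result (k : Type u) [Field k] (X : Scheme.{u})
    [X.Over (Spec (CommRingCat.of k))] [LocallyOfFiniteType (X ↘ (Spec (CommRingCat.of k)))]
    [QuasiCompact (X ↘ (Spec (CommRingCat.of k)))] [IsSeparated (X ↘ (Spec (CommRingCat.of k)))]
    [Nonempty X] [IrreducibleSpace X] (hcurve : ∀ x : X, IsClosed ({x} : Set X) → ringKrullDim (X.presheaf.stalk x) = 1) :
    (∀ x : X, ¬ IsClosed ({x} : Set X) → x = genericPoint X) ∧
      ∀ F : Set X, IsClosed F → (F ≠ Set.univ ↔ (F.Finite ∧ ∀ x ∈ F, IsClosed ({x} : Set X))) := by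
  classical
  let p := X ↘ (Spec (CommRingCat.of k))
  have hLN : IsLocallyNoetherian X := LocallyOfFiniteType.isLocallyNoetherian p
  have hC : CompactSpace X := QuasiCompact.compactSpace_of_compactSpace p
  have hN : IsNoetherian X := { }
  have hNS : TopologicalSpace.NoetherianSpace X := inferInstance
  let ξ := genericPoint X
  -- (1) the only non-closed point is the generic point
  have h1 : ∀ x : X, ¬ IsClosed ({x} : Set X) → x = ξ := by
    intro x hx
    by_contra hne
    obtain ⟨z, hz, hzc⟩ := IsClosed.exists_closed_singleton (isClosed_closure (s := ({x} : Set X)))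
      ⟨x, subset_closure rfl⟩
    have hxz : x ⤳ z := specializes_iff_mem_closure.mpr hz
    have hxz' : x ≠ z := fun h => hx (h ▸ hzc)
    have hξx : ξ ⤳ x := genericPoint_specializes x
    have h2 := Groth.Agent.H22.two_le_ringKrullDim_stalk_of_specializes hξx hxz (Ne.symm hne) hxz'
    rw [hcurve z hzc] at h2
    exact absurd h2 (by decide)
  refine ⟨h1, ?_⟩
  intro F hF
  constructor
  · intro hFne
    have hξF : ξ ∉ F := by
      intro h
      apply hFne
      rw [Set.eq_univ_iff_forall]
      intro y
      exact (genericPoint_specializes y).mem_closed hF h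
    have hcl : ∀ x ∈ F, IsClosed ({x} : Set X) := by
      intro x hx
      by_contra hnc
      exact hξF (h1 x hnc ▸ hx)
    refine ⟨?_, hcl⟩
    obtain ⟨S, hSf, hSc, hSi, hSU⟩ :=
      TopologicalSpace.NoetherianSpace.exists_finite_set_isClosed_irreducible hF
    rw [hSU]
    refine Set.Finite.sUnion hSf ?_
    intro t ht
    have htF : t ⊆ F := by rw [hSU]; exact Set.subset_sUnion_of_mem ht
    -- t is irreducible closed, its generic point is a closed point
    have hirr : IsIrreducible t := hSi t ht
    let g := hirr.genericPoint
    have hg : closure ({g} : Set X) = t := hirr.closure_genericPoint (hSc t ht)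
    have hgt : g ∈ t := by rw [← hg]; exact subset_closure rfl
    have hgc : IsClosed ({g} : Set X) := hcl g (htF hgt)
    rw [← hg, hgc.closure_eq]
    exact Set.finite_singleton g
  · rintro ⟨hFfin, hFcl⟩ hFuniv
    have hξF : ξ ∈ F := hFuniv ▸ Set.mem_univ ξ
    have hξc : IsClosed ({ξ} : Set X) := hFcl ξ hξF
    have huniv : (Set.univ : Set X) = {ξ} := by
      rw [← genericPoint_closure, hξc.closure_eq]
    have hsub : Subsingleton X := by
      constructor
      intro a b
      have ha : a ∈ ({ξ} : Set X) := huniv ▸ Set.mem_univ a
      have hb : b ∈ ({ξ} : Set X) := huniv ▸ Set.mem_univ b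
      rw [Set.mem_singleton_iff] at ha hb
      rw [ha, hb]
    have hdim := hcurve ξ hξc
    have hsubP : Subsingleton (PrimeSpectrum (X.presheaf.stalk ξ)) := by
      constructor
      intro a b
      have hinj : Function.Injective (X.fromSpecStalk ξ).base :=
        (Scheme.Hom.isEmbedding (X.fromSpecStalk ξ)).injective
      exact hinj (Subsingleton.elim _ _)
    have hle : ringKrullDim (X.presheaf.stalk ξ) ≤ 0 := Order.krullDim_nonpos_of_subsingleton
    rw [hdim] at hle
    exact absurd hle (by decide)


end Groth.Agent.S4443
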