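import Groth.Statements.S4446
import Groth.Agent.H22.IntegralSection
import Groth.Agent.H22.RedImm

set_option autoImplicit false
universe u
open CategoryTheory CategoryTheory.Limits AlgebraicGeometry
open EGA2

namespace Groth.Agent.S4446

/-- Let g : X' ⟶ X be an integral morphism and Y an integral normal scheme. A rational map from Y to X'
whose composite with g is everywhere defined is itself everywhere defined: if f is a morphism from a
dense open U of Y to X' and h : Y ⟶ X satisfies g ∘ f = h restricted to U, then f extends to a
morphism Y ⟶ X' lifting h. (The published statement allows Y normal and locally integral; it is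
stated here for Y integral, the case to which it reduces on each component.) -/
theorem result {Y X X' : Scheme.{u}} [IsIntegral Y]
    (hY : Pi1.IsNormalScheme Y) (g : X' ⟶ X) [IsIntegralHom g] (U : Y.Opens) (hU : Dense (U : Set Y))
    (f : (U : Scheme.{u}) ⟶ X') (h : Y ⟶ X) (hfh : f ≫ g = U.ι ≫ h) :
    ∃ f' : Y ⟶ X', U.ι ≫ f' = f ∧ f' ≫ g = h := by
  classical
  have hYic : ∀ y : Y, IsIntegrallyClosed (Y.presheaf.stalk y) := fun y => (hY y).2
  -- `U` is nonempty, hence integral
  haveI hUne : Nonempty U := by
    obtain ⟨y, hy⟩ := hU.nonempty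
    exact ⟨⟨y, hy⟩⟩
  haveI : IsIntegral (U : Scheme.{u}) := inferInstance
  -- base change
  let p1 : Limits.pullback h g ⟶ Y := Limits.pullback.fst h g
  let p2 : Limits.pullback h g ⟶ X' := Limits.pullback.snd h g
  haveI : IsIntegralHom p1 := MorphismProperty.pullback_fst _ _ inferInstance
  let σ : (U : Scheme.{u}) ⟶ Limits.pullback h g := Limits.pullback.lift U.ι f hfh.symm
  have hσ1 : σ ≫ p1 = U.ι := Limits.pullback.lift_fst _ _ _
  have hσ2 : σ ≫ p2 = f := Limits.pullback.lift_snd _ _ _
  haveI : IsImmersion (σ ≫ p1) := by rw [hσ1]; infer_instance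
  haveI : IsImmersion σ := IsImmersion.of_comp σ p1
  obtain ⟨W, j, i, hj, hi, hW, hrange, hji⟩ :=
    Groth.Agent.H22.exists_factor_of_isImmersion_of_isReduced σ
  -- `W` is irreducible
  have hdense : Dense (Set.range j) := by
    rw [dense_iff_closure_eq, i.isClosedEmbedding.isEmbedding.closure_eq_preimage_closure_image,
      ← Set.range_comp]
    have : (i : W → _) ∘ (j : U → W) = σ := by
      ext x
      rw [← hji]
      rfl
    rw [this, ← hrange]
    exact Set.preimage_range (f := (i : W → _))
  haveI : IrreducibleSpace W := by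
    rw [irreducibleSpace_def]
    change IsIrreducible (Set.univ : Set W)
    rw [← hdense.closure_eq, ← Set.image_univ]
    exact ((IrreducibleSpace.isIrreducible_univ U).image _ j.continuous.continuousOn).closure
  haveI : IsIntegral W := isIntegral_of_irreducibleSpace_of_isReduced W
  -- the integral morphism `W ⟶ Y` is an isomorphism
  let g' : W ⟶ Y := i ≫ p1
  haveI : IsIntegralHom g' := inferInstance
  have hjg' : j ≫ g' = U.ι := by
    rw [← Category.assoc, hji, hσ1]
  haveI : IsOpenImmersion (j ≫ g') := by rw [hjg']; infer_instance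
  have hgen : (j ≫ g').base (genericPoint U) = genericPoint Y := by
    rw [hjg']
    exact genericPoint_eq_of_isOpenImmersion U.ι
  haveI : IsIso g' := Groth.Agent.H22.IntegralSection.isIso_of_isIntegralHom_of_section hYic g' j
    (genericPoint U) hgen
  refine ⟨inv g' ≫ i ≫ p2, ?_, ?_⟩
  · have h1 : U.ι ≫ inv g' = j := by
      rw [← hjg', Category.assoc, IsIso.hom_inv_id, Category.comp_id]
    rw [← Category.assoc, h1, ← Category.assoc, hji, hσ2]
  · have h1 : p2 ≫ g = p1 ≫ h := Limits.pullback.condition.symm
    rw [Category.assoc, Category.assoc, h1, ← Category.assoc i, IsIso.inv_hom_id_assoc]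

end Groth.Agent.S4446
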