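import Groth.Statements.S4451
import Groth.Agent.H22.CurveValuation
import Mathlib.AlgebraicGeometry.ValuativeCriterion

set_option autoImplicit false
universe u
open CategoryTheory CategoryTheory.Limits AlgebraicGeometry
attribute [local instance] Curv2.stalkAlgebra
open EGA2

namespace Groth.Agent.S4451

/-- Let X be a normal, complete, irreducible algebraic curve over a field k with field of rational
functions K. The set of local rings of X, as subrings of K, consists of K itself (at the generic
point) and of the valuation rings of K containing k (and distinct from K): every non-generic point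
has such a valuation ring as local ring, and every such valuation ring is the local ring of exactly
one point. -/
theorem result (k : Type u) [Field k] (X : Scheme.{u})
    [X.Over (Spec (CommRingCat.of k))] [IsProper (X ↘ (Spec (CommRingCat.of k)))] [IsIntegral X]
    (hX : ∀ x : X, IsClosed ({x} : Set X) → ringKrullDim (X.presheaf.stalk x) = 1) (hnorm : Pi1.IsNormalScheme X) :
    (∀ x : X, x ≠ genericPoint X → ∃ R : ValuationSubring X.functionField, R ≠ ⊤ ∧
        (R : Set X.functionField) = Set.range (algebraMap (X.presheaf.stalk x) X.functionField)) ∧
      ∀ R : ValuationSubring X.functionField, R ≠ ⊤ → (∀ c : k, algebraMap k X.functionField c ∈ R) →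
        ∃! x : X, (R : Set X.functionField) = Set.range (algebraMap (X.presheaf.stalk x) X.functionField) := by
  classical
  let sX := X ↘ (Spec (CommRingCat.of k))
  have hlN : IsLocallyNoetherian X := LocallyOfFiniteType.isLocallyNoetherian sX
  have hcpt : CompactSpace X := by
    have : QuasiCompact sX := inferInstance
    exact (quasiCompact_iff_compactSpace sX).mp this
  have hdim : ∀ x : X, x ≠ genericPoint X → ringKrullDim (X.presheaf.stalk x) = 1 := by
    intro x hx
    exact hX x ((H22.CurveFibres.isClosed_or_eq_genericPoint hX x).resolve_right hx)
  have hval : ∀ x : X, x ≠ genericPoint X → ValuationRing (X.presheaf.stalk x) := by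
    intro x hx
    obtain ⟨hdom, hic⟩ := hnorm x
    exact H22.CurveValuation.valuationRing_of_ringKrullDim_eq_one _ (hdim x hx)
  refine ⟨?_, ?_⟩
  · intro x hx
    haveI := hval x hx
    refine ⟨H22.CurveValuation.ofValuationRing (X.presheaf.stalk x) X.functionField, ?_,
      H22.CurveValuation.coe_ofValuationRing _ _⟩
    refine H22.CurveValuation.ofValuationRing_ne_top _ _ ?_
    rw [hdim x hx]
    exact one_ne_zero
  · intro R hR hk
    -- the valuative square
    let kR : k →+* R := (algebraMap k X.functionField).codRestrict R.toSubring hk
    have hE : ValuativeCriterion.Existence sX := by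
      have := UniversallyClosed.eq_valuativeCriterion
      have h2 : (ValuativeCriterion.Existence ⊓ @QuasiCompact) sX := by
        rw [← this]; infer_instance
      exact h2.1
    have hU : ValuativeCriterion.Uniqueness sX := IsSeparated.valuativeCriterion sX
    have hsq : X.fromSpecStalk (genericPoint X) ≫ sX =
        Spec.map (CommRingCat.ofHom (algebraMap R X.functionField)) ≫
          Spec.map (CommRingCat.ofHom kR) := by
      rw [H22.FunFieldHom.fromSpecStalk_comp_over, ← Spec.map_comp]
      rfl
    let Sq : ValuativeCommSq sX :=
      { R := R
        commRing := inferInstance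
        domain := inferInstance
        valuationRing := inferInstance
        K := X.functionField
        field := inferInstance
        algebra := inferInstance
        isFractionRing := inferInstance
        i₁ := X.fromSpecStalk (genericPoint X)
        i₂ := Spec.map (CommRingCat.ofHom kR)
        commSq := ⟨hsq⟩ }
    obtain ⟨⟨φ, h1, h2⟩⟩ := hE Sq
    have hsub := hU Sq
    let φ' : Spec (CommRingCat.of R) ⟶ X := φ
    have h1' : Spec.map (CommRingCat.ofHom (algebraMap R X.functionField)) ≫ φ' =
        X.fromSpecStalk (genericPoint X) := h1
    let x : X := φ' (IsLocalRing.closedPoint R)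
    let ψ : X.presheaf.stalk x ⟶ CommRingCat.of R := Scheme.stalkClosedPointTo φ'
    have hηx : genericPoint X ⤳ x := (genericPoint_spec X).specializes trivial
    have key : ψ ≫ CommRingCat.ofHom (algebraMap R X.functionField) =
        X.presheaf.stalkSpecializes hηx := by
      apply Spec.map_injective
      rw [← cancel_mono (X.fromSpecStalk x), Spec.map_comp, Category.assoc,
        Scheme.Spec_stalkClosedPointTo_fromSpecStalk, h1',
        Scheme.SpecMap_stalkSpecializes_fromSpecStalk]
    have hψ : ∀ a, ((ψ.hom a : R) : X.functionField) =
        algebraMap (X.presheaf.stalk x) X.functionField a := by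
      intro a
      have := congrArg (fun f => f.hom a) key
      exact this
    have hxη : x ≠ genericPoint X := by
      intro hx
      apply hR
      rw [eq_top_iff]
      intro a _
      obtain ⟨b, hb⟩ := H22.CurveValuation.surjective_algebraMap_of_eq_genericPoint x hx a
      rw [← hb, ← hψ b]
      exact (ψ.hom b).2
    haveI := hval x hxη
    haveI : IsLocalHom ψ.hom := Scheme.isLocalHom_stalkClosedPointTo' φ'
    refine ⟨x, H22.CurveValuation.eq_range_of_dominates R ψ.hom hψ, ?_⟩
    -- uniqueness
    intro y hy
    have hηy : genericPoint X ⤳ y := (genericPoint_spec X).specializes trivial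
    let e : X.presheaf.stalk y →+* R :=
      (algebraMap (X.presheaf.stalk y) X.functionField).codRestrict R.toSubring
        (fun a => by
          change algebraMap (X.presheaf.stalk y) X.functionField a ∈ (R : Set X.functionField)
          rw [hy]; exact ⟨a, rfl⟩)
    have hebij : Function.Bijective e := by
      constructor
      · intro a b hab
        apply IsFractionRing.injective (X.presheaf.stalk y) X.functionField
        exact congrArg Subtype.val hab
      · intro r
        have : (r : X.functionField) ∈ (R : Set X.functionField) := r.2
        rw [hy] at this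
        obtain ⟨a, ha⟩ := this
        exact ⟨a, Subtype.ext ha⟩
    let χ : Spec (CommRingCat.of R) ⟶ X := Spec.map (CommRingCat.ofHom e) ≫ X.fromSpecStalk y
    have hχ1 : Spec.map (CommRingCat.ofHom (algebraMap R X.functionField)) ≫ χ =
        X.fromSpecStalk (genericPoint X) := by
      rw [← Scheme.SpecMap_stalkSpecializes_fromSpecStalk hηy, ← Category.assoc, ← Spec.map_comp]
      rfl
    have hχ2 : χ ≫ sX = Spec.map (CommRingCat.ofHom kR) := by
      rw [Category.assoc, H22.FunFieldHom.fromSpecStalk_comp_over, ← Spec.map_comp]
      congr 1
      ext c
      change (X.presheaf.stalkSpecializes hηy).hom ((X.presheaf.germ ⊤ y trivial).hom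
        (Coh.toGlobal sX c)) = (X.presheaf.germ ⊤ (genericPoint X) trivial).hom (Coh.toGlobal sX c)
      rw [← CommRingCat.comp_apply, TopCat.Presheaf.germ_stalkSpecializes]
    have hχ3 : χ (IsLocalRing.closedPoint R) = y := by
      have hloc : IsLocalHom e :=
        isLocalHom_of_leftInverse (RingEquiv.ofBijective e hebij).symm
          (RingEquiv.ofBijective e hebij).symm_apply_apply
      have : Spec.map (CommRingCat.ofHom e) (IsLocalRing.closedPoint R) =
          IsLocalRing.closedPoint (X.presheaf.stalk y) := IsLocalRing.comap_closedPoint e
      rw [Scheme.Hom.comp_apply, this, Scheme.fromSpecStalk_closedPoint]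
    have heq : (⟨φ, h1, h2⟩ : Sq.commSq.LiftStruct) = ⟨χ, hχ1, hχ2⟩ := Subsingleton.elim _ _
    have hφχ : φ' = χ := congrArg CommSq.LiftStruct.l heq
    rw [← hχ3, ← hφχ]


end Groth.Agent.S4451
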