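import Groth.Statements.S4454
import Groth.Agent.H38.VarietyN2
import Groth.Agent.H38.NormExt2
import Groth.Agent.H38.N2FracExt
import Groth.Agent.H38.IntegralDimOne

set_option autoImplicit false
universe u
open CategoryTheory CategoryTheory.Limits AlgebraicGeometry
open EGA2

namespace Groth.Agent.S4454

/-- Case of an integral curve and a single field: let X be an integral algebraic curve over a field k, K
a finite extension of its field of rational functions and X' the integral closure of X in K (the
normalization of X along the morphism g : Spec K ⟶ X through the generic point). Then the canonical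
morphism X' ⟶ X is finite and X' is a normal algebraic curve over k (local rings integrally closed
domains, of dimension one at closed points). -/
theorem result (k : Type u) [Field k] (X : Scheme.{u})
    [X.Over (Spec (CommRingCat.of k))] [LocallyOfFiniteType (X ↘ (Spec (CommRingCat.of k)))]
    [QuasiCompact (X ↘ (Spec (CommRingCat.of k)))] [IsSeparated (X ↘ (Spec (CommRingCat.of k)))] [IsIntegral X]
    (hX : ∀ x : X, IsClosed ({x} : Set X) → ringKrullDim (X.presheaf.stalk x) = 1)
    (K : Type u) [Field K] (φ : X.functionField →+* K) (hφ : φ.Finite) (g : Spec (CommRingCat.of K) ⟶ X)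
    (hg : g = Spec.map (CommRingCat.ofHom φ) ≫ X.fromSpecStalk (genericPoint X)) [QuasiCompact g] [QuasiSeparated g] :
    IsFinite g.fromNormalization ∧ Pi1.IsNormalScheme g.normalization ∧
      ∀ x' : g.normalization, IsClosed ({x'} : Set g.normalization) → ringKrullDim (g.normalization.presheaf.stalk x') = 1 := by
  subst hg
  -- finiteness of the integral closures over affine opens
  have hfinU : ∀ (U : X.Opens) (hU : IsAffineOpen U) (hne : (U : Set X).Nonempty),
      letI := Groth.Agent.H38.NormExt.extAlg X K φ hne
      Module.Finite Γ(X, U) (integralClosure Γ(X, U) K) := by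
    intro U hU hne
    have hne' : Nonempty ↥U := ⟨⟨_, hne.some_mem⟩⟩
    letI := Groth.Agent.H38.NormExt.extAlg X K φ hne
    letI := Groth.Agent.H38.NormAffine.germAlg X hne
    haveI hfr := Groth.Agent.H38.NormAffine.isFractionRing_germ X hU hne
    haveI hdom : IsDomain Γ(X, U) := @IsIntegral.component_integral X _ U hne'
    letI : Algebra X.functionField K := φ.toAlgebra
    haveI : IsScalarTower Γ(X, U) X.functionField K := IsScalarTower.of_algebraMap_eq (fun _ => rfl)
    haveI : FiniteDimensional X.functionField K := hφ
    exact Groth.Agent.H38.finite_integralClosure_of_isN2_of_finite Γ(X, U) X.functionField K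
      (Groth.Agent.H38.VarietyN2.isN2_sections k X U hU hne')
  have hfin : IsFinite (Groth.Agent.H38.NormExt.gMor X K φ).fromNormalization :=
    Groth.Agent.H38.NormExt.isFinite_of_finite_integralClosure X K φ hfinU
  refine ⟨hfin, Groth.Agent.H38.NormExt.isNormalScheme_normalization X K φ, ?_⟩
  intro x' hx'
  set ν := (Groth.Agent.H38.NormExt.gMor X K φ).fromNormalization with hν
  have hclosed : IsClosed ({ν x'} : Set X) := by
    have := ν.isClosedMap _ hx'
    rwa [Set.image_singleton] at this
  have hdim := hX (ν x') hclosed
  obtain ⟨_, ⟨U : X.Opens, hU', rfl⟩, hxU, -⟩ :=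
    X.isBasis_affineOpens.exists_subset_of_mem_open (Set.mem_univ (ν x')) isOpen_univ
  have hU : IsAffineOpen U := hU'
  have hne : (U : Set X).Nonempty := ⟨_, hxU⟩
  have hV : IsAffineOpen (ν ⁻¹ᵁ U) := hU.preimage ν
  haveI := Groth.Agent.H38.NormExt.isDomain_sections X K φ hU hne
  have hfinapp := Groth.Agent.H38.NormExt.finite_app_of_finite_integralClosure X K φ hU hne
    (hfinU U hU hne)
  have hinj : Function.Injective (ν.app U).hom := by
    intro a b hab
    have h1 := Groth.Agent.H38.NormExt.toK_app_apply X K φ hU hne a
    have h2 := Groth.Agent.H38.NormExt.toK_app_apply X K φ hU hne b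
    rw [hab] at h1
    have h3 : Groth.Agent.H38.NormExt.secToK X K φ hne a =
        Groth.Agent.H38.NormExt.secToK X K φ hne b := h1.symm.trans h2
    have hne' : Nonempty ↥U := ⟨⟨_, hne.some_mem⟩⟩
    letI := Groth.Agent.H38.NormAffine.germAlg X hne
    haveI hfr := Groth.Agent.H38.NormAffine.isFractionRing_germ X hU hne
    exact (IsFractionRing.injective Γ(X, U) X.functionField) (φ.injective h3)
  exact Groth.Agent.H38.ringKrullDim_stalk_eq_one_of_integral ν hU hV hfinapp.to_isIntegral hinj
    x' hxU hdim

end Groth.Agent.S4454
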