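import Groth.Statements.S4457
import Groth.Agent.Lead.Coh.RpushAffineOpen
import Groth.Agent.H30.Degenerate
import Groth.Agent.H30.GrothSSExt
import Groth.Agent.H30.FlasquePush

set_option autoImplicit false
universe u
open Coherent

namespace Groth.Agent.S4457

open AlgebraicGeometry CategoryTheory in
/-- Let f : X → Y be a separated quasi-compact morphism, g : Y → Z an affine morphism and F a
quasi-coherent O_X-module. Then for every p ≥ 0, R^p (g ∘ f)_* F is isomorphic to g_*(R^p f_* F)
(higher direct images and direct image of the underlying abelian sheaves). The source shows that the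
canonical comparison map is an isomorphism; only the existence of an isomorphism is asserted here. -/
theorem result {X Y Z : Scheme.{u}} (f : X ⟶ Y) (g : Y ⟶ Z)
    [IsSeparated f] [QuasiCompact f] [IsAffineHom g] (F : X.Modules) [Coh.IsQCoh F] (p : ℕ) :
    Nonempty ((Coh.RpushAb (f ≫ g) p).obj (Coh.toAb F) ≅
      (Coh.pushAb g).obj ((Coh.RpushAb f p).obj (Coh.toAb F))) := by
  let _ : HasDerivedCategory.{u + 1} (CohTop.Ab X.carrier) := HasDerivedCategory.standard _
  let _ : HasDerivedCategory.{u + 1} (CohTop.Ab Y.carrier) := HasDerivedCategory.standard _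
  let _ : HasDerivedCategory.{u + 1} (CohTop.Ab Z.carrier) := HasDerivedCategory.standard _
  let T := CohTop.push f.base
  let S := CohTop.push g.base
  have hT : ∀ Q : CohTop.Ab X.carrier, Injective Q → ∀ q : ℕ, 0 < q →
      Limits.IsZero ((S.rightDerived q).obj (T.obj Q)) := by
    intro Q _ q hq
    have : TopCat.Sheaf.IsFlasque Q := Groth.Agent.H30.Flasque.isFlasque_of_injective Q
    have : TopCat.Sheaf.IsFlasque (T.obj Q) := inferInstance
    exact Groth.Agent.H30.FlasquePush.acyclic_push g.base (T.obj Q) q hq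
  have hac : ∀ q : ℕ, Groth.Agent.H30.Leray.acyclic S ((T.rightDerived q).obj (Coh.toAb F)) := by
    intro q i hi
    obtain ⟨j, rfl⟩ : ∃ j, i = j + 1 := ⟨i - 1, by omega⟩
    refine Groth.Agent.H30.LocalExact.isZero_Rpush_of_basis g.base
      ((T.rightDerived q).obj (Coh.toAb F)) j Z.affineOpens Z.isBasis_affineOpens ?_
    intro W hW
    have hV : IsAffineOpen (g ⁻¹ᵁ W) := IsAffineOpen.preimage hW g
    exact Groth.Agent.Lead.Rpush.subsingleton_HU_Rpush_of_isAffineOpen F f (g ⁻¹ᵁ W) hV q j
  obtain ⟨e1⟩ := Groth.Agent.H30.Degenerate.iso_of_acyclic T S hT (Coh.toAb F) hac p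
  let e3 : CohTop.push (f ≫ g).base ≅ T ⋙ S := Iso.refl _
  let e4 := (Groth.Agent.H30.GrothSSExt.rightDerivedIsoOfIso e3 p).app (Coh.toAb F)
  exact ⟨e4 ≪≫ e1⟩

end Groth.Agent.S4457
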