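import Groth.Statements.S4459
-- import your own Groth.Agent.* helpers here

set_option autoImplicit false
universe u
open Coherent

namespace Groth.Agent.S4459

open AlgebraicGeometry CategoryTheory in
/-- Let A be a Noetherian ring which is separated and complete for the J-adic topology, and let f : X →
Spec A be a morphism of schemes which is a closed map on underlying spaces. Then every open subset
of X containing the inverse image of V(J) is all of X. (The published statement also assumes X of
finite type over A; that hypothesis is not used.) -/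
theorem result (A : Type u) [CommRing A] [IsNoetherianRing A]
    (J : Ideal A) [IsAdicComplete J A] {X : Scheme.{u}} (f : X ⟶ Spec (CommRingCat.of A))
    (hf : IsClosedMap f.base) (U : X.Opens)
    (hU : f.base ⁻¹' (PrimeSpectrum.zeroLocus (J : Set A)) ⊆ (U : Set X)) : U = ⊤ := by
  by_contra hne
  have hZ : IsClosed ((U : Set X)ᶜ) := U.isOpen.isClosed_compl
  obtain ⟨z, hz⟩ : ((U : Set X)ᶜ).Nonempty := by
    rw [Set.nonempty_compl]
    intro h
    exact hne (TopologicalSpace.Opens.ext h)
  have hfZ : IsClosed (f.base '' ((U : Set X)ᶜ)) := hf _ hZ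
  let y : PrimeSpectrum A := f.base z
  obtain ⟨m, hm, hym⟩ := Ideal.exists_le_maximal y.asIdeal y.2.ne_top
  let ym : PrimeSpectrum A := ⟨m, hm.isPrime⟩
  have hsp : y ⤳ ym := (PrimeSpectrum.le_iff_specializes _ _).mp hym
  have hmem : ym ∈ f.base '' ((U : Set X)ᶜ) := hsp.mem_closed hfZ ⟨z, hz, rfl⟩
  have hJm : J ≤ m := (IsAdicComplete.le_jacobson_bot J).trans
    (by rw [Ideal.jacobson_bot]; exact Ring.jacobson_le_of_isMaximal m)
  obtain ⟨x, hx, hxm⟩ := hmem
  apply hx
  apply hU
  change f.base x ∈ PrimeSpectrum.zeroLocus (J : Set A)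
  rw [hxm]
  exact (PrimeSpectrum.mem_zeroLocus _ _).mpr hJm


end Groth.Agent.S4459
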