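import Groth.Statements.S4474
import Groth.Agent.H18.Counit.EpiCrit

set_option autoImplicit false
universe u
open Coherent

namespace Groth.Agent.S4474

open AlgebraicGeometry CategoryTheory in
/-- Let Y be a Noetherian scheme, f : X → Y a proper morphism, L an invertible O_X-module which is ample
relative to f, and F a coherent O_X-module. Then there is an integer N such that for every n ≥ N the
canonical morphism f^* f_* (F(n)) → F(n), the counit of the adjunction between f^* and f_*, is an
epimorphism, where F(n) = F ⊗ L^{⊗ n}. -/
theorem result {X Y : Scheme.{u}} (f : X ⟶ Y) [IsNoetherian Y] [IsProper f]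
    (L : X.Modules) (hL : PicF.IsInvertible L) (hamp : RelAmple.IsRelAmple f L) (F : X.Modules)
    (hF : Coh.IsCoh F) :
    ∃ N : ℕ, ∀ n : ℕ, N ≤ n →
      Epi ((Scheme.Modules.pullbackPushforwardAdjunction f).counit.app
        (CohB1.tensorMod F (CohB1.tensorPow L n))) := by
  obtain ⟨hqc, hft⟩ := hF
  haveI : F.IsQuasicoherent := hqc
  haveI : SheafOfModules.IsFiniteType (R := X.ringCatSheaf) F := hft
  haveI : CompactSpace Y := inferInstance
  haveI : CompactSpace X := by
    have := AlgebraicGeometry.QuasiCompact.isCompact_preimage (f := f) _ isOpen_univ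
      (CompactSpace.isCompact_univ (X := Y))
    exact ⟨by simpa using this⟩
  exact Groth.Agent.H18.CounitCrit.exists_forall_epi_counit_twist f hamp F

end Groth.Agent.S4474
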