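import Groth.Statements.S4475
import Groth.Agent.H79.KoszulPoly

set_option autoImplicit false
universe u
open Koszul3

namespace Groth.Agent.S4475

open CategoryTheory CategoryTheory.Limits in
/-- Let A be a ring, S = A[T_0, …, T_r] the polynomial ring and T = (T_0, …, T_r). Then the direct-limit
Koszul cohomology H^i((T), S), the colimit over n of the Koszul cohomologies H^i(T^n, S), vanishes
for every i ≠ r + 1, and H^(r+1)((T), S) is a free A-module (the source gives an explicit basis
indexed by the monomials with all exponents positive). -/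
theorem result (A : Type u) [CommRing A] (r : ℕ) :
    (∀ i : ℕ, i ≠ r + 1 →
      Subsingleton (CohIII.koszulHLim (List.ofFn (fun j : Fin (r + 1) => (MvPolynomial.X j : MvPolynomial (Fin (r + 1)) A)))
        (ModuleCat.of (MvPolynomial (Fin (r + 1)) A) (MvPolynomial (Fin (r + 1)) A)) i)) ∧
    Module.Free A (RestrictScalars A (MvPolynomial (Fin (r + 1)) A)
      (CohIII.koszulHLim (List.ofFn (fun j : Fin (r + 1) => (MvPolynomial.X j : MvPolynomial (Fin (r + 1)) A)))
        (ModuleCat.of (MvPolynomial (Fin (r + 1)) A) (MvPolynomial (Fin (r + 1)) A)) (r + 1))) := by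
  constructor
  · intro i hi
    have hq : ((i : ℤ) - ((List.ofFn (fun j : Fin (r + 1) =>
        (MvPolynomial.X j : MvPolynomial (Fin (r + 1)) A))).length : ℤ)) ≠ 0 := by
      rw [List.length_ofFn]
      intro h
      apply hi
      have : (i : ℤ) = ((r + 1 : ℕ) : ℤ) := by linarith
      exact_mod_cast this
    exact Groth.Agent.H79.KoszulPoly.subsingleton_directLimit A (r + 1) _ hq
  · have hq : (((r + 1 : ℕ) : ℤ) - ((List.ofFn (fun j : Fin (r + 1) =>
        (MvPolynomial.X j : MvPolynomial (Fin (r + 1)) A))).length : ℤ)) = 0 := by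
      rw [List.length_ofFn]
      simp
    exact Groth.Agent.H79.KoszulPoly.free_directLimit A (r + 1) _ hq

end Groth.Agent.S4475
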