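import Groth.Statements.S4489
import Groth.Agent.H60.THom
-- import your own Groth.Agent.* helpers here

set_option autoImplicit false
universe u
open FlatCx

namespace Groth.Agent.S4489

open CategoryTheory CohIII Groth.Agent.H12.TCx Groth.Agent.H60.THom

theorem flat_submodule_of_flat_dedekind {A : Type u} [CommRing A] [IsDedekindDomain A]
    {M : Type u} [AddCommGroup M] [Module A M] [Module.Flat A M] (N : Submodule A M) :
    Module.Flat A N := by
  rw [IsDedekindDomain.flat_iff_torsion_eq_bot]
  have hM : Submodule.torsion A M = ⊥ := Module.Flat.torsion_eq_bot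
  rw [eq_bot_iff]
  intro x hx
  rw [Submodule.mem_torsion_iff] at hx
  obtain ⟨a, ha⟩ := hx
  have h1 : (x : M) ∈ Submodule.torsion A M := by
    rw [Submodule.mem_torsion_iff]
    refine ⟨a, ?_⟩
    have := congrArg Subtype.val ha
    simpa using this
  rw [hM, Submodule.mem_bot] at h1
  rw [Submodule.mem_bot]
  exact Subtype.ext h1

open CategoryTheory CategoryTheory.Limits in
/-- For the homological functor T_p(M) = H_p(P ⊗_A M) of a chain complex P of flat modules, stated over
a Dedekind domain A. (The published statement allows A to be a finite product of Dedekind domains,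
that is, a Noetherian regular ring of dimension at most 1; this row takes A a Dedekind domain.) Then
T_p takes injections to injections if and only if H_p(P) is a flat A-module; and, with q + 1 = p,
T_p takes injections to injections and surjections to surjections if and only if H_p(P) and H_q(P)
are both flat. -/
theorem result {A : Type u} [CommRing A] [IsDedekindDomain A]
    (P : ChainComplex (ModuleCat.{u} A) ℤ) (hP : ∀ i, Module.Flat A (P.X i)) (p q : ℤ) (hpq : q + 1 = p) :
    ((CohIII.TFun P p).PreservesMonomorphisms ↔ Module.Flat A (P.homology p)) ∧
      (((CohIII.TFun P p).PreservesMonomorphisms ∧ (CohIII.TFun P p).PreservesEpimorphisms) ↔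
        (Module.Flat A (P.homology p) ∧ Module.Flat A (P.homology q))) := by
  have hrel : (ComplexShape.down ℤ).Rel p q := by simp [hpq]
  have hB : ∀ i : ℤ, Module.Flat A (LinearMap.range (lW P i)) := by
    intro i
    have := hP ((ComplexShape.down ℤ).next i)
    exact flat_submodule_of_flat_dedekind _
  have h1 : ∀ i : ℤ, (CohIII.TFun P i).PreservesMonomorphisms ↔ Module.Flat A (P.homology i) := by
    intro i
    rw [preservesMono_iff_flat_W P i (hP _), flat_homology_iff_flat_W P i (hB i)]
  refine ⟨h1 p, ?_⟩
  rw [preservesEpi_iff_preservesMono P hP p q hrel, h1 p, h1 q]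

end Groth.Agent.S4489
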