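import Groth.Statements.S4491
import Groth.Agent.H12.TCx6
-- import your own Groth.Agent.* helpers here

set_option autoImplicit false
universe u
open FlatCx

namespace Groth.Agent.S4491

open CategoryTheory CohIII Groth.Agent.H12.TCx

theorem TFun_map_smul {A : Type u} [CommRing A] {ι : Type} {c : ComplexShape ι}
    (P : HomologicalComplex (ModuleCat.{u} A) c) (q : ι) (M : ModuleCat.{u} A) (f : A)
    (t : T P q M) :
    ((TFun P q).map (ModuleCat.ofHom (X := M) (Y := M) (f • (LinearMap.id : M →ₗ[A] M)))).hom t = f • t := by
  obtain ⟨z, rfl⟩ := cls_surjective P q M t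
  rw [TFun_map_cls, ← map_smul]
  congr 1
  apply Subtype.ext
  change (ModuleCat.Hom.hom (ModuleCat.ofHom (X := M) (Y := M) (f • (LinearMap.id : M →ₗ[A] M)))).lTensor (P.X q) z.1 = f • z.1
  rw [ModuleCat.hom_ofHom, LinearMap.lTensor_smul, LinearMap.lTensor_id]
  rfl

open CategoryTheory CategoryTheory.Limits in
/-- For the homological functor T_i(M) = H_i(P ⊗_A M) of a chain complex P of flat modules over a
commutative ring A. Let q + 1 = p and suppose T_p takes surjections to surjections. If
multiplication by f ∈ A is injective on an A-module M, then multiplication by f is injective on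
T_q(M). In particular, when A is a domain, T_q(A) is torsion-free. -/
theorem result {A : Type u} [CommRing A]
    (P : ChainComplex (ModuleCat.{u} A) ℤ) (hP : ∀ i, Module.Flat A (P.X i)) (p q : ℤ) (hpq : q + 1 = p)
    (hex : (CohIII.TFun P p).PreservesEpimorphisms) :
    (∀ (M : ModuleCat.{u} A) (f : A), Function.Injective (fun x : M => f • x) →
        Function.Injective (fun y : CohIII.T P q M => f • y)) ∧
      (IsDomain A → NoZeroSMulDivisors A (CohIII.T P q (ModuleCat.of A A))) := by
  have hrel : (ComplexShape.down ℤ).Rel p q := by simp [hpq]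
  have hmono := (preservesEpi_iff_preservesMono P hP p q hrel).1 hex
  have key : ∀ (M : ModuleCat.{u} A) (f : A), Function.Injective (fun x : M => f • x) →
      Function.Injective (fun y : CohIII.T P q M => f • y) := by
    intro M f hf
    have hm : Mono (ModuleCat.ofHom (X := M) (Y := M) (f • (LinearMap.id : M →ₗ[A] M))) := by
      rw [ModuleCat.mono_iff_injective]
      exact hf
    have hinj := (ModuleCat.mono_iff_injective _).1 (hmono.preserves
      (ModuleCat.ofHom (X := M) (Y := M) (f • (LinearMap.id : M →ₗ[A] M))))
    intro y₁ y₂ h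
    apply hinj
    rw [TFun_map_smul, TFun_map_smul]
    exact h
  refine ⟨key, fun hdom => ?_⟩
  refine ⟨fun {c x} hcx => ?_⟩
  by_cases hc : c = 0
  · exact Or.inl hc
  · right
    have hinj := key (ModuleCat.of A A) c (by
      intro a b hab
      exact mul_left_cancel₀ hc hab)
    apply hinj
    change c • x = c • 0
    rw [hcx, smul_zero]

end Groth.Agent.S4491
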