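import Groth.Statements.S4501
import Mathlib
import Groth.Agent.H12.BridgeW
-- import your own Groth.Agent.* helpers here

set_option autoImplicit false
universe u
open FlatCx

namespace Groth.Agent.S4501

open CategoryTheory CohIII Groth.Agent.H12.TCx TensorProduct

theorem flat_tensor_iff_mem_freeLocus {A : Type u} [CommRing A] [IsNoetherianRing A]
    (W : Type u) [AddCommGroup W] [Module A W] [Module.Finite A W] (y : PrimeSpectrum A) :
    Module.Flat (Localization.AtPrime y.asIdeal) (Localization.AtPrime y.asIdeal ⊗[A] W) ↔
      y ∈ Module.freeLocus A W := by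
  rw [Module.mem_freeLocus_iff_tensor y (Localization.AtPrime y.asIdeal)]
  constructor
  · intro h
    exact Module.free_of_flat_of_isLocalRing
  · intro h
    infer_instance

theorem bot_mem_freeLocus {A : Type u} [CommRing A] [IsDomain A]
    (W : Type u) [AddCommGroup W] [Module A W] :
    (⟨⊥, Ideal.isPrime_bot⟩ : PrimeSpectrum A) ∈ Module.freeLocus A W := by
  rw [Module.mem_freeLocus_iff_tensor _ (Localization.AtPrime (⊥ : Ideal A))]
  have : IsFractionRing A (Localization.AtPrime (⊥ : Ideal A)) := by
    simpa [Ideal.primeCompl_bot] using Localization.isLocalization (M := (⊥ : Ideal A).primeCompl)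
  let : Field (Localization.AtPrime (⊥ : Ideal A)) := IsFractionRing.toField A
  exact Module.Free.of_divisionRing _ _

open CategoryTheory CategoryTheory.Limits in
/-- The case of finitely generated flat terms. Let A be a Noetherian domain, P a chain complex of
finitely generated flat A-modules, and for a prime y of A let P_y be the base change of P to the
local ring A_y. Then the set U of points y of Spec A such that the functor N ↦ H_p(P_y ⊗_{A_y} N) on
A_y-modules takes injections to injections and surjections to surjections is open and nonempty (it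
contains the generic point). -/
theorem result {A : Type u} [CommRing A] [IsNoetherianRing A] [IsDomain A]
    (P : ChainComplex (ModuleCat.{u} A) ℤ) (hP : ∀ i, Module.Finite A (P.X i) ∧ Module.Flat A (P.X i))
    (p : ℤ) :
    IsOpen {y : PrimeSpectrum A |
        (CohIII.TFun (CohIII.bcCx (algebraMap A (Localization.AtPrime y.asIdeal)) P) p).PreservesMonomorphisms ∧
          (CohIII.TFun (CohIII.bcCx (algebraMap A (Localization.AtPrime y.asIdeal)) P) p).PreservesEpimorphisms} ∧
      {y : PrimeSpectrum A |
        (CohIII.TFun (CohIII.bcCx (algebraMap A (Localization.AtPrime y.asIdeal)) P) p).PreservesMonomorphisms ∧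
          (CohIII.TFun (CohIII.bcCx (algebraMap A (Localization.AtPrime y.asIdeal)) P) p).PreservesEpimorphisms}.Nonempty := by
  have hfl : ∀ i, Module.Flat A (P.X i) := fun i => (hP i).2
  have hrel : (ComplexShape.down ℤ).Rel p ((ComplexShape.down ℤ).next p) := by
    rw [ChainComplex.next]
    simp
  have hfin : ∀ i, Module.Finite A (W P i) := by
    intro i
    have := (hP i).1
    infer_instance
  have hset : {y : PrimeSpectrum A |
        (CohIII.TFun (CohIII.bcCx (algebraMap A (Localization.AtPrime y.asIdeal)) P) p).PreservesMonomorphisms ∧
          (CohIII.TFun (CohIII.bcCx (algebraMap A (Localization.AtPrime y.asIdeal)) P) p).PreservesEpimorphisms} =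
      Module.freeLocus A (W P p) ∩ Module.freeLocus A (W P ((ComplexShape.down ℤ).next p)) := by
    ext y
    have := hfin p
    have := hfin ((ComplexShape.down ℤ).next p)
    simp only [Set.mem_ofPred_eq, Set.mem_inter_iff]
    rw [Groth.Agent.H12.BW.preservesMono_bcCx_iff (Localization.AtPrime y.asIdeal) P p hfl,
      Groth.Agent.H12.BW.preservesEpi_bcCx_iff (Localization.AtPrime y.asIdeal) P p hfl hrel,
      flat_tensor_iff_mem_freeLocus, flat_tensor_iff_mem_freeLocus]
  rw [hset]
  have := hfin p
  have := hfin ((ComplexShape.down ℤ).next p)
  have h1 : Module.FinitePresentation A (W P p) := Module.finitePresentation_of_finite A _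
  have h2 : Module.FinitePresentation A (W P ((ComplexShape.down ℤ).next p)) :=
    Module.finitePresentation_of_finite A _
  refine ⟨Module.isOpen_freeLocus.inter Module.isOpen_freeLocus, ?_⟩
  exact ⟨(⟨⊥, Ideal.isPrime_bot⟩ : PrimeSpectrum A), bot_mem_freeLocus _, bot_mem_freeLocus _⟩

end Groth.Agent.S4501
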