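import Groth.Statements.S4509
import Groth.Agent.H12.RankDVR

set_option autoImplicit false
universe u
open FlatCx

namespace Groth.Agent.S4509

open CategoryTheory CategoryTheory.Limits in
/-- The chain of inequalities for the homological functor T_p(M) = H_p(P ⊗_A M) of a chain complex P of
flat modules over a discrete valuation ring A with fraction field K and residue field k, the modules
T_i(A) = H_i(P) being finitely generated: dim_k T_p(k) ≥ dim_k (T_p(A) ⊗_A k) ≥ rank_A T_p(A) =
dim_K T_p(K). Stated as the two inequalities dim_K H_p(P ⊗_A K) ≤ dim_k (k ⊗_A H_p(P)) ≤ dim_k H_p(P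
⊗_A k). -/
theorem result {A : Type u} [CommRing A] [IsDomain A] [IsDiscreteValuationRing A]
    (P : ChainComplex (ModuleCat.{u} A) ℤ) (hP : ∀ i, Module.Flat A (P.X i))
    (hfin : ∀ i, Module.Finite A (P.homology i)) (p : ℤ) :
    Module.finrank (FractionRing A) ((CohIII.bcCx (algebraMap A (FractionRing A)) P).homology p) ≤
        Module.finrank (IsLocalRing.ResidueField A)
          (TensorProduct A (IsLocalRing.ResidueField A) (P.homology p)) ∧
      Module.finrank (IsLocalRing.ResidueField A)
          (TensorProduct A (IsLocalRing.ResidueField A) (P.homology p)) ≤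
        Module.finrank (IsLocalRing.ResidueField A)
          ((CohIII.bcCx (algebraMap A (IsLocalRing.ResidueField A)) P).homology p) := by
  classical
  have hrel : (ComplexShape.down ℤ).Rel p ((ComplexShape.down ℤ).next p) := by
    rw [ChainComplex.next]; simp
  have : ∀ i, Module.Flat A (P.X i) := hP
  have : ∀ i, Module.Finite A (P.homology i) := hfin
  have hBd : Module.Flat A (LinearMap.range (Groth.Agent.H12.TCx.lW P p)) := inferInstance
  have hZ : Module.Flat A (LinearMap.ker (Groth.Agent.H12.TCx.d₀ P ((ComplexShape.down ℤ).next p))) :=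
    inferInstance
  have hB' : Module.Flat A
      (LinearMap.range (Groth.Agent.H12.TCx.d₀ P ((ComplexShape.down ℤ).next p))) := inferInstance
  -- the fraction field
  have hK3 : Subsingleton (Groth.Agent.H12.RankDVR.X₃ (FractionRing A) P p) := by
    have hinj : Function.Injective
        ((LinearMap.range (Groth.Agent.H12.TCx.lW P p)).subtype.baseChange (FractionRing A)) :=
      Module.Flat.lTensor_preserves_injective_linearMap _ (Submodule.subtype_injective _)
    have hbot : Groth.Agent.H12.RankDVR.X₃ (FractionRing A) P p = ⊥ := LinearMap.ker_eq_bot.mpr hinj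
    rw [hbot]
    infer_instance
  have hK3fin : Module.Finite (FractionRing A) (Groth.Agent.H12.RankDVR.X₃ (FractionRing A) P p) :=
    inferInstance
  have hK := Groth.Agent.H12.RankDVR.finrank_homology_bcCx (FractionRing A) P p hBd
  have hK0 : Module.finrank (FractionRing A) (Groth.Agent.H12.RankDVR.X₃ (FractionRing A) P p) = 0 :=
    Module.finrank_zero_of_subsingleton
  -- the residue field
  obtain ⟨e3⟩ := Groth.Agent.H12.RankDVR.tor_equiv_X₃ (IsLocalRing.ResidueField A) P p hrel
  have hkfinA : Module.Finite A (IsLocalRing.ResidueField A) :=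
    inferInstanceAs (Module.Finite A (A ⧸ IsLocalRing.maximalIdeal A))
  have hTorFin : Module.Finite A (DRing.Tor A 1 (P.homology ((ComplexShape.down ℤ).next p))
      (IsLocalRing.ResidueField A)) := Groth.Agent.H12.UCTB.finite_tor_one _ _
  have hk3finA : Module.Finite A (LinearMap.ker
      ((LinearMap.range (Groth.Agent.H12.TCx.lW P p)).subtype.lTensor (IsLocalRing.ResidueField A))) :=
    Module.Finite.equiv e3
  have hk3fin : Module.Finite (IsLocalRing.ResidueField A)
      (Groth.Agent.H12.RankDVR.X₃ (IsLocalRing.ResidueField A) P p) :=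
    Groth.Agent.H12.RankDVR.finite_ker_baseChange_of_finite_ker_lTensor _ _ hk3finA
  have hk := Groth.Agent.H12.RankDVR.finrank_homology_bcCx (IsLocalRing.ResidueField A) P p hBd
  have hle := Groth.Agent.H12.DVRRank.finrank_le (A := A) (P.homology p)
  rw [hK, hk, hK0, add_zero]
  exact ⟨hle, Nat.le_add_right _ _⟩

end Groth.Agent.S4509
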