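import Groth.Statements.S4516
import Mathlib

set_option autoImplicit false
universe u
open EGA41

namespace Groth.Agent.S4516

/-- Let p be a prime, B an A-algebra of characteristic p and A' an A-subalgebra of B contained in
A[B^p]. Then the canonical map between Ω_{B/A} and Ω_{B/A'} is bijective (every A-derivation of B
vanishes on A[B^p]). -/
theorem result (p : ℕ) [Fact p.Prime] {A B : Type u}
    [CommRing A] [CommRing B] [Algebra A B] [CharP B p] (A' : Subalgebra A B)
    (hA' : A' ≤ EGA41.pPowerSubalgebra p A B) :
    Function.Bijective (KaehlerDifferential.map A A' B B) := by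
  have hD : ∀ a ∈ EGA41.pPowerSubalgebra p A B, KaehlerDifferential.D A B a = 0 := by
    intro a ha
    unfold EGA41.pPowerSubalgebra at ha
    induction ha using Algebra.adjoin_induction with
    | mem x hx =>
      obtain ⟨b, rfl⟩ := hx
      rw [Derivation.leibniz_pow]
      have : (p : B) = 0 := CharP.cast_eq_zero B p
      rw [← Nat.cast_smul_eq_nsmul B, this, zero_smul]
    | algebraMap r => simp
    | add x y _ _ hx hy => simp [hx, hy]
    | mul x y _ _ hx hy => simp [hx, hy]
  refine ⟨?_, KaehlerDifferential.map_surjective A A' B⟩
  rw [← LinearMap.ker_eq_bot, ← KaehlerDifferential.range_mapBaseChange, LinearMap.range_eq_bot]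
  ext t
  have := hD _ (hA' t.2)
  simpa using this

end Groth.Agent.S4516
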