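import Groth.Statements.S4524
import Mathlib

set_option autoImplicit false
universe u
open EGA41

namespace Groth.Agent.S4524

/-- Let k be a field of characteristic 0 and K an extension of k. Then Ω_{K/k} = 0 if and only if K is
an algebraic extension of k. -/
theorem result {k K : Type u} [Field k] [CharZero k] [Field K] [Algebra k K] :
    Subsingleton (Ω[K⁄k]) ↔ Algebra.IsAlgebraic k K := by
  classical
  constructor
  · intro hΩ
    obtain ⟨ι, x, hx⟩ := exists_isTranscendenceBasis' k K
    rw [← hx.isEmpty_iff_isAlgebraic]
    have hinj : Function.Injective (MvPolynomial.aeval x : MvPolynomial ι k →ₐ[k] K) := hx.1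
    let _ : Algebra (MvPolynomial ι k) K :=
      (MvPolynomial.aeval x : MvPolynomial ι k →ₐ[k] K).toRingHom.toAlgebra
    have hmap : ∀ p : MvPolynomial ι k, algebraMap (MvPolynomial ι k) K p =
        MvPolynomial.aeval x p := fun _ => rfl
    have : IsScalarTower k (MvPolynomial ι k) K :=
      IsScalarTower.of_algebraMap_eq fun a => by
        rw [hmap, MvPolynomial.algebraMap_eq, MvPolynomial.aeval_C]
    have hinj' : Function.Injective (algebraMap (MvPolynomial ι k) K) := hinj
    let _ : Algebra (FractionRing (MvPolynomial ι k)) K :=
      (IsFractionRing.lift (g := algebraMap (MvPolynomial ι k) K) hinj').toAlgebra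
    have : IsScalarTower (MvPolynomial ι k) (FractionRing (MvPolynomial ι k)) K :=
      IsScalarTower.of_algebraMap_eq fun a => (IsFractionRing.lift_algebraMap hinj' a).symm
    -- `K` is algebraic over the fraction field
    have halg : Algebra.IsAlgebraic (FractionRing (MvPolynomial ι k)) K := by
      constructor
      intro y
      have h1 : IsAlgebraic (Algebra.adjoin k (Set.range x)) y := hx.isAlgebraic.isAlgebraic y
      have h2 : IsAlgebraic (MvPolynomial ι k) y := by
        have := (isAlgebraic_ringHom_iff_of_comp_eq (R := Algebra.adjoin k (Set.range x))
          (S := MvPolynomial ι k) (A := K) (B := K)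
          (hx.1.aevalEquiv.symm : Algebra.adjoin k (Set.range x) ≃+* MvPolynomial ι k)
          (RingHom.id K) Function.injective_id (by
            ext p
            obtain ⟨q, rfl⟩ := hx.1.aevalEquiv.surjective p
            simp [hmap])
          (a := y)).mpr h1
        simpa using this
      exact h2.extendScalars (IsFractionRing.injective (MvPolynomial ι k) (FractionRing (MvPolynomial ι k)))
    have : CharZero (FractionRing (MvPolynomial ι k)) :=
      charZero_of_injective_algebraMap
        (FaithfulSMul.algebraMap_injective k (FractionRing (MvPolynomial ι k)))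
    have : Algebra.IsSeparable (FractionRing (MvPolynomial ι k)) K := inferInstance
    have : Algebra.FormallyEtale (FractionRing (MvPolynomial ι k)) K :=
      Algebra.FormallyEtale.of_isSeparable _ _
    have : Algebra.FormallyEtale (MvPolynomial ι k) (FractionRing (MvPolynomial ι k)) :=
      Algebra.FormallyEtale.of_isLocalization (nonZeroDivisors (MvPolynomial ι k))
    have : Algebra.FormallyEtale (MvPolynomial ι k) K :=
      Algebra.FormallyEtale.comp (MvPolynomial ι k) (FractionRing (MvPolynomial ι k)) K
    let e := KaehlerDifferential.tensorKaehlerEquivOfFormallyEtale k (MvPolynomial ι k) K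
    have hsub : Subsingleton (TensorProduct (MvPolynomial ι k) K (Ω[MvPolynomial ι k⁄k])) :=
      e.injective.subsingleton
    let b := (KaehlerDifferential.mvPolynomialBasis k ι).baseChange K
    refine ⟨fun i => ?_⟩
    exact b.ne_zero i (Subsingleton.elim _ _)
  · intro halg
    have : Algebra.IsSeparable k K := inferInstance
    have : Algebra.FormallyEtale k K := Algebra.FormallyEtale.of_isSeparable _ _
    exact Algebra.FormallyUnramified.subsingleton_kaehlerDifferential

end Groth.Agent.S4524
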