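import Groth.Statements.S4558
import Mathlib

set_option autoImplicit false
universe u
open EGA41

namespace Groth.Agent.S4558

/-- Let A be a discrete ring, B an adic topological A-algebra with ideal of definition 𝔫 (B separated
and complete for the 𝔫-adic topology) and B₀ = B/𝔫. If Ω_{B₀/A} and 𝔫/𝔫² are B₀-modules of finite
type, then Ω̂_{B/A}, the 𝔫-adic completion of Ω_{B/A}, is a B-module of finite type. -/
theorem result {A B : Type u} [CommRing A] [CommRing B] [Algebra A B] (𝔫 : Ideal B)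
    [IsAdicComplete 𝔫 B] [Module.Finite (B ⧸ 𝔫) (Ω[B ⧸ 𝔫⁄A])] [Module.Finite (B ⧸ 𝔫) 𝔫.Cotangent] :
    Module.Finite B (AdicCompletion 𝔫 (Ω[B⁄A])) := by
  have hsurj : Function.Surjective (algebraMap B (B ⧸ 𝔫)) := Ideal.Quotient.mk_surjective
  have hker : RingHom.ker (algebraMap B (B ⧸ 𝔫)) = 𝔫 := by
    rw [Ideal.Quotient.algebraMap_eq]; exact Ideal.mk_ker
  have hf1 : Module.Finite B 𝔫.Cotangent := Module.Finite.trans (B ⧸ 𝔫) _
  have hf1' : Module.Finite B (RingHom.ker (algebraMap B (B ⧸ 𝔫))).Cotangent := by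
    rw [hker]; exact hf1
  have hf2 : Module.Finite B (Ω[B ⧸ 𝔫⁄A]) := Module.Finite.trans (B ⧸ 𝔫) _
  have hmid : Module.Finite B (TensorProduct B (B ⧸ 𝔫) Ω[B⁄A]) :=
    Module.Finite.of_exact (f := KaehlerDifferential.kerCotangentToTensor A B (B ⧸ 𝔫))
      (g := (KaehlerDifferential.mapBaseChange A B (B ⧸ 𝔫)).restrictScalars B)
      (KaehlerDifferential.exact_kerCotangentToTensor_mapBaseChange A B (B ⧸ 𝔫) hsurj)
      (KaehlerDifferential.mapBaseChange_surjective A B (B ⧸ 𝔫) hsurj)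
  have hq : Module.Finite B (Ω[B⁄A] ⧸ (𝔫 • ⊤ : Submodule B Ω[B⁄A])) :=
    Module.Finite.equiv (TensorProduct.quotTensorEquivQuotSMul Ω[B⁄A] 𝔫)
  obtain ⟨r, g, hg⟩ := Module.Finite.exists_fin' B (Ω[B⁄A] ⧸ (𝔫 • ⊤ : Submodule B Ω[B⁄A]))
  obtain ⟨f, hf⟩ := Module.projective_lifting_property
    (Submodule.mkQ (𝔫 • ⊤ : Submodule B Ω[B⁄A])) g (Submodule.mkQ_surjective _)
  have hfs : Function.Surjective ((𝔫 • ⊤ : Submodule B Ω[B⁄A]).mkQ ∘ₗ f) := by
    rw [hf]; exact hg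
  have hmap := AdicCompletion.map_surjective_of_mkQ_comp_surjective hfs
  have hfin1 : Module.Finite (AdicCompletion 𝔫 B) (AdicCompletion 𝔫 (Fin r → B)) :=
    Module.Finite.equiv (AdicCompletion.piEquivFin 𝔫 r).symm
  have hfin2 : Module.Finite (AdicCompletion 𝔫 B) (AdicCompletion 𝔫 Ω[B⁄A]) :=
    Module.Finite.of_surjective (AdicCompletion.map 𝔫 f) hmap
  have hfin3 : Module.Finite B (AdicCompletion 𝔫 B) :=
    Module.Finite.of_surjective (AdicCompletion.ofAlgEquiv 𝔫).toLinearEquiv.toLinearMap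
      (AdicCompletion.ofAlgEquiv 𝔫).surjective
  exact Module.Finite.trans (AdicCompletion 𝔫 B) _

end Groth.Agent.S4558
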