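import Groth.Statements.S4528
import Mathlib
import Groth.Agent.S4558

set_option autoImplicit false
universe u
open EGA41

namespace Groth.Agent.S4528

open IsLocalRing in
/-- Let k be a field (any characteristic) and A a complete Noetherian local k-algebra whose residue
field K is an extension of finite type of k. Then the completed module of differentials, i.e. the
𝔪-adic completion of Ω_{A/k}, is an A-module of finite type. -/
theorem result {k A : Type u} [Field k] [CommRing A] [IsLocalRing A]
    [IsNoetherianRing A] [IsAdicComplete (maximalIdeal A) A] [Algebra k A]
    [Algebra.EssFiniteType k (ResidueField A)] :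
    Module.Finite A (AdicCompletion (maximalIdeal A) (Ω[A⁄k])) := by
  have h1 : Module.Finite (A ⧸ maximalIdeal A) (Ω[A ⧸ maximalIdeal A⁄k]) :=
    inferInstanceAs (Module.Finite (ResidueField A) (Ω[ResidueField A⁄k]))
  have h2 : Module.Finite (A ⧸ maximalIdeal A) (maximalIdeal A).Cotangent :=
    inferInstanceAs (Module.Finite (ResidueField A) (CotangentSpace A))
  exact Groth.Agent.S4558.result (A := k) (B := A) (maximalIdeal A)

end Groth.Agent.S4528
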