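import Groth.Statements.S4529
import Mathlib

set_option autoImplicit false
universe u
open EGA41

namespace Groth.Agent.S4529

/-- An endomorphism of `M` congruent to the identity modulo `J M` is bijective when `J` is
nilpotent. -/
theorem bijective_of_nilpotent {A : Type u} [CommRing A] {M : Type u} [AddCommGroup M] [Module A M]
    (J : Ideal A) (hJ : IsNilpotent J) (φ : M →ₗ[A] M)
    (hφ : ∀ m, φ m - m ∈ (J • ⊤ : Submodule A M)) : Function.Bijective φ := by
  set ε : Module.End A M := φ - 1 with hε
  have key : ∀ k : ℕ, LinearMap.range (ε ^ k) ≤ (J ^ k • ⊤ : Submodule A M) := by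
    intro k
    induction k with
    | zero => simp
    | succ k ih =>
      rw [pow_succ', Module.End.mul_eq_comp, LinearMap.range_comp]
      calc Submodule.map ε (LinearMap.range (ε ^ k))
          ≤ Submodule.map ε (J ^ k • ⊤ : Submodule A M) := Submodule.map_mono ih
        _ = J ^ k • Submodule.map ε ⊤ := Submodule.map_smul'' _ _ _
        _ ≤ J ^ k • (J • ⊤ : Submodule A M) := by
            apply smul_mono_right
            rintro _ ⟨m, -, rfl⟩
            simpa [hε] using hφ m
        _ = (J ^ (k + 1) • ⊤ : Submodule A M) := by rw [← mul_smul, ← pow_succ]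
  obtain ⟨n, hn⟩ := hJ
  have hnil : IsNilpotent ε := by
    refine ⟨n, ?_⟩
    have := key n
    rw [hn, Ideal.zero_eq_bot, Submodule.bot_smul, le_bot_iff, LinearMap.range_eq_bot] at this
    exact this
  have hunit : IsUnit (ε + 1) := hnil.isUnit_add_one
  have : ε + 1 = φ := by simp [hε]
  rw [this] at hunit
  exact (Module.End.isUnit_iff _).mp hunit

/-- An endomorphism of a finite module `M` congruent to the identity modulo `J M` is bijective
when `J` lies in the Jacobson radical. -/
theorem bijective_of_jacobson {A : Type u} [CommRing A] {M : Type u} [AddCommGroup M] [Module A M]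
    [Module.Finite A M]
    (J : Ideal A) (hJ : J ≤ (⊥ : Ideal A).jacobson) (φ : M →ₗ[A] M)
    (hφ : ∀ m, φ m - m ∈ (J • ⊤ : Submodule A M)) : Function.Bijective φ := by
  have hsurj : Function.Surjective φ := by
    rw [← LinearMap.range_eq_top, eq_top_iff]
    apply Submodule.le_of_le_smul_of_le_jacobson_bot (Module.Finite.fg_top) hJ
    intro m _
    have h1 : m = φ m - (φ m - m) := by abel
    rw [h1]
    exact Submodule.sub_mem _ (Submodule.mem_sup_left (LinearMap.mem_range_self φ m))
      (Submodule.mem_sup_right (hφ m))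
  exact OrzechProperty.bijective_of_surjective_endomorphism φ hsurj

/-- Let A be a ring, M, N two A-modules with N projective, u : M → N a homomorphism and J an ideal of A;
suppose either (i) J is nilpotent, or (ii) J is contained in the Jacobson radical of A and M is of
finite type. Then u is left invertible if and only if the induced map u₀ : M/JM → N/JN is left
invertible. (A left inverse of u₀ composed with N → N/JN is an A-linear map v : N → M/JM with v ∘ u
the projection, and conversely; the right-hand side is written in that form.) -/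
theorem result {A : Type u} [CommRing A] {M N : Type u} [AddCommGroup M] [Module A M]
    [AddCommGroup N] [Module A N] [Module.Projective A N] (u : M →ₗ[A] N) (J : Ideal A)
    (hJ : IsNilpotent J ∨ (J ≤ (⊥ : Ideal A).jacobson ∧ Module.Finite A M)) :
    (∃ w : N →ₗ[A] M, w ∘ₗ u = LinearMap.id) ↔
      ∃ v : N →ₗ[A] M ⧸ (J • ⊤ : Submodule A M), v ∘ₗ u = (J • ⊤ : Submodule A M).mkQ := by
  constructor
  · rintro ⟨w, hw⟩
    refine ⟨(J • ⊤ : Submodule A M).mkQ ∘ₗ w, ?_⟩
    rw [LinearMap.comp_assoc, hw, LinearMap.comp_id]
  · rintro ⟨v, hv⟩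
    obtain ⟨w0, hw0⟩ := Module.projective_lifting_property (J • ⊤ : Submodule A M).mkQ v
      (Submodule.mkQ_surjective _)
    set φ : M →ₗ[A] M := w0 ∘ₗ u with hφdef
    have hφ : ∀ m, φ m - m ∈ (J • ⊤ : Submodule A M) := by
      intro m
      rw [← Submodule.Quotient.mk_eq_zero, Submodule.Quotient.mk_sub, sub_eq_zero]
      have h1 := congrArg (fun g : M →ₗ[A] M ⧸ (J • ⊤ : Submodule A M) => g m) hv
      have h2 := congrArg (fun g : N →ₗ[A] M ⧸ (J • ⊤ : Submodule A M) => g (u m)) hw0
      simp only [LinearMap.comp_apply, Submodule.mkQ_apply] at h1 h2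
      rw [hφdef, LinearMap.comp_apply, h2, h1]
    have hbij : Function.Bijective φ := by
      rcases hJ with hJ | ⟨hJ, hfin⟩
      · exact bijective_of_nilpotent J hJ φ hφ
      · exact bijective_of_jacobson J hJ φ hφ
    let e : M ≃ₗ[A] M := LinearEquiv.ofBijective φ hbij
    refine ⟨e.symm.toLinearMap ∘ₗ w0, ?_⟩
    ext m
    simp only [LinearMap.comp_apply, LinearEquiv.coe_coe, LinearMap.id_apply]
    rw [LinearEquiv.symm_apply_eq]
    rfl

end Groth.Agent.S4529
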