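import Groth.Statements.S4531
import Groth.Agent.H23.LeftInv

set_option autoImplicit false
universe u
open EGA41

namespace Groth.Agent.S4531

open TensorProduct in
/-- Let A be a ring, M an A-module of finite type, N a projective A-module and u : M → N a homomorphism.
(i) u is left invertible if and only if u_𝔪 : M_𝔪 → N_𝔪 is left invertible for every maximal ideal 𝔪
of A. (ii) If A' is an A-algebra which is a faithfully flat A-module, u is left invertible if and
only if u ⊗ 1 : M ⊗_A A' → N ⊗_A A' is left invertible (as an A'-linear map). -/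
theorem result {A : Type u} [CommRing A] {M N : Type u} [AddCommGroup M] [Module A M]
    [Module.Finite A M] [AddCommGroup N] [Module A N] [Module.Projective A N] (u : M →ₗ[A] N) :
    ((∃ w : N →ₗ[A] M, w ∘ₗ u = LinearMap.id) ↔
      ∀ (m : Ideal A) [m.IsMaximal],
        ∃ w : LocalizedModule m.primeCompl N →ₗ[A] LocalizedModule m.primeCompl M,
          w ∘ₗ LocalizedModule.map m.primeCompl u = LinearMap.id) ∧
    ∀ (A' : Type u) [CommRing A'] [Algebra A A'] [Module.FaithfullyFlat A A'],
      (∃ w : N →ₗ[A] M, w ∘ₗ u = LinearMap.id) ↔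
        ∃ w : A' ⊗[A] N →ₗ[A'] A' ⊗[A] M, w ∘ₗ u.baseChange A' = LinearMap.id := by
  obtain ⟨ι, _, a, b, hab⟩ := Groth.Agent.H23.LeftInv.exists_finite_free_factor u
  have hred := Groth.Agent.H23.LeftInv.leftInv_iff_of_factor u a b hab
  constructor
  · constructor
    · intro h m _
      exact Groth.Agent.H23.LeftInv.leftInv_lmap m.primeCompl u h
    · intro h
      rw [hred]
      apply Groth.Agent.H23.LeftInv.leftInv_of_localized_maximal
      intro m _
      exact (Groth.Agent.H23.LeftInv.leftInv_lmap_iff_of_factor m.primeCompl u a b hab).mp (h m)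
  · intro A' _ _ _
    constructor
    · rintro ⟨w, hw⟩
      refine ⟨w.baseChange A', ?_⟩
      rw [← LinearMap.baseChange_comp, hw, LinearMap.baseChange_id]
    · intro h
      rw [hred]
      apply Groth.Agent.H23.LeftInv.leftInv_of_baseChange (a ∘ₗ u) A'
      have h2 : (b.baseChange A') ∘ₗ (a.baseChange A') ∘ₗ (u.baseChange A') = u.baseChange A' := by
        rw [← LinearMap.baseChange_comp, ← LinearMap.baseChange_comp, hab]
      have := (Groth.Agent.H23.LeftInv.leftInv_iff_of_factor (u.baseChange A') (a.baseChange A')
        (b.baseChange A') h2).mp h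
      rw [LinearMap.baseChange_comp]
      exact this

end Groth.Agent.S4531
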