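import Groth.Statements.S4532
import Mathlib

set_option autoImplicit false
universe u
open EGA41

namespace Groth.Agent.S4532

/-- Let A be a discrete ring and V a projective A-module. Then the symmetric algebra of V over A, with
the discrete topology, is a formally smooth A-algebra. -/
theorem result (A : Type u) [CommRing A] (V : Type u) [AddCommGroup V] [Module A V]
    [Module.Projective A V] : Algebra.FormallySmooth A (SymmetricAlgebra A V) := by
  apply Algebra.FormallySmooth.of_comp_surjective
  intro B _ _ I hI f
  obtain ⟨g, hg⟩ := Module.projective_lifting_property
    (Ideal.Quotient.mkₐ A I).toLinearMap (f.toLinearMap ∘ₗ SymmetricAlgebra.ι A V)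
    (Ideal.Quotient.mkₐ_surjective A I)
  refine ⟨SymmetricAlgebra.lift g, ?_⟩
  apply SymmetricAlgebra.algHom_ext
  ext v
  have := congr($hg v)
  simpa using this

end Groth.Agent.S4532
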