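import Groth.Statements.S4533
import Mathlib
import Groth.Agent.H23.PowerSeriesEval

set_option autoImplicit false
universe u
open EGA41

namespace Groth.Agent.S4533

/-- Let A carry the 𝔞-adic topology and let B = A[[T_1, …, T_n]] carry the product topology, i.e. the
adic topology of the ideal 𝔞B + (T_1, …, T_n) (the kernel of the constant-coefficient map added to
the extension of 𝔞). Then B is a formally smooth A-algebra for these topologies. (The published
statement allows any linearly topologized base ring and any set of indeterminates with the product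
topology; this row takes an adic base and finitely many indeterminates, where the product topology
is adic.) -/
theorem result (A : Type u) [CommRing A] (𝔞 : Ideal A) (n : ℕ) :
    EGA41.IsFormallySmoothAdic A 𝔞 (MvPowerSeries (Fin n) A)
      (𝔞.map (MvPowerSeries.C : A →+* MvPowerSeries (Fin n) A) ⊔
        RingHom.ker (MvPowerSeries.constantCoeff : MvPowerSeries (Fin n) A →+* A)) := by
  intro C _ _ J hJ _ u hu
  obtain ⟨k, hk⟩ := hu
  have hsurj := Ideal.Quotient.mk_surjective (I := J)
  choose c hc using fun i => hsurj (u (MvPowerSeries.X i))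
  have hker : ∀ N, (RingHom.ker (MvPowerSeries.constantCoeff : MvPowerSeries (Fin n) A →+* A)) ^ (N + k) ≤
      (𝔞.map (MvPowerSeries.C : A →+* MvPowerSeries (Fin n) A) ⊔
        RingHom.ker (MvPowerSeries.constantCoeff : MvPowerSeries (Fin n) A →+* A)) ^ k := by
    intro N
    exact (Ideal.pow_le_pow_right (Nat.le_add_left k N)).trans (Ideal.pow_right_mono le_sup_right k)
  have hnil : ∀ i, IsNilpotent (c i) := by
    intro i
    obtain ⟨m, hm⟩ := hJ
    refine ⟨k * m, ?_⟩
    have h1 : (MvPowerSeries.X i : MvPowerSeries (Fin n) A) ^ k ∈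
        (𝔞.map (MvPowerSeries.C : A →+* MvPowerSeries (Fin n) A) ⊔
        RingHom.ker (MvPowerSeries.constantCoeff : MvPowerSeries (Fin n) A →+* A)) ^ k :=
      Ideal.pow_mem_pow (Ideal.mem_sup_right (by simp [RingHom.mem_ker])) k
    have h2 := hk _ h1
    have h3 : c i ^ k ∈ J := by
      rw [← Ideal.Quotient.eq_zero_iff_mem, map_pow, hc, ← map_pow, h2]
    have h4 : (c i ^ k) ^ m ∈ J ^ m := Ideal.pow_mem_pow h3 m
    rw [hm] at h4
    rw [pow_mul]
    exact h4
  obtain ⟨M, hM⟩ := Groth.Agent.H23.PowerSeriesEval.exists_pow_span_eq_bot c hnil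
  have hM' : Ideal.span (Set.range c) ^ (M + k) = ⊥ := by
    rw [pow_add, hM, Ideal.bot_mul]
  refine ⟨Groth.Agent.H23.PowerSeriesEval.evalTrunc c (M + k) hM', ?_⟩
  apply Groth.Agent.H23.PowerSeriesEval.algHom_ext_of_kills _ _ (M + k)
  · intro x hx
    rw [AlgHom.comp_apply, Groth.Agent.H23.PowerSeriesEval.evalTrunc_kills c (M + k) hM' x hx,
      map_zero]
  · intro x hx
    exact hk x (hker M hx)
  · intro i
    rw [AlgHom.comp_apply, Groth.Agent.H23.PowerSeriesEval.evalTrunc_X]
    exact hc i

end Groth.Agent.S4533
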