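import Groth.Statements.S4534
import Groth.Agent.H23.AdicSmooth

set_option autoImplicit false
universe u
open EGA41

namespace Groth.Agent.S4534

/-- Let A → B → C be continuous homomorphisms of adic rings (A with the 𝔞-adic, B the 𝔟-adic, C the
𝔠-adic topology; continuity: a power of 𝔞 maps into 𝔟 and a power of 𝔟 into 𝔠). If B is formally
smooth over A and C formally smooth over B, then C is formally smooth over A. -/
theorem result {A B C : Type u} [CommRing A] [CommRing B] [CommRing C] [Algebra A B] [Algebra B C]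
    [Algebra A C] [IsScalarTower A B C] (𝔞 : Ideal A) (𝔟 : Ideal B) (𝔠 : Ideal C)
    (hAB : ∃ k : ℕ, (𝔞 ^ k).map (algebraMap A B) ≤ 𝔟) (hBC : ∃ k : ℕ, (𝔟 ^ k).map (algebraMap B C) ≤ 𝔠)
    (hB : EGA41.IsFormallySmoothAdic A 𝔞 B 𝔟) (hC : EGA41.IsFormallySmoothAdic B 𝔟 C 𝔠) :
    EGA41.IsFormallySmoothAdic A 𝔞 C 𝔠 := by
  intro D _ _ J hJ hD u hu
  obtain ⟨k, hk⟩ := hBC
  obtain ⟨m, hm⟩ := hu
  obtain ⟨t, ht⟩ := hJ
  -- the composite `B → C → D/J` kills `𝔟 ^ (k * m)`
  have hu' : ∀ x ∈ 𝔟 ^ (k * m), (u.comp (IsScalarTower.toAlgHom A B C)) x = 0 := by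
    intro x hx
    have h1 : algebraMap B C x ∈ 𝔠 ^ m := by
      have : Ideal.map (algebraMap B C) (𝔟 ^ (k * m)) ≤ 𝔠 ^ m := by
        rw [pow_mul, Ideal.map_pow]
        exact Ideal.pow_right_mono hk m
      exact this (Ideal.mem_map_of_mem _ hx)
    exact hm _ h1
  obtain ⟨v, hv⟩ := hB D J ⟨t, ht⟩ hD (u.comp (IsScalarTower.toAlgHom A B C)) ⟨k * m, hu'⟩
  -- `v` kills a power of `𝔟`
  have hvk : ∀ x ∈ 𝔟 ^ (k * m * t), v x = 0 := by
    refine Groth.Agent.H23.kills_pow_of_comp_mk 𝔟 J v.toRingHom (k * m) t ?_ ht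
    intro x hx
    have := congrArg (fun φ => φ x) hv
    simp only [AlgHom.comp_apply, Ideal.Quotient.mkₐ_eq_mk] at this
    rw [AlgHom.toRingHom_eq_coe, RingHom.coe_coe, this]
    exact hu' x hx
  let _ : Algebra B D := v.toRingHom.toAlgebra
  have : IsScalarTower A B D := IsScalarTower.of_algebraMap_eq (fun a => by
    change algebraMap A D a = v (algebraMap A B a)
    rw [AlgHom.commutes])
  -- `u` is `B`-linear
  let u' : C →ₐ[B] D ⧸ J :=
    { u.toRingHom with
      commutes' := fun b => by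
        have := congrArg (fun φ => φ b) hv
        simp only [AlgHom.comp_apply, Ideal.Quotient.mkₐ_eq_mk] at this
        change u (algebraMap B C b) = algebraMap B (D ⧸ J) b
        rw [IsScalarTower.algebraMap_apply B D (D ⧸ J)]
        change u (algebraMap B C b) = Ideal.Quotient.mk J (v b)
        rw [this]
        rfl }
  have hD' : ∃ k : ℕ, (𝔟 ^ k).map (algebraMap B D) = ⊥ := by
    refine ⟨k * m * t, ?_⟩
    rw [eq_bot_iff, Ideal.map_le_iff_le_comap]
    intro x hx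
    rw [Ideal.mem_comap]
    change v x ∈ (⊥ : Ideal D)
    rw [hvk x hx]
    exact Ideal.zero_mem _
  obtain ⟨w, hw⟩ := hC D J ⟨t, ht⟩ hD' u' ⟨m, fun x hx => hm x hx⟩
  refine ⟨w.restrictScalars A, ?_⟩
  ext x
  have := congrArg (fun φ => φ x) hw
  simp only [AlgHom.comp_apply, Ideal.Quotient.mkₐ_eq_mk] at this
  simp only [AlgHom.comp_apply, Ideal.Quotient.mkₐ_eq_mk, AlgHom.restrictScalars_apply]
  rw [this]
  rfl

end Groth.Agent.S4534
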