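import Groth.Statements.S4536
import Groth.Agent.H23.AdicSmooth
import Mathlib.RingTheory.Ideal.Over

set_option autoImplicit false
universe u
open EGA41

namespace Groth.Agent.S4536

/-- Let A carry the 𝔞-adic and B the 𝔟-adic topology, A → B being continuous (a power of 𝔞 maps into 𝔟).
Then B is formally smooth over A if and only if for every n the (A/𝔞ⁿ)-algebra B/𝔞ⁿB, with the adic
topology of the image of 𝔟, is formally smooth over the discrete ring A/𝔞ⁿ. -/
theorem result {A B : Type u} [CommRing A] [CommRing B] [Algebra A B]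
    (𝔞 : Ideal A) (𝔟 : Ideal B) (hAB : ∃ k : ℕ, (𝔞 ^ k).map (algebraMap A B) ≤ 𝔟) :
    EGA41.IsFormallySmoothAdic A 𝔞 B 𝔟 ↔
      ∀ n : ℕ, EGA41.IsFormallySmoothAdic (A ⧸ 𝔞 ^ n) ⊥ (B ⧸ (𝔞 ^ n).map (algebraMap A B))
        (𝔟.map (Ideal.Quotient.mk ((𝔞 ^ n).map (algebraMap A B)))) := by
  constructor
  · intro h n D _ _ J hJ _ u hu
    obtain ⟨m, hm⟩ := hu
    let _ : Algebra A D := ((algebraMap (A ⧸ 𝔞 ^ n) D).comp (Ideal.Quotient.mk (𝔞 ^ n))).toAlgebra
    have hst : IsScalarTower A (A ⧸ 𝔞 ^ n) D := IsScalarTower.of_algebraMap_eq (fun a => rfl)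
    have hD : ∃ k : ℕ, (𝔞 ^ k).map (algebraMap A D) = ⊥ := by
      refine ⟨n, ?_⟩
      rw [eq_bot_iff, Ideal.map_le_iff_le_comap]
      intro a ha
      rw [Ideal.mem_comap]
      change algebraMap (A ⧸ 𝔞 ^ n) D (Ideal.Quotient.mk (𝔞 ^ n) a) ∈ (⊥ : Ideal D)
      rw [Ideal.Quotient.eq_zero_iff_mem.mpr ha, map_zero]
      exact Ideal.zero_mem _
    let π : B →ₐ[A] B ⧸ (𝔞 ^ n).map (algebraMap A B) := Ideal.Quotient.mkₐ A _
    let u₀ : B →ₐ[A] D ⧸ J := (u.restrictScalars A).comp π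
    have hu₀ : ∃ k : ℕ, ∀ x ∈ 𝔟 ^ k, u₀ x = 0 := by
      refine ⟨m, fun x hx => hm _ ?_⟩
      rw [← Ideal.map_pow]
      exact Ideal.mem_map_of_mem _ hx
    obtain ⟨v, hv⟩ := h D J hJ hD u₀ hu₀
    have hvker : ∀ x ∈ (𝔞 ^ n).map (algebraMap A B), v x = 0 := by
      intro x hx
      have : (𝔞 ^ n).map (algebraMap A B) ≤ RingHom.ker v.toRingHom := by
        rw [Ideal.map_le_iff_le_comap]
        intro a ha
        rw [Ideal.mem_comap, RingHom.mem_ker]
        change v (algebraMap A B a) = 0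
        rw [AlgHom.commutes]
        change algebraMap (A ⧸ 𝔞 ^ n) D (Ideal.Quotient.mk (𝔞 ^ n) a) = 0
        rw [Ideal.Quotient.eq_zero_iff_mem.mpr ha, map_zero]
      exact this hx
    let v₁ : B ⧸ (𝔞 ^ n).map (algebraMap A B) →ₐ[A] D := Ideal.Quotient.liftₐ _ v hvker
    let v₂ : B ⧸ (𝔞 ^ n).map (algebraMap A B) →ₐ[A ⧸ 𝔞 ^ n] D :=
      { v₁.toRingHom with
        commutes' := fun r => by
          obtain ⟨a, rfl⟩ := Ideal.Quotient.mk_surjective r
          change v₁ (algebraMap (A ⧸ 𝔞 ^ n) (B ⧸ (𝔞 ^ n).map (algebraMap A B))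
            (Ideal.Quotient.mk (𝔞 ^ n) a)) = _
          rw [Ideal.Quotient.algebraMap_quotient_map_quotient]
          change v (algebraMap A B a) = _
          rw [AlgHom.commutes]
          rfl }
    refine ⟨v₂, ?_⟩
    ext x
    obtain ⟨b, rfl⟩ := Ideal.Quotient.mk_surjective x
    have := congrArg (fun φ => φ b) hv
    simp only [AlgHom.comp_apply, Ideal.Quotient.mkₐ_eq_mk] at this
    exact this
  · intro h D _ _ J hJ hD u hu
    obtain ⟨n, hn⟩ := hD
    obtain ⟨m, hm⟩ := hu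
    have hker : ∀ a ∈ 𝔞 ^ n, algebraMap A D a = 0 := by
      intro a ha
      have : algebraMap A D a ∈ (𝔞 ^ n).map (algebraMap A D) := Ideal.mem_map_of_mem _ ha
      rw [hn] at this
      exact this
    let _ : Algebra (A ⧸ 𝔞 ^ n) D := (Ideal.Quotient.lift (𝔞 ^ n) (algebraMap A D) hker).toAlgebra
    have hst : IsScalarTower A (A ⧸ 𝔞 ^ n) D := IsScalarTower.of_algebraMap_eq (fun a => rfl)
    have huker : ∀ x ∈ (𝔞 ^ n).map (algebraMap A B), u x = 0 := by
      intro x hx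
      have : (𝔞 ^ n).map (algebraMap A B) ≤ RingHom.ker u.toRingHom := by
        rw [Ideal.map_le_iff_le_comap]
        intro a ha
        rw [Ideal.mem_comap, RingHom.mem_ker]
        change u (algebraMap A B a) = 0
        rw [AlgHom.commutes, IsScalarTower.algebraMap_apply A D (D ⧸ J), hker a ha, map_zero]
      exact this hx
    let u₁ : B ⧸ (𝔞 ^ n).map (algebraMap A B) →ₐ[A] D ⧸ J := Ideal.Quotient.liftₐ _ u huker
    let u₂ : B ⧸ (𝔞 ^ n).map (algebraMap A B) →ₐ[A ⧸ 𝔞 ^ n] D ⧸ J :=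
      { u₁.toRingHom with
        commutes' := fun r => by
          obtain ⟨a, rfl⟩ := Ideal.Quotient.mk_surjective r
          change u₁ (algebraMap (A ⧸ 𝔞 ^ n) (B ⧸ (𝔞 ^ n).map (algebraMap A B))
            (Ideal.Quotient.mk (𝔞 ^ n) a)) = _
          rw [Ideal.Quotient.algebraMap_quotient_map_quotient]
          change u (algebraMap A B a) = _
          rw [AlgHom.commutes]
          rfl }
    have hu₂ : ∃ k : ℕ, ∀ x ∈ (𝔟.map (Ideal.Quotient.mk ((𝔞 ^ n).map (algebraMap A B)))) ^ k,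
        u₂ x = 0 := by
      refine ⟨m, fun x hx => ?_⟩
      rw [← Ideal.map_pow] at hx
      rw [Ideal.mem_map_iff_of_surjective _ Ideal.Quotient.mk_surjective] at hx
      obtain ⟨b, hb, rfl⟩ := hx
      exact hm b hb
    obtain ⟨v, hv⟩ := h n D J hJ ⟨1, by rw [pow_one, Ideal.map_bot]⟩ u₂ hu₂
    refine ⟨(v.restrictScalars A).comp (Ideal.Quotient.mkₐ A _), ?_⟩
    ext b
    have := congrArg (fun φ => φ (Ideal.Quotient.mk _ b)) hv
    simp only [AlgHom.comp_apply, Ideal.Quotient.mkₐ_eq_mk] at this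
    exact this

end Groth.Agent.S4536
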