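import Groth.Statements.S4540
import Groth.Agent.S4529
import Groth.Agent.S4544
import Mathlib

set_option autoImplicit false
universe u
open EGA41

namespace Groth.Agent.S4540

open IsLocalRing TensorProduct

/-- A projective module over a local ring with nilpotent maximal ideal is free. -/
theorem free_of_projective_of_nilpotent {R : Type u} [CommRing R] [IsLocalRing R]
    (hnil : IsNilpotent (maximalIdeal R)) (P : Type u) [AddCommGroup P] [Module R P]
    [Module.Projective R P] : Module.Free R P := by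
  letI : Field (R ⧸ maximalIdeal R) := Ideal.Quotient.field (maximalIdeal R)
  let K := R ⧸ maximalIdeal R
  let b := Module.Free.chooseBasis K (K ⊗[R] P)
  let ι := Module.Free.ChooseBasisIndex K (K ⊗[R] P)
  have hsurjP : Function.Surjective (TensorProduct.mk R K P 1) :=
    TensorProduct.mk_surjective R P K Ideal.Quotient.mk_surjective
  choose x hx using fun i => hsurjP (b i)
  let φ : (ι →₀ R) →ₗ[R] P := Finsupp.linearCombination R x
  let bF : Module.Basis ι K (K ⊗[R] (ι →₀ R)) := (Finsupp.basisSingleOne).baseChange K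
  let e : K ⊗[R] (ι →₀ R) ≃ₗ[K] K ⊗[R] P := bF.equiv b (Equiv.refl ι)
  have hΦ : φ.baseChange K = e.toLinearMap := by
    apply bF.ext
    intro i
    have he : e (bF i) = b i := by
      simp only [e, Module.Basis.equiv_apply, Equiv.refl_apply]
    rw [LinearEquiv.coe_coe, he, ← hx i]
    simp only [bF, Module.Basis.baseChange_apply, LinearMap.baseChange_tmul]
    simp only [φ, Finsupp.coe_basisSingleOne, Finsupp.linearCombination_single, one_smul]
    rfl
  have hsurjF : Function.Surjective (TensorProduct.mk R K (ι →₀ R) 1) :=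
    TensorProduct.mk_surjective R _ K Ideal.Quotient.mk_surjective
  obtain ⟨ψ, hψ⟩ := Module.projective_lifting_property (TensorProduct.mk R K (ι →₀ R) 1)
    ((e.symm.toLinearMap.restrictScalars R) ∘ₗ TensorProduct.mk R K P 1) hsurjF
  have hψ' : ∀ p : P, (1 : K) ⊗ₜ[R] ψ p = e.symm ((1 : K) ⊗ₜ[R] p) := fun p =>
    LinearMap.congr_fun hψ p
  have hΦ' : ∀ f : ι →₀ R, (1 : K) ⊗ₜ[R] φ f = e ((1 : K) ⊗ₜ[R] f) := by
    intro f
    have := LinearMap.congr_fun hΦ ((1 : K) ⊗ₜ[R] f)
    simpa using this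
  have hker : ∀ (M : Type u) [AddCommGroup M] [Module R M] (y z : M),
      (1 : K) ⊗ₜ[R] y = (1 : K) ⊗ₜ[R] z → y - z ∈ (maximalIdeal R • ⊤ : Submodule R M) := by
    intro M _ _ y z hyz
    have := congrArg (TensorProduct.quotTensorEquivQuotSMul M (maximalIdeal R)) hyz
    rw [TensorProduct.quotTensorEquivQuotSMul_mk_one_tmul,
      TensorProduct.quotTensorEquivQuotSMul_mk_one_tmul] at this
    exact (Submodule.Quotient.eq _).mp this
  have h1 : ∀ f, (ψ ∘ₗ φ) f - f ∈ (maximalIdeal R • ⊤ : Submodule R (ι →₀ R)) := by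
    intro f
    apply hker
    rw [LinearMap.comp_apply, hψ', hΦ', LinearEquiv.symm_apply_apply]
  have h2 : ∀ p, (φ ∘ₗ ψ) p - p ∈ (maximalIdeal R • ⊤ : Submodule R P) := by
    intro p
    apply hker
    rw [LinearMap.comp_apply, hΦ', hψ', LinearEquiv.apply_symm_apply]
  have b1 := Groth.Agent.S4529.bijective_of_nilpotent (maximalIdeal R) hnil (ψ ∘ₗ φ) h1
  have b2 := Groth.Agent.S4529.bijective_of_nilpotent (maximalIdeal R) hnil (φ ∘ₗ ψ) h2
  have hφ : Function.Bijective φ := by
    constructor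
    · exact Function.Injective.of_comp (f := ψ) b1.1
    · exact Function.Surjective.of_comp (g := ψ) b2.2
  exact Module.Free.of_equiv (LinearEquiv.ofBijective φ hφ)

open IsLocalRing TensorProduct in
/-- Let A, B be Noetherian local rings and A → B a local homomorphism making B a formally smooth
A-algebra for the adic topologies of the maximal ideals. Then for every ideal of definition 𝔟 of B,
the (B/𝔟)-module Ω_{B/A} ⊗_B (B/𝔟) is free. -/
theorem result {A B : Type u} [CommRing A] [IsLocalRing A]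
    [IsNoetherianRing A] [CommRing B] [IsLocalRing B] [IsNoetherianRing B] [Algebra A B] [IsLocalHom (algebraMap A B)]
    (h : EGA41.IsFormallySmoothAdic A (maximalIdeal A) B (maximalIdeal B))
    (𝔟 : Ideal B) (hle : 𝔟 ≤ maximalIdeal B) (hpow : ∃ k : ℕ, maximalIdeal B ^ k ≤ 𝔟) :
    Module.Free (B ⧸ 𝔟) ((B ⧸ 𝔟) ⊗[B] Ω[B⁄A]) := by
  have hAB : ∃ k : ℕ, (maximalIdeal A ^ k).map (algebraMap A B) ≤ maximalIdeal B := by
    refine ⟨1, ?_⟩
    rw [pow_one, Ideal.map_le_iff_le_comap]
    intro x hx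
    rw [Ideal.mem_comap]
    exact (IsLocalRing.mem_maximalIdeal _).mpr
      (map_mem_nonunits_iff (algebraMap A B) x |>.mpr ((IsLocalRing.mem_maximalIdeal _).mp hx))
  have hproj := Groth.Agent.S4544.result (maximalIdeal A) (maximalIdeal B) hAB h 𝔟 hpow
  have hne : 𝔟 ≠ ⊤ := ne_top_of_le_ne_top (IsLocalRing.maximalIdeal.isMaximal B).ne_top hle
  have : Nontrivial (B ⧸ 𝔟) := Ideal.Quotient.nontrivial_iff.mpr hne
  have : IsLocalRing (B ⧸ 𝔟) :=
    IsLocalRing.of_surjective' (Ideal.Quotient.mk 𝔟) Ideal.Quotient.mk_surjective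
  have hnil : IsNilpotent (maximalIdeal (B ⧸ 𝔟)) := by
    obtain ⟨k, hk⟩ := hpow
    refine ⟨k, ?_⟩
    have h1 : maximalIdeal (B ⧸ 𝔟) ≤ (maximalIdeal B).map (Ideal.Quotient.mk 𝔟) := by
      intro y hy
      obtain ⟨b, rfl⟩ := Ideal.Quotient.mk_surjective y
      apply Ideal.mem_map_of_mem
      rw [IsLocalRing.mem_maximalIdeal] at hy ⊢
      intro hb
      exact hy (hb.map (Ideal.Quotient.mk 𝔟))
    rw [Ideal.zero_eq_bot, eq_bot_iff]
    refine (Ideal.pow_right_mono h1 k).trans ?_
    rw [← Ideal.map_pow]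
    refine (Ideal.map_mono hk).trans ?_
    rw [Ideal.map_quotient_self]
  exact free_of_projective_of_nilpotent hnil _

end Groth.Agent.S4540
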