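import Groth.Statements.S4543
import Groth.Agent.S4542
import Groth.Agent.S4515
import Mathlib

set_option autoImplicit false
universe u
open EGA41

namespace Groth.Agent.S4543

open IsLocalRing in
/-- Let A be a Noetherian ring, J an ideal of A, B and B' two A-algebras which are Noetherian local
rings, the structure maps being continuous for the J-adic topology on A (JB and JB' lie in the
maximal ideals); suppose B and B' are complete for the J-adic topologies, B is a formally smooth
A-algebra for the J-adic topology on A and the JB-adic topology on B (nilpotent test ideals, test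
algebras killed by a power of J, test maps killing a power of JB), and B' is a flat A-module. Then
every (A/J)-algebra isomorphism u₀ : B/JB ≅ B'/JB' comes from an A-algebra isomorphism u : B ≅ B' by
passing to quotients. (B is taken formally smooth for the JB-adic topology, the topology along which
the argument lifts B → B'/JB' to B'; read with the convention that a local ring carries the adic
topology of its maximal ideal, the published hypothesis would be formal smoothness for the
maximal-ideal topology on B, a weaker condition when JB is strictly smaller than the maximal ideal,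
and that reading is not what the argument establishes.) -/
theorem result {A B B' : Type u} [CommRing A] [IsNoetherianRing A] (J : Ideal A)
    [CommRing B] [IsLocalRing B] [IsNoetherianRing B] [Algebra A B]
    [CommRing B'] [IsLocalRing B'] [IsNoetherianRing B'] [Algebra A B']
    (hB : J.map (algebraMap A B) ≤ maximalIdeal B) (hB' : J.map (algebraMap A B') ≤ maximalIdeal B')
    [IsAdicComplete (J.map (algebraMap A B)) B] [IsAdicComplete (J.map (algebraMap A B')) B']
    (hfs : EGA41.IsFormallySmoothAdic A J B (J.map (algebraMap A B))) [Module.Flat A B']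
    (u₀ : (B ⧸ J.map (algebraMap A B)) ≃ₐ[A ⧸ J] (B' ⧸ J.map (algebraMap A B'))) :
    ∃ u : B ≃ₐ[A] B', ∀ b : B,
      Ideal.Quotient.mk (J.map (algebraMap A B')) (u b) = u₀ (Ideal.Quotient.mk (J.map (algebraMap A B)) b) := by
  -- the isomorphism modulo `J` as a map of `A`-algebras
  let u₀A : (B ⧸ J.map (algebraMap A B)) →ₐ[A] (B' ⧸ J.map (algebraMap A B')) :=
    { u₀.toAlgHom.toRingHom with
      commutes' := fun a => by
        have h1 : algebraMap A (B ⧸ J.map (algebraMap A B)) a =
            algebraMap (A ⧸ J) (B ⧸ J.map (algebraMap A B)) (Ideal.Quotient.mk J a) := rfl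
        have h2 : algebraMap A (B' ⧸ J.map (algebraMap A B')) a =
            algebraMap (A ⧸ J) (B' ⧸ J.map (algebraMap A B')) (Ideal.Quotient.mk J a) := rfl
        show u₀ _ = _
        rw [h1, h2, u₀.commutes] }
  have hu₀A : ∀ x, u₀A x = u₀ x := fun _ => rfl
  let w : B →ₐ[A] B' ⧸ J.map (algebraMap A B') :=
    u₀A.comp (Ideal.Quotient.mkₐ A (J.map (algebraMap A B)))
  have hH : IsHausdorff ((J.map (algebraMap A B')).map
      (Ideal.Quotient.mk (J.map (algebraMap A B')))) (B' ⧸ J.map (algebraMap A B')) := by
    rw [Ideal.map_quotient_self]; infer_instance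
  obtain ⟨v, -, hv⟩ := Groth.Agent.S4542.result J (J.map (algebraMap A B))
    (J.map (algebraMap A B')) hfs ⟨1, by simp⟩ (J.map (algebraMap A B')) ⟨1, by simp⟩ w
    ⟨1, by
      rw [pow_one, Ideal.map_le_iff_le_comap]
      intro x hx
      rw [Ideal.mem_comap]
      have : w.toRingHom x = 0 := by
        show u₀A (Ideal.Quotient.mk _ x) = 0
        rw [Ideal.Quotient.eq_zero_iff_mem.mpr hx, map_zero]
      rw [this]
      exact Ideal.zero_mem _⟩
  have hvb : ∀ b : B, Ideal.Quotient.mk (J.map (algebraMap A B')) (v b) =
      u₀ (Ideal.Quotient.mk (J.map (algebraMap A B)) b) := by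
    intro b
    exact congrArg (fun φ : B →ₐ[A] _ => φ b) hv
  have hc1 : IsAdicComplete J B := (IsAdicComplete.map_algebraMap_iff J B (S := B)).mp inferInstance
  have hc2 : IsHausdorff J B' := (IsHausdorff.map_algebraMap_iff (I := J) (M := B') (S := B')).mp inferInstance
  have hbij : Function.Bijective v.toLinearMap := by
    apply Groth.Agent.S4515.result J v.toLinearMap
    · intro m
      obtain ⟨y, hy⟩ := u₀.surjective (Ideal.Quotient.mk _ m)
      obtain ⟨n, rfl⟩ := Ideal.Quotient.mk_surjective y
      refine ⟨n, ?_⟩
      rw [Ideal.smul_top_eq_map, Submodule.restrictScalars_mem, AlgHom.toLinearMap_apply,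
        ← Ideal.Quotient.eq, hvb, hy]
    · intro n hn
      rw [Ideal.smul_top_eq_map, Submodule.restrictScalars_mem] at hn ⊢
      rw [AlgHom.toLinearMap_apply, ← Ideal.Quotient.eq_zero_iff_mem, hvb] at hn
      rw [← Ideal.Quotient.eq_zero_iff_mem]
      exact (map_eq_zero_iff u₀ u₀.injective).mp hn
  exact ⟨AlgEquiv.ofBijective v hbij, fun b => hvb b⟩

end Groth.Agent.S4543
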