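import Groth.Statements.S4547
import Groth.Agent.H23.LeftInv

set_option autoImplicit false
universe u
open EGA41

namespace Groth.Agent.S4547

open IsLocalRing TensorProduct

/-- A linear map sending a basis to a linearly independent family is injective. -/
theorem injective_of_linearIndependent_comp_basis {k : Type*} [CommRing k] {E E' : Type*}
    [AddCommGroup E] [Module k E] [AddCommGroup E'] [Module k E'] {ι : Type*}
    (b : Module.Basis ι k E) (F : E →ₗ[k] E') (h : LinearIndependent k (fun i => F (b i))) :
    Function.Injective F := by
  have hF : F = (Finsupp.linearCombination k (fun i => F (b i))) ∘ₗ b.repr.toLinearMap := by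
    apply b.ext
    intro i
    simp [Module.Basis.repr_self, Finsupp.linearCombination_single]
  rw [hF, LinearMap.coe_comp]
  exact (linearIndependent_iff_injective_finsuppLinearCombination.mp h).comp b.repr.injective

/-- The main technical step: a generating family whose image under `u` is independent modulo the
maximal ideal is a basis, and `u` is left invertible. -/
theorem key {A : Type u} [CommRing A] [IsLocalRing A] {M N : Type u}
    [AddCommGroup M] [Module A M] [Module.Finite A M] [AddCommGroup N] [Module A N]
    [Module.Projective A N] (u : M →ₗ[A] N) (m : ℕ) (x : Fin m → M)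
    (hx : Submodule.span A (Set.range x) = ⊤)
    (hli : LinearIndependent (ResidueField A) (fun i => (1 : ResidueField A) ⊗ₜ[A] u (x i))) :
    (∃ w : N →ₗ[A] M, w ∘ₗ u = LinearMap.id) ∧
      ∃ b : Module.Basis (Fin m) A M, ∀ i, b i = x i := by
  obtain ⟨ι, _, a, b, hab⟩ := Groth.Agent.H23.LeftInv.exists_finite_free_factor u
  have hred := Groth.Agent.H23.LeftInv.leftInv_iff_of_factor u a b hab
  let ψ : (Fin m → A) →ₗ[A] M := Fintype.linearCombination A x
  have hψsurj : Function.Surjective ψ := by
    rw [← LinearMap.range_eq_top, Fintype.range_linearCombination, hx]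
  let ℓ : (Fin m → A) →ₗ[A] (ι → A) := (a ∘ₗ u) ∘ₗ ψ
  -- independence of the images in the finite free module
  have hli2 : LinearIndependent (ResidueField A)
      (fun i => (a.baseChange (ResidueField A)) ((1 : ResidueField A) ⊗ₜ[A] u (x i))) := by
    apply LinearIndependent.of_comp (b.baseChange (ResidueField A))
    have : (⇑(b.baseChange (ResidueField A)) ∘ fun i =>
        (a.baseChange (ResidueField A)) ((1 : ResidueField A) ⊗ₜ[A] u (x i))) =
        fun i => (1 : ResidueField A) ⊗ₜ[A] u (x i) := by
      funext i
      simp only [Function.comp_apply, LinearMap.baseChange_tmul]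
      have := LinearMap.congr_fun hab (x i)
      simp only [LinearMap.comp_apply] at this
      rw [this]
    rw [this]
    exact hli
  have hinj : Function.Injective (ℓ.lTensor (ResidueField A)) := by
    have h1 : Function.Injective (ℓ.baseChange (ResidueField A)) := by
      apply injective_of_linearIndependent_comp_basis
        ((Pi.basisFun A (Fin m)).baseChange (ResidueField A))
      have : (fun i => (ℓ.baseChange (ResidueField A))
          (((Pi.basisFun A (Fin m)).baseChange (ResidueField A)) i)) =
          fun i => (a.baseChange (ResidueField A)) ((1 : ResidueField A) ⊗ₜ[A] u (x i)) := by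
        funext i
        simp only [Module.Basis.baseChange_apply, LinearMap.baseChange_tmul, ℓ, ψ,
          LinearMap.comp_apply, Pi.basisFun_apply, Fintype.linearCombination_apply_single,
          one_smul]
      rw [this]
      exact hli2
    intro p q hpq
    apply h1
    simpa [LinearMap.baseChange_eq_ltensor] using hpq
  obtain ⟨l', hl'⟩ :=
    (IsLocalRing.split_injective_iff_lTensor_residueField_injective ℓ).mpr hinj
  have hℓinj : Function.Injective ℓ :=
    Function.HasLeftInverse.injective ⟨l', fun z => LinearMap.congr_fun hl' z⟩
  have hψinj : Function.Injective ψ := by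
    intro p q hpq
    apply hℓinj
    simp only [ℓ, LinearMap.comp_apply, hpq]
  constructor
  · rw [hred]
    refine ⟨ψ ∘ₗ l', ?_⟩
    ext y
    obtain ⟨z, rfl⟩ := hψsurj y
    have := LinearMap.congr_fun hl' z
    simp only [LinearMap.comp_apply, LinearMap.id_apply, ℓ] at this ⊢
    rw [this]
  · have hliA : LinearIndependent A x :=
      linearIndependent_iff_injective_fintypeLinearCombination.mpr hψinj
    refine ⟨Module.Basis.mk hliA (by rw [hx]), fun i => ?_⟩
    simp

/-- Let A be a local ring with residue field k, M an A-module of finite type, N a projective A-module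
and u : M → N a homomorphism. Then u is left invertible if and only if there is a finite system of
generators (x_i) of M such that the elements 1 ⊗ u(x_i) of k ⊗_A N are linearly independent over k;
and such a system (x_i) is then a basis of M. -/
theorem result {A : Type u} [CommRing A] [IsLocalRing A] {M N : Type u}
    [AddCommGroup M] [Module A M] [Module.Finite A M] [AddCommGroup N] [Module A N] [Module.Projective A N]
    (u : M →ₗ[A] N) :
    ((∃ w : N →ₗ[A] M, w ∘ₗ u = LinearMap.id) ↔
      ∃ (m : ℕ) (x : Fin m → M), Submodule.span A (Set.range x) = ⊤ ∧
        LinearIndependent (ResidueField A) (fun i => (1 : ResidueField A) ⊗ₜ[A] u (x i))) ∧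
    ∀ (m : ℕ) (x : Fin m → M), Submodule.span A (Set.range x) = ⊤ →
      LinearIndependent (ResidueField A) (fun i => (1 : ResidueField A) ⊗ₜ[A] u (x i)) →
        ∃ b : Module.Basis (Fin m) A M, ∀ i, b i = x i := by
  constructor
  · constructor
    · rintro ⟨w, hw⟩
      have hproj : Module.Projective A M := Module.Projective.of_split u w hw
      have hfree : Module.Free A M := Module.free_of_flat_of_isLocalRing
      let bM := Module.finBasis A M
      refine ⟨Module.finrank A M, bM, bM.span_eq, ?_⟩
      have hinj : Function.Injective (u.baseChange (ResidueField A)) := by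
        apply Function.HasLeftInverse.injective
        refine ⟨w.baseChange (ResidueField A), fun z => ?_⟩
        rw [← LinearMap.comp_apply, ← LinearMap.baseChange_comp, hw, LinearMap.baseChange_id]
        rfl
      have h1 := (bM.baseChange (ResidueField A)).linearIndependent.map'
        (u.baseChange (ResidueField A)) (LinearMap.ker_eq_bot.mpr hinj)
      have h2 : (fun i => (1 : ResidueField A) ⊗ₜ[A] u (bM i)) =
          ⇑(u.baseChange (ResidueField A)) ∘ ⇑(bM.baseChange (ResidueField A)) := by
        funext i
        simp [Module.Basis.baseChange_apply]
      rw [h2]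
      exact h1
    · rintro ⟨m, x, hx, hli⟩
      exact (key u m x hx hli).1
  · intro m x hx hli
    exact (key u m x hx hli).2

end Groth.Agent.S4547
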