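import Groth.Statements.S4552
import Mathlib.Algebra.Module.Torsion.Basic
import Mathlib.Algebra.Module.Projective

set_option autoImplicit false
universe u
open EGA41

namespace Groth.Agent.S4552

/-- For the 𝔞-adic topology on A and the deduced topology on M: the topological A-module M is formally
projective (for every open ideal 𝔞ⁿ, every pair of (A/𝔞ⁿ)-modules P, Q, every surjection P → Q and
every continuous A-linear map M → Q — here automatically continuous — there is a continuous A-linear
lift M → P) if and only if it is strictly formally projective, i.e. M/𝔞ⁿM is a projective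
(A/𝔞ⁿ)-module for every n. -/
theorem result {A : Type u} [CommRing A] (𝔞 : Ideal A) (M : Type u)
    [AddCommGroup M] [Module A M] :
    (∀ (n : ℕ) (P Q : Type u) [AddCommGroup P] [Module A P] [AddCommGroup Q] [Module A Q],
      (∀ a ∈ 𝔞 ^ n, ∀ y : P, a • y = 0) → (∀ a ∈ 𝔞 ^ n, ∀ y : Q, a • y = 0) →
      ∀ f : P →ₗ[A] Q, Function.Surjective f → ∀ v : M →ₗ[A] Q, ∃ w : M →ₗ[A] P, f ∘ₗ w = v) ↔
    ∀ n : ℕ, Module.Projective (A ⧸ 𝔞 ^ n) (M ⧸ (𝔞 ^ n • ⊤ : Submodule A M)) := by
  constructor
  · intro h n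
    apply Module.Projective.of_lifting_property
    intro P Q _ _ _ _ f g hf
    let _ : Module A P := Module.compHom P (Ideal.Quotient.mk (𝔞 ^ n))
    let _ : Module A Q := Module.compHom Q (Ideal.Quotient.mk (𝔞 ^ n))
    have hP : ∀ a ∈ 𝔞 ^ n, ∀ y : P, a • y = 0 := by
      intro a ha y
      change Ideal.Quotient.mk (𝔞 ^ n) a • y = 0
      rw [Ideal.Quotient.eq_zero_iff_mem.mpr ha, zero_smul]
    have hQ : ∀ a ∈ 𝔞 ^ n, ∀ y : Q, a • y = 0 := by
      intro a ha y
      change Ideal.Quotient.mk (𝔞 ^ n) a • y = 0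
      rw [Ideal.Quotient.eq_zero_iff_mem.mpr ha, zero_smul]
    let f' : P →ₗ[A] Q :=
      { toFun := f
        map_add' := f.map_add
        map_smul' := fun a x => f.map_smul (Ideal.Quotient.mk (𝔞 ^ n) a) x }
    let v : M →ₗ[A] Q :=
      { toFun := fun m => g (Submodule.Quotient.mk m)
        map_add' := fun x y => by simp
        map_smul' := fun a x => by
          change g (Submodule.Quotient.mk (a • x)) = Ideal.Quotient.mk (𝔞 ^ n) a • _
          rw [← g.map_smul]
          rfl }
    obtain ⟨w, hw⟩ := h n P Q hP hQ f' hf v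
    have hwker : (𝔞 ^ n • ⊤ : Submodule A M) ≤ LinearMap.ker w := by
      rw [Submodule.smul_le]
      intro a ha m _
      rw [LinearMap.mem_ker, map_smul]
      exact hP a ha _
    let w₁ : M ⧸ (𝔞 ^ n • ⊤ : Submodule A M) →ₗ[A] P := Submodule.liftQ _ w hwker
    let w₂ : M ⧸ (𝔞 ^ n • ⊤ : Submodule A M) →ₗ[A ⧸ 𝔞 ^ n] P :=
      { toFun := w₁
        map_add' := w₁.map_add
        map_smul' := fun r x => by
          obtain ⟨a, rfl⟩ := Ideal.Quotient.mk_surjective r
          obtain ⟨m, rfl⟩ := Submodule.Quotient.mk_surjective _ x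
          change w₁ (Submodule.Quotient.mk (a • m)) = Ideal.Quotient.mk (𝔞 ^ n) a • _
          change w (a • m) = a • w m
          exact map_smul w a m }
    refine ⟨w₂, ?_⟩
    ext x
    obtain ⟨m, rfl⟩ := Submodule.Quotient.mk_surjective _ x
    have := congrArg (fun φ => φ m) hw
    exact this
  · intro h n P Q _ _ _ _ hP hQ f hf v
    have hP' : Module.IsTorsionBySet A P (𝔞 ^ n : Ideal A) := fun x a => hP a.1 a.2 x
    have hQ' : Module.IsTorsionBySet A Q (𝔞 ^ n : Ideal A) := fun x a => hQ a.1 a.2 x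
    let _ : Module (A ⧸ 𝔞 ^ n) P := hP'.module
    let _ : Module (A ⧸ 𝔞 ^ n) Q := hQ'.module
    let f' : P →ₗ[A ⧸ 𝔞 ^ n] Q :=
      { toFun := f
        map_add' := f.map_add
        map_smul' := fun r x => by
          obtain ⟨a, rfl⟩ := Ideal.Quotient.mk_surjective r
          exact f.map_smul a x }
    have hvker : (𝔞 ^ n • ⊤ : Submodule A M) ≤ LinearMap.ker v := by
      rw [Submodule.smul_le]
      intro a ha m _
      rw [LinearMap.mem_ker, map_smul]
      exact hQ a ha _
    let v₁ : M ⧸ (𝔞 ^ n • ⊤ : Submodule A M) →ₗ[A] Q := Submodule.liftQ _ v hvker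
    let v₂ : M ⧸ (𝔞 ^ n • ⊤ : Submodule A M) →ₗ[A ⧸ 𝔞 ^ n] Q :=
      { toFun := v₁
        map_add' := v₁.map_add
        map_smul' := fun r x => by
          obtain ⟨a, rfl⟩ := Ideal.Quotient.mk_surjective r
          obtain ⟨m, rfl⟩ := Submodule.Quotient.mk_surjective _ x
          change v (a • m) = a • v m
          exact map_smul v a m }
    have := h n
    obtain ⟨w, hw⟩ := Module.projective_lifting_property f' v₂ hf
    let w' : M →ₗ[A] P :=
      { toFun := fun m => w (Submodule.Quotient.mk m)
        map_add' := fun x y => by simp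
        map_smul' := fun a x => by
          change w (Ideal.Quotient.mk (𝔞 ^ n) a • Submodule.Quotient.mk x) = a • _
          rw [w.map_smul]
          rfl }
    refine ⟨w', ?_⟩
    ext m
    have := congrArg (fun φ => φ (Submodule.Quotient.mk m)) hw
    exact this

end Groth.Agent.S4552
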