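import Groth.Statements.S4553
import Groth.Agent.H23.AdicProj

set_option autoImplicit false
universe u
open EGA41

namespace Groth.Agent.S4553

/-- Let A be 𝔞-adic (a preadmissible ring with ideal of definition 𝔞), B a topological A-algebra for the
𝔟-adic topology (a power of 𝔞 maps into 𝔟) which is a formally projective topological A-module, and
put A₀ = A/𝔞, B₀ = B/𝔞B with the quotient topologies (A₀ discrete). Then B is a formally smooth
A-algebra if and only if B₀ is a formally smooth A₀-algebra. -/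
theorem result {A B : Type u} [CommRing A] [CommRing B] [Algebra A B]
    (𝔞 : Ideal A) (𝔟 : Ideal B) (hAB : ∃ k : ℕ, (𝔞 ^ k).map (algebraMap A B) ≤ 𝔟)
    (hproj : ∀ (n : ℕ) (P Q : Type u) [AddCommGroup P] [Module A P] [AddCommGroup Q] [Module A Q],
      (∀ a ∈ 𝔞 ^ n, ∀ y : P, a • y = 0) → (∀ a ∈ 𝔞 ^ n, ∀ y : Q, a • y = 0) →
      ∀ f : P →ₗ[A] Q, Function.Surjective f → ∀ v : B →ₗ[A] Q, (∃ m : ℕ, ∀ x ∈ 𝔟 ^ m, v x = 0) →
        ∃ w : B →ₗ[A] P, (∃ m : ℕ, ∀ x ∈ 𝔟 ^ m, w x = 0) ∧ f ∘ₗ w = v) :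
    EGA41.IsFormallySmoothAdic A 𝔞 B 𝔟 ↔
      EGA41.IsFormallySmoothAdic (A ⧸ 𝔞) ⊥ (B ⧸ 𝔞.map (algebraMap A B))
        (𝔟.map (Ideal.Quotient.mk (𝔞.map (algebraMap A B)))) := by
  constructor
  · intro h C _ _ J hJ _ u hu
    letI algAC : Algebra A C := Algebra.compHom C (Ideal.Quotient.mk 𝔞)
    haveI towC : IsScalarTower A (A ⧸ 𝔞) C := IsScalarTower.of_algebraMap_eq (fun _ => rfl)
    haveI towCJ : IsScalarTower A (A ⧸ 𝔞) (C ⧸ J) := IsScalarTower.of_algebraMap_eq (fun _ => rfl)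
    have hzero : ∀ a ∈ 𝔞, algebraMap A C a = 0 := by
      intro a ha
      show algebraMap (A ⧸ 𝔞) C (Ideal.Quotient.mk 𝔞 a) = 0
      rw [Ideal.Quotient.eq_zero_iff_mem.mpr ha, map_zero]
    have hk' : ∃ k : ℕ, (𝔞 ^ k).map (algebraMap A C) = ⊥ := by
      refine ⟨1, ?_⟩
      rw [pow_one, eq_bot_iff, Ideal.map_le_iff_le_comap]
      intro a ha
      rw [Ideal.mem_comap, hzero a ha]
      exact Ideal.zero_mem _
    let u' : B →ₐ[A] C ⧸ J :=
      (u.restrictScalars A).comp (Ideal.Quotient.mkₐ A (𝔞.map (algebraMap A B)))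
    have hu' : ∃ k : ℕ, ∀ x ∈ 𝔟 ^ k, u' x = 0 := by
      obtain ⟨k, hk⟩ := hu
      refine ⟨k, fun x hx => ?_⟩
      apply hk
      rw [← Ideal.map_pow]
      exact Ideal.mem_map_of_mem _ hx
    obtain ⟨v, hv⟩ := h C J hJ hk' u' hu'
    have hvker : ∀ x ∈ 𝔞.map (algebraMap A B), v.toRingHom x = 0 := by
      have : 𝔞.map (algebraMap A B) ≤ RingHom.ker v.toRingHom := by
        rw [Ideal.map_le_iff_le_comap]
        intro a ha
        rw [Ideal.mem_comap, RingHom.mem_ker]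
        show v (algebraMap A B a) = 0
        rw [v.commutes, hzero a ha]
      exact fun x hx => this hx
    let v₀r : (B ⧸ 𝔞.map (algebraMap A B)) →+* C := Ideal.Quotient.lift _ v.toRingHom hvker
    let v₀ : (B ⧸ 𝔞.map (algebraMap A B)) →ₐ[A ⧸ 𝔞] C :=
      { v₀r with
        commutes' := by
          intro r
          obtain ⟨a, rfl⟩ := Ideal.Quotient.mk_surjective r
          show v₀r (algebraMap (A ⧸ 𝔞) (B ⧸ 𝔞.map (algebraMap A B)) (Ideal.Quotient.mk 𝔞 a)) = _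
          rw [Ideal.Quotient.algebraMap_quotient_map_quotient]
          show v (algebraMap A B a) = _
          rw [v.commutes]
          rfl }
    refine ⟨v₀, ?_⟩
    apply AlgHom.ext
    intro x
    obtain ⟨b, rfl⟩ := Ideal.Quotient.mk_surjective x
    exact congrArg (fun φ => φ b) hv
  · intro h₀
    apply Groth.Agent.H23.AdicProj.adic_of_surjLift
    apply Groth.Agent.H23.AdicProj.surjLift_of_killed
    intro E E₀ _ _ _ _ π hπ hnil hk hkill ψ hψ
    exact Groth.Agent.H23.AdicProj.lift_of_killed 𝔞 𝔟 hproj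
      (Groth.Agent.H23.AdicProj.surjLift_of_adic h₀) E E₀ π hπ hnil hk hkill ψ hψ

end Groth.Agent.S4553
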