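import Groth.Statements.S4555
import Mathlib
import Groth.Agent.H23.PowerSeriesEval

set_option autoImplicit false
universe u
open EGA41

namespace Groth.Agent.S4555

/-- Let A carry the 𝔞-adic topology, B = A[[T_1, …, T_n]] the product topology (the adic topology of 𝔞B
+ (T_1, …, T_n)), and let E be a discrete topological A-algebra (a power of 𝔞 kills E). (i) If f : B
→ E is a continuous A-algebra homomorphism then each f(T_i) is nilpotent. (ii) Conversely, for every
family (z_i) of nilpotent elements of E there is one and only one continuous A-algebra homomorphism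
g : B → E with g(T_i) = z_i for all i. -/
theorem result (A : Type u) [CommRing A] (𝔞 : Ideal A) (n : ℕ) (E : Type u) [CommRing E]
    [Algebra A E] (hE : ∃ k : ℕ, (𝔞 ^ k).map (algebraMap A E) = ⊥) :
    (∀ f : MvPowerSeries (Fin n) A →ₐ[A] E,
      (∃ m : ℕ, ∀ x ∈ (𝔞.map (MvPowerSeries.C : A →+* MvPowerSeries (Fin n) A) ⊔
        RingHom.ker (MvPowerSeries.constantCoeff : MvPowerSeries (Fin n) A →+* A)) ^ m, f x = 0) →
      ∀ i, IsNilpotent (f (MvPowerSeries.X i))) ∧
    ∀ z : Fin n → E, (∀ i, IsNilpotent (z i)) →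
      ∃! g : MvPowerSeries (Fin n) A →ₐ[A] E,
        (∃ m : ℕ, ∀ x ∈ (𝔞.map (MvPowerSeries.C : A →+* MvPowerSeries (Fin n) A) ⊔
          RingHom.ker (MvPowerSeries.constantCoeff : MvPowerSeries (Fin n) A →+* A)) ^ m, g x = 0) ∧
        ∀ i, g (MvPowerSeries.X i) = z i := by
  obtain ⟨k, hk⟩ := hE
  constructor
  · rintro f ⟨m, hm⟩ i
    refine ⟨m, ?_⟩
    rw [← map_pow]
    exact hm _ (Ideal.pow_mem_pow (Ideal.mem_sup_right (by simp [RingHom.mem_ker])) m)
  · intro z hz
    obtain ⟨M, hM⟩ := Groth.Agent.H23.PowerSeriesEval.exists_pow_span_eq_bot z hz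
    set g : MvPowerSeries (Fin n) A →ₐ[A] E :=
      Groth.Agent.H23.PowerSeriesEval.evalTrunc z M hM with hg
    have hcont : ∀ x ∈ (𝔞.map (MvPowerSeries.C : A →+* MvPowerSeries (Fin n) A) ⊔
          RingHom.ker (MvPowerSeries.constantCoeff : MvPowerSeries (Fin n) A →+* A)) ^ (k + M),
          g x = 0 := by
      intro x hx
      have h1 : (𝔞.map (MvPowerSeries.C : A →+* MvPowerSeries (Fin n) A) ⊔
          RingHom.ker (MvPowerSeries.constantCoeff : MvPowerSeries (Fin n) A →+* A)).map g ≤
          𝔞.map (algebraMap A E) ⊔ Ideal.span (Set.range z) := by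
        rw [Ideal.map_sup]
        refine sup_le_sup ?_ (Groth.Agent.H23.PowerSeriesEval.map_ker_evalTrunc_le z M hM)
        rw [Ideal.map_le_iff_le_comap, Ideal.map_le_iff_le_comap]
        intro a ha
        rw [Ideal.mem_comap, Ideal.mem_comap]
        have : g (MvPowerSeries.C a) = algebraMap A E a := by
          have h0 : (MvPowerSeries.C a : MvPowerSeries (Fin n) A) =
              algebraMap A (MvPowerSeries (Fin n) A) a := by
            rw [MvPowerSeries.algebraMap_apply]; rfl
          rw [h0, AlgHom.commutes]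
        rw [this]
        exact Ideal.mem_map_of_mem _ ha
      have h2 : g x ∈ (𝔞.map (algebraMap A E) ⊔ Ideal.span (Set.range z)) ^ (k + M) := by
        refine Ideal.pow_right_mono h1 _ ?_
        rw [← Ideal.map_pow]
        exact Ideal.mem_map_of_mem _ hx
      have h3 := Ideal.sup_pow_add_le_pow_sup_pow (I := 𝔞.map (algebraMap A E))
        (J := Ideal.span (Set.range z)) (n := k) (m := M) h2
      rw [hM, ← Ideal.map_pow, hk, bot_sup_eq, Ideal.mem_bot] at h3
      exact h3
    refine ⟨g, ⟨⟨k + M, hcont⟩, fun i => Groth.Agent.H23.PowerSeriesEval.evalTrunc_X z M hM i⟩, ?_⟩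
    rintro g' ⟨⟨m', hm'⟩, hX'⟩
    apply Groth.Agent.H23.PowerSeriesEval.algHom_ext_of_kills _ _ (m' + (k + M))
    · intro x hx
      refine hm' x ?_
      exact (Ideal.pow_le_pow_right (Nat.le_add_right m' (k + M)))
        (Ideal.pow_right_mono le_sup_right _ hx)
    · intro x hx
      refine hcont x ?_
      exact (Ideal.pow_le_pow_right (Nat.le_add_left (k + M) m'))
        (Ideal.pow_right_mono le_sup_right _ hx)
    · intro i
      rw [hX' i, Groth.Agent.H23.PowerSeriesEval.evalTrunc_X]

end Groth.Agent.S4555
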