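import Groth.Statements.S4556

set_option autoImplicit false
universe u
open EGA41

namespace Groth.Agent.S4556

/-- Let B be a formally smooth A-algebra, E and E' two A-algebras, R (resp. R') a nilpotent ideal of E
(resp. E'), f : E → E' a surjective A-algebra homomorphism with f(R) = R', and f' : E/R → E'/R' the
induced homomorphism. Let u : B → E/R be an A-algebra homomorphism and v' : B → E' an A-algebra
homomorphism through which f' ∘ u factors (v' followed by E' → E'/R' equals f' ∘ u). Then there is
an A-algebra homomorphism v : B → E with f ∘ v = v'. (The published statement assumes only f(R) ⊆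
R'; in that form it fails for B = ℚ[x, x⁻¹], E = ℚ[t], E' = ℚ[t]/(t²), R = 0, R' = (t), u : x ↦ 1
and v' : x ↦ 1 + t, since any v sends x to a unit of ℚ[t], a constant; the argument identifies R'
with the image of R, and that equality is assumed here.) -/
theorem result {A B E E' : Type u} [CommRing A] [CommRing B] [Algebra A B]
    [Algebra.FormallySmooth A B] [CommRing E] [CommRing E'] [Algebra A E] [Algebra A E']
    (R : Ideal E) (R' : Ideal E') (hR : IsNilpotent R) (hR' : IsNilpotent R')
    (f : E →ₐ[A] E') (hf : Function.Surjective f) (hfR : R.map f.toRingHom = R')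
    (u : B →ₐ[A] E ⧸ R) (v' : B →ₐ[A] E')
    (huv : (Ideal.Quotient.mkₐ A R').comp v' =
      (Ideal.quotientMapₐ R' f (fun x hx => hfR.le (Ideal.mem_map_of_mem f.toRingHom hx))).comp u) :
    ∃ v : B →ₐ[A] E, f.comp v = v' := by
  classical
  -- the map into the product
  let g : E →ₐ[A] (E ⧸ R) × E' := AlgHom.prod (Ideal.Quotient.mkₐ A R) f
  let w : B →ₐ[A] (E ⧸ R) × E' := AlgHom.prod u v'
  have hw : ∀ b : B, w b ∈ g.range := by
    intro b
    obtain ⟨e0, he0⟩ := Ideal.Quotient.mk_surjective (u b)
    have h1 : Ideal.Quotient.mk R' (v' b) = Ideal.Quotient.mk R' (f e0) := by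
      have := congrArg (fun φ : B →ₐ[A] E' ⧸ R' => φ b) huv
      simp only [AlgHom.comp_apply, Ideal.Quotient.mkₐ_eq_mk] at this
      rw [this, ← he0]
      simp [Ideal.quotientMapₐ, Ideal.quotientMap_mk]
    have h2 : v' b - f e0 ∈ R' := by
      rw [← Ideal.Quotient.eq]; exact h1
    rw [← hfR] at h2
    have h3 : v' b - f e0 ∈ R.map (f : E →+* E') := h2
    rw [Ideal.mem_map_iff_of_surjective (f : E →+* E') hf] at h3
    obtain ⟨r, hr, hfr⟩ := h3
    rw [AlgHom.mem_range]
    refine ⟨e0 + r, ?_⟩
    have hfr' : f r = v' b - f e0 := hfr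
    have hr0 : (Ideal.Quotient.mk R) r = 0 := Ideal.Quotient.eq_zero_iff_mem.mpr hr
    show ((Ideal.Quotient.mkₐ A R) (e0 + r), f (e0 + r)) = (u b, v' b)
    refine Prod.ext ?_ ?_
    · show (Ideal.Quotient.mk R) (e0 + r) = u b
      rw [map_add, hr0, add_zero, he0]
    · show f (e0 + r) = v' b
      rw [map_add, hfr']; ring
  let w' : B →ₐ[A] g.range := w.codRestrict g.range hw
  let g' : E →ₐ[A] g.range := g.rangeRestrict
  have hg' : Function.Surjective g' := g.rangeRestrict_surjective
  have hker : IsNilpotent (RingHom.ker (g' : E →+* g.range)) := by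
    obtain ⟨n, hn⟩ := hR
    refine ⟨n, ?_⟩
    rw [Ideal.zero_eq_bot, ← le_bot_iff, ← Ideal.zero_eq_bot, ← hn]
    apply Ideal.pow_right_mono
    intro x hx
    rw [RingHom.mem_ker] at hx
    have hx' : g x = 0 := by
      have := congrArg Subtype.val hx
      simpa [g'] using this
    have : (Ideal.Quotient.mk R) x = 0 := by
      have := congrArg Prod.fst hx'
      simpa [g] using this
    exact Ideal.Quotient.eq_zero_iff_mem.mp this
  refine ⟨Algebra.FormallySmooth.liftOfSurjective w' g' hg' hker, ?_⟩
  ext b
  have h := Algebra.FormallySmooth.liftOfSurjective_apply w' g' hg' hker b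
  have h' : (g (Algebra.FormallySmooth.liftOfSurjective w' g' hg' hker b)).2 = (w b).2 :=
    congrArg (fun p : g.range => (p : (E ⧸ R) × E').2) h
  exact h'

end Groth.Agent.S4556
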