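import Groth.Statements.S4559
import Mathlib
import Groth.Agent.H23.Unramified

set_option autoImplicit false
universe u
open EGA41

namespace Groth.Agent.S4559

/-- Let A be 𝔞-adic and B a topological A-algebra for the 𝔟-adic topology (a power of 𝔞 maps into 𝔟).
Then B is a formally unramified A-algebra (for every homomorphism E → C of discrete A-algebras with
nilpotent kernel and every continuous u : B → C there is at most one continuous lift B → E; here E
discrete means killed by a power of 𝔞, and one may take C = E/J) if and only if the separated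
completion of Ω_{B/A}, i.e. its 𝔟-adic completion, is zero. -/
theorem result {A B : Type u} [CommRing A] [CommRing B] [Algebra A B]
    (𝔞 : Ideal A) (𝔟 : Ideal B) (hAB : ∃ k : ℕ, (𝔞 ^ k).map (algebraMap A B) ≤ 𝔟) :
    (∀ (E : Type u) [CommRing E] [Algebra A E], (∃ k : ℕ, (𝔞 ^ k).map (algebraMap A E) = ⊥) →
      ∀ J : Ideal E, IsNilpotent J → ∀ v₁ v₂ : B →ₐ[A] E,
        (∃ m : ℕ, ∀ x ∈ 𝔟 ^ m, v₁ x = 0) → (∃ m : ℕ, ∀ x ∈ 𝔟 ^ m, v₂ x = 0) →
        (∀ b : B, Ideal.Quotient.mk J (v₁ b) = Ideal.Quotient.mk J (v₂ b)) → v₁ = v₂) ↔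
    Subsingleton (AdicCompletion 𝔟 (Ω[B⁄A])) := by
  rw [Groth.Agent.H23.Unramified.subsingleton_adicCompletion_iff]
  constructor
  · intro H
    apply Groth.Agent.H23.Unramified.smul_top_eq_top_of_unique 𝔟
    intro E _ _ J hJ hdisc v₁ v₂ h1 h2 h
    obtain ⟨k, hk⟩ := hAB
    refine H E ⟨k, ?_⟩ J ⟨2, hJ⟩ v₁ v₂ ⟨2, h1⟩ ⟨2, h2⟩ (fun b => (Ideal.Quotient.eq).mpr (h b))
    rw [eq_bot_iff, Ideal.map_le_iff_le_comap]
    intro a ha
    rw [Ideal.mem_comap, Ideal.mem_bot]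
    exact hdisc a (hk (Ideal.mem_map_of_mem _ ha))
  · intro hΩ E _ _ _ J hJ v₁ v₂ _ hm h
    obtain ⟨m, hm⟩ := hm
    exact Groth.Agent.H23.Unramified.eq_of_nilpotent 𝔟 hΩ J hJ v₁ v₂ m hm
      (fun b => Ideal.Quotient.eq.mp (h b))

end Groth.Agent.S4559
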