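import Groth.Statements.S4560
import Mathlib
import Groth.Agent.H23.Unramified

set_option autoImplicit false
universe u
open EGA41

namespace Groth.Agent.S4560

/-- Let A be a ring, 𝔪 an ideal of A, B an A-algebra; give A the 𝔪-adic topology and B the topology
deduced from it (the 𝔪B-adic topology), and put A₀ = A/𝔪, B₀ = B/𝔪B. Then B is a formally unramified
A-algebra (for these topologies: E discrete means killed by a power of 𝔪, and continuity of maps B →
E is then automatic) if and only if Ω_{B₀/A₀} = 0, i.e. B₀ is a formally unramified A₀-algebra. -/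
theorem result {A B : Type u} [CommRing A] [CommRing B] [Algebra A B] (𝔪 : Ideal A) :
    (∀ (E : Type u) [CommRing E] [Algebra A E], (∃ k : ℕ, (𝔪 ^ k).map (algebraMap A E) = ⊥) →
      ∀ J : Ideal E, IsNilpotent J → ∀ v₁ v₂ : B →ₐ[A] E,
        (∀ b : B, Ideal.Quotient.mk J (v₁ b) = Ideal.Quotient.mk J (v₂ b)) → v₁ = v₂) ↔
    Subsingleton (Ω[B ⧸ 𝔪.map (algebraMap A B)⁄A ⧸ 𝔪]) := by
  constructor
  · intro H
    apply Groth.Agent.H23.Unramified.subsingleton_quotient_of_smul_top
    apply Groth.Agent.H23.Unramified.smul_top_eq_top_of_unique (𝔪.map (algebraMap A B))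
    intro E _ _ J hJ hdisc v₁ v₂ _ _ h
    refine H E ⟨1, ?_⟩ J ⟨2, hJ⟩ v₁ v₂ (fun b => (Ideal.Quotient.eq).mpr (h b))
    rw [pow_one, eq_bot_iff, Ideal.map_le_iff_le_comap]
    intro a ha
    rw [Ideal.mem_comap, Ideal.mem_bot]
    exact hdisc a (Ideal.mem_map_of_mem _ ha)
  · intro hΩ E _ _ hk J hJ v₁ v₂ h
    obtain ⟨k, hk⟩ := hk
    have hΩ' := Groth.Agent.H23.Unramified.smul_top_eq_top_of_quotient (B := B) 𝔪 hΩ
    refine Groth.Agent.H23.Unramified.eq_of_nilpotent (𝔪.map (algebraMap A B)) hΩ' J hJ v₁ v₂ k ?_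
      (fun b => Ideal.Quotient.eq.mp (h b))
    intro x hx
    rw [← Ideal.map_pow] at hx
    have h1 : v₂ x ∈ ((𝔪 ^ k).map (algebraMap A B)).map v₂.toRingHom :=
      Ideal.mem_map_of_mem v₂.toRingHom hx
    rw [Ideal.map_map] at h1
    have h2 : v₂.toRingHom.comp (algebraMap A B) = algebraMap A E := v₂.comp_algebraMap
    rw [h2, hk, Ideal.mem_bot] at h1
    exact h1

end Groth.Agent.S4560
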