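import Groth.Statements.S4563
import Groth.Agent.H13.PowerSeriesN2
-- import your own Groth.Agent.* helpers here

set_option autoImplicit false
universe u
open CAlg

namespace Groth.Agent.S4563

/-- If A is a Noetherian integrally closed Japanese (N-2) domain, then every formal power series ring
A[[T_1, ..., T_r]] is Japanese. (The power series ring is a domain; that instance is taken as a
hypothesis binder.) -/
theorem result {A : Type u} [CommRing A] [IsDomain A]
    [IsNoetherianRing A] [IsIntegrallyClosed A] (hA : CAlg.IsN2 A) (r : ℕ)
    [IsDomain (MvPowerSeries (Fin r) A)] :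
    CAlg.IsN2 (MvPowerSeries (Fin r) A) := by
  exact Groth.Agent.H13.PowerSeriesN2.isN2_mvPowerSeries A hA r

end Groth.Agent.S4563
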