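import Groth.Statements.S4564
import Mathlib
import Groth.Agent.H57.FormalNormalA
import Groth.Agent.H13.CompleteNagata
import Groth.Agent.H13.NagataDescent
import Groth.Agent.H22.FinitePart
import Groth.Agent.H89.ComplFinite
import Groth.Agent.H58.HL.Hyper

set_option autoImplicit false
universe u
open CAlg

namespace Groth.Agent.S4564

/-- Let A be a complete Noetherian local domain with fraction field K and K' a finite extension of K.
Then the integral closure of A in K' is a local ring, complete for the adic topology of its maximal
ideal. -/
theorem result {A K' : Type u} [CommRing A]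
    [IsDomain A] [IsLocalRing A] [IsNoetherianRing A] [IsAdicComplete (IsLocalRing.maximalIdeal A) A]
    [Field K'] [Algebra A K'] [Algebra (FractionRing A) K'] [IsScalarTower A (FractionRing A) K']
    [FiniteDimensional (FractionRing A) K'] :
    ∃ _ : IsLocalRing (integralClosure A K'),
      IsAdicComplete (IsLocalRing.maximalIdeal (integralClosure A K')) (integralClosure A K') := by
  have hNag : CAlg.IsNagata A := Groth.Agent.H13.CompleteNagata.isNagata_of_complete_local A
  have : HenselianLocalRing A := Groth.Agent.H22.FinitePart.henselianLocalRing_of_isAdicComplete A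
  have : Algebra.EssFiniteType A (FractionRing A) :=
    Algebra.EssFiniteType.of_isLocalization (FractionRing A) (nonZeroDivisors A)
  have : Algebra.EssFiniteType A K' := Algebra.EssFiniteType.comp A (FractionRing A) K'
  have hfin : Module.Finite A (integralClosure A K') :=
    Groth.Agent.H13.NagataDescent.finite_integralClosure_of_essFiniteType A hNag K'
  have hloc : IsLocalRing (integralClosure A K') :=
    Groth.Agent.H57.FormalNormal.isLocalRing_of_finite_of_henselian A _
  refine ⟨hloc, ?_⟩
  have hN : IsNoetherianRing (integralClosure A K') := IsNoetherianRing.of_finite A _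
  -- completeness for the extended ideal
  have hc1 : IsAdicComplete (IsLocalRing.maximalIdeal A) (integralClosure A K') :=
    Groth.Agent.H89.isAdicComplete_of_finite_noeth (IsLocalRing.maximalIdeal A) _
  have hc2 : IsAdicComplete ((IsLocalRing.maximalIdeal A).map (algebraMap A (integralClosure A K')))
      (integralClosure A K') := (IsAdicComplete.map_algebraMap_iff _ _).2 hc1
  set J := (IsLocalRing.maximalIdeal A).map (algebraMap A (integralClosure A K')) with hJ
  have hJne : J ≠ ⊤ := by
    intro htop
    have h1 : IsHausdorff J (integralClosure A K') := hc2.toIsHausdorff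
    have : (1 : integralClosure A K') = 0 := by
      apply h1.haus
      intro n
      rw [SModEq.zero, htop, Ideal.top_pow]
      simp
    exact one_ne_zero this
  have hJle : J ≤ IsLocalRing.maximalIdeal (integralClosure A K') := IsLocalRing.le_maximalIdeal hJne
  let _ := Ideal.Quotient.field (IsLocalRing.maximalIdeal A)
  have hfinq : Module.Finite (A ⧸ IsLocalRing.maximalIdeal A) ((integralClosure A K') ⧸ J) :=
    Module.Finite.of_restrictScalars_finite A _ _
  have hart : IsArtinianRing ((integralClosure A K') ⧸ J) :=
    IsArtinianRing.of_finite (A ⧸ IsLocalRing.maximalIdeal A) _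
  obtain ⟨n, hn⟩ := IsLocalRing.exists_maximalIdeal_pow_le_of_isArtinianRing_quotient J
  exact Groth.Agent.H58.HL.isAdicComplete_of_le_of_pow_le J _ hJle n
    ((Ideal.pow_le_pow_right (Nat.le_succ n)).trans hn)

end Groth.Agent.S4564
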