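import Groth.Statements.S4565
import Mathlib
import Groth.Agent.H13.LocalNagata

set_option autoImplicit false
universe u
open TensorProduct
open CAlg

namespace Groth.Agent.S4565

/-- Let A be a Noetherian local domain with fraction field K whose adic completion Â is reduced, R the
total ring of fractions of Â and K' a finite extension of K. If R ⊗_A K' (equal to R ⊗_K K', since K
is a localization of A and the nonzero elements of A are invertible in R) is reduced, then the
integral closure of A in K' is a finitely generated A-module. -/
theorem result {A K' R : Type u}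
    [CommRing A] [IsDomain A] [IsLocalRing A] [IsNoetherianRing A]
    (hred : IsReduced (AdicCompletion (IsLocalRing.maximalIdeal A) A))
    [CommRing R] [Algebra (AdicCompletion (IsLocalRing.maximalIdeal A) A) R]
    [IsFractionRing (AdicCompletion (IsLocalRing.maximalIdeal A) A) R] [Algebra A R]
    [IsScalarTower A (AdicCompletion (IsLocalRing.maximalIdeal A) A) R]
    [Field K'] [Algebra A K'] [Algebra (FractionRing A) K'] [IsScalarTower A (FractionRing A) K']
    [FiniteDimensional (FractionRing A) K'] (h : IsReduced (R ⊗[A] K')) :
    Module.Finite A (integralClosure A K') := by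
  classical
  haveI := Groth.Agent.H72.FormalEquidim.isLocalRing_compl A
  haveI := Groth.Agent.H72.FormalEquidim.isNoetherianRing_compl A
  haveI := Groth.Agent.H72.FormalEquidim.isLocalHom_compl A
  haveI : IsAdicComplete (IsLocalRing.maximalIdeal (AdicCompletion (IsLocalRing.maximalIdeal A) A))
      (AdicCompletion (IsLocalRing.maximalIdeal A) A) :=
    AdicCompletion.isAdicComplete_of_fg (IsLocalRing.maximalIdeal A).fg_of_isNoetherianRing
  haveI : Module.FaithfullyFlat A (AdicCompletion (IsLocalRing.maximalIdeal A) A) :=
    Module.FaithfullyFlat.of_flat_of_isLocalHom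
  have hC : CAlg.IsNagata (AdicCompletion (IsLocalRing.maximalIdeal A) A) :=
    Groth.Agent.H13.CompleteNagata.isNagata_of_complete_local _
  obtain ⟨S', -, hfin, hfrac⟩ :=
    Groth.Agent.H47.exists_finite_subalgebra_isFractionRing A (FractionRing A) K'
  haveI := hfin
  haveI := hfrac
  -- flatness of K' over A
  haveI : Module.Flat A (FractionRing A) := IsLocalization.flat (FractionRing A) (nonZeroDivisors A)
  haveI : Module.Flat A K' := Module.Flat.trans A (FractionRing A) K'
  -- Â ⊗ K' embeds in R ⊗ K'
  let φ : AdicCompletion (IsLocalRing.maximalIdeal A) A →ₐ[A] R :=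
    IsScalarTower.toAlgHom A (AdicCompletion (IsLocalRing.maximalIdeal A) A) R
  have hφ : Function.Injective φ :=
    IsFractionRing.injective (AdicCompletion (IsLocalRing.maximalIdeal A) A) R
  let ψ : AdicCompletion (IsLocalRing.maximalIdeal A) A ⊗[A] K' →ₐ[A] R ⊗[A] K' :=
    Algebra.TensorProduct.map φ (AlgHom.id A K')
  have hψ : Function.Injective ψ := by
    have h1 : Function.Injective (LinearMap.rTensor K' φ.toLinearMap) :=
      Module.Flat.rTensor_preserves_injective_linearMap (M := K') φ.toLinearMap hφ
    have h2 : (⇑ψ : _ → _) = ⇑(LinearMap.rTensor K' φ.toLinearMap) := by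
      ext x
      induction x using TensorProduct.induction_on with
      | zero => simp
      | tmul c b => simp [ψ]
      | add x y hx hy => simp only [map_add, hx, hy]
    rw [h2]; exact h1
  haveI hred1 : IsReduced (AdicCompletion (IsLocalRing.maximalIdeal A) A ⊗[A] K') :=
    isReduced_of_injective ψ.toRingHom hψ
  -- transfer along K' ≃ FractionRing S'
  let e : FractionRing S' ≃ₐ[S'] K' := FractionRing.algEquiv S' K'
  let eA : FractionRing S' ≃ₐ[A] K' := e.restrictScalars A
  let θ : AdicCompletion (IsLocalRing.maximalIdeal A) A ⊗[A] FractionRing S' ≃ₐ[A]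
      AdicCompletion (IsLocalRing.maximalIdeal A) A ⊗[A] K' :=
    Algebra.TensorProduct.congr AlgEquiv.refl eA
  have hred2 : IsReduced (AdicCompletion (IsLocalRing.maximalIdeal A) A ⊗[A] FractionRing S') :=
    isReduced_of_injective θ.toAlgHom.toRingHom θ.injective
  have hN1 : CAlg.IsN1 S' :=
    Groth.Agent.H13.NagataDescent.isN1_of_faithfullyFlat_nagata A
      (AdicCompletion (IsLocalRing.maximalIdeal A) A) S' hC hred2
  exact Groth.Agent.H47.finite_integralClosure_of_subalgebra S' hN1

end Groth.Agent.S4565
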