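import Groth.Statements.S4569
import Mathlib.RingTheory.Localization.Ideal

set_option autoImplicit false
universe u
open CAlg

namespace Groth.Agent.S4569

theorem key {A : Type u} [CommRing A] (x : A) (hx : x ∈ nonZeroDivisors A)
    [hp : (Ideal.span ({x} : Set A)).IsPrime] (s : A) (hs : s ∉ Ideal.span ({x} : Set A)) :
    ∀ (n : ℕ) (a c : A), s * a = x ^ n * c → x ^ n ∣ a := by
  intro n
  induction n with
  | zero => intro a c _; simp
  | succ n ih =>
    intro a c h
    obtain ⟨a', rfl⟩ := ih a (x * c) (by rw [h]; ring)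
    have h2 : x ^ n * (s * a') = x ^ n * (x * c) := by
      have : x ^ n * (x * c) = x ^ (n + 1) * c := by ring
      rw [this, ← h]; ring
    have h3 : s * a' = x * c := by
      have h6 : x ^ n * (s * a' - x * c) = 0 := by rw [mul_sub, h2, sub_self]
      have h7 := (mem_nonZeroDivisors_iff.mp (pow_mem hx n)).1 _ h6
      exact sub_eq_zero.mp h7
    have h4 : s * a' ∈ Ideal.span ({x} : Set A) := by
      rw [h3]; exact Ideal.mul_mem_right _ _ (Ideal.mem_span_singleton_self x)
    rcases hp.mem_or_mem h4 with h5 | h5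
    · exact absurd h5 hs
    · obtain ⟨d, rfl⟩ := Ideal.mem_span_singleton.mp h5
      exact ⟨d, by ring⟩

/-- Let A be a ring, x a non-zero-divisor of A with p = xA prime. For every n > 0 the inverse image in A
of x^n A_p is x^n A. -/
theorem result {A : Type u} [CommRing A] (x : A)
    (hx : x ∈ nonZeroDivisors A) [(Ideal.span ({x} : Set A)).IsPrime] (n : ℕ) (hn : 0 < n) :
    Ideal.comap (algebraMap A (Localization.AtPrime (Ideal.span ({x} : Set A))))
      (Ideal.map (algebraMap A (Localization.AtPrime (Ideal.span ({x} : Set A)))) (Ideal.span ({x ^ n} : Set A))) =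
      Ideal.span ({x ^ n} : Set A) := by
  apply le_antisymm
  · intro a ha
    rw [Ideal.mem_comap,
      IsLocalization.mem_map_algebraMap_iff (Ideal.span ({x} : Set A)).primeCompl] at ha
    obtain ⟨⟨⟨y, hy⟩, ⟨s, hs⟩⟩, h⟩ := ha
    simp only at h
    rw [← map_mul, IsLocalization.eq_iff_exists (Ideal.span ({x} : Set A)).primeCompl] at h
    obtain ⟨⟨t, ht⟩, h⟩ := h
    simp only at h
    obtain ⟨c, rfl⟩ := Ideal.mem_span_singleton.mp hy
    have hts : t * s ∉ Ideal.span ({x} : Set A) := fun hmem =>
      (‹(Ideal.span ({x} : Set A)).IsPrime›.mem_or_mem hmem).elim ht hs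
    have := key x hx (t * s) hts n a (t * c) (by rw [mul_assoc, mul_comm s a, h]; ring)
    exact Ideal.mem_span_singleton.mpr this
  · exact Ideal.le_comap_map

end Groth.Agent.S4569
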