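import Groth.Statements.S4571
import Groth.Agent.H13.AdicTower
import Groth.Agent.H96.GeomRegAdic
import Groth.Agent.S4538
-- import your own Groth.Agent.* helpers here

set_option autoImplicit false
universe u
open TensorProduct KaehlerDifferential IsLocalRing
open EGA41

namespace Groth.Agent.S4571

/-- For an arbitrary local algebra: let k be a field and A a local k-algebra with maximal ideal m and
residue field K. Then A is formally smooth over k for the m-adic topology if and only if the
canonical maps Sym^n_K(m/m²) → m^n/m^(n+1) are bijective for n ≥ 1 and the canonical map Ω_{k/ℤ} ⊗_k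
K → Ω_{A/ℤ} ⊗_A K is injective (absolute differentials, which agree with differentials over the
prime field). -/
theorem result {k A : Type u} [Field k] [CommRing A]
    [IsLocalRing A] [Algebra k A] :
    CAlgX.IsAdicFormallySmooth k A (maximalIdeal A) ↔
      (PP16.SymGrBijective A (maximalIdeal A) ∧
        Function.Injective ((mapBaseChange ℤ k A).lTensor (ResidueField A))) := by
  let k₀ := (⊥ : Subfield k)
  have : PerfectField k₀ := Groth.Agent.H96.GeomRegAdic.perfectField_bot k
  have hfs : Algebra.FormallySmooth k₀ (ResidueField A) :=
    Groth.Agent.H47.formallySmooth_of_perfectField_field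
  have hfs' : Algebra.FormallySmooth k₀ (A ⧸ maximalIdeal A) := hfs
  have hfsk : Algebra.FormallySmooth k₀ k := Groth.Agent.H47.formallySmooth_of_perfectField_field
  constructor
  · intro h
    have h₀ : CAlgX.IsAdicFormallySmooth k₀ A (maximalIdeal A) :=
      Groth.Agent.H96.AdicSmoothOps.comp_formallySmooth (maximalIdeal A) h
    exact ⟨((Groth.Agent.S4538.result (A := k₀) (maximalIdeal A)).mp h₀).2,
      Groth.Agent.H13.AdicTower.injective_of_adic h⟩
  · rintro ⟨hS, hinj⟩
    have hproj : Module.Projective (A ⧸ maximalIdeal A) (maximalIdeal A).Cotangent := by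
      let _ : Field (A ⧸ maximalIdeal A) := Ideal.Quotient.field (maximalIdeal A)
      exact Module.Projective.of_free
    have h₀ : CAlgX.IsAdicFormallySmooth k₀ A (maximalIdeal A) :=
      (Groth.Agent.S4538.result (A := k₀) (maximalIdeal A)).mpr ⟨hproj, hS⟩
    exact Groth.Agent.H13.AdicTower.adic_of_injective (R₀ := k₀) h₀ hinj

end Groth.Agent.S4571
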