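import Groth.Statements.S4574
import Groth.Agent.H23.GeomRegLoc
import Groth.Agent.Lead.RegularLocalization

set_option autoImplicit false
universe u
open IsLocalRing
open EGA41

namespace Groth.Agent.S4574

/-- Let k be a field and A a Noetherian local k-algebra, formally smooth over k for its adic topology.
Then every localization A_p at a prime p is formally smooth over k for the pA_p-adic topology. -/
theorem result {k A : Type u} [Field k] [CommRing A]
    [IsLocalRing A] [IsNoetherianRing A] [Algebra k A] (h : CAlgX.IsAdicFormallySmooth k A (maximalIdeal A))
    (p : Ideal A) [p.IsPrime] :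
    CAlgX.IsAdicFormallySmooth k (Localization.AtPrime p) (maximalIdeal (Localization.AtPrime p)) := by
  obtain h0 | ⟨q, hq, hqk⟩ := CharP.exists' k
  · haveI : IsRegularLocalRing A := Groth.Agent.H96.GeomRegAdic.regular_of_adic_field k A h
    haveI : IsRegularLocalRing (Localization.AtPrime p) :=
      Groth.Agent.Lead.RLR.isRegularLocalRing_localization A p
    haveI : PerfectField k := PerfectField.ofCharZero
    haveI : Algebra.FormallySmooth k (ResidueField (Localization.AtPrime p)) :=
      Groth.Agent.H47.formallySmooth_of_perfectField_field
    haveI : Algebra.IsGeometricallyReduced k (ResidueField (Localization.AtPrime p)) :=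
      Groth.Agent.H47.isGeometricallyReduced_of_formallySmooth_field
    exact Groth.Agent.H96.RegAdicSmooth.adic_of_regular k _
  · haveI := hq
    haveI := hqk
    have hgr := Groth.Agent.H96.GeomRegAdic.isGeometricallyRegular k A h
    have hgr' : CAlg.IsGeometricallyRegular k (Localization.AtPrime p) :=
      Groth.Agent.H23.GeomRegLoc.geomReg_of_isLocalization A p.primeCompl
        (Localization.AtPrime p) hgr
    exact Groth.Agent.H23.GeomRegFS.adic_of_geomReg q _ hgr'

end Groth.Agent.S4574
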