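import Groth.Statements.S4575
import Mathlib
import Groth.Agent.Lead.RegularLocal4

set_option autoImplicit false
universe u
open IsLocalRing
open EGA41

namespace Groth.Agent.S4575

/-- Let R be a regular local ring with maximal ideal m and n a proper ideal with R/n regular. Then
(n/n²) ⊗_R K → (m/m²) ⊗_R K is injective, K the residue field; stated in the equivalent form n ∩ m²
= m·n (the kernel of n/mn → m/m² is (n ∩ m²)/mn). -/
theorem result {R : Type u} [CommRing R] [IsRegularLocalRing R]
    (n : Ideal R) (hn : n ≠ ⊤) (hreg : IsRegularRing (R ⧸ n)) :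
    n ⊓ maximalIdeal R ^ 2 = maximalIdeal R * n := by
  classical
  haveI : IsLocalRing (R ⧸ n) := Groth.Agent.Lead.RLR.isLocalRing_quotient R n hn
  haveI : IsRegularLocalRing (R ⧸ n) := IsRegularLocalRing.of_isRegularRing_of_isLocalRing _
  obtain ⟨d, hd, -⟩ := Groth.Agent.Lead.RLR.exists_ringKrullDim_eq R
  obtain ⟨x, c, hc, hx, hnx⟩ := Groth.Agent.Lead.RLR.exists_generators R d hd n
  have hsf : (maximalIdeal R).spanFinrank = d := by
    have := Groth.Agent.Lead.RLR.ringKrullDim_eq_spanFinrank R
    rw [hd] at this
    exact_mod_cast this.symm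
  apply le_antisymm
  · rintro y ⟨hy1, hy2⟩
    have hy1' : y ∈ Ideal.span (Set.range (fun i : Fin c => x (Fin.castLE hc i))) := hnx ▸ hy1
    obtain ⟨r, rfl⟩ := (Ideal.mem_span_range_iff_exists_fun).mp hy1'
    have hr : ∀ j, r j ∈ maximalIdeal R := by
      by_contra! h
      obtain ⟨j, hj⟩ := h
      have hu : IsUnit (r j) := by
        by_contra hnu
        exact hj ((IsLocalRing.mem_maximalIdeal _).mpr hnu)
      obtain ⟨u, hu⟩ := hu
      set j' : Fin d := Fin.castLE hc j with hj'
      set J : Ideal R := Ideal.span (x '' {i : Fin d | i ≠ j'}) with hJ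
      have hxJ : ∀ i : Fin d, i ≠ j' → x i ∈ J := fun i hi => Ideal.subset_span ⟨i, hi, rfl⟩
      have hxm : ∀ i : Fin d, x i ∈ maximalIdeal R := fun i => by
        rw [← hx]; exact Ideal.subset_span ⟨i, rfl⟩
      have hxj : x j' ∈ J ⊔ maximalIdeal R • maximalIdeal R := by
        have hsplit : ∑ i, r i * x (Fin.castLE hc i) =
            r j * x j' + ∑ i ∈ Finset.univ.erase j, r i * x (Fin.castLE hc i) := by
          rw [← Finset.add_sum_erase _ _ (Finset.mem_univ j)]
        have hxeq : x j' = (↑u⁻¹ : R) * (∑ i, r i * x (Fin.castLE hc i)) +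
            -((↑u⁻¹ : R) * ∑ i ∈ Finset.univ.erase j, r i * x (Fin.castLE hc i)) := by
          rw [hsplit, ← hu]
          have : (↑u⁻¹ : R) * ↑u = 1 := Units.inv_mul u
          linear_combination (-(x j')) * this
        rw [hxeq, sup_comm]
        apply Submodule.add_mem_sup
        · rw [smul_eq_mul, ← pow_two]
          exact Ideal.mul_mem_left _ _ hy2
        · apply Submodule.neg_mem
          apply Ideal.mul_mem_left
          apply Ideal.sum_mem
          intro i hi
          apply Ideal.mul_mem_left
          apply hxJ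
          intro h
          have : i = j := Fin.castLE_injective hc h
          exact (Finset.ne_of_mem_erase hi) this
      have hle : maximalIdeal R ≤ J := by
        apply Submodule.le_of_le_smul_of_le_jacobson_bot (IsNoetherian.noetherian _)
          (IsLocalRing.maximalIdeal_le_jacobson ⊥)
        rw [← hx, Ideal.span_le]
        rintro _ ⟨i, rfl⟩
        by_cases hi : i = j'
        · rw [hi, hx]; exact hxj
        · exact Ideal.mem_sup_left (hxJ i hi)
      have hJle : J ≤ maximalIdeal R := by
        rw [hJ, Ideal.span_le]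
        rintro _ ⟨i, -, rfl⟩
        exact hxm i
      have hJeq : J = maximalIdeal R := le_antisymm hJle hle
      have hfin : (x '' {i : Fin d | i ≠ j'}).Finite := Set.toFinite _
      have h1 : (maximalIdeal R).spanFinrank ≤ (x '' {i : Fin d | i ≠ j'}).ncard := by
        rw [← hJeq, hJ]
        exact Submodule.spanFinrank_span_le_ncard_of_finite hfin
      have h2 : (x '' {i : Fin d | i ≠ j'}).ncard ≤ ({i : Fin d | i ≠ j'} : Set (Fin d)).ncard :=
        Set.ncard_image_le (Set.toFinite _)
      have h3 : ({i : Fin d | i ≠ j'} : Set (Fin d)).ncard = d - 1 := by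
        have : ({i : Fin d | i ≠ j'} : Set (Fin d)) = ({j'} : Set (Fin d))ᶜ := by
          ext i; simp
        rw [this, Set.ncard_compl, Set.ncard_singleton, Nat.card_eq_fintype_card, Fintype.card_fin]
      have hd1 : 1 ≤ d := Nat.one_le_iff_ne_zero.mpr (fun h0 => by subst h0; exact j'.elim0)
      omega
    apply Ideal.sum_mem
    intro i _
    apply Ideal.mul_mem_mul (hr i)
    rw [hnx]
    exact Ideal.subset_span ⟨i, rfl⟩
  · apply le_inf Ideal.mul_le_right
    rw [pow_two]
    exact Ideal.mul_mono_right (IsLocalRing.le_maximalIdeal hn)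


end Groth.Agent.S4575
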