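import Groth.Statements.S4578
import Groth.Agent.H23.GeomRegIff
import Groth.Agent.S2463
import Groth.Agent.H23.AdicLocal

set_option autoImplicit false
universe u
open IsLocalRing
open EGA41

namespace Groth.Agent.S4578

/-- Let k₀ be a field, k an extension field of k₀ which is separable (formally smooth) over k₀, C a
k-algebra of finite type and p a prime ideal of C. The following are equivalent: C_p is formally
smooth over k₀ (discrete topologies); C_p is formally smooth over k₀ for the adic topology of its
maximal ideal; C_f is formally smooth over k₀ for some f ∉ p; C_p is geometrically regular over k₀.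
(The published statement adds that the set of primes p having these properties is open in Spec C;
that openness is not stated here.) -/
theorem result {k₀ k C : Type u} [Field k₀] [Field k] [Algebra k₀ k]
    [Algebra.FormallySmooth k₀ k] [CommRing C] [Algebra k C] [Algebra k₀ C] [IsScalarTower k₀ k C]
    [Algebra.FiniteType k C]
    (p : Ideal C) [p.IsPrime] :
    [Algebra.FormallySmooth k₀ (Localization.AtPrime p),
     CAlgX.IsAdicFormallySmooth k₀ (Localization.AtPrime p) (maximalIdeal (Localization.AtPrime p)),
     ∃ f : C, f ∉ p ∧ Algebra.FormallySmooth k₀ (Localization.Away f),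
     CAlg.IsGeometricallyRegular k₀ (Localization.AtPrime p)].TFAE := by
  obtain ⟨n, f, hf⟩ := Algebra.FiniteType.iff_quotient_mvPolynomial''.mp
    (inferInstance : Algebra.FiniteType k C)
  letI : Algebra (MvPolynomial (Fin n) k) C := f.toRingHom.toAlgebra
  haveI : IsScalarTower k (MvPolynomial (Fin n) k) C :=
    IsScalarTower.of_algebraMap_eq (fun a => (f.commutes a).symm)
  haveI : IsScalarTower k₀ (MvPolynomial (Fin n) k) C := by
    refine IsScalarTower.of_algebraMap_eq fun c => ?_
    rw [IsScalarTower.algebraMap_apply k₀ k C, IsScalarTower.algebraMap_apply k₀ k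
      (MvPolynomial (Fin n) k), ← IsScalarTower.algebraMap_apply k (MvPolynomial (Fin n) k) C]
  haveI : Algebra.FormallySmooth k₀ (MvPolynomial (Fin n) k) :=
    Algebra.FormallySmooth.comp k₀ k _
  haveI : IsNoetherianRing C := Algebra.FiniteType.isNoetherianRing k C
  have hsurj : Function.Surjective (algebraMap (MvPolynomial (Fin n) k) C) := hf
  haveI : Module.Finite (MvPolynomial (Fin n) k)
      (RingHom.ker (algebraMap (MvPolynomial (Fin n) k) C)).Cotangent :=
    Module.Finite.of_surjective (RingHom.ker (algebraMap (MvPolynomial (Fin n) k) C)).toCotangent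
      (Ideal.toCotangent_surjective _)
  have hT := Groth.Agent.S2463.result (A := k₀) (B := MvPolynomial (Fin n) k) hsurj p
  tfae_have 1 ↔ 3 := hT.out 0 2
  tfae_have 1 → 2 := fun h => Groth.Agent.H46.isAdicFormallySmooth_of_formallySmooth _
  tfae_have 2 → 1 := fun h =>
    Groth.Agent.H23.AdicLocal.formallySmooth_of_adic_atPrime (B := MvPolynomial (Fin n) k) hsurj p h
  tfae_have 2 ↔ 4 := Groth.Agent.H23.GeomRegIff.adic_iff_geomReg _
  tfae_finish

end Groth.Agent.S4578
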