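import Groth.Statements.S4579
import Groth.Agent.H23.GeomRegIff
import Groth.Agent.S4577
import Groth.Agent.H23.AdicLocal

set_option autoImplicit false
universe u
open EGA41

namespace Groth.Agent.S4579

/-- Let k₀ be a field, k a separable (formally smooth) extension field of k₀ and C a k-algebra of finite
type. The following are equivalent: C is formally smooth over k₀ (discrete topologies); every C_p, p
prime, is formally smooth over k₀; every C_m, m maximal, is; C is geometrically regular over k₀.
(Geometric regularity is tested on finite extensions of k₀. The published statement quantifies the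
last condition over all extensions k' of k₀; for infinite ones the base change need not be
Noetherian, so it need not be regular in the Noetherian sense, and the printed proof passes through
the local rings as here.) -/
theorem result {k₀ k C : Type u} [Field k₀] [Field k] [Algebra k₀ k]
    [Algebra.FormallySmooth k₀ k] [CommRing C] [Algebra k C] [Algebra k₀ C] [IsScalarTower k₀ k C]
    [Algebra.FiniteType k C] :
    [Algebra.FormallySmooth k₀ C,
     ∀ (p : Ideal C) [p.IsPrime], Algebra.FormallySmooth k₀ (Localization.AtPrime p),
     ∀ (m : Ideal C) [m.IsMaximal], Algebra.FormallySmooth k₀ (Localization.AtPrime m),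
     CAlg.IsGeometricallyRegular k₀ C].TFAE := by
  obtain ⟨n, f, hf⟩ := Algebra.FiniteType.iff_quotient_mvPolynomial''.mp
    (inferInstance : Algebra.FiniteType k C)
  letI : Algebra (MvPolynomial (Fin n) k) C := f.toRingHom.toAlgebra
  haveI : IsScalarTower k (MvPolynomial (Fin n) k) C :=
    IsScalarTower.of_algebraMap_eq (fun a => (f.commutes a).symm)
  haveI : IsScalarTower k₀ (MvPolynomial (Fin n) k) C := by
    refine IsScalarTower.of_algebraMap_eq fun c => ?_
    rw [IsScalarTower.algebraMap_apply k₀ k C, IsScalarTower.algebraMap_apply k₀ k
      (MvPolynomial (Fin n) k), ← IsScalarTower.algebraMap_apply k (MvPolynomial (Fin n) k) C]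
  haveI : Algebra.FormallySmooth k₀ (MvPolynomial (Fin n) k) :=
    Algebra.FormallySmooth.comp k₀ k _
  haveI : IsNoetherianRing C := Algebra.FiniteType.isNoetherianRing k C
  have hsurj : Function.Surjective (algebraMap (MvPolynomial (Fin n) k) C) := hf
  haveI : Module.Finite (MvPolynomial (Fin n) k)
      (RingHom.ker (algebraMap (MvPolynomial (Fin n) k) C)).Cotangent :=
    Module.Finite.of_surjective (RingHom.ker (algebraMap (MvPolynomial (Fin n) k) C)).toCotangent
      (Ideal.toCotangent_surjective _)
  tfae_have 1 → 2 := by
    intro h p _
    haveI := h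
    haveI : Algebra.FormallySmooth C (Localization.AtPrime p) :=
      Algebra.FormallySmooth.of_isLocalization p.primeCompl
    exact Algebra.FormallySmooth.comp k₀ C _
  tfae_have 2 → 3 := fun h m _ => h m
  tfae_have 3 → 1 := fun h =>
    (Groth.Agent.S4577.result (A := k₀) (B := MvPolynomial (Fin n) k) hsurj).mpr h
  tfae_have 1 → 4 := by
    intro h
    haveI := h
    exact Groth.Agent.H23.GeomRegIff.geomReg_of_formallySmooth C
  tfae_have 4 → 3 := by
    intro h m _
    have h1 : CAlg.IsGeometricallyRegular k₀ (Localization.AtPrime m) :=
      Groth.Agent.H23.GeomRegLoc.geomReg_of_isLocalization C m.primeCompl _ h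
    exact Groth.Agent.H23.AdicLocal.formallySmooth_of_adic_atPrime
      (B := MvPolynomial (Fin n) k) hsurj m
      ((Groth.Agent.H23.GeomRegIff.adic_iff_geomReg _).mpr h1)
  tfae_finish

end Groth.Agent.S4579
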