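import Groth.Statements.S4581
import Groth.Agent.H78.ComplFinite.Basic
import Groth.Agent.H78.ComplFinite.Semilocal

set_option autoImplicit false
universe u
open EGA41

namespace Groth.Agent.S4581

/-- Let A₀ be a semi-local Noetherian ring, A a module-finite A₀-algebra and Â the completion of A for
the adic topology of its Jacobson radical. For the discrete topologies, Â is a formally smooth
A-algebra relative to A₀. -/
theorem result {A₀ A : Type u} [CommRing A₀]
    [IsNoetherianRing A₀] [Finite (MaximalSpectrum A₀)] [CommRing A] [Algebra A₀ A] [Module.Finite A₀ A] :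
    EGA41.IsFormallySmoothRel A₀ A (AdicCompletion (Ideal.jacobson (⊥ : Ideal A)) A) := by
  intro C _ _ _ _ J hJ u₀ ⟨u, hu⟩
  have h1 : (Ideal.jacobson (⊥ : Ideal A₀)).map (algebraMap A₀ A) ≤ Ideal.jacobson (⊥ : Ideal A) :=
    H78.ComplFinite.map_jacobson_le
  have h2 := H78.ComplFinite.exists_pow_jacobson_le (R := A₀) (S := A)
  have hΦ := H78.ComplFinite.Phi_bijective _ _ h1 h2
  let e : (TensorProduct A₀ (AdicCompletion (Ideal.jacobson (⊥ : Ideal A₀)) A₀) A) ≃ₐ[A₀]
      AdicCompletion (Ideal.jacobson (⊥ : Ideal A)) A :=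
    AlgEquiv.ofBijective (H78.ComplFinite.Phi _ _ h1) hΦ
  let w : TensorProduct A₀ (AdicCompletion (Ideal.jacobson (⊥ : Ideal A₀)) A₀) A →ₐ[A₀] C :=
    Algebra.TensorProduct.lift (u.comp (H78.ComplFinite.psi _ _ h1))
      ((Algebra.ofId A C).restrictScalars A₀) (fun _ _ => Commute.all _ _)
  let v₀ : AdicCompletion (Ideal.jacobson (⊥ : Ideal A)) A →ₐ[A₀] C := w.comp e.symm.toAlgHom
  have hv₀ : ∀ a : A, v₀ (algebraMap A _ a) = algebraMap A C a := by
    intro a
    have : e.symm (algebraMap A _ a) = TensorProduct.tmul A₀ 1 a := by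
      rw [AlgEquiv.symm_apply_eq]
      simp [e, H78.ComplFinite.Phi_tmul]
    simp [v₀, this, w]
  let v : AdicCompletion (Ideal.jacobson (⊥ : Ideal A)) A →ₐ[A] C :=
    { v₀.toRingHom with commutes' := hv₀ }
  refine ⟨v, ?_⟩
  have key : ((Ideal.Quotient.mkₐ A₀ J).comp w) =
      (u₀.restrictScalars A₀).comp (H78.ComplFinite.Phi _ _ h1) := by
    apply Algebra.TensorProduct.ext
    · ext c
      have := congr($hu (H78.ComplFinite.psi _ _ h1 c))
      simpa [w, H78.ComplFinite.Phi_tmul] using this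
    · ext a
      simp [w, H78.ComplFinite.Phi_tmul]
  ext b
  obtain ⟨t, rfl⟩ := e.surjective b
  have := congr($key t)
  simpa [v, v₀, e] using this

end Groth.Agent.S4581
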