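import Groth.Statements.S4583
import Mathlib
import Groth.Agent.H23.GRMain
import Groth.Agent.H23.RegHomAdic

set_option autoImplicit false
universe u
open IsLocalRing
open EGA41

namespace Groth.Agent.S4583

/-- Let A be a complete Noetherian local domain with fraction field K, p a prime of A, B = A_p, q a
prime of the completion B̂ of B with q ∩ B = 0. Then B̂_q is a K-algebra formally smooth over K for
the adic topology of its maximal ideal (the published statement adds that it is then geometrically
regular over K; that consequence is not stated). -/
theorem result {A : Type u} [CommRing A]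
    [IsDomain A] [IsLocalRing A] [IsNoetherianRing A] [IsAdicComplete (maximalIdeal A) A] (p : Ideal A) [p.IsPrime]
    (q : Ideal (AdicCompletion (maximalIdeal (Localization.AtPrime p)) (Localization.AtPrime p))) [q.IsPrime]
    (hq : q.comap (algebraMap (Localization.AtPrime p)
      (AdicCompletion (maximalIdeal (Localization.AtPrime p)) (Localization.AtPrime p))) = ⊥)
    [Algebra A (Localization.AtPrime q)]
    [IsScalarTower A (AdicCompletion (maximalIdeal (Localization.AtPrime p)) (Localization.AtPrime p))
      (Localization.AtPrime q)]
    [Algebra (FractionRing A) (Localization.AtPrime q)] [IsScalarTower A (FractionRing A) (Localization.AtPrime q)] :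
    CAlgX.IsAdicFormallySmooth (FractionRing A) (Localization.AtPrime q) (maximalIdeal (Localization.AtPrime q)) := by
  rename_i iA iT1 iK iT2
  clear iT1 iA
  have hG := Groth.Agent.H23.GR.isGRing_of_complete A
  have hreg : CAlg.IsRegularHom (Localization.AtPrime p)
      (AdicCompletion (maximalIdeal (Localization.AtPrime p)) (Localization.AtPrime p)) := hG.2 p
  set r : Ideal (Localization.AtPrime p) := q.comap (algebraMap (Localization.AtPrime p)
      (AdicCompletion (maximalIdeal (Localization.AtPrime p)) (Localization.AtPrime p))) with hr
  letI algrq : Algebra (Localization.AtPrime r) (Localization.AtPrime q) :=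
    (Localization.localRingHom r q (algebraMap (Localization.AtPrime p)
      (AdicCompletion (maximalIdeal (Localization.AtPrime p)) (Localization.AtPrime p))) rfl).toAlgebra
  haveI tw1 : IsScalarTower (Localization.AtPrime p) (Localization.AtPrime r)
      (Localization.AtPrime q) := IsScalarTower.of_algebraMap_eq fun b => by
    show _ = Localization.localRingHom r q _ rfl (algebraMap _ _ b)
    rw [Localization.localRingHom_to_map, ← IsScalarTower.algebraMap_apply]
  have h := Groth.Agent.H23.RegHomAdic.adic_of_isRegularHom (Localization.AtPrime p)
    (AdicCompletion (maximalIdeal (Localization.AtPrime p)) (Localization.AtPrime p)) hreg r q rfl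
  -- `B_r` is the fraction field of `A`
  have hinjAB : Function.Injective (algebraMap A (Localization.AtPrime p)) :=
    IsLocalization.injective _ (Ideal.primeCompl_le_nonZeroDivisors p)
  have hrA : r.comap (algebraMap A (Localization.AtPrime p)) = ⊥ := by
    rw [hq, eq_bot_iff]
    intro a ha
    rw [Ideal.mem_comap, Ideal.mem_bot] at ha
    rw [Ideal.mem_bot]
    exact hinjAB (by rw [ha, map_zero])
  haveI hloc1 : IsLocalization.AtPrime (Localization.AtPrime r)
      (r.comap (algebraMap A (Localization.AtPrime p))) :=
    IsLocalization.isLocalization_isLocalization_atPrime_isLocalization p.primeCompl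
      (Localization.AtPrime r) r
  haveI hfrac : IsFractionRing A (Localization.AtPrime r) := by
    have h1 : (r.comap (algebraMap A (Localization.AtPrime p))).primeCompl = nonZeroDivisors A := by
      rw [← Ideal.primeCompl_bot]
      congr 1
    show IsLocalization (nonZeroDivisors A) (Localization.AtPrime r)
    rw [← h1]
    exact hloc1
  let e : FractionRing A ≃ₐ[A] Localization.AtPrime r := FractionRing.algEquiv A _
  letI algK : Algebra (FractionRing A) (Localization.AtPrime r) := e.toAlgHom.toRingHom.toAlgebra
  have halgK : ∀ x, algebraMap (FractionRing A) (Localization.AtPrime r) x = e x := fun _ => rfl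
  haveI tw2 : IsScalarTower (FractionRing A) (Localization.AtPrime r) (Localization.AtPrime q) := by
    refine IsScalarTower.of_algebraMap_eq' ?_
    apply IsLocalization.ringHom_ext (nonZeroDivisors A)
    ext a
    simp only [RingHom.comp_apply]
    have e1 : algebraMap (FractionRing A) (Localization.AtPrime q) (algebraMap A (FractionRing A) a) =
        algebraMap A (Localization.AtPrime q) a :=
      (IsScalarTower.algebraMap_apply A (FractionRing A) (Localization.AtPrime q) a).symm
    have e2 : algebraMap (FractionRing A) (Localization.AtPrime r) (algebraMap A (FractionRing A) a) =
        algebraMap A (Localization.AtPrime r) a := e.commutes a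
    have e3 : algebraMap A (Localization.AtPrime q) a =
        algebraMap (AdicCompletion (maximalIdeal (Localization.AtPrime p)) (Localization.AtPrime p))
          (Localization.AtPrime q) (algebraMap A _ a) :=
      IsScalarTower.algebraMap_apply A _ (Localization.AtPrime q) a
    have e4 : algebraMap A
        (AdicCompletion (maximalIdeal (Localization.AtPrime p)) (Localization.AtPrime p)) a =
        algebraMap (Localization.AtPrime p) _ (algebraMap A (Localization.AtPrime p) a) :=
      IsScalarTower.algebraMap_apply A (Localization.AtPrime p) _ a
    have e5 : algebraMap A (Localization.AtPrime r) a =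
        algebraMap (Localization.AtPrime p) (Localization.AtPrime r)
          (algebraMap A (Localization.AtPrime p) a) :=
      IsScalarTower.algebraMap_apply A (Localization.AtPrime p) (Localization.AtPrime r) a
    have e6 : ∀ b : Localization.AtPrime p,
        algebraMap (Localization.AtPrime r) (Localization.AtPrime q)
          (algebraMap (Localization.AtPrime p) (Localization.AtPrime r) b) =
        algebraMap (AdicCompletion (maximalIdeal (Localization.AtPrime p)) (Localization.AtPrime p))
          (Localization.AtPrime q) (algebraMap (Localization.AtPrime p) _ b) := fun b =>
      Localization.localRingHom_to_map r q _ rfl b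
    refine e1.trans ?_
    refine Eq.trans ?_ (congrArg (algebraMap (Localization.AtPrime r) (Localization.AtPrime q))
      e2.symm)
    rw [e3, e4, e5, e6]
  exact (Groth.Agent.H23.AdicOfFlat.adic_iff_of_bijective
    (k := FractionRing A) (κ := Localization.AtPrime r) e.bijective (maximalIdeal _)).mp h

end Groth.Agent.S4583
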