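import Groth.Statements.S4586
import Groth.Agent.S3398
import Groth.Agent.S3399
import Groth.Agent.H17.ProConsPreimage
import Groth.Agent.H17.ProConsCompl

set_option autoImplicit false
universe u
open AlgebraicGeometry CategoryTheory Topology
open EGA41

namespace Groth.Agent.S4586

/-- Let f : X → Y be surjective and either quasi-compact or locally of finite presentation, E ⊆ Y. Then
E is locally constructible (resp. pro-constructible, resp. ind-constructible) if and only if f⁻¹(E)
is. -/
theorem result {X Y : Scheme.{u}} (f : X ⟶ Y) [Surjective f]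
    (hf : QuasiCompact f ∨ LocallyOfFinitePresentation f) (E : Set Y) :
    (IsLocallyConstructible E ↔ IsLocallyConstructible (f.base ⁻¹' E)) ∧
    (ProCons.IsProConstructible E ↔ ProCons.IsProConstructible (f.base ⁻¹' E)) ∧
    (ProCons.IsIndConstructible E ↔ ProCons.IsIndConstructible (f.base ⁻¹' E)) := by
  have himg : ∀ E : Set Y, f.base '' (f.base ⁻¹' E) = E :=
    fun E => Set.image_preimage_eq E f.surjective
  have hpro : ∀ E : Set Y, ProCons.IsProConstructible (f.base ⁻¹' E) →
      ProCons.IsProConstructible E := by
    intro E hE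
    rcases hf with hqc | hfp
    · rw [← himg E]
      exact Groth.Agent.S3398.result f _ hE
    · have h1 : ProCons.IsIndConstructible (f.base ⁻¹' Eᶜ) := by
        rw [Set.preimage_compl]
        exact Groth.Agent.H17.ind_compl_of_pro hE
      have h2 := Groth.Agent.S3399.result f _ h1
      rw [himg] at h2
      have h3 := Groth.Agent.H17.pro_compl_of_ind h2
      rwa [compl_compl] at h3
  have hind : ∀ E : Set Y, ProCons.IsIndConstructible (f.base ⁻¹' E) →
      ProCons.IsIndConstructible E := by
    intro E hE
    rcases hf with hqc | hfp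
    · have h1 : ProCons.IsProConstructible (f.base ⁻¹' Eᶜ) := by
        rw [Set.preimage_compl]
        exact Groth.Agent.H17.pro_compl_of_ind hE
      have h2 := Groth.Agent.S3398.result f _ h1
      rw [himg] at h2
      have h3 := Groth.Agent.H17.ind_compl_of_pro h2
      rwa [compl_compl] at h3
    · rw [← himg E]
      exact Groth.Agent.S3399.result f _ hE
  have hproI : ∀ E : Set Y, ProCons.IsProConstructible E ↔
      ProCons.IsProConstructible (f.base ⁻¹' E) :=
    fun E => ⟨fun h => Groth.Agent.H17.pro_preimage f h, hpro E⟩
  have hindI : ∀ E : Set Y, ProCons.IsIndConstructible E ↔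
      ProCons.IsIndConstructible (f.base ⁻¹' E) :=
    fun E => ⟨fun h => Groth.Agent.H17.ind_preimage f h, hind E⟩
  refine ⟨?_, hproI E, hindI E⟩
  rw [Groth.Agent.H17.lc_iff_ind_and_pro (Groth.Agent.H17.goodBasis_scheme Y),
    Groth.Agent.H17.lc_iff_ind_and_pro (Groth.Agent.H17.goodBasis_scheme X), hproI E, hindI E]

end Groth.Agent.S4586
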