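import Groth.Statements.S4587
import Mathlib

set_option autoImplicit false
universe u
open AlgebraicGeometry CategoryTheory
open EGA41

namespace Groth.Agent.S4587

/-- The image in `X` of an irreducible component of a closed subspace is closed and irreducible. -/
theorem image_component {X : Type*} [TopologicalSpace X] {W : Set X} (hW : IsClosed W)
    (Z : Set ↥W) (hZ : Z ∈ irreducibleComponents ↥W) :
    IsIrreducible (Subtype.val '' Z) ∧ IsClosed (Subtype.val '' Z) := by
  refine ⟨hZ.1.image _ continuous_subtype_val.continuousOn, ?_⟩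
  exact (hW.isClosedEmbedding_subtypeVal).isClosedMap _ (isClosed_of_mem_irreducibleComponents Z hZ)


/-- A morphism of schemes f : X → Y is generizing if and only if, for every irreducible closed subset Y'
of Y, each irreducible component of f⁻¹(Y') has dense image in Y'. -/
theorem result {X Y : Scheme.{u}} (f : X ⟶ Y) :
    GeneralizingMap f.base ↔
      ∀ Y' : Set Y, IsClosed Y' → IsIrreducible Y' →
        ∀ Z ∈ irreducibleComponents ↥(f.base ⁻¹' Y'), closure (f.base '' (Subtype.val '' Z)) = Y' := by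
  constructor
  · intro hf Y' hY'cl hY'irr Z hZ
    have hWcl : IsClosed (f.base ⁻¹' Y') := hY'cl.preimage f.continuous
    obtain ⟨hZ'irr, hZ'cl⟩ := image_component hWcl Z hZ
    obtain ⟨ξ, hξ⟩ := QuasiSober.sober hZ'irr hZ'cl
    obtain ⟨η, hη⟩ := QuasiSober.sober hY'irr hY'cl
    have hξZ' : ξ ∈ Subtype.val '' Z := by rw [← hξ.def]; exact subset_closure rfl
    obtain ⟨ξW, hξWZ, hξWξ⟩ := hξZ'
    have hfξ : f.base ξ ∈ Y' := by rw [← hξWξ]; exact ξW.2
    have hspec : η ⤳ f.base ξ := by
      rw [specializes_iff_mem_closure, hη.def]; exact hfξ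
    obtain ⟨ξ', hξ'ξ, hfξ'⟩ := hf hspec
    have hηY' : η ∈ Y' := by rw [← hη.def]; exact subset_closure rfl
    have hξ'W : ξ' ∈ f.base ⁻¹' Y' := by
      show f.base ξ' ∈ Y'
      rw [hfξ']; exact hηY'
    let ξ'W : ↥(f.base ⁻¹' Y') := ⟨ξ', hξ'W⟩
    -- `Z` is contained in the closure of `ξ'` in `W`
    have hZle : Z ≤ closure {ξ'W} := by
      intro z hz
      rw [closure_subtype, Set.image_singleton]
      have h1 : (z : ↥X) ∈ closure {ξ} := by rw [hξ.def]; exact ⟨z, hz, rfl⟩
      exact closure_minimal (Set.singleton_subset_iff.mpr hξ'ξ.mem_closure) isClosed_closure h1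
    have hle : closure {ξ'W} ≤ Z := hZ.2 isIrreducible_singleton.closure hZle
    have hξ'Z : ξ'W ∈ Z := hle (subset_closure rfl)
    apply Set.Subset.antisymm
    · apply closure_minimal _ hY'cl
      rintro _ ⟨_, ⟨z, _, rfl⟩, rfl⟩
      exact z.2
    · have h1 : Y' = closure {η} := hη.def.symm
      refine h1.le.trans ?_
      apply closure_mono
      rw [Set.singleton_subset_iff]
      exact ⟨ξ', ⟨ξ'W, hξ'Z, rfl⟩, hfξ'⟩
  · intro h x y hyx
    have hY'cl : IsClosed (closure {y}) := isClosed_closure
    have hY'irr : IsIrreducible (closure {y}) := isIrreducible_singleton.closure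
    have hxW : x ∈ f.base ⁻¹' closure {y} := hyx.mem_closure
    let xW : ↥(f.base ⁻¹' closure {y}) := ⟨x, hxW⟩
    have hZ := irreducibleComponent_mem_irreducibleComponents xW
    have hcl := h (closure {y}) hY'cl hY'irr _ hZ
    have hWcl : IsClosed (f.base ⁻¹' closure {y}) := hY'cl.preimage f.continuous
    obtain ⟨hZ'irr, hZ'cl⟩ := image_component hWcl _ hZ
    obtain ⟨ξ, hξ⟩ := QuasiSober.sober hZ'irr hZ'cl
    refine ⟨ξ, ?_, ?_⟩
    · show ξ ⤳ x
      rw [specializes_iff_mem_closure, hξ.def]
      exact ⟨xW, mem_irreducibleComponent, rfl⟩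
    · have h1 : closure {f.base ξ} = closure {y} := by
        rw [← hcl, ← hξ.def, closure_image_closure f.continuous, Set.image_singleton]
      exact IsGenericPoint.eq (S := closure {y}) h1 rfl

end Groth.Agent.S4587
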