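import Groth.Statements.S4589
import Groth.Agent.H23.OpenFS

set_option autoImplicit false
universe u
open IsLocalRing
open EGA41

namespace Groth.Agent.S4589

/-- Under the hypotheses of Nagata's Jacobian criterion — k a field of characteristic exponent p with k
finite over k^p, A a complete Noetherian local ring with residue field finite over a separable
extension K₀ of k, A a K₀-algebra formally smooth for its adic topology, q an ideal of A and B = A/q
— the set of primes n of B with B_n formally smooth over k for the adic topology of its maximal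
ideal is open in Spec B. -/
theorem result (p : ℕ) {k K₀ A : Type u} [Field k] [ExpChar k p]
    (hk : p = 1 ∨ Module.Finite (frobenius k p).fieldRange k)
    [Field K₀] [Algebra k K₀] [Algebra.IsGeometricallyReduced k K₀]
    [CommRing A] [IsLocalRing A] [IsNoetherianRing A] [IsAdicComplete (maximalIdeal A) A]
    [Algebra k A] [Algebra K₀ A] [IsScalarTower k K₀ A] [Module.Finite K₀ (ResidueField A)]
    (hA : CAlgX.IsAdicFormallySmooth K₀ A (maximalIdeal A))
    (q : Ideal A) :
    IsOpen {n : PrimeSpectrum (A ⧸ q) |
      CAlgX.IsAdicFormallySmooth k (Localization.AtPrime n.asIdeal) (maximalIdeal (Localization.AtPrime n.asIdeal))} := by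
  have hfin : Module.Finite k (Groth.Agent.H23.OpenFS.Root k p) :=
    Groth.Agent.H23.OpenFS.finite_root k p hk
  have := hfin
  refine Groth.Agent.H23.OpenFS.isOpen_adic k p hfin (A ⧸ q) ?_
  have : Module.Finite (A ⧸ q) (TensorProduct k (A ⧸ q) (Groth.Agent.H23.OpenFS.Root k p)) :=
    Module.Finite.base_change k (A ⧸ q) (Groth.Agent.H23.OpenFS.Root k p)
  have : Module.Finite A (A ⧸ q) :=
    Module.Finite.of_surjective (Algebra.linearMap A (A ⧸ q)) Ideal.Quotient.mk_surjective
  have : Module.Finite A (TensorProduct k (A ⧸ q) (Groth.Agent.H23.OpenFS.Root k p)) :=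
    Module.Finite.trans (A ⧸ q) _
  exact Groth.Agent.H23.GR.isJ2_of_complete A _ inferInstance

end Groth.Agent.S4589
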