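import Groth.Statements.S4590
import Mathlib

set_option autoImplicit false
universe u
open CAlg

namespace Groth.Agent.S4590

open Polynomial

section
variable {A B : Type u} [CommRing A] [IsDomain A] [CommRing B] [Algebra A B]
  [Module.FaithfullyFlat A B]

theorem hreg (a : A) (ha : a ≠ 0) (b : B) (hb : algebraMap A B a * b = 0) : b = 0 := by
  have := Module.Flat.isSMulRegular_of_nonZeroDivisors (M := B) (mem_nonZeroDivisors_of_ne_zero ha)
  apply this
  simp only [smul_zero]
  rw [Algebra.smul_def]; exact hb

theorem part1 : Function.Injective (algebraMap A (B ⧸ nilradical B)) := by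
  have hinjB : Function.Injective (algebraMap A B) := FaithfulSMul.algebraMap_injective A B
  rw [injective_iff_map_eq_zero]
  intro a ha
  have hAC : algebraMap A (B ⧸ nilradical B) a = Ideal.Quotient.mk _ (algebraMap A B a) := rfl
  rw [hAC, Ideal.Quotient.eq_zero_iff_mem, mem_nilradical] at ha
  obtain ⟨n, hn⟩ := ha
  rw [← map_pow] at hn
  have := hinjB (hn.trans (map_zero _).symm)
  exact IsNilpotent.eq_zero ⟨n, this⟩

theorem part2 (a : A) (ha : a ≠ 0) :
    algebraMap A (B ⧸ nilradical B) a ∈ nonZeroDivisors (B ⧸ nilradical B) := by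
  rw [mem_nonZeroDivisors_iff_left]
  intro c hc
  obtain ⟨b, rfl⟩ := Ideal.Quotient.mk_surjective c
  have hAC : algebraMap A (B ⧸ nilradical B) a = Ideal.Quotient.mk _ (algebraMap A B a) := rfl
  rw [hAC, ← map_mul, Ideal.Quotient.eq_zero_iff_mem, mem_nilradical] at hc
  obtain ⟨n, hn⟩ := hc
  rw [mul_pow, ← map_pow] at hn
  have := hreg (a ^ n) (pow_ne_zero n ha) _ hn
  rw [Ideal.Quotient.eq_zero_iff_mem, mem_nilradical]
  exact ⟨n, this⟩

/-- Key step: if the homogenized monic polynomial over `B` kills `a` up to nilpotents then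
`a ^ m` lies in the ideal `(s^(m-i) a^i, i < m)` of `A`. -/
theorem key (a s : A) (P : B[X]) (hP : P.Monic)
    (h : IsNilpotent (eval (algebraMap A B a) (P.scaleRoots (algebraMap A B s)))) :
    ∃ m : ℕ, a ^ m ∈ Ideal.span (Set.range fun i : Fin m => s ^ (m - i) * a ^ (i : ℕ)) := by
  have hinjB : Function.Injective (algebraMap A B) := FaithfulSMul.algebraMap_injective A B
  have : Nontrivial B := hinjB.nontrivial
  obtain ⟨N, hN⟩ := h
  rw [← eval_pow, ← pow_scaleRoots' _ _ _ (by rw [hP.leadingCoeff, one_pow]; exact one_ne_zero)]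
    at hN
  set Q := P ^ N with hQ
  have hQm : Q.Monic := hP.pow N
  refine ⟨Q.natDegree, ?_⟩
  rw [← Ideal.comap_map_eq_self_of_faithfullyFlat (B := B)
    (Ideal.span (Set.range fun i : Fin Q.natDegree => s ^ (Q.natDegree - i) * a ^ (i : ℕ)))]
  rw [Ideal.mem_comap, Ideal.map_span]
  rw [eval_eq_sum_range, natDegree_scaleRoots, Finset.sum_range_succ, coeff_scaleRoots,
    hQm.coeff_natDegree, Nat.sub_self, pow_zero, one_mul, one_mul] at hN
  rw [map_pow, eq_neg_of_add_eq_zero_right hN]
  apply neg_mem
  apply Ideal.sum_mem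
  intro i hi
  rw [Finset.mem_range] at hi
  rw [coeff_scaleRoots, mul_assoc]
  apply Ideal.mul_mem_left
  apply Ideal.subset_span
  refine ⟨_, ⟨⟨i, hi⟩, rfl⟩, ?_⟩
  simp
end


section
variable {A B : Type u} [CommRing A] [IsDomain A] [CommRing B] [Algebra A B]
  [Module.FaithfullyFlat A B]

theorem part3 (R : Type u) [CommRing R] [Algebra (B ⧸ nilradical B) R]
    [IsFractionRing (B ⧸ nilradical B) R]
    [Algebra A R] [IsScalarTower A (B ⧸ nilradical B) R] [Algebra (FractionRing A) R]
    [IsScalarTower A (FractionRing A) R] (x : FractionRing A)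
    (h : IsIntegral (B ⧸ nilradical B) (algebraMap (FractionRing A) R x)) : IsIntegral A x := by
  have : Nontrivial (B ⧸ nilradical B) := (part1 (A := A) (B := B)).nontrivial
  obtain ⟨a, s, hs, rfl⟩ := IsFractionRing.div_surjective (A := A) x
  have hs0 : s ≠ 0 := nonZeroDivisors.ne_zero hs
  have hsK : algebraMap A (FractionRing A) s ≠ 0 := by
    simpa using hs0
  obtain ⟨P, hPm, hP⟩ := h
  obtain ⟨P', hP'map, hP'deg, hP'm⟩ := Polynomial.lifts_and_natDegree_eq_and_monic
    (f := Ideal.Quotient.mk (nilradical B)) (p := P)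
    ((Polynomial.mem_lifts _).mpr (Polynomial.map_surjective _ Ideal.Quotient.mk_surjective P)) hPm
  have hrel : algebraMap (B ⧸ nilradical B) R (algebraMap A (B ⧸ nilradical B) a) =
      algebraMap (B ⧸ nilradical B) R (algebraMap A (B ⧸ nilradical B) s) *
        algebraMap (FractionRing A) R
          (algebraMap A (FractionRing A) a / algebraMap A (FractionRing A) s) := by
    rw [← IsScalarTower.algebraMap_apply A (B ⧸ nilradical B) R,
      ← IsScalarTower.algebraMap_apply A (B ⧸ nilradical B) R,
      IsScalarTower.algebraMap_apply A (FractionRing A) R,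
      IsScalarTower.algebraMap_apply A (FractionRing A) R s, ← map_mul,
      mul_div_cancel₀ _ hsK]
  have hnil : IsNilpotent (eval (algebraMap A B a) (P'.scaleRoots (algebraMap A B s))) := by
    rw [← mem_nilradical, ← Ideal.Quotient.eq_zero_iff_mem, ← Polynomial.eval_map_apply,
      map_scaleRoots _ _ _ (by rw [hP'm.leadingCoeff, map_one]; exact one_ne_zero), hP'map]
    apply IsFractionRing.injective (B ⧸ nilradical B) R
    rw [map_zero, ← Polynomial.eval₂_at_apply]
    have e1 : (Ideal.Quotient.mk (nilradical B)) (algebraMap A B a) =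
        algebraMap A (B ⧸ nilradical B) a := rfl
    have e2 : (Ideal.Quotient.mk (nilradical B)) (algebraMap A B s) =
        algebraMap A (B ⧸ nilradical B) s := rfl
    rw [e1, e2, hrel]
    exact scaleRoots_eval₂_eq_zero _ hP
  obtain ⟨m, hm⟩ := key a s P' hP'm hnil
  obtain ⟨c, hc⟩ := (Ideal.mem_span_range_iff_exists_fun).mp hm
  set al := algebraMap A (FractionRing A) with hal
  have hx : (al a / al s) ^ m = ∑ i : Fin m, al (c i) * (al a / al s) ^ (i : ℕ) := by
    rw [div_pow, ← map_pow, ← hc, map_sum, Finset.sum_div]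
    apply Finset.sum_congr rfl
    intro i _
    simp only [map_mul, map_pow]
    have hi : (i : ℕ) ≤ m := i.2.le
    have e : al s ^ m = al s ^ (m - (i : ℕ)) * al s ^ (i : ℕ) := by
      rw [← pow_add, Nat.sub_add_cancel hi]
    rw [e, div_pow]
    field_simp
  refine ⟨X ^ m + (-(∑ i : Fin m, C (c i) * X ^ (i : ℕ))), monic_X_pow_add ?_, ?_⟩
  · rw [degree_neg]
    exact Polynomial.degree_sum_fin_lt c
  · rw [eval₂_add, eval₂_neg, eval₂_X_pow, eval₂_finsetSum, hx]
    simp only [eval₂_mul, eval₂_C, eval₂_X_pow]
    exact add_neg_cancel _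
end


/-- Let A be a domain with fraction field K, B a faithfully flat A-algebra, C = B_red and R the total
ring of fractions of C. Then A → C is injective with nonzero elements going to non-zero-divisors, so
that K embeds in R, and an element of K is integral over C in R if and only if it is integral over
A. -/
theorem result {A B : Type u} [CommRing A] [IsDomain A]
    [CommRing B] [Algebra A B] [Module.FaithfullyFlat A B] :
    Function.Injective (algebraMap A (B ⧸ nilradical B)) ∧
    (∀ a : A, a ≠ 0 → algebraMap A (B ⧸ nilradical B) a ∈ nonZeroDivisors (B ⧸ nilradical B)) ∧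
    ∀ (R : Type u) [CommRing R] [Algebra (B ⧸ nilradical B) R] [IsFractionRing (B ⧸ nilradical B) R]
      [Algebra A R] [IsScalarTower A (B ⧸ nilradical B) R] [Algebra (FractionRing A) R]
      [IsScalarTower A (FractionRing A) R] (x : FractionRing A),
      IsIntegral (B ⧸ nilradical B) (algebraMap (FractionRing A) R x) ↔ IsIntegral A x := by
  refine ⟨part1, part2, ?_⟩
  intro R _ _ _ _ _ _ _ x
  constructor
  · exact part3 R x
  · intro h
    have h1 : IsIntegral A (algebraMap (FractionRing A) R x) :=
      h.map (IsScalarTower.toAlgHom A (FractionRing A) R)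
    exact h1.tower_top

end Groth.Agent.S4590
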