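import Groth.Statements.S4593
import Mathlib

set_option autoImplicit false
universe u
open EGA41
open CategoryTheory CategoryTheory.Limits AlgebraicGeometry

namespace Groth.Agent.S4593

section core

variable {I : Type u} [SmallCategory I] [IsFiltered I]
    (B : CommRingCat.{u}) (D : I ⥤ CommRingCat.{u}) (s : (Functor.const I).obj B ⟶ D) (c : Cocone D)
    (hc : IsColimit c)

include hc in
theorem s_nat {i k : I} (f : i ⟶ k) : s.app i ≫ D.map f = s.app k := by
  have := s.naturality f
  simpa using this.symm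

include hc in
theorem compat (i j : I) : s.app i ≫ c.ι.app i = s.app j ≫ c.ι.app j := by
  have h1 : s.app i ≫ c.ι.app i = s.app (IsFiltered.max i j) ≫ c.ι.app (IsFiltered.max i j) := by
    rw [← s_nat B D s c hc (IsFiltered.leftToMax i j), Category.assoc, c.w]
  have h2 : s.app j ≫ c.ι.app j = s.app (IsFiltered.max i j) ≫ c.ι.app (IsFiltered.max i j) := by
    rw [← s_nat B D s c hc (IsFiltered.rightToMax i j), Category.assoc, c.w]
  rw [h1, h2]

include hc in
/-- Elements of the extended ideal in the colimit come from a finite stage. -/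
theorem mem_map_colimit (i₀ : I) (p : Ideal B) (x : c.pt)
    (hx : x ∈ p.map (s.app i₀ ≫ c.ι.app i₀).hom) :
    ∃ (i : I) (y : D.obj i), y ∈ p.map (s.app i).hom ∧ (c.ι.app i).hom y = x := by
  have hmapmap : ∀ {i k : I} (f : i ⟶ k) (y : D.obj i), y ∈ p.map (s.app i).hom →
      (D.map f).hom y ∈ p.map (s.app k).hom := by
    intro i k f y hy
    have : (p.map (s.app i).hom).map (D.map f).hom = p.map (s.app k).hom := by
      rw [Ideal.map_map, ← CommRingCat.hom_comp, s_nat B D s c hc f]
    rw [← this]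
    exact Ideal.mem_map_of_mem _ hy
  unfold Ideal.map at hx
  induction hx using Submodule.span_induction with
  | mem x hx =>
    obtain ⟨q, hq, rfl⟩ := hx
    exact ⟨i₀, (s.app i₀).hom q, Ideal.mem_map_of_mem _ hq, rfl⟩
  | zero => exact ⟨i₀, 0, Ideal.zero_mem _, map_zero _⟩
  | add x1 x2 _ _ h1 h2 =>
    obtain ⟨i, y1, hy1, rfl⟩ := h1
    obtain ⟨j, y2, hy2, rfl⟩ := h2
    refine ⟨IsFiltered.max i j, (D.map (IsFiltered.leftToMax i j)).hom y1 +
      (D.map (IsFiltered.rightToMax i j)).hom y2,
      Ideal.add_mem _ (hmapmap _ _ hy1) (hmapmap _ _ hy2), ?_⟩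
    rw [map_add, ← CommRingCat.comp_apply, ← CommRingCat.comp_apply, c.w, c.w]
  | smul a x _ h =>
    obtain ⟨i, y, hy, rfl⟩ := h
    obtain ⟨j, a', rfl⟩ := Concrete.isColimit_exists_rep D hc a
    refine ⟨IsFiltered.max i j, (D.map (IsFiltered.rightToMax i j)).hom a' *
      (D.map (IsFiltered.leftToMax i j)).hom y,
      Ideal.mul_mem_left _ _ (hmapmap _ _ hy), ?_⟩
    rw [map_mul, ← CommRingCat.comp_apply, ← CommRingCat.comp_apply, c.w, c.w]
    rfl

include hc in
theorem core (i₀ : I) (x : PrimeSpectrum B)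
    (hx : ∀ k, x ∈ Set.range (PrimeSpectrum.comap (s.app k).hom)) :
    x ∈ Set.range (PrimeSpectrum.comap (s.app i₀ ≫ c.ι.app i₀).hom) := by
  rw [PrimeSpectrum.mem_range_comap_iff]
  apply le_antisymm _ Ideal.le_comap_map
  intro b hb
  rw [Ideal.mem_comap] at hb
  obtain ⟨i, y, hy, hyb⟩ := mem_map_colimit B D s c hc i₀ x.asIdeal _ hb
  have h1 : (c.ι.app i).hom y = (c.ι.app i).hom ((s.app i).hom b) := by
    rw [hyb, ← CommRingCat.comp_apply, compat B D s c hc i i₀]
  obtain ⟨k, f, g, hfg⟩ := Concrete.isColimit_exists_of_rep_eq D hc y ((s.app i).hom b) h1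
  have h2 : (D.map g).hom ((s.app i).hom b) = (s.app k).hom b := by
    rw [← CommRingCat.comp_apply, s_nat B D s c hc g]
  have h3 : (s.app k).hom b ∈ x.asIdeal.map (s.app k).hom := by
    rw [← h2]
    have : (D.map f).hom y ∈ x.asIdeal.map (s.app k).hom := by
      have hmm : (x.asIdeal.map (s.app i).hom).map (D.map f).hom = x.asIdeal.map (s.app k).hom := by
        rw [Ideal.map_map, ← CommRingCat.hom_comp, s_nat B D s c hc f]
      rw [← hmm]
      exact Ideal.mem_map_of_mem _ hy
    exact hfg ▸ this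
  have hk := hx k
  rw [PrimeSpectrum.mem_range_comap_iff] at hk
  rw [← hk]
  exact h3

end core

/-- Let B be a ring, (A_i) a filtered system of B-algebras with colimit A. The image of Spec A in Spec B
is the intersection of the images of the Spec A_i. -/
theorem result {I : Type u} [SmallCategory I] [IsFiltered I]
    (B : CommRingCat.{u}) (D : I ⥤ CommRingCat.{u}) (s : (Functor.const I).obj B ⟶ D) (c : Cocone D)
    (hc : IsColimit c) (i₀ : I) :
    Set.range (Spec.map (s.app i₀ ≫ c.ι.app i₀)).base = ⋂ i : I, Set.range (Spec.map (s.app i)).base := by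
  apply Set.Subset.antisymm
  · rintro _ ⟨y, rfl⟩
    rw [Set.mem_iInter]
    intro i
    refine ⟨(Spec.map (c.ι.app i)).base y, ?_⟩
    rw [compat B D s c hc i₀ i, Spec.map_comp]
    rfl
  · intro x hx
    rw [Set.mem_iInter] at hx
    exact core B D s c hc i₀ x (fun k => hx k)

end Groth.Agent.S4593
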