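import Groth.Statements.S4594
import Mathlib

set_option autoImplicit false
universe u
open TensorProduct KaehlerDifferential
open EGA41

namespace Groth.Agent.S4594

/-- The ideal `J² + pA`. -/
abbrev II (A C : Type u) [CommRing A] [CommRing C] [Algebra A C] (p : ℕ) : Ideal A :=
  (RingHom.ker (algebraMap A C)) ^ 2 ⊔ Ideal.span {(p : A)}

section
variable {Λ A C : Type u} [CommRing Λ] [CommRing A]
    [CommRing C] [Algebra Λ A] [Algebra A C] [Algebra Λ C] [IsScalarTower Λ A C]
    (p : ℕ)

theorem II_le (hp : (p : A) ∈ RingHom.ker (algebraMap A C)) :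
    II A C p ≤ RingHom.ker (algebraMap A C) := by
  apply sup_le
  · exact Ideal.pow_le_self (by norm_num)
  · rw [Ideal.span_le]
    intro x hx
    rw [Set.mem_singleton_iff] at hx
    rw [hx]; exact hp

theorem main (hsurj : Function.Surjective (algebraMap A C))
    [Algebra (Λ ⧸ Ideal.span {(p : Λ)}) C] [IsScalarTower Λ (Λ ⧸ Ideal.span {(p : Λ)}) C]
    [Algebra.FormallySmooth (Λ ⧸ Ideal.span {(p : Λ)}) C]
    (hp : (p : A) ∈ RingHom.ker (algebraMap A C)) (a : A)
    (ha : a ∈ RingHom.ker (algebraMap A C))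
    (h : (1 : C) ⊗ₜ[A] D Λ A a = 0) : a ∈ II A C p := by
  let E := A ⧸ II A C p
  let Λ₁ := Λ ⧸ Ideal.span {(p : Λ)}
  let φ : Λ₁ →+* E := Ideal.Quotient.lift (Ideal.span {(p : Λ)})
    ((algebraMap A E).comp (algebraMap Λ A)) (by
      intro x hx
      obtain ⟨y, rfl⟩ := Ideal.mem_span_singleton'.mp hx
      simp only [RingHom.comp_apply, map_mul, map_natCast]
      have : ((p : ℕ) : E) = 0 := by
        have : (Ideal.Quotient.mk (II A C p)) (p : A) = 0 :=
          Ideal.Quotient.eq_zero_iff_mem.mpr (Ideal.mem_sup_right (Ideal.subset_span rfl))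
        simpa using this
      rw [this, mul_zero])
  let _ : Algebra Λ₁ E := φ.toAlgebra
  let ψ : E →+* C := Ideal.Quotient.lift (II A C p) (algebraMap A C)
    (fun x hx => II_le p hp hx)
  let _ : Algebra E C := ψ.toAlgebra
  have hφ : ∀ x : Λ, algebraMap Λ₁ E (Ideal.Quotient.mk _ x) =
      Ideal.Quotient.mk _ (algebraMap Λ A x) := fun x => rfl
  have hψ : ∀ x : A, algebraMap E C (Ideal.Quotient.mk _ x) = algebraMap A C x := fun x => rfl
  have : IsScalarTower Λ₁ E C := by
    apply IsScalarTower.of_algebraMap_eq'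
    apply Ideal.Quotient.ringHom_ext
    ext x
    simp only [RingHom.comp_apply]
    rw [hφ, hψ, ← IsScalarTower.algebraMap_apply Λ A C]
    exact (IsScalarTower.algebraMap_apply Λ Λ₁ C x).symm
  have hsurjE : Function.Surjective (algebraMap E C) := by
    intro c
    obtain ⟨x, rfl⟩ := hsurj c
    exact ⟨Ideal.Quotient.mk _ x, hψ x⟩
  have hsq : (RingHom.ker (algebraMap E C)) ^ 2 = ⊥ := by
    rw [eq_bot_iff, pow_two, Ideal.mul_le]
    intro x hx y hy
    obtain ⟨x, rfl⟩ := Ideal.Quotient.mk_surjective x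
    obtain ⟨y, rfl⟩ := Ideal.Quotient.mk_surjective y
    rw [RingHom.mem_ker, hψ] at hx hy
    rw [Ideal.mem_bot, ← map_mul, Ideal.Quotient.eq_zero_iff_mem]
    apply Ideal.mem_sup_left
    rw [pow_two]
    exact Ideal.mul_mem_mul hx hy
  -- the section
  let g : C →ₐ[Λ₁] E := Algebra.FormallySmooth.liftOfSurjective (AlgHom.id Λ₁ C)
    (IsScalarTower.toAlgHom Λ₁ E C) hsurjE ⟨2, hsq⟩
  have hg : (IsScalarTower.toAlgHom Λ₁ E C).comp g = AlgHom.id Λ₁ C :=
    Algebra.FormallySmooth.comp_liftOfSurjective _ _ _ _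
  have hinj : Function.Injective (kerToTensor Λ₁ E C) := by
    have := retractionOfSectionOfKerSqZero_comp_kerToTensor g hsq hg
    exact Function.HasLeftInverse.injective
      ⟨retractionOfSectionOfKerSqZero g hsq hg, fun x => LinearMap.congr_fun this x⟩
  -- the hom of extensions
  let P : Algebra.Extension.{u} Λ C := ⟨A, Function.surjInv hsurj, Function.surjInv_eq hsurj⟩
  let P' : Algebra.Extension.{u} Λ₁ C := ⟨E, Function.surjInv hsurjE, Function.surjInv_eq hsurjE⟩
  let f : P.Hom P' :=
    { toRingHom := Ideal.Quotient.mk _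
      toRingHom_algebraMap := fun x => (hφ x).symm
      algebraMap_toRingHom := fun x => hψ x }
  have h2 := congrArg (Algebra.Extension.CotangentSpace.map f) h
  rw [map_zero, Algebra.Extension.CotangentSpace.map_tmul] at h2
  have hmem : (Ideal.Quotient.mk (II A C p)) a ∈ RingHom.ker (algebraMap E C) := by
    rw [RingHom.mem_ker, hψ]; exact ha
  have h3 : kerToTensor Λ₁ E C ⟨_, hmem⟩ = 0 := by
    rw [kerToTensor_apply]
    simpa using h2
  have h4 := hinj (h3.trans (map_zero _).symm)
  have h5 : (Ideal.Quotient.mk (II A C p)) a = 0 := congrArg Subtype.val h4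
  exact Ideal.Quotient.eq_zero_iff_mem.mp h5

end


/-- Let Λ be a ring, A → C a surjection of Λ-algebras with kernel J, C of characteristic p > 0, and π
the class of p·1 in J/J². If C is formally smooth over Λ/pΛ for the discrete topologies, then 0 →
(J/J²)/Cπ → Ω_{A/Λ} ⊗_A C → Ω_{C/Λ} → 0 is exact: the kernel of the conormal map J/J² → Ω_{A/Λ} ⊗_A
C is the span of π, and the base-change map to Ω_{C/Λ} is surjective with kernel the image of J/J². -/
theorem result {Λ A C : Type u} [CommRing Λ] [CommRing A]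
    [CommRing C] [Algebra Λ A] [Algebra A C] [Algebra Λ C] [IsScalarTower Λ A C]
    (hsurj : Function.Surjective (algebraMap A C)) (p : ℕ) [Fact p.Prime] [CharP C p]
    [Algebra (Λ ⧸ Ideal.span {(p : Λ)}) C] [IsScalarTower Λ (Λ ⧸ Ideal.span {(p : Λ)}) C]
    [Algebra.FormallySmooth (Λ ⧸ Ideal.span {(p : Λ)}) C]
    (hp : (p : A) ∈ RingHom.ker (algebraMap A C)) :
    LinearMap.ker (kerCotangentToTensor Λ A C) =
        Submodule.span A {(RingHom.ker (algebraMap A C)).toCotangent ⟨(p : A), hp⟩} ∧
      LinearMap.range (kerCotangentToTensor Λ A C) = (LinearMap.ker (mapBaseChange Λ A C)).restrictScalars A ∧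
      Function.Surjective (mapBaseChange Λ A C) := by
  refine ⟨?_, ?_, mapBaseChange_surjective Λ A C hsurj⟩
  · apply le_antisymm
    · intro x hx
      obtain ⟨⟨a, ha⟩, rfl⟩ := Ideal.toCotangent_surjective _ x
      rw [LinearMap.mem_ker, kerCotangentToTensor_toCotangent] at hx
      have hmem := main p hsurj hp a ha hx
      obtain ⟨b, hb, c, hc, rfl⟩ := Submodule.mem_sup.mp hmem
      obtain ⟨r, rfl⟩ := Ideal.mem_span_singleton'.mp hc
      have hb' : b ∈ RingHom.ker (algebraMap A C) := Ideal.pow_le_self (by norm_num) hb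
      have hc' : r * (p : A) ∈ RingHom.ker (algebraMap A C) := Ideal.mul_mem_left _ _ hp
      have e1 : (⟨b + r * (p : A), ha⟩ : RingHom.ker (algebraMap A C)) =
          ⟨b, hb'⟩ + r • ⟨(p : A), hp⟩ := by
        ext; simp
      rw [e1, map_add, map_smul]
      have e2 : (RingHom.ker (algebraMap A C)).toCotangent ⟨b, hb'⟩ = 0 := by
        rw [Ideal.toCotangent_eq_zero]; exact hb
      rw [e2, zero_add]
      exact Submodule.smul_mem _ _ (Submodule.subset_span rfl)
    · rw [Submodule.span_le]
      intro x hx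
      rw [Set.mem_singleton_iff] at hx
      rw [hx, SetLike.mem_coe, LinearMap.mem_ker, kerCotangentToTensor_toCotangent]
      simp
  · have hex := exact_kerCotangentToTensor_mapBaseChange Λ A C hsurj
    ext x
    simp only [LinearMap.mem_range, Submodule.restrictScalars_mem, LinearMap.mem_ker]
    exact ((hex x).symm)

end Groth.Agent.S4594
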