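import Groth.Statements.S4595
import Groth.Agent.H96.PRootIndex
-- import your own Groth.Agent.* helpers here

set_option autoImplicit false
universe u
open TensorProduct IsLocalRing
open EGA41

namespace Groth.Agent.S4595

/-- Let A be an Artinian local ring of characteristic p > 0 with maximal ideal m of square zero and
residue field K, f_1, …, f_r ∈ A, and B = A[T_1, …, T_r]/(T_1^p − f_1, …, T_r^p − f_r). Then B is
local, and dim_K m = dim_{K'}(m'/m'²) (m', K' the maximal ideal and residue field of B) if and only
if the d f_i ⊗ 1 are linearly independent in Ω_A ⊗_A K. -/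
theorem result {A : Type u} [CommRing A]
    [IsArtinianRing A] [IsLocalRing A] (hm : maximalIdeal A ^ 2 = ⊥) (p : ℕ) [Fact p.Prime] [CharP A p]
    {r : ℕ} (f : Fin r → A) :
    let B := MvPolynomial (Fin r) A ⧸ Ideal.span (Set.range fun i => MvPolynomial.X i ^ p - MvPolynomial.C (f i))
    ∃ _ : IsLocalRing B,
      (Module.finrank (ResidueField A) (CotangentSpace A) = Module.finrank (ResidueField B) (CotangentSpace B) ↔
        LinearIndependent (ResidueField A) (fun i => (1 : ResidueField A) ⊗ₜ[A] KaehlerDifferential.D ℤ A (f i))) := by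
  intro B
  have hloc : IsLocalRing (Groth.Agent.H96.PRoot.B p f) :=
    Groth.Agent.H96.PRoot.isLocalRing_B p f hm
  refine ⟨hloc, ?_⟩
  have hlh : IsLocalHom (algebraMap A (Groth.Agent.H96.PRoot.B p f)) :=
    Groth.Agent.H96.PRoot.isLocalHom_algebraMap p f hm
  exact Groth.Agent.H96.PRootIndex.finrank_eq_iff p f

end Groth.Agent.S4595
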