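import Groth.Statements.S4598
import Groth.Agent.S4596
import Mathlib.AlgebraicGeometry.PullbackCarrier
import Mathlib.CategoryTheory.MorphismProperty.Descent

set_option autoImplicit false
universe u
open AlgebraicGeometry CategoryTheory CategoryTheory.Limits
open EGA41

namespace Groth.Agent.S4598

theorem hasOfPrecomp_qc :
    MorphismProperty.HasOfPrecompProperty @QuasiCompact.{u} (@Surjective ⊓ @QuasiCompact) where
  of_precomp f g hf hfg := by
    have := hf.1
    exact Groth.Agent.S4596.result f g

theorem respectsRight_qc :
    MorphismProperty.RespectsRight @QuasiCompact.{u} (@Surjective ⊓ @QuasiCompact) where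
  postcomp i hi f hf := by
    have := hi.2
    infer_instance

theorem descends_qc :
    MorphismProperty.DescendsAlong @QuasiCompact.{u} (@Surjective ⊓ @QuasiCompact) := by
  have := hasOfPrecomp_qc.{u}
  have := respectsRight_qc.{u}
  infer_instance

/-- If g : Y' → Y is quasi-compact and surjective and the base change X ×_Y Y' → Y' of f : X → Y is
quasi-separated, then f is quasi-separated. -/
theorem result {X Y Y' : Scheme.{u}} (f : X ⟶ Y)
    (g : Y' ⟶ Y) [QuasiCompact g] [Surjective g] [QuasiSeparated (pullback.snd f g)] :
    QuasiSeparated f := by
  have := descends_qc.{u}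
  have h : (MorphismProperty.diagonal @QuasiCompact.{u}).DescendsAlong
      (@Surjective ⊓ @QuasiCompact) := inferInstance
  rw [← quasiSeparated_eq_diagonal_is_quasiCompact] at h
  exact MorphismProperty.of_pullback_snd_of_descendsAlong (P := @QuasiSeparated)
    (Q := @Surjective ⊓ @QuasiCompact) (f := f) (g := g) ⟨inferInstance, inferInstance⟩ inferInstance

end Groth.Agent.S4598
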