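import Groth.Statements.S4600
import Mathlib

set_option autoImplicit false
universe u
open CategoryTheory CategoryTheory.Limits TensorProduct
open EGA41

namespace Groth.Agent.S4600

section descent

variable {I : Type u} [SmallCategory I] [IsFiltered I]
    (D : I ⥤ CommRingCat.{u}) (c : Cocone D) (hc : IsColimit c) (n : ℕ)

include hc in
/-- Every polynomial over the colimit comes from a stage. -/
theorem exists_poly (p : MvPolynomial (Fin n) c.pt) :
    ∃ (i : I) (q : MvPolynomial (Fin n) (D.obj i)),
      MvPolynomial.map (c.ι.app i).hom q = p := by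
  induction p using MvPolynomial.induction_on with
  | C a =>
    obtain ⟨j, a', rfl⟩ := Concrete.isColimit_exists_rep D hc a
    exact ⟨j, MvPolynomial.C a', by rw [MvPolynomial.map_C]⟩
  | add p1 p2 h1 h2 =>
    obtain ⟨i, q1, rfl⟩ := h1
    obtain ⟨j, q2, rfl⟩ := h2
    refine ⟨IsFiltered.max i j,
      MvPolynomial.map (D.map (IsFiltered.leftToMax i j)).hom q1 +
        MvPolynomial.map (D.map (IsFiltered.rightToMax i j)).hom q2, ?_⟩
    rw [map_add, MvPolynomial.map_map, MvPolynomial.map_map, ← CommRingCat.hom_comp,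
      ← CommRingCat.hom_comp, c.w, c.w]
  | mul_X p k h =>
    obtain ⟨i, q, rfl⟩ := h
    exact ⟨i, q * MvPolynomial.X k, by rw [map_mul, MvPolynomial.map_X]⟩

include hc in
/-- Every finite set of polynomials over the colimit comes from a stage. -/
theorem exists_finset (S : Finset (MvPolynomial (Fin n) c.pt)) :
    ∃ (i : I) (S' : Finset (MvPolynomial (Fin n) (D.obj i))),
      (MvPolynomial.map (c.ι.app i).hom) '' (S' : Set (MvPolynomial (Fin n) (D.obj i))) =
        (S : Set (MvPolynomial (Fin n) c.pt)) := by
  classical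
  induction S using Finset.induction_on with
  | empty =>
    obtain ⟨i⟩ := IsFiltered.nonempty (C := I)
    exact ⟨i, ∅, by simp⟩
  | insert p S _ ih =>
    obtain ⟨i, S', hS'⟩ := ih
    obtain ⟨j, q, rfl⟩ := exists_poly D c hc n p
    refine ⟨IsFiltered.max i j,
      insert (MvPolynomial.map (D.map (IsFiltered.rightToMax i j)).hom q)
        (S'.image (MvPolynomial.map (D.map (IsFiltered.leftToMax i j)).hom)), ?_⟩
    rw [Finset.coe_insert, Finset.coe_insert, Set.image_insert_eq, Finset.coe_image,
      Set.image_image, ← hS']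
    congr 1
    · rw [MvPolynomial.map_map, ← CommRingCat.hom_comp, c.w]
    · apply Set.image_congr
      intro x _
      rw [MvPolynomial.map_map, ← CommRingCat.hom_comp, c.w]

end descent


/-- Let (A_i) be a filtered system of rings with colimit A and B a finitely presented A-algebra. Then
some stage A_i carries a finitely presented algebra B_i with B isomorphic to A ⊗_{A_i} B_i as
A-algebras (existence of an isomorphism; the base change is along the colimit map A_i → A). -/
theorem result {I : Type u} [SmallCategory I] [IsFiltered I]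
    (D : I ⥤ CommRingCat.{u}) (c : Cocone D) (hc : IsColimit c) (B : Type u) [CommRing B] [Algebra c.pt B]
    [Algebra.FinitePresentation c.pt B] :
    ∃ (i : I) (Bi : Type u) (_ : CommRing Bi) (_ : Algebra (D.obj i) Bi),
      Algebra.FinitePresentation (D.obj i) Bi ∧
      (letI : Algebra (D.obj i) c.pt := (c.ι.app i).hom.toAlgebra
       Nonempty (B ≃ₐ[c.pt] (c.pt ⊗[D.obj i] Bi))) := by
  classical
  obtain ⟨n, f, hf, hker⟩ := Algebra.FinitePresentation.out (R := c.pt) (A := B)
  obtain ⟨S, hS⟩ := hker
  obtain ⟨i, S', hS'⟩ := exists_finset D c hc n S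
  let J : Ideal (MvPolynomial (Fin n) (D.obj i)) := Ideal.span (S' : Set _)
  have hJfg : J.FG := ⟨S', rfl⟩
  refine ⟨i, MvPolynomial (Fin n) (D.obj i) ⧸ J, inferInstance, inferInstance,
    Algebra.FinitePresentation.quotient hJfg, ?_⟩
  let _ : Algebra (D.obj i) c.pt := (c.ι.app i).hom.toAlgebra
  have halg : algebraMap (D.obj i) c.pt = (c.ι.app i).hom := rfl
  let e := MvPolynomial.algebraTensorAlgEquiv (σ := Fin n) (D.obj i) c.pt
  have hmap : (J.map (Algebra.TensorProduct.includeRight (R := D.obj i) (A := c.pt)
      (B := MvPolynomial (Fin n) (D.obj i)))).map (e : _ →+* _) = RingHom.ker f.toRingHom := by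
    rw [Ideal.map_span, Ideal.map_span, Set.image_image, ← hS, ← hS']
    congr 1
    apply Set.image_congr
    intro x _
    change e ((1 : c.pt) ⊗ₜ[D.obj i] x) = _
    rw [MvPolynomial.algebraTensorAlgEquiv_tmul, one_smul, halg]
  let e1 := Algebra.TensorProduct.tensorQuotientEquiv (R := D.obj i) c.pt
    (MvPolynomial (Fin n) (D.obj i)) c.pt J
  let e2 := Ideal.quotientEquivAlg (J.map (Algebra.TensorProduct.includeRight (R := D.obj i)
    (A := c.pt) (B := MvPolynomial (Fin n) (D.obj i)))) (RingHom.ker f.toRingHom) e hmap.symm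
  let e3 := Ideal.quotientKerAlgEquivOfSurjective hf
  exact ⟨((e1.trans e2).trans e3).symm⟩

end Groth.Agent.S4600
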