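import Groth.Statements.S4601
import Mathlib

set_option autoImplicit false
universe u
open TensorProduct
open CAlg

namespace Groth.Agent.S4601

/-- Let A be a domain with fraction field K, B a Noetherian A-algebra which is flat over A, K' an
extension field of K, B₁ = B_red and R its total ring of fractions. For every sub-A-algebra A' of
K', the map (A' ⊗_A B)_red → (K' ⊗_A R)_red is injective, i.e. an element of A' ⊗_A B with nilpotent
image in K' ⊗_A R is nilpotent. -/
theorem result {A B K' R : Type u} [CommRing A]
    [IsDomain A] [CommRing B] [Algebra A B] [IsNoetherianRing B] [Module.Flat A B]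
    [Field K'] [Algebra A K'] [Algebra (FractionRing A) K'] [IsScalarTower A (FractionRing A) K']
    [CommRing R] [Algebra (B ⧸ nilradical B) R] [IsFractionRing (B ⧸ nilradical B) R]
    [Algebra B R] [IsScalarTower B (B ⧸ nilradical B) R] [Algebra A R] [IsScalarTower A B R]
    (A' : Subalgebra A K') (x : ↥A' ⊗[A] B)
    (hx : IsNilpotent (Algebra.TensorProduct.map A'.val (IsScalarTower.toAlgHom A B R) x)) :
    IsNilpotent x := by
  classical
  -- tower A → B/nil → R
  have : IsScalarTower A (B ⧸ nilradical B) R := IsScalarTower.of_algebraMap_eq fun a => by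
    rw [IsScalarTower.algebraMap_apply A B R, IsScalarTower.algebraMap_apply B (B ⧸ nilradical B) R,
      ← IsScalarTower.algebraMap_apply A B (B ⧸ nilradical B)]
  -- flatness of K' over A
  have : Module.Flat A K' := Module.Flat.trans A (FractionRing A) K'
  -- the maps
  let π : B →ₐ[A] (B ⧸ nilradical B) := IsScalarTower.toAlgHom A B (B ⧸ nilradical B)
  let ι : (B ⧸ nilradical B) →ₐ[A] R := IsScalarTower.toAlgHom A (B ⧸ nilradical B) R
  have hπ : Function.Surjective π := Ideal.Quotient.mk_surjective
  have hι : Function.Injective ι := IsFractionRing.injective (B ⧸ nilradical B) R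
  have hcomp : IsScalarTower.toAlgHom A B R = ι.comp π := by
    ext b
    exact IsScalarTower.algebraMap_apply B (B ⧸ nilradical B) R b
  let g1 : ↥A' ⊗[A] B →ₐ[A] K' ⊗[A] B := Algebra.TensorProduct.map A'.val (AlgHom.id A B)
  let g3 : K' ⊗[A] B →ₐ[A] K' ⊗[A] (B ⧸ nilradical B) :=
    Algebra.TensorProduct.map (AlgHom.id A K') π
  let g4 : K' ⊗[A] (B ⧸ nilradical B) →ₐ[A] K' ⊗[A] R :=
    Algebra.TensorProduct.map (AlgHom.id A K') ι
  have hfac : Algebra.TensorProduct.map A'.val (IsScalarTower.toAlgHom A B R) =
      g4.comp (g3.comp g1) := by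
    rw [hcomp]
    ext <;> simp [g1, g3, g4]
  have hg1 : Function.Injective g1 := by
    have : (g1 : ↥A' ⊗[A] B → K' ⊗[A] B) = LinearMap.rTensor B A'.val.toLinearMap := by
      ext z
      induction z using TensorProduct.induction_on with
      | zero => simp
      | tmul a b => simp [g1]
      | add u v hu hv => simp only [map_add, hu, hv]
    rw [this]
    exact Module.Flat.rTensor_preserves_injective_linearMap _ Subtype.val_injective
  have hg4 : Function.Injective g4 := by
    have : (g4 : K' ⊗[A] (B ⧸ nilradical B) → K' ⊗[A] R) = LinearMap.lTensor K' ι.toLinearMap := by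
      ext z
      induction z using TensorProduct.induction_on with
      | zero => simp
      | tmul a b => simp [g4]
      | add u v hu hv => simp only [map_add, hu, hv]
    rw [this]
    exact Module.Flat.lTensor_preserves_injective_linearMap _ hι
  have hker : ∀ y : K' ⊗[A] B, IsNilpotent (g3 y) → IsNilpotent y := by
    intro y ⟨n, hn⟩
    have h1 : y ^ n ∈ RingHom.ker g3 := by
      rw [RingHom.mem_ker, map_pow]; exact hn
    have hk : RingHom.ker g3 ≤ nilradical (K' ⊗[A] B) := by
      have := Algebra.TensorProduct.lTensor_ker (A := K') π hπ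
      change RingHom.ker g3 = _ at this
      rw [this, Ideal.map_le_iff_le_comap]
      intro b hb
      have hb' : b ∈ nilradical B := by
        have : π b = 0 := hb
        exact Ideal.Quotient.eq_zero_iff_mem.mp this
      exact IsNilpotent.map hb' _
    have h2 : IsNilpotent (y ^ n) := hk h1
    obtain ⟨m, hm⟩ := h2
    exact ⟨n * m, by rw [pow_mul]; exact hm⟩
  rw [hfac] at hx
  have h3 : IsNilpotent (g3 (g1 x)) := by
    obtain ⟨n, hn⟩ := hx
    refine ⟨n, hg4 ?_⟩
    rw [map_pow, map_zero]
    exact hn
  obtain ⟨n, hn⟩ := hker _ h3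
  exact ⟨n, hg1 (by rw [map_pow, map_zero]; exact hn)⟩

end Groth.Agent.S4601
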