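import Groth.Statements.S4603
import Mathlib.Topology.Sober
import Mathlib.AlgebraicGeometry.Properties
import Mathlib.RingTheory.Spectrum.Prime.Topology

set_option autoImplicit false
universe u
open AlgebraicGeometry CategoryTheory
open EGA41

namespace Groth.Agent.S4603

theorem exists_maximal_generization {X : Type*} [TopologicalSpace X] [QuasiSober X] [T0Space X]
    (x : X) : ∃ g : X, g ⤳ x ∧ ∀ g' : X, g' ⤳ g → g' = g := by
  have hirr : IsIrreducible (irreducibleComponent x) := isIrreducible_irreducibleComponent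
  have hcl : IsClosed (irreducibleComponent x) := isClosed_irreducibleComponent
  obtain ⟨g, hg⟩ := QuasiSober.sober hirr hcl
  refine ⟨g, ?_, ?_⟩
  · rw [specializes_iff_mem_closure, hg.def]
    exact mem_irreducibleComponent
  · intro g' hg'
    have h1 : irreducibleComponent x ⊆ closure {g'} := by
      rw [← hg.def]
      exact closure_minimal (Set.singleton_subset_iff.mpr hg'.mem_closure) isClosed_closure
    have h2 : closure {g'} = irreducibleComponent x :=
      eq_irreducibleComponent isIrreducible_singleton.closure.isPreirreducible h1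
    have h3 : IsGenericPoint g' (irreducibleComponent x) := h2
    exact h3.eq hg

theorem mem_range_of_maximal {X Y : Scheme.{u}} (f : X ⟶ Y) [QuasiCompact f] [IsDominant f]
    (y : Y) (hy : ∀ y' : Y, y' ⤳ y → y' = y) : y ∈ Set.range f := by
  obtain ⟨_, ⟨U₀, hU, rfl⟩, hyU, -⟩ :=
    Y.isBasis_affineOpens.exists_subset_of_mem_open (Set.mem_univ y) isOpen_univ
  obtain ⟨U, rfl⟩ : ∃ U : Y.Opens, U = U₀ := ⟨U₀, rfl⟩
  have hid : ∀ (Z : Scheme.{u}) (z : Z), (𝟙 Z : Z ⟶ Z) z = z := fun _ _ => rfl
  have hU' : IsAffine U.toScheme := hU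
  have hdom : IsDominant (f ∣_ U) := IsZariskiLocalAtTarget.restrict ‹IsDominant f› U
  have hqc : QuasiCompact (f ∣_ U) := inferInstance
  have hcpt : CompactSpace ↥(f ⁻¹ᵁ U).toScheme :=
    QuasiCompact.compactSpace_of_compactSpace (f ∣_ U)
  obtain ⟨A, g, hg⟩ := compactSpace_iff_exists.mp hcpt
  have hgs : Surjective g := ⟨hg⟩
  let h : Spec A ⟶ Spec Γ(U.toScheme, ⊤) := g ≫ (f ∣_ U) ≫ U.toScheme.isoSpec.hom
  have hh : IsDominant h := by
    dsimp only [h]
    infer_instance
  obtain ⟨φ, hφ⟩ := Spec.map_surjective h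
  have hdense : DenseRange (PrimeSpectrum.comap φ.hom) := by
    have := hh.denseRange
    rw [← hφ] at this
    exact this
  rw [PrimeSpectrum.denseRange_comap_iff_minimalPrimes] at hdense
  let y' : U.toScheme := ⟨y, hyU⟩
  let p : Spec Γ(U.toScheme, ⊤) := U.toScheme.isoSpec.hom y'
  have hpmin : p.asIdeal ∈ minimalPrimes Γ(U.toScheme, ⊤) := by
    refine ⟨⟨p.isPrime, bot_le⟩, ?_⟩
    rintro q ⟨hq, -⟩ hqp
    let q' : Spec Γ(U.toScheme, ⊤) := ⟨q, hq⟩
    have hspec : q' ⤳ p := (PrimeSpectrum.le_iff_specializes q' p).mp hqp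
    have h1 : U.toScheme.isoSpec.inv q' ⤳ U.toScheme.isoSpec.inv p :=
      hspec.map U.toScheme.isoSpec.inv.continuous
    have h2 : U.toScheme.isoSpec.inv p = y' := by
      simp only [p, ← Scheme.Hom.comp_apply, Iso.hom_inv_id, hid]
    rw [h2] at h1
    have h3 : U.ι (U.toScheme.isoSpec.inv q') ⤳ U.ι y' := h1.map U.ι.continuous
    have h4 : U.ι (U.toScheme.isoSpec.inv q') = U.ι y' := hy _ h3
    have h5 : U.toScheme.isoSpec.inv q' = y' := U.ι.isOpenEmbedding.injective h4
    have h6 : q' = p := by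
      have := congrArg U.toScheme.isoSpec.hom h5
      simpa only [← Scheme.Hom.comp_apply, Iso.inv_hom_id, hid] using this
    have h7 : q = p.asIdeal := congrArg PrimeSpectrum.asIdeal h6
    exact h7.ge
  obtain ⟨a, ha⟩ := hdense p.asIdeal hpmin
  have ha' : h a = p := by
    rw [← hφ]
    exact ha
  have h8 : (g ≫ (f ∣_ U)) a = y' := by
    have h9 : U.toScheme.isoSpec.hom ((g ≫ (f ∣_ U)) a) = U.toScheme.isoSpec.hom y' := by
      rw [← Scheme.Hom.comp_apply, Category.assoc]
      exact ha'
    have := congrArg U.toScheme.isoSpec.inv h9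
    simpa only [← Scheme.Hom.comp_apply, Category.assoc, Iso.hom_inv_id, Category.comp_id, hid] using this
  refine ⟨(f ⁻¹ᵁ U).ι (g a), ?_⟩
  have h10 : U.ι ((g ≫ (f ∣_ U)) a) = U.ι y' := congrArg _ h8
  rw [← Scheme.Hom.comp_apply, Category.assoc, morphismRestrict_ι] at h10
  simpa using h10

/-- Let f : X → Y be quasi-compact. The following are equivalent: f is dominant; the fibre of f over
every maximal point of Y (a point with no proper generization, i.e. the generic point of an
irreducible component) is nonempty; every maximal point of Y is the image of a maximal point of X. -/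
theorem result {X Y : Scheme.{u}} (f : X ⟶ Y) [QuasiCompact f] :
    [IsDominant f,
     ∀ y : Y, (∀ y' : Y, y' ⤳ y → y' = y) → y ∈ Set.range f.base,
     ∀ y : Y, (∀ y' : Y, y' ⤳ y → y' = y) → ∃ x : X, (∀ x' : X, x' ⤳ x → x' = x) ∧ f.base x = y].TFAE := by
  tfae_have 1 → 2 := by
    intro h y hy
    exact mem_range_of_maximal f y hy
  tfae_have 2 → 3 := by
    intro h y hy
    obtain ⟨x₀, hx₀⟩ := h y hy
    obtain ⟨x, hx, hxmax⟩ := exists_maximal_generization x₀
    refine ⟨x, hxmax, ?_⟩
    have h1 : f.base x ⤳ f.base x₀ := hx.map f.continuous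
    rw [hx₀] at h1
    exact hy _ h1
  tfae_have 3 → 1 := by
    intro h
    constructor
    intro y
    obtain ⟨g, hg, hgmax⟩ := exists_maximal_generization y
    obtain ⟨x, -, hx⟩ := h g hgmax
    exact hg.mem_closed isClosed_closure (subset_closure ⟨x, hx⟩)
  tfae_finish

end Groth.Agent.S4603
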