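import Groth.Statements.S4604
import Mathlib

set_option autoImplicit false
universe u
open EGA41
open IsLocalRing

namespace Groth.Agent.S4604

section

variable {A : Type u} [CommRing A] {r : ℕ} (d : Fin r → ℕ) (c : Fin r → ℕ → A)

/-- The polynomials `F_i`. -/
noncomputable def Fpoly (i : Fin r) : MvPolynomial (Fin r) A :=
  MvPolynomial.X i ^ d i +
    (Finset.range (d i)).sum fun k => MvPolynomial.C (c i k) * MvPolynomial.X i ^ k

/-- The quotient ring `A'`. -/
abbrev Q : Type u := MvPolynomial (Fin r) A ⧸ Ideal.span (Set.range (Fpoly d c))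

/-- The class of `T_i`. -/
noncomputable def t (i : Fin r) : Q d c := Ideal.Quotient.mk _ (MvPolynomial.X i)

theorem relation (i : Fin r) :
    (t d c i) ^ d i + (Finset.range (d i)).sum
      (fun k => algebraMap A (Q d c) (c i k) * (t d c i) ^ k) = 0 := by
  have h : Ideal.Quotient.mk (Ideal.span (Set.range (Fpoly d c))) (Fpoly d c i) = 0 :=
    Ideal.Quotient.eq_zero_iff_mem.mpr (Ideal.subset_span ⟨i, rfl⟩)
  rw [← h, Fpoly, map_add, map_pow, map_sum]
  congr 1

/-- The augmentation `A' → A/J` for an ideal `J` containing the constant terms. -/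
noncomputable def aug (hd : ∀ i, 2 ≤ d i) (J : Ideal A) (hJ : ∀ i, c i 0 ∈ J) : Q d c →ₐ[A] A ⧸ J :=
  Ideal.Quotient.liftₐ _ (MvPolynomial.aeval (fun _ => (0 : A ⧸ J))) (by
    have : Ideal.span (Set.range (Fpoly d c)) ≤
        RingHom.ker (MvPolynomial.aeval (fun _ => (0 : A ⧸ J)) :
          MvPolynomial (Fin r) A →ₐ[A] A ⧸ J) := by
      rw [Ideal.span_le]
      rintro _ ⟨i, rfl⟩
      rw [SetLike.mem_coe, RingHom.mem_ker, MvPolynomial.aeval_zero']
      have hd0 : d i ≠ 0 := by have := hd i; omega
      rw [Fpoly, map_add, map_pow, MvPolynomial.constantCoeff_X, zero_pow hd0, zero_add, map_sum,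
        Finset.sum_eq_single 0]
      · simp only [pow_zero, mul_one, MvPolynomial.constantCoeff_C, Ideal.Quotient.algebraMap_eq]
        exact Ideal.Quotient.eq_zero_iff_mem.mpr (hJ i)
      · intro k _ hk
        simp [hk]
      · intro h0
        exfalso; apply h0
        simp only [Finset.mem_range]
        omega
    intro a ha
    exact this ha)

theorem aug_mk (hd : ∀ i, 2 ≤ d i) (J : Ideal A) (hJ : ∀ i, c i 0 ∈ J)
    (p : MvPolynomial (Fin r) A) :
    aug d c hd J hJ (Ideal.Quotient.mk _ p) = Ideal.Quotient.mk J (MvPolynomial.constantCoeff p) := by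
  simp [aug]

variable [IsLocalRing A]

theorem algebraMap_mem_nilradical (hm : maximalIdeal A ^ 2 = ⊥) (a : A) (ha : a ∈ maximalIdeal A) :
    algebraMap A (Q d c) a ∈ nilradical (Q d c) := by
  rw [mem_nilradical]
  refine ⟨2, ?_⟩
  rw [← map_pow]
  have : a ^ 2 ∈ maximalIdeal A ^ 2 := Ideal.pow_mem_pow ha 2
  rw [hm, Ideal.mem_bot] at this
  rw [this, map_zero]

theorem t_mem_nilradical (hm : maximalIdeal A ^ 2 = ⊥) (hc : ∀ i k, c i k ∈ maximalIdeal A)
    (i : Fin r) : t d c i ∈ nilradical (Q d c) := by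
  have h := relation d c i
  have h1 : (t d c i) ^ d i = - (Finset.range (d i)).sum
      (fun k => algebraMap A (Q d c) (c i k) * (t d c i) ^ k) := eq_neg_of_add_eq_zero_left h
  have h2 : (t d c i) ^ d i ∈ nilradical (Q d c) := by
    rw [h1]
    apply Ideal.neg_mem_iff _ |>.mpr
    apply Ideal.sum_mem
    intro k _
    exact Ideal.mul_mem_right _ _ (algebraMap_mem_nilradical d c hm _ (hc i k))
  exact Ideal.mem_radical_of_pow_mem h2

theorem mk_sub_mem_nilradical (hm : maximalIdeal A ^ 2 = ⊥) (hc : ∀ i k, c i k ∈ maximalIdeal A)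
    (p : MvPolynomial (Fin r) A) :
    (Ideal.Quotient.mk _ p : Q d c) - algebraMap A (Q d c) (MvPolynomial.constantCoeff p) ∈
      nilradical (Q d c) := by
  induction p using MvPolynomial.induction_on with
  | C a =>
    simp only [MvPolynomial.constantCoeff_C]
    have : (Ideal.Quotient.mk (Ideal.span (Set.range (Fpoly d c))) (MvPolynomial.C a) : Q d c) =
        algebraMap A (Q d c) a := rfl
    rw [this, sub_self]
    exact Ideal.zero_mem _
  | add p q hp hq =>
    rw [map_add, map_add, map_add]
    have := Ideal.add_mem _ hp hq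
    convert this using 1
    ring
  | mul_X p i hp =>
    rw [map_mul, map_mul, MvPolynomial.constantCoeff_X, mul_zero, map_zero, sub_zero]
    exact Ideal.mul_mem_left _ _ (t_mem_nilradical d c hm hc i)

end

/-- (i) and the kernel statement of (ii): let A be a local ring with maximal ideal m of square zero,
F_i(T_i) = T_i^{d_i} + Σ_{k<d_i} c_{ik} T_i^k (1 ≤ i ≤ r) monic of degrees d_i ≥ 2 with non-leading
coefficients in m, and A' = A[T_1, …, T_r]/(F_1, …, F_r). Then A' is local with residue field K, and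
the kernel of m → m'/m'² (m' the maximal ideal of A') is the ideal generated by the constant terms
c_{i0}. -/
theorem result {A : Type u} [CommRing A] [IsLocalRing A]
    (hm : maximalIdeal A ^ 2 = ⊥) {r : ℕ} (d : Fin r → ℕ) (hd : ∀ i, 2 ≤ d i) (c : Fin r → ℕ → A)
    (hc : ∀ i k, c i k ∈ maximalIdeal A) :
    let F : Fin r → MvPolynomial (Fin r) A := fun i =>
      MvPolynomial.X i ^ d i + (Finset.range (d i)).sum fun k => MvPolynomial.C (c i k) * MvPolynomial.X i ^ k
    ∃ _ : IsLocalRing (MvPolynomial (Fin r) A ⧸ Ideal.span (Set.range F)),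
      Function.Surjective ((Ideal.Quotient.mk (maximalIdeal (MvPolynomial (Fin r) A ⧸ Ideal.span (Set.range F)))).comp
        (algebraMap A (MvPolynomial (Fin r) A ⧸ Ideal.span (Set.range F)))) ∧
      maximalIdeal A ⊓ Ideal.comap (algebraMap A (MvPolynomial (Fin r) A ⧸ Ideal.span (Set.range F)))
          (maximalIdeal (MvPolynomial (Fin r) A ⧸ Ideal.span (Set.range F)) ^ 2) =
        Ideal.span (Set.range fun i => c i 0) := by
  intro F
  change ∃ _ : IsLocalRing (Q d c),
      Function.Surjective ((Ideal.Quotient.mk (maximalIdeal (Q d c))).comp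
        (algebraMap A (Q d c))) ∧
      maximalIdeal A ⊓ Ideal.comap (algebraMap A (Q d c)) (maximalIdeal (Q d c) ^ 2) =
        Ideal.span (Set.range fun i => c i 0)
  -- the augmentation to the residue field
  let εK : Q d c →ₐ[A] A ⧸ maximalIdeal A := aug d c hd (maximalIdeal A) (fun i => hc i 0)
  have hεK : ∀ p, εK (Ideal.Quotient.mk _ p) =
      Ideal.Quotient.mk (maximalIdeal A) (MvPolynomial.constantCoeff p) :=
    aug_mk d c hd (maximalIdeal A) (fun i => hc i 0)
  have hεKsurj : Function.Surjective εK := by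
    intro y
    obtain ⟨a, rfl⟩ := Ideal.Quotient.mk_surjective y
    exact ⟨algebraMap A (Q d c) a, by simp⟩
  have hmax : (RingHom.ker (εK : Q d c →+* A ⧸ maximalIdeal A)).IsMaximal := by
    letI : Field (A ⧸ maximalIdeal A) := Ideal.Quotient.field _
    exact RingHom.ker_isMaximal_of_surjective _ hεKsurj
  have hker_le : RingHom.ker (εK : Q d c →+* A ⧸ maximalIdeal A) ≤ nilradical (Q d c) := by
    intro x hx
    obtain ⟨p, rfl⟩ := Ideal.Quotient.mk_surjective x
    rw [RingHom.mem_ker] at hx
    have hx' : εK (Ideal.Quotient.mk _ p) = 0 := hx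
    rw [hεK, Ideal.Quotient.eq_zero_iff_mem] at hx'
    have h1 := mk_sub_mem_nilradical d c hm hc p
    have h2 := algebraMap_mem_nilradical d c hm _ hx'
    have := Ideal.add_mem _ h1 h2
    simpa using this
  have hloc : IsLocalRing (Q d c) := by
    apply IsLocalRing.of_unique_max_ideal
    refine ⟨_, hmax, ?_⟩
    intro M hM
    have : RingHom.ker (εK : Q d c →+* A ⧸ maximalIdeal A) ≤ M :=
      hker_le.trans (nilradical_le_prime M)
    exact (hmax.eq_of_le hM.ne_top this).symm
  refine ⟨hloc, ?_, ?_⟩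
  · have hmeq : maximalIdeal (Q d c) = RingHom.ker (εK : Q d c →+* A ⧸ maximalIdeal A) :=
      (IsLocalRing.eq_maximalIdeal hmax).symm
    intro y
    obtain ⟨x, rfl⟩ := Ideal.Quotient.mk_surjective y
    obtain ⟨p, rfl⟩ := Ideal.Quotient.mk_surjective x
    refine ⟨MvPolynomial.constantCoeff p, ?_⟩
    rw [RingHom.comp_apply, Ideal.Quotient.eq, hmeq, RingHom.mem_ker, map_sub]
    have h1 : εK (Ideal.Quotient.mk _ p) =
      Ideal.Quotient.mk (maximalIdeal A) (MvPolynomial.constantCoeff p) := hεK p
    have h2 : εK (algebraMap A (Q d c) (MvPolynomial.constantCoeff p)) =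
      Ideal.Quotient.mk (maximalIdeal A) (MvPolynomial.constantCoeff p) := by simp
    change εK _ - εK _ = 0
    rw [h1, h2, sub_self]
  · have hmeq : maximalIdeal (Q d c) = RingHom.ker (εK : Q d c →+* A ⧸ maximalIdeal A) :=
      (IsLocalRing.eq_maximalIdeal hmax).symm
    have hnil_le : nilradical (Q d c) ≤ maximalIdeal (Q d c) := nilradical_le_prime _
    apply le_antisymm
    · rintro a ⟨ha, ha2⟩
      set J : Ideal A := Ideal.span (Set.range fun i => c i 0) with hJ
      let εJ : Q d c →ₐ[A] A ⧸ J := aug d c hd J (fun i => Ideal.subset_span ⟨i, rfl⟩)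
      have hεJ : ∀ p, εJ (Ideal.Quotient.mk _ p) =
          Ideal.Quotient.mk J (MvPolynomial.constantCoeff p) :=
        aug_mk d c hd J (fun i => Ideal.subset_span ⟨i, rfl⟩)
      have hsq : maximalIdeal (Q d c) ^ 2 ≤ RingHom.ker (εJ : Q d c →+* A ⧸ J) := by
        rw [pow_two, Ideal.mul_le]
        intro x hx y hy
        obtain ⟨p, rfl⟩ := Ideal.Quotient.mk_surjective x
        obtain ⟨q, rfl⟩ := Ideal.Quotient.mk_surjective y
        rw [hmeq, RingHom.mem_ker] at hx hy
        have hx' : εK (Ideal.Quotient.mk _ p) = 0 := hx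
        have hy' : εK (Ideal.Quotient.mk _ q) = 0 := hy
        rw [hεK, Ideal.Quotient.eq_zero_iff_mem] at hx' hy'
        rw [RingHom.mem_ker, ← map_mul]
        change εJ (Ideal.Quotient.mk _ (p * q)) = 0
        rw [hεJ, map_mul]
        have : MvPolynomial.constantCoeff p * MvPolynomial.constantCoeff q ∈ maximalIdeal A ^ 2 := by
          rw [pow_two]; exact Ideal.mul_mem_mul hx' hy'
        rw [hm, Ideal.mem_bot] at this
        rw [this, map_zero]
      have h3 := hsq ha2
      rw [RingHom.mem_ker] at h3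
      have h4 : εJ (algebraMap A (Q d c) a) = Ideal.Quotient.mk J a := by simp
      have h5 : Ideal.Quotient.mk J a = 0 := h4 ▸ h3
      exact Ideal.Quotient.eq_zero_iff_mem.mp h5
    · rw [Ideal.span_le]
      rintro _ ⟨i, rfl⟩
      refine ⟨hc i 0, ?_⟩
      rw [SetLike.mem_coe, Ideal.mem_comap]
      have ht : t d c i ∈ maximalIdeal (Q d c) := hnil_le (t_mem_nilradical d c hm hc i)
      have hcm : ∀ k, algebraMap A (Q d c) (c i k) ∈ maximalIdeal (Q d c) := fun k =>
        hnil_le (algebraMap_mem_nilradical d c hm _ (hc i k))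
      have hrel := relation d c i
      obtain ⟨e, he⟩ : ∃ e, d i = e + 2 := ⟨d i - 2, by have := hd i; omega⟩
      rw [he, Finset.sum_range_succ', pow_zero, mul_one, ← add_assoc] at hrel
      have h1 : algebraMap A (Q d c) (c i 0) =
          - ((t d c i) ^ (e + 2) + (Finset.range (e + 1)).sum
            (fun k => algebraMap A (Q d c) (c i (k + 1)) * (t d c i) ^ (k + 1))) :=
        eq_neg_of_add_eq_zero_right hrel
      rw [h1]
      apply Ideal.neg_mem_iff _ |>.mpr
      apply Ideal.add_mem
      · rw [pow_add, mul_comm]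
        exact Ideal.mul_mem_right _ _ (Ideal.pow_mem_pow ht 2)
      · apply Ideal.sum_mem
        intro k _
        rw [pow_two]
        apply Ideal.mul_mem_mul (hcm _)
        rw [pow_succ]
        exact Ideal.mul_mem_left _ _ ht

end Groth.Agent.S4604
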