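import Groth.Statements.S4605
import Groth.Agent.H74.PRootField

set_option autoImplicit false
universe u
open IsLocalRing
open EGA41

namespace Groth.Agent.S4605

/-- Let A be a local ring with maximal ideal m of square zero and residue field K of characteristic p >
0, F_i(T_i) = T_i^p + p Σ_{k=1}^{p-1} c_{ik} T_i^{p-k} − f_i (i in a finite index set) with c_{ik},
f_i ∈ A, and suppose the residues of the f_i in K are p-independent over K^p. Then A' = A[T_i]/(F_i)
is local with maximal ideal m A'. (The identification of the residue field with K(a_i^{1/p}) is not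
restated.) -/
theorem result {A : Type u} [CommRing A]
    [IsLocalRing A] (hm : maximalIdeal A ^ 2 = ⊥) (p : ℕ) [Fact p.Prime] [CharP (ResidueField A) p]
    {ι : Type u} [Finite ι] (c : ι → Fin p → A) (f : ι → A)
    (hind : LinearIndependent (↥(frobenius (ResidueField A) p).fieldRange)
      (fun e : {e : ι →₀ ℕ // ∀ i, e i < p} => EGA41.pMonomial (fun i => residue A (f i)) e.1)) :
    let F : ι → MvPolynomial ι A := fun i =>
      MvPolynomial.X i ^ p + (p : MvPolynomial ι A) * (Finset.univ.sum fun j : Fin p =>
        if (j : ℕ) = 0 then 0 else MvPolynomial.C (c i j) * MvPolynomial.X i ^ (p - (j : ℕ))) - MvPolynomial.C (f i)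
    ∃ _ : IsLocalRing (MvPolynomial ι A ⧸ Ideal.span (Set.range F)),
      maximalIdeal (MvPolynomial ι A ⧸ Ideal.span (Set.range F)) =
        (maximalIdeal A).map (algebraMap A (MvPolynomial ι A ⧸ Ideal.span (Set.range F))) := by
  intro F
  classical
  have _ := Fintype.ofFinite ι
  have hind' : LinearIndependent ↥(frobenius (ResidueField A) p).fieldRange
      (fun e : ι → Fin p => ∏ i, (residue A (f i)) ^ (e i : ℕ)) := by
    have hinj : Function.Injective (fun e : ι → Fin p =>
        (⟨Groth.Agent.H74.RelFrobPoly.eF p e, fun i => (e i).2⟩ :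
          {e : ι →₀ ℕ // ∀ i, e i < p})) := by
      intro e e' h
      funext i
      have h1 := congrArg (fun x : {e : ι →₀ ℕ // ∀ i, e i < p} => x.1 i) h
      exact Fin.ext h1
    have h2 := hind.comp _ hinj
    convert h2 using 1
    funext e
    simp only [Function.comp_apply, EGA41.pMonomial]
    rw [Finsupp.prod_fintype]
    · rfl
    · intro i; exact pow_zero _
  have hmax := Groth.Agent.H74.PRootField.isMaximal_rootIdeal p (ResidueField A)
    (fun i => residue A (f i)) hind'
  set I_L : Ideal (MvPolynomial ι (ResidueField A)) :=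
    Groth.Agent.H74.PRootField.rootIdeal p (ResidueField A) (fun i => residue A (f i)) with hIL
  have hmapF : ∀ i, MvPolynomial.map (residue A) (F i) =
      MvPolynomial.X i ^ p - MvPolynomial.C (residue A (f i)) := by
    intro i
    have hp0 : ((p : ℕ) : MvPolynomial ι (ResidueField A)) = 0 := CharP.cast_eq_zero _ p
    simp only [F, map_sub, map_add, map_mul, map_pow, MvPolynomial.map_X, MvPolynomial.map_C,
      map_natCast, hp0, zero_mul, add_zero]
  have hmapsurj : Function.Surjective (MvPolynomial.map (σ := ι) (residue A)) :=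
    MvPolynomial.map_surjective _ (residue_surjective)
  have hIL' : I_L = (Ideal.span (Set.range F)).map (MvPolynomial.map (residue A)) := by
    rw [Ideal.map_span, ← Set.range_comp, hIL, Groth.Agent.H74.PRootField.rootIdeal]
    congr 2
    funext i
    exact (hmapF i).symm
  let ψ : MvPolynomial ι A →+* MvPolynomial ι (ResidueField A) ⧸ I_L :=
    (Ideal.Quotient.mk I_L).comp (MvPolynomial.map (residue A))
  have hψsurj : Function.Surjective ψ :=
    Ideal.Quotient.mk_surjective.comp hmapsurj
  have hkerψ : RingHom.ker ψ = Ideal.span (Set.range F) ⊔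
      (maximalIdeal A).map (MvPolynomial.C (σ := ι)) := by
    rw [← RingHom.comap_ker, Ideal.mk_ker, hIL', Ideal.comap_map_of_surjective _ hmapsurj,
      ← RingHom.ker_eq_comap_bot, MvPolynomial.ker_map, IsLocalRing.ker_residue]
  have hle : Ideal.span (Set.range F) ≤ RingHom.ker ψ := by
    rw [hkerψ]; exact le_sup_left
  let π : (MvPolynomial ι A ⧸ Ideal.span (Set.range F)) →+*
      MvPolynomial ι (ResidueField A) ⧸ I_L :=
    Ideal.Quotient.lift _ ψ (fun x hx => hle hx)
  have hπsurj : Function.Surjective π := Ideal.Quotient.lift_surjective_of_surjective _ _ hψsurj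
  have hkerπ : RingHom.ker π =
      (maximalIdeal A).map (algebraMap A (MvPolynomial ι A ⧸ Ideal.span (Set.range F))) := by
    rw [Ideal.ker_quotient_lift, hkerψ, Ideal.map_sup, Ideal.map_quotient_self, bot_sup_eq,
      Ideal.map_map]
    rfl
  have hJmax : ((maximalIdeal A).map
      (algebraMap A (MvPolynomial ι A ⧸ Ideal.span (Set.range F)))).IsMaximal := by
    rw [← hkerπ]
    let _ := Ideal.Quotient.field I_L
    exact RingHom.ker_isMaximal_of_surjective π hπsurj
  have hJsq : ((maximalIdeal A).map
      (algebraMap A (MvPolynomial ι A ⧸ Ideal.span (Set.range F)))) ^ 2 = ⊥ := by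
    rw [← Ideal.map_pow, hm, Ideal.map_bot]
  have huniq : ∀ M : Ideal (MvPolynomial ι A ⧸ Ideal.span (Set.range F)), M.IsMaximal →
      M = (maximalIdeal A).map
        (algebraMap A (MvPolynomial ι A ⧸ Ideal.span (Set.range F))) := by
    intro M hM
    have hJM : (maximalIdeal A).map
        (algebraMap A (MvPolynomial ι A ⧸ Ideal.span (Set.range F))) ≤ M := by
      intro x hx
      have hx2 : x ^ 2 ∈ ((maximalIdeal A).map
          (algebraMap A (MvPolynomial ι A ⧸ Ideal.span (Set.range F)))) ^ 2 :=
        Ideal.pow_mem_pow hx 2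
      rw [hJsq, Ideal.mem_bot] at hx2
      exact hM.isPrime.mem_of_pow_mem 2 (hx2 ▸ M.zero_mem)
    exact (hJmax.eq_of_le hM.ne_top hJM).symm
  have hloc : IsLocalRing (MvPolynomial ι A ⧸ Ideal.span (Set.range F)) :=
    IsLocalRing.of_unique_max_ideal ⟨_, hJmax, huniq⟩
  exact ⟨hloc, (IsLocalRing.eq_maximalIdeal hJmax).symm⟩

end Groth.Agent.S4605
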