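import Groth.Statements.S4606
import Mathlib
import Groth.Agent.H23.AdicLocal
import Groth.Agent.S4530

set_option autoImplicit false
universe u
open TensorProduct KaehlerDifferential IsLocalRing
open EGA41

namespace Groth.Agent.S4606

/-- Let B be a Noetherian A-algebra formally smooth for the discrete topologies, B → C a surjection with
kernel J, p a prime of C and q its contraction to A. Then C_p is formally smooth over A_q (A_q
discrete, C_p with the adic topology of its maximal ideal) if and only if κ(p) ⊗ J/J² → κ(p) ⊗ (C
⊗_B Ω_{B/A}) is injective. (The equivalent variant with the q-adic topology on A_q is not stated.) -/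
theorem result {A B C : Type u} [CommRing A]
    [CommRing B] [CommRing C] [Algebra A B] [Algebra B C] [Algebra A C] [IsScalarTower A B C] [IsNoetherianRing B]
    [Algebra.FormallySmooth A B] (hsurj : Function.Surjective (algebraMap B C)) (p : Ideal C) [p.IsPrime]
    [Algebra (Localization.AtPrime (p.comap (algebraMap A C))) (Localization.AtPrime p)]
    [IsScalarTower A (Localization.AtPrime (p.comap (algebraMap A C))) (Localization.AtPrime p)] :
    CAlgX.IsAdicFormallySmooth (Localization.AtPrime (p.comap (algebraMap A C))) (Localization.AtPrime p)
        (maximalIdeal (Localization.AtPrime p)) ↔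
      Function.Injective ((kerCotangentToTensor A B C).lTensor p.ResidueField) := by
  classical
  set q' : Ideal A := p.comap (algebraMap A C) with hq'
  set P := Groth.Agent.H23.SmoothQuot.ext (A := A) hsurj with hP
  have hsm : Algebra.FormallySmooth A P.Ring := ‹_›
  have hfin : Module.Finite C P.Cotangent :=
    Algebra.Extension.Cotangent.finite (IsNoetherian.noetherian _)
  have h1 : CAlgX.IsAdicFormallySmooth (Localization.AtPrime q') (Localization.AtPrime p)
      (maximalIdeal (Localization.AtPrime p)) ↔ Algebra.FormallySmooth A (Localization.AtPrime p) := by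
    constructor
    · intro h
      exact Groth.Agent.H23.AdicLocal.formallySmooth_of_adic_atPrime hsurj p
        (Groth.Agent.H23.AdicLocal.adic_of_adic_isLocalization (A' := Localization.AtPrime q')
          q'.primeCompl _ h)
    · intro h
      exact Groth.Agent.H23.AdicLocal.adic_of_formallySmooth_of_isLocalization (A := A)
        q'.primeCompl _
  rw [h1, Groth.Agent.H23.SmoothQuot.formallySmooth_atPrime_iff hsurj p]
  have h2 := ((Groth.Agent.S4530.result P.cotangentComplex).1 ⟨p, inferInstance⟩).out 0 1
  refine h2.trans ?_
  change Function.Injective (P.cotangentComplex.lTensor p.ResidueField) ↔ _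
  have hcomp : TensorProduct.CompatibleSMul B C p.ResidueField P.Cotangent :=
    TensorProduct.CompatibleSMul.of_algebraMap_surjective _ _ hsurj
  have hcomp' : TensorProduct.CompatibleSMul B C p.ResidueField P.CotangentSpace :=
    TensorProduct.CompatibleSMul.of_algebraMap_surjective _ _ hsurj
  let eM := TensorProduct.equivOfCompatibleSMul B C B p.ResidueField P.Cotangent
  let eN := TensorProduct.equivOfCompatibleSMul B C B p.ResidueField P.CotangentSpace
  let eK := LinearEquiv.lTensor p.ResidueField P.cotangentEquivCotangentKer
  have key : ∀ z, eN ((P.cotangentComplex.lTensor p.ResidueField) z) =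
      ((kerCotangentToTensor A B C).lTensor p.ResidueField) (eK (eM z)) := by
    intro z
    induction z using TensorProduct.induction_on with
    | zero => simp
    | tmul c y =>
      obtain ⟨x, rfl⟩ := Algebra.Extension.Cotangent.mk_surjective y
      rw [LinearMap.lTensor_tmul, Algebra.Extension.cotangentComplex_mk]
      change c ⊗ₜ[B] ((1 : C) ⊗ₜ[B] KaehlerDifferential.D A B x.1) =
        ((kerCotangentToTensor A B C).lTensor p.ResidueField)
          (c ⊗ₜ[B] (RingHom.ker (algebraMap B C)).toCotangent x)
      rw [LinearMap.lTensor_tmul, kerCotangentToTensor_toCotangent]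
    | add a b ha hb => simp only [map_add, ha, hb]
  constructor
  · intro hinj
    rw [injective_iff_map_eq_zero]
    intro z hz
    obtain ⟨z', rfl⟩ := (eM.trans eK).surjective z
    have h3 := key z'
    rw [LinearEquiv.trans_apply] at hz
    rw [hz] at h3
    have h4 : (P.cotangentComplex.lTensor p.ResidueField) z' = 0 :=
      eN.injective (h3.trans (map_zero eN).symm)
    have h5 : z' = 0 := hinj (h4.trans (map_zero _).symm)
    rw [h5, map_zero]
  · intro hinj
    rw [injective_iff_map_eq_zero]
    intro z hz
    have h3 := key z
    rw [hz, map_zero] at h3
    have h4 : eK (eM z) = 0 := hinj (h3.symm.trans (map_zero _).symm)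
    have h5 : eM z = 0 := eK.injective (h4.trans (map_zero eK).symm)
    exact eM.injective (h5.trans (map_zero eM).symm)

end Groth.Agent.S4606
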