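import Groth.Statements.S4608

set_option autoImplicit false
universe u
open AlgebraicGeometry CategoryTheory CategoryTheory.Limits
open EGA41

namespace Groth.Agent.S4608

theorem quasiCompact_inl (X Y : Scheme.{u}) : QuasiCompact (coprod.inl : X ⟶ X ⨿ Y) := by
  constructor
  intro U hU hU'
  have hcl : Topology.IsClosedEmbedding (coprod.inl : X ⟶ X ⨿ Y) := by
    refine ⟨(coprod.inl : X ⟶ X ⨿ Y).isOpenEmbedding.isEmbedding, ?_⟩
    have h := isCompl_range_inl_inr X Y
    rw [← isOpen_compl_iff, (isCompl_range_inl_inr X Y).compl_eq]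
    exact (coprod.inr : Y ⟶ X ⨿ Y).isOpenEmbedding.isOpen_range
  exact hcl.isCompact_preimage hU'

theorem quasiCompact_inr (X Y : Scheme.{u}) : QuasiCompact (coprod.inr : Y ⟶ X ⨿ Y) := by
  constructor
  intro U hU hU'
  have hcl : Topology.IsClosedEmbedding (coprod.inr : Y ⟶ X ⨿ Y) := by
    refine ⟨(coprod.inr : Y ⟶ X ⨿ Y).isOpenEmbedding.isEmbedding, ?_⟩
    rw [← isOpen_compl_iff, (isCompl_range_inl_inr X Y).symm.compl_eq]
    exact (coprod.inl : X ⟶ X ⨿ Y).isOpenEmbedding.isOpen_range
  exact hcl.isCompact_preimage hU'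

/-- A morphism from a disjoint union X' ⨿ X'' → Y is quasi-compact if and only if its two components
are. -/
theorem result {X' X'' Y : Scheme.{u}} (f' : X' ⟶ Y) (f'' : X'' ⟶ Y) :
    QuasiCompact (coprod.desc f' f'') ↔ QuasiCompact f' ∧ QuasiCompact f'' := by
  constructor
  · intro h
    have := quasiCompact_inl X' X''
    have := quasiCompact_inr X' X''
    constructor
    · rw [← coprod.inl_desc f' f'']; infer_instance
    · rw [← coprod.inr_desc f' f'']; infer_instance
  · rintro ⟨h1, h2⟩
    constructor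
    intro U hU hU'
    have hset : (coprod.desc f' f'') ⁻¹' U =
        (coprod.inl : X' ⟶ X' ⨿ X'') '' (f' ⁻¹' U) ∪ (coprod.inr : X'' ⟶ X' ⨿ X'') '' (f'' ⁻¹' U) := by
      ext x
      obtain ⟨(x | x), rfl⟩ := (coprodMk X' X'').surjective x
      · simp only [coprodMk_inl, Set.mem_preimage, Set.mem_union, Set.mem_image]
        rw [← Scheme.Hom.comp_apply, coprod.inl_desc]
        constructor
        · intro h; exact Or.inl ⟨x, h, rfl⟩
        · rintro (⟨y, hy, hxy⟩ | ⟨y, hy, hxy⟩)
          · have := (coprod.inl : X' ⟶ X' ⨿ X'').isOpenEmbedding.injective hxy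
            rwa [← this]
          · exact absurd hxy (inr_ne_inl _ _ _ _)
      · simp only [coprodMk_inr, Set.mem_preimage, Set.mem_union, Set.mem_image]
        rw [← Scheme.Hom.comp_apply, coprod.inr_desc]
        constructor
        · intro h; exact Or.inr ⟨x, h, rfl⟩
        · rintro (⟨y, hy, hxy⟩ | ⟨y, hy, hxy⟩)
          · exact absurd hxy (inl_ne_inr _ _ _ _)
          · have := (coprod.inr : X'' ⟶ X' ⨿ X'').isOpenEmbedding.injective hxy
            rwa [← this]
    rw [hset]
    exact ((QuasiCompact.isCompact_preimage (f := f') U hU hU').image (Scheme.Hom.continuous _)).union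
      ((QuasiCompact.isCompact_preimage (f := f'') U hU hU').image (Scheme.Hom.continuous _))

end Groth.Agent.S4608
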