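import Groth.Statements.S4609

set_option autoImplicit false
universe u
open AlgebraicGeometry CategoryTheory CategoryTheory.Limits
open EGA41

namespace Groth.Agent.S4609

theorem qs_iff {X Y : Scheme.{u}} (f : X ⟶ Y) :
    QuasiSeparated f ↔ ∀ U : Y.affineOpens, IsQuasiSeparated (f ⁻¹ᵁ U.1 : Set X) := by
  rw [HasAffineProperty.eq_targetAffineLocally @QuasiSeparated]
  refine forall_congr' fun U => ?_
  exact (isQuasiSeparated_iff_quasiSeparatedSpace _ (f ⁻¹ᵁ U.1).2).symm

theorem closedEmbedding_inl (X Y : Scheme.{u}) :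
    Topology.IsClosedEmbedding (coprod.inl : X ⟶ X ⨿ Y) := by
  refine ⟨(coprod.inl : X ⟶ X ⨿ Y).isOpenEmbedding.isEmbedding, ?_⟩
  rw [← isOpen_compl_iff, (isCompl_range_inl_inr X Y).compl_eq]
  exact (coprod.inr : Y ⟶ X ⨿ Y).isOpenEmbedding.isOpen_range

theorem closedEmbedding_inr (X Y : Scheme.{u}) :
    Topology.IsClosedEmbedding (coprod.inr : Y ⟶ X ⨿ Y) := by
  refine ⟨(coprod.inr : Y ⟶ X ⨿ Y).isOpenEmbedding.isEmbedding, ?_⟩
  rw [← isOpen_compl_iff, (isCompl_range_inl_inr X Y).symm.compl_eq]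
  exact (coprod.inl : X ⟶ X ⨿ Y).isOpenEmbedding.isOpen_range

theorem eq_union (X Y : Scheme.{u}) (S : Set ↥(X ⨿ Y)) :
    S = (coprod.inl : X ⟶ X ⨿ Y) '' ((coprod.inl : X ⟶ X ⨿ Y) ⁻¹' S) ∪
      (coprod.inr : Y ⟶ X ⨿ Y) '' ((coprod.inr : Y ⟶ X ⨿ Y) ⁻¹' S) := by
  rw [Set.image_preimage_eq_inter_range, Set.image_preimage_eq_inter_range,
    ← Set.inter_union_distrib_left]
  have := (isCompl_range_inl_inr X Y).sup_eq_top
  simp only [Set.sup_eq_union, Set.top_eq_univ] at this
  rw [this, Set.inter_univ]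

/-- A morphism from a disjoint union X' ⨿ X'' → Y is quasi-separated if and only if its two components
are. -/
theorem result {X' X'' Y : Scheme.{u}} (f' : X' ⟶ Y) (f'' : X'' ⟶ Y) :
    QuasiSeparated (coprod.desc f' f'') ↔ QuasiSeparated f' ∧ QuasiSeparated f'' := by
  constructor
  · intro h
    constructor
    · rw [← coprod.inl_desc f' f'']; infer_instance
    · rw [← coprod.inr_desc f' f'']; infer_instance
  · rintro ⟨h1, h2⟩
    rw [qs_iff] at h1 h2 ⊢
    intro W U V hU hUo hUc hV hVo hVc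
    rw [eq_union X' X'' (U ∩ V)]
    have e1 : (coprod.inl : X' ⟶ X' ⨿ X'') ⁻¹' (((coprod.desc f' f'') ⁻¹ᵁ W.1 : (X' ⨿ X'').Opens) : Set _)
        = ((f' ⁻¹ᵁ W.1 : X'.Opens) : Set _) := by
      ext x
      simp only [Scheme.Hom.coe_preimage, Set.mem_preimage]
      rw [← Scheme.Hom.comp_apply, coprod.inl_desc]
    have e2 : (coprod.inr : X'' ⟶ X' ⨿ X'') ⁻¹' (((coprod.desc f' f'') ⁻¹ᵁ W.1 : (X' ⨿ X'').Opens) : Set _)
        = ((f'' ⁻¹ᵁ W.1 : X''.Opens) : Set _) := by
      ext x
      simp only [Scheme.Hom.coe_preimage, Set.mem_preimage]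
      rw [← Scheme.Hom.comp_apply, coprod.inr_desc]
    refine IsCompact.union (IsCompact.image ?_ (Scheme.Hom.continuous _))
      (IsCompact.image ?_ (Scheme.Hom.continuous _))
    · rw [Set.preimage_inter]
      refine h1 W _ _ ?_ (hUo.preimage (Scheme.Hom.continuous _))
        ((closedEmbedding_inl X' X'').isCompact_preimage hUc) ?_
        (hVo.preimage (Scheme.Hom.continuous _))
        ((closedEmbedding_inl X' X'').isCompact_preimage hVc)
      · rw [← e1]; exact Set.preimage_mono hU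
      · rw [← e1]; exact Set.preimage_mono hV
    · rw [Set.preimage_inter]
      refine h2 W _ _ ?_ (hUo.preimage (Scheme.Hom.continuous _))
        ((closedEmbedding_inr X' X'').isCompact_preimage hUc) ?_
        (hVo.preimage (Scheme.Hom.continuous _))
        ((closedEmbedding_inr X' X'').isCompact_preimage hVc)
      · rw [← e2]; exact Set.preimage_mono hU
      · rw [← e2]; exact Set.preimage_mono hV

end Groth.Agent.S4609
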