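import Groth.Statements.S4611
import Mathlib

set_option autoImplicit false
universe u
open EGA41

namespace Groth.Agent.S4611

/-- A local algebra essentially of finite type over a ring A is A-isomorphic to a quotient of a
localization A[T_1, …, T_n]_q of a polynomial algebra at a prime ideal q; stated as the existence of
a surjective A-algebra map from such a localization. -/
theorem result {A B : Type u} [CommRing A]
    [CommRing B] [IsLocalRing B] [Algebra A B] [Algebra.EssFiniteType A B] :
    ∃ (n : ℕ) (q : Ideal (MvPolynomial (Fin n) A)) (_ : q.IsPrime)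
      (φ : Localization.AtPrime q →ₐ[A] B), Function.Surjective φ := by
  classical
  obtain ⟨σ, hσ⟩ := (Algebra.essFiniteType_iff A B).mp inferInstance
  let n := σ.card
  let y : Fin n → B := fun i => (σ.equivFin.symm i : B)
  have hrange : Set.range y = (σ : Set B) := by
    ext b
    constructor
    · rintro ⟨i, rfl⟩
      exact (σ.equivFin.symm i).2
    · intro hb
      exact ⟨σ.equivFin ⟨b, hb⟩, by simp [y]⟩
  let φ₀ : MvPolynomial (Fin n) A →ₐ[A] B := MvPolynomial.aeval y
  have hφ₀range : ∀ b ∈ Algebra.adjoin A (σ : Set B), ∃ P, φ₀ P = b := by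
    intro b hb
    rw [← hrange, Algebra.adjoin_range_eq_range_aeval] at hb
    exact hb
  let q : Ideal (MvPolynomial (Fin n) A) := (IsLocalRing.maximalIdeal B).comap φ₀
  have hq : q.IsPrime := Ideal.comap_isPrime _ _
  have hunit : ∀ s : q.primeCompl, IsUnit (φ₀ s) := by
    intro s
    have : (s : MvPolynomial (Fin n) A) ∉ q := s.2
    rw [Ideal.mem_comap, IsLocalRing.mem_maximalIdeal, mem_nonunits_iff, not_not] at this
    exact this
  refine ⟨n, q, hq, IsLocalization.liftAlgHom (M := q.primeCompl)
    (S := Localization.AtPrime q) (f := φ₀) hunit, ?_⟩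
  intro b
  obtain ⟨t, ht, htu, hbt⟩ := hσ b
  obtain ⟨Q, hQ⟩ := hφ₀range t ht
  obtain ⟨P, hP⟩ := hφ₀range (b * t) hbt
  have hQq : Q ∈ q.primeCompl := by
    show Q ∉ q
    rw [Ideal.mem_comap, IsLocalRing.mem_maximalIdeal, mem_nonunits_iff, not_not, hQ]
    exact htu
  refine ⟨IsLocalization.mk' (Localization.AtPrime q) P ⟨Q, hQq⟩, ?_⟩
  rw [IsLocalization.liftAlgHom_apply, IsLocalization.lift_mk'_spec]
  show φ₀ P = φ₀ Q * b
  rw [hP, hQ, mul_comm]

end Groth.Agent.S4611
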