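import Groth.Statements.S4612
import Groth.Agent.H23.NagataAssembly
import Groth.Agent.H96.GeomRegAdic
import Groth.Agent.H96.RegAdicSmooth

set_option autoImplicit false
universe u
open IsLocalRing
open EGA41

namespace Groth.Agent.S4612

/-- Nagata's Jacobian criterion for quotients of power series rings: let k be a field, A = k[[T_1, …,
T_r]], q ⊆ p ideals of A with p prime, B = A/q. Suppose A/p contains a sub-k-algebra isomorphic to a
power series algebra k[[X_1, …, X_s]] over which A/p is finite and such that the fraction field L of
A/p is a separable extension of the fraction field L' of k[[X_1, …, X_s]]; here this is given as an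
injective k-algebra map k[[X_1, …, X_s]] → A/p making A/p a finite module, with fraction fields L',
L and a compatible L'-algebra structure on L. Then the following are equivalent: B_p is formally
smooth over k for the adic topology of its maximal ideal; there are k-derivations D_1, …, D_m of A
into itself and f_1, …, f_m ∈ q generating qA_p with det(D_i f_j) ∉ p; B_p is a regular local ring.
(The published statement remarks that the hypothesis on A/p always holds when k has characteristic
zero.) -/
theorem result {k : Type u} [Field k] (r : ℕ)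
    (q p : Ideal (MvPowerSeries (Fin r) k)) [p.IsPrime] (hqp : q ≤ p) [(p.map (Ideal.Quotient.mk q)).IsPrime]
    (s : ℕ) [Algebra (MvPowerSeries (Fin s) k) (MvPowerSeries (Fin r) k ⧸ p)]
    [IsScalarTower k (MvPowerSeries (Fin s) k) (MvPowerSeries (Fin r) k ⧸ p)]
    [Module.Finite (MvPowerSeries (Fin s) k) (MvPowerSeries (Fin r) k ⧸ p)]
    (hinj : Function.Injective (algebraMap (MvPowerSeries (Fin s) k) (MvPowerSeries (Fin r) k ⧸ p)))
    {L' L : Type u} [Field L'] [Field L]
    [Algebra (MvPowerSeries (Fin s) k) L'] [IsFractionRing (MvPowerSeries (Fin s) k) L']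
    [Algebra (MvPowerSeries (Fin r) k ⧸ p) L] [IsFractionRing (MvPowerSeries (Fin r) k ⧸ p) L]
    [Algebra L' L] [Algebra (MvPowerSeries (Fin s) k) L]
    [IsScalarTower (MvPowerSeries (Fin s) k) (MvPowerSeries (Fin r) k ⧸ p) L]
    [IsScalarTower (MvPowerSeries (Fin s) k) L' L] [Algebra.IsSeparable L' L] :
    [CAlgX.IsAdicFormallySmooth k (Localization.AtPrime (p.map (Ideal.Quotient.mk q)))
        (maximalIdeal (Localization.AtPrime (p.map (Ideal.Quotient.mk q)))),
     ∃ (m : ℕ) (D : Fin m → Derivation k (MvPowerSeries (Fin r) k) (MvPowerSeries (Fin r) k))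
        (f : Fin m → MvPowerSeries (Fin r) k), (∀ i, f i ∈ q) ∧
        q.map (algebraMap (MvPowerSeries (Fin r) k) (Localization.AtPrime p)) =
          Ideal.span (Set.range fun i => algebraMap (MvPowerSeries (Fin r) k) (Localization.AtPrime p) (f i)) ∧
        Matrix.det (Matrix.of fun i j => D i (f j)) ∉ p,
     IsRegularLocalRing (Localization.AtPrime (p.map (Ideal.Quotient.mk q)))].TFAE := by
  classical
  haveI : IsDomain (MvPowerSeries (Fin s) k) := NoZeroDivisors.to_isDomain _
  haveI : IsDomain (MvPowerSeries (Fin r) k ⧸ p) := Ideal.Quotient.isDomain p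
  haveI : IsNoetherianRing (Localization.AtPrime (p.map (Ideal.Quotient.mk q))) :=
    IsLocalization.isNoetherianRing (p.map (Ideal.Quotient.mk q)).primeCompl _ inferInstance
  have hsep : ∀ a : MvPowerSeries (Fin r) k ⧸ p,
      ∃ P : Polynomial (MvPowerSeries (Fin s) k), Polynomial.aeval a P = 0 ∧
        Polynomial.aeval a (Polynomial.derivative P) ≠ 0 := fun a =>
    Groth.Agent.H23.NagataKey.exists_sep_poly (R := MvPowerSeries (Fin s) k)
      (S := MvPowerSeries (Fin r) k ⧸ p) L' L a
  let e := Groth.Agent.H23.NagataAssembly.quotEquiv q p hqp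
  tfae_have 1 → 3 := fun h => Groth.Agent.H96.GeomRegAdic.regular_of_adic_field k _ h
  tfae_have 3 → 1 := by
    intro h
    letI : Algebra k L := ((algebraMap (MvPowerSeries (Fin r) k ⧸ p) L).comp
      (algebraMap k (MvPowerSeries (Fin r) k ⧸ p))).toAlgebra
    haveI : IsScalarTower k (MvPowerSeries (Fin r) k ⧸ p) L := by
      have h0 := IsScalarTower.of_algebraMap_eq (R := k) (S := MvPowerSeries (Fin r) k ⧸ p)
        (A := L) (fun _ => rfl)
      exact h0
    haveI : Algebra.IsGeometricallyReduced k L :=
      Groth.Agent.H23.NagataAssembly.isGeometricallyReduced_frac (k := k) p s L' L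
    obtain ⟨g⟩ := Groth.Agent.H23.NagataAssembly.exists_residueField_algHom (k := k) q p hqp L
    haveI : Algebra.IsGeometricallyReduced k
        (ResidueField (Localization.AtPrime (p.map (Ideal.Quotient.mk q)))) :=
      Algebra.IsGeometricallyReduced.of_injective g g.toRingHom.injective
    exact Groth.Agent.H96.RegAdicSmooth.adic_of_regular k _
  tfae_have 2 → 3 := by
    rintro ⟨m, D, f, hfq, hmap, hdet⟩
    haveI := Groth.Agent.H23.NagataAssembly.regular_of_jacobian q p hqp D f hfq hmap hdet
    exact IsRegularLocalRing.of_ringEquiv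
      (R := Localization.AtPrime p ⧸
        q.map (algebraMap (MvPowerSeries (Fin r) k) (Localization.AtPrime p)))
      (R' := Localization.AtPrime (p.map (Ideal.Quotient.mk q))) e.toRingEquiv.symm
  tfae_have 3 → 2 := by
    intro h
    haveI : IsRegularLocalRing (Localization.AtPrime p ⧸
        q.map (algebraMap (MvPowerSeries (Fin r) k) (Localization.AtPrime p))) :=
      IsRegularLocalRing.of_ringEquiv
        (R := Localization.AtPrime (p.map (Ideal.Quotient.mk q)))
        (R' := Localization.AtPrime p ⧸
          q.map (algebraMap (MvPowerSeries (Fin r) k) (Localization.AtPrime p))) e.toRingEquiv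
    exact Groth.Agent.H23.NagataAssembly.jacobian_of_regular q p s hqp hinj hsep
  tfae_finish

end Groth.Agent.S4612
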