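import Groth.Statements.S4613
import Mathlib.AlgebraicGeometry.Morphisms.AffineAnd
import Mathlib.RingTheory.RingHom.FinitePresentation

set_option autoImplicit false
universe u
open AlgebraicGeometry CategoryTheory
open EGA41

namespace Groth.Agent.S4613

/-- For a closed immersion j : X → Y: j is locally of finite presentation if and only if its ideal sheaf
is of finite type, i.e. for every affine open U of Y the kernel of Γ(U, O_Y) → Γ(j⁻¹U, O_X) is
finitely generated. (An immersion with image closed in an open U reduces to this case.) -/
theorem result {X Y : Scheme.{u}} (j : X ⟶ Y)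
    [IsClosedImmersion j] :
    LocallyOfFinitePresentation j ↔ ∀ U : Y.affineOpens, (RingHom.ker (j.app U).hom).FG := by
  have haff : IsAffineHom j := inferInstance
  have h1 := targetAffineLocally_affineAnd_iff_affineLocally RingHom.finitePresentation_isLocal j
  have h2 := targetAffineLocally_affineAnd_iff' (Q := @RingHom.FinitePresentation)
    RingHom.finitePresentation_respectsIso j
  rw [HasRingHomProperty.eq_affineLocally @LocallyOfFinitePresentation]
  have h3 : affineLocally (@RingHom.FinitePresentation) j ↔
      ∀ U : Y.Opens, IsAffineOpen U → (j.app U).hom.FinitePresentation := by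
    constructor
    · intro h
      exact (h2.mp (h1.mpr ⟨haff, h⟩)).2
    · intro h
      exact (h1.mp (h2.mpr ⟨haff, h⟩)).2
  rw [h3]
  constructor
  · intro h U
    have hfp := h U.1 U.2
    have hs := j.app_surjective U.1 U.2
    algebraize [(j.app U.1).hom]
    have : Algebra.FinitePresentation Γ(Y, U.1) Γ(X, j ⁻¹ᵁ U.1) := hfp
    have := Algebra.FinitePresentation.ker_fG_of_surjective
      (Algebra.ofId Γ(Y, U.1) Γ(X, j ⁻¹ᵁ U.1)) hs
    exact this
  · intro h U hU
    exact RingHom.FinitePresentation.of_surjective _ (j.app_surjective U hU) (h ⟨U, hU⟩)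

end Groth.Agent.S4613
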