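import Groth.Statements.S4619
import Groth.Agent.H25.PrimaryConn
import Groth.Agent.H25.SepConn

set_option autoImplicit false
open CategoryTheory AlgebraicGeometry
universe u
open FBase

namespace Groth.Agent.S4619

/-- For a connected scheme: let X be a connected scheme over a field k and x a point of X whose residue
field κ(x) is a primary extension of k, i.e. the separable algebraic closure of k in κ(x) is k
itself (this holds in particular when x is a k-rational point). Then X is geometrically connected
over k. (The published statement concerns the connected component of x in an arbitrary scheme over
k; this row takes X connected.) -/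
theorem result {k : Type u} [Field k] {X : Scheme.{u}}
    [ConnectedSpace X] (f : X ⟶ Spec (CommRingCat.of k)) (x : X)
    (hx : FBase.ResidueFieldProp f x (fun K _ _ => separableClosure k K = ⊥)) :
    GeometricallyConnected f := by
  letI : X.Over (Spec (CommRingCat.of k)) := ⟨f⟩
  have hx' := (Groth.Agent.H25.ResProp.residueFieldProp_iff f x _).mp hx
  haveI : ConnectedSpace (Curv2.bc k X (SeparableClosure k)) := by
    rw [connectedSpace_iff_univ]
    have := Groth.Agent.H25.PrimaryConn.isConnected_preimage_connectedComponent_of_primary k X x hx'
      (SeparableClosure k)
    rwa [PreconnectedSpace.connectedComponent_eq_univ, Set.preimage_univ] at this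
  exact Groth.Agent.H25.SepIrr.geometricallyConnected_of_sepClosure k X

end Groth.Agent.S4619
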