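import Groth.Statements.S4621
import Groth.Agent.H25.MorBC

set_option autoImplicit false
open CategoryTheory AlgebraicGeometry
universe u
open FBase

namespace Groth.Agent.S4621

/-- Let h : Y → X be a morphism of schemes over a field k, with Y nonempty and geometrically connected
over k. Then the connected component of X containing the (connected) image h(Y) is geometrically
connected: for every extension field K of k, the inverse image in X ⊗_k K of the connected component
of h(y), for a point y of Y, is connected. -/
theorem result {k K : Type u} [Field k] [Field K] [Algebra k K]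
    {X Y : Scheme.{u}} (f : X ⟶ Spec (CommRingCat.of k)) (g : Y ⟶ Spec (CommRingCat.of k)) (h : Y ⟶ X) (w : h ≫ f = g)
    [GeometricallyConnected g] (y : Y) :
    _root_.IsConnected (⇑(FBase.bcπ f K) ⁻¹' connectedComponent (h y)) := by
  letI : X.Over (Spec (CommRingCat.of k)) := ⟨f⟩
  change _root_.IsConnected (⇑(Curv2.bcFst k X K) ⁻¹' connectedComponent (h y))
  haveI hYL : ConnectedSpace ↥(FBase.bc g (SeparableClosure k)) :=
    GeometricallyConnected.geometrically_connectedSpace (f := g)
      (Spec.map (CommRingCat.ofHom (algebraMap k (SeparableClosure k)))) _ _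
      (IsPullback.of_hasPullback _ _)
  haveI : ConnectedSpace Y := by
    letI : Y.Over (Spec (CommRingCat.of k)) := ⟨g⟩
    haveI : ConnectedSpace ↥(Curv2.bc k Y (SeparableClosure k)) := hYL
    exact Function.Surjective.connectedSpace
      (Groth.Agent.H38.GalAct.surjective_bcFst k Y (SeparableClosure k))
      (Curv2.bcFst k Y (SeparableClosure k)).continuous
  have hC : _root_.IsConnected
      (Set.range (Groth.Agent.H25.MorBC.mapBC f g h w (SeparableClosure k))) :=
    isConnected_range (Groth.Agent.H25.MorBC.mapBC f g h w (SeparableClosure k)).continuous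
  have hr := Groth.Agent.H25.MorBC.range_mapBC f g h w (SeparableClosure k)
  apply Groth.Agent.H25.PrimaryConn.isConnected_preimage_of_saturated k X
    (connectedComponent (h y)) isClosed_connectedComponent isPreconnected_connectedComponent _ hC
  · rw [hr]
    rintro z ⟨c, hc, hcz⟩
    have hc' : (FBase.bcπ f (SeparableClosure k)) c ∈ Set.range h := hc
    have : (FBase.bcπ f (SeparableClosure k)) z = (FBase.bcπ f (SeparableClosure k)) c := hcz.symm
    show (FBase.bcπ f (SeparableClosure k)) z ∈ Set.range h
    rw [this]; exact hc'
  · rintro _ ⟨c, hc, rfl⟩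
    rw [hr] at hc
    exact (isPreconnected_range h.continuous).subset_connectedComponent ⟨y, rfl⟩ hc

end Groth.Agent.S4621
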