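import Groth.Statements.S4622
import Groth.Agent.H69.EtaScheme
import Mathlib.FieldTheory.PurelyInseparable.Basic
import Mathlib.FieldTheory.IsAlgClosed.Basic

set_option autoImplicit false
open CategoryTheory AlgebraicGeometry
universe u
open FBase

namespace Groth.Agent.S4622

/-- Let k be a separably closed field, k' an algebraic closure of k and X a scheme over k. Then the
projection X ⊗_k k' → X is a universal homeomorphism. -/
theorem result {k k' : Type u} [Field k] [IsSepClosed k] [Field k'] [Algebra k k']
    [IsAlgClosure k k'] {X : Scheme.{u}} (f : X ⟶ Spec (CommRingCat.of k)) :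
    FlatMor.IsUnivHomeo (FBase.bcπ f k') := by
  haveI : (FlatMor.IsUnivHomeo.{u}).IsStableUnderBaseChange := by
    unfold FlatMor.IsUnivHomeo; infer_instance
  haveI : Algebra.IsAlgebraic k k' := IsAlgClosure.isAlgebraic
  haveI : Algebra.IsIntegral k k' := Algebra.IsAlgebraic.isIntegral
  have h : FlatMor.IsUnivHomeo (Spec.map (CommRingCat.ofHom (algebraMap k k'))) := by
    apply Groth.Agent.H69.isUnivHomeo_of
    · exact algebraMap_isIntegral_iff.2 inferInstance
    · intro x
      refine ⟨⊥, Subsingleton.elim _ _⟩
    · intro L _ α β hαβ
      exact IsPurelyInseparable.injective_comp_algebraMap k k' L hαβ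
  exact MorphismProperty.pullback_fst _ _ h

end Groth.Agent.S4622
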