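import Groth.Statements.S4629
import Groth.Agent.H21.GeomRed

set_option autoImplicit false
open CategoryTheory AlgebraicGeometry
universe u
open FBase

namespace Groth.Agent.S4629

open CategoryTheory.Limits in
/-- If X and Y are schemes over a field k which are both geometrically reduced over k, then X ×_k Y is
geometrically reduced over k. -/
theorem result {k : Type u} [Field k] {X Y : Scheme.{u}}
    (f : X ⟶ Spec (CommRingCat.of k)) (g : Y ⟶ Spec (CommRingCat.of k)) [GeometricallyReduced f]
    [GeometricallyReduced g] : GeometricallyReduced (pullback.fst f g ≫ f) := by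
  constructor
  intro K _ y Z fst snd h
  have hY : AlgebraicGeometry.IsReduced (pullback g y) :=
    GeometricallyReduced.geometrically_isReduced (f := g) y _ _ (IsPullback.of_hasPullback g y)
  let m : Z ⟶ pullback g y := pullback.lift (fst ≫ pullback.snd f g) snd (by
    rw [Category.assoc, ← pullback.condition, h.w])
  have h1 : IsPullback fst m (pullback.snd f g) (pullback.fst g y) := by
    refine IsPullback.of_bot ?_ (pullback.lift_fst _ _ _).symm (IsPullback.of_hasPullback g y)
    rw [pullback.lift_snd, ← pullback.condition]
    exact h
  have h2 : IsPullback (fst ≫ pullback.fst f g) m f (pullback.fst g y ≫ g) :=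
    h1.paste_horiz (IsPullback.of_hasPullback f g)
  have : AlgebraicGeometry.IsReduced (pullback f (pullback.fst g y ≫ g)) :=
    Groth.Agent.H21.GeomRed.isReduced_pullback f (pullback.fst g y ≫ g)
  exact isReduced_of_isOpenImmersion h2.isoPullback.hom

end Groth.Agent.S4629
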