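import Groth.Statements.S4632
import Groth.Agent.H17.ProConsClosed
import Groth.Agent.H17.ProConsAffine
import Groth.Agent.S2493
import Groth.Agent.S3398
import Mathlib.AlgebraicGeometry.PullbackCarrier

set_option autoImplicit false
open CategoryTheory AlgebraicGeometry
universe u
open FDesc

namespace Groth.Agent.S4632

open CategoryTheory.Limits in
/-- Let f : X → Y be a quasi-compact dominant morphism and g : Y' → Y a quasi-flat morphism (for
instance a flat one). Then the base change X ×_Y Y' → Y' is dominant. -/
theorem result {X Y Y' : Scheme.{u}} (f : X ⟶ Y) (g : Y' ⟶ Y)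
    [QuasiCompact f] [IsDominant f] (hg : FDesc.IsQuasiFlat g) : IsDominant (pullback.snd f g) := by
  have hgen : GeneralizingMap g.base := Groth.Agent.S2493.result g hg
  have hpro : ProCons.IsProConstructible (Set.range f.base) := by
    have := Groth.Agent.S3398.result f Set.univ (Groth.Agent.H17.isProConstructible_univ X)
    rwa [Set.image_univ] at this
  have h := Groth.Agent.H17.preimage_closure_eq_of_generalizing g hgen hpro
  have hd : DenseRange f.base := f.denseRange
  refine ⟨?_⟩
  have hr : Set.range (pullback.snd f g).base = g.base ⁻¹' Set.range f.base :=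
    AlgebraicGeometry.Scheme.Pullback.range_snd f g
  rw [DenseRange, dense_iff_closure_eq]
  have hr' : Set.range ⇑(pullback.snd f g) = g.base ⁻¹' Set.range f.base := hr
  rw [hr', ← h, hd.closure_eq, Set.preimage_univ]

end Groth.Agent.S4632
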