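import Groth.Statements.S4635
import Groth.Agent.H29.FieldBase
import Groth.Agent.S4671

set_option autoImplicit false
open CategoryTheory AlgebraicGeometry
universe u
open FBase

namespace Groth.Agent.S4635


open CategoryTheory.Limits in
/-- Let X and Y be integral locally Noetherian schemes over a field k such that X ×_k Y is locally
Noetherian. Then the structure sheaf of X ×_k Y has no embedded associated points. -/
theorem result {k : Type u} [Field k] {X Y : Scheme.{u}}
    (f : X ⟶ Spec (CommRingCat.of k)) (g : Y ⟶ Spec (CommRingCat.of k)) [IsIntegral X] [IsIntegral Y]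
    [IsLocallyNoetherian X] [IsLocallyNoetherian Y] [IsLocallyNoetherian (pullback f g)] :
    AssSch.NoEmbedded (Coh.structureModule (pullback f g)) := by
  have h := Groth.Agent.S4671.result f g (Coh.structureModule X)
    (Groth.Agent.H29.AssTensor.structureModule_isQCoh X) (Coh.structureModule Y)
    (Groth.Agent.H29.AssTensor.structureModule_isQCoh Y)
    (Groth.Agent.H29.AssTensor.isFlatOver_of_field g _)
    (fun x _ => Groth.Agent.H29.AssTensor.isAssPoint_structure_spec_field k (f x))
    (Groth.Agent.H29.AssTensor.noEmbedded_structure_of_isIntegral X)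
    (Groth.Agent.H29.AssTensor.noEmbedded_structure_of_isIntegral Y)
  exact (Groth.Agent.H29.AssTensor.noEmbedded_iff_of_iso
    (Groth.Agent.H29.AssTensor.tensorPullbackUnitIso (pullback.fst f g) (pullback.snd f g))).mp h

end Groth.Agent.S4635
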