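import Groth.Statements.S4640
import Mathlib

set_option autoImplicit false
universe u
open FDesc

namespace Groth.Agent.S4640

open TensorProduct in
/-- Let A be a Dedekind domain with fraction field K, M an A-module and P' a K-submodule of K ⊗_A M. Let
φ : M → (K ⊗_A M)/P' be m ↦ class of 1 ⊗ m. Then a submodule Q of M equals ker φ if and only if M/Q
is a flat A-module and the kernel of the induced surjection K ⊗_A M → K ⊗_A (M/Q) is P'. Thus M/ker
φ is the unique flat quotient of M with generic fibre (K ⊗_A M)/P'. (The published statement takes A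
Noetherian, regular and of dimension 1; a field is allowed here, where the statement is immediate.) -/
theorem result {A K : Type u} [CommRing A] [IsDedekindDomain A] [Field K]
    [Algebra A K] [IsFractionRing A K] {M : Type u} [AddCommGroup M] [Module A M]
    (P' : Submodule K (K ⊗[A] M)) (Q : Submodule A M) :
    Q = LinearMap.ker ((P'.restrictScalars A).mkQ ∘ₗ TensorProduct.mk A K M 1) ↔
      (Module.Flat A (M ⧸ Q) ∧ LinearMap.ker (Q.mkQ.baseChange K) = P') := by
  classical
  have hloc : ∀ (N : Type u) [AddCommGroup N] [Module A N],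
      IsLocalizedModule (nonZeroDivisors A) (TensorProduct.mk A K N 1) := fun N _ _ => inferInstance
  -- scalars from `A⁰` are invertible on `K`-modules
  have hdiv : ∀ (s : nonZeroDivisors A) (t : K ⊗[A] M), s • t ∈ P' → t ∈ P' := by
    intro s t ht
    have hs : algebraMap A K s ≠ 0 :=
      IsFractionRing.to_map_ne_zero_of_mem_nonZeroDivisors s.2
    have h1 : (s : A) • t = algebraMap A K s • t := (algebraMap_smul K (s : A) t).symm
    have h2 : (algebraMap A K s)⁻¹ • (algebraMap A K s • t) = t := by
      rw [smul_smul, inv_mul_cancel₀ hs, one_smul]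
    rw [← h2]
    refine P'.smul_mem _ ?_
    rw [← h1]
    exact ht
  have hmulA : ∀ (a : A) (t : K ⊗[A] M), t ∈ P' → a • t ∈ P' := by
    intro a t ht
    rw [← algebraMap_smul K a t]
    exact P'.smul_mem _ ht
  have hinj : ∀ (s : nonZeroDivisors A) (t : K ⊗[A] (M ⧸ Q)), s • t = 0 → t = 0 := by
    intro s t ht
    have hs : algebraMap A K s ≠ 0 :=
      IsFractionRing.to_map_ne_zero_of_mem_nonZeroDivisors s.2
    have h1 : (s : A) • t = algebraMap A K s • t := (algebraMap_smul K (s : A) t).symm
    have h2 : (algebraMap A K s)⁻¹ • (algebraMap A K s • t) = t := by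
      rw [smul_smul, inv_mul_cancel₀ hs, one_smul]
    rw [← h2, ← h1]
    have : (s : A) • t = 0 := ht
    rw [this, smul_zero]
  have hker : ∀ m : M, m ∈ LinearMap.ker ((P'.restrictScalars A).mkQ ∘ₗ TensorProduct.mk A K M 1) ↔
      (1 : K) ⊗ₜ[A] m ∈ P' := by
    intro m
    rw [LinearMap.mem_ker, LinearMap.comp_apply, Submodule.mkQ_apply,
      Submodule.Quotient.mk_eq_zero]
    rfl
  have hbc : ∀ m : M, Q.mkQ.baseChange K ((1 : K) ⊗ₜ[A] m) = (1 : K) ⊗ₜ[A] Q.mkQ m := fun m => rfl
  constructor
  · intro hQ
    have hQmem : ∀ m : M, m ∈ Q ↔ (1 : K) ⊗ₜ[A] m ∈ P' := by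
      intro m
      rw [← hker m, ← hQ]
    constructor
    · rw [IsDedekindDomain.flat_iff_torsion_eq_bot, eq_bot_iff]
      rintro x ⟨s, hs⟩
      obtain ⟨m, rfl⟩ := Q.mkQ_surjective x
      rw [Submodule.mem_bot]
      have h1 : (s : A) • m ∈ Q := by
        rw [← Submodule.Quotient.mk_eq_zero, Submodule.Quotient.mk_smul]
        exact hs
      rw [hQmem, TensorProduct.tmul_smul] at h1
      have h2 := hdiv s _ h1
      exact (Submodule.Quotient.mk_eq_zero Q).mpr ((hQmem m).mpr h2)
    · ext t
      rw [LinearMap.mem_ker]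
      obtain ⟨⟨m, s⟩, hms⟩ := IsLocalizedModule.surj (nonZeroDivisors A)
        (TensorProduct.mk A K M 1) t
      simp only [TensorProduct.mk_apply] at hms
      constructor
      · intro ht
        have h1 : (1 : K) ⊗ₜ[A] Q.mkQ m = 0 := by
          rw [← hbc, ← hms]
          have : Q.mkQ.baseChange K ((s : A) • t) = (s : A) • Q.mkQ.baseChange K t := by
            rw [← algebraMap_smul K (s : A) t, map_smul, algebraMap_smul]
          erw [this, ht, smul_zero]
        obtain ⟨s', hs'⟩ := (IsLocalizedModule.eq_zero_iff (nonZeroDivisors A)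
          (TensorProduct.mk A K (M ⧸ Q) 1)).mp h1
        have h2 : (s' : A) • m ∈ Q := by
          rw [← Submodule.Quotient.mk_eq_zero, Submodule.Quotient.mk_smul]
          exact hs'
        rw [hQmem, TensorProduct.tmul_smul, ← hms] at h2
        exact hdiv s _ (hdiv s' _ h2)
      · intro ht
        have h1 : (1 : K) ⊗ₜ[A] m ∈ P' := by
          rw [← hms]
          exact hmulA s t ht
        have h2 : Q.mkQ m = 0 := (Submodule.Quotient.mk_eq_zero Q).mpr ((hQmem m).mpr h1)
        apply hinj s
        have : Q.mkQ.baseChange K ((s : A) • t) = (s : A) • Q.mkQ.baseChange K t := by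
          rw [← algebraMap_smul K (s : A) t, map_smul, algebraMap_smul]
        have h3 : Q.mkQ.baseChange K ((s : A) • t) = 0 := by
          erw [hms, hbc, h2, TensorProduct.tmul_zero]
        rw [this] at h3
        exact h3
  · rintro ⟨hflat, hP⟩
    ext m
    rw [hker m, ← hP, LinearMap.mem_ker, hbc]
    have htors := Module.Flat.torsion_eq_bot (R := A) (M := M ⧸ Q)
    constructor
    · intro hm
      have h0 : Q.mkQ m = 0 := (Submodule.Quotient.mk_eq_zero Q).mpr hm
      rw [h0]
      exact TensorProduct.tmul_zero _ _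
    · intro h1
      obtain ⟨s', hs'⟩ := (IsLocalizedModule.eq_zero_iff (nonZeroDivisors A)
        (TensorProduct.mk A K (M ⧸ Q) 1)).mp h1
      have h2 : Q.mkQ m ∈ Submodule.torsion A (M ⧸ Q) := ⟨s', hs'⟩
      rw [htors, Submodule.mem_bot] at h2
      exact (Submodule.Quotient.mk_eq_zero Q).mp h2

end Groth.Agent.S4640
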