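import Groth.Statements.S4641
import Groth.Agent.H79.FlatAss

set_option autoImplicit false
open CategoryTheory AlgebraicGeometry
universe u
open AssSch

namespace Groth.Agent.S4641

/-- Let f : X → Y be a morphism of locally Noetherian schemes such that Y has no embedded associated
points, and let F be a quasi-coherent O_X-module which is flat over Y. Then for every associated
point x of F, f(x) is a maximal point of Y (every point of Y specialising to f(x) equals f(x)). (The
published statement assumes only Y locally Noetherian; X is taken locally Noetherian here so that
associated points are those whose maximal ideal is an annihilator.) -/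
theorem result {X Y : Scheme.{u}} (f : X ⟶ Y) [IsLocallyNoetherian X]
    [IsLocallyNoetherian Y] (hY : AssSch.NoEmbedded (Coh.structureModule Y)) (F : X.Modules) (hF : Coh.IsQCoh F)
    (hfl : FlatMod.IsFlatOver f F) (x : X) (hx : x ∈ AssSch.Ass F) (y : Y) (hy : y ⤳ f x) : y = f x := by
  have h1 := Groth.Agent.H79.FlatAss.maximalIdeal_mem_associatedPrimes_of_isFlatOverAt f F x
    (hfl x) hx
  have h2 := (Groth.Agent.H79.FlatAss.isAssPoint_structureModule_iff (f x)).mpr h1
  exact Groth.Agent.H79.FlatAss.eq_of_specializes_of_noEmbedded hY (f x) h2 y hy

end Groth.Agent.S4641
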