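import Groth.Statements.S4645
import Groth.Agent.H25.ResProp
import Groth.Agent.H25.GeomConnComp

set_option autoImplicit false
open CategoryTheory AlgebraicGeometry
universe u
open FBase

namespace Groth.Agent.S4645

/-- Let X be a scheme over a field k with finitely many connected components, each of which contains a
point x such that the separable algebraic closure of k in κ(x) has finite degree over k. Then there
is a finite separable extension k'' of k such that all connected components of X ⊗_k k'' are
geometrically connected over k'': for every extension field K of k'' and every point x' of X ⊗_k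
k'', the inverse image in (X ⊗_k k'') ⊗_{k''} K of the connected component of x' is connected. -/
theorem result {k : Type u} [Field k] {X : Scheme.{u}}
    (f : X ⟶ Spec (CommRingCat.of k)) [Finite (_root_.ConnectedComponents ↥X)]
    (hx : ∀ c : _root_.ConnectedComponents ↥X, ∃ x : X, _root_.ConnectedComponents.mk x = c ∧
      FBase.ResidueFieldProp f x (fun K _ _ => FiniteDimensional k (separableClosure k K))) :
    ∃ (k'' : Type u) (_ : Field k'') (_ : Algebra k k''), FiniteDimensional k k'' ∧ Algebra.IsSeparable k k'' ∧
      ∀ (K : Type u) [Field K] [Algebra k'' K] (x' : ↥(FBase.bc f k'')),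
        _root_.IsConnected (⇑(FBase.bcπ (FBase.bcStr f k'') K) ⁻¹' connectedComponent x') := by
  classical
  letI : X.Over (Spec (CommRingCat.of k)) := ⟨f⟩
  letI : ∀ x : X, Algebra k (X.residueField x) := fun x => Curv2.resAlgebra k X x
  choose pt hpt1 hpt2 using hx
  have hfd : ∀ c : _root_.ConnectedComponents ↥X,
      FiniteDimensional k (separableClosure k (X.residueField (pt c))) :=
    fun c => (Groth.Agent.H25.ResProp.residueFieldProp_iff f _ _).mp (hpt2 c)
  haveI := hfd
  obtain ⟨L, hF, hA, hfdL, hgal, hemb⟩ := Groth.Agent.H25.GeomIrrComp.exists_finite_galois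
    (k := k) (ι := _root_.ConnectedComponents ↥X)
    (fun c => ↥(separableClosure k (X.residueField (pt c))))
  refine ⟨L, hF, hA, hfdL, inferInstance, ?_⟩
  intro K _ _ x'
  refine Groth.Agent.H25.GeomConnComp.isConnected_preimage_of_galois k X L x'
    ⟨pt (_root_.ConnectedComponents.mk ((Curv2.bcFst k X L).base x')), ?_, hfd _, hemb _⟩ K
  exact ConnectedComponents.coe_eq_coe'.mp (hpt1 _)

end Groth.Agent.S4645
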