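import Groth.Statements.S4646
import Groth.Agent.H25.ResProp
import Groth.Agent.H25.GeomIrrComp

set_option autoImplicit false
open CategoryTheory AlgebraicGeometry
universe u
open FBase

namespace Groth.Agent.S4646

/-- Let X be a scheme over a field k having finitely many irreducible components, such that for the
generic point x of each irreducible component the separable algebraic closure of k in κ(x) has
finite degree over k. Then there is a finite separable extension L of k such that all irreducible
components of X ⊗_k L are geometrically irreducible over L: for every extension field K of L and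
every irreducible component Z' of X ⊗_k L, the inverse image of Z' in (X ⊗_k L) ⊗_L K is
irreducible. (No finite-type hypothesis on X.) -/
theorem result {k : Type u} [Field k] {X : Scheme.{u}}
    (f : X ⟶ Spec (CommRingCat.of k)) [Finite ↥(irreducibleComponents ↥X)]
    (hx : ∀ (Z : Set ↥X) (hZ : Z ∈ irreducibleComponents ↥X),
      FBase.ResidueFieldProp f hZ.1.genericPoint (fun K _ _ => FiniteDimensional k (separableClosure k K))) :
    ∃ (L : Type u) (_ : Field L) (_ : Algebra k L), FiniteDimensional k L ∧ Algebra.IsSeparable k L ∧
      ∀ (K : Type u) [Field K] [Algebra L K] (Z' : Set ↥(FBase.bc f L)), Z' ∈ irreducibleComponents ↥(FBase.bc f L) →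
        IsIrreducible (⇑(FBase.bcπ (FBase.bcStr f L) K) ⁻¹' Z') := by
  classical
  letI : X.Over (Spec (CommRingCat.of k)) := ⟨f⟩
  letI : ∀ x : X, Algebra k (X.residueField x) := fun x => Curv2.resAlgebra k X x
  have hx' : ∀ (Z : Set ↥X) (hZ : Z ∈ irreducibleComponents ↥X),
      FiniteDimensional k (separableClosure k (X.residueField hZ.1.genericPoint)) :=
    fun Z hZ => (Groth.Agent.H25.ResProp.residueFieldProp_iff f _ _).mp (hx Z hZ)
  haveI : ∀ i : ↥(irreducibleComponents ↥X),
      FiniteDimensional k (separableClosure k (X.residueField i.2.1.genericPoint)) :=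
    fun i => hx' i.1 i.2
  obtain ⟨L, hF, hA, hfd, hgal, hemb⟩ := Groth.Agent.H25.GeomIrrComp.exists_finite_galois
    (k := k) (ι := ↥(irreducibleComponents ↥X))
    (fun i => ↥(separableClosure k (X.residueField i.2.1.genericPoint)))
  refine ⟨L, hF, hA, hfd, inferInstance, ?_⟩
  intro K _ _ Z' hZ'
  refine Groth.Agent.H25.GeomIrrComp.isIrreducible_preimage_of_galois k X L Z' hZ' ?_ K
  intro x hxc
  have hgp : (⟨closure {x}, hxc⟩ : ↥(irreducibleComponents ↥X)).2.1.genericPoint = x := by
    have h1 := hxc.1.isGenericPoint_genericPoint_closure
    rw [closure_closure] at h1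
    exact h1.eq isGenericPoint_closure
  have h2 := hx' (closure {x}) hxc
  have h3 := hemb ⟨closure {x}, hxc⟩
  rw [hgp] at h2 h3
  exact ⟨h2, h3⟩

end Groth.Agent.S4646
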