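import Groth.Statements.S4647
import Mathlib

set_option autoImplicit false
open CategoryTheory AlgebraicGeometry
universe u
open FDesc

namespace Groth.Agent.S4647

lemma exists_away_isDomain {R : Type*} [CommRing R] (hfin : (minimalPrimes R).Finite)
    (hdom : ∀ (q : Ideal R) [q.IsPrime], IsDomain (Localization.AtPrime q))
    (p : Ideal R) [hp : p.IsPrime] : ∃ g : R, g ∉ p ∧ IsDomain (Localization.Away g) := by
  classical
  have hred : ∀ x : R, IsNilpotent x → x = 0 := by
    intro x hx
    apply eq_zero_of_localization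
    intro J hJ
    have := hdom J
    exact (hx.map (algebraMap R (Localization.AtPrime J))).eq_zero
  have hq₀mem : ∀ x, algebraMap R (Localization.AtPrime p) x = 0 ↔ ∃ s ∉ p, s * x = 0 := by
    intro x
    rw [IsLocalization.map_eq_zero_iff p.primeCompl]
    constructor
    · rintro ⟨⟨s, hs⟩, h⟩
      exact ⟨s, hs, h⟩
    · rintro ⟨s, hs, h⟩
      exact ⟨⟨s, hs⟩, h⟩
  have hq₀le : ∀ q : Ideal R, q.IsPrime → q ≤ p → ∀ x,
      algebraMap R (Localization.AtPrime p) x = 0 → x ∈ q := by
    intro q hq hqp x hx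
    obtain ⟨s, hs, hsx⟩ := (hq₀mem x).mp hx
    have : s * x ∈ q := by rw [hsx]; exact q.zero_mem
    exact (hq.mem_or_mem this).resolve_left (fun h => hs (hqp h))
  let T := hfin.toFinset.filter (fun q => ¬ q ≤ p)
  have hex : ∀ q ∈ T, ∃ a ∈ q, a ∉ p := by
    intro q hq
    exact SetLike.not_le_iff_exists.mp (Finset.mem_filter.mp hq).2
  choose! a ha hap using hex
  let g := ∏ q ∈ T, a q
  have hgp : g ∉ p := by
    intro h
    obtain ⟨q, hq, hqp⟩ := Ideal.IsPrime.prod_mem_iff.mp h
    exact hap q hq hqp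
  have hgq : ∀ q ∈ minimalPrimes R, ¬ q ≤ p → g ∈ q := by
    intro q hq hqp
    have hqT : q ∈ T := Finset.mem_filter.mpr ⟨hfin.mem_toFinset.mpr hq, hqp⟩
    exact Ideal.mem_of_dvd _ (Finset.dvd_prod_of_mem a hqT) (ha q hqT)
  have hkey : ∀ x, algebraMap R (Localization.AtPrime p) x = 0 → g * x = 0 := by
    intro x hx
    apply hred
    rw [← mem_nilradical, nilradical_eq_sInf, Ideal.mem_sInf]
    intro q hq
    have hq' : q.IsPrime := hq
    obtain ⟨q', hq'min, hq'le⟩ := Ideal.exists_minimalPrimes_le (I := ⊥) (J := q) bot_le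
    by_cases h : q' ≤ p
    · exact q.mul_mem_left _ (hq'le (hq₀le q' hq'min.1.1 h x hx))
    · exact q.mul_mem_right _ (hq'le (hgq q' hq'min h))
  refine ⟨g, hgp, ?_⟩
  have hgpow : ∀ k : ℕ, g ^ k ∉ p := fun k h => hgp (hp.mem_of_pow_mem k h)
  have hnontriv : Nontrivial (Localization.Away g) := by
    rw [← not_subsingleton_iff_nontrivial, IsLocalization.subsingleton_iff (M := Submonoid.powers g)]
    rintro ⟨k, hk⟩
    exact hgpow k (by simp only at hk; rw [hk]; exact p.zero_mem)
  have hnzd : NoZeroDivisors (Localization.Away g) := by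
    constructor
    intro y z hyz
    obtain ⟨a, ⟨_, n, rfl⟩, rfl⟩ := IsLocalization.exists_mk'_eq (Submonoid.powers g) y
    obtain ⟨b, ⟨_, m, rfl⟩, rfl⟩ := IsLocalization.exists_mk'_eq (Submonoid.powers g) z
    rw [← IsLocalization.mk'_mul, IsLocalization.mk'_eq_zero_iff] at hyz
    obtain ⟨⟨_, k, rfl⟩, hk⟩ := hyz
    have hab : algebraMap R (Localization.AtPrime p) a * algebraMap R (Localization.AtPrime p) b
        = 0 := by
      have hgu : IsUnit (algebraMap R (Localization.AtPrime p) (g ^ k)) :=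
        IsLocalization.map_units (Localization.AtPrime p) (⟨g ^ k, hgpow k⟩ : p.primeCompl)
      have := congrArg (algebraMap R (Localization.AtPrime p)) hk
      rw [map_mul, map_mul, map_zero] at this
      exact (hgu.mul_right_eq_zero).mp this
    have := hdom p
    rcases mul_eq_zero.mp hab with h | h
    · left
      rw [IsLocalization.mk'_eq_zero_iff]
      exact ⟨⟨g, Submonoid.mem_powers g⟩, hkey a h⟩
    · right
      rw [IsLocalization.mk'_eq_zero_iff]
      exact ⟨⟨g, Submonoid.mem_powers g⟩, hkey b h⟩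
  exact NoZeroDivisors.to_isDomain _


lemma stalkMap_injective' {X Y : Scheme.{u}} (f : X ⟶ Y) [Flat f] (x : X) :
    Function.Injective (f.stalkMap x).hom := by
  algebraize [(f.stalkMap x).hom]
  have : Module.FaithfullyFlat (Y.presheaf.stalk (f x)) (X.presheaf.stalk x) :=
    @Module.FaithfullyFlat.of_flat_of_isLocalHom _ _ _ _ _ _ _
      (Flat.stalkMap f x) (f.toLRSHom.prop x)
  exact ‹RingHom.FaithfullyFlat _›.injective


/-- Let f : X → Y be a faithfully flat (flat and surjective) morphism. If all local rings of X are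
domains (in particular if X is locally integral) and the underlying space of Y is locally
Noetherian, then Y is locally integral: every point of Y has an open neighbourhood which is an
integral scheme. -/
theorem result {X Y : Scheme.{u}} (f : X ⟶ Y) [Flat f] [Surjective f]
    (hX : ∀ x : X, IsDomain ↑(X.presheaf.stalk x))
    (hY : ∀ y : Y, ∃ U : Y.Opens, y ∈ U ∧ TopologicalSpace.NoetherianSpace ↥U) (y : Y) :
    ∃ U : Y.Opens, y ∈ U ∧ IsIntegral (U : Scheme.{u}) := by
  have hYdom : ∀ y : Y, IsDomain ↑(Y.presheaf.stalk y) := by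
    intro y
    obtain ⟨x, rfl⟩ := f.surjective y
    have := hX x
    exact (stalkMap_injective' f x).isDomain _
  obtain ⟨U₀, hyU₀, hU₀⟩ := hY y
  obtain ⟨_, ⟨V, hV, rfl⟩, hyV, hVU₀⟩ :=
    Y.isBasis_affineOpens.exists_subset_of_mem_open hyU₀ U₀.isOpen
  have hVnoeth : TopologicalSpace.NoetherianSpace V := by
    have hind : Topology.IsInducing (Set.inclusion hVU₀) :=
      (Topology.IsEmbedding.inclusion hVU₀).isInducing
    exact hind.noetherianSpace
  have hSpecNoeth : TopologicalSpace.NoetherianSpace (PrimeSpectrum Γ(Y, V)) := by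
    let e : V ≃ₜ (Spec Γ(Y, V)) :=
      TopCat.homeoOfIso (Scheme.forgetToTop.mapIso hV.isoSpec)
    exact (TopologicalSpace.noetherianSpace_iff_of_homeomorph e).mp hVnoeth
  have hfin : (minimalPrimes Γ(Y, V)).Finite := by
    rw [← PrimeSpectrum.vanishingIdeal_irreducibleComponents]
    exact TopologicalSpace.NoetherianSpace.finite_irreducibleComponents.image _
  have hdom : ∀ (q : Ideal Γ(Y, V)) [q.IsPrime], IsDomain (Localization.AtPrime q) := by
    intro q hq
    have hmem : hV.fromSpec ⟨q, hq⟩ ∈ V := (hV.isoSpec.inv _).2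
    let _ : Algebra Γ(Y, V) (Y.presheaf.stalk (hV.fromSpec ⟨q, hq⟩)) :=
      TopCat.Presheaf.algebra_section_stalk Y.presheaf ⟨hV.fromSpec ⟨q, hq⟩, hmem⟩
    have hloc : IsLocalization.AtPrime (Y.presheaf.stalk (hV.fromSpec ⟨q, hq⟩)) q :=
      hV.isLocalization_stalk' ⟨q, hq⟩ hmem
    have := hYdom (hV.fromSpec ⟨q, hq⟩)
    let e := IsLocalization.algEquiv q.primeCompl (Localization.AtPrime q)
      (Y.presheaf.stalk (hV.fromSpec ⟨q, hq⟩))
    exact e.injective.isDomain e.toRingEquiv.toRingHom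
  obtain ⟨g, hg, hgdom⟩ := exists_away_isDomain hfin hdom (hV.primeIdealOf ⟨y, hyV⟩).asIdeal
  have hyg : y ∈ Y.basicOpen g := by
    have h1 : hV.primeIdealOf ⟨y, hyV⟩ ∈ PrimeSpectrum.basicOpen g := hg
    rw [← hV.fromSpec_preimage_basicOpen] at h1
    have h2 := hV.fromSpec_primeIdealOf ⟨y, hyV⟩
    have h3 : hV.fromSpec (hV.primeIdealOf ⟨y, hyV⟩) ∈ Y.basicOpen g := h1
    rwa [h2] at h3
  refine ⟨Y.basicOpen g, hyg, ?_⟩
  have haff : IsAffineOpen (Y.basicOpen g) := hV.basicOpen g
  have : IsAffine (Y.basicOpen g : Scheme) := haff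
  have hloc := hV.isLocalization_basicOpen g
  have hd1 : IsDomain Γ(Y, Y.basicOpen g) := by
    let e := IsLocalization.algEquiv (Submonoid.powers g) (Localization.Away g)
      Γ(Y, Y.basicOpen g)
    exact e.symm.injective.isDomain e.symm.toRingEquiv.toRingHom
  have hd2 : IsDomain Γ((Y.basicOpen g : Scheme), ⊤) :=
    MulEquiv.isDomain Γ(Y, Y.basicOpen g)
      (Scheme.Opens.topIso (Y.basicOpen g)).commRingCatIsoToRingEquiv.toMulEquiv
  have : Nonempty (Y.basicOpen g : Scheme) := ⟨⟨y, hyg⟩⟩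
  exact isIntegral_of_isAffine_of_isDomain _

end Groth.Agent.S4647
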