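import Groth.Statements.S4648
import Groth.Agent.H17.ProConsPreimage
import Groth.Agent.S2493
import Groth.Agent.S2495
import Groth.Agent.S3398

set_option autoImplicit false
open CategoryTheory AlgebraicGeometry
universe u
open FDesc

namespace Groth.Agent.S4648

/-- Let f : X → Y be a quasi-flat, surjective and quasi-compact morphism and Z a subset of Y. Then Z is
a locally closed pro-constructible subset of Y if and only if f⁻¹(Z) is a locally closed
pro-constructible subset of X. -/
theorem result {X Y : Scheme.{u}} (f : X ⟶ Y)
    (hf : FDesc.IsQuasiFlat f) [Surjective f] [QuasiCompact f] (Z : Set ↥Y) :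
    (IsLocallyClosed Z ∧ ProCons.IsProConstructible Z) ↔
      (IsLocallyClosed (⇑f ⁻¹' Z) ∧ ProCons.IsProConstructible (⇑f ⁻¹' Z)) := by
  constructor
  · rintro ⟨h1, h2⟩
    exact ⟨h1.preimage f.continuous, Groth.Agent.H17.pro_preimage f h2⟩
  · rintro ⟨h1, h2⟩
    have hgen : GeneralizingMap f.base := Groth.Agent.S2493.result f hf
    have hquot : Topology.IsQuotientMap f.base := Groth.Agent.S2495.result f hf
    have hsurj : Function.Surjective f.base := f.surjective
    have hZ : f.base '' (f.base ⁻¹' Z) = Z := Set.image_preimage_eq Z hsurj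
    have hpro : ProCons.IsProConstructible Z := by
      have := Groth.Agent.S3398.result f (f.base ⁻¹' Z) h2
      rwa [hZ] at this
    refine ⟨?_, hpro⟩
    rw [isLocallyClosed_iff_isOpen_coborder] at h1 ⊢
    rw [← hquot.isOpen_preimage]
    have : f.base ⁻¹' coborder Z = coborder (f.base ⁻¹' Z) := by
      rw [coborder_eq_union_closure_compl, coborder_eq_union_closure_compl, Set.preimage_union,
        Set.preimage_compl, Groth.Agent.H17.preimage_closure_eq_of_generalizing f hgen hpro]
    rw [this]
    exact h1

end Groth.Agent.S4648
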