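import Groth.Statements.S4649
import Groth.Agent.H25.PtIntCount
import Groth.Agent.H25.GeomPtInt
import Groth.Agent.H25.GeomRedGlobal
import Groth.Agent.H25.GeomRedBC
import Groth.Agent.H25.GeomRedAt

set_option autoImplicit false
open CategoryTheory AlgebraicGeometry
universe u
open FBase

namespace Groth.Agent.S4649

/-- Let X be a scheme of finite type over a field k and Ω an algebraically closed extension field of k.
Then X is geometrically pointwise integral over k (every local ring of every X ⊗_k K is a domain) if
and only if X is geometrically reduced over k and the number of irreducible components of X ⊗_k Ω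
equals the number of connected components of X ⊗_k Ω (the geometric numbers of irreducible and of
connected components agree). -/
theorem result {k Ω : Type u} [Field k] [Field Ω] [Algebra k Ω] [IsAlgClosed Ω]
    {X : Scheme.{u}} (f : X ⟶ Spec (CommRingCat.of k)) [LocallyOfFiniteType f] [QuasiCompact f] :
    (∀ x : X, FBase.IsGeomPtIntegralAt f x) ↔
      (GeometricallyReduced f ∧
        Nat.card ↥(irreducibleComponents ↥(FBase.bc f Ω)) = Nat.card (_root_.ConnectedComponents ↥(FBase.bc f Ω))) := by
  letI : X.Over (Spec (CommRingCat.of k)) := ⟨f⟩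
  haveI hlft : LocallyOfFiniteType (FBase.bcStr f Ω) :=
    (inferInstance : LocallyOfFiniteType (CategoryTheory.Limits.pullback.snd f
      (Spec.map (CommRingCat.ofHom (algebraMap k Ω)))))
  haveI hqc : QuasiCompact (FBase.bcStr f Ω) :=
    (inferInstance : QuasiCompact (CategoryTheory.Limits.pullback.snd f
      (Spec.map (CommRingCat.ofHom (algebraMap k Ω)))))
  haveI : IsLocallyNoetherian (FBase.bc f Ω) :=
    LocallyOfFiniteType.isLocallyNoetherian (FBase.bcStr f Ω)
  haveI : CompactSpace ↥(FBase.bc f Ω) := QuasiCompact.compactSpace_of_compactSpace (FBase.bcStr f Ω)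
  haveI : IsNoetherian (FBase.bc f Ω) := {}
  have hA : (∀ x : X, FBase.IsGeomPtIntegralAt f x) ↔
      ∀ y : ↥(FBase.bc f Ω), IsDomain ((FBase.bc f Ω).presheaf.stalk y) := by
    constructor
    · intro h y
      exact (Groth.Agent.H25.GeomPtInt.isGeomPtIntegralAt_iff_of_isAlgClosed
        (FBase.bcStr f Ω) y).mp
        ((Groth.Agent.H25.GeomPtInt.isGeomPtIntegralAt_iff_bc f Ω y).mp (h _))
    · intro h x
      obtain ⟨y, hy⟩ := (Groth.Agent.H25.GeomPtInt.surjective_bcFst f Ω).surj x
      have := (Groth.Agent.H25.GeomPtInt.isGeomPtIntegralAt_iff_bc f Ω y).mpr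
        ((Groth.Agent.H25.GeomPtInt.isGeomPtIntegralAt_iff_of_isAlgClosed
          (FBase.bcStr f Ω) y).mpr (h y))
      have hy' : (FBase.bcπ f Ω) y = x := hy
      rwa [hy'] at this
  have hB : GeometricallyReduced f ↔ IsReduced (FBase.bc f Ω) := by
    constructor
    · intro h
      exact GeometricallyReduced.geometrically_isReduced (f := f)
        (Spec.map (CommRingCat.ofHom (algebraMap k Ω))) _ _ (IsPullback.of_hasPullback _ _)
    · intro h
      change GeometricallyReduced (X ↘ Spec (CommRingCat.of k))
      rw [Groth.Agent.H25.GeomRedGlobal.geometricallyReduced_iff_forall_isGeomReducedAt]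
      intro x
      obtain ⟨y, hy⟩ := (Groth.Agent.H25.GeomPtInt.surjective_bcFst f Ω).surj x
      rw [Groth.Agent.H25.GeomRedBC.isGeomReducedAt_iff_bc k X Ω x y hy]
      letI : (Curv2.bc k X Ω).Over (Spec (CommRingCat.of Ω)) := ⟨Curv2.bcSnd k X Ω⟩
      haveI : _root_.IsReduced ((Curv2.bc k X Ω).presheaf.stalk y) :=
        (inferInstance : _root_.IsReduced ((FBase.bc f Ω).presheaf.stalk y))
      exact Groth.Agent.H25.GeomRedAt.isGeomReducedAt_of_perfectField Ω (Curv2.bc k X Ω) y
  rw [hA, hB]
  exact Groth.Agent.H25.PtIntCount.forall_isDomain_stalk_iff (FBase.bc f Ω)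

end Groth.Agent.S4649
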