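import Groth.Statements.S4650
import Mathlib

set_option autoImplicit false
open CategoryTheory AlgebraicGeometry
universe u
open FDesc

namespace Groth.Agent.S4650

/-- Let f : X → Y be a morphism of schemes along which generizations lift (this holds for flat,
quasi-flat or open morphisms). Then every irreducible component of X dominates an irreducible
component of Y: the closure of its image is an irreducible component of Y. -/
theorem result {X Y : Scheme.{u}} (f : X ⟶ Y)
    (hf : GeneralizingMap ⇑f) (T : Set ↥X) (hT : T ∈ irreducibleComponents ↥X) :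
    closure (⇑f '' T) ∈ irreducibleComponents ↥Y := by
  have hTirr : IsIrreducible T := hT.1
  have hTcl : IsClosed T := isClosed_of_mem_irreducibleComponents T hT
  obtain ⟨ξ, hξ⟩ := QuasiSober.sober hTirr hTcl
  have hirr : IsIrreducible (closure (⇑f '' T)) :=
    (hTirr.image f f.continuous.continuousOn).closure
  refine ⟨hirr, ?_⟩
  intro S hS hle
  obtain ⟨η, hη⟩ := QuasiSober.sober hS.closure isClosed_closure
  have hξT : ξ ∈ T := by rw [← hξ.def]; exact subset_closure rfl
  have hfξ : f ξ ∈ closure S := subset_closure (hle (subset_closure ⟨ξ, hξT, rfl⟩))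
  have hspec : η ⤳ f ξ := by
    rw [specializes_iff_mem_closure, hη.def]; exact hfξ
  obtain ⟨ξ', hξ'ξ, hfξ'⟩ := hf hspec
  have h1 : T ≤ closure {ξ'} := by
    rw [← hξ.def]
    exact closure_minimal (Set.singleton_subset_iff.mpr hξ'ξ.mem_closure) isClosed_closure
  have h2 : closure {ξ'} ≤ T := hT.2 (isIrreducible_singleton.closure) h1
  have hξ'T : ξ' ∈ T := h2 (subset_closure rfl)
  calc S ⊆ closure S := subset_closure
    _ = closure {η} := hη.def.symm
    _ ⊆ closure (⇑f '' T) := closure_mono (Set.singleton_subset_iff.mpr ⟨ξ', hξ'T, hfξ'⟩)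

end Groth.Agent.S4650
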