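import Groth.Statements.S4651
import Mathlib
import Groth.Agent.S4650

set_option autoImplicit false
open CategoryTheory AlgebraicGeometry
universe u
open FDesc

namespace Groth.Agent.S4651

/-- Let Y be a scheme whose family of irreducible components is locally finite (every point has an open
neighbourhood meeting only finitely many irreducible components), and let f : X → Y be a morphism
along which generizations lift (e.g. flat, quasi-flat or open) such that every fibre f⁻¹(y) is a
finite set (e.g. f quasi-finite or radicial). Then the family of irreducible components of X is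
locally finite. -/
theorem result {X Y : Scheme.{u}} (f : X ⟶ Y)
    (hY : ∀ y : Y, ∃ U : Set ↥Y, IsOpen U ∧ y ∈ U ∧ {Z ∈ irreducibleComponents ↥Y | (Z ∩ U).Nonempty}.Finite)
    (hf : GeneralizingMap ⇑f) (hfin : ∀ y : Y, (⇑f ⁻¹' {y}).Finite) (x : X) :
    ∃ U : Set ↥X, IsOpen U ∧ x ∈ U ∧ {T ∈ irreducibleComponents ↥X | (T ∩ U).Nonempty}.Finite := by
  obtain ⟨U, hUo, hyU, hfinU⟩ := hY (f x)
  refine ⟨⇑f ⁻¹' U, hUo.preimage f.continuous, hyU, ?_⟩
  -- the finite set of candidate generic points
  set 𝒵 : Set (Set ↥Y) := {Z ∈ irreducibleComponents ↥Y | (Z ∩ U).Nonempty} with h𝒵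
  let F' : Set ↥X := ⋃ Z ∈ 𝒵, ⇑f ⁻¹' {η | closure {η} = Z}
  have hF' : F'.Finite := by
    apply Set.Finite.biUnion hfinU
    intro Z _
    apply Set.Finite.preimage'
    · apply Set.Subsingleton.finite
      intro η hη η' hη'
      exact IsGenericPoint.eq (S := Z) hη hη'
    · intro b _
      exact hfin b
  apply (hF'.image (fun ξ => closure {ξ})).subset
  rintro T ⟨hT, t, htT, htV⟩
  have hTirr : IsIrreducible T := hT.1
  have hTcl : IsClosed T := isClosed_of_mem_irreducibleComponents T hT
  obtain ⟨ξ, hξ⟩ := QuasiSober.sober hTirr hTcl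
  refine ⟨ξ, ?_, hξ.def⟩
  have hZ := Groth.Agent.S4650.result f hf T hT
  have hcl : closure {f ξ} = closure (⇑f '' T) := by
    rw [← hξ.def, closure_image_closure f.continuous, Set.image_singleton]
  simp only [F', Set.mem_iUnion, Set.mem_preimage, Set.mem_setOf_eq]
  refine ⟨closure (⇑f '' T), ⟨hZ, f t, subset_closure ⟨t, htT, rfl⟩, htV⟩, hcl⟩

end Groth.Agent.S4651
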