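import Groth.Statements.S4653
-- import your own Groth.Agent.* helpers here
import Groth.Agent.H70.FDesc.GoingDownGeo
import Groth.Agent.H71.QCoh.SupportTensor

set_option autoImplicit false
open CategoryTheory AlgebraicGeometry
universe u
open FDesc

namespace Groth.Agent.S4653

/-- Let f : X → Y be a morphism of schemes, F a quasi-coherent O_X-module of finite type which is flat
over Y, E a quasi-coherent O_Y-module of finite type, and x a point of X with image y. Then x is a
maximal point of the support of f^*E ⊗ F (a point of the support admitting no proper generization in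
it) if and only if y is a maximal point of Supp E and x, viewed in the fibre f⁻¹(y), is a maximal
point of the support of the restriction of F to that fibre. -/
theorem result {X Y : Scheme.{u}} (f : X ⟶ Y) (F : X.Modules) (hF : Coh.IsCoh F)
    (hfl : FlatMod.IsFlatOver f F) (E : Y.Modules) (hE : Coh.IsCoh E) (x : X) :
    (x ∈ CohB1.support (CohB1.tensorMod ((Scheme.Modules.pullback f).obj E) F) ∧
        ∀ z ∈ CohB1.support (CohB1.tensorMod ((Scheme.Modules.pullback f).obj E) F), z ⤳ x → z = x) ↔
      ((f x ∈ CohB1.support E ∧ ∀ w ∈ CohB1.support E, w ⤳ f x → w = f x) ∧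
        (f.asFiber x ∈ CohB1.support ((Scheme.Modules.pullback (f.fiberι (f x))).obj F) ∧
          ∀ z ∈ CohB1.support ((Scheme.Modules.pullback (f.fiberι (f x))).obj F), z ⤳ f.asFiber x → z = f.asFiber x)) := by
  haveI : F.IsQuasicoherent := hF.1
  haveI : E.IsQuasicoherent := hE.1
  haveI : Coh.IsQCoh F := hF.1
  haveI : Coh.IsQCoh E := hE.1
  haveI : SheafOfModules.IsFiniteType (R := X.ringCatSheaf) F := hF.2
  haveI : SheafOfModules.IsFiniteType (R := Y.ringCatSheaf) E := hE.2
  have hE' : Coh.IsCoh ((Scheme.Modules.pullback f).obj E) := ⟨inferInstance, inferInstance⟩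
  have hT : CohB1.support (CohB1.tensorMod ((Scheme.Modules.pullback f).obj E) F) =
      f ⁻¹' CohB1.support E ∩ CohB1.support F := by
    rw [Groth.Agent.H71.QCoh.support_tensorMod _ _ hE' hF, Groth.Agent.S4357.result f E hE.2]
  have hFib : CohB1.support ((Scheme.Modules.pullback (f.fiberι (f x))).obj F) =
      (f.fiberι (f x)) ⁻¹' CohB1.support F := by
    rw [Groth.Agent.S4357.result (f.fiberι (f x)) F hF.2]
  rw [hT, hFib]
  have hιx : f.fiberι (f x) (f.asFiber x) = x := f.fiberι_asFiber x
  have hemb := (f.fiberι (f x)).isEmbedding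
  constructor
  · rintro ⟨⟨hxE, hxF⟩, hmax⟩
    refine ⟨⟨hxE, ?_⟩, ⟨?_, ?_⟩⟩
    · intro w hwE hw
      obtain ⟨z, hzx, hzF, rfl⟩ := Groth.Agent.H70.FDesc.exists_generization_mem_support f F hF x
        (hfl x) hxF w hw
      rw [hmax z ⟨hwE, hzF⟩ hzx]
    · change f.fiberι (f x) (f.asFiber x) ∈ CohB1.support F
      rw [hιx]; exact hxF
    · intro z₀ hz₀ hz₀x
      have hfz : f (f.fiberι (f x) z₀) = f x := (f.range_fiberι (f x)).le ⟨z₀, rfl⟩
      have hzx : f.fiberι (f x) z₀ ⤳ x := by
        have := hz₀x.map (f.fiberι (f x)).continuous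
        rw [hιx] at this
        exact this
      have hz : f.fiberι (f x) z₀ = x :=
        hmax _ ⟨by change f (f.fiberι (f x) z₀) ∈ CohB1.support E; rw [hfz]; exact hxE, hz₀⟩ hzx
      apply hemb.injective
      rw [hz, hιx]
  · rintro ⟨⟨hyE, hymax⟩, ⟨hx₀, hx₀max⟩⟩
    refine ⟨⟨hyE, ?_⟩, ?_⟩
    · have : f.fiberι (f x) (f.asFiber x) ∈ CohB1.support F := hx₀
      rw [hιx] at this
      exact this
    · rintro z ⟨hzE, hzF⟩ hzx
      have hfz : f z = f x := hymax _ hzE (hzx.map f.continuous)
      obtain ⟨z₀, rfl⟩ : z ∈ Set.range (f.fiberι (f x)) := by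
        rw [f.range_fiberι (f x)]; exact hfz
      have h1 : z₀ ⤳ f.asFiber x := by
        rw [← hemb.isInducing.specializes_iff, hιx]
        exact hzx
      rw [hx₀max z₀ hzF h1, hιx]

end Groth.Agent.S4653
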