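import Groth.Statements.S4654
import Groth.Agent.H71.QCoh.FlatOver

set_option autoImplicit false
open CategoryTheory AlgebraicGeometry
universe u
open FDesc

namespace Groth.Agent.S4654

/-- Let f : X → Y be a morphism of schemes and 0 → F' → F → F'' → 0 a short exact sequence of
quasi-coherent O_X-modules such that F'' is flat over Y. Then F is flat over Y if and only if F' is
flat over Y. -/
theorem result {X Y : Scheme.{u}} (f : X ⟶ Y) (S : ShortComplex X.Modules)
    (hS : S.ShortExact) (h₁ : Coh.IsQCoh S.X₁) (h₂ : Coh.IsQCoh S.X₂) (h₃ : Coh.IsQCoh S.X₃)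
    (hflat : FlatMod.IsFlatOver f S.X₃) :
    FlatMod.IsFlatOver f S.X₂ ↔ FlatMod.IsFlatOver f S.X₁ := by
  haveI : S.X₁.IsQuasicoherent := h₁
  haveI : S.X₂.IsQuasicoherent := h₂
  haveI : S.X₃.IsQuasicoherent := h₃
  exact Groth.Agent.H71.QCoh.isFlatOver_iff_of_shortExact f S hS hflat

end Groth.Agent.S4654
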