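import Groth.Statements.S4666
import Mathlib

set_option autoImplicit false
open CategoryTheory AlgebraicGeometry
universe u
open FDesc

namespace Groth.Agent.S4666

open CategoryTheory.Limits

lemma app_injective {X Y : Scheme.{u}} (f : X ⟶ Y) [Flat f] [Surjective f] (U : Y.Opens) :
    Function.Injective (f.app U) := by
  rw [injective_iff_map_eq_zero]
  intro s hs
  refine TopCat.Presheaf.section_ext Y.sheaf U s 0 fun y hy => ?_
  obtain ⟨x, rfl⟩ := f.surjective y
  have hinj : Function.Injective (f.stalkMap x) := by
    algebraize [(f.stalkMap x).hom]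
    have : Module.FaithfullyFlat (Y.presheaf.stalk (f x)) (X.presheaf.stalk x) :=
      @Module.FaithfullyFlat.of_flat_of_isLocalHom _ _ _ _ _ _ _
        (Flat.stalkMap f x) (f.toLRSHom.prop x)
    exact ‹RingHom.FaithfullyFlat _›.injective
  apply hinj
  have := Scheme.Hom.germ_stalkMap_apply f U x hy s
  erw [this, hs]
  simp only [map_zero]
  exact (map_zero _).symm

lemma ker_eq_bot' {X Y : Scheme.{u}} (f : X ⟶ Y) [Flat f] [Surjective f] : f.ker = ⊥ := by
  ext U : 2
  apply le_antisymm
  · refine (Scheme.Hom.ideal_ker_le f U).trans ?_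
    rw [(RingHom.injective_iff_ker_eq_bot _).mp (app_injective f U)]
    simp
  · simp


/-- Let f : X → Y be a flat and surjective morphism of schemes. Then the map sending a quasi-coherent
sheaf of ideals of O_Y (a closed subscheme of Y) to its inverse image in X is injective. -/
theorem result {X Y : Scheme.{u}} (f : X ⟶ Y) [Flat f] [Surjective f] :
    Function.Injective fun J : Y.IdealSheafData => J.comap f := by
  have key : ∀ J : Y.IdealSheafData, (J.comap f).map f = J := by
    intro J
    have h1 : (pullback.snd f J.subschemeι).ker = ⊥ := ker_eq_bot' _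
    rw [Scheme.IdealSheafData.map, ← Scheme.IdealSheafData.comapIso_hom_fst, Category.assoc,
      Scheme.Hom.ker_comp_of_isIso, pullback.condition, Scheme.Hom.ker_comp, h1,
      Scheme.IdealSheafData.map_bot, Scheme.IdealSheafData.ker_subschemeι]
  intro J₁ J₂ h
  rw [← key J₁, ← key J₂]
  exact congrArg (·.map f) h

end Groth.Agent.S4666
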