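import Groth.Statements.S4667
import Mathlib

set_option autoImplicit false
open CategoryTheory AlgebraicGeometry
universe u
open FDesc

namespace Groth.Agent.S4667

open CategoryTheory.Limits

lemma ker_toImage {X Y : Scheme.{u}} (f : X ⟶ Y) [QuasiCompact f] : f.toImage.ker = ⊥ := by
  refine Scheme.IdealSheafData.ext_of_iSup_eq_top (ι := Y.affineOpens)
    (fun U => ⟨f.imageι ⁻¹ᵁ U.1, U.2.preimage f.imageι⟩) ?_ ?_
  · rw [eq_top_iff]
    intro z _
    obtain ⟨_, ⟨U, hU, rfl⟩, hzU, -⟩ :=
      Y.isBasis_affineOpens.exists_subset_of_mem_open (Set.mem_univ (f.imageι z)) isOpen_univ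
    exact TopologicalSpace.Opens.mem_iSup.mpr ⟨⟨U, hU⟩, hzU⟩
  · intro U
    rw [Scheme.Hom.ker_apply]
    simp only [Scheme.IdealSheafData.ideal_bot, Pi.bot_apply]
    exact (RingHom.injective_iff_ker_eq_bot _).mp (f.toImage_app_injective U)

instance {X Y : Scheme.{u}} (f : X ⟶ Y) [QuasiCompact f] :
    IsSchemeTheoreticallyDominant f.toImage := ⟨ker_toImage f⟩


open CategoryTheory.Limits in
/-- Let f : X → Y be a quasi-compact morphism of schemes and g : Y' → Y a flat morphism, and let f' : X
×_Y Y' → Y' be the base change of f. Then the scheme-theoretic image of f' is the inverse image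
under g of the scheme-theoretic image of f: the quasi-coherent ideal sheaf cutting out the former is
the pull-back along g of the one cutting out the latter. (One published statement is phrased for a
quasi-compact and quasi-separated S-morphism f and a flat base change S′ → S, which reduces to this
case; quasi-compactness of f suffices.) -/
theorem result {X Y Y' : Scheme.{u}} (f : X ⟶ Y) (g : Y' ⟶ Y)
    [QuasiCompact f] [Flat g] :
    (pullback.snd f g).ker = f.ker.comap g := by
  -- the base change of `f.toImage`
  let h : pullback f g ⟶ pullback f.imageι g :=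
    pullback.map f g f.imageι g f.toImage (𝟙 _) (𝟙 _) (by simp) (by simp)
  have hfst : h ≫ pullback.fst f.imageι g = pullback.fst f g ≫ f.toImage :=
    pullback.lift_fst _ _ _
  have hsnd : h ≫ pullback.snd f.imageι g = pullback.snd f g :=
    (pullback.lift_snd _ _ _).trans (Category.comp_id _)
  have hpb : IsPullback (pullback.fst f g) h f.toImage (pullback.fst f.imageι g) := by
    refine IsPullback.of_bot ?_ hfst.symm (IsPullback.of_hasPullback f.imageι g)
    rw [hsnd, Scheme.Hom.toImage_imageι]
    exact IsPullback.of_hasPullback f g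
  have hdom : IsSchemeTheoreticallyDominant h := IsSchemeTheoreticallyDominant.of_isPullback hpb
  rw [← hsnd, Scheme.Hom.ker_comp, hdom.ker_eq_bot, Scheme.IdealSheafData.map_bot]
  rw [Scheme.IdealSheafData.comap]
  change _ = (pullback.fst g f.imageι).ker
  rw [← pullbackSymmetry_hom_comp_snd, Scheme.Hom.ker_comp_of_isIso]

end Groth.Agent.S4667
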