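import Groth.Statements.S4674
import Mathlib.RingTheory.Flat.Basic
import Mathlib.Algebra.Module.FinitePresentation
import Mathlib.RingTheory.Ideal.Maps

set_option autoImplicit false
open scoped TensorProduct
universe u v w
open FDesc

namespace Groth.Agent.S4674

/-- Let B be a flat A-algebra and M a finitely presented A-module. Then the annihilator of the B-module
B ⊗_A M is the ideal of B generated by the image of the annihilator of M. -/
theorem result {A : Type u} {B : Type v} [CommRing A] [CommRing B] [Algebra A B]
    [Module.Flat A B] (M : Type w) [AddCommGroup M] [Module A M] [Module.FinitePresentation A M] :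
    Module.annihilator B (B ⊗[A] M) = (Module.annihilator A M).map (algebraMap A B) := by
  apply le_antisymm
  · intro b hb
    rw [Module.mem_annihilator] at hb
    obtain ⟨n, s, hs⟩ := Module.Finite.exists_fin (R := A) (M := M)
    let f : Module.annihilator A M →ₗ[A] A := Submodule.subtype _
    let g : A →ₗ[A] (Fin n → M) := LinearMap.pi (fun i => LinearMap.toSpanSingleton A M (s i))
    have hfg : Function.Exact f g := by
      intro a
      constructor
      · intro ha
        refine ⟨⟨a, ?_⟩, rfl⟩
        rw [Module.mem_annihilator]
        intro m
        have hm : m ∈ Submodule.span A (Set.range s) := hs ▸ Submodule.mem_top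
        induction hm using Submodule.span_induction with
        | mem x hx =>
          obtain ⟨i, rfl⟩ := hx
          have := congrFun ha i
          simpa [g] using this
        | zero => simp
        | add x y _ _ hx hy => rw [smul_add, hx, hy, add_zero]
        | smul c x _ hx => rw [smul_comm, hx, smul_zero]
      · rintro ⟨⟨a', ha'⟩, rfl⟩
        rw [Module.mem_annihilator] at ha'
        ext i
        simp [g, f, ha']
    have hex := Module.Flat.lTensor_exact B hfg
    have hker : (g.lTensor B) (b ⊗ₜ[A] (1 : A)) = 0 := by
      rw [LinearMap.lTensor_tmul]
      have h1 : g 1 = ∑ i, Pi.single i (s i) := by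
        ext j
        simp [g, Finset.sum_apply, Pi.single_apply]
      rw [h1, TensorProduct.tmul_sum]
      apply Finset.sum_eq_zero
      intro i _
      have h2 : b ⊗ₜ[A] (Pi.single i (s i) : Fin n → M) =
          (LinearMap.lTensor B (LinearMap.single A (fun _ : Fin n => M) i)) (b ⊗ₜ[A] s i) := by
        simp
      rw [h2]
      have h3 : b ⊗ₜ[A] s i = b • ((1 : B) ⊗ₜ[A] s i) := by
        rw [TensorProduct.smul_tmul', smul_eq_mul, mul_one]
      rw [h3, hb, map_zero]
    obtain ⟨t, ht⟩ := (hex _).mp hker
    -- apply the multiplication map B ⊗ A → B
    have key : ∀ t : B ⊗[A] (Module.annihilator A M),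
        (TensorProduct.rid A B) ((f.lTensor B) t) ∈ (Module.annihilator A M).map (algebraMap A B) := by
      intro t
      induction t using TensorProduct.induction_on with
      | zero => simp
      | tmul x y =>
        simp only [LinearMap.lTensor_tmul, TensorProduct.rid_tmul, f, Submodule.subtype_apply]
        rw [Algebra.smul_def, mul_comm]
        exact Ideal.mul_mem_left _ _ (Ideal.mem_map_of_mem _ y.2)
      | add x y hx hy =>
        rw [map_add, map_add]
        exact Ideal.add_mem _ hx hy
    have := key t
    rw [ht] at this
    simpa using this
  · rw [Ideal.map_le_iff_le_comap]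
    intro a ha
    rw [Module.mem_annihilator] at ha
    rw [Ideal.mem_comap, Module.mem_annihilator]
    intro x
    induction x using TensorProduct.induction_on with
    | zero => simp
    | tmul b m =>
      rw [TensorProduct.smul_tmul', smul_eq_mul, ← Algebra.smul_def,
        TensorProduct.smul_tmul, ha, TensorProduct.tmul_zero]
    | add x y hx hy => rw [smul_add, hx, hy, add_zero]

end Groth.Agent.S4674
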