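import Groth.Statements.S4675
import Mathlib.Algebra.Module.Submodule.Equiv

set_option autoImplicit false
universe u v
open FDesc

namespace Groth.Agent.S4675

/-- Let B be a ring, not necessarily commutative, and V, W two left B-modules which are isomorphic. For
a B-linear map u : V → W the following are equivalent: every B-linear map V → W can be written
uniquely as u ∘ c with c a B-linear endomorphism of V (that is, u is a basis of Hom_B(V, W) for its
right module structure over End_B(V)); u is bijective. -/
theorem result {B : Type u} [Ring B] {V W : Type v} [AddCommGroup V] [AddCommGroup W]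
    [Module B V] [Module B W] (e : V ≃ₗ[B] W) (u : V →ₗ[B] W) :
    (∀ v : V →ₗ[B] W, ∃! c : V →ₗ[B] V, v = u ∘ₗ c) ↔ Function.Bijective u := by
  constructor
  · intro h
    obtain ⟨c₀, hc₀, -⟩ := h e.toLinearMap
    have hsurj : Function.Surjective u := by
      intro w
      refine ⟨c₀ (e.symm w), ?_⟩
      have := congrArg (fun f : V →ₗ[B] W => f (e.symm w)) hc₀
      simpa using this.symm
    obtain ⟨c₁, -, huniq⟩ := h u
    have h1 : (LinearMap.id : V →ₗ[B] V) = c₁ := huniq _ (by simp)
    have h2 : c₀ ∘ₗ e.symm.toLinearMap ∘ₗ u = c₁ := by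
      apply huniq
      rw [← LinearMap.comp_assoc, ← LinearMap.comp_assoc, ← hc₀]
      ext x
      simp
    have hinj : Function.Injective u := by
      have h3 : c₀ ∘ₗ e.symm.toLinearMap ∘ₗ u = LinearMap.id := h2.trans h1.symm
      intro x y hxy
      have hx := congrArg (fun f : V →ₗ[B] V => f x) h3
      have hy := congrArg (fun f : V →ₗ[B] V => f y) h3
      simp only [LinearMap.coe_comp, Function.comp_apply, LinearMap.id_coe, id_eq] at hx hy
      rw [← hx, ← hy, hxy]
    exact ⟨hinj, hsurj⟩
  · intro hu v
    let ue := LinearEquiv.ofBijective u hu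
    refine ⟨ue.symm.toLinearMap ∘ₗ v, ?_, ?_⟩
    · ext x
      simp [ue]
    · intro c hc
      ext x
      simp only [LinearMap.coe_comp, LinearEquiv.coe_coe, Function.comp_apply]
      rw [hc]
      simp [ue]

end Groth.Agent.S4675
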