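import Groth.Statements.S4685
import Groth.Agent.H29.AssTensorH

set_option autoImplicit false
open CategoryTheory AlgebraicGeometry
universe u
open AssSch

namespace Groth.Agent.S4685


open CategoryTheory.Limits in
/-- Let f : X → S and g : Y → S be morphisms of schemes with X, Y and X ×_S Y locally Noetherian, F a
quasi-coherent O_X-module without embedded associated points, and G a quasi-coherent O_Y-module,
flat over S, whose restriction to every fibre g⁻¹(s) has no embedded associated points. Then F ⊗_S G
(the tensor product on X ×_S Y of the pull-backs of F and G along the two projections) has no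
embedded associated points. (The published statement assumes only X, the fibres of g and the schemes
Spec κ(x) ×_S Spec κ(y) locally Noetherian; this row assumes Y and X ×_S Y locally Noetherian, which
implies all of these, so that associated points are those whose maximal ideal is the annihilator of
an element of the stalk.) -/
theorem result {X Y S : Scheme.{u}} (f : X ⟶ S) (g : Y ⟶ S)
    [IsLocallyNoetherian X] [IsLocallyNoetherian Y] [IsLocallyNoetherian (pullback f g)]
    (F : X.Modules) (hF : Coh.IsQCoh F) (G : Y.Modules) (hG : Coh.IsQCoh G) (hGfl : FlatMod.IsFlatOver g G)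
    (hFne : AssSch.NoEmbedded F)
    (hGne : ∀ s : ↥S, AssSch.NoEmbedded ((Scheme.Modules.pullback (g.fiberι s)).obj G)) :
    AssSch.NoEmbedded (CohB1.tensorMod ((Scheme.Modules.pullback (pullback.fst f g)).obj F) ((Scheme.Modules.pullback (pullback.snd f g)).obj G)) := by
  haveI : G.IsQuasicoherent := hG
  intro z hz z' hz' hsp
  obtain ⟨x, z₁, rfl⟩ : ∃ (x : X) (z₁ : (pullback.fst f g).fiber x),
      (pullback.fst f g).fiberι x z₁ = z :=
    ⟨pullback.fst f g z, (pullback.fst f g).asFiber z, (pullback.fst f g).fiberι_asFiber z⟩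
  obtain ⟨x', z₁', rfl⟩ : ∃ (x' : X) (z₁' : (pullback.fst f g).fiber x'),
      (pullback.fst f g).fiberι x' z₁' = z' :=
    ⟨pullback.fst f g z', (pullback.fst f g).asFiber z', (pullback.fst f g).fiberι_asFiber z'⟩
  obtain ⟨hx, hy, hfs⟩ :=
    (Groth.Agent.H29.AssTensor.isAssPoint_tensorS_iff f g F G hGfl x z₁).mp hz
  obtain ⟨hx', hy', hfs'⟩ :=
    (Groth.Agent.H29.AssTensor.isAssPoint_tensorS_iff f g F G hGfl x' z₁').mp hz'
  have hspx : x' ⤳ x := by
    have := hsp.map (pullback.fst f g).continuous
    rwa [Groth.Agent.H29.AssTensor.fiberι_apply', Groth.Agent.H29.AssTensor.fiberι_apply'] at this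
  have hxx : x = x' := hFne x hx x' hx' hspx
  subst hxx
  have hsp1 : z₁' ⤳ z₁ := Groth.Agent.H29.AssTensor.specializes_of_fiberι _ _ _ _ hsp
  have hspy : Groth.Agent.H29.AssTensor.fibMap f g x z₁' ⤳
      Groth.Agent.H29.AssTensor.fibMap f g x z₁ :=
    hsp1.map (Groth.Agent.H29.AssTensor.fibMap f g x).continuous
  have hyy := hGne (f x) _ hy _ hy' hspy
  have hY : Groth.Agent.H29.AssTensor.fibToY f g x z₁ =
      Groth.Agent.H29.AssTensor.fibToY f g x z₁' := by
    have e1 := Groth.Agent.H29.AssTensor.fibMap_apply f g x z₁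
    have e2 := Groth.Agent.H29.AssTensor.fibMap_apply f g x z₁'
    rw [hyy] at e1
    have := e1.symm.trans e2
    simpa only [Scheme.Hom.comp_apply] using this
  rw [Groth.Agent.H29.AssTensor.fiber_point_eq_of_specializes f g x z₁ z₁' hsp1 hY hfs hfs']

end Groth.Agent.S4685
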