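import Groth.Statements.S4691
import Groth.Agent.H24.DimChains

set_option autoImplicit false
universe u
open EGA4

namespace Groth.Agent.S4691

open AlgebraicGeometry CategoryTheory in
/-- Let Y be a locally Noetherian scheme, f : X → Y a morphism locally of finite type and n a natural
number such that every fibre of f has dimension at most n. Then dim X ≤ dim Y + n. -/
theorem result {X Y : Scheme.{u}} (f : X ⟶ Y) [IsLocallyNoetherian Y]
    [LocallyOfFiniteType f] (n : ℕ) (h : ∀ y : Y, topologicalKrullDim (f.fiber y) ≤ n) :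
    topologicalKrullDim X ≤ topologicalKrullDim Y + n := by
  rw [H24.topologicalKrullDim_eq_krullDim_specializationOrder X]
  let _ := specializationOrder X
  unfold Order.krullDim
  refine iSup_le fun p => ?_
  obtain ⟨V, U, hV, hU, hxU, hUV⟩ := H24.exists_affine_charts f p.head
  have : IsNoetherianRing Γ(Y, V) := IsLocallyNoetherian.component_noetherian ⟨V, hV⟩
  let φ : Γ(Y, V) →+* Γ(X, U) := (f.appLE V U hUV).hom
  have hft : φ.FiniteType :=
    HasRingHomProperty.appLE @LocallyOfFiniteType f inferInstance ⟨V, hV⟩ ⟨U, hU⟩ hUV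
  let _ := φ.toAlgebra
  have : IsNoetherianRing Γ(X, U) := by
    have : Algebra.FiniteType Γ(Y, V) Γ(X, U) := hft
    exact Algebra.FiniteType.isNoetherianRing Γ(Y, V) Γ(X, U)
  have hmem : ∀ i, p i ∈ U := by
    intro i
    have hle : p.head ≤ p i := p.monotone (Fin.zero_le i)
    have hs : p i ⤳ p.head := hle
    exact hs.mem_open U.isOpen hxU
  have hspec : ∀ a b : X, ∀ (ha : a ∈ U) (hb : b ∈ U), a ⤳ b →
      hU.primeIdealOf ⟨a, ha⟩ ≤ hU.primeIdealOf ⟨b, hb⟩ := by
    intro a b ha hb hab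
    rw [PrimeSpectrum.le_iff_specializes]
    refine (hU.fromSpec.isOpenEmbedding.isInducing.specializes_iff).mp ?_
    rw [hU.fromSpec_primeIdealOf ⟨a, ha⟩, hU.fromSpec_primeIdealOf ⟨b, hb⟩]
    exact hab
  let 𝔮 : PrimeSpectrum Γ(X, U) := hU.primeIdealOf ⟨p.head, hxU⟩
  have h1 : (p.length : ℕ∞) ≤ 𝔮.asIdeal.height := by
    rw [PrimeSpectrum.height_eq_orderHeight]
    let l : LTSeries (PrimeSpectrum Γ(X, U)) :=
      { length := p.length
        toFun := fun i => hU.primeIdealOf ⟨p (Fin.rev i), hmem _⟩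
        step := fun i => by
          change hU.primeIdealOf ⟨p (Fin.rev i.castSucc), hmem _⟩ <
            hU.primeIdealOf ⟨p (Fin.rev i.succ), hmem _⟩
          have hlt : p (Fin.rev i).castSucc < p (Fin.rev i).succ := p.step (Fin.rev i)
          have hs : p (Fin.rev i).succ ⤳ p (Fin.rev i).castSucc := hlt.le
          have key : ∀ (a b : X) (ha : a ∈ U) (hb : b ∈ U), a ⤳ b → a ≠ b →
              hU.primeIdealOf ⟨a, ha⟩ < hU.primeIdealOf ⟨b, hb⟩ := by
            intro a b ha hb hab hne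
            refine lt_of_le_of_ne (hspec a b ha hb hab) fun heq => hne ?_
            exact H24.primeIdealOf_injective hU ha hb heq
          have := key _ _ (hmem (Fin.rev i).succ) (hmem (Fin.rev i).castSucc) hs hlt.ne'
          convert this using 3
          · rw [Fin.rev_castSucc]
          · rw [Fin.rev_succ] }
    have hl : l.last = 𝔮 := by
      change hU.primeIdealOf ⟨p (Fin.rev (Fin.last _)), hmem _⟩ = hU.primeIdealOf ⟨p.head, hxU⟩
      congr 2
      rw [Fin.rev_last]
      rfl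
    have := Order.length_le_height_last (p := l)
    rw [hl] at this
    exact this
  set 𝔭 : Ideal Γ(Y, V) := 𝔮.asIdeal.comap φ with h𝔭
  have : 𝔮.asIdeal.LiesOver 𝔭 := ⟨rfl⟩
  have h2 := Ideal.height_le_height_add_of_liesOver 𝔭 𝔮.asIdeal
  have h3 := H24.height_le_topologicalKrullDim hV 𝔭
  have h4 := H24.height_map_mk_le_topologicalKrullDim_fiber f hV hU hUV 𝔮.asIdeal
  have h5 := h4.trans (h _)
  calc ((p.length : ℕ) : WithBot ℕ∞) = ((p.length : ℕ∞) : WithBot ℕ∞) := rfl
    _ ≤ ((𝔮.asIdeal.height : ℕ∞) : WithBot ℕ∞) := WithBot.coe_le_coe.mpr h1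
    _ ≤ ((𝔭.height + (𝔮.asIdeal.map (Ideal.Quotient.mk (𝔭.map φ))).height : ℕ∞) : WithBot ℕ∞) :=
        WithBot.coe_le_coe.mpr h2
    _ = ((𝔭.height : ℕ∞) : WithBot ℕ∞) +
          (((𝔮.asIdeal.map (Ideal.Quotient.mk (𝔭.map φ))).height : ℕ∞) : WithBot ℕ∞) :=
        WithBot.coe_add _ _
    _ ≤ topologicalKrullDim Y + n := add_le_add h3 h5

end Groth.Agent.S4691
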