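import Groth.Statements.S4693
import Groth.Agent.H29.FlatDim

set_option autoImplicit false
universe u
open EGA4

namespace Groth.Agent.S4693

open TensorProduct in
theorem aux (A B : Type u) [CommRing A] [CommRing B] [IsNoetherianRing A]
    [IsNoetherianRing B] [IsLocalRing A] [IsLocalRing B] [Algebra A B] [IsLocalHom (algebraMap A B)]
    (h0 : ringKrullDim (EGA4.FibRing A B) = 0)
    (N : Type u) [AddCommGroup N] [Module B N] [Module A N] [IsScalarTower A B N]
    [Module.Finite B N] [Module.Flat A N] (hN : Module.support B N = Set.univ) :
    ringKrullDim B = ringKrullDim A := by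
  have hnt : Nontrivial N := by
    by_contra hns
    rw [not_nontrivial_iff_subsingleton] at hns
    have : Module.support B N = ∅ := Module.support_eq_empty
    rw [hN] at this
    exact Set.univ_nonempty.ne_empty this
  have key := Groth.Agent.H29.FlatDim.supportDim_tensor_eq (A := A) (B := B) A N
  have hA : Module.support A A = Set.univ := by
    rw [Set.eq_univ_iff_forall]
    intro p
    rw [Module.mem_support_iff_of_finite]
    intro a ha
    have h := Module.mem_annihilator.mp ha 1
    rw [smul_eq_mul, mul_one] at h
    rw [h]
    exact zero_mem _
  have h1 : Module.supportDim B (N ⊗[A] A) = ringKrullDim B := by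
    unfold Module.supportDim
    rw [Groth.Agent.H29.SuppTensor.support_tensor, hA, Set.preimage_univ,
      Set.inter_univ, hN]
    exact Order.krullDim_eq_of_orderIso OrderIso.Set.univ
  have h2 : Module.supportDim B (EGA4.FibMod A B N) = 0 := by
    unfold Module.supportDim
    rw [Module.support_quotient, hN, Set.univ_inter, ← ringKrullDim_quotient]
    exact h0
  rw [h1, h2, add_zero, Module.supportDim_self_eq_ringKrullDim] at key
  exact key

/-- Let A → B be a local homomorphism of Noetherian local rings such that the closed fibre ring B/m_A B
has Krull dimension 0 (that is, m_A B is an ideal of definition of B). Then dim B ≤ dim A. If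
moreover some finite B-module which is flat over A has support equal to all of Spec B (for instance
if B is flat over A), then dim B = dim A. -/
theorem result (A B : Type u) [CommRing A] [CommRing B] [IsNoetherianRing A]
    [IsNoetherianRing B] [IsLocalRing A] [IsLocalRing B] [Algebra A B] [IsLocalHom (algebraMap A B)]
    (h0 : ringKrullDim (EGA4.FibRing A B) = 0) :
    ringKrullDim B ≤ ringKrullDim A ∧
      (∀ (N : Type u) [AddCommGroup N] [Module B N] [Module A N] [IsScalarTower A B N] [Module.Finite B N]
          [Module.Flat A N], Module.support B N = Set.univ → ringKrullDim B = ringKrullDim A) := by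
  refine ⟨?_, ?_⟩
  · have h1 := Groth.Agent.H29.DimL.ringKrullDim_le_add_fibre A B
    have h0' : ringKrullDim (B ⧸ (IsLocalRing.maximalIdeal A).map (algebraMap A B)) = 0 := h0
    rw [h0', add_zero] at h1
    exact h1
  · intro N _ _ _ _ _ _ hN
    exact aux A B h0 N hN

end Groth.Agent.S4693
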