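import Mathlib
import Groth.Statements.S4694
import Groth.Agent.H72.DepthFlatCor
-- import your own Groth.Agent.* helpers here

set_option autoImplicit false
universe u
open EGA4

namespace Groth.Agent.S4694

open TensorProduct Groth.Agent.H72.DepthFlat

open TensorProduct in
/-- Let A → B be a local homomorphism of Noetherian local rings, M a finite A-module and N a nonzero
finite B-module, flat over A, whose closed-fibre module N/m_A N has finite length. Then the depth of
the B-module N ⊗_A M equals the depth of the A-module M. (The companion equality of codepths in the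
published item is not restated.) -/
theorem result {A B M N : Type u} [CommRing A] [CommRing B]
    [IsNoetherianRing A] [IsNoetherianRing B] [IsLocalRing A] [IsLocalRing B] [Algebra A B]
    [IsLocalHom (algebraMap A B)] [AddCommGroup M] [Module A M] [Module.Finite A M]
    [AddCommGroup N] [Module B N] [Module A N] [IsScalarTower A B N] [Module.Finite B N] [Nontrivial N]
    [Module.Flat A N] (hN : IsFiniteLength B (EGA4.FibMod A B N)) :
    LocCoh.depth B (N ⊗[A] M) = LocCoh.depth A M := by
  have hnt : Nontrivial (EGA4.FibMod A B N) := by
    rw [Submodule.Quotient.nontrivial_iff]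
    intro h
    have hle : EGA4.mB A B ≤ IsLocalRing.maximalIdeal B :=
      IsLocalRing.map_maximalIdeal_le (algebraMap A B)
    apply Submodule.top_ne_ideal_smul_of_le_jacobson_annihilator (R := B) (M := N)
      (I := EGA4.mB A B) _ h.symm
    exact hle.trans (IsLocalRing.maximalIdeal_le_jacobson _)
  have h0 : LocCoh.depth B (EGA4.FibMod A B N) = 0 := depth_eq_zero_of_isFiniteLength _ hN
  have key := depth_tensor_eq_add_quotient (R := A) (S := B) N M
  have h0' : LocCoh.depth B (N ⧸ (Ideal.map (algebraMap A B) (IsLocalRing.maximalIdeal A)) •
      (⊤ : Submodule B N)) = 0 := h0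
  rw [key, h0', add_zero]

end Groth.Agent.S4694
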