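import Groth.Statements.S4704
import Groth.Agent.H26.ComplFlatMap
import Groth.Agent.H26.RegHomComp
import Groth.Agent.H26.RegHomDescent

set_option autoImplicit false
universe u
open EGA4

namespace Groth.Agent.S4704

/-- Let A → A' be a local homomorphism of Noetherian local rings which is regular (flat, with
geometrically regular fibres). If the completion map of A' is regular (the formal fibres of A' are
geometrically regular), then the completion map of A is regular. -/
theorem result (A A' : Type u) [CommRing A] [CommRing A'] [IsNoetherianRing A]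
    [IsNoetherianRing A'] [IsLocalRing A] [IsLocalRing A'] [Algebra A A'] [IsLocalHom (algebraMap A A')]
    (hf : CAlg.IsRegularHom A A') (hA' : CAlg.IsRegularHom A' (EGA4.Cpl A')) :
    CAlg.IsRegularHom A (EGA4.Cpl A) := by
  haveI : Module.Flat A A' := hf.1
  letI := Groth.Agent.H26.ComplFlatMap.complAlgebra A A'
  haveI := Groth.Agent.H26.ComplFlatMap.isScalarTower A A'
  haveI := Groth.Agent.H26.ComplFlatMap.faithfullyFlat_complHom A A'
  haveI : IsNoetherianRing (EGA4.Cpl A') := Groth.Agent.H20.isNoetherianRing_adicCompletion _
  have hcomp : CAlg.IsRegularHom A (EGA4.Cpl A') := by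
    refine Groth.Agent.H26.RegHomComp.isRegularHom_comp A A' (EGA4.Cpl A') hf hA' (fun p hp => ?_)
    have h1 : Algebra.EssFiniteType (EGA4.Cpl A') (TensorProduct A (EGA4.Cpl A') p.ResidueField) :=
      inferInstance
    have h2 : IsNoetherianRing (TensorProduct A (EGA4.Cpl A') p.ResidueField) :=
      Algebra.EssFiniteType.isNoetherianRing (EGA4.Cpl A') _
    exact isNoetherianRing_of_ringEquiv _
      (Algebra.TensorProduct.comm A (EGA4.Cpl A') p.ResidueField).toRingEquiv
  exact Groth.Agent.H26.RegHomDescent.isRegularHom_of_comp_of_faithfullyFlat A (EGA4.Cpl A)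
    (EGA4.Cpl A') hcomp

end Groth.Agent.S4704
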