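import Groth.Statements.S4752
import Groth.Agent.H24.ReducedAscent
import Mathlib.RingTheory.EssentialFiniteness
import Mathlib.RingTheory.Localization.Submodule
import Mathlib.RingTheory.Ideal.MinimalPrime.Noetherian

set_option autoImplicit false
universe u
open EGA4

namespace Groth.Agent.S4752

open TensorProduct in
/-- Base change of the `k`-subalgebra `K` of an algebraic closure of `k = κ(p)` to `B` is reduced
when the fibre of `B` at `p` is geometrically reduced. -/
theorem aux_reduced (A B : Type u) [CommRing A] [CommRing B] [Algebra A B] [Module.Flat A B]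
    (p : Ideal A) [p.IsPrime]
    (hAB : Algebra.IsGeometricallyReduced p.ResidueField (p.Fiber B))
    (K : Subalgebra p.ResidueField (AlgebraicClosure p.ResidueField)) :
    IsReduced (B ⊗[A] K) := by
  have h1 : IsReduced (AlgebraicClosure p.ResidueField ⊗[p.ResidueField] (p.Fiber B)) :=
    (Algebra.isGeometricallyReduced_field_iff _ _).mp hAB
  have h2 : IsReduced (AlgebraicClosure p.ResidueField ⊗[A] B) :=
    isReduced_of_injective (Algebra.TensorProduct.cancelBaseChange A p.ResidueField
      p.ResidueField (AlgebraicClosure p.ResidueField) B).symm.toRingHom (AlgEquiv.injective _)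
  let ι : K →ₐ[A] AlgebraicClosure p.ResidueField := K.val.restrictScalars A
  let g : K ⊗[A] B →ₐ[A] AlgebraicClosure p.ResidueField ⊗[A] B :=
    Algebra.TensorProduct.map ι (AlgHom.id A B)
  have hg : Function.Injective g :=
    Module.Flat.rTensor_preserves_injective_linearMap (M := B) ι.toLinearMap Subtype.val_injective
  let e : B ⊗[A] K ≃ₐ[A] K ⊗[A] B := Algebra.TensorProduct.comm A B K
  let G : B ⊗[A] K →+* AlgebraicClosure p.ResidueField ⊗[A] B := g.toRingHom.comp e.toRingHom
  have hG : Function.Injective G := fun x y hxy => e.injective (hg hxy)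
  exact isReduced_of_injective G hG

open TensorProduct in
/-- Case of reduced morphisms, affine form: let A → B → C be homomorphisms of Noetherian rings, both
flat and with geometrically reduced fibres. Then the composite A → C is flat with geometrically
reduced fibres. -/
theorem result (A B C : Type u) [CommRing A] [CommRing B] [CommRing C] [IsNoetherianRing A]
    [IsNoetherianRing B] [IsNoetherianRing C] [Algebra A B] [Algebra B C] [Algebra A C] [IsScalarTower A B C]
    [Module.Flat A B] [Module.Flat B C]
    (hAB : ∀ (p : Ideal A) [p.IsPrime], Algebra.IsGeometricallyReduced p.ResidueField (p.Fiber B))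
    (hBC : ∀ (q : Ideal B) [q.IsPrime], Algebra.IsGeometricallyReduced q.ResidueField (q.Fiber C)) :
    Module.Flat A C ∧ ∀ (p : Ideal A) [p.IsPrime], Algebra.IsGeometricallyReduced p.ResidueField (p.Fiber C) := by
  have hflat : Module.Flat A C := Module.Flat.trans A B C
  refine ⟨hflat, fun p _ => ?_⟩
  have hBC' : ∀ (q : Ideal B) [q.IsPrime],
      IsReduced (AlgebraicClosure q.ResidueField ⊗[B] C) := by
    intro q _
    have h1 : IsReduced (AlgebraicClosure q.ResidueField ⊗[q.ResidueField] (q.Fiber C)) :=
      (Algebra.isGeometricallyReduced_field_iff _ _).mp (hBC q)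
    exact isReduced_of_injective (Algebra.TensorProduct.cancelBaseChange B q.ResidueField
      q.ResidueField (AlgebraicClosure q.ResidueField) C).symm.toRingHom (AlgEquiv.injective _)
  rw [Algebra.isGeometricallyReduced_field_iff]
  suffices h : IsReduced ((p.Fiber C) ⊗[p.ResidueField] AlgebraicClosure p.ResidueField) from
    isReduced_of_injective (Algebra.TensorProduct.comm p.ResidueField
      (AlgebraicClosure p.ResidueField) (p.Fiber C)).toRingHom (AlgEquiv.injective _)
  refine IsReduced.tensorProduct_of_flat_of_forall_fg ?_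
  intro K hK
  -- the ring `R = B ⊗[A] K`
  have hred : IsReduced (B ⊗[A] K) := aux_reduced A B p (hAB p) K
  have hKint : Algebra.IsIntegral p.ResidueField K := by
    refine ⟨fun x => ?_⟩
    rw [← isIntegral_algHom_iff K.val Subtype.val_injective]
    exact Algebra.IsIntegral.isIntegral _
  have hKft : Algebra.FiniteType p.ResidueField K := (Subalgebra.fg_iff_finiteType K).mp hK
  have hKess : Algebra.EssFiniteType A K := Algebra.EssFiniteType.comp A p.ResidueField K
  have hRnoeth : IsNoetherianRing (B ⊗[A] K) := Algebra.EssFiniteType.isNoetherianRing B _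
  have hfin : (minimalPrimes (B ⊗[A] K)).Finite := minimalPrimes.finite_of_isNoetherianRing _
  have key : IsReduced ((B ⊗[A] K) ⊗[B] C) := by
    refine H24.isReduced_tensor_of_geomReducedFibres B C (B ⊗[A] K) hBC' hfin ?_
    intro Q hQ
    have : Q.IsPrime := hQ.1.1
    exact H24.exists_algHom_residueField_algebraicClosure A B p K Q
  -- transport along `(k ⊗[A] C) ⊗[k] K ≃ K ⊗[k] (k ⊗[A] C) ≃ K ⊗[A] C ≃ C ⊗[A] K ≃ C ⊗[B] (B ⊗[A] K)`
  let e1 : (p.Fiber C) ⊗[p.ResidueField] K ≃ₐ[p.ResidueField] K ⊗[p.ResidueField] (p.Fiber C) :=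
    Algebra.TensorProduct.comm p.ResidueField (p.Fiber C) K
  let e2 : K ⊗[p.ResidueField] (p.Fiber C) ≃ₐ[p.ResidueField] K ⊗[A] C :=
    Algebra.TensorProduct.cancelBaseChange A p.ResidueField p.ResidueField K C
  let e3 : K ⊗[A] C ≃ₐ[A] C ⊗[A] K := Algebra.TensorProduct.comm A K C
  let e4 : C ⊗[B] (B ⊗[A] K) ≃ₐ[B] C ⊗[A] K := Algebra.TensorProduct.cancelBaseChange A B B C K
  let e5 : (B ⊗[A] K) ⊗[B] C ≃ₐ[B] C ⊗[B] (B ⊗[A] K) := Algebra.TensorProduct.comm B (B ⊗[A] K) C
  let G : (p.Fiber C) ⊗[p.ResidueField] K →+* (B ⊗[A] K) ⊗[B] C :=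
    e5.symm.toRingHom.comp (e4.symm.toRingHom.comp (e3.toRingHom.comp
      (e2.toRingHom.comp e1.toRingHom)))
  have hG : Function.Injective G := fun x y hxy =>
    e1.injective (e2.injective (e3.injective (e4.symm.injective (e5.symm.injective hxy))))
  exact isReduced_of_injective G hG

end Groth.Agent.S4752
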