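import Groth.Statements.S4705
import Groth.Agent.H26.ComplFlatMap
import Groth.Agent.H26.FibreProp
import Groth.Agent.H26.RegHomField
import Groth.Agent.S4752

set_option autoImplicit false
universe u
open EGA4

namespace Groth.Agent.S4705

/-- Let A → A' be a flat local homomorphism of Noetherian local rings all of whose fibre rings k(p) ⊗_A
A' are geometrically reduced over k(p). If the completion map of A' is regular (the formal fibres of
A' are geometrically regular), then the formal fibres of A are geometrically reduced. -/
theorem result (A A' : Type u) [CommRing A] [CommRing A']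
    [IsNoetherianRing A] [IsNoetherianRing A'] [IsLocalRing A] [IsLocalRing A'] [Algebra A A']
    [IsLocalHom (algebraMap A A')] [Module.Flat A A']
    (hf : ∀ (p : Ideal A) [p.IsPrime], Algebra.IsGeometricallyReduced p.ResidueField (p.Fiber A'))
    (hA' : CAlg.IsRegularHom A' (EGA4.Cpl A')) : EGA4.HasGeomReducedFormalFibres A := by
  intro p hp
  letI := Groth.Agent.H26.ComplFlatMap.complAlgebra A A'
  haveI := Groth.Agent.H26.ComplFlatMap.isScalarTower A A'
  haveI := Groth.Agent.H26.ComplFlatMap.faithfullyFlat_complHom A A'
  haveI : IsNoetherianRing (EGA4.Cpl A') := Groth.Agent.H20.isNoetherianRing_adicCompletion _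
  haveI : Module.Flat A' (EGA4.Cpl A') := hA'.1
  have hBC : ∀ (q : Ideal A') [q.IsPrime],
      Algebra.IsGeometricallyReduced q.ResidueField (q.Fiber (EGA4.Cpl A')) := fun q _ =>
    Groth.Agent.H26.RegHomField.isGeometricallyReduced_of_isGeometricallyRegular _ _ (hA'.2 q).2
  have hcomp := (Groth.Agent.S4752.result A A' (EGA4.Cpl A') hf hBC).2 p
  rw [Algebra.isGeometricallyReduced_field_iff] at hcomp
  show Algebra.IsGeometricallyReduced p.ResidueField (p.Fiber (EGA4.Cpl A))
  rw [Algebra.isGeometricallyReduced_field_iff]
  exact Groth.Agent.H26.FibreProp.descent_generic (fun X _ => IsReduced X)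
    (fun X Y _ _ e h => isReduced_of_injective e.symm e.symm.injective)
    (fun R S _ _ _ _ h => isReduced_of_injective (algebraMap R S)
      (FaithfulSMul.algebraMap_injective R S))
    A (EGA4.Cpl A) (EGA4.Cpl A') p (AlgebraicClosure p.ResidueField) hcomp

end Groth.Agent.S4705
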