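import Groth.Statements.S4707
import Groth.Agent.H13.IntClosureBCGeneral
-- import your own Groth.Agent.* helpers here

set_option autoImplicit false
set_option linter.style.haveILetI false
universe u
open EGA4

namespace Groth.Agent.S4707

open TensorProduct in
/-- Let A be a Noetherian ring and A' a Noetherian A-algebra such that A → A' is a normal homomorphism
(flat, with geometrically normal fibres). Let B → C be a homomorphism of A-algebras and D the
integral closure of B in C. Then the integral closure in A' ⊗_A C of the image of A' ⊗_A B is the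
image of A' ⊗_A D. (No finiteness is assumed on B or C.) -/
theorem result (A A' : Type u) [CommRing A] [CommRing A']
    [IsNoetherianRing A] [IsNoetherianRing A'] [Algebra A A'] (h : EGA4.IsNormalHom A A')
    (B C : Type u) [CommRing B] [CommRing C] [Algebra A B] [Algebra A C] [Algebra B C] [IsScalarTower A B C] :
    (integralClosure
          ↥(Algebra.TensorProduct.map (AlgHom.id A' A') (IsScalarTower.toAlgHom A B C)).range (A' ⊗[A] C) :
        Set (A' ⊗[A] C)) =
      Set.range (Algebra.TensorProduct.map (AlgHom.id A' A')
        ((integralClosure B C).val.restrictScalars A)) := by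
  classical
  ext x
  constructor
  · intro hx
    have hx' : IsIntegral
        ↥(Algebra.TensorProduct.map (AlgHom.id A' A') (IsScalarTower.toAlgHom A B C)).range x := hx
    rcases subsingleton_or_nontrivial (A' ⊗[A] C) with hsub | hnt
    · exact ⟨0, Subsingleton.elim _ _⟩
    obtain ⟨P, hPm, hP0⟩ := hx'
    have hlifts : P ∈ Polynomial.lifts
        ((Algebra.TensorProduct.map (AlgHom.id A' A')
          (IsScalarTower.toAlgHom A B C)).rangeRestrict :
          A' ⊗[A] B →+* ↥(Algebra.TensorProduct.map (AlgHom.id A' A')
            (IsScalarTower.toAlgHom A B C)).range) := by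
      rw [Polynomial.lifts_iff_coeff_lifts]
      intro n
      obtain ⟨t, ht⟩ := (Algebra.TensorProduct.map (AlgHom.id A' A')
        (IsScalarTower.toAlgHom A B C)).rangeRestrict_surjective (P.coeff n)
      exact ⟨t, ht⟩
    obtain ⟨P', hP', -, hP'm⟩ := Polynomial.lifts_and_degree_eq_and_monic hlifts hPm
    have hint : (Groth.Agent.H13.IntClosureBCField.bc A'
        (IsScalarTower.toAlgHom A B C)).toRingHom.IsIntegralElem x := by
      refine ⟨P', hP'm, ?_⟩
      have hc : (Groth.Agent.H13.IntClosureBCField.bc A'
          (IsScalarTower.toAlgHom A B C)).toRingHom =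
          (algebraMap ↥(Algebra.TensorProduct.map (AlgHom.id A' A')
            (IsScalarTower.toAlgHom A B C)).range (A' ⊗[A] C)).comp
          ((Algebra.TensorProduct.map (AlgHom.id A' A')
            (IsScalarTower.toAlgHom A B C)).rangeRestrict :
            A' ⊗[A] B →+* ↥(Algebra.TensorProduct.map (AlgHom.id A' A')
              (IsScalarTower.toAlgHom A B C)).range) := by
        refine RingHom.ext fun t => ?_
        rfl
      rw [hc, ← Polynomial.eval₂_map, hP']
      exact hP0
    obtain ⟨y, hy⟩ := Groth.Agent.H13.IntClosureBCGeneral.mem_range_of_isIntegralElem A A' h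
      B C x hint
    exact ⟨y, hy⟩
  · rintro ⟨y, rfl⟩
    show IsIntegral
      ↥(Algebra.TensorProduct.map (AlgHom.id A' A') (IsScalarTower.toAlgHom A B C)).range _
    induction y using TensorProduct.induction_on with
    | zero =>
      rw [map_zero]
      exact isIntegral_zero
    | tmul a' d =>
      rw [Algebra.TensorProduct.map_tmul]
      have h1 : (a' ⊗ₜ[A] ((integralClosure B C).val.restrictScalars A) d : A' ⊗[A] C) =
          (a' ⊗ₜ[A] (1 : C)) * ((1 : A') ⊗ₜ[A] (d : C)) := by
        rw [Algebra.TensorProduct.tmul_mul_tmul, mul_one, one_mul]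
        rfl
      have h2 : ((AlgHom.id A' A') a' ⊗ₜ[A] ((integralClosure B C).val.restrictScalars A) d :
          A' ⊗[A] C) = (a' ⊗ₜ[A] (1 : C)) * ((1 : A') ⊗ₜ[A] (d : C)) := h1
      rw [h2]
      refine IsIntegral.mul ?_ ?_
      · have hmem : (a' ⊗ₜ[A] (1 : C) : A' ⊗[A] C) ∈
            (Algebra.TensorProduct.map (AlgHom.id A' A') (IsScalarTower.toAlgHom A B C)).range :=
          ⟨a' ⊗ₜ[A] (1 : B), by
            show (Algebra.TensorProduct.map (AlgHom.id A' A') (IsScalarTower.toAlgHom A B C))
              (a' ⊗ₜ[A] (1 : B)) = _
            rw [Algebra.TensorProduct.map_tmul, map_one]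
            rfl⟩
        exact (isIntegral_algebraMap (R := ↥(Algebra.TensorProduct.map (AlgHom.id A' A')
          (IsScalarTower.toAlgHom A B C)).range) (x := ⟨_, hmem⟩))
      · have hd : IsIntegral B (d : C) := d.2
        let φ : B →+* ↥(Algebra.TensorProduct.map (AlgHom.id A' A')
            (IsScalarTower.toAlgHom A B C)).range :=
          ((Algebra.TensorProduct.map (AlgHom.id A' A')
            (IsScalarTower.toAlgHom A B C)).rangeRestrict :
            A' ⊗[A] B →+* ↥(Algebra.TensorProduct.map (AlgHom.id A' A')
              (IsScalarTower.toAlgHom A B C)).range).comp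
            (Algebra.TensorProduct.includeRight : B →ₐ[A] A' ⊗[A] B).toRingHom
        exact IsIntegral.map_of_comp_eq φ
          (Algebra.TensorProduct.includeRight : C →ₐ[A] A' ⊗[A] C).toRingHom
          (by
            refine RingHom.ext fun b => ?_
            show (Algebra.TensorProduct.map (AlgHom.id A' A') (IsScalarTower.toAlgHom A B C))
              ((1 : A') ⊗ₜ[A] b) = (1 : A') ⊗ₜ[A] (algebraMap B C b)
            rw [Algebra.TensorProduct.map_tmul]
            rfl) hd
    | add y z hy hz =>
      rw [map_add]
      exact hy.add hz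

end Groth.Agent.S4707
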