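import Mathlib
import Groth.Statements.S4708
import Groth.Agent.S9314
import Groth.Agent.S9318
import Groth.Agent.S2038
import Groth.Agent.H72.FormalEquidim
-- import your own Groth.Agent.* helpers here

set_option autoImplicit false
universe u
open EGA4

namespace Groth.Agent.S4708

open IsLocalRing
set_option linter.style.haveILetI false

/-- Let A → B be a local homomorphism of Noetherian local rings making B a flat A-module, such that the
residue field of B is a finite extension of the residue field k of A, and such that the formal
fibres of A are geometrically regular (the completion map A → Â is regular). If the k-algebra k ⊗_A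
B̂, where B̂ is the completion of B, is geometrically regular over k, then every fibre of A → B is
geometrically regular, that is, A → B is a regular homomorphism. -/
theorem result (A B : Type u) [CommRing A] [CommRing B]
    [IsNoetherianRing A] [IsNoetherianRing B] [IsLocalRing A] [IsLocalRing B] [Algebra A B]
    [IsLocalHom (algebraMap A B)] [Module.Flat A B]
    [Module.Finite (IsLocalRing.ResidueField A) (IsLocalRing.ResidueField B)]
    (hA : CAlg.IsRegularHom A (EGA4.Cpl A))
    (h : CAlg.IsGeometricallyRegular (IsLocalRing.maximalIdeal A).ResidueField
      ((IsLocalRing.maximalIdeal A).Fiber (EGA4.Cpl B))) :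
    CAlg.IsRegularHom A B := by
  haveI := Groth.Agent.H72.FormalEquidim.isLocalRing_compl B
  haveI := Groth.Agent.H72.FormalEquidim.isNoetherianRing_compl B
  haveI := Groth.Agent.H72.FormalEquidim.isLocalHom_compl B
  haveI : Module.Flat A (AdicCompletion (maximalIdeal B) B) :=
    Module.Flat.trans A B (AdicCompletion (maximalIdeal B) B)
  haveI : IsLocalHom (algebraMap A (AdicCompletion (maximalIdeal B) B)) := by
    rw [IsScalarTower.algebraMap_eq A B (AdicCompletion (maximalIdeal B) B)]
    exact RingHom.isLocalHom_comp _ _
  have h1 : CAlgX.IsAdicFormallySmooth A (AdicCompletion (maximalIdeal B) B)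
      (maximalIdeal (AdicCompletion (maximalIdeal B) B)) :=
    Groth.Agent.S2038.result.mp ⟨inferInstance, h⟩
  rw [AdicCompletion.maximalIdeal_eq_map (R := B)] at h1
  have h2 : CAlgX.IsAdicFormallySmooth A B (maximalIdeal B) :=
    (Groth.Agent.S9318.result (maximalIdeal B) (maximalIdeal B).fg_of_isNoetherianRing).mpr h1
  exact Groth.Agent.S9314.result hA h2

end Groth.Agent.S4708
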