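import Groth.Statements.S4711
import Mathlib.AlgebraicGeometry.Properties
import Mathlib.AlgebraicGeometry.Morphisms.QuasiSeparated
import Mathlib.Topology.LocallyClosed

set_option autoImplicit false
universe u
open EGA4

namespace Groth.Agent.S4711

open Topology in
/-- In a compact T0 space, every nonempty constructible set contains a point whose singleton is
locally closed. -/
theorem exists_isLocallyClosed_singleton_of_isConstructible {T : Type*} [TopologicalSpace T]
    [T0Space T] [CompactSpace T] {C : Set T} (hC : IsConstructible C) (hne : C.Nonempty) :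
    ∃ x ∈ C, IsLocallyClosed ({x} : Set T) := by
  have hsub : IsSublattice {U : Set T | IsOpen U ∧ IsRetrocompact U} :=
    ⟨fun s hs t ht ↦ ⟨hs.1.union ht.1, hs.2.union ht.2⟩,
      fun s hs t ht ↦ ⟨hs.1.inter ht.1, hs.2.inter_isOpen ht.2 ht.1⟩⟩
  obtain ⟨t, rfl⟩ := (BooleanSubalgebra.mem_closure_iff_sup_sdiff hsub
    ⟨isOpen_empty, .empty⟩ ⟨isOpen_univ, .univ⟩).mp hC
  obtain ⟨c, hc⟩ := hne
  obtain ⟨p, hmem, hcUV⟩ : ∃ p ∈ t, c ∈ p.1.1 \ p.2.1 := by
    rw [Finset.sup_eq_iSup] at hc
    simp only [Set.iSup_eq_iUnion, Set.mem_iUnion] at hc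
    obtain ⟨p, hp, h⟩ := hc
    exact ⟨p, hp, h⟩
  obtain ⟨⟨U, hU⟩, ⟨V, hV⟩⟩ := p
  have hcomp : IsCompact (U \ V) := hU.2.isCompact.diff hV.1
  have : CompactSpace ↥(U \ V) := isCompact_iff_compactSpace.mp hcomp
  obtain ⟨x, -, hx⟩ := IsClosed.exists_closed_singleton (X := ↥(U \ V)) isClosed_univ
    ⟨⟨c, hcUV⟩, trivial⟩
  refine ⟨x.1, ?_, ?_⟩
  · have : (U \ V) ≤ t.sup fun x ↦ x.1.1 \ x.2.1 :=
      Finset.le_sup (f := fun x : _ × _ ↦ x.1.1 \ x.2.1) hmem
    exact this x.2
  · refine ⟨U, closure {x.1} ∩ Vᶜ, hU.1, isClosed_closure.inter hV.1.isClosed_compl, ?_⟩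
    apply Set.Subset.antisymm
    · rintro _ rfl
      exact ⟨x.2.1, subset_closure (Set.mem_singleton _), x.2.2⟩
    · rintro y ⟨hyU, hy, hyV⟩
      have h1 : x ⤳ (⟨y, hyU, hyV⟩ : ↥(U \ V)) :=
        (subtype_specializes_iff _ _).mpr (specializes_iff_mem_closure.mpr hy)
      have h2 := h1.mem_closed hx (Set.mem_singleton _)
      exact congrArg Subtype.val h2

open AlgebraicGeometry Topology in
/-- In any scheme X, every nonempty locally constructible subset E contains a point x such that the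
one-point set {x} is locally closed in X (equivalently x is isolated in its closure). -/
theorem result (X : Scheme.{u}) (E : Set X)
    (hE : Topology.IsLocallyConstructible E) (hne : E.Nonempty) :
    ∃ x ∈ E, IsLocallyClosed ({x} : Set X) := by
  obtain ⟨e, he⟩ := hne
  obtain ⟨W, hW, heW⟩ : ∃ W : X.Opens, IsAffineOpen W ∧ e ∈ W := by
    obtain ⟨_, ⟨W, hW, rfl⟩, hzW, -⟩ :=
      X.isBasis_affineOpens.exists_subset_of_mem_open (Set.mem_univ e) isOpen_univ
    exact ⟨W, hW, hzW⟩
  have hW' : IsLocallyConstructible ((Subtype.val : ↥(W : Set X) → X) ⁻¹' E) :=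
    hE.preimage_of_isOpenEmbedding W.isOpen.isOpenEmbedding_subtypeVal
  have : IsAffine W := hW
  have : CompactSpace (W : Set X) := isCompact_iff_compactSpace.mp hW.isCompact
  have : QuasiSeparatedSpace (W : Set X) := inferInstanceAs (QuasiSeparatedSpace (W : Scheme))
  have : PrespectralSpace (W : Set X) := inferInstanceAs (PrespectralSpace (W : Scheme))
  have hcons : IsConstructible ((Subtype.val : ↥(W : Set X) → X) ⁻¹' E) := hW'.isConstructible
  obtain ⟨x, hxE, hx⟩ := exists_isLocallyClosed_singleton_of_isConstructible hcons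
    ⟨⟨e, heW⟩, he⟩
  refine ⟨x.1, hxE, ?_⟩
  have := hx.image IsInducing.subtypeVal (by
    rw [Subtype.range_coe]
    exact W.isOpen.isLocallyClosed)
  rwa [Set.image_singleton] at this

end Groth.Agent.S4711
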