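import Groth.Statements.S4712
import Groth.Agent.H24.LocClosedPts

set_option autoImplicit false
universe u
open EGA4

namespace Groth.Agent.S4712

open AlgebraicGeometry in
/-- Let X be a locally Noetherian scheme and x a point such that {x} is locally closed in X. Then the
closure of {x} has dimension at most 1, and every point of that closure other than x is a closed
point of X. -/
theorem result (X : Scheme.{u}) [IsLocallyNoetherian X] (x : X)
    (hx : IsLocallyClosed ({x} : Set X)) :
    topologicalKrullDim (closure ({x} : Set X)) ≤ 1 ∧
      ∀ y ∈ closure ({x} : Set X), y ≠ x → IsClosed ({y} : Set X) := by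
  have hpart2 : ∀ y ∈ closure ({x} : Set X), y ≠ x → IsClosed ({y} : Set X) := fun y hy hne =>
    Groth.Agent.H24.isClosed_singleton_of_specializes X x y hx
      (specializes_iff_mem_closure.mpr hy) hne
  refine ⟨?_, hpart2⟩
  unfold topologicalKrullDim
  rw [Order.krullDim_le_one_iff]
  intro T
  let x₀ : closure ({x} : Set X) := ⟨x, subset_closure (Set.mem_singleton x)⟩
  have : QuasiSober (closure ({x} : Set X)) :=
    (isClosed_closure.isClosedEmbedding_subtypeVal).quasiSober
  by_cases hxT : x₀ ∈ (T : Set (closure ({x} : Set X)))
  · right
    intro T' _
    intro c _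
    have : x₀ ⤳ c := (subtype_specializes_iff _ _).mpr (specializes_iff_mem_closure.mpr c.2)
    exact this.mem_closed T.isClosed hxT
  · left
    obtain ⟨t, ht⟩ := QuasiSober.sober T.isIrreducible T.isClosed
    have htT : t ∈ (T : Set (closure ({x} : Set X))) := ht.mem
    have htx : t ≠ x₀ := fun h => hxT (h ▸ htT)
    have hclosed : IsClosed ({t.1} : Set X) :=
      hpart2 t.1 t.2 (fun h => htx (Subtype.ext h))
    have hclosed' : IsClosed ({t} : Set (closure ({x} : Set X))) := by
      have : ({t} : Set (closure ({x} : Set X))) = Subtype.val ⁻¹' {t.1} := by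
        ext ⟨a, ha⟩
        constructor
        · intro h
          exact congrArg Subtype.val h
        · intro h
          exact Subtype.ext h
      rw [this]
      exact hclosed.preimage continuous_subtype_val
    have hT : (T : Set (closure ({x} : Set X))) = {t} := by
      rw [← ht.def, hclosed'.closure_eq]
    intro T' hT'
    intro c hc
    have hc' : c = t := by
      have : c ∈ ({t} : Set (closure ({x} : Set X))) := hT ▸ hc
      exact this
    obtain ⟨c', hc''⟩ := T'.isIrreducible.nonempty
    have h2 : c' = t := by
      have : c' ∈ ({t} : Set (closure ({x} : Set X))) := hT ▸ (hT' hc'')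
      exact this
    rw [hc', ← h2]
    exact hc''

end Groth.Agent.S4712
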