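import Groth.Statements.S4713
import Groth.Agent.H24.LocClosedPts
import Mathlib.AlgebraicGeometry.Properties

set_option autoImplicit false
universe u
open EGA4

namespace Groth.Agent.S4713

open AlgebraicGeometry in
/-- In a locally Noetherian scheme X, every nonempty closed subset contains a closed point of X. -/
theorem result (X : Scheme.{u}) [IsLocallyNoetherian X]
    (Z : Set X) (hZ : IsClosed Z) (hne : Z.Nonempty) : ∃ x ∈ Z, IsClosed ({x} : Set X) := by
  obtain ⟨z, hz⟩ := hne
  obtain ⟨W, hW, hzW⟩ : ∃ W : X.Opens, IsAffineOpen W ∧ z ∈ W := by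
    obtain ⟨_, ⟨W, hW, rfl⟩, hzW, -⟩ :=
      X.isBasis_affineOpens.exists_subset_of_mem_open (Set.mem_univ z) isOpen_univ
    exact ⟨W, hW, hzW⟩
  have : CompactSpace (W : Set X) := isCompact_iff_compactSpace.mp hW.isCompact
  obtain ⟨x, hxZ, hxcl⟩ := IsClosed.exists_closed_singleton (X := (W : Set X))
    (S := Subtype.val ⁻¹' Z) (hZ.preimage continuous_subtype_val) ⟨⟨z, hzW⟩, hz⟩
  have hlc : IsLocallyClosed ({x.1} : Set X) := by
    refine ⟨W, closure {x.1}, W.isOpen, isClosed_closure, ?_⟩
    apply Set.Subset.antisymm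
    · rintro _ rfl
      exact ⟨x.2, subset_closure (Set.mem_singleton _)⟩
    · rintro y ⟨hyW, hy⟩
      have h1 : x ⤳ (⟨y, hyW⟩ : W) :=
        (subtype_specializes_iff _ _).mpr (specializes_iff_mem_closure.mpr hy)
      have h2 := h1.mem_closed hxcl (Set.mem_singleton _)
      exact congrArg Subtype.val h2
  by_cases h : IsClosed ({x.1} : Set X)
  · exact ⟨x.1, hxZ, h⟩
  · have : ∃ y ∈ closure ({x.1} : Set X), y ≠ x.1 := by
      by_contra hcon
      push Not at hcon
      apply h
      apply isClosed_of_closure_subset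
      intro y hy
      exact hcon y hy
    obtain ⟨y, hy, hne⟩ := this
    refine ⟨y, ?_, Groth.Agent.H24.isClosed_singleton_of_specializes X x.1 y hlc
      (specializes_iff_mem_closure.mpr hy) hne⟩
    exact (hZ.closure_subset_iff.mpr (Set.singleton_subset_iff.mpr hxZ)) hy

end Groth.Agent.S4713
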