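import Groth.Statements.S4715
import Groth.Agent.H24.LiftChains
import Mathlib.AlgebraicGeometry.Properties
import Mathlib.AlgebraicGeometry.Morphisms.QuasiFinite

set_option autoImplicit false
universe u
open EGA4

namespace Groth.Agent.S4715

open AlgebraicGeometry CategoryTheory in
/-- Let f : X → Y be a quasi-finite morphism (of finite type with discrete fibres) of locally Noetherian
schemes. Then dim X is at most the dimension of the closure of f(X), which is at most dim Y. -/
theorem result {X Y : Scheme.{u}} (f : X ⟶ Y) [IsLocallyNoetherian X] [IsLocallyNoetherian Y]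
    [LocallyQuasiFinite f] [LocallyOfFiniteType f] [QuasiCompact f] :
    topologicalKrullDim X ≤ topologicalKrullDim (closure (Set.range f.base)) ∧
      topologicalKrullDim (closure (Set.range f.base)) ≤ topologicalKrullDim Y := by
  refine ⟨?_, topologicalKrullDim_subspace_le _ _⟩
  have : QuasiSober (closure (Set.range f.base)) :=
    (isClosed_closure.isClosedEmbedding_subtypeVal).quasiSober
  let g : X → closure (Set.range f.base) := fun x => ⟨f.base x, subset_closure ⟨x, rfl⟩⟩
  have hg : Continuous g := f.continuous.subtype_mk _
  refine Groth.Agent.H24.topologicalKrullDim_le_of_isDiscrete_fibres g hg ?_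
  rintro ⟨y, hy⟩
  have : g ⁻¹' {⟨y, hy⟩} = f.base ⁻¹' {y} := by
    ext x
    simp only [Set.mem_preimage, Set.mem_singleton_iff, g, Subtype.mk.injEq]
  rw [this]
  exact f.isDiscrete_preimage_singleton y

end Groth.Agent.S4715
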