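import Groth.Statements.S4716
import Groth.Agent.H24.LiftChains
import Mathlib.AlgebraicGeometry.Properties
import Mathlib.AlgebraicGeometry.Noetherian

set_option autoImplicit false
universe u
open EGA4

namespace Groth.Agent.S4716

attribute [local instance] specializationOrder in
theorem topologicalKrullDim_eq_krullDim (T : Type*) [TopologicalSpace T] [QuasiSober T]
    [T0Space T] : topologicalKrullDim T = Order.krullDim T :=
  Order.krullDim_eq_of_orderIso irreducibleSetEquivPoints

open AlgebraicGeometry TopologicalSpace in
/-- Open maps out of locally Noetherian schemes lift generizations. -/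
theorem exists_specializes_of_isOpenMap (X : Scheme.{u}) [IsLocallyNoetherian X] {Y : Type*}
    [TopologicalSpace Y] [T0Space Y] (g : X → Y) (hg : Continuous g) (hopen : IsOpenMap g)
    (x : X) (y' : Y) (h : y' ⤳ g x) : ∃ x', x' ⤳ x ∧ g x' = y' := by
  obtain ⟨W, hW, hxW⟩ : ∃ W : X.Opens, IsAffineOpen W ∧ x ∈ W := by
    obtain ⟨_, ⟨W, hW, rfl⟩, hzW, -⟩ :=
      X.isBasis_affineOpens.exists_subset_of_mem_open (Set.mem_univ x) isOpen_univ
    exact ⟨W, hW, hzW⟩
  have : IsNoetherianRing Γ(X, W) := IsLocallyNoetherian.component_noetherian ⟨W, hW⟩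
  have : NoetherianSpace (W : Set X) := noetherianSpace_of_isAffineOpen W hW
  have : QuasiSober (W : Set X) := W.isOpen.isOpenEmbedding_subtypeVal.quasiSober
  obtain ⟨x', hx', hgx'⟩ := Groth.Agent.H24.exists_specializes_of_isOpenMap
    (f := fun w : (W : Set X) => g w.1) (hg.comp continuous_subtype_val)
    (hopen.comp W.isOpen.isOpenMap_subtype_val) ⟨x, hxW⟩ y' h
  exact ⟨x'.1, (subtype_specializes_iff _ _).mp hx', hgx'⟩

open AlgebraicGeometry CategoryTheory in
/-- Consider locally Noetherian schemes X and Y and a morphism f : X → Y that is surjective and whose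
underlying map is either open or closed. Then dim X ≥ dim Y. -/
theorem result {X Y : Scheme.{u}} (f : X ⟶ Y) [IsLocallyNoetherian X]
    [IsLocallyNoetherian Y] (hs : Function.Surjective f.base) (h : IsOpenMap f.base ∨ IsClosedMap f.base) :
    topologicalKrullDim Y ≤ topologicalKrullDim X := by
  rw [topologicalKrullDim_eq_krullDim, topologicalKrullDim_eq_krullDim]
  letI := specializationOrder X
  letI := specializationOrder Y
  have hcont : Continuous f.base := f.continuous
  have hmono : Monotone f.base := fun a b hab => Specializes.map hab hcont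
  rcases h with h | h
  · refine Groth.Agent.H24.krullDim_le_of_surjective_of_lift_head f.base hs hmono ?_
    intro a b hab
    obtain ⟨a', ha', hfa'⟩ := exists_specializes_of_isOpenMap X f.base hcont h a b hab.le
    exact ⟨a', ha', hfa'⟩
  · refine Groth.Agent.H24.krullDim_le_of_surjective_of_lift_last f.base hs hmono ?_
    intro a b hab
    obtain ⟨a', ha', hfa'⟩ := Groth.Agent.H24.exists_specializes_of_isClosedMap h a b hab.le
    exact ⟨a', ha', hfa'⟩

end Groth.Agent.S4716
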