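import Groth.Statements.S4717
import Groth.Agent.H24.LiftChains
import Mathlib.AlgebraicGeometry.Properties
import Mathlib.AlgebraicGeometry.Morphisms.QuasiFinite
import Mathlib.AlgebraicGeometry.Morphisms.Proper

set_option autoImplicit false
universe u
open EGA4

namespace Groth.Agent.S4717

open AlgebraicGeometry CategoryTheory in
/-- Let f : X → Y be a finite morphism of locally Noetherian schemes. Then dim X equals the dimension of
the image f(X); in particular if f is surjective then dim X = dim Y. -/
theorem result {X Y : Scheme.{u}} (f : X ⟶ Y) [IsLocallyNoetherian X] [IsLocallyNoetherian Y]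
    [IsFinite f] :
    topologicalKrullDim X = topologicalKrullDim (Set.range f.base) ∧
      (Function.Surjective f.base → topologicalKrullDim X = topologicalKrullDim Y) := by
  have hclosed : IsClosedMap f.base := f.isClosedMap
  have hcont : Continuous f.base := f.continuous
  have hdisc : ∀ y, _root_.IsDiscrete (f.base ⁻¹' {y}) := fun y => f.isDiscrete_preimage_singleton y
  constructor
  · have hrange : IsClosed (Set.range f.base) := hclosed.isClosed_range
    have : QuasiSober (Set.range f.base) := (hrange.isClosedEmbedding_subtypeVal).quasiSober
    let g : X → Set.range f.base := fun x => ⟨f.base x, ⟨x, rfl⟩⟩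
    have hg : Continuous g := hcont.subtype_mk _
    apply le_antisymm
    · refine Groth.Agent.H24.topologicalKrullDim_le_of_isDiscrete_fibres g hg ?_
      rintro ⟨y, hy⟩
      have : g ⁻¹' {⟨y, hy⟩} = f.base ⁻¹' {y} := by
        ext x
        simp only [Set.mem_preimage, Set.mem_singleton_iff, g, Subtype.mk.injEq]
      rw [this]
      exact hdisc y
    · refine Groth.Agent.H24.topologicalKrullDim_le_of_isClosedMap_of_surjective g hg ?_ ?_
      · intro Z hZ
        rw [Topology.IsInducing.subtypeVal.isClosed_iff]
        refine ⟨f.base '' Z, hclosed Z hZ, ?_⟩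
        ext ⟨y, hy⟩
        simp only [Set.mem_preimage, Set.mem_image, g, Subtype.mk.injEq]
      · rintro ⟨y, x, rfl⟩
        exact ⟨x, rfl⟩
  · intro hs
    apply le_antisymm
    · exact Groth.Agent.H24.topologicalKrullDim_le_of_isDiscrete_fibres f.base hcont hdisc
    · exact Groth.Agent.H24.topologicalKrullDim_le_of_isClosedMap_of_surjective f.base hcont
        hclosed hs

end Groth.Agent.S4717
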