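import Groth.Statements.S4718
import Groth.Agent.H29.FinRestrictDim
import Groth.Agent.H29.FinRestrictDepth
import Groth.Agent.H29.LocTrans
import Groth.Agent.H29.CM

set_option autoImplicit false
universe u
open EGA4

namespace Groth.Agent.S4718

set_option linter.style.haveILetI false

open IsLocalRing in
theorem exists_semilinear_self (A : Type u) [CommRing A] [IsLocalRing A]
    (M : Type u) [AddCommGroup M] [Module A M] :
    ∃ (e : A ≃+* Localization.AtPrime (maximalIdeal A))
      (φ : M ≃+ LocalizedModule (maximalIdeal A).primeCompl M),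
      ∀ (r : A) (x : M), φ (r • x) = e r • φ x := by
  have hS : (maximalIdeal A).primeCompl ≤ IsUnit.submonoid A := by
    intro x hx
    by_contra hnu
    exact hx ((IsLocalRing.mem_maximalIdeal x).mpr hnu)
  haveI : IsLocalization (maximalIdeal A).primeCompl A := IsLocalization.of_le_isUnit hS
  haveI : IsLocalizedModule (maximalIdeal A).primeCompl (LinearMap.id : M →ₗ[A] M) :=
    isLocalizedModule_id (maximalIdeal A).primeCompl M A
  let l : M ≃ₗ[A] LocalizedModule (maximalIdeal A).primeCompl M :=
    IsLocalizedModule.linearEquiv (maximalIdeal A).primeCompl (LinearMap.id : M →ₗ[A] M)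
      (LocalizedModule.mkLinearMap (maximalIdeal A).primeCompl M)
  let e : A ≃ₐ[A] Localization.AtPrime (maximalIdeal A) :=
    IsLocalization.atUnits A (maximalIdeal A).primeCompl hS
  refine ⟨e.toRingEquiv, l.toAddEquiv, fun r x => ?_⟩
  change l (r • x) = e r • l x
  rw [map_smul]
  have : e r = algebraMap A (Localization.AtPrime (maximalIdeal A)) r := by
    have := e.commutes r
    simpa using this
  rw [this, algebraMap_smul]

/-- Let A be a Noetherian local ring, B a Noetherian ring, A → B a ring homomorphism and M a nonzero
B-module which is finite as an A-module. Then M is a Cohen–Macaulay A-module if and only if, for all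
primes q of B lying over the maximal ideal of A and belonging to the support of M, the B_q-module
M_q is Cohen–Macaulay and all these modules M_q have the same dimension. -/
theorem result (A B : Type u) [CommRing A] [CommRing B]
    [IsNoetherianRing A] [IsLocalRing A] [IsNoetherianRing B] [Algebra A B]
    (M : Type u) [AddCommGroup M] [Module B M] [Module A M] [IsScalarTower A B M] [Module.Finite A M]
    [Nontrivial M] :
    LocCoh.IsCohenMacaulayModule A M ↔
      (∀ q ∈ {q : PrimeSpectrum B | q.asIdeal.comap (algebraMap A B) = IsLocalRing.maximalIdeal A ∧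
          q ∈ Module.support B M},
        LocCoh.IsCohenMacaulayModule (Localization.AtPrime q.asIdeal) (LocalizedModule q.asIdeal.primeCompl M)) ∧
      (∀ q ∈ {q : PrimeSpectrum B | q.asIdeal.comap (algebraMap A B) = IsLocalRing.maximalIdeal A ∧
          q ∈ Module.support B M},
        ∀ q' ∈ {q : PrimeSpectrum B | q.asIdeal.comap (algebraMap A B) = IsLocalRing.maximalIdeal A ∧
          q ∈ Module.support B M},
          Module.supportDim (Localization.AtPrime q.asIdeal) (LocalizedModule q.asIdeal.primeCompl M) =
            Module.supportDim (Localization.AtPrime q'.asIdeal) (LocalizedModule q'.asIdeal.primeCompl M)) := by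
  classical
  obtain ⟨e, φ, hφ⟩ := exists_semilinear_self A M
  haveI hfinB : Module.Finite B M := Groth.Agent.H29.FinRestrictDim.finiteB A (B := B) M
  have hdim0 := Groth.Agent.H29.LocTrans.supportDim_eq_of_semilinear e φ hφ
  have hdepth0 := Groth.Agent.H29.LocTrans.depth_eq_of_semilinear e φ hφ
  have hdim := Groth.Agent.H29.FinRestrictDim.supportDim_eq_iSup A (B := B) M
    (IsLocalRing.maximalIdeal A)
  have hdepth := Groth.Agent.H29.FinRestrictDepth.depth_eq_iInf A (B := B) M
    (IsLocalRing.maximalIdeal A)
  rw [← hdim0] at hdim
  rw [← hdepth0] at hdepth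
  have hle : ∀ q ∈ {q : PrimeSpectrum B | q.asIdeal.comap (algebraMap A B) =
        IsLocalRing.maximalIdeal A ∧ q ∈ Module.support B M},
      ((LocCoh.depth (Localization.AtPrime q.asIdeal)
        (LocalizedModule q.asIdeal.primeCompl M) : ℕ∞) : WithBot ℕ∞) ≤
      Module.supportDim (Localization.AtPrime q.asIdeal)
        (LocalizedModule q.asIdeal.primeCompl M) := by
    intro q hq
    haveI : Nontrivial (LocalizedModule q.asIdeal.primeCompl M) := by
      have := hq.2
      rwa [Module.mem_support_iff] at this
    exact Groth.Agent.H29.CML.depth_le_supportDim _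
  unfold LocCoh.IsCohenMacaulayModule
  constructor
  · intro hCM
    have key : ∀ q ∈ {q : PrimeSpectrum B | q.asIdeal.comap (algebraMap A B) =
        IsLocalRing.maximalIdeal A ∧ q ∈ Module.support B M},
        Module.supportDim (Localization.AtPrime q.asIdeal)
          (LocalizedModule q.asIdeal.primeCompl M) = Module.supportDim A M ∧
        ((LocCoh.depth (Localization.AtPrime q.asIdeal)
          (LocalizedModule q.asIdeal.primeCompl M) : ℕ∞) : WithBot ℕ∞) =
          Module.supportDim A M := by
      intro q hq
      have h1 : Module.supportDim (Localization.AtPrime q.asIdeal)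
          (LocalizedModule q.asIdeal.primeCompl M) ≤ Module.supportDim A M := by
        rw [hdim]
        exact le_iSup₂_of_le q hq le_rfl
      have h2 : ((LocCoh.depth A M : ℕ∞) : WithBot ℕ∞) ≤
          ((LocCoh.depth (Localization.AtPrime q.asIdeal)
            (LocalizedModule q.asIdeal.primeCompl M) : ℕ∞) : WithBot ℕ∞) := by
        rw [WithBot.coe_le_coe, hdepth]
        exact iInf₂_le q hq
      have h3 := hle q hq
      rw [← hCM] at h2
      exact ⟨le_antisymm h1 (h2.trans h3), le_antisymm (h3.trans h1) h2⟩
    refine ⟨fun q hq => ?_, fun q hq q' hq' => ?_⟩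
    · rw [(key q hq).1, (key q hq).2]
    · rw [(key q hq).1, (key q' hq').1]
  · rintro ⟨hCM, heq⟩
    have hne : Module.supportDim A M ≠ ⊥ := Module.supportDim_ne_bot_of_nontrivial A M
    have hex : ∃ q0, q0 ∈ {q : PrimeSpectrum B | q.asIdeal.comap (algebraMap A B) =
        IsLocalRing.maximalIdeal A ∧ q ∈ Module.support B M} := by
      by_contra hcon
      apply hne
      rw [hdim]
      rw [eq_bot_iff]
      exact iSup₂_le fun q hq => absurd ⟨q, hq⟩ hcon
    obtain ⟨q0, hq0⟩ := hex
    have hd : Module.supportDim A M = Module.supportDim (Localization.AtPrime q0.asIdeal)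
        (LocalizedModule q0.asIdeal.primeCompl M) := by
      rw [hdim]
      exact le_antisymm (iSup₂_le fun q hq => (heq q hq q0 hq0).le) (le_iSup₂_of_le q0 hq0 le_rfl)
    have hδ : LocCoh.depth A M = LocCoh.depth (Localization.AtPrime q0.asIdeal)
        (LocalizedModule q0.asIdeal.primeCompl M) := by
      rw [hdepth]
      refine le_antisymm (iInf₂_le q0 hq0) (le_iInf₂ fun q hq => ?_)
      have h1 := hCM q hq
      have h2 := hCM q0 hq0
      have h3 := heq q hq q0 hq0
      rw [h1, h2] at h3
      exact (WithBot.coe_injective h3).ge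
    have h2 := hCM q0 hq0
    rw [hd, hδ, h2]

end Groth.Agent.S4718
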