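import Groth.Statements.S4719
import Groth.Agent.H29.FinRestrictDim
import Groth.Agent.H29.FinRestrictDepth

set_option autoImplicit false
universe u
open EGA4

namespace Groth.Agent.S4719

theorem le_coe_iInf₂ {ι : Type*} (S : Set ι) (f : ι → ℕ∞) (x : WithBot ℕ∞)
    (h : ∀ i ∈ S, x ≤ ((f i : ℕ∞) : WithBot ℕ∞)) :
    x ≤ (((⨅ i ∈ S, f i : ℕ∞)) : WithBot ℕ∞) := by
  induction x using WithBot.recBotCoe with
  | bot => exact bot_le
  | coe y =>
    rw [WithBot.coe_le_coe]
    exact le_iInf₂ fun i hi => WithBot.coe_le_coe.mp (h i hi)

/-- Let A → B be a homomorphism of Noetherian rings and M a B-module which is finite as an A-module. (i)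
If M satisfies (S_k) as an A-module, it satisfies (S_k) as a B-module. (ii) If for every two primes
q, q' of B in the support of M having the same contraction to A the modules M_q and M_{q'} have the
same dimension, then (S_k) for M as a B-module implies (S_k) for M as an A-module. (The published
statement asks the equal-dimension condition for all pairs of primes of B with the same contraction;
this row asks it only for primes in the support of M, which is all its proof uses.) -/
theorem result (k : ℕ) (A B : Type u) [CommRing A] [CommRing B] [IsNoetherianRing A]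
    [IsNoetherianRing B] [Algebra A B] (M : Type u) [AddCommGroup M] [Module B M] [Module A M]
    [IsScalarTower A B M] [Module.Finite A M] :
    (LocCoh.HasSk k A M → LocCoh.HasSk k B M) ∧
      ((∀ q ∈ Module.support B M, ∀ q' ∈ Module.support B M,
          q.asIdeal.comap (algebraMap A B) = q'.asIdeal.comap (algebraMap A B) →
            Module.supportDim (Localization.AtPrime q.asIdeal) (LocalizedModule q.asIdeal.primeCompl M) =
              Module.supportDim (Localization.AtPrime q'.asIdeal) (LocalizedModule q'.asIdeal.primeCompl M)) →
        LocCoh.HasSk k B M → LocCoh.HasSk k A M) := by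
  refine ⟨?_, ?_⟩
  · intro hA q hq
    by_cases hsupp : (⟨q, hq⟩ : PrimeSpectrum B) ∈ Module.support B M
    · have hdim := Groth.Agent.H29.FinRestrictDim.supportDim_eq_iSup A (B := B) M
        (q.comap (algebraMap A B))
      have hdepth := Groth.Agent.H29.FinRestrictDepth.depth_eq_iInf A (B := B) M
        (q.comap (algebraMap A B))
      have h1 := hA (q.comap (algebraMap A B))
      have h2 : Module.supportDim (Localization.AtPrime q) (LocalizedModule q.primeCompl M) ≤
          Module.supportDim (Localization.AtPrime (q.comap (algebraMap A B)))
            (LocalizedModule (q.comap (algebraMap A B)).primeCompl M) := by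
        rw [hdim]
        exact le_iSup₂_of_le (⟨q, hq⟩ : PrimeSpectrum B) ⟨rfl, hsupp⟩ le_rfl
      have h3 : LocCoh.depth (Localization.AtPrime (q.comap (algebraMap A B)))
            (LocalizedModule (q.comap (algebraMap A B)).primeCompl M) ≤
          LocCoh.depth (Localization.AtPrime q) (LocalizedModule q.primeCompl M) := by
        rw [hdepth]
        exact iInf₂_le (⟨q, hq⟩ : PrimeSpectrum B) ⟨rfl, hsupp⟩
      exact (min_le_min_left _ h2).trans (h1.trans (WithBot.coe_le_coe.mpr h3))
    · rw [Module.notMem_support_iff] at hsupp
      have : Module.supportDim (Localization.AtPrime q) (LocalizedModule q.primeCompl M) = ⊥ :=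
        Module.supportDim_eq_bot_of_subsingleton _ _
      rw [this, min_bot_right]
      exact bot_le
  · intro heq hB p hp
    rw [Groth.Agent.H29.FinRestrictDim.supportDim_eq_iSup A (B := B) M p,
      Groth.Agent.H29.FinRestrictDepth.depth_eq_iInf A (B := B) M p]
    refine le_coe_iInf₂ _ _ _ fun q hq => ?_
    have hsup : (⨆ q' ∈ {q : PrimeSpectrum B | q.asIdeal.comap (algebraMap A B) = p ∧
          q ∈ Module.support B M},
        Module.supportDim (Localization.AtPrime q'.asIdeal)
          (LocalizedModule q'.asIdeal.primeCompl M)) ≤
        Module.supportDim (Localization.AtPrime q.asIdeal)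
          (LocalizedModule q.asIdeal.primeCompl M) :=
      iSup₂_le fun q' hq' => le_of_eq (heq q' hq'.2 q hq.2 (hq'.1.trans hq.1.symm))
    exact (min_le_min_left _ hsup).trans (hB q.asIdeal)

end Groth.Agent.S4719
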