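import Groth.Statements.S4721
import Groth.Agent.H14.ZClos.Connected
import Mathlib.RingTheory.Ideal.MinimalPrime.Noetherian

set_option autoImplicit false
universe u
open EGA4

namespace Groth.Agent.S4721

/-- A path for the reflexive-transitive closure of a relation, as a finite sequence. -/
theorem exists_chain_of_reflTransGen {α : Type*} {r : α → α → Prop} {a b : α}
    (h : Relation.ReflTransGen r a b) :
    ∃ (n : ℕ) (c : Fin (n + 1) → α), c 0 = a ∧ c (Fin.last n) = b ∧
      ∀ i : Fin n, r (c i.castSucc) (c i.succ) := by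
  induction h with
  | refl => exact ⟨0, fun _ => a, rfl, rfl, fun i => i.elim0⟩
  | @tail b' c' _ hbc ih =>
    obtain ⟨n, c, h0, hl, hstep⟩ := ih
    refine ⟨n + 1, Fin.snoc c c', ?_, ?_, ?_⟩
    · have : (0 : Fin (n + 2)) = Fin.castSucc (0 : Fin (n + 1)) := rfl
      rw [this, Fin.snoc_castSucc, h0]
    · exact Fin.snoc_last _ _
    · intro i
      refine Fin.lastCases ?_ (fun j => ?_) i
      · rw [Fin.snoc_castSucc, Fin.succ_last, Fin.snoc_last, hl]
        exact hbc
      · rw [Fin.snoc_castSucc, ← Fin.castSucc_succ, Fin.snoc_castSucc]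
        exact hstep j

/-- Let A be a Noetherian ring whose spectrum is connected and d a natural number such that for every
prime p of height at least d the local ring A_p has depth at least 2. Then for any two distinct
minimal primes p', p'' of A there is a finite chain of minimal primes starting at p' and ending at
p'' such that any two consecutive members are both contained in a prime ideal of height at most d −
1 (the spectrum is connected in codimension at most d − 1). -/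
theorem result (A : Type u) [CommRing A] [IsNoetherianRing A]
    [ConnectedSpace (PrimeSpectrum A)] (d : ℕ)
    (h : ∀ (p : Ideal A) [p.IsPrime], (d : ℕ∞) ≤ p.height →
      (2 : ℕ∞) ≤ LocCoh.depth (Localization.AtPrime p) (Localization.AtPrime p))
    (p' p'' : Ideal A) (hp' : p' ∈ minimalPrimes A) (hp'' : p'' ∈ minimalPrimes A) (hne : p' ≠ p'') :
    ∃ (n : ℕ) (c : Fin (n + 1) → Ideal A), c 0 = p' ∧ c (Fin.last n) = p'' ∧ (∀ i, c i ∈ minimalPrimes A) ∧
      ∀ i : Fin n, ∃ (q : Ideal A) (_ : q.IsPrime),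
        c i.castSucc ≤ q ∧ c i.succ ≤ q ∧ q.height + 1 ≤ (d : ℕ∞) := by
  classical
  let Adj : Ideal A → Ideal A → Prop := fun a b =>
    a ∈ minimalPrimes A ∧ b ∈ minimalPrimes A ∧
      ∃ (q : Ideal A) (_ : q.IsPrime), a ≤ q ∧ b ≤ q ∧ q.height + 1 ≤ (d : ℕ∞)
  suffices hconn : Relation.ReflTransGen Adj p' p'' by
    obtain ⟨n, c, h0, hl, hstep⟩ := exists_chain_of_reflTransGen hconn
    refine ⟨n, c, h0, hl, ?_, fun i => (hstep i).2.2⟩
    intro i
    refine Fin.cases ?_ (fun j => ?_) i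
    · rw [h0]; exact hp'
    · exact (hstep j).2.1
  by_contra hnot
  have hfin : (minimalPrimes A).Finite := minimalPrimes.finite_of_isNoetherianRing A
  let P1 : Set (Ideal A) := {p | p ∈ minimalPrimes A ∧ Relation.ReflTransGen Adj p' p}
  let P2 : Set (Ideal A) := {p | p ∈ minimalPrimes A ∧ ¬ Relation.ReflTransGen Adj p' p}
  have hfin1 : P1.Finite := hfin.subset fun p hp => hp.1
  have hfin2 : P2.Finite := hfin.subset fun p hp => hp.1
  let I1 : Ideal A := hfin1.toFinset.inf id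
  let I2 : Ideal A := hfin2.toFinset.inf id
  have hI1 : ∀ (q : Ideal A), q.IsPrime → (I1 ≤ q ↔ ∃ p ∈ P1, p ≤ q) := by
    intro q hq
    rw [Ideal.IsPrime.inf_le' hq]
    simp only [Set.Finite.mem_toFinset, id]
  have hI2 : ∀ (q : Ideal A), q.IsPrime → (I2 ≤ q ↔ ∃ p ∈ P2, p ≤ q) := by
    intro q hq
    rw [Ideal.IsPrime.inf_le' hq]
    simp only [Set.Finite.mem_toFinset, id]
  have hcover : ∀ (q : Ideal A), q.IsPrime → I1 ≤ q ∨ I2 ≤ q := by
    intro q hq
    obtain ⟨p, hpmin, hpq⟩ := Ideal.exists_minimalPrimes_le (bot_le : (⊥ : Ideal A) ≤ q)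
    have hpmin' : p ∈ minimalPrimes A := hpmin
    by_cases hr : Relation.ReflTransGen Adj p' p
    · exact Or.inl ((hI1 q hq).mpr ⟨p, ⟨hpmin', hr⟩, hpq⟩)
    · exact Or.inr ((hI2 q hq).mpr ⟨p, ⟨hpmin', hr⟩, hpq⟩)
  have hheight : ∀ (q : Ideal A) [q.IsPrime], I1 ⊔ I2 ≤ q → (d : ℕ∞) ≤ q.height := by
    intro q hq hle
    obtain ⟨p1, hp1, hp1q⟩ := (hI1 q hq).mp (le_sup_left.trans hle)
    obtain ⟨p2, hp2, hp2q⟩ := (hI2 q hq).mp (le_sup_right.trans hle)
    by_contra hcon
    have hlt : q.height + 1 ≤ (d : ℕ∞) := by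
      rw [not_le] at hcon
      exact Order.add_one_le_of_lt hcon
    exact hp2.2 (hp1.2.tail ⟨hp1.1, hp2.1, q, hq, hp1q, hp2q, hlt⟩)
  have hpre := H14.ZClos.isPreconnected_compl_zeroLocus_of_depth (I1 ⊔ I2)
    (fun p _ hle => h p (hheight p hle))
  have hmem : ∀ (J : Ideal A) (x : PrimeSpectrum A),
      x ∈ PrimeSpectrum.zeroLocus (J : Set A) ↔ J ≤ x.asIdeal := fun J x => by
    rw [PrimeSpectrum.mem_zeroLocus, SetLike.coe_subset_coe]
  -- the two minimal primes as points
  let x' : PrimeSpectrum A := ⟨p', hp'.1.1⟩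
  let x'' : PrimeSpectrum A := ⟨p'', hp''.1.1⟩
  have hx'1 : ¬ I2 ≤ p' := by
    intro hle
    obtain ⟨p2, hp2, hp2le⟩ := (hI2 p' hp'.1.1).mp hle
    have : p' ≤ p2 := hp'.2 ⟨hp2.1.1.1, bot_le⟩ hp2le
    have heq : p2 = p' := le_antisymm hp2le this
    exact hp2.2 (heq ▸ Relation.ReflTransGen.refl)
  have hx''1 : ¬ I1 ≤ p'' := by
    intro hle
    obtain ⟨p1, hp1, hp1le⟩ := (hI1 p'' hp''.1.1).mp hle
    have : p'' ≤ p1 := hp''.2 ⟨hp1.1.1.1, bot_le⟩ hp1le
    have heq : p1 = p'' := le_antisymm hp1le this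
    exact hnot (heq ▸ hp1.2)
  have hres := hpre ((PrimeSpectrum.zeroLocus (I2 : Set A))ᶜ) ((PrimeSpectrum.zeroLocus (I1 : Set A))ᶜ)
    (PrimeSpectrum.isClosed_zeroLocus _).isOpen_compl
    (PrimeSpectrum.isClosed_zeroLocus _).isOpen_compl
    (by
      intro x hx
      simp only [Set.mem_compl_iff, hmem, sup_le_iff, not_and_or, Set.mem_union] at hx ⊢
      exact hx.symm)
    ⟨x', by
      simp only [Set.mem_inter_iff, Set.mem_compl_iff, hmem, sup_le_iff, not_and_or]
      exact ⟨Or.inr hx'1, hx'1⟩⟩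
    ⟨x'', by
      simp only [Set.mem_inter_iff, Set.mem_compl_iff, hmem, sup_le_iff, not_and_or]
      exact ⟨Or.inl hx''1, hx''1⟩⟩
  obtain ⟨x, -, hx2, hx1⟩ := hres
  simp only [Set.mem_compl_iff, hmem] at hx1 hx2
  rcases hcover x.asIdeal x.2 with h1 | h2
  · exact hx1 h1
  · exact hx2 h2

end Groth.Agent.S4721
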