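import Groth.Statements.S4722
import Groth.Agent.H24.AssFiltration

set_option autoImplicit false
universe u
open EGA4

namespace Groth.Agent.S4722

open Groth.Agent.H24 in
/-- Let A be a Noetherian ring and M a finite A-module whose set of associated primes is a single prime
p. Then M has a finite decreasing filtration by submodules M = M_0 ⊇ M_1 ⊇ ⋯ ⊇ M_m = 0 such that
each quotient M_h/M_{h+1} is isomorphic to a submodule of A/p (i.e. embeds A-linearly into A/p). -/
theorem result (A : Type u) [CommRing A] [IsNoetherianRing A]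
    (M : Type u) [AddCommGroup M] [Module A M] [Module.Finite A M] (p : Ideal A)
    (hp : associatedPrimes A M = {p}) :
    ∃ (m : ℕ) (F : Fin (m + 1) → Submodule A M), Antitone F ∧ F 0 = ⊤ ∧ F (Fin.last m) = ⊥ ∧
      ∀ i : Fin m, ∃ g : (↥(F i.castSucc) ⧸ Submodule.comap (F i.castSucc).subtype (F i.succ)) →ₗ[A] (A ⧸ p),
        Function.Injective g := by
  have hbot : associatedPrimes A (M ⧸ (⊥ : Submodule A M)) ⊆ {p} := by
    rw [LinearEquiv.AssociatedPrimes.eq (Submodule.quotEquivOfEqBot (⊥ : Submodule A M) rfl), hp]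
  obtain ⟨s, hshead, hslast⟩ := exists_series_to (p := p) (⊥ : Submodule A M) hbot
  refine ⟨s.length, s.toFun, ?_, hshead, hslast, ?_⟩
  · rw [Fin.antitone_iff_succ_le]
    intro i
    exact (s.step i).1
  · intro i
    exact (s.step i).2

end Groth.Agent.S4722
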