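import Groth.Statements.S4726
import Groth.Agent.H24.FPDescent
-- import your own Groth.Agent.* helpers here

set_option autoImplicit false
universe u
open EGA4

namespace Groth.Agent.S4726

open TensorProduct in
/-- Let (A_i) be a directed system of commutative rings with direct limit A and M a finitely presented
A-module. Then there exist an index i and a finitely presented A_i-module M_i such that M is
isomorphic, as an A-module, to A ⊗_{A_i} M_i (A being an A_i-algebra through the canonical map). -/
theorem result (ι : Type u) [Preorder ι] [Nonempty ι] [IsDirectedOrder ι]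
    (G : ι → Type u) [∀ i, CommRing (G i)] (f : ∀ i j, i ≤ j → G i →+* G j)
    [DirectedSystem G (fun i j h ↦ f i j h)] (M : Type u) [AddCommGroup M]
    [Module (Ring.DirectLimit G (fun i j h ↦ f i j h)) M]
    [Module.FinitePresentation (Ring.DirectLimit G (fun i j h ↦ f i j h)) M] :
    ∃ (i : ι) (Mi : Type u) (_ : AddCommGroup Mi) (_ : Module (G i) Mi), Module.FinitePresentation (G i) Mi ∧
      letI : Algebra (G i) (Ring.DirectLimit G (fun i j h ↦ f i j h)) :=
        (Ring.DirectLimit.of G (fun i j h ↦ f i j h) i).toAlgebra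
      Nonempty (M ≃ₗ[Ring.DirectLimit G (fun i j h ↦ f i j h)] (Ring.DirectLimit G (fun i j h ↦ f i j h)) ⊗[G i] Mi) := by
  classical
  obtain ⟨n, K, e, ⟨s, hs⟩⟩ :=
    Module.FinitePresentation.exists_fin (Ring.DirectLimit G (fun i j h ↦ f i j h)) M
  -- lift all coordinates of all relations to a common stage
  have hex : ∀ p : s × Fin n, ∃ (i : ι) (x : G i),
      Ring.DirectLimit.of G (fun i j h ↦ f i j h) i x = p.1.1 p.2 :=
    fun p => Ring.DirectLimit.exists_of _
  choose idx x hx using hex
  obtain ⟨i, hi⟩ := Finset.exists_le (Finset.univ.image idx)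
  have hidx : ∀ p, idx p ≤ i := fun p => hi _ (Finset.mem_image_of_mem _ (Finset.mem_univ p))
  let ρ : s → Fin n → G i := fun r a => f _ _ (hidx (r, a)) (x (r, a))
  let _ : Algebra (G i) (Ring.DirectLimit G (fun i j h ↦ f i j h)) :=
    (Ring.DirectLimit.of G (fun i j h ↦ f i j h) i).toAlgebra
  have hρ : ∀ r a, algebraMap (G i) (Ring.DirectLimit G (fun i j h ↦ f i j h)) (ρ r a) = r.1 a := by
    intro r a
    change Ring.DirectLimit.of G (fun i j h ↦ f i j h) i (f _ _ (hidx (r, a)) (x (r, a))) = _
    rw [Ring.DirectLimit.of_f, hx]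
  obtain ⟨hfp, hiso⟩ := Groth.Agent.H24.exists_equiv_tensor_of_lift K e s hs ρ hρ
  exact ⟨i, _, inferInstance, inferInstance, hfp, hiso⟩

end Groth.Agent.S4726
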