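import Mathlib
import Groth.Statements.S4728
import Groth.Agent.H72.EquidimFlat
import Groth.Agent.H26.FormalFibreQuot
-- import your own Groth.Agent.* helpers here

set_option autoImplicit false
universe u
open EGA4

namespace Groth.Agent.S4728

open IsLocalRing TensorProduct

/-- Let A be a Noetherian local domain of dimension 1 with maximal ideal m, A' a Noetherian local ring
and A → A' a local homomorphism which is normal (flat, with geometrically normal fibres). Then the
ideal m A' of A' is prime and the local ring of A' at m A' has dimension 1. (The remaining clauses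
of the published item, describing A' inside its total ring of fractions, are not restated.) -/
theorem result (A A' : Type u) [CommRing A] [CommRing A']
    [IsNoetherianRing A] [IsNoetherianRing A'] [IsLocalRing A] [IsLocalRing A'] [IsDomain A]
    (hA : ringKrullDim A = 1) [Algebra A A'] [IsLocalHom (algebraMap A A')] (h : EGA4.IsNormalHom A A') :
    ((IsLocalRing.maximalIdeal A).map (algebraMap A A')).IsPrime ∧
      ((IsLocalRing.maximalIdeal A).map (algebraMap A A')).height = 1 := by
  obtain ⟨hflat, hfib⟩ := h
  -- the closed fibre is a normal ring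
  have h1 := hfib (maximalIdeal A) (maximalIdeal A).ResidueField (Module.Finite.self _)
  have e1 : ((maximalIdeal A).ResidueField ⊗[(maximalIdeal A).ResidueField]
      ((maximalIdeal A).Fiber A')) ≃+* (maximalIdeal A).Fiber A' :=
    (Algebra.TensorProduct.lid (maximalIdeal A).ResidueField ((maximalIdeal A).Fiber A')).toRingEquiv
  have h2 : EGA4.IsNormalRing ((maximalIdeal A).Fiber A') :=
    Groth.Agent.H26.FormalFibreQuot.isNormalRing_of_ringEquiv e1 h1
  let e0 : (A ⧸ maximalIdeal A) ≃ₐ[A] (maximalIdeal A).ResidueField :=
    AlgEquiv.ofBijective (IsScalarTower.toAlgHom A (A ⧸ maximalIdeal A) (maximalIdeal A).ResidueField)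
      (Ideal.bijective_algebraMap_quotient_residueField (maximalIdeal A))
  have e2 : (maximalIdeal A).Fiber A' ≃+* (A' ⧸ (maximalIdeal A).map (algebraMap A A')) :=
    ((Algebra.TensorProduct.congr e0.symm (AlgEquiv.refl : A' ≃ₐ[A] A')).toRingEquiv).trans
      (Algebra.TensorProduct.quotIdealMapEquivQuotTensor A' (maximalIdeal A)).symm.toRingEquiv
  have h3 : EGA4.IsNormalRing (A' ⧸ (maximalIdeal A).map (algebraMap A A')) :=
    Groth.Agent.H26.FormalFibreQuot.isNormalRing_of_ringEquiv e2 h2
  have hne : (maximalIdeal A).map (algebraMap A A') ≠ ⊤ :=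
    Groth.Agent.H72.EquidimFlat.map_ne_top (maximalIdeal A)
  have hnt : Nontrivial (A' ⧸ (maximalIdeal A).map (algebraMap A A')) :=
    Ideal.Quotient.nontrivial_iff.mpr hne
  have hloc : IsLocalRing (A' ⧸ (maximalIdeal A).map (algebraMap A A')) :=
    IsLocalRing.of_surjective' (Ideal.Quotient.mk _) Ideal.Quotient.mk_surjective
  have h4 := (h3 (maximalIdeal (A' ⧸ (maximalIdeal A).map (algebraMap A A')))).1
  have hinj : Function.Injective (algebraMap (A' ⧸ (maximalIdeal A).map (algebraMap A A'))
      (Localization.AtPrime (maximalIdeal (A' ⧸ (maximalIdeal A).map (algebraMap A A'))))) := by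
    apply IsLocalization.injective (M := (maximalIdeal (A' ⧸ (maximalIdeal A).map (algebraMap A A'))).primeCompl)
    intro x hx
    have hu : IsUnit x := by
      by_contra hnu
      exact hx ((IsLocalRing.mem_maximalIdeal x).2 hnu)
    exact IsUnit.mem_nonZeroDivisors hu
  have hdom : IsDomain (A' ⧸ (maximalIdeal A).map (algebraMap A A')) :=
    Function.Injective.isDomain _ hinj
  have hprime : ((maximalIdeal A).map (algebraMap A A')).IsPrime :=
    (Ideal.Quotient.isDomain_iff_prime _).1 hdom
  refine ⟨hprime, ?_⟩
  have hmin : (maximalIdeal A).map (algebraMap A A') ∈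
      ((maximalIdeal A).map (algebraMap A A')).minimalPrimes := by
    rw [Ideal.minimalPrimes_eq_subsingleton_self]
    rfl
  rw [Groth.Agent.H72.EquidimFlat.height_eq_of_mem_minimalPrimes_map (maximalIdeal A) _ hmin]
  have h5 := IsLocalRing.maximalIdeal_height_eq_ringKrullDim (R := A)
  rw [hA] at h5
  exact_mod_cast h5

end Groth.Agent.S4728
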