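import Groth.Statements.S4729
import Groth.Agent.H24.SupportLoc

set_option autoImplicit false
universe u
open EGA4

namespace Groth.Agent.S4729

/-- Let A be a commutative ring, M a finite A-module and p ⊆ q prime ideals of A (so that p is a
generization of q). Then the dimension of the A_p-module M_p is at most the dimension of the
A_q-module M_q. -/
theorem result (A : Type u) [CommRing A] (M : Type u) [AddCommGroup M] [Module A M]
    [Module.Finite A M] (p q : Ideal A) [p.IsPrime] [q.IsPrime] (hpq : p ≤ q) :
    Module.supportDim (Localization.AtPrime p) (LocalizedModule p.primeCompl M) ≤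
      Module.supportDim (Localization.AtPrime q) (LocalizedModule q.primeCompl M) := by
  unfold Module.supportDim
  let ep := IsLocalization.AtPrime.primeSpectrumOrderIso (Localization.AtPrime p) p
  let eq := IsLocalization.AtPrime.primeSpectrumOrderIso (Localization.AtPrime q) q
  have hep : ∀ P : PrimeSpectrum (Localization.AtPrime p),
      ((ep P : Set.Iic (⟨p, inferInstance⟩ : PrimeSpectrum A)) : PrimeSpectrum A) =
        P.comap (algebraMap A (Localization.AtPrime p)) := fun P => rfl
  have heq : ∀ P : PrimeSpectrum (Localization.AtPrime q),
      ((eq P : Set.Iic (⟨q, inferInstance⟩ : PrimeSpectrum A)) : PrimeSpectrum A) =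
        P.comap (algebraMap A (Localization.AtPrime q)) := fun P => rfl
  let ψ : PrimeSpectrum (Localization.AtPrime p) → PrimeSpectrum (Localization.AtPrime q) :=
    fun P => eq.symm ⟨(ep P).1, le_trans (ep P).2 (show (⟨p, inferInstance⟩ : PrimeSpectrum A) ≤
      ⟨q, inferInstance⟩ from hpq)⟩
  have hψ : ∀ P, (ψ P).comap (algebraMap A (Localization.AtPrime q)) =
      P.comap (algebraMap A (Localization.AtPrime p)) := by
    intro P
    rw [← heq, ← hep]
    simp only [ψ, OrderIso.apply_symm_apply]
  have hψmono : StrictMono ψ := by
    intro P P' h
    simp only [ψ]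
    rw [OrderIso.lt_iff_lt]
    have := ep.strictMono h
    exact this
  let φ : Module.support (Localization.AtPrime p) (LocalizedModule p.primeCompl M) →
      Module.support (Localization.AtPrime q) (LocalizedModule q.primeCompl M) :=
    fun P => ⟨ψ P.1, by
      rw [Groth.Agent.H24.mem_support_localizedModule_iff, hψ,
        ← Groth.Agent.H24.mem_support_localizedModule_iff]
      exact P.2⟩
  have hφ : StrictMono φ := fun P P' h => hψmono h
  exact Order.krullDim_le_of_strictMono φ hφ

end Groth.Agent.S4729
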