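import Groth.Statements.S4731
import Groth.Agent.H24.NoethQuot

set_option autoImplicit false
universe u
open EGA4

namespace Groth.Agent.S4731

/-- Let S → R be an injective homomorphism of commutative rings making R a finite S-module, with R
Noetherian; let c be the conductor of S in R, the ideal of those s in S with s R contained in (the
image of) S. If S/c is Noetherian, then every increasing sequence of ideals of S contained in c is
eventually constant. -/
theorem result (S R : Type u) [CommRing S] [CommRing R] [Algebra S R]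
    [FaithfulSMul S R] [IsNoetherianRing R] [Module.Finite S R] (c : Ideal S)
    (hc : ∀ s : S, s ∈ c ↔ ∀ r : R, ∃ s' : S, algebraMap S R s' = algebraMap S R s * r)
    [IsNoetherianRing (S ⧸ c)] (a : ℕ →o Ideal S) (ha : ∀ n, a n ≤ c) :
    ∃ N : ℕ, ∀ n, N ≤ n → a n = a N := by
  have hinj : Function.Injective (algebraMap S R) := FaithfulSMul.algebraMap_injective S R
  -- Step 1: the chain of extended ideals stabilizes in `R`.
  obtain ⟨N, hN⟩ := monotone_stabilizes_iff_noetherian.mpr (inferInstance : IsNoetherian R R)
    ⟨fun n => (a n).map (algebraMap S R), fun m n h => Ideal.map_mono (a.monotone h)⟩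
  have hN' : ∀ m, N ≤ m → (a N).map (algebraMap S R) = (a m).map (algebraMap S R) := hN
  let M : Submodule S R := ((a N).map (algebraMap S R)).restrictScalars S
  let P : ℕ → Submodule S R := fun n => Submodule.map (Algebra.linearMap S R) (a n)
  have hPmono : Monotone P := fun m n h => Submodule.map_mono (a.monotone h)
  have hPM : ∀ n, N ≤ n → P n ≤ M := by
    rintro n hn _ ⟨y, hy, rfl⟩
    change algebraMap S R y ∈ (a N).map (algebraMap S R)
    rw [hN' n hn]
    exact Ideal.mem_map_of_mem _ hy
  have hcM : ∀ m ∈ (a N).map (algebraMap S R), ∀ s ∈ c, algebraMap S R s * m ∈ P N := by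
    intro m hm
    refine Submodule.span_induction ?_ ?_ ?_ ?_ hm
    · rintro _ ⟨x, hx, rfl⟩ s hs
      exact ⟨s * x, (a N).mul_mem_left s hx, by simp [map_mul]⟩
    · intro s hs
      simp
    · intro x y _ _ hx hy s hs
      rw [mul_add]
      exact (P N).add_mem (hx s hs) (hy s hs)
    · intro r x _ hx s hs
      obtain ⟨s', hs'⟩ := (hc s).mp hs r
      have hs'c : s' ∈ c := by
        rw [hc]
        intro r'
        obtain ⟨s'', hs''⟩ := (hc s).mp hs (r * r')
        exact ⟨s'', by rw [hs'', hs', mul_assoc]⟩
      have := hx s' hs'c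
      rw [hs'] at this
      simpa [smul_eq_mul, mul_assoc] using this
  let P' : ℕ → Submodule S M := fun n => Submodule.comap M.subtype (P n)
  have hP'mono : Monotone P' := fun m n h => Submodule.comap_mono (hPmono h)
  have hMfin : Module.Finite S M :=
    Module.Finite.iff_fg.mpr (IsNoetherian.noetherian ((a N).map (algebraMap S R))).restrictScalars
  have hNoeth : IsNoetherian S (M ⧸ P' N) := by
    refine Groth.Agent.H24.isNoetherian_of_isNoetherianRing_quotient c _ ?_
    intro s hs q
    obtain ⟨m, rfl⟩ := Submodule.mkQ_surjective _ q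
    rw [← map_smul, Submodule.mkQ_apply, Submodule.Quotient.mk_eq_zero]
    have := hcM m.1 m.2 s hs
    change ((s • m : M) : R) ∈ P N
    simpa [Algebra.smul_def] using this
  obtain ⟨N₂, hN₂⟩ := monotone_stabilizes_iff_noetherian.mpr hNoeth
    ⟨fun n => (P' n).map (P' N).mkQ, fun m n h => Submodule.map_mono (hP'mono h)⟩
  have hN₂' : ∀ m, N₂ ≤ m → (P' N₂).map (P' N).mkQ = (P' m).map (P' N).mkQ := hN₂
  refine ⟨max N N₂, fun n hn => ?_⟩
  have hnN : N ≤ n := le_trans (le_max_left _ _) hn
  have hnN₂ : N₂ ≤ n := le_trans (le_max_right _ _) hn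
  have h1 : (P' n).map (P' N).mkQ = (P' (max N N₂)).map (P' N).mkQ := by
    rw [← hN₂' n hnN₂, ← hN₂' (max N N₂) (le_max_right _ _)]
  have h2 : P' n = P' (max N N₂) := by
    have h3 := congrArg (Submodule.comap (P' N).mkQ) h1
    rw [Submodule.comap_map_mkQ, Submodule.comap_map_mkQ,
      sup_eq_right.mpr (hP'mono hnN), sup_eq_right.mpr (hP'mono (le_max_left _ _))] at h3
    exact h3
  have h4 : P n = P (max N N₂) := by
    have h5 := congrArg (Submodule.map M.subtype) h2
    simp only [P', Submodule.map_comap_subtype] at h5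
    rwa [inf_eq_right.mpr (hPM n hnN), inf_eq_right.mpr (hPM _ (le_max_left _ _))] at h5
  exact Submodule.map_injective_of_injective (f := Algebra.linearMap S R) hinj h4

end Groth.Agent.S4731
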