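import Groth.Statements.S4732
import Mathlib
-- import your own Groth.Agent.* helpers here

set_option autoImplicit false
universe u
open EGA4

namespace Groth.Agent.S4732

open AlgebraicGeometry CategoryTheory in
/-- Let k be a field, X a scheme locally of finite type over k and x a point of X. Then there are an
open neighbourhood U of x, a k-scheme Y all of whose local rings are regular, and an immersion U → Y
compatible with the structure morphisms to Spec k. -/
theorem result (k : Type u) [Field k] {X : Scheme.{u}}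
    (f : X ⟶ Spec (CommRingCat.of k)) [LocallyOfFiniteType f] (x : X) :
    ∃ (U : X.Opens) (_ : x ∈ U) (Y : Scheme.{u}) (g : Y ⟶ Spec (CommRingCat.of k)) (i : (U : Scheme.{u}) ⟶ Y),
      IsImmersion i ∧ i ≫ g = U.ι ≫ f ∧ ∀ y : Y, IsRegularLocalRing (Y.presheaf.stalk y) := by
  obtain ⟨U, hU, hxU, -⟩ := exists_isAffineOpen_mem_and_subset (x := x) (U := ⊤) trivial
  have hle : U ≤ f ⁻¹ᵁ (⊤ : (Spec (CommRingCat.of k)).Opens) := le_top
  have hft1 : (f.appLE ⊤ U hle).hom.FiniteType :=
    HasRingHomProperty.appLE @LocallyOfFiniteType f inferInstance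
      ⟨⊤, isAffineOpen_top _⟩ ⟨U, hU⟩ hle
  have hft2 : ((Scheme.ΓSpecIso (CommRingCat.of k)).inv ≫ f.appLE ⊤ U hle).hom.FiniteType := by
    rw [CommRingCat.hom_comp]
    exact hft1.comp (RingHom.FiniteType.of_surjective _
      (ConcreteCategory.bijective_of_isIso (Scheme.ΓSpecIso (CommRingCat.of k)).inv).2)
  let alg : Algebra k Γ(X, U) :=
    ((Scheme.ΓSpecIso (CommRingCat.of k)).inv ≫ f.appLE ⊤ U hle).hom.toAlgebra
  have hft3 : Algebra.FiniteType k Γ(X, U) := hft2
  obtain ⟨n, φ, hφ⟩ := Algebra.FiniteType.iff_quotient_mvPolynomial''.mp hft3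
  have hcl : IsClosedImmersion (Spec.map (CommRingCat.ofHom φ.toRingHom)) :=
    IsClosedImmersion.spec_of_surjective (CommRingCat.ofHom φ.toRingHom) hφ
  refine ⟨U, hxU, Spec (CommRingCat.of (MvPolynomial (Fin n) k)),
    Spec.map (CommRingCat.ofHom (MvPolynomial.C : k →+* MvPolynomial (Fin n) k)),
    hU.isoSpec.hom ≫ Spec.map (CommRingCat.ofHom φ.toRingHom), inferInstance, ?_, ?_⟩
  · rw [Category.assoc, ← Spec.map_comp, ← cancel_epi hU.isoSpec.inv, Iso.inv_hom_id_assoc,
      ← Category.assoc, hU.isoSpec_inv_ι, ← IsAffineOpen.SpecMap_appLE_fromSpec f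
      (isAffineOpen_top _) hU hle, IsAffineOpen.fromSpec_top, Scheme.isoSpec_Spec_inv,
      ← Spec.map_comp]
    congr 1
    ext a
    exact φ.commutes a
  · intro y
    let y' : PrimeSpectrum (MvPolynomial (Fin n) k) := y
    have hy' : y'.asIdeal.IsPrime := y'.isPrime
    have h1 : IsLocalization.AtPrime
        ((AlgebraicGeometry.Spec.structureSheaf (MvPolynomial (Fin n) k)).presheaf.stalk y')
        y'.asIdeal :=
      AlgebraicGeometry.StructureSheaf.IsLocalization.to_stalk (MvPolynomial (Fin n) k) y'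
    have h2 : IsRegularLocalRing (Localization.AtPrime y'.asIdeal) := inferInstance
    exact IsRegularLocalRing.of_ringEquiv (R := Localization.AtPrime y'.asIdeal)
      (IsLocalization.algEquiv y'.asIdeal.primeCompl (Localization.AtPrime y'.asIdeal)
        ((AlgebraicGeometry.Spec.structureSheaf (MvPolynomial (Fin n) k)).presheaf.stalk
          y')).toRingEquiv

end Groth.Agent.S4732
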