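import Groth.Statements.S4733
import Mathlib
import Groth.Agent.H14.GeomBC.TensorRegular
import Groth.Agent.H48.TensorNormal2
import Groth.Agent.H26.ZariskiComplRegular
import Groth.Agent.H26.RegHomField
import Groth.Agent.H47.RegSmoothField
import Groth.Agent.Lead.RegularFlatDescent

set_option autoImplicit false
universe u
open EGA4

namespace Groth.Agent.S4733

open TensorProduct in
/-- For the property 'regular' (affine form): let k be a field, S a Noetherian k-algebra and k' an
extension field of k such that S is of finite type over k or k' is essentially of finite type over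
k; let q' be a prime of S ⊗_k k' and q its contraction to S. If (S ⊗_k k')_{q'} is a regular local
ring then so is S_q; conversely, if k' is separable over k (geometrically reduced) and S_q is
regular, then (S ⊗_k k')_{q'} is regular. -/
theorem result (k S k' : Type u) [Field k] [CommRing S] [Algebra k S]
    [IsNoetherianRing S] [Field k'] [Algebra k k'] (hft : Algebra.FiniteType k S ∨ Algebra.EssFiniteType k k')
    [IsNoetherianRing (S ⊗[k] k')] (q' : Ideal (S ⊗[k] k')) [q'.IsPrime] :
    (IsRegularLocalRing (Localization.AtPrime q') →
        IsRegularLocalRing (Localization.AtPrime (q'.comap (algebraMap S (S ⊗[k] k'))))) ∧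
      (Algebra.IsGeometricallyReduced k k' →
        IsRegularLocalRing (Localization.AtPrime (q'.comap (algebraMap S (S ⊗[k] k')))) →
          IsRegularLocalRing (Localization.AtPrime q')) := by
  constructor
  · intro h1
    haveI := h1
    letI : Algebra (Localization.AtPrime (q'.comap (algebraMap S (S ⊗[k] k'))))
        (Localization.AtPrime q') :=
      (Localization.localRingHom (q'.comap (algebraMap S (S ⊗[k] k'))) q'
        (algebraMap S (S ⊗[k] k')) rfl).toAlgebra
    haveI : IsLocalHom (algebraMap (Localization.AtPrime (q'.comap (algebraMap S (S ⊗[k] k'))))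
        (Localization.AtPrime q')) := by
      show IsLocalHom (Localization.localRingHom (q'.comap (algebraMap S (S ⊗[k] k'))) q'
        (algebraMap S (S ⊗[k] k')) rfl)
      infer_instance
    haveI : Module.Flat (Localization.AtPrime (q'.comap (algebraMap S (S ⊗[k] k'))))
        (Localization.AtPrime q') := by
      have hf : (algebraMap S (S ⊗[k] k')).Flat := RingHom.flat_algebraMap_iff.2 inferInstance
      exact RingHom.Flat.localRingHom hf q' (q'.comap (algebraMap S (S ⊗[k] k'))) rfl
    exact Groth.Agent.Lead.RLR.isRegularLocalRing_of_flat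
      (Localization.AtPrime (q'.comap (algebraMap S (S ⊗[k] k')))) (Localization.AtPrime q')
  · intro hgr h1
    haveI := hgr
    haveI := h1
    haveI hT : IsRegularRing (Localization.AtPrime (q'.comap (algebraMap S (S ⊗[k] k')))) :=
      Groth.Agent.H26.ZariskiCompl.isRegularRing_of_isRegularLocalRing _
    letI : Algebra (S ⊗[k] k')
        (Localization.AtPrime (q'.comap (algebraMap S (S ⊗[k] k'))) ⊗[k] k') :=
      (Algebra.TensorProduct.map (IsScalarTower.toAlgHom k S
        (Localization.AtPrime (q'.comap (algebraMap S (S ⊗[k] k'))))) (AlgHom.id k k')).toRingHom.toAlgebra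
    haveI hloc := Groth.Agent.H48.TensorNormal.isLocalization_tensor_left k S k'
      (q'.comap (algebraMap S (S ⊗[k] k'))).primeCompl
      (Localization.AtPrime (q'.comap (algebraMap S (S ⊗[k] k'))))
    haveI hN : IsNoetherianRing
        (Localization.AtPrime (q'.comap (algebraMap S (S ⊗[k] k'))) ⊗[k] k') :=
      IsLocalization.isNoetherianRing
        (Algebra.algebraMapSubmonoid (S ⊗[k] k') (q'.comap (algebraMap S (S ⊗[k] k'))).primeCompl)
        _ inferInstance
    have hgeom : CAlg.IsGeometricallyRegular k k' := by
      intro k'' _ _ hfin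
      haveI := hfin
      haveI : Algebra.IsAlgebraic k k'' := Algebra.IsAlgebraic.of_finite k k''
      haveI hred : IsReduced (k'' ⊗[k] k') := inferInstance
      haveI hart0 : IsArtinianRing (k' ⊗[k] k'') := IsArtinianRing.of_finite k' _
      haveI hart : IsArtinianRing (k'' ⊗[k] k') :=
        (Algebra.TensorProduct.comm k k' k'').toRingEquiv.isArtinianRing
      exact Groth.Agent.H26.RegHomField.isRegularRing_of_isArtinianRing_of_isReduced _
    haveI hn : IsRegularRing
        (Localization.AtPrime (q'.comap (algebraMap S (S ⊗[k] k'))) ⊗[k] k') :=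
      Groth.Agent.H14.GeomBC.isRegularRing_tensor_of_isRegularRing_of_isGeometricallyRegular k
        (Localization.AtPrime (q'.comap (algebraMap S (S ⊗[k] k')))) k' hgeom
    refine Groth.Agent.H47.RSF.isRegularLocalRing_atPrime_of_isLocalization
      (S := Localization.AtPrime (q'.comap (algebraMap S (S ⊗[k] k'))) ⊗[k] k')
      (Algebra.algebraMapSubmonoid (S ⊗[k] k') (q'.comap (algebraMap S (S ⊗[k] k'))).primeCompl)
      q' ?_
    rw [Set.disjoint_left]
    rintro _ ⟨s, hs, rfl⟩ hsq
    exact hs hsq

end Groth.Agent.S4733
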