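import Groth.Statements.S4734
import Groth.Agent.H29.NormFlatLoc
import Groth.Agent.H29.SkAt

set_option autoImplicit false
universe u
open EGA4

namespace Groth.Agent.S4734


/-- Let A be a Noetherian ring, I a nilpotent ideal of A and M a finite A-module whose support is all of
Spec A and which is normally flat along I. Then for every prime p of A: M satisfies Serre's
condition (S_n) at p if and only if the A-module A/I does; and the codepth of M_p is at most n if
and only if the codepth of the A_p-module (A/I)_p is at most n (codepth written additively as dim ≤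
depth + n). -/
theorem result (n : ℕ) (A : Type u) [CommRing A] [IsNoetherianRing A]
    (I : Ideal A) (hI : IsNilpotent I) (M : Type u) [AddCommGroup M] [Module A M] [Module.Finite A M]
    (hsupp : Module.support A M = Set.univ) (hM : EGA4.IsNormallyFlat I M) (p : Ideal A) [p.IsPrime] :
    (EGA4.HasSkAt n A M p ↔ EGA4.HasSkAt n A (A ⧸ I) p) ∧
      (Module.supportDim (Localization.AtPrime p) (LocalizedModule p.primeCompl M) ≤
          ((LocCoh.depth (Localization.AtPrime p) (LocalizedModule p.primeCompl M) : ℕ∞) : WithBot ℕ∞) + n ↔
        Module.supportDim (Localization.AtPrime p) (LocalizedModule p.primeCompl (A ⧸ I)) ≤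
          ((LocCoh.depth (Localization.AtPrime p) (LocalizedModule p.primeCompl (A ⧸ I)) : ℕ∞) : WithBot ℕ∞) + n) := by
  have hnt : ∀ (q : Ideal A) [q.IsPrime], Nontrivial (LocalizedModule q.primeCompl M) := by
    intro q _
    have hq : (⟨q, inferInstance⟩ : PrimeSpectrum A) ∈ Module.support A M := by
      rw [hsupp]; exact Set.mem_univ _
    exact Module.mem_support_iff.mp hq
  have key : ∀ (q : Ideal A) [q.IsPrime],
      LocCoh.depth (Localization.AtPrime q) (LocalizedModule q.primeCompl M) =
        LocCoh.depth (Localization.AtPrime q) (LocalizedModule q.primeCompl (A ⧸ I)) ∧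
      Module.supportDim (Localization.AtPrime q) (LocalizedModule q.primeCompl M) =
        Module.supportDim (Localization.AtPrime q) (LocalizedModule q.primeCompl (A ⧸ I)) := by
    intro q _
    haveI := hnt q
    exact Groth.Agent.H29.NormFlatLoc.depth_supportDim_eq I M hI hM q
  refine ⟨?_, ?_⟩
  · rw [Groth.Agent.H29.SkAt.hasSkAt_iff, Groth.Agent.H29.SkAt.hasSkAt_iff]
    refine forall_congr' fun q => ?_
    refine forall_congr' fun hq => ?_
    refine imp_congr_right fun _ => ?_
    unfold Groth.Agent.H29.SkAt.SkCond
    rw [(key q).1, (key q).2]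
  · rw [(key p).1, (key p).2]

end Groth.Agent.S4734
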