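import Groth.Statements.S4736
import Groth.Agent.H24.FibreLoc
import Mathlib.RingTheory.Flat.Localization
import Mathlib.RingTheory.RegularLocalRing.Defs

set_option autoImplicit false
universe u
open EGA4

namespace Groth.Agent.S4736

/-- Let A → B be a regular homomorphism of Noetherian rings (flat, with geometrically regular fibres)
and S a multiplicative subset of A. Then the induced homomorphism S⁻¹A → S⁻¹B is regular. (S⁻¹A and
S⁻¹B are given here as arbitrary localizations at S and at its image.) -/
theorem result (A B : Type u) [CommRing A] [CommRing B] [IsNoetherianRing A] [IsNoetherianRing B]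
    [Algebra A B] (h : CAlg.IsRegularHom A B) (S : Submonoid A)
    (A' B' : Type u) [CommRing A'] [CommRing B'] [Algebra A A'] [Algebra B B'] [Algebra A' B'] [Algebra A B']
    [IsScalarTower A A' B'] [IsScalarTower A B B'] [IsLocalization S A']
    [IsLocalization (Algebra.algebraMapSubmonoid B S) B'] :
    CAlg.IsRegularHom A' B' := by
  obtain ⟨hflat, hfib⟩ := h
  have hBB' : Module.Flat B B' := IsLocalization.flat B' (Algebra.algebraMapSubmonoid B S)
  have hAB' : Module.Flat A B' := Module.Flat.trans A B B'
  refine ⟨(Module.flat_iff_of_isLocalization A' S B').mpr hAB', fun p' _ => ?_⟩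
  have key : ∀ (k' : Type u) [Field k'] [Algebra p'.ResidueField k'],
      Module.Finite p'.ResidueField k' → IsRegularRing (TensorProduct p'.ResidueField k' (p'.Fiber B')) := by
    intro k' _ _ hfin
    obtain ⟨inst, hfin', ⟨e⟩⟩ :=
      H24.exists_fibre_ringEquiv_of_isLocalization A B S A' B' p' k'
    have := (hfib (p'.comap (algebraMap A A'))).2 k' hfin'
    exact IsRegularRing.of_ringEquiv
      (R := TensorProduct (p'.comap (algebraMap A A')).ResidueField k'
        ((p'.comap (algebraMap A A')).Fiber B)) e
  refine ⟨?_, key⟩
  have h1 := key p'.ResidueField inferInstance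
  have h2 : IsNoetherianRing (TensorProduct p'.ResidueField p'.ResidueField (p'.Fiber B')) :=
    h1.toIsNoetherian
  exact isNoetherianRing_of_ringEquiv _
    (Algebra.TensorProduct.lid p'.ResidueField (p'.Fiber B')).toRingEquiv

end Groth.Agent.S4736
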