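import Groth.Statements.S4742
import Groth.Agent.H24.Catenary

set_option autoImplicit false
universe u
open EGA4

namespace Groth.Agent.S4742

/-- Let A be a Noetherian local ring which is equidimensional and catenary, t an element of A belonging
to a system of parameters (dim A/tA + 1 = dim A), and Z a set of prime ideals of A stable under
specialization. Write X = Spec A, X₀ = V(t), X₁ = X ∖ X₀ and Z₀ = Z ∩ X₀, Z₁ = Z ∩ X₁. Then
codim(Z₀, X₀) ≤ codim(Z, X) ≤ codim(Z₁, X₁), where each codimension is the infimum of the heights of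
the primes concerned, heights for Z₀ being taken in A/tA. -/
theorem result (A : Type u) [CommRing A] [IsNoetherianRing A] [IsLocalRing A]
    (hA : EGA4.IsEquidim A) (hA' : CAlg.IsCatenary A) (t : A)
    (ht : ringKrullDim (A ⧸ Ideal.span {t}) + 1 = ringKrullDim A) (Z : Set (PrimeSpectrum A))
    (hZ : StableUnderSpecialization Z) :
    (⨅ p ∈ {p ∈ Z | t ∈ p.asIdeal}, (p.asIdeal.map (Ideal.Quotient.mk (Ideal.span {t}))).height) ≤
        ⨅ p ∈ Z, p.asIdeal.height ∧
      (⨅ p ∈ Z, p.asIdeal.height) ≤ ⨅ p ∈ {p ∈ Z | t ∉ p.asIdeal}, p.asIdeal.height := by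
  constructor
  · refine le_iInf₂ fun p hp => ?_
    by_cases htp : t ∈ p.asIdeal
    · refine iInf₂_le_of_le p ⟨hp, htp⟩ ?_
      refine H24.height_map_mk_le _ p ?_
      rwa [Ideal.span_singleton_le_iff_mem]
    · have htm : t ∈ IsLocalRing.maximalIdeal A := by
        by_contra hcon
        have hunit : IsUnit t := by
          by_contra h
          exact hcon ((IsLocalRing.mem_maximalIdeal t).mpr h)
        have htop : Ideal.span {t} = ⊤ := Ideal.span_singleton_eq_top.mpr hunit
        have hsub : Subsingleton (A ⧸ Ideal.span {t}) := by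
          rw [htop]
          exact Ideal.Quotient.subsingleton_iff.mpr rfl
        rw [ringKrullDim_eq_bot_of_subsingleton, WithBot.bot_add] at ht
        exact absurd ht.symm (ne_of_gt (lt_of_lt_of_le (WithBot.bot_lt_coe _)
          ringKrullDim_nonneg_of_nontrivial))
      have hne : p.asIdeal ⊔ Ideal.span {t} ≠ ⊤ := by
        intro h
        have hle : p.asIdeal ⊔ Ideal.span {t} ≤ IsLocalRing.maximalIdeal A :=
          sup_le (IsLocalRing.le_maximalIdeal p.2.ne_top)
            ((Ideal.span_singleton_le_iff_mem _).mpr htm)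
        rw [h] at hle
        exact (IsLocalRing.maximalIdeal.isMaximal A).ne_top (top_le_iff.mp hle)
      obtain ⟨q, hq⟩ := Ideal.nonempty_minimalPrimes hne
      let q' : PrimeSpectrum A := ⟨q, hq.1.1⟩
      have hcov : p ⋖ q' := H24.covBy_of_mem_minimalPrimes_sup_span htp hq
      have hqZ : q' ∈ Z := hZ ((PrimeSpectrum.le_iff_specializes _ _).mp hcov.le) hp
      have htq : t ∈ q := hq.1.2 (Ideal.mem_sup_right (Ideal.mem_span_singleton_self t))
      refine iInf₂_le_of_le q' ⟨hqZ, htq⟩ ?_
      have h1 := H24.ringKrullDim_le_height_add_coheight_of_covBy hA hA'.2 hcov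
      have h2 := H24.height_map_add_coheight_le (Ideal.span {t}) q'
        ((Ideal.span_singleton_le_iff_mem _).mpr htq)
      have hcfin : Order.coheight q' ≠ ⊤ := by
        intro h
        have := Order.coheight_le_krullDim q'
        rw [h] at this
        exact ringKrullDim_ne_top (R := A) (top_le_iff.mp this)
      have h3 : ((((q'.asIdeal.map (Ideal.Quotient.mk (Ideal.span {t}))).height +
          Order.coheight q' + 1 : ℕ∞)) : WithBot ℕ∞) ≤
          ((p.asIdeal.height + 1 + Order.coheight q' : ℕ∞) : WithBot ℕ∞) := by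
        refine le_trans ?_ h1
        rw [← ht]
        push_cast
        gcongr
        exact_mod_cast h2
      rw [WithBot.coe_le_coe] at h3
      have h4 : (q'.asIdeal.map (Ideal.Quotient.mk (Ideal.span {t}))).height +
          (Order.coheight q' + 1) ≤ p.asIdeal.height + (Order.coheight q' + 1) := by
        calc _ = (q'.asIdeal.map (Ideal.Quotient.mk (Ideal.span {t}))).height +
              Order.coheight q' + 1 := by ring
          _ ≤ p.asIdeal.height + 1 + Order.coheight q' := h3
          _ = _ := by ring
      have hfin : Order.coheight q' + 1 ≠ ⊤ := by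
        simp [hcfin]
      exact (ENat.add_le_add_iff_right hfin).mp h4
  · exact biInf_mono fun p hp => hp.1

end Groth.Agent.S4742
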