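import Groth.Statements.S4744
import Groth.Agent.H26.ComplFlatMap
import Groth.Agent.H26.FibreProp
import Groth.Agent.H26.CMFlat

set_option autoImplicit false
universe u
open EGA4

namespace Groth.Agent.S4744

/-- Let A → A' be a flat local homomorphism of Noetherian local rings all of whose fibre rings k(p) ⊗_A
A' are Cohen–Macaulay. If the completion map of A' is regular (the formal fibres of A' are
geometrically regular), then the formal fibres of A are Cohen–Macaulay. -/
theorem result (A A' : Type u) [CommRing A] [CommRing A'] [IsNoetherianRing A]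
    [IsNoetherianRing A'] [IsLocalRing A] [IsLocalRing A'] [Algebra A A'] [IsLocalHom (algebraMap A A')]
    [Module.Flat A A'] (hf : ∀ (p : Ideal A) [p.IsPrime], LocCoh.IsCohenMacaulayRing (p.Fiber A'))
    (hA' : CAlg.IsRegularHom A' (EGA4.Cpl A')) : EGA4.HasCMFormalFibres A := by
  intro p hp
  letI := Groth.Agent.H26.ComplFlatMap.complAlgebra A A'
  haveI := Groth.Agent.H26.ComplFlatMap.isScalarTower A A'
  haveI := Groth.Agent.H26.ComplFlatMap.faithfullyFlat_complHom A A'
  haveI : IsNoetherianRing (EGA4.Cpl A') := Groth.Agent.H20.isNoetherianRing_adicCompletion _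
  haveI : Module.Flat A' (EGA4.Cpl A') := hA'.1
  -- Noetherianity of the fibre of `A → Â'`
  have hN0 : IsNoetherianRing (p.Fiber (EGA4.Cpl A')) := by
    have h1 : Algebra.EssFiniteType (EGA4.Cpl A') (TensorProduct A (EGA4.Cpl A') p.ResidueField) :=
      inferInstance
    have h2 : IsNoetherianRing (TensorProduct A (EGA4.Cpl A') p.ResidueField) :=
      Algebra.EssFiniteType.isNoetherianRing (EGA4.Cpl A') _
    exact isNoetherianRing_of_ringEquiv _
      (Algebra.TensorProduct.comm A (EGA4.Cpl A') p.ResidueField).toRingEquiv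
  have hiso : ∀ (X Y : Type u) [CommRing X] [CommRing Y], (X ≃+* Y) →
      LocCoh.IsCohenMacaulayRing X → LocCoh.IsCohenMacaulayRing Y :=
    fun X Y _ _ e h => Groth.Agent.H26.FormalFibreQuot.isCohenMacaulayRing_of_ringEquiv e h
  have h1 : LocCoh.IsCohenMacaulayRing
      (TensorProduct p.ResidueField p.ResidueField (p.Fiber (EGA4.Cpl A'))) := by
    refine Groth.Agent.H26.FibreProp.comp_generic
      (fun X _ => LocCoh.IsCohenMacaulayRing X) (fun X _ => IsRegularRing X) hiso
      (fun X Y _ _ e h => @IsRegularRing.of_ringEquiv X _ Y _ e h)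
      (fun R S _ _ _ _ _ _ hR hfib =>
        Groth.Agent.H26.CMFlat.isCohenMacaulayRing_of_flat_of_fibres R S hR
          (fun q _ => @Groth.Agent.H26.CMFlat.isCohenMacaulayRing_of_isRegularRing _ _ (hfib q)))
      A A' (EGA4.Cpl A') p p.ResidueField ?_ ?_ ?_ ?_
    · haveI : IsNoetherianRing (p.Fiber A') := (hf p).toIsNoetherian
      exact isNoetherianRing_of_ringEquiv _ (Groth.Agent.H26.FibreProp.selfTensorEquiv p A').symm
    · exact hiso _ _ (Groth.Agent.H26.FibreProp.selfTensorEquiv p A').symm (hf p)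
    · intro q hq k'' _ _ hfin
      exact (hA'.2 q).2 k'' hfin
    · exact isNoetherianRing_of_ringEquiv _
        (Groth.Agent.H26.FibreProp.selfTensorEquiv p (EGA4.Cpl A')).symm
  have h2 : LocCoh.IsCohenMacaulayRing
      (TensorProduct p.ResidueField p.ResidueField (p.Fiber (EGA4.Cpl A))) :=
    Groth.Agent.H26.FibreProp.descent_generic (fun X _ => LocCoh.IsCohenMacaulayRing X) hiso
      (fun R S _ _ _ _ h => Groth.Agent.H26.CMFlat.isCohenMacaulayRing_of_faithfullyFlat R S h)
      A (EGA4.Cpl A) (EGA4.Cpl A') p p.ResidueField h1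
  exact hiso _ _ (Groth.Agent.H26.FibreProp.selfTensorEquiv p (EGA4.Cpl A)) h2

end Groth.Agent.S4744
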