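import Groth.Statements.S4746
import Mathlib
import Groth.Agent.H57.RedFibF
import Groth.Agent.H13.LocalNagata
import Groth.Agent.H24.FlatDescent
import Groth.Agent.H72.FormalEquidim

set_option autoImplicit false
universe u
open EGA4

namespace Groth.Agent.S4746

/-- For the property 'reduced': let A → B be a local homomorphism of Noetherian local rings making B a
flat A-module, such that the residue field of B is a finite extension of the residue field k of A,
and such that the formal fibres of A are geometrically reduced. If the k-algebra k ⊗_A B̂, where B̂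
is the completion of B, is geometrically reduced over k, then every fibre k(p) ⊗_A B of A → B is
geometrically reduced over k(p). -/
theorem result (A B : Type u) [CommRing A] [CommRing B]
    [IsNoetherianRing A] [IsNoetherianRing B] [IsLocalRing A] [IsLocalRing B] [Algebra A B]
    [IsLocalHom (algebraMap A B)] [Module.Flat A B]
    [Module.Finite (IsLocalRing.ResidueField A) (IsLocalRing.ResidueField B)]
    (hA : EGA4.HasGeomReducedFormalFibres A)
    (h : Algebra.IsGeometricallyReduced (IsLocalRing.maximalIdeal A).ResidueField
      ((IsLocalRing.maximalIdeal A).Fiber (EGA4.Cpl B))) :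
    ∀ (p : Ideal A) [p.IsPrime], Algebra.IsGeometricallyReduced p.ResidueField (p.Fiber B) := by
  intro p _
  have hNag : CAlg.IsNagata A :=
    Groth.Agent.H13.LocalNagata.isNagata_of_hasGeomReducedFormalFibres A hA
  haveI := Groth.Agent.H72.FormalEquidim.isLocalRing_compl B
  haveI := Groth.Agent.H72.FormalEquidim.isNoetherianRing_compl B
  haveI := Groth.Agent.H72.FormalEquidim.isLocalHom_compl B
  haveI : Module.FaithfullyFlat B (EGA4.Cpl B) := Module.FaithfullyFlat.of_flat_of_isLocalHom
  haveI : Module.Flat A (EGA4.Cpl B) := Module.Flat.trans A B (EGA4.Cpl B)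
  haveI : IsLocalHom (algebraMap A (EGA4.Cpl B)) := by
    have h0 : algebraMap A (EGA4.Cpl B) = (algebraMap B (EGA4.Cpl B)).comp (algebraMap A B) := rfl
    rw [h0]
    exact RingHom.isLocalHom_comp _ _
  have h1 : Algebra.IsGeometricallyReduced p.ResidueField (p.Fiber (EGA4.Cpl B)) :=
    Groth.Agent.H57.RedFib.isGeometricallyReduced_fibres_of_closedFibre A (EGA4.Cpl B) hNag h p
  let f : p.Fiber B →ₐ[p.ResidueField] p.Fiber (EGA4.Cpl B) :=
    Algebra.TensorProduct.map (AlgHom.id _ _) (IsScalarTower.toAlgHom A B (EGA4.Cpl B))
  refine Algebra.IsGeometricallyReduced.of_injective f ?_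
  exact Groth.Agent.H24.lTensor_algebraMap_injective_of_faithfullyFlat A B (EGA4.Cpl B)
    p.ResidueField

end Groth.Agent.S4746
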