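import Groth.Statements.S4748
import Mathlib
import Groth.Agent.H48.TensorNormal5

set_option autoImplicit false
universe u
open EGA4

namespace Groth.Agent.S4748

open TensorProduct in
/-- For the property 'normal' (affine form): let k be a field, S a Noetherian k-algebra and k' an
extension field of k such that S is of finite type over k or k' is essentially of finite type over
k; let q' be a prime of S ⊗_k k' and q its contraction to S. If (S ⊗_k k')_{q'} is an integrally
closed domain then so is S_q; conversely, if k' is separable over k (geometrically reduced) and S_q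
is an integrally closed domain, then so is (S ⊗_k k')_{q'}. -/
theorem result (k S k' : Type u) [Field k] [CommRing S] [Algebra k S]
    [IsNoetherianRing S] [Field k'] [Algebra k k'] (hft : Algebra.FiniteType k S ∨ Algebra.EssFiniteType k k')
    [IsNoetherianRing (S ⊗[k] k')] (q' : Ideal (S ⊗[k] k')) [q'.IsPrime] :
    ((IsDomain (Localization.AtPrime q') ∧ IsIntegrallyClosed (Localization.AtPrime q')) →
        (IsDomain (Localization.AtPrime (q'.comap (algebraMap S (S ⊗[k] k')))) ∧
          IsIntegrallyClosed (Localization.AtPrime (q'.comap (algebraMap S (S ⊗[k] k')))))) ∧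
      (Algebra.IsGeometricallyReduced k k' →
        (IsDomain (Localization.AtPrime (q'.comap (algebraMap S (S ⊗[k] k')))) ∧
          IsIntegrallyClosed (Localization.AtPrime (q'.comap (algebraMap S (S ⊗[k] k'))))) →
          (IsDomain (Localization.AtPrime q') ∧ IsIntegrallyClosed (Localization.AtPrime q'))) := by
  constructor
  · rintro ⟨h1, h2⟩
    haveI := h1
    haveI := h2
    letI : Algebra (Localization.AtPrime (q'.comap (algebraMap S (S ⊗[k] k'))))
        (Localization.AtPrime q') :=
      (Localization.localRingHom (q'.comap (algebraMap S (S ⊗[k] k'))) q'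
        (algebraMap S (S ⊗[k] k')) rfl).toAlgebra
    haveI : IsLocalHom (algebraMap (Localization.AtPrime (q'.comap (algebraMap S (S ⊗[k] k'))))
        (Localization.AtPrime q')) := by
      show IsLocalHom (Localization.localRingHom (q'.comap (algebraMap S (S ⊗[k] k'))) q'
        (algebraMap S (S ⊗[k] k')) rfl)
      infer_instance
    haveI : Module.Flat (Localization.AtPrime (q'.comap (algebraMap S (S ⊗[k] k'))))
        (Localization.AtPrime q') := by
      have hf : (algebraMap S (S ⊗[k] k')).Flat := RingHom.flat_algebraMap_iff.2 inferInstance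
      exact RingHom.Flat.localRingHom hf q' (q'.comap (algebraMap S (S ⊗[k] k'))) rfl
    haveI : Module.FaithfullyFlat (Localization.AtPrime (q'.comap (algebraMap S (S ⊗[k] k'))))
        (Localization.AtPrime q') := Module.FaithfullyFlat.of_flat_of_isLocalHom
    exact Groth.Agent.H20.isDomain_and_isIntegrallyClosed_of_faithfullyFlat
      (A := Localization.AtPrime (q'.comap (algebraMap S (S ⊗[k] k'))))
      (B := Localization.AtPrime q')
  · rintro hgr ⟨h1, h2⟩
    haveI := hgr
    haveI := h1
    haveI := h2
    have hn : EGA4.IsNormalRing
        (Localization.AtPrime (q'.comap (algebraMap S (S ⊗[k] k'))) ⊗[k] k') :=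
      Groth.Agent.H47.isNormalRing_of_ringEquiv
        (Algebra.TensorProduct.comm k k'
          (Localization.AtPrime (q'.comap (algebraMap S (S ⊗[k] k'))))).toRingEquiv
        (Groth.Agent.H47.NSE.isNormalRing_tensor_of_isGeometricallyReduced k k'
          (Localization.AtPrime (q'.comap (algebraMap S (S ⊗[k] k'))))
          (Groth.Agent.H47.SN.isNormalRing_of_isIntegrallyClosed _))
    letI : Algebra (S ⊗[k] k')
        (Localization.AtPrime (q'.comap (algebraMap S (S ⊗[k] k'))) ⊗[k] k') :=
      (Algebra.TensorProduct.map (IsScalarTower.toAlgHom k S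
        (Localization.AtPrime (q'.comap (algebraMap S (S ⊗[k] k'))))) (AlgHom.id k k')).toRingHom.toAlgebra
    haveI := Groth.Agent.H48.TensorNormal.isLocalization_tensor_left k S k'
      (q'.comap (algebraMap S (S ⊗[k] k'))).primeCompl
      (Localization.AtPrime (q'.comap (algebraMap S (S ⊗[k] k'))))
    refine Groth.Agent.H47.SN.normalAt_of_isLocalization
      (Algebra.algebraMapSubmonoid (S ⊗[k] k') (q'.comap (algebraMap S (S ⊗[k] k'))).primeCompl)
      hn q' ?_
    rw [Set.disjoint_left]
    rintro _ ⟨s, hs, rfl⟩ hsq
    exact hs hsq

end Groth.Agent.S4748
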