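import Groth.Statements.S4757
import Groth.Agent.H24.ReducedAscent
import Mathlib.RingTheory.Flat.Localization
import Mathlib.RingTheory.Localization.BaseChange
import Mathlib.RingTheory.SurjectiveOnStalks

set_option autoImplicit false
universe u
open EGA4

namespace Groth.Agent.S4757

open TensorProduct in
/-- Let A → B be a flat homomorphism of Noetherian rings with geometrically reduced fibres and S a
multiplicative subset of A. Then the induced homomorphism S⁻¹A → S⁻¹B (arbitrary localizations at S
and at its image) is flat with geometrically reduced fibres. -/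
theorem result (A B : Type u) [CommRing A] [CommRing B] [IsNoetherianRing A]
    [IsNoetherianRing B] [Algebra A B] [Module.Flat A B]
    (h : ∀ (p : Ideal A) [p.IsPrime], Algebra.IsGeometricallyReduced p.ResidueField (p.Fiber B)) (S : Submonoid A)
    (A' B' : Type u) [CommRing A'] [CommRing B'] [Algebra A A'] [Algebra B B'] [Algebra A' B'] [Algebra A B']
    [IsScalarTower A A' B'] [IsScalarTower A B B'] [IsLocalization S A']
    [IsLocalization (Algebra.algebraMapSubmonoid B S) B'] :
    Module.Flat A' B' ∧ ∀ (p' : Ideal A') [p'.IsPrime], Algebra.IsGeometricallyReduced p'.ResidueField (p'.Fiber B') := by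
  have hBB' : Module.Flat B B' := IsLocalization.flat B' (Algebra.algebraMapSubmonoid B S)
  have hAB' : Module.Flat A B' := Module.Flat.trans A B B'
  refine ⟨(Module.flat_iff_of_isLocalization A' S B').mpr hAB', fun p' _ => ?_⟩
  let p : Ideal A := p'.comap (algebraMap A A')
  have hp : p.IsPrime := Ideal.comap_isPrime _ _
  -- reducedness of the geometric fibre of `A → B` at `p`
  have hred : IsReduced (AlgebraicClosure p.ResidueField ⊗[A] B) := by
    have h1 : IsReduced (AlgebraicClosure p.ResidueField ⊗[p.ResidueField] (p.Fiber B)) :=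
      (Algebra.isGeometricallyReduced_field_iff _ _).mp (h p)
    exact isReduced_of_injective (Algebra.TensorProduct.cancelBaseChange A p.ResidueField
      p.ResidueField (AlgebraicClosure p.ResidueField) B).symm.toRingHom (AlgEquiv.injective _)
  -- the residue field map `κ(p) → κ(p')` is bijective
  let φ : p.ResidueField →+* p'.ResidueField := Ideal.ResidueField.map p p' (algebraMap A A') rfl
  have hφ : Function.Bijective φ :=
    (RingHom.surjectiveOnStalks_of_isLocalization S A').residueFieldMap_bijective p p' rfl
  let Ω' := AlgebraicClosure p'.ResidueField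
  let _ : Algebra p.ResidueField Ω' := ((algebraMap p'.ResidueField Ω').comp φ).toAlgebra
  have htower : IsScalarTower A p.ResidueField Ω' := by
    refine IsScalarTower.of_algebraMap_eq fun a => ?_
    change _ = algebraMap p'.ResidueField Ω' (φ (algebraMap A p.ResidueField a))
    rw [Ideal.ResidueField.map_algebraMap, ← IsScalarTower.algebraMap_apply A A' p'.ResidueField,
      ← IsScalarTower.algebraMap_apply A p'.ResidueField Ω']
  have halg : Algebra.IsAlgebraic p.ResidueField Ω' := by
    refine ⟨fun x => ?_⟩
    rw [isAlgebraic_iff_isIntegral]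
    have hx : IsIntegral p'.ResidueField x := Algebra.IsIntegral.isIntegral x
    let e := RingEquiv.ofBijective φ hφ
    have := IsIntegral.map_of_comp_eq (e.symm : p'.ResidueField →+* p.ResidueField)
      (RingHom.id Ω') (by
        refine RingHom.ext fun y => ?_
        change algebraMap p'.ResidueField Ω' (φ (e.symm y)) = algebraMap p'.ResidueField Ω' y
        congr 1
        exact e.apply_symm_apply y) hx
    exact this
  obtain ⟨f0⟩ := H24.nonempty_algHom_algebraicClosure p.ResidueField Ω'
  let f : Ω' →ₐ[A] AlgebraicClosure p.ResidueField := f0.restrictScalars A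
  let g : Ω' ⊗[A] B →ₐ[A] AlgebraicClosure p.ResidueField ⊗[A] B :=
    Algebra.TensorProduct.map f (AlgHom.id A B)
  have hg : Function.Injective g :=
    Module.Flat.rTensor_preserves_injective_linearMap (M := B) f.toLinearMap f0.injective
  -- `B' ≃ A' ⊗[A] B`
  have hpush : Algebra.IsPushout A A' B B' :=
    (Algebra.isPushout_of_isLocalization S A' B B').symm
  let e0 : A' ⊗[A] B ≃ₐ[A'] B' := Algebra.IsPushout.equiv A A' B B'
  let e1 : Ω' ⊗[A'] B' ≃ₐ[A'] Ω' ⊗[A'] (A' ⊗[A] B) :=
    Algebra.TensorProduct.congr AlgEquiv.refl e0.symm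
  let e2 : Ω' ⊗[A'] (A' ⊗[A] B) ≃ₐ[A'] Ω' ⊗[A] B :=
    Algebra.TensorProduct.cancelBaseChange A A' A' Ω' B
  let e3 : Ω' ⊗[p'.ResidueField] (p'.Fiber B') ≃ₐ[p'.ResidueField] Ω' ⊗[A'] B' :=
    Algebra.TensorProduct.cancelBaseChange A' p'.ResidueField p'.ResidueField Ω' B'
  rw [Algebra.isGeometricallyReduced_field_iff]
  let G : Ω' ⊗[p'.ResidueField] (p'.Fiber B') →+* AlgebraicClosure p.ResidueField ⊗[A] B :=
    g.toRingHom.comp (e2.toRingHom.comp (e1.toRingHom.comp e3.toRingHom))
  have hG : Function.Injective G := fun x y hxy =>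
    e3.injective (e1.injective (e2.injective (hg hxy)))
  exact isReduced_of_injective G hG

end Groth.Agent.S4757
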