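import Groth.Statements.S4784
import Groth.Agent.H24.LimitBaseChange
-- import your own Groth.Agent.* helpers here

set_option autoImplicit false
universe u
open CategoryTheory AlgebraicGeometry
open Lim8

namespace Groth.Agent.S4784

open Limits in
/-- Let S = lim S_i be a cofiltered limit of schemes with affine transition maps and let i be an index.
Then the image of the projection S ⟶ S_i equals the intersection, over all indices j over i, of the
images of the transition maps S_j ⟶ S_i. -/
theorem result {I : Type u} [SmallCategory I] [IsCofiltered I]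
    (D : I ⥤ Scheme.{u}) (c : Limits.Cone D) (hc : Limits.IsLimit c)
    [∀ (i j : I) (f : i ⟶ j), IsAffineHom (D.map f)] (i : I) :
    Set.range ⇑(c.π.app i) = ⋂ (j : I) (φ : j ⟶ i), Set.range ⇑(D.map φ) := by
  apply subset_antisymm
  · rintro _ ⟨s, rfl⟩
    simp only [Set.mem_iInter]
    intro j φ
    refine ⟨c.π.app j s, ?_⟩
    rw [← Scheme.Hom.comp_apply, c.w]
  · intro x hx
    simp only [Set.mem_iInter] at hx
    let g := (D.obj i).fromSpecResidueField x
    let F := Groth.Agent.H24.pullbackDiagram D i g
    let cF := Groth.Agent.H24.pullbackCone D c i g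
    have hcF : IsLimit cF := Groth.Agent.H24.isLimitPullbackCone D c i g hc
    have haff : ∀ φ : Over i, IsAffine (F.obj φ) := by
      intro φ
      have : IsAffineHom (pullback.snd (D.map φ.hom) g) :=
        MorphismProperty.pullback_snd _ _ inferInstance
      change IsAffine (pullback (D.map φ.hom) g)
      exact isAffine_of_isAffineHom (pullback.snd (D.map φ.hom) g)
    have : ∀ {φ ψ : Over i} (f : φ ⟶ ψ), IsAffineHom (F.map f) := fun f => inferInstance
    have : ∀ φ : Over i, Nonempty (F.obj φ) := by
      intro φ
      obtain ⟨y, hy⟩ := hx φ.left φ.hom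
      obtain ⟨t⟩ : Nonempty (Spec ((D.obj i).residueField x)) := inferInstance
      obtain ⟨z, -, -⟩ := Scheme.Pullback.exists_preimage_pullback (f := D.map φ.hom) (g := g) y t
        (by rw [hy, Scheme.fromSpecResidueField_apply])
      exact ⟨z⟩
    have : ∀ φ : Over i, CompactSpace (F.obj φ) := fun φ => inferInstance
    obtain ⟨z⟩ : Nonempty cF.pt := Scheme.nonempty_of_isLimit F cF hcF
    refine ⟨(pullback.fst (c.π.app i) g) z, ?_⟩
    rw [← Scheme.Hom.comp_apply, pullback.condition, Scheme.Hom.comp_apply,
      Scheme.fromSpecResidueField_apply]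

end Groth.Agent.S4784
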