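import Groth.Statements.S4759
import Groth.Agent.H24.LimitCons
-- import your own Groth.Agent.* helpers here

set_option autoImplicit false
universe u
open CategoryTheory AlgebraicGeometry
open Lim8

namespace Groth.Agent.S4759

open Limits Groth.Agent.H24 in
/-- Let S = lim S_i be a cofiltered limit of schemes with affine transition maps, some stage S_{i₀}
being quasi-compact and quasi-separated. Then every constructible subset Z of S is the preimage
under the projection S ⟶ S_i of a constructible subset of S_i, for some index i over i₀. -/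
theorem result {I : Type u} [SmallCategory I] [IsCofiltered I]
    (D : I ⥤ Scheme.{u}) (c : Limits.Cone D) (hc : Limits.IsLimit c)
    [∀ (i j : I) (f : i ⟶ j), IsAffineHom (D.map f)] (i₀ : I) [CompactSpace (D.obj i₀)]
    [QuasiSeparatedSpace (D.obj i₀)] (Z : Set c.pt) (hZ : Topology.IsConstructible Z) :
    ∃ (i : I) (_ : i ⟶ i₀) (Zi : Set (D.obj i)),
      Topology.IsConstructible Zi ∧ (⇑(c.π.app i) ⁻¹' Zi : Set c.pt) = Z := by
  have haff : ∀ {i j : I} (f : i ⟶ j), IsAffineHom (D.map f) := fun f => inferInstance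
  have hcptS : CompactSpace c.pt := by
    have := isAffineHom_π_app D c hc i₀
    exact QuasiCompact.compactSpace_of_compactSpace (c.π.app i₀)
  refine Topology.IsConstructible.empty_union_induction
    (p := fun Z _ => ∃ (i : I) (_ : i ⟶ i₀) (Zi : Set (D.obj i)),
      Topology.IsConstructible Zi ∧ (⇑(c.π.app i) ⁻¹' Zi : Set c.pt) = Z) ?_ ?_ ?_ hZ
  · intro U hU hU'
    obtain ⟨i, φ, V, hVc, hV⟩ := exists_preimage_eq_over D c hc i₀ ⟨U, hU⟩ hU'.isCompact
    have : QuasiSeparatedSpace (D.obj i) := quasiSeparatedSpace_of_quasiSeparated (D.map φ)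
    exact ⟨i, φ, V, hVc.isConstructible V.2, congr_arg (fun W : c.pt.Opens => (W : Set c.pt)) hV⟩
  · rintro s _ t _ ⟨i, φ, Zi, hZi, rfl⟩ ⟨j, ψ, Zj, hZj, rfl⟩
    obtain ⟨k, g₁, g₂, e⟩ := IsCofiltered.cospan φ ψ
    refine ⟨k, g₁ ≫ φ, (D.map g₁) ⁻¹' Zi ∪ (D.map g₂) ⁻¹' Zj,
      ((D.map g₁).isConstructible_preimage hZi).union ((D.map g₂).isConstructible_preimage hZj), ?_⟩
    rw [Set.preimage_union]
    congr 1
    · ext x
      simp only [Set.mem_preimage, ← Scheme.Hom.comp_apply, c.w]
    · ext x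
      simp only [Set.mem_preimage, ← Scheme.Hom.comp_apply, c.w]
  · rintro s _ ⟨i, φ, Zi, hZi, rfl⟩
    exact ⟨i, φ, Ziᶜ, hZi.compl, rfl⟩

end Groth.Agent.S4759
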