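import Groth.Statements.S4760
import Groth.Agent.H24.LimitCons
-- import your own Groth.Agent.* helpers here

set_option autoImplicit false
universe u
open CategoryTheory AlgebraicGeometry
open Lim8

namespace Groth.Agent.S4760

open Limits Groth.Agent.H24 in
/-- Let S = lim S_i be a cofiltered limit of schemes with affine transition maps, some stage S_{i₀}
being quasi-compact and quasi-separated. Then every subset Z of S that is both locally closed and
constructible is the preimage under the projection S ⟶ S_i of a locally closed constructible subset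
of S_i, for some index i over i₀. -/
theorem result {I : Type u} [SmallCategory I] [IsCofiltered I]
    (D : I ⥤ Scheme.{u}) (c : Limits.Cone D) (hc : Limits.IsLimit c)
    [∀ (i j : I) (f : i ⟶ j), IsAffineHom (D.map f)] (i₀ : I)
    [CompactSpace (D.obj i₀)] [QuasiSeparatedSpace (D.obj i₀)] (Z : Set c.pt)
    (hZ : Topology.IsConstructible Z) (hZ' : IsLocallyClosed Z) :
    ∃ (i : I) (_ : i ⟶ i₀) (Zi : Set (D.obj i)),
      Topology.IsConstructible Zi ∧ IsLocallyClosed Zi ∧ (⇑(c.π.app i) ⁻¹' Zi : Set c.pt) = Z := by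
  have haff : ∀ {i j : I} (f : i ⟶ j), IsAffineHom (D.map f) := fun f => inferInstance
  have hπaff := isAffineHom_π_app D c hc i₀
  have hcptS : CompactSpace c.pt := QuasiCompact.compactSpace_of_compactSpace (c.π.app i₀)
  have hqsS : QuasiSeparatedSpace c.pt := quasiSeparatedSpace_of_quasiSeparated (c.π.app i₀)
  have hZc : IsCompact Z := isCompact_of_isConstructible hZ
  obtain ⟨U, hUc, hZU, hUZ⟩ := exists_isCompact_open_of_isLocallyClosed hZ' hZc
  have hUZc : IsCompact ((U : Set c.pt) \ Z) :=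
    isCompact_of_isConstructible ((hUc.isConstructible U.2).sdiff hZ)
  obtain ⟨i, φ, V, hVc, hV⟩ := exists_preimage_eq_over D c hc i₀ U hUc
  obtain ⟨j, ψ, W, hWc, hW⟩ := exists_preimage_eq_over D c hc i₀ ⟨_, hUZ⟩ hUZc
  obtain ⟨k, g₁, g₂, e⟩ := IsCofiltered.cospan φ ψ
  have : QuasiSeparatedSpace (D.obj k) := quasiSeparatedSpace_of_quasiSeparated (D.map (g₁ ≫ φ))
  have hV₁c : IsCompact ((D.map g₁ ⁻¹ᵁ V : (D.obj k).Opens) : Set (D.obj k)) :=
    (D.map g₁).isCompact_preimage hVc
  have hW₁c : IsCompact ((D.map g₂ ⁻¹ᵁ W : (D.obj k).Opens) : Set (D.obj k)) :=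
    (D.map g₂).isCompact_preimage hWc
  refine ⟨k, g₁ ≫ φ, ((D.map g₁ ⁻¹ᵁ V : (D.obj k).Opens) : Set (D.obj k)) \
      ((D.map g₂ ⁻¹ᵁ W : (D.obj k).Opens) : Set (D.obj k)), ?_, ?_, ?_⟩
  · exact (hV₁c.isConstructible (D.map g₁ ⁻¹ᵁ V).2).sdiff (hW₁c.isConstructible (D.map g₂ ⁻¹ᵁ W).2)
  · exact (D.map g₁ ⁻¹ᵁ V).2.isLocallyClosed.inter (D.map g₂ ⁻¹ᵁ W).2.isClosed_compl.isLocallyClosed
  · have h1 : (c.π.app k) ⁻¹' ((D.map g₁ ⁻¹ᵁ V : (D.obj k).Opens) : Set (D.obj k)) = (U : Set c.pt) := by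
      have := congr_arg (fun W : c.pt.Opens => (W : Set c.pt)) (preimage_preimage_eq hc g₁ V)
      rw [hV] at this
      exact this
    have h2 : (c.π.app k) ⁻¹' ((D.map g₂ ⁻¹ᵁ W : (D.obj k).Opens) : Set (D.obj k)) =
        (U : Set c.pt) \ Z := by
      have := congr_arg (fun W : c.pt.Opens => (W : Set c.pt)) (preimage_preimage_eq hc g₂ W)
      rw [hW] at this
      exact this
    rw [Set.preimage_sdiff, h1, h2]
    ext x
    simp only [Set.mem_sdiff, SetLike.mem_coe, not_and, not_not]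
    constructor
    · rintro ⟨hxU, hx⟩
      exact hx hxU
    · intro hx
      exact ⟨hZU hx, fun _ => hx⟩

end Groth.Agent.S4760
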