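import Groth.Statements.S4761
import Groth.Agent.H24.LimitCons
-- import your own Groth.Agent.* helpers here

set_option autoImplicit false
universe u
open CategoryTheory AlgebraicGeometry
open Lim8

namespace Groth.Agent.S4761

open Limits Groth.Agent.H24 in
/-- Let S = lim S_i be a cofiltered limit of schemes with affine transition maps, let S_{i₁} be a
quasi-compact stage and Z₁ a constructible subset of S_{i₁}. Then the preimage of Z₁ in S is open if
and only if, for some index j over i₁, the preimage of Z₁ in S_j is open. -/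
theorem result {I : Type u} [SmallCategory I] [IsCofiltered I]
    (D : I ⥤ Scheme.{u}) (c : Limits.Cone D) (hc : Limits.IsLimit c)
    [∀ (i j : I) (f : i ⟶ j), IsAffineHom (D.map f)] (i₁ : I)
    [CompactSpace (D.obj i₁)] (Z₁ : Set (D.obj i₁)) (hZ : Topology.IsConstructible Z₁) :
    IsOpen (⇑(c.π.app i₁) ⁻¹' Z₁ : Set c.pt) ↔ ∃ (j : I) (φ : j ⟶ i₁), IsOpen (⇑(D.map φ) ⁻¹' Z₁) := by
  have haff : ∀ {i j : I} (f : i ⟶ j), IsAffineHom (D.map f) := fun f => inferInstance
  have hpre : ∀ {j : I} (φ : j ⟶ i₁) (A : Set (D.obj i₁)),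
      (c.π.app j) ⁻¹' ((D.map φ) ⁻¹' A) = (c.π.app i₁) ⁻¹' A := by
    intro j φ A
    ext x
    simp only [Set.mem_preimage, ← Scheme.Hom.comp_apply, c.w]
  constructor
  · intro hT
    have hTc : IsCompact ((c.π.app i₁) ⁻¹' Z₁) := by
      have := isCompact_preimage_inter_of_isConstructible D c hc hZ ⊤ isCompact_univ
      simpa using this
    obtain ⟨j, φ, V, hVc, hV⟩ := exists_preimage_eq_over D c hc i₁ ⟨_, hT⟩ hTc
    have hV' : (c.π.app j) ⁻¹' (V : Set (D.obj j)) = (c.π.app i₁) ⁻¹' Z₁ :=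
      congr_arg (fun W : c.pt.Opens => (W : Set c.pt)) hV
    have : CompactSpace (D.obj j) := QuasiCompact.compactSpace_of_compactSpace (D.map φ)
    have hZj : Topology.IsConstructible ((D.map φ) ⁻¹' Z₁) := (D.map φ).isConstructible_preimage hZ
    -- (a) eventually `V ⊆ Z`
    obtain ⟨k₁, g₁, hg₁⟩ := exists_preimage_eq_empty_of_isConstructible D c hc hZj.compl V ⊥ hVc
      (by
        ext x
        simp only [Set.mem_preimage, Set.mem_sdiff, Set.mem_inter_iff, Set.mem_compl_iff,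
          Set.mem_empty_iff_false, iff_false]
        rintro ⟨⟨h1, h2⟩, -⟩
        have h3 : x ∈ (c.π.app j) ⁻¹' (V : Set (D.obj j)) := h2
        rw [hV', ← hpre φ] at h3
        exact h1 h3)
    -- (b) eventually `Z ⊆ V`
    obtain ⟨k₂, g₂, hg₂⟩ := exists_preimage_eq_empty_of_isConstructible D c hc hZj ⊤ V
      isCompact_univ
      (by
        ext x
        simp only [Set.mem_preimage, Set.mem_sdiff, Set.mem_inter_iff,
          Set.mem_empty_iff_false, iff_false]
        rintro ⟨⟨h1, -⟩, h2⟩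
        have h3 : x ∈ (c.π.app j) ⁻¹' ((D.map φ) ⁻¹' Z₁) := h1
        rw [hpre φ, ← hV'] at h3
        exact h2 h3)
    obtain ⟨k, h₁, h₂, e⟩ := IsCofiltered.cospan g₁ g₂
    refine ⟨k, (h₁ ≫ g₁) ≫ φ, ?_⟩
    have heq : (D.map ((h₁ ≫ g₁) ≫ φ)) ⁻¹' Z₁ = (D.map (h₁ ≫ g₁)) ⁻¹' (V : Set (D.obj j)) := by
      ext x
      have hx1 : D.map ((h₁ ≫ g₁) ≫ φ) x = D.map φ (D.map (h₁ ≫ g₁) x) := by
        rw [D.map_comp, Scheme.Hom.comp_apply]
      constructor
      · intro hx
        by_contra hx'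
        have : D.map h₂ x ∈ (D.map g₂) ⁻¹' (((D.map φ) ⁻¹' Z₁ ∩ (⊤ : (D.obj j).Opens)) \ V) := by
          have e' : D.map g₂ (D.map h₂ x) = D.map (h₁ ≫ g₁) x := by
            rw [e, D.map_comp, Scheme.Hom.comp_apply]
          refine ⟨⟨?_, trivial⟩, ?_⟩
          · change D.map φ (D.map g₂ (D.map h₂ x)) ∈ Z₁
            rw [e', ← hx1]; exact hx
          · change ¬ D.map g₂ (D.map h₂ x) ∈ V
            rw [e']; exact hx'
        rw [hg₂] at this
        exact this
      · intro hx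
        by_contra hx'
        have : D.map h₁ x ∈ (D.map g₁) ⁻¹' ((((D.map φ) ⁻¹' Z₁)ᶜ ∩ V) \ (⊥ : (D.obj j).Opens)) := by
          have e' : D.map g₁ (D.map h₁ x) = D.map (h₁ ≫ g₁) x := by
            rw [D.map_comp, Scheme.Hom.comp_apply]
          refine ⟨⟨?_, ?_⟩, fun h => h⟩
          · change ¬ D.map φ (D.map g₁ (D.map h₁ x)) ∈ Z₁
            rw [e', ← hx1]; exact hx'
          · change D.map g₁ (D.map h₁ x) ∈ V
            rw [e']; exact hx
        rw [hg₁] at this
        exact this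
    rw [heq]
    exact V.2.preimage (D.map (h₁ ≫ g₁)).continuous
  · rintro ⟨j, φ, hopen⟩
    rw [← hpre φ]
    exact hopen.preimage (c.π.app j).continuous

end Groth.Agent.S4761
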