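import Groth.Statements.S4762
import Groth.Agent.H24.LimitCons
-- import your own Groth.Agent.* helpers here

set_option autoImplicit false
universe u
open CategoryTheory AlgebraicGeometry
open Lim8

namespace Groth.Agent.S4762

open Limits Groth.Agent.H24 in
/-- Let S = lim S_i be a cofiltered limit of schemes with affine transition maps, let S_{i₁} be a
quasi-compact stage and Z₁ a constructible subset of S_{i₁}. Then the preimage of Z₁ in S is locally
closed if and only if, for some index j over i₁, the preimage of Z₁ in S_j is locally closed. -/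
theorem result {I : Type u} [SmallCategory I] [IsCofiltered I]
    (D : I ⥤ Scheme.{u}) (c : Limits.Cone D) (hc : Limits.IsLimit c)
    [∀ (i j : I) (f : i ⟶ j), IsAffineHom (D.map f)] (i₁ : I)
    [CompactSpace (D.obj i₁)] (Z₁ : Set (D.obj i₁)) (hZ : Topology.IsConstructible Z₁) :
    IsLocallyClosed (⇑(c.π.app i₁) ⁻¹' Z₁ : Set c.pt) ↔
      ∃ (j : I) (φ : j ⟶ i₁), IsLocallyClosed (⇑(D.map φ) ⁻¹' Z₁) := by
  have haff : ∀ {i j : I} (f : i ⟶ j), IsAffineHom (D.map f) := fun f => inferInstance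
  have hpre : ∀ {i j : I} (φ : j ⟶ i) (A : Set (D.obj i)),
      (c.π.app j) ⁻¹' ((D.map φ) ⁻¹' A) = (c.π.app i) ⁻¹' A := by
    intro i j φ A
    ext x
    simp only [Set.mem_preimage, ← Scheme.Hom.comp_apply, c.w]
  constructor
  · intro hT
    have hTc : IsCompact ((c.π.app i₁) ⁻¹' Z₁) := by
      have := isCompact_preimage_inter_of_isConstructible D c hc hZ ⊤ isCompact_univ
      simpa using this
    obtain ⟨U, hUc, hTU, hUT⟩ := exists_isCompact_open_of_isLocallyClosed hT hTc
    obtain ⟨j, φ, V, hVc, hV⟩ := exists_preimage_eq_over D c hc i₁ U hUc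
    have hV' : (c.π.app j) ⁻¹' (V : Set (D.obj j)) = (U : Set c.pt) :=
      congr_arg (fun W : c.pt.Opens => (W : Set c.pt)) hV
    have hZj : Topology.IsConstructible ((D.map φ) ⁻¹' Z₁) := (D.map φ).isConstructible_preimage hZ
    have hUTeq : (U : Set c.pt) \ (c.π.app i₁) ⁻¹' Z₁ =
        (c.π.app j) ⁻¹' (((D.map φ) ⁻¹' Z₁)ᶜ ∩ V) := by
      rw [Set.preimage_inter, Set.preimage_compl, hpre φ, hV', Set.inter_comm]
      rfl
    have hUTc : IsCompact ((U : Set c.pt) \ (c.π.app i₁) ⁻¹' Z₁) := by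
      rw [hUTeq]
      exact isCompact_preimage_inter_of_isConstructible D c hc hZj.compl V hVc
    obtain ⟨k, g, W, hWc, hW⟩ := exists_preimage_eq_over D c hc j ⟨_, hUT⟩ hUTc
    have hW' : (c.π.app k) ⁻¹' (W : Set (D.obj k)) = (U : Set c.pt) \ (c.π.app i₁) ⁻¹' Z₁ :=
      congr_arg (fun W : c.pt.Opens => (W : Set c.pt)) hW
    have : CompactSpace (D.obj k) := QuasiCompact.compactSpace_of_compactSpace (D.map (g ≫ φ))
    have hZk : Topology.IsConstructible ((D.map (g ≫ φ)) ⁻¹' Z₁) :=
      (D.map (g ≫ φ)).isConstructible_preimage hZ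
    have hVk : IsCompact ((D.map g ⁻¹ᵁ V : (D.obj k).Opens) : Set (D.obj k)) :=
      (D.map g).isCompact_preimage hVc
    obtain ⟨m, f, hf⟩ := exists_preimage_eq_sdiff_of_isConstructible D c hc hZk
      (D.map g ⁻¹ᵁ V) W hVk hWc (by
        rw [hpre (g ≫ φ), Set.preimage_sdiff, hW']
        change _ = (c.π.app k) ⁻¹' ((D.map g) ⁻¹' (V : Set (D.obj j))) \ _
        rw [hpre g, hV']
        ext x
        simp only [Set.mem_preimage, Set.mem_sdiff, SetLike.mem_coe, not_and, not_not]
        constructor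
        · intro hx
          exact ⟨hTU hx, fun _ => hx⟩
        · rintro ⟨hxU, hx⟩
          exact hx hxU)
    refine ⟨m, f ≫ g ≫ φ, ?_⟩
    have : (D.map (f ≫ g ≫ φ)) ⁻¹' Z₁ = (D.map f) ⁻¹' ((D.map (g ≫ φ)) ⁻¹' Z₁) := by
      rw [D.map_comp, Scheme.Hom.comp_base, TopCat.coe_comp, Set.preimage_comp]
    rw [this, hf, Set.preimage_sdiff]
    exact (((D.map g ⁻¹ᵁ V).2.preimage (D.map f).continuous).isLocallyClosed).inter
      ((W.2.preimage (D.map f).continuous).isClosed_compl.isLocallyClosed)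
  · rintro ⟨j, φ, hlc⟩
    rw [← hpre φ]
    exact hlc.preimage (c.π.app j).continuous

end Groth.Agent.S4762
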