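import Groth.Statements.S4763
import Mathlib
-- import your own Groth.Agent.* helpers here

set_option autoImplicit false
universe u
open CategoryTheory AlgebraicGeometry
open Lim8

namespace Groth.Agent.S4763

/-- Let S = lim S_i be a cofiltered limit of schemes with affine transition maps and let i be an index.
The canonical projection S ⟶ S_i is dominant if and only if every transition map S_j ⟶ S_i is
dominant. -/
theorem result {I : Type u} [SmallCategory I] [IsCofiltered I]
    (D : I ⥤ Scheme.{u}) (c : Limits.Cone D) (hc : Limits.IsLimit c)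
    [∀ (i j : I) (f : i ⟶ j), IsAffineHom (D.map f)] (i : I) :
    IsDominant (c.π.app i) ↔ ∀ (j : I) (φ : j ⟶ i), IsDominant (D.map φ) := by
  have haff : ∀ {i j : I} (f : i ⟶ j), IsAffineHom (D.map f) := fun f => inferInstance
  constructor
  · intro h j φ
    have : IsDominant (c.π.app j ≫ D.map φ) := by rw [c.w]; exact h
    exact IsDominant.of_comp (c.π.app j) (D.map φ)
  · intro h
    rw [isDominant_iff, DenseRange, dense_iff_inter_open]
    intro U hU hne
    obtain ⟨x, hx⟩ := hne
    obtain ⟨_, ⟨V, hV, rfl⟩, hxV, hVU⟩ :=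
      (D.obj i).isBasis_affineOpens.exists_subset_of_mem_open hx hU
    let F := opensDiagram D i V
    have hlim := isLimitOpensCone D c hc i V
    have hne : ∀ φ : Over i, Nonempty (F.obj φ) := by
      intro φ
      have := (h φ.left φ.hom).denseRange
      obtain ⟨_, hy, ⟨y, rfl⟩⟩ := this.inter_open_nonempty V V.2 ⟨x, hxV⟩
      exact ⟨⟨y, hy⟩⟩
    have hcpt : ∀ φ : Over i, CompactSpace (F.obj φ) := by
      intro φ
      have : IsAffine (F.obj φ) := hV.preimage (D.map φ.hom)
      infer_instance
    obtain ⟨z⟩ : Nonempty (opensCone D c i V).pt := Scheme.nonempty_of_isLimit F _ hlim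
    exact ⟨c.π.app i z.1, hVU z.2, ⟨z.1, rfl⟩⟩

end Groth.Agent.S4763
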