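import Groth.Statements.S4765
import Mathlib
-- import your own Groth.Agent.* helpers here

set_option autoImplicit false
universe u
open CategoryTheory AlgebraicGeometry
open Lim8

namespace Groth.Agent.S4765

open Limits in
/-- Let S = lim S_i be a cofiltered limit of schemes with affine transition maps and let i be an index
such that the projection S ⟶ S_j is surjective for every j over i. Then the projection S ⟶ S_i is an
open map if and only if every transition map S_j ⟶ S_i is an open map. This is the case of open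
morphisms. -/
theorem result {I : Type u} [SmallCategory I] [IsCofiltered I]
    (D : I ⥤ Scheme.{u}) (c : Limits.Cone D) (hc : Limits.IsLimit c)
    [∀ (i j : I) (f : i ⟶ j), IsAffineHom (D.map f)] (i : I)
    (hs : ∀ (j : I) (φ : j ⟶ i), Surjective (c.π.app j)) :
    IsOpenMap ⇑(c.π.app i) ↔ ∀ (j : I) (φ : j ⟶ i), IsOpenMap ⇑(D.map φ) := by
  have haff : ∀ {i j : I} (f : i ⟶ j), IsAffineHom (D.map f) := fun f => inferInstance
  -- image of a pulled-back set under `π_i`
  have himg : ∀ (j : I) (φ : j ⟶ i) (V : Set (D.obj j)),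
      (c.π.app i) '' ((c.π.app j) ⁻¹' V) = (D.map φ) '' V := by
    intro j φ V
    have hsurj := (hs j φ).surj
    ext y
    constructor
    · rintro ⟨s, hs', rfl⟩
      refine ⟨c.π.app j s, hs', ?_⟩
      rw [← Scheme.Hom.comp_apply, c.w]
    · rintro ⟨v, hv, rfl⟩
      obtain ⟨s, rfl⟩ := hsurj v
      refine ⟨s, hv, ?_⟩
      rw [← Scheme.Hom.comp_apply, c.w]
  constructor
  · intro hopen j φ U hU
    rw [← himg j φ U]
    exact hopen _ (hU.preimage (c.π.app j).continuous)
  · intro hall U hU
    have hbasis := isBasis_preimage_isAffineOpen D c hc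
    rw [isOpen_iff_forall_mem_open]
    rintro _ ⟨x, hx, rfl⟩
    obtain ⟨_, ⟨k, V, -, rfl⟩, hxV, hVU⟩ :=
      TopologicalSpace.Opens.isBasis_iff_nbhd.mp hbasis (U := ⟨U, hU⟩) hx
    let l := IsCofiltered.min k i
    let g : l ⟶ k := IsCofiltered.minToLeft k i
    let φ : l ⟶ i := IsCofiltered.minToRight k i
    have hpre : (c.π.app l) ⁻¹' ((D.map g) ⁻¹' (V : Set (D.obj k))) =
        (c.π.app k) ⁻¹' (V : Set (D.obj k)) := by
      ext s
      simp only [Set.mem_preimage, ← Scheme.Hom.comp_apply, c.w]
    refine ⟨(D.map φ) '' ((D.map g) ⁻¹' (V : Set (D.obj k))), ?_, ?_, ?_⟩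
    · rw [← himg l φ, hpre]
      exact Set.image_mono hVU
    · exact hall l φ _ (V.2.preimage (D.map g).continuous)
    · rw [← himg l φ, hpre]
      exact ⟨x, hxV, rfl⟩

end Groth.Agent.S4765
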