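import Groth.Statements.S4766
import Groth.Agent.S4765
import Groth.Agent.H24.LimitBaseChange
-- import your own Groth.Agent.* helpers here

set_option autoImplicit false
universe u
open CategoryTheory AlgebraicGeometry
open Lim8

namespace Groth.Agent.S4766

open Limits Groth.Agent.H24 MorphismProperty

/-- Openness is insensitive to composing with an isomorphism on the right. -/
theorem isOpenMap_comp_iso_iff {X Y Z : Scheme.{u}} (f : X ⟶ Y) (h : Y ⟶ Z) [IsIso h] :
    IsOpenMap ⇑(f ≫ h) ↔ IsOpenMap ⇑f := by
  constructor
  · intro H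
    have : f = (f ≫ h) ≫ inv h := by simp
    rw [this, Scheme.Hom.comp_base, TopCat.coe_comp]
    exact (inv h).homeomorph.isOpenMap.comp H
  · intro H
    rw [Scheme.Hom.comp_base, TopCat.coe_comp]
    exact h.homeomorph.isOpenMap.comp H

/-- The common core: for a fixed base change `g : Y' ⟶ D_i`, the base change of `π_i` is open iff
all base changes of the transition maps to `D_i` are open. -/
theorem isOpenMap_snd_iff {I : Type u} [SmallCategory I] [IsCofiltered I]
    (D : I ⥤ Scheme.{u}) (c : Limits.Cone D) (hc : Limits.IsLimit c)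
    [∀ (i j : I) (f : i ⟶ j), IsAffineHom (D.map f)] (i : I)
    (hs : ∀ (j : I) (φ : j ⟶ i), Surjective (c.π.app j)) {Y' : Scheme.{u}} (g : Y' ⟶ D.obj i) :
    IsOpenMap ⇑(pullback.snd (c.π.app i) g) ↔
      ∀ (j : I) (φ : j ⟶ i), IsOpenMap ⇑(pullback.snd (D.map φ) g) := by
  let F := pullbackDiagram D i g
  let cF := pullbackCone D c i g
  have hcF : IsLimit cF := isLimitPullbackCone D c i g hc
  let o : Over i := Over.mk (𝟙 i)
  have haffsnd : ∀ a : Over i, IsAffineHom (pullback.snd (D.map a.hom) g) := fun a =>
    MorphismProperty.pullback_snd _ _ inferInstance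
  have hFaff : ∀ (a b : Over i) (f : a ⟶ b), IsAffineHom (F.map f) := by
    intro a b f
    have h1 : IsAffineHom (F.map f ≫ pullback.snd (D.map b.hom) g) := by
      rw [pullbackDiagram_map_snd]; exact haffsnd a
    have := haffsnd b
    have hsep : IsSeparated (pullback.snd (D.map b.hom) g) := inferInstance
    exact @IsAffineHom.of_comp _ _ _ (F.map f) (pullback.snd (D.map b.hom) g) h1 hsep
  have hsurj : ∀ (a : Over i) (_ : a ⟶ o), Surjective (cF.π.app a) := by
    intro a _
    have := hs a.left a.hom
    exact MorphismProperty.of_isPullback (P := @Surjective)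
      (isPullback_pullbackCone_π D c i g a).flip inferInstance
  have key := Groth.Agent.S4765.result F cF hcF o hsurj
  have hiso : IsIso (pullback.snd (D.map o.hom) g) := by
    have : IsIso (D.map o.hom) := by
      change IsIso (D.map (𝟙 i))
      rw [D.map_id]; infer_instance
    infer_instance
  -- translate the two sides of `key`
  have h1 : IsOpenMap ⇑(cF.π.app o) ↔ IsOpenMap ⇑(pullback.snd (c.π.app i) g) := by
    have e := @isOpenMap_comp_iso_iff _ _ _ (cF.π.app o) (pullback.snd (D.map o.hom) g) hiso
    rw [pullbackCone_π_snd] at e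
    exact e.symm
  have h2 : ∀ (a : Over i) (ψ : a ⟶ o),
      IsOpenMap ⇑(F.map ψ) ↔ IsOpenMap ⇑(pullback.snd (D.map a.hom) g) := by
    intro a ψ
    have e := @isOpenMap_comp_iso_iff _ _ _ (F.map ψ) (pullback.snd (D.map o.hom) g) hiso
    rw [pullbackDiagram_map_snd] at e
    exact e.symm
  rw [← h1, key]
  constructor
  · intro H j φ
    exact (h2 (Over.mk φ) (Over.homMk φ)).mp (H _ _)
  · intro H a ψ
    exact (h2 a ψ).mpr (H a.left a.hom)

/-- Let S = lim S_i be a cofiltered limit of schemes with affine transition maps and let i be an index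
such that the projection S ⟶ S_j is surjective for every j over i. Then the projection S ⟶ S_i is
universally open if and only if every transition map S_j ⟶ S_i is universally open. This is the case
of universally open morphisms. -/
theorem result {I : Type u} [SmallCategory I] [IsCofiltered I]
    (D : I ⥤ Scheme.{u}) (c : Limits.Cone D) (hc : Limits.IsLimit c)
    [∀ (i j : I) (f : i ⟶ j), IsAffineHom (D.map f)] (i : I)
    (hs : ∀ (j : I) (φ : j ⟶ i), Surjective (c.π.app j)) :
    UniversallyOpen (c.π.app i) ↔ ∀ (j : I) (φ : j ⟶ i), UniversallyOpen (D.map φ) := by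
  constructor
  · intro H j φ
    rw [universallyOpen_iff]
    intro X' Y' i₁ g f' hf
    have hopen : IsOpenMap ⇑(pullback.snd (D.map φ) g) :=
      (isOpenMap_snd_iff D c hc i hs g).mp (pullback.snd (c.π.app i) g).isOpenMap j φ
    have e : f' = hf.flip.isoPullback.hom ≫ pullback.snd (D.map φ) g := by simp
    change IsOpenMap ⇑f'
    rw [e, Scheme.Hom.comp_base, TopCat.coe_comp]
    exact hopen.comp hf.flip.isoPullback.hom.homeomorph.isOpenMap
  · intro H
    rw [universallyOpen_iff]
    intro X' Y' i₁ g f' hf
    have hopen : IsOpenMap ⇑(pullback.snd (c.π.app i) g) :=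
      (isOpenMap_snd_iff D c hc i hs g).mpr fun j φ => by
        have := H j φ
        exact (pullback.snd (D.map φ) g).isOpenMap
    have e : f' = hf.flip.isoPullback.hom ≫ pullback.snd (c.π.app i) g := by simp
    change IsOpenMap ⇑f'
    rw [e, Scheme.Hom.comp_base, TopCat.coe_comp]
    exact hopen.comp hf.flip.isoPullback.hom.homeomorph.isOpenMap

end Groth.Agent.S4766
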