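import Groth.Statements.S4767
import Groth.Agent.H24.LimitTop
-- import your own Groth.Agent.* helpers here

set_option autoImplicit false
universe u
open CategoryTheory AlgebraicGeometry
open Lim8

namespace Groth.Agent.S4767

open Limits Groth.Agent.H24 in
/-- Let S = lim S_i be a cofiltered limit of schemes with affine transition maps, some stage S_{i₀}
being quasi-compact and quasi-separated, and assume that the underlying topological space of S is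
Noetherian. If S is not irreducible, then there is an index i over i₀ such that S_j is not
irreducible for every index j over i. -/
theorem result {I : Type u} [SmallCategory I] [IsCofiltered I]
    (D : I ⥤ Scheme.{u}) (c : Limits.Cone D) (hc : Limits.IsLimit c)
    [∀ (i j : I) (f : i ⟶ j), IsAffineHom (D.map f)] (i₀ : I)
    [CompactSpace (D.obj i₀)] [QuasiSeparatedSpace (D.obj i₀)]
    [TopologicalSpace.NoetherianSpace c.pt] (h : ¬ IrreducibleSpace c.pt) :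
    ∃ (i : I) (_ : i ⟶ i₀), ∀ (j : I) (_ : j ⟶ i), ¬ IrreducibleSpace (D.obj j) := by
  have haff : ∀ {i j : I} (f : i ⟶ j), IsAffineHom (D.map f) := fun f => inferInstance
  by_cases hne : Nonempty c.pt
  · -- two disjoint nonempty opens
    have h' : ¬ IsPreirreducible (Set.univ : Set c.pt) := fun hp =>
      h ((irreducibleSpace_def _).mpr ⟨Set.univ_nonempty, hp⟩)
    simp only [IsPreirreducible, Set.univ_inter] at h'
    push Not at h'
    obtain ⟨u, v, hu, hv, ⟨x, hx⟩, ⟨y, hy⟩, huv⟩ := h'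
    obtain ⟨k₁, φ₁, V₁, hV₁c, hV₁⟩ := exists_preimage_eq_over D c hc i₀ ⟨u, hu⟩
      (TopologicalSpace.NoetherianSpace.isCompact u)
    obtain ⟨k₂, φ₂, V₂, hV₂c, hV₂⟩ := exists_preimage_eq_over D c hc i₀ ⟨v, hv⟩
      (TopologicalSpace.NoetherianSpace.isCompact v)
    let l := IsCofiltered.min k₁ k₂
    let f₁ : l ⟶ k₁ := IsCofiltered.minToLeft k₁ k₂
    let f₂ : l ⟶ k₂ := IsCofiltered.minToRight k₁ k₂
    have : QuasiSeparatedSpace (D.obj l) :=
      quasiSeparatedSpace_of_quasiSeparated (D.map (f₁ ≫ φ₁))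
    have e₁ : c.π.app l ⁻¹ᵁ (D.map f₁ ⁻¹ᵁ V₁) = ⟨u, hu⟩ := by
      rw [preimage_preimage_eq hc, hV₁]
    have e₂ : c.π.app l ⁻¹ᵁ (D.map f₂ ⁻¹ᵁ V₂) = ⟨v, hv⟩ := by
      rw [preimage_preimage_eq hc, hV₂]
    have hinf : c.π.app l ⁻¹ᵁ (D.map f₁ ⁻¹ᵁ V₁ ⊓ D.map f₂ ⁻¹ᵁ V₂) = ⊥ := by
      rw [Scheme.Hom.preimage_inf, e₁, e₂]
      ext z
      simp only [TopologicalSpace.Opens.coe_inf, TopologicalSpace.Opens.coe_mk,
        TopologicalSpace.Opens.coe_bot]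
      rw [huv]
    obtain ⟨m, g, hg⟩ := exists_map_preimage_inf_eq_bot D c hc _ _
      ((D.map f₁).isCompact_preimage hV₁c) ((D.map f₂).isCompact_preimage hV₂c) hinf
    refine ⟨m, g ≫ f₁ ≫ φ₁, fun j ψ hirr => ?_⟩
    let θ : j ⟶ l := ψ ≫ g
    have hx' : c.π.app j x ∈ D.map θ ⁻¹ᵁ (D.map f₁ ⁻¹ᵁ V₁) := by
      change x ∈ c.π.app j ⁻¹ᵁ (D.map θ ⁻¹ᵁ (D.map f₁ ⁻¹ᵁ V₁))
      rw [preimage_preimage_eq hc, e₁]; exact hx
    have hy' : c.π.app j y ∈ D.map θ ⁻¹ᵁ (D.map f₂ ⁻¹ᵁ V₂) := by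
      change y ∈ c.π.app j ⁻¹ᵁ (D.map θ ⁻¹ᵁ (D.map f₂ ⁻¹ᵁ V₂))
      rw [preimage_preimage_eq hc, e₂]; exact hy
    obtain ⟨z, hz₁, hz₂⟩ := nonempty_preirreducible_inter
      (D.map θ ⁻¹ᵁ (D.map f₁ ⁻¹ᵁ V₁)).2 (D.map θ ⁻¹ᵁ (D.map f₂ ⁻¹ᵁ V₂)).2 ⟨_, hx'⟩ ⟨_, hy'⟩
    have hz : z ∈ D.map θ ⁻¹ᵁ (D.map f₁ ⁻¹ᵁ V₁ ⊓ D.map f₂ ⁻¹ᵁ V₂) := ⟨hz₁, hz₂⟩
    rw [D.map_comp, Scheme.Hom.comp_preimage, hg] at hz
    exact hz
  · -- the limit is empty, so some stage over `i₀` is empty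
    have hcpt : ∀ j : Over i₀, CompactSpace ((Over.forget i₀ ⋙ D).obj j) := compactSpace_over D i₀
    have haff' : ∀ {j k : Over i₀} (f : j ⟶ k), IsAffineHom ((Over.forget i₀ ⋙ D).map f) :=
      isAffineHom_over D i₀
    have : ∃ k : Over i₀, ¬ Nonempty ((Over.forget i₀ ⋙ D).obj k) := by
      by_contra hall
      push Not at hall
      exact hne (Scheme.nonempty_of_isLimit (Over.forget i₀ ⋙ D) (c.whisker (Over.forget i₀))
        (isLimitOverCone D c hc i₀))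
    obtain ⟨k, hk⟩ := this
    refine ⟨k.left, k.hom, fun j ψ hirr => hk ?_⟩
    exact (hirr.toNonempty).map (D.map ψ)

end Groth.Agent.S4767
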