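import Groth.Statements.S4768
import Groth.Agent.H24.LimitTop
-- import your own Groth.Agent.* helpers here

set_option autoImplicit false
universe u
open CategoryTheory AlgebraicGeometry
open Lim8

namespace Groth.Agent.S4768

open Limits Groth.Agent.H24 in
/-- Let S = lim S_i be a cofiltered limit of schemes with affine transition maps, some stage S_{i₀}
being quasi-compact and quasi-separated. If S is not preconnected (that is, S is the disjoint union
of two nonempty open subsets), then there is an index i over i₀ such that S_j is not preconnected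
for every index j over i. (The published statement assumes the stage only quasi-compact, which is
not enough: over the affine space in infinitely many variables with a doubled origin, the closed
subschemes cut out by the first n coordinates form a system with affine transition maps in which
every stage is connected while the limit consists of two disjoint points. The published proof
descends the two pieces of S to quasi-compact open subsets of a stage and needs their intersection
to become empty at a later stage, which uses that quasi-compact open subsets of the stage are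
constructible; so the stage is taken quasi-separated here, as in part (i).) -/
theorem result {I : Type u} [SmallCategory I] [IsCofiltered I]
    (D : I ⥤ Scheme.{u}) (c : Limits.Cone D) (hc : Limits.IsLimit c)
    [∀ (i j : I) (f : i ⟶ j), IsAffineHom (D.map f)] (i₀ : I)
    [CompactSpace (D.obj i₀)] [QuasiSeparatedSpace (D.obj i₀)] (h : ¬ PreconnectedSpace c.pt) :
    ∃ (i : I) (_ : i ⟶ i₀), ∀ (j : I) (_ : j ⟶ i), ¬ PreconnectedSpace (D.obj j) := by
  have haff : ∀ {i j : I} (f : i ⟶ j), IsAffineHom (D.map f) := fun f => inferInstance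
  rw [preconnectedSpace_iff_clopen] at h
  push Not at h
  obtain ⟨s, hs, hs0, hs1⟩ := h
  obtain ⟨k, φ, V, W, hV, hW, hVW, hVc, hWc⟩ := exists_clopen_descent_over D c hc i₀ s hs
  have : QuasiSeparatedSpace (D.obj k) := quasiSeparatedSpace_of_quasiSeparated (D.map φ)
  have hinf : c.π.app k ⁻¹ᵁ (V ⊓ W) = ⊥ := by
    ext x
    have h1 : x ∈ c.π.app k ⁻¹ᵁ V ↔ x ∈ s := by rw [← hV]; rfl
    have h2 : x ∈ c.π.app k ⁻¹ᵁ W ↔ x ∈ sᶜ := by rw [← hW]; rfl
    have h3 : x ∈ c.π.app k ⁻¹ᵁ (V ⊓ W) ↔ (x ∈ c.π.app k ⁻¹ᵁ V ∧ x ∈ c.π.app k ⁻¹ᵁ W) :=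
      Iff.rfl
    simp only [SetLike.mem_coe, h3, h1, h2]
    simp
  obtain ⟨m, g, hg⟩ := exists_map_preimage_inf_eq_bot D c hc V W hVc hWc hinf
  refine ⟨m, g ≫ φ, fun j ψ hpre => ?_⟩
  -- the opens at stage `j`
  let θ : j ⟶ k := ψ ≫ g
  let Vj : (D.obj j).Opens := D.map θ ⁻¹ᵁ V
  let Wj : (D.obj j).Opens := D.map θ ⁻¹ᵁ W
  have hVWj : Vj ⊔ Wj = ⊤ := by
    rw [← Scheme.Hom.preimage_sup, hVW]; rfl
  have hVWj' : Vj ⊓ Wj = ⊥ := by
    change D.map θ ⁻¹ᵁ (V ⊓ W) = ⊥
    rw [D.map_comp, Scheme.Hom.comp_preimage, hg]; rfl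
  have hcompl : (Vj : Set (D.obj j))ᶜ = Wj := by
    have h1 : (Vj : Set (D.obj j)) ∪ Wj = Set.univ := by
      have := congr_arg (fun U : (D.obj j).Opens => (U : Set (D.obj j))) hVWj
      simpa using this
    have h2 : (Vj : Set (D.obj j)) ∩ Wj = ∅ := by
      have := congr_arg (fun U : (D.obj j).Opens => (U : Set (D.obj j))) hVWj'
      simpa using this
    ext x
    constructor
    · intro hx
      have : x ∈ (Vj : Set (D.obj j)) ∪ Wj := h1 ▸ Set.mem_univ x
      exact this.resolve_left hx
    · intro hx hx'
      have : x ∈ (Vj : Set (D.obj j)) ∩ Wj := ⟨hx', hx⟩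
      rw [h2] at this
      exact this
  have hVclopen : IsClopen (Vj : Set (D.obj j)) :=
    ⟨by rw [← isOpen_compl_iff, hcompl]; exact Wj.2, Vj.2⟩
  have hpreV : (c.π.app j) ⁻¹' (Vj : Set (D.obj j)) = s := by
    rw [← hV]
    change ((c.π.app j ⁻¹ᵁ (D.map θ ⁻¹ᵁ V) : c.pt.Opens) : Set c.pt) = _
    rw [preimage_preimage_eq hc]
  rcases isClopen_iff.mp hVclopen with h | h
  · exact hs0.ne_empty (by rw [← hpreV, h, Set.preimage_empty])
  · exact hs1 (by rw [← hpreV, h, Set.preimage_univ])

end Groth.Agent.S4768
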