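import Groth.Statements.S4769
import Groth.Agent.S4763
import Groth.Agent.H24.LimitTop
import Groth.Agent.H24.ComponentsTop
-- import your own Groth.Agent.* helpers here

set_option autoImplicit false
universe u
open CategoryTheory AlgebraicGeometry
open Lim8

namespace Groth.Agent.S4769

open Limits Groth.Agent.H24 TopologicalSpace in
/-- Let S = lim S_i be a cofiltered limit of schemes whose transition maps are affine and dominant, some
stage S_{i₀} being quasi-compact, and assume that the underlying topological space of S is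
Noetherian. Then there is an index i over i₀ such that, for every j over i, the map sending an
irreducible component Y of S to the closure of its image under S ⟶ S_j is a bijection from the set
of irreducible components of S onto the set of irreducible components of S_j. -/
theorem result {I : Type u} [SmallCategory I] [IsCofiltered I]
    (D : I ⥤ Scheme.{u}) (c : Limits.Cone D) (hc : Limits.IsLimit c)
    [∀ (i j : I) (f : i ⟶ j), IsAffineHom (D.map f)] (i₀ : I)
    [CompactSpace (D.obj i₀)] [TopologicalSpace.NoetherianSpace c.pt]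
    (hd : ∀ (i j : I) (φ : i ⟶ j), IsDominant (D.map φ)) :
    ∃ (i : I) (_ : i ⟶ i₀), ∀ (j : I) (_ : j ⟶ i),
      Set.BijOn (fun Y : Set c.pt => closure (⇑(c.π.app j) '' (Y : Set c.pt) : Set (D.obj j)))
        (irreducibleComponents c.pt) (irreducibleComponents (D.obj j)) := by
  classical
  have haff : ∀ {i j : I} (f : i ⟶ j), IsAffineHom (D.map f) := fun f => inferInstance
  have hdom : ∀ j, IsDominant (c.π.app j) := fun j =>
    (Groth.Agent.S4763.result D c hc j).mpr (fun k φ => hd k j φ)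
  -- a nonempty open of a stage meets the image of the limit
  have hmeet : ∀ (j : I) (O : Set (D.obj j)), IsOpen O → O.Nonempty → ∃ s : c.pt, c.π.app j s ∈ O := by
    intro j O hO hne
    obtain ⟨_, hy, ⟨y, rfl⟩⟩ := (hdom j).denseRange.inter_open_nonempty O hO hne
    exact ⟨y, hy⟩
  have hfin : (irreducibleComponents c.pt).Finite := NoetherianSpace.finite_irreducibleComponents
  let A := ↥(irreducibleComponents c.pt)
  have hAfin : Finite A := hfin.to_subtype
  let Uset : A → Set c.pt := fun Y => (⋃₀ (irreducibleComponents c.pt \ {Y.1}))ᶜ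
  have hUopen : ∀ Y, IsOpen (Uset Y) := by
    intro Y
    change IsOpen (⋃₀ (irreducibleComponents c.pt \ {Y.1}))ᶜ
    rw [Set.sUnion_eq_biUnion, isOpen_compl_iff]
    exact hfin.sdiff.isClosed_biUnion fun W hW ↦ isClosed_of_mem_irreducibleComponents W hW.1
  have hUcl : ∀ Y : A, closure (Uset Y) = Y.1 := fun Y =>
    closure_sUnion_irreducibleComponents_sdiff_singleton hfin Y.1 Y.2
  have hUsub : ∀ Y : A, Uset Y ⊆ Y.1 := fun Y => subset_closure.trans (hUcl Y).le
  have hUdisj : ∀ Y Y' : A, Y ≠ Y' → Disjoint (Uset Y) (Uset Y') := by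
    intro Y Y' hne
    rw [Set.disjoint_left]
    intro x hx hx'
    apply hx'
    exact Set.mem_sUnion.mpr ⟨Y.1, ⟨Y.2, fun h => hne (Subtype.ext h)⟩, hUsub Y hx⟩
  obtain ⟨i, φ, V, hV⟩ := exists_preimage_eq_over_of_finite D c hc i₀
    (fun Y : A => (⟨Uset Y, hUopen Y⟩ : c.pt.Opens)) (fun Y => NoetherianSpace.isCompact _)
  refine ⟨i, φ, fun j ψ => ?_⟩
  let Vj : A → Set (D.obj j) := fun Y => (D.map ψ) ⁻¹' (V Y : Set (D.obj i))
  have hVjpre : ∀ Y, (c.π.app j) ⁻¹' (Vj Y) = Uset Y := by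
    intro Y
    have h1 : ((c.π.app i ⁻¹ᵁ V Y : c.pt.Opens) : Set c.pt) = Uset Y :=
      congr_arg (fun W : c.pt.Opens => (W : Set c.pt)) (hV Y).2
    rw [← h1]
    ext x
    simp only [Vj, Set.mem_preimage, ← Scheme.Hom.comp_apply, c.w]
    rfl
  have hmemU : ∀ (Y : A) (s : c.pt), c.π.app j s ∈ Vj Y ↔ s ∈ Uset Y := by
    intro Y s
    rw [← hVjpre Y]; rfl
  have hVjo : ∀ Y, IsOpen (Vj Y) := fun Y => (V Y).2.preimage (D.map ψ).continuous
  have hVji : ∀ Y, IsIrreducible (Vj Y) := by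
    intro Y
    have hYne : (Uset Y).Nonempty := by
      by_contra h
      rw [Set.not_nonempty_iff_eq_empty] at h
      have := hUcl Y
      rw [h, closure_empty] at this
      exact Y.2.1.nonempty.ne_empty this.symm
    obtain ⟨s₀, hs₀⟩ := hYne
    refine ⟨⟨c.π.app j s₀, (hmemU Y s₀).mpr hs₀⟩, ?_⟩
    intro u v hu hv hu' hv'
    obtain ⟨s, hs⟩ := hmeet j _ ((hVjo Y).inter hu) hu'
    obtain ⟨t, ht⟩ := hmeet j _ ((hVjo Y).inter hv) hv'
    have hs1 : s ∈ Uset Y := (hmemU Y s).mp hs.1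
    have ht1 : t ∈ Uset Y := (hmemU Y t).mp ht.1
    obtain ⟨w, -, ⟨hw1, hw2⟩, ⟨-, hw3⟩⟩ := Y.2.1.2 (Uset Y ∩ (c.π.app j) ⁻¹' u)
      (Uset Y ∩ (c.π.app j) ⁻¹' v) ((hUopen Y).inter (hu.preimage (c.π.app j).continuous))
      ((hUopen Y).inter (hv.preimage (c.π.app j).continuous))
      ⟨s, hUsub Y hs1, hs1, hs.2⟩ ⟨t, hUsub Y ht1, ht1, ht.2⟩
    exact ⟨c.π.app j w, (hmemU Y w).mpr hw1, hw2, hw3⟩
  have hVjd : ∀ Y Y' : A, Y ≠ Y' → Disjoint (Vj Y) (Vj Y') := by
    intro Y Y' hne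
    rw [Set.disjoint_iff_inter_eq_empty]
    by_contra h
    obtain ⟨s, hs⟩ := hmeet j _ ((hVjo Y).inter (hVjo Y')) (Set.nonempty_iff_ne_empty.mpr h)
    exact (hUdisj Y Y' hne).le_bot ⟨(hmemU Y s).mp hs.1, (hmemU Y' s).mp hs.2⟩
  have hVjdense : Dense (⋃ Y, Vj Y) := by
    rw [dense_iff_inter_open]
    intro O hO hne
    obtain ⟨s, hs⟩ := hmeet j O hO hne
    have hsU : s ∈ ⋃₀ irreducibleComponents c.pt := by
      rw [sUnion_irreducibleComponents]; trivial
    obtain ⟨Y, hY, hsY⟩ := Set.mem_sUnion.mp hsU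
    have hs' : s ∈ closure (Uset ⟨Y, hY⟩) := by rw [hUcl]; exact hsY
    obtain ⟨t, ht1, ht2⟩ := mem_closure_iff.mp hs' _ (hO.preimage (c.π.app j).continuous) hs
    exact ⟨c.π.app j t, ht1, Set.mem_iUnion.mpr ⟨⟨Y, hY⟩, (hmemU _ t).mpr ht2⟩⟩
  obtain ⟨hcomp, hinj⟩ := irreducibleComponents_eq_range_closure Vj hVjo hVji hVjd hVjdense
  have hf : ∀ Y : A, closure ((c.π.app j) '' Y.1) = closure (Vj Y) := by
    intro Y
    apply subset_antisymm
    · apply closure_minimal _ isClosed_closure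
      rw [← hUcl Y]
      refine (image_closure_subset_closure_image (c.π.app j).continuous).trans (closure_mono ?_)
      rintro _ ⟨s, hs, rfl⟩
      exact (hmemU Y s).mpr hs
    · apply closure_minimal _ isClosed_closure
      intro v hv
      rw [mem_closure_iff]
      intro o ho hvo
      obtain ⟨s, hs⟩ := hmeet j _ (ho.inter (hVjo Y)) ⟨v, hvo, hv⟩
      exact ⟨c.π.app j s, hs.1, ⟨s, hUsub Y ((hmemU Y s).mp hs.2), rfl⟩⟩
  refine ⟨?_, ?_, ?_⟩
  · intro Y hY
    rw [hcomp]
    exact ⟨⟨Y, hY⟩, (hf ⟨Y, hY⟩).symm⟩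
  · intro Y hY Y' hY' h
    have := hinj ((hf ⟨Y, hY⟩).symm.trans (h.trans (hf ⟨Y', hY'⟩)))
    exact congr_arg Subtype.val this
  · intro Z hZ
    rw [hcomp] at hZ
    obtain ⟨Y, rfl⟩ := hZ
    exact ⟨Y.1, Y.2, hf Y⟩

end Groth.Agent.S4769
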