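import Groth.Statements.S4770
import Groth.Agent.S4763
import Groth.Agent.H24.LimitTop
import Groth.Agent.H24.ComponentsTop
-- import your own Groth.Agent.* helpers here

set_option autoImplicit false
universe u
open CategoryTheory AlgebraicGeometry
open Lim8

namespace Groth.Agent.S4770

open Limits Groth.Agent.H24 TopologicalSpace in
/-- Let S = lim S_i be a cofiltered limit of schemes whose transition maps are affine and dominant, some
stage S_{i₀} being quasi-compact, and assume that the underlying topological space of S is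
Noetherian. Then there is an index i over i₀ such that, for every j over i, the map sending a
connected component C of S to the closure of its image under S ⟶ S_j is a bijection from the set of
connected components of S onto the set of connected components of S_j. -/
theorem result {I : Type u} [SmallCategory I] [IsCofiltered I]
    (D : I ⥤ Scheme.{u}) (c : Limits.Cone D) (hc : Limits.IsLimit c)
    [∀ (i j : I) (f : i ⟶ j), IsAffineHom (D.map f)] (i₀ : I)
    [CompactSpace (D.obj i₀)] [TopologicalSpace.NoetherianSpace c.pt]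
    (hd : ∀ (i j : I) (φ : i ⟶ j), IsDominant (D.map φ)) :
    ∃ (i : I) (_ : i ⟶ i₀), ∀ (j : I) (_ : j ⟶ i),
      Set.BijOn (fun C : Set c.pt => closure (⇑(c.π.app j) '' (C : Set c.pt) : Set (D.obj j)))
        (Set.range (connectedComponent : c.pt → Set c.pt))
        (Set.range (connectedComponent : D.obj j → Set (D.obj j))) := by
  classical
  have haff : ∀ {i j : I} (f : i ⟶ j), IsAffineHom (D.map f) := fun f => inferInstance
  have hdom : ∀ j, IsDominant (c.π.app j) := fun j =>
    (Groth.Agent.S4763.result D c hc j).mpr (fun k φ => hd k j φ)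
  have hmeet : ∀ (j : I) (O : Set (D.obj j)), IsOpen O → O.Nonempty → ∃ s : c.pt, c.π.app j s ∈ O := by
    intro j O hO hne
    obtain ⟨_, hy, ⟨y, rfl⟩⟩ := (hdom j).denseRange.inter_open_nonempty O hO hne
    exact ⟨y, hy⟩
  have hfin := finite_range_connectedComponent_of_noetherian (X := c.pt)
  let A := ↥(Set.range (connectedComponent : c.pt → Set c.pt))
  have hAfin : Finite A := hfin.to_subtype
  have hCopen : ∀ C : A, IsOpen C.1 := by
    rintro ⟨_, ⟨x, rfl⟩⟩
    exact isOpen_connectedComponent_of_noetherian x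
  have hCconn : ∀ C : A, _root_.IsConnected C.1 := by
    rintro ⟨_, ⟨x, rfl⟩⟩
    exact isConnected_connectedComponent
  have hCdisj : ∀ C C' : A, C ≠ C' → Disjoint C.1 C'.1 := by
    rintro ⟨_, ⟨x, rfl⟩⟩ ⟨_, ⟨y, rfl⟩⟩ hne
    rw [Set.disjoint_left]
    intro z hzx hzy
    exact hne (Subtype.ext ((connectedComponent_eq hzx).trans (connectedComponent_eq hzy).symm))
  obtain ⟨i, φ, V, hV⟩ := exists_preimage_eq_over_of_finite D c hc i₀
    (fun C : A => (⟨C.1, hCopen C⟩ : c.pt.Opens)) (fun C => NoetherianSpace.isCompact _)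
  have hVpre : ∀ C : A, (c.π.app i) ⁻¹' (V C : Set (D.obj i)) = C.1 := fun C =>
    congr_arg (fun W : c.pt.Opens => (W : Set c.pt)) (hV C).2
  -- the `V C` cover at a later stage
  have htop : c.π.app i ⁻¹ᵁ (⨆ C, V C) = ⊤ := by
    ext s
    simp only [TopologicalSpace.Opens.coe_top, Set.mem_univ, iff_true]
    have hs : s ∈ (c.π.app i) ⁻¹' (V ⟨connectedComponent s, ⟨s, rfl⟩⟩ : Set (D.obj i)) := by
      rw [hVpre]; exact mem_connectedComponent
    exact TopologicalSpace.Opens.mem_iSup.mpr ⟨_, hs⟩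
  obtain ⟨i', θ, hθ⟩ := exists_map_eq_top_over D c hc i₀ φ _ htop
  refine ⟨i', θ ≫ φ, fun j ψ => ?_⟩
  let Vj : A → Set (D.obj j) := fun C => (D.map (ψ ≫ θ)) ⁻¹' (V C : Set (D.obj i))
  have hmemC : ∀ (C : A) (s : c.pt), c.π.app j s ∈ Vj C ↔ s ∈ C.1 := by
    intro C s
    rw [← hVpre C]
    simp only [Vj, Set.mem_preimage, ← Scheme.Hom.comp_apply, c.w]
  have hVjo : ∀ C, IsOpen (Vj C) := fun C => (V C).2.preimage (D.map (ψ ≫ θ)).continuous
  have hVjd : ∀ C C' : A, C ≠ C' → Disjoint (Vj C) (Vj C') := by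
    intro C C' hne
    rw [Set.disjoint_iff_inter_eq_empty]
    by_contra h
    obtain ⟨s, hs⟩ := hmeet j _ ((hVjo C).inter (hVjo C')) (Set.nonempty_iff_ne_empty.mpr h)
    exact (hCdisj C C' hne).le_bot ⟨(hmemC C s).mp hs.1, (hmemC C' s).mp hs.2⟩
  have hVjcov : (⋃ C, Vj C) = Set.univ := by
    have h1 : D.map (ψ ≫ θ) ⁻¹ᵁ (⨆ C, V C) = ⊤ := by
      rw [D.map_comp, Scheme.Hom.comp_preimage, hθ]; rfl
    ext y
    simp only [Set.mem_iUnion, Set.mem_univ, iff_true]
    have hy : y ∈ D.map (ψ ≫ θ) ⁻¹ᵁ (⨆ C, V C) := by rw [h1]; trivial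
    obtain ⟨C, hC⟩ := TopologicalSpace.Opens.mem_iSup.mp hy
    exact ⟨C, hC⟩
  have hf : ∀ C : A, closure ((c.π.app j) '' C.1) = Vj C := by
    intro C
    apply subset_antisymm
    · apply closure_minimal _ (isClopen_of_disjoint_open_cover Vj hVjo hVjd hVjcov C).1
      rintro _ ⟨s, hs, rfl⟩
      exact (hmemC C s).mpr hs
    · intro v hv
      rw [mem_closure_iff]
      intro o ho hvo
      obtain ⟨s, hs⟩ := hmeet j _ (ho.inter (hVjo C)) ⟨v, hvo, hv⟩
      exact ⟨c.π.app j s, hs.1, ⟨s, (hmemC C s).mp hs.2, rfl⟩⟩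
  have hVjc : ∀ C, _root_.IsConnected (Vj C) := by
    intro C
    rw [← hf C]
    exact ((hCconn C).image _ (c.π.app j).continuous.continuousOn).closure
  obtain ⟨hcomp, hinj⟩ := range_connectedComponent_eq_range Vj hVjo hVjc hVjd hVjcov
  refine ⟨?_, ?_, ?_⟩
  · intro C hC
    rw [hcomp]
    exact ⟨⟨C, hC⟩, (hf ⟨C, hC⟩).symm⟩
  · intro C hC C' hC' h
    have := hinj ((hf ⟨C, hC⟩).symm.trans (h.trans (hf ⟨C', hC'⟩)))
    exact congr_arg Subtype.val this
  · intro Z hZ
    rw [hcomp] at hZ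
    obtain ⟨C, rfl⟩ := hZ
    exact ⟨C.1, C.2, hf C⟩

end Groth.Agent.S4770
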