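import Groth.Statements.S4771
import Groth.Agent.S4763
import Groth.Agent.H24.LimitTop
-- import your own Groth.Agent.* helpers here

set_option autoImplicit false
universe u
open CategoryTheory AlgebraicGeometry
open Lim8

namespace Groth.Agent.S4771

open Limits Groth.Agent.H24 in
/-- Let S = lim S_i be a cofiltered limit of schemes whose transition maps are affine and dominant, some
stage S_{i₀} being quasi-compact, and assume that the underlying topological space of S is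
Noetherian. Then S is irreducible if and only if there is an index i over i₀ such that S_j is
irreducible for every j over i. -/
theorem result {I : Type u} [SmallCategory I] [IsCofiltered I]
    (D : I ⥤ Scheme.{u}) (c : Limits.Cone D) (hc : Limits.IsLimit c)
    [∀ (i j : I) (f : i ⟶ j), IsAffineHom (D.map f)] (i₀ : I)
    [CompactSpace (D.obj i₀)] [TopologicalSpace.NoetherianSpace c.pt]
    (hd : ∀ (i j : I) (φ : i ⟶ j), IsDominant (D.map φ)) :
    IrreducibleSpace c.pt ↔ ∃ (i : I) (_ : i ⟶ i₀), ∀ (j : I) (_ : j ⟶ i), IrreducibleSpace (D.obj j) := by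
  have haff : ∀ {i j : I} (f : i ⟶ j), IsAffineHom (D.map f) := fun f => inferInstance
  have hdom : ∀ j, IsDominant (c.π.app j) := fun j =>
    (Groth.Agent.S4763.result D c hc j).mpr (fun k φ => hd k j φ)
  constructor
  · intro hirr
    refine ⟨i₀, 𝟙 _, fun j _ => ?_⟩
    have h1 : IsIrreducible (closure (c.π.app j '' (Set.univ : Set c.pt))) :=
      ((irreducibleSpace_def c.pt).mp hirr |>.image _
        (c.π.app j).continuous.continuousOn).closure
    rw [Set.image_univ, (hdom j).denseRange.closure_range] at h1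
    exact (irreducibleSpace_def _).mpr h1
  · rintro ⟨i, φ, hall⟩
    let D' := Over.forget i ⋙ D
    let c' := c.whisker (Over.forget i)
    have hc' : IsLimit c' := isLimitOverCone D c hc i
    have : CompactSpace (D.obj i) := QuasiCompact.compactSpace_of_compactSpace (D.map φ)
    have hcpt : ∀ j : Over i, CompactSpace (D'.obj j) := compactSpace_over D i
    have haff' : ∀ {j k : Over i} (f : j ⟶ k), IsAffineHom (D'.map f) := isAffineHom_over D i
    have hne : ∀ j : Over i, Nonempty (D'.obj j) := fun j => (hall j.left j.hom).toNonempty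
    have hSne : Nonempty c.pt := Scheme.nonempty_of_isLimit D' c' hc'
    rw [irreducibleSpace_def]
    refine ⟨Set.univ_nonempty, ?_⟩
    rintro u v hu hv ⟨x, -, hx⟩ ⟨y, -, hy⟩
    obtain ⟨k₁, V₁, -, hV₁⟩ := exists_preimage_eq D' c' hc' ⟨u, hu⟩
      (TopologicalSpace.NoetherianSpace.isCompact u)
    obtain ⟨k₂, V₂, -, hV₂⟩ := exists_preimage_eq D' c' hc' ⟨v, hv⟩
      (TopologicalSpace.NoetherianSpace.isCompact v)
    let l := IsCofiltered.min k₁ k₂
    let f₁ : l ⟶ k₁ := IsCofiltered.minToLeft k₁ k₂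
    let f₂ : l ⟶ k₂ := IsCofiltered.minToRight k₁ k₂
    have hirr : IrreducibleSpace (D'.obj l) := hall l.left l.hom
    have e₁ : c'.π.app l ⁻¹ᵁ (D'.map f₁ ⁻¹ᵁ V₁) = ⟨u, hu⟩ := by
      rw [preimage_preimage_eq hc', hV₁]
    have e₂ : c'.π.app l ⁻¹ᵁ (D'.map f₂ ⁻¹ᵁ V₂) = ⟨v, hv⟩ := by
      rw [preimage_preimage_eq hc', hV₂]
    have hx' : c'.π.app l x ∈ D'.map f₁ ⁻¹ᵁ V₁ := by
      change x ∈ c'.π.app l ⁻¹ᵁ (D'.map f₁ ⁻¹ᵁ V₁)
      rw [e₁]; exact hx
    have hy' : c'.π.app l y ∈ D'.map f₂ ⁻¹ᵁ V₂ := by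
      change y ∈ c'.π.app l ⁻¹ᵁ (D'.map f₂ ⁻¹ᵁ V₂)
      rw [e₂]; exact hy
    obtain ⟨z, hz₁, hz₂⟩ := nonempty_preirreducible_inter (D'.map f₁ ⁻¹ᵁ V₁).2 (D'.map f₂ ⁻¹ᵁ V₂).2
      ⟨_, hx'⟩ ⟨_, hy'⟩
    obtain ⟨_, ⟨hw₁, hw₂⟩, ⟨w, rfl⟩⟩ := (hdom l.left).denseRange.inter_open_nonempty _
      ((D'.map f₁ ⁻¹ᵁ V₁).2.inter (D'.map f₂ ⁻¹ᵁ V₂).2) ⟨z, hz₁, hz₂⟩
    refine ⟨w, Set.mem_univ _, ?_, ?_⟩
    · have : w ∈ c'.π.app l ⁻¹ᵁ (D'.map f₁ ⁻¹ᵁ V₁) := hw₁
      rw [e₁] at this; exact this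
    · have : w ∈ c'.π.app l ⁻¹ᵁ (D'.map f₂ ⁻¹ᵁ V₂) := hw₂
      rw [e₂] at this; exact this

end Groth.Agent.S4771
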