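import Groth.Statements.S4772
import Groth.Agent.S4763
import Groth.Agent.H24.LimitTop
-- import your own Groth.Agent.* helpers here

set_option autoImplicit false
universe u
open CategoryTheory AlgebraicGeometry
open Lim8

namespace Groth.Agent.S4772

open Limits Groth.Agent.H24 in
/-- Let S = lim S_i be a cofiltered limit of schemes whose transition maps are affine and dominant, some
stage S_{i₀} being quasi-compact. Then S is connected (in particular nonempty) if and only if there
is an index i over i₀ such that S_j is connected for every j over i. -/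
theorem result {I : Type u} [SmallCategory I] [IsCofiltered I]
    (D : I ⥤ Scheme.{u}) (c : Limits.Cone D) (hc : Limits.IsLimit c)
    [∀ (i j : I) (f : i ⟶ j), IsAffineHom (D.map f)] (i₀ : I)
    [CompactSpace (D.obj i₀)] (hd : ∀ (i j : I) (φ : i ⟶ j), IsDominant (D.map φ)) :
    ConnectedSpace c.pt ↔ ∃ (i : I) (_ : i ⟶ i₀), ∀ (j : I) (_ : j ⟶ i), ConnectedSpace (D.obj j) := by
  have haff : ∀ {i j : I} (f : i ⟶ j), IsAffineHom (D.map f) := fun f => inferInstance
  have hdom : ∀ j, IsDominant (c.π.app j) := fun j =>
    (Groth.Agent.S4763.result D c hc j).mpr (fun k φ => hd k j φ)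
  have hempty : ∀ (j : I) (U : Set (D.obj j)), IsOpen U → c.π.app j ⁻¹' U = ∅ → U = ∅ := by
    intro j U hU h
    by_contra hne
    obtain ⟨_, hy, ⟨y, rfl⟩⟩ :=
      (hdom j).denseRange.inter_open_nonempty U hU (Set.nonempty_iff_ne_empty.mpr hne)
    have : y ∈ c.π.app j ⁻¹' U := hy
    rw [h] at this
    exact this
  constructor
  · intro hconn
    refine ⟨i₀, 𝟙 _, fun j _ => ?_⟩
    rw [connectedSpace_iff_clopen]
    refine ⟨(inferInstance : Nonempty c.pt).map (c.π.app j), fun s hs => ?_⟩
    have hs' : IsClopen ((c.π.app j) ⁻¹' s : Set c.pt) := hs.preimage (c.π.app j).continuous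
    rcases (isClopen_iff (α := c.pt)).mp hs' with h | h
    · left; exact hempty j s hs.isOpen h
    · right
      have := hempty j sᶜ hs.compl.isOpen (by rw [Set.preimage_compl, h, Set.compl_univ])
      simpa [Set.compl_empty_iff] using this
  · rintro ⟨i, φ, hall⟩
    let D' := Over.forget i ⋙ D
    let c' := c.whisker (Over.forget i)
    have hc' : IsLimit c' := isLimitOverCone D c hc i
    have : CompactSpace (D.obj i) := QuasiCompact.compactSpace_of_compactSpace (D.map φ)
    have hcpt : ∀ j : Over i, CompactSpace (D'.obj j) := compactSpace_over D i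
    have haff' : ∀ {j k : Over i} (f : j ⟶ k), IsAffineHom (D'.map f) := isAffineHom_over D i
    have hne : ∀ j : Over i, Nonempty (D'.obj j) := fun j => (hall j.left j.hom).toNonempty
    rw [connectedSpace_iff_clopen]
    refine ⟨Scheme.nonempty_of_isLimit D' c' hc', fun s hs => ?_⟩
    obtain ⟨k, V, W, hV, hW, hVW, -, -⟩ := exists_clopen_descent D' c' hc' s hs
    have hdisj : (V : Set (D'.obj k)) ∩ W = ∅ := by
      refine hempty k.left ((V : Set (D'.obj k)) ∩ (W : Set (D'.obj k))) (V.2.inter W.2) ?_
      rw [Set.preimage_inter]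
      change ((c'.π.app k ⁻¹ᵁ V : c'.pt.Opens) : Set c'.pt) ∩ ((c'.π.app k ⁻¹ᵁ W : c'.pt.Opens) : Set _) = ∅
      rw [hV, hW]
      simp
    have hcompl : (V : Set (D'.obj k))ᶜ = W := by
      have h1 : (V : Set (D'.obj k)) ∪ W = Set.univ := by
        have := congr_arg (fun U : (D'.obj k).Opens => (U : Set (D'.obj k))) hVW
        simpa using this
      ext x
      constructor
      · intro hx
        have : x ∈ (V : Set (D'.obj k)) ∪ W := h1 ▸ Set.mem_univ x
        exact this.resolve_left hx
      · intro hx hx'
        have : x ∈ (V : Set (D'.obj k)) ∩ W := ⟨hx', hx⟩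
        rw [hdisj] at this
        exact this
    have hVclopen : IsClopen (V : Set (D'.obj k)) :=
      ⟨by rw [← isOpen_compl_iff, hcompl]; exact W.2, V.2⟩
    have hconn : ConnectedSpace (D'.obj k) := hall k.left k.hom
    rcases isClopen_iff.mp hVclopen with h | h
    · left
      rw [← hV]
      change (c'.π.app k) ⁻¹' (V : Set (D'.obj k)) = ∅
      rw [h, Set.preimage_empty]
    · right
      rw [← hV]
      change (c'.π.app k) ⁻¹' (V : Set (D'.obj k)) = Set.univ
      rw [h, Set.preimage_univ]

end Groth.Agent.S4772
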