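import Groth.Statements.S4775
import Groth.Agent.S4774
import Groth.Agent.H24.FlatSurjSections
-- import your own Groth.Agent.* helpers here

set_option autoImplicit false
universe u
open CategoryTheory AlgebraicGeometry
open Lim8

namespace Groth.Agent.S4775

open Limits in
/-- Let S = lim S_i be a cofiltered limit of schemes whose transition maps are affine, flat and
surjective. Then S is reduced if and only if every S_i is reduced. -/
theorem result {I : Type u} [SmallCategory I] [IsCofiltered I]
    (D : I ⥤ Scheme.{u}) (c : Limits.Cone D) (hc : Limits.IsLimit c)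
    [∀ (i j : I) (f : i ⟶ j), IsAffineHom (D.map f)]
    (hf : ∀ (i j : I) (φ : i ⟶ j), Flat (D.map φ) ∧ Surjective (D.map φ)) :
    IsReduced c.pt ↔ ∀ (i : I), IsReduced (D.obj i) := by
  have haff : ∀ {i j : I} (f : i ⟶ j), IsAffineHom (D.map f) := fun f => inferInstance
  constructor
  · intro hred i
    by_contra hnr
    have hcov : TopologicalSpace.IsOpenCover (fun V : (D.obj i).affineOpens => V.1) :=
      iSup_affineOpens_eq_top _
    have h' := (AlgebraicGeometry.IsReduced.iff_of_openCover (D.obj i)
      ((D.obj i).openCoverOfIsOpenCover _ hcov)).not.mp hnr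
    push Not at h'
    obtain ⟨V, hV⟩ := h'
    have hVaff : IsAffine (V.1 : Scheme) := V.2
    have hnr' : ¬ _root_.IsReduced Γ((V.1 : Scheme), ⊤) := fun hr =>
      hV (isReduced_of_isAffine_isReduced (V.1 : Scheme))
    rw [isReduced_iff] at hnr'
    push Not at hnr'
    obtain ⟨t, ⟨n, hn⟩, ht0⟩ := hnr'
    -- transport to `Γ(D_i, V)`
    let e := V.1.topIso
    let s : Γ(D.obj i, V.1) := e.hom t
    have hsn : s ^ n = 0 := by
      change (e.hom t) ^ n = 0
      rw [← map_pow, hn, map_zero]
    have hs0 : s ≠ 0 := by
      intro h0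
      apply ht0
      have : e.inv (e.hom t) = t := by
        rw [← CommRingCat.comp_apply, e.hom_inv_id]; rfl
      rw [← this]
      change e.inv s = 0
      rw [h0, map_zero]
    -- the image of `s` in the limit is nilpotent, hence zero
    have h1 : (c.π.app i).app V.1 s = 0 := by
      have : IsNilpotent ((c.π.app i).app V.1 s) := ⟨n, by rw [← map_pow, hsn, map_zero]⟩
      have hr : _root_.IsReduced Γ(c.pt, c.π.app i ⁻¹ᵁ V.1) := inferInstance
      exact hr.eq_zero _ this
    obtain ⟨j, f, hj⟩ := exists_app_map_eq_zero_of_isLimit D c hc V.2.isCompact s h1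
    have := (hf j i f).1
    have := (hf j i f).2
    exact hs0 (Groth.Agent.H24.app_injective_of_flat_of_surjective (D.map f) V.1
      (by rw [map_zero]; exact hj))
  · intro hall
    by_contra hnr
    obtain ⟨i, hi⟩ := Groth.Agent.S4774.result D c hc hnr
    exact hi i (𝟙 i) (hall i)

end Groth.Agent.S4775
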