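import Groth.Statements.S4777
import Groth.Agent.H24.DirColimUnder
-- import your own Groth.Agent.* helpers here

set_option autoImplicit false
universe u
open CategoryTheory
open Lim8

namespace Groth.Agent.S4777

open Limits in
/-- Extraction: if `Hom(B,-)` preserves the colimit `c` with point `B`, the identity of `B`
factors through a stage. -/
theorem exists_section {A B : CommRingCat.{u}} (f : A ⟶ B)
    {J : Type u} [Preorder J] [IsDirected J (· ≤ ·)] [Nonempty J] (F : J ⥤ Under A)
    [PreservesColimit F (coyoneda.obj (Opposite.op (Under.mk f)))]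
    (c : Cocone F) (hpt : c.pt = Under.mk f) (hc : IsColimit c) :
    ∃ (i : J) (s : Under.mk f ⟶ F.obj i), s ≫ c.ι.app i = eqToHom hpt.symm := by
  have hc' := isColimitOfPreserves (coyoneda.obj (Opposite.op (Under.mk f))) hc
  obtain ⟨i, s, hs⟩ := Types.jointly_surjective_of_isColimit hc' (eqToHom hpt.symm)
  exact ⟨i, s, hs⟩

/-- Let B be an algebra over a commutative ring A. If, for every inductive system (C_λ) of A-algebras
indexed by a nonempty directed preordered set, the canonical map colim Hom_A(B, C_λ) → Hom_A(B,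
colim C_λ) is bijective (that is, Hom_A(B, -) preserves the colimit of the system), then B is an
A-algebra of finite presentation. (This is the necessity half of the characterization of algebras of
finite presentation by this property; the converse is standard.) -/
theorem result {A B : CommRingCat.{u}} (f : A ⟶ B)
    (h : ∀ (J : Type u) [Preorder J] [IsDirected J (· ≤ ·)] [Nonempty J] (F : J ⥤ Under A),
      Limits.PreservesColimit F (coyoneda.obj (Opposite.op (Under.mk f)))) :
    f.hom.FinitePresentation := by
  classical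
  let alg : Algebra A B := f.hom.toAlgebra
  -- Step 1: `B` is of finite type.
  have hft : Algebra.FiniteType A B := by
    let J₁ := {B' : Subalgebra A B // B'.FG}
    have : Nonempty J₁ := ⟨⟨⊥, Subalgebra.fg_bot⟩⟩
    have : IsDirected J₁ (· ≤ ·) := ⟨fun a b =>
      ⟨⟨a.1 ⊔ b.1, a.2.sup b.2⟩, (le_sup_left : a.1 ≤ a.1 ⊔ b.1), (le_sup_right : b.1 ≤ a.1 ⊔ b.1)⟩⟩
    let F₁ : J₁ ⥤ Under A :=
      { obj := fun B' => Under.mk (CommRingCat.ofHom (algebraMap A B'.1))
        map := fun {X Y} g => Under.homMk
          (CommRingCat.ofHom (Subalgebra.inclusion (show X.1 ≤ Y.1 from leOfHom g)).toRingHom)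
          (by ext x; rfl)
        map_id := fun X => by ext x; rfl
        map_comp := fun g g' => by ext x; rfl }
    let c₁ : Limits.Cocone F₁ :=
      { pt := Under.mk f
        ι := { app := fun B' => Under.homMk (CommRingCat.ofHom B'.1.val.toRingHom) (by ext x; rfl)
               naturality := fun X Y g => by ext x; rfl } }
    obtain ⟨hc₁⟩ : Nonempty (Limits.IsColimit c₁) := by
      apply Groth.Agent.H24.isColimit_under_of_directed
      · intro (b : B)
        exact ⟨⟨Algebra.adjoin A {b}, Subalgebra.fg_def.mpr ⟨{b}, Set.finite_singleton b, rfl⟩⟩,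
          ⟨b, Algebra.subset_adjoin (Set.mem_singleton b)⟩, rfl⟩
      · intro i x y hxy
        exact ⟨i, le_rfl, by
          have : x = y := Subtype.ext hxy
          rw [this]⟩
    have := h J₁ F₁
    obtain ⟨i, s, hs⟩ := exists_section f F₁ c₁ rfl hc₁
    have htop : i.1 = ⊤ := by
      rw [eq_top_iff]
      intro b _
      have := congr_arg (fun g => g.right.hom b) hs
      simp only [eqToHom_refl] at this
      have hb : i.1.val (s.right.hom b) = b := this
      rw [← hb]
      exact Subtype.property _
    exact ⟨htop ▸ i.2⟩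
  -- Step 2: present `B` as a quotient of a polynomial ring and approximate the kernel.
  obtain ⟨n, π, hπ⟩ := Algebra.FiniteType.iff_quotient_mvPolynomial''.mp hft
  let P := MvPolynomial (Fin n) A
  let I : Ideal P := RingHom.ker π.toRingHom
  let J₂ := {I' : Ideal P // I'.FG ∧ I' ≤ I}
  have : Nonempty J₂ := ⟨⟨⊥, Submodule.fg_bot, bot_le⟩⟩
  have : IsDirected J₂ (· ≤ ·) := ⟨fun a b =>
    ⟨⟨a.1 ⊔ b.1, Submodule.FG.sup a.2.1 b.2.1, sup_le a.2.2 b.2.2⟩,
      (le_sup_left : a.1 ≤ a.1 ⊔ b.1), (le_sup_right : b.1 ≤ a.1 ⊔ b.1)⟩⟩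
  let q : ∀ I' : J₂, (P ⧸ I'.1) →ₐ[A] B := fun I' =>
    Ideal.Quotient.liftₐ I'.1 π (fun a ha => I'.2.2 ha)
  let F₂ : J₂ ⥤ Under A :=
    { obj := fun I' => Under.mk (CommRingCat.ofHom (algebraMap A (P ⧸ I'.1)))
      map := fun {X Y} g => Under.homMk
        (CommRingCat.ofHom (Ideal.Quotient.factor (show X.1 ≤ Y.1 from leOfHom g)))
        (by ext x; rfl)
      map_id := fun X => by
        ext x
        obtain ⟨x, rfl⟩ := Ideal.Quotient.mk_surjective x
        rfl
      map_comp := fun g g' => by
        ext x
        obtain ⟨x, rfl⟩ := Ideal.Quotient.mk_surjective x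
        rfl }
  let c₂ : Limits.Cocone F₂ :=
    { pt := Under.mk f
      ι := { app := fun I' => Under.homMk (CommRingCat.ofHom (q I').toRingHom)
               (by ext x; exact (q I').commutes x)
             naturality := fun X Y g => by
               ext x
               obtain ⟨x, rfl⟩ := Ideal.Quotient.mk_surjective x
               rfl } }
  obtain ⟨hc₂⟩ : Nonempty (Limits.IsColimit c₂) := by
    apply Groth.Agent.H24.isColimit_under_of_directed
    · intro (b : B)
      obtain ⟨p, rfl⟩ := hπ b
      exact ⟨⟨⊥, Submodule.fg_bot, bot_le⟩, Ideal.Quotient.mk _ p, rfl⟩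
    · intro i x y hxy
      obtain ⟨p, rfl⟩ := Ideal.Quotient.mk_surjective x
      obtain ⟨p', rfl⟩ := Ideal.Quotient.mk_surjective y
      have hpp : p - p' ∈ I := by
        have : π p = π p' := hxy
        change π (p - p') = 0
        rw [map_sub, this, sub_self]
      refine ⟨⟨i.1 ⊔ Ideal.span {p - p'}, Submodule.FG.sup i.2.1 ⟨{p - p'}, by simp⟩,
        sup_le i.2.2 ((Ideal.span_singleton_le_iff_mem _).mpr hpp)⟩,
        (le_sup_left : i.1 ≤ i.1 ⊔ Ideal.span {p - p'}), ?_⟩
      change Ideal.Quotient.mk _ p = Ideal.Quotient.mk _ p'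
      rw [Ideal.Quotient.eq]
      exact Ideal.mem_sup_right (Ideal.mem_span_singleton_self _)
  have := h J₂ F₂
  obtain ⟨i, s, hs⟩ := exists_section f F₂ c₂ rfl hc₂
  -- the section as an algebra map
  let s' : B →ₐ[A] (P ⧸ i.1) :=
    { s.right.hom with
      commutes' := fun a => by
        have := congr_arg (fun g => g.hom a) (Under.w s)
        exact this }
  have hqs : ∀ b, q i (s' b) = b := by
    intro b
    have := congr_arg (fun g => g.right.hom b) hs
    simp only [eqToHom_refl] at this
    exact this
  have : Algebra.FinitePresentation A (P ⧸ i.1) := Algebra.FinitePresentation.quotient i.2.1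
  exact Groth.Agent.H24.finitePresentation_of_retract (q i) s' hqs

end Groth.Agent.S4777
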