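import Groth.Statements.S4785
import Groth.Agent.H24.FlatMono
import Groth.Agent.H24.LimitTop
import Groth.Agent.S4764

set_option autoImplicit false
universe u
open CategoryTheory AlgebraicGeometry
open Lim8

namespace Groth.Agent.S4785

/-- Let S = lim S_i be a cofiltered limit of schemes whose transition maps are open immersions, so that
each S_j with j over i is an open subscheme of S_i. Then, for every index i, the projection S ⟶ S_i
is a topological embedding and every stalk map O_{S_i, π(s)} ⟶ O_{S, s} is an isomorphism; that is,
S is the subspace ⋂_j S_j of S_i with the induced structure sheaf. -/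
theorem result {I : Type u} [SmallCategory I] [IsCofiltered I]
    (D : I ⥤ Scheme.{u}) (c : Limits.Cone D) (hc : Limits.IsLimit c)
    [∀ (i j : I) (f : i ⟶ j), IsAffineHom (D.map f)]
    (hoi : ∀ (i j : I) (φ : i ⟶ j), IsOpenImmersion (D.map φ)) (i : I) :
    Topology.IsEmbedding ⇑(c.π.app i) ∧ ∀ s : c.pt, IsIso ((c.π.app i).stalkMap s) := by
  have haff : ∀ {i j : I} (f : i ⟶ j), IsAffineHom (D.map f) := fun f => inferInstance
  have hmono : Mono (c.π.app i) := by
    constructor
    intro T a b hab
    apply hc.hom_ext
    intro j
    have : IsOpenImmersion (D.map (IsCofiltered.minToLeft i j)) := hoi _ _ _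
    have h2 : a ≫ c.π.app (IsCofiltered.min i j) = b ≫ c.π.app (IsCofiltered.min i j) := by
      rw [← cancel_mono (D.map (IsCofiltered.minToLeft i j)), Category.assoc, Category.assoc,
        c.w, hab]
    rw [← c.w (IsCofiltered.minToRight i j), ← Category.assoc, ← Category.assoc, h2]
  have hflat : Flat (c.π.app i) := Groth.Agent.S4764.result D c hc i (fun j φ => by
    have := hoi j i φ
    infer_instance)
  refine ⟨⟨Groth.Agent.H24.isInducing_π_app D c hc
    (fun i j φ => by
      have := hoi i j φ
      exact (D.map φ).isOpenEmbedding.isInducing) i, (c.π.app i).injective⟩, fun s => ?_⟩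
  exact Groth.Agent.H24.isIso_stalkMap_of_flat_of_mono (c.π.app i) s

end Groth.Agent.S4785
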