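import Groth.Statements.S4782
import Groth.Agent.H24.ReducedLimit
import Groth.Agent.S4785

set_option autoImplicit false
universe u
open CategoryTheory AlgebraicGeometry
open Lim8

namespace Groth.Agent.S4782

/-- Let S = lim S_i be a cofiltered limit of schemes whose transition maps are open immersions (in
particular affine), and let S_{i₀} be a quasi-compact stage whose nilradical is an ideal of finite
type, i.e. for every affine open U of S_{i₀} the nilradical of Γ(S_{i₀}, U) is finitely generated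
(automatic when S_{i₀} is Noetherian). Then S is reduced if and only if there is an index i over i₀
such that S_j is reduced for every j over i. -/
theorem result {I : Type u} [SmallCategory I] [IsCofiltered I]
    (D : I ⥤ Scheme.{u}) (c : Limits.Cone D) (hc : Limits.IsLimit c)
    [∀ (i j : I) (f : i ⟶ j), IsAffineHom (D.map f)] (i₀ : I)
    [CompactSpace (D.obj i₀)] (hoi : ∀ (i j : I) (φ : i ⟶ j), IsOpenImmersion (D.map φ))
    (hN : ∀ U : (D.obj i₀).affineOpens, (nilradical Γ(D.obj i₀, U)).FG) :
    IsReduced c.pt ↔ ∃ (i : I) (_ : i ⟶ i₀), ∀ (j : I) (_ : j ⟶ i), IsReduced (D.obj j) := by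
  classical
  have haff : ∀ {i j : I} (f : i ⟶ j), IsAffineHom (D.map f) := fun f => inferInstance
  constructor
  · intro hred
    have hcov : ∀ x : D.obj i₀, ∃ W : (D.obj i₀).Opens, IsAffineOpen W ∧ x ∈ W := by
      intro x
      obtain ⟨_, ⟨W, hW, rfl⟩, hxW, -⟩ :=
        (D.obj i₀).isBasis_affineOpens.exists_subset_of_mem_open (Set.mem_univ x) isOpen_univ
      exact ⟨W, hW, hxW⟩
    choose W hW hxW using hcov
    obtain ⟨t, ht⟩ := CompactSpace.elim_nhds_subcover (fun x => (W x : Set (D.obj i₀)))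
      (fun x => (W x).2.mem_nhds (hxW x))
    have hgen : ∀ x, ∃ s : Finset Γ(D.obj i₀, W x),
        Ideal.span (s : Set Γ(D.obj i₀, W x)) = nilradical Γ(D.obj i₀, W x) :=
      fun x => hN ⟨W x, hW x⟩
    choose Ngen hNgen using hgen
    have hvan : ∀ (x : D.obj i₀) (n : Γ(D.obj i₀, W x)), IsNilpotent n →
        ∃ (j : I) (f : j ⟶ i₀), (D.map f).app (W x) n = 0 := by
      intro x n hn
      have h1 : IsNilpotent ((c.π.app i₀).app (W x) n) := hn.map _
      have hr : _root_.IsReduced Γ(c.pt, c.π.app i₀ ⁻¹ᵁ W x) := inferInstance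
      have h2 : (c.π.app i₀).app (W x) n = 0 := hr.eq_zero _ h1
      exact exists_app_map_eq_zero_of_isLimit D c hc (hW x).isCompact n h2
    have key : ∀ (T : Finset (Σ x : D.obj i₀, Γ(D.obj i₀, W x))),
        (∀ p ∈ T, IsNilpotent p.2) →
        ∃ (i : I) (φ : i ⟶ i₀), ∀ p ∈ T, (D.map φ).app (W p.1) p.2 = 0 := by
      intro T
      induction T using Finset.induction_on with
      | empty => intro _; exact ⟨i₀, 𝟙 i₀, by simp⟩
      | insert p T hp ih =>
        intro hT
        obtain ⟨i, φ, hφ⟩ := ih (fun q hq => hT q (Finset.mem_insert_of_mem hq))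
        obtain ⟨j, f, hf⟩ := hvan p.1 p.2 (hT p (Finset.mem_insert_self _ _))
        obtain ⟨k, g₁, g₂, e⟩ := IsCofiltered.cospan φ f
        refine ⟨k, g₁ ≫ φ, ?_⟩
        intro q hq
        rcases Finset.mem_insert.mp hq with rfl | hq
        · rw [e, D.map_comp]
          exact Groth.Agent.H24.comp_app_eq_zero _ _ _ _ hf
        · rw [D.map_comp]
          exact Groth.Agent.H24.comp_app_eq_zero _ _ _ _ (hφ q hq)
    obtain ⟨i, φ, hφ⟩ := key (t.sigma (fun x => Ngen x)) (by
      intro p hp
      have h1 : p.2 ∈ Ngen p.1 := (Finset.mem_sigma.mp hp).2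
      have h2 : p.2 ∈ nilradical Γ(D.obj i₀, W p.1) := by
        rw [← hNgen p.1]; exact Ideal.subset_span h1
      exact mem_nilradical.mp h2)
    refine ⟨i, φ, fun j ψ => ?_⟩
    have hoi' : IsOpenImmersion (D.map (ψ ≫ φ)) := hoi _ _ _
    have : ∀ y : D.obj j, _root_.IsReduced ((D.obj j).presheaf.stalk y) := by
      intro y
      have hy : (D.map (ψ ≫ φ)) y ∈ ⋃ x ∈ t, (W x : Set (D.obj i₀)) := by rw [ht]; trivial
      simp only [Set.mem_iUnion] at hy
      obtain ⟨x, hxt, hyx⟩ := hy
      refine Groth.Agent.H24.isReduced_stalk_of_isOpenImmersion_of_app_eq_zero (D.map (ψ ≫ φ))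
        (hW x) (Ngen x : Set Γ(D.obj i₀, W x)) (hNgen x) ?_ y hyx
      intro n hn
      have := hφ ⟨x, n⟩ (Finset.mem_sigma.mpr ⟨hxt, hn⟩)
      rw [D.map_comp]
      exact Groth.Agent.H24.comp_app_eq_zero _ _ _ _ this
    exact isReduced_of_isReduced_stalk _
  · rintro ⟨i, φ, h⟩
    have hi : IsReduced (D.obj i) := h i (𝟙 i)
    have hst := (Groth.Agent.S4785.result D c hc hoi i).2
    have : ∀ s : c.pt, _root_.IsReduced (c.pt.presheaf.stalk s) := by
      intro s
      have := hst s
      exact isReduced_of_injective (inv ((c.π.app i).stalkMap s)).hom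
        ((ConcreteCategory.isIso_iff_bijective _).mp inferInstance).1
    exact isReduced_of_isReduced_stalk _

end Groth.Agent.S4782
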