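import Groth.Statements.S4783
import Groth.Agent.H24.LimitTop
import Groth.Agent.S4782
import Groth.Agent.S4784
import Groth.Agent.S4785

set_option autoImplicit false
universe u
open CategoryTheory AlgebraicGeometry
open Lim8

namespace Groth.Agent.S4783

/-- Let S = lim S_i be a cofiltered limit of schemes whose transition maps are open immersions (in
particular affine), and let S_{i₀} be a Noetherian stage. Then S is integral if and only if there is
an index i over i₀ such that S_j is integral for every j over i. -/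
theorem result {I : Type u} [SmallCategory I] [IsCofiltered I]
    (D : I ⥤ Scheme.{u}) (c : Limits.Cone D) (hc : Limits.IsLimit c)
    [∀ (i j : I) (f : i ⟶ j), IsAffineHom (D.map f)] (i₀ : I)
    [IsNoetherian (D.obj i₀)] (hoi : ∀ (i j : I) (φ : i ⟶ j), IsOpenImmersion (D.map φ)) :
    IsIntegral c.pt ↔ ∃ (i : I) (_ : i ⟶ i₀), ∀ (j : I) (_ : j ⟶ i), IsIntegral (D.obj j) := by
  classical
  have haff : ∀ {i j : I} (f : i ⟶ j), IsAffineHom (D.map f) := fun f => inferInstance
  have hN : ∀ U : (D.obj i₀).affineOpens, (nilradical Γ(D.obj i₀, U)).FG := by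
    intro U
    have := IsLocallyNoetherian.component_noetherian U
    exact (isNoetherianRing_iff_ideal_fg _).mp this _
  have hredIff := Groth.Agent.S4782.result D c hc i₀ hoi hN
  constructor
  · intro hint
    have hred : IsReduced c.pt := inferInstance
    obtain ⟨i₁, φ₁, h₁⟩ := hredIff.mp hred
    have hirr : IrreducibleSpace c.pt := inferInstance
    have hfin : (irreducibleComponents (D.obj i₀)).Finite :=
      TopologicalSpace.NoetherianSpace.finite_irreducibleComponents
    let T : Finset (Set c.pt) :=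
      hfin.toFinset.image (fun Z => ((c.π.app i₀).base ⁻¹' Z : Set c.pt))
    have hcover : (Set.univ : Set c.pt) ⊆ ⋃₀ (T : Set (Set c.pt)) := by
      intro s _
      refine ⟨(c.π.app i₀) ⁻¹' irreducibleComponent (c.π.app i₀ s), ?_, mem_irreducibleComponent⟩
      exact Finset.mem_coe.mpr (Finset.mem_image.mpr ⟨_, hfin.mem_toFinset.mpr
        (irreducibleComponent_mem_irreducibleComponents _), rfl⟩)
    obtain ⟨z, hz, hsub⟩ := (isIrreducible_iff_sUnion_isClosed.mp
      (IrreducibleSpace.isIrreducible_univ c.pt)) T (by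
        intro z hz
        obtain ⟨Z, hZ, rfl⟩ := Finset.mem_image.mp hz
        exact (isClosed_of_mem_irreducibleComponents _ (hfin.mem_toFinset.mp hZ)).preimage
          (c.π.app i₀).continuous) hcover
    obtain ⟨Z, hZ, rfl⟩ := Finset.mem_image.mp hz
    have hZmem := hfin.mem_toFinset.mp hZ
    have hZcl : IsClosed Z := isClosed_of_mem_irreducibleComponents _ hZmem
    let U : (D.obj i₀).Opens := ⟨Zᶜ, hZcl.isOpen_compl⟩
    have hU : c.π.app i₀ ⁻¹ᵁ U = ⊥ := by
      ext s
      simp only [TopologicalSpace.Opens.coe_bot, Set.mem_empty_iff_false, iff_false]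
      intro hs
      exact hs (hsub (Set.mem_univ s))
    obtain ⟨i₂, φ₂, h₂⟩ := Groth.Agent.H24.exists_map_preimage_eq_bot D c hc U
      (TopologicalSpace.NoetherianSpace.isCompact _) hU
    obtain ⟨k, g₁, g₂, e⟩ := IsCofiltered.cospan φ₁ φ₂
    refine ⟨k, g₁ ≫ φ₁, fun j ψ => ?_⟩
    rw [isIntegral_iff_irreducibleSpace_and_isReduced]
    refine ⟨?_, h₁ j (ψ ≫ g₁)⟩
    have hoi' : IsOpenImmersion (D.map (ψ ≫ g₁ ≫ φ₁)) := hoi _ _ _
    have hrange : Set.range (D.map (ψ ≫ g₁ ≫ φ₁)) ⊆ Z := by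
      rintro _ ⟨y, rfl⟩
      by_contra hy
      have e' : D.map (ψ ≫ g₁ ≫ φ₁) = D.map (ψ ≫ g₂) ≫ D.map φ₂ := by
        rw [← D.map_comp, Category.assoc, e]
      have : D.map (ψ ≫ g₂) y ∈ D.map φ₂ ⁻¹ᵁ U := by
        show (D.map (ψ ≫ g₂) ≫ D.map φ₂) y ∈ Zᶜ
        rw [← e']
        exact hy
      rw [h₂] at this
      exact this
    have hpre : IsPreirreducible (Set.range (D.map (ψ ≫ g₁ ≫ φ₁))) :=
      hZmem.1.isPreirreducible.open_subset
        (D.map (ψ ≫ g₁ ≫ φ₁)).isOpenEmbedding.isOpen_range hrange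
    have h3 := hpre.preimage (D.map (ψ ≫ g₁ ≫ φ₁)).isOpenEmbedding
    rw [Set.preimage_range] at h3
    have hne : Nonempty (D.obj j) := ⟨c.π.app j (Classical.arbitrary c.pt)⟩
    exact { toPreirreducibleSpace := ⟨h3⟩, toNonempty := hne }
  · rintro ⟨i, φ, h⟩
    rw [isIntegral_iff_irreducibleSpace_and_isReduced]
    refine ⟨?_, hredIff.mpr ⟨i, φ, fun j ψ => by have := h j ψ; infer_instance⟩⟩
    have hi : IsIntegral (D.obj i) := h i (𝟙 i)
    have hη : genericPoint (D.obj i) ∈ Set.range (c.π.app i) := by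
      rw [Groth.Agent.S4784.result D c hc i]
      simp only [Set.mem_iInter]
      intro j ψ
      have := h j ψ
      have := hoi j i ψ
      refine ((genericPoint_spec (D.obj i)).mem_open_set_iff
        (D.map ψ).isOpenEmbedding.isOpen_range).mpr ?_
      obtain ⟨y⟩ : Nonempty (D.obj j) := inferInstance
      exact ⟨D.map ψ y, trivial, y, rfl⟩
    obtain ⟨s₀, hs₀⟩ := hη
    have hind := (Groth.Agent.S4785.result D c hc hoi i).1.isInducing
    refine { toPreirreducibleSpace := ⟨?_⟩, toNonempty := ⟨s₀⟩ }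
    rintro U₁ U₂ hU₁ hU₂ ⟨x₁, -, hx₁⟩ ⟨x₂, -, hx₂⟩
    obtain ⟨V₁, hV₁, rfl⟩ := hind.isOpen_iff.mp hU₁
    obtain ⟨V₂, hV₂, rfl⟩ := hind.isOpen_iff.mp hU₂
    have h1 : genericPoint (D.obj i) ∈ V₁ :=
      ((genericPoint_spec (D.obj i)).mem_open_set_iff hV₁).mpr ⟨_, trivial, hx₁⟩
    have h2 : genericPoint (D.obj i) ∈ V₂ :=
      ((genericPoint_spec (D.obj i)).mem_open_set_iff hV₂).mpr ⟨_, trivial, hx₂⟩
    refine ⟨s₀, trivial, ?_, ?_⟩
    · show c.π.app i s₀ ∈ V₁
      rw [hs₀]; exact h1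
    · show c.π.app i s₀ ∈ V₂
      rw [hs₀]; exact h2

end Groth.Agent.S4783
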