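import Groth.Statements.S4786
import Groth.Agent.H24.LimitProCons
import Groth.Agent.S4764

set_option autoImplicit false
universe u
open CategoryTheory AlgebraicGeometry
open Lim8

namespace Groth.Agent.S4786

/-- Let S = lim S_i be a cofiltered limit of schemes whose transition maps are affine and flat, let
S_{i₁} be a quasi-compact stage, and let Z' and Z'' be pro-constructible subsets of S_{i₁} such that
the closure of Z' is constructible. Then the preimage of Z'' in S is contained in the closure of the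
preimage of Z' in S if and only if there is an index j over i₁ such that the preimage of Z'' in S_j
is contained in the closure of the preimage of Z' in S_j. -/
theorem result {I : Type u} [SmallCategory I] [IsCofiltered I]
    (D : I ⥤ Scheme.{u}) (c : Limits.Cone D) (hc : Limits.IsLimit c)
    [∀ (i j : I) (f : i ⟶ j), IsAffineHom (D.map f)] (i₁ : I) [CompactSpace (D.obj i₁)]
    (hfl : ∀ (i j : I) (φ : i ⟶ j), Flat (D.map φ))
    (Z' Z'' : Set (D.obj i₁)) (hZ' : ProCons.IsProConstructible Z') (hZ'' : ProCons.IsProConstructible Z'')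
    (hcl : Topology.IsConstructible (closure Z')) :
    (⇑(c.π.app i₁) ⁻¹' Z'' : Set c.pt) ⊆ closure (⇑(c.π.app i₁) ⁻¹' Z' : Set c.pt) ↔
      ∃ (j : I) (φ : j ⟶ i₁), ⇑(D.map φ) ⁻¹' Z'' ⊆ closure (⇑(D.map φ) ⁻¹' Z') := by
  have haff : ∀ {i j : I} (f : i ⟶ j), IsAffineHom (D.map f) := fun f => inferInstance
  have hπ : Flat (c.π.app i₁) := Groth.Agent.S4764.result D c hc i₁ (fun j φ => hfl j i₁ φ)
  have hW : ProCons.IsProConstructible (Z'' ∩ (closure Z')ᶜ) :=
    Groth.Agent.H24.isProConstructible_inter hZ''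
      (Groth.Agent.H24.isProConstructible_of_isLocallyConstructible
        hcl.compl.isLocallyConstructible)
  have key : ∀ {X : Scheme.{u}} (f : X ⟶ D.obj i₁) [Flat f],
      (f.base ⁻¹' Z'' ⊆ closure (f.base ⁻¹' Z')) ↔ f.base ⁻¹' (Z'' ∩ (closure Z')ᶜ) = ∅ := by
    intro X f _
    rw [Groth.Agent.H24.closure_preimage_eq_of_flat f hZ']
    constructor
    · intro h
      rw [← Set.subset_empty_iff]
      rintro x ⟨hx, hx'⟩
      exact hx' (h hx)
    · intro h x hx
      by_contra hx'
      have : x ∈ f.base ⁻¹' (Z'' ∩ (closure Z')ᶜ) := ⟨hx, hx'⟩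
      rw [h] at this
      exact this
  refine (key (c.π.app i₁)).trans ?_
  constructor
  · intro h
    obtain ⟨j, φ, hφ⟩ := Groth.Agent.H24.eventuallyEmpty_of_isProConstructible D c hc hW h
    have := hfl j i₁ φ
    exact ⟨j, φ, (key (D.map φ)).mpr hφ⟩
  · rintro ⟨j, φ, hφ⟩
    have := hfl j i₁ φ
    have h' := (key (D.map φ)).mp hφ
    rw [← Set.subset_empty_iff]
    intro x hx
    have : c.π.app j x ∈ (D.map φ).base ⁻¹' (Z'' ∩ (closure Z')ᶜ) := by
      have e : (D.map φ) (c.π.app j x) = c.π.app i₁ x := by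
        rw [← c.w φ]; rfl
      show (D.map φ) (c.π.app j x) ∈ (Z'' ∩ (closure Z')ᶜ)
      rw [e]
      exact hx
    rw [h'] at this
    exact this

end Groth.Agent.S4786
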