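import Groth.Statements.S4795
import Groth.Agent.H49.IsoDescent

set_option autoImplicit false
universe u
open CategoryTheory AlgebraicGeometry
open Lim8

namespace Groth.Agent.S4795

/-- Let S = lim S_i be a cofiltered limit of schemes with affine transition maps and S_{i₀} a
quasi-compact quasi-separated stage; let X₀ and Y₀ be schemes of finite presentation over S_{i₀},
and let X, Y be their base changes along S ⟶ S_{i₀} (base changes are expressed by pullback
squares). Then X and Y are isomorphic over S if and only if, for some index j over i₀, the base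
changes X_j and Y_j of X₀ and Y₀ along S_j ⟶ S_{i₀} are isomorphic over S_j. -/
theorem result {I : Type u} [SmallCategory I] [IsCofiltered I]
    (D : I ⥤ Scheme.{u}) (c : Limits.Cone D) (hc : Limits.IsLimit c)
    [∀ (i j : I) (f : i ⟶ j), IsAffineHom (D.map f)] (i₀ : I)
    [CompactSpace (D.obj i₀)] [QuasiSeparatedSpace (D.obj i₀)]
    {X₀ Y₀ : Scheme.{u}} (a₀ : X₀ ⟶ D.obj i₀) (b₀ : Y₀ ⟶ D.obj i₀)
    [LocallyOfFinitePresentation a₀] [QuasiCompact a₀] [QuasiSeparated a₀]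
    [LocallyOfFinitePresentation b₀] [QuasiCompact b₀] [QuasiSeparated b₀]
    {X Y : Scheme.{u}} (a : X ⟶ c.pt) (b : Y ⟶ c.pt) (qX : X ⟶ X₀) (qY : Y ⟶ Y₀)
    (hX : IsPullback qX a a₀ (c.π.app i₀)) (hY : IsPullback qY b b₀ (c.π.app i₀)) :
    (∃ e : X ≅ Y, e.hom ≫ b = a) ↔
      ∃ (j : I) (φ : j ⟶ i₀) (Xj Yj : Scheme.{u}) (aj : Xj ⟶ D.obj j) (bj : Yj ⟶ D.obj j)
        (pX : Xj ⟶ X₀) (pY : Yj ⟶ Y₀), IsPullback pX aj a₀ (D.map φ) ∧ IsPullback pY bj b₀ (D.map φ) ∧
        ∃ e : Xj ≅ Yj, e.hom ≫ bj = aj := by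
  have hcX₀ : CompactSpace X₀ := QuasiCompact.compactSpace_of_compactSpace a₀
  have hcY₀ : CompactSpace Y₀ := QuasiCompact.compactSpace_of_compactSpace b₀
  have hqX₀ : QuasiSeparatedSpace X₀ := quasiSeparatedSpace_of_quasiSeparated a₀
  have hqY₀ : QuasiSeparatedSpace Y₀ := quasiSeparatedSpace_of_quasiSeparated b₀
  constructor
  · rintro ⟨e, he⟩
    obtain ⟨j, φ, Xj, Yj, pX, aj, pY, bj, ej, h1, h2, h3⟩ :=
      Groth.Agent.H49.IsoDescent.exists_iso_stage D c hc i₀ a₀ b₀ qX a hX qY b hY e he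
    exact ⟨j, φ, Xj, Yj, aj, bj, pX, pY, h1, h2, ej, h3⟩
  · rintro ⟨j, φ, Xj, Yj, aj, bj, pX, pY, h1, h2, ej, h3⟩
    have hπ : c.π.app j ≫ D.map φ = c.π.app i₀ := c.w φ
    -- the squares over `S ⟶ S_j`
    have hXc : qX ≫ a₀ = (a ≫ c.π.app j) ≫ D.map φ := by
      rw [Category.assoc, hπ]; exact hX.w
    have hYc : qY ≫ b₀ = (b ≫ c.π.app j) ≫ D.map φ := by
      rw [Category.assoc, hπ]; exact hY.w
    let lX : X ⟶ Xj := h1.lift qX (a ≫ c.π.app j) hXc
    let lY : Y ⟶ Yj := h2.lift qY (b ≫ c.π.app j) hYc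
    have hlX1 : lX ≫ pX = qX := h1.lift_fst _ _ _
    have hlX2 : lX ≫ aj = a ≫ c.π.app j := h1.lift_snd _ _ _
    have hlY1 : lY ≫ pY = qY := h2.lift_fst _ _ _
    have hlY2 : lY ≫ bj = b ≫ c.π.app j := h2.lift_snd _ _ _
    have hXS : IsPullback lX a aj (c.π.app j) := by
      refine IsPullback.of_right ?_ hlX2 h1
      rw [hlX1, hπ]; exact hX
    have hYS : IsPullback lY b bj (c.π.app j) := by
      refine IsPullback.of_right ?_ hlY2 h2
      rw [hlY1, hπ]; exact hY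
    have w1 : (lX ≫ ej.hom) ≫ bj = a ≫ c.π.app j := by
      rw [Category.assoc, h3, hlX2]
    have h3' : ej.inv ≫ aj = bj := by rw [← h3, Iso.inv_hom_id_assoc]
    have w2 : (lY ≫ ej.inv) ≫ aj = b ≫ c.π.app j := by
      rw [Category.assoc, h3', hlY2]
    refine ⟨⟨hYS.lift (lX ≫ ej.hom) a w1, hXS.lift (lY ≫ ej.inv) b w2, ?_, ?_⟩, ?_⟩
    · apply hXS.hom_ext
      · rw [Category.assoc, hXS.lift_fst, ← Category.assoc, hYS.lift_fst, Category.assoc,
          Iso.hom_inv_id, Category.comp_id, Category.id_comp]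
      · rw [Category.assoc, hXS.lift_snd, hYS.lift_snd, Category.id_comp]
    · apply hYS.hom_ext
      · rw [Category.assoc, hYS.lift_fst, ← Category.assoc, hXS.lift_fst, Category.assoc,
          Iso.inv_hom_id, Category.comp_id, Category.id_comp]
      · rw [Category.assoc, hYS.lift_snd, hXS.lift_snd, Category.id_comp]
    · exact hYS.lift_snd _ _ _

end Groth.Agent.S4795
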