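import Groth.Statements.S4798
import Groth.Agent.H99.CompDimsMain

set_option autoImplicit false
universe u
open CategoryTheory AlgebraicGeometry
open Cons9

namespace Groth.Agent.S4798

/-- Let f : X ⟶ S be a morphism of finite presentation and Z a locally constructible subset of X such
that, for every s ∈ S, Z_s = Z ∩ f⁻¹(s) is locally closed in the fibre f⁻¹(s). For s ∈ S let D(s) be
the set of dimensions of the irreducible components of Z_s (fibres as subspaces of X, dimensions as
topological Krull dimensions). Then every level set {s | D(s) = Φ} of the function D is locally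
constructible in S. (The published statement asserts that the function s ↦ D(s) is locally
constructible; this row states that each of its level sets is locally constructible.) -/
theorem result {X S : Scheme.{u}} (f : X ⟶ S)
    [LocallyOfFinitePresentation f] [QuasiCompact f] [QuasiSeparated f]
    (Z : Set X) (hZ : Topology.IsLocallyConstructible Z)
    (hZs : ∀ s : S, IsLocallyClosed (Subtype.val ⁻¹' Z : Set ↥(⇑f ⁻¹' {s})))
    (Φ : Set (WithBot ℕ∞)) :
    Topology.IsLocallyConstructible {s : S |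
      (fun T : Set ↥(Z ∩ ⇑f ⁻¹' {s}) => topologicalKrullDim ↥T) '' irreducibleComponents ↥(Z ∩ ⇑f ⁻¹' {s}) = Φ} := by
  classical
  have hlft : LocallyOfFiniteType f := inferInstance
  have hmem : ∀ (s : S) (d : WithBot ℕ∞),
      d ∈ (fun T : Set ↥(Z ∩ ⇑f ⁻¹' {s}) => topologicalKrullDim ↥T) ''
        irreducibleComponents ↥(Z ∩ ⇑f ⁻¹' {s}) ↔
      s ∈ f '' {x | Groth.Agent.H99.CompDims.NdPr d f Z x} := by
    intro s d
    rw [Groth.Agent.H99.CompDimsMain.mem_image_dim_iff f Z s (hZs s) d]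
    constructor
    · rintro ⟨x, hx, hN⟩
      exact ⟨x, hN, hx⟩
    · rintro ⟨x, hN, hx⟩
      exact ⟨x, hx, hN⟩
  have hB : ∀ d : WithBot ℕ∞,
      Topology.IsLocallyConstructible (f '' {x | Groth.Agent.H99.CompDims.NdPr d f Z x}) :=
    fun d => f.isLocallyConstructible_image
      (Groth.Agent.H99.CompDims.isLocallyConstructible_ndPr d f Z hZ)
  intro s₀
  obtain ⟨V, hV, hs₀V⟩ : ∃ V : S.Opens, IsAffineOpen V ∧ s₀ ∈ V := by
    obtain ⟨_, ⟨V, hV, rfl⟩, hxV, -⟩ := S.isBasis_affineOpens.exists_subset_of_mem_open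
      (Set.mem_univ s₀) isOpen_univ
    exact ⟨V, hV, hxV⟩
  obtain ⟨n, hn⟩ := Groth.Agent.H99.CompDimsMain.exists_fdim_le f V hV.isCompact
  refine ⟨V, V.2.mem_nhds hs₀V, V.2, ?_⟩
  have hDsub : ∀ s ∈ V, ∀ d ∈ (fun T : Set ↥(Z ∩ ⇑f ⁻¹' {s}) => topologicalKrullDim ↥T) ''
        irreducibleComponents ↥(Z ∩ ⇑f ⁻¹' {s}), ∃ m : ℕ, m ≤ n ∧ d = m := by
    intro s hs d hd
    obtain ⟨x, ⟨ξ, hξZ, hξx, hfξ, hmax, hfd⟩, hx⟩ := (hmem s d).mp hd
    obtain ⟨m, hm⟩ := Groth.Agent.H99.CompDims.exists_nat_eq_fdim f ξ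
    have hle : Groth.Agent.H99.RkTop.fdim f ξ ≤ n := hn ξ (by rw [hfξ, hx]; exact hs)
    refine ⟨m, ?_, by rw [← hfd, hm]⟩
    rw [hm] at hle
    exact_mod_cast hle
  have : IsAffine (V : Scheme.{u}) := hV
  by_cases hΦ : ∀ d ∈ Φ, ∃ m : ℕ, m ≤ n ∧ d = m
  · let B : Set S := ⋂ m : Fin (n + 1),
      (if (((m : ℕ) : WithBot ℕ∞)) ∈ Φ then
        f '' {x | Groth.Agent.H99.CompDims.NdPr ((m : ℕ) : WithBot ℕ∞) f Z x}
      else (f '' {x | Groth.Agent.H99.CompDims.NdPr ((m : ℕ) : WithBot ℕ∞) f Z x})ᶜ)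
    have hBc : Topology.IsLocallyConstructible B := by
      refine Topology.IsLocallyConstructible.iInter (fun m => ?_)
      split_ifs
      · exact hB _
      · exact Groth.Agent.H17.isLocallyConstructible_compl (hB _)
    have hE : ((Subtype.val : ↥(V : Set S) → S) ⁻¹' {s : S |
        (fun T : Set ↥(Z ∩ ⇑f ⁻¹' {s}) => topologicalKrullDim ↥T) ''
          irreducibleComponents ↥(Z ∩ ⇑f ⁻¹' {s}) = Φ}) = V.ι ⁻¹' B := by
      ext ⟨s, hs⟩
      simp only [Set.mem_preimage, Set.mem_ofPred_eq]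
      change _ ↔ s ∈ B
      simp only [B, Set.mem_iInter]
      constructor
      · intro hs' m
        split_ifs with hm
        · rw [← hmem, hs']
          exact hm
        · rw [Set.mem_compl_iff, ← hmem, hs']
          exact hm
      · intro hall
        ext d
        constructor
        · intro hd
          obtain ⟨m, hmn, rfl⟩ := hDsub s hs d hd
          have := hall ⟨m, Nat.lt_succ_of_le hmn⟩
          by_contra hnot
          rw [if_neg hnot] at this
          exact this ((hmem s m).mp hd)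
        · intro hd
          obtain ⟨m, hmn, rfl⟩ := hΦ d hd
          have := hall ⟨m, Nat.lt_succ_of_le hmn⟩
          rw [if_pos hd] at this
          exact (hmem s m).mpr this
    rw [hE]
    exact (hBc.preimage_of_isOpenEmbedding V.ι.isOpenEmbedding).isConstructible
  · have hE : ((Subtype.val : ↥(V : Set S) → S) ⁻¹' {s : S |
        (fun T : Set ↥(Z ∩ ⇑f ⁻¹' {s}) => topologicalKrullDim ↥T) ''
          irreducibleComponents ↥(Z ∩ ⇑f ⁻¹' {s}) = Φ}) = ∅ := by
      ext ⟨s, hs⟩
      simp only [Set.mem_preimage, Set.mem_ofPred_eq, Set.mem_empty_iff_false, iff_false]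
      intro hs'
      apply hΦ
      intro d hd
      exact hDsub s hs d (hs' ▸ hd)
    rw [hE]
    exact Topology.IsConstructible.empty

end Groth.Agent.S4798
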