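import Groth.Statements.S4799
import Groth.Agent.H24.GenericFlatScheme
import Groth.Agent.H24.GenericFlatFP
import Groth.Agent.H44.FPSections

set_option autoImplicit false
universe u
open CategoryTheory AlgebraicGeometry
open Lim8

namespace Groth.Agent.S4799

/-- Generic flatness without Noetherian hypotheses: let Y be an integral scheme, u : X ⟶ Y a
quasi-compact morphism locally of finite presentation, and F a quasi-coherent O_X-module of finite
presentation. Then there is a nonempty open subset U of Y such that F restricted to u⁻¹(U) is flat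
over U, i.e. the stalk F_x is flat over O_{Y, u(x)} for every x with u(x) ∈ U. -/
theorem result {X Y : Scheme.{u}} (u : X ⟶ Y) [IsIntegral Y]
    [LocallyOfFinitePresentation u] [QuasiCompact u] (F : X.Modules) [Coh.IsQCoh F] (hF : CohB1.IsFP F) :
    ∃ U : Y.Opens, (U : Set Y).Nonempty ∧ ∀ x : X, u.base x ∈ U → FlatMod.IsFlatOverAt u F x := by
  classical
  have : F.IsQuasicoherent := ‹Coh.IsQCoh F›
  have : SheafOfModules.IsFinitePresentation (R := X.ringCatSheaf) F := hF
  obtain ⟨y⟩ : Nonempty Y := inferInstance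
  obtain ⟨_, ⟨W, hW, rfl⟩, hyW, -⟩ :=
    Y.isBasis_affineOpens.exists_subset_of_mem_open (Set.mem_univ y) isOpen_univ
  haveI : Nonempty W := ⟨⟨y, hyW⟩⟩
  haveI : IsDomain Γ(Y, W) := inferInstance
  have hcpt : IsCompact ((u ⁻¹ᵁ W : X.Opens) : Set X) := u.isCompact_preimage hW.isCompact
  obtain ⟨s, hs, hcov⟩ := isCompact_iff_finite_and_eq_biUnion_affineOpens.mp hcpt
  have hle : ∀ V ∈ s, (V : X.Opens) ≤ u ⁻¹ᵁ W := fun V hV => by
    rw [hcov]
    exact le_iSup₂ (f := fun (i : X.affineOpens) (_ : i ∈ s) => (i : X.Opens)) V hV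
  have key : ∀ V : s, ∃ f : Γ(Y, W), f ≠ 0 ∧
      (letI := Groth.Agent.H24.GenericFlat.sectionsModuleOver u F (hle V.1 V.2)
       Groth.Agent.H24.GenericFlat.TorTorsion f Γ(F, (V.1 : X.Opens))) := by
    intro V
    letI : Algebra Γ(Y, W) Γ(X, (V.1 : X.Opens)) := (u.appLE W V.1 (hle V.1 V.2)).hom.toAlgebra
    haveI : Algebra.FinitePresentation Γ(Y, W) Γ(X, (V.1 : X.Opens)) :=
      u.finitePresentation_appLE hW V.1.2 (hle V.1 V.2)
    letI := Groth.Agent.H24.GenericFlat.sectionsModuleOver u F (hle V.1 V.2)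
    haveI : IsScalarTower Γ(Y, W) Γ(X, (V.1 : X.Opens)) Γ(F, (V.1 : X.Opens)) := ⟨fun a b m => by
      change (algebraMap Γ(Y, W) Γ(X, (V.1 : X.Opens)) a * b) • m =
        algebraMap Γ(Y, W) Γ(X, (V.1 : X.Opens)) a • b • m
      rw [mul_smul]⟩
    haveI : Module.FinitePresentation Γ(X, (V.1 : X.Opens)) Γ(F, (V.1 : X.Opens)) :=
      Groth.Agent.H44.finitePresentation_sections_of_isFinitePresentation F V.1.2
    exact Groth.Agent.H24.GenericFlat.exists_torTorsion_of_finitePresentation Γ(Y, W)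
      Γ(X, (V.1 : X.Opens)) Γ(F, (V.1 : X.Opens))
  choose fV hfV hTV using key
  haveI := hs.fintype
  refine ⟨Y.basicOpen (∏ V : s, fV V), ?_, ?_⟩
  · have hne : Y.basicOpen (∏ V : s, fV V) ≠ ⊥ := by
      rw [Ne, basicOpen_eq_bot_iff]
      exact Finset.prod_ne_zero_iff.mpr fun V _ => hfV V
    exact (TopologicalSpace.Opens.ne_bot_iff_nonempty _).mp hne
  · intro x hx
    have hxW : x ∈ u ⁻¹ᵁ W := Y.basicOpen_le _ hx
    rw [hcov] at hxW
    simp only [TopologicalSpace.Opens.mem_iSup] at hxW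
    obtain ⟨V, hVs, hxV⟩ := hxW
    refine Groth.Agent.H24.GenericFlat.isFlatOverAt_of_torTorsion u F (hle V hVs) hW V.2
      (fV ⟨V, hVs⟩) (hTV ⟨V, hVs⟩) x hxV ?_
    have huxW : u.base x ∈ W := hle V hVs hxV
    rw [Y.mem_basicOpen _ _ huxW] at hx ⊢
    exact isUnit_of_dvd_unit (map_dvd _ (Finset.dvd_prod_of_mem fV (Finset.mem_univ _))) hx

end Groth.Agent.S4799
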