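import Groth.Statements.S4800
import Groth.Agent.H24.LimitProCons
import Groth.Agent.H24.LimitBaseChange
import Groth.Agent.S4764

set_option autoImplicit false
universe u
open CategoryTheory AlgebraicGeometry
open Lim8

namespace Groth.Agent.S4800

/-- Let S = lim S_i be a cofiltered limit of schemes whose transition maps are affine and flat, and
S_{i₀} a quasi-compact stage; let X₀ ⟶ S_{i₀} be quasi-compact, Y₀ ⟶ S_{i₀} quasi-compact and
quasi-separated, and f₀ : X₀ ⟶ Y₀ a morphism over S_{i₀} such that the closure of its image f₀(X₀)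
is a constructible subset of Y₀. Let f : X ⟶ Y be the base change of f₀ along S ⟶ S_{i₀} (base
changes are expressed by pullback squares). Then f is dominant if and only if, for some index j over
i₀ and the base change f_j : X_j ⟶ Y_j of f₀ along S_j ⟶ S_{i₀}, f_j is dominant. (The published
statement asks instead that the image f₀(X₀) itself be constructible, which is not enough: let R be
the ring of locally constant functions from the Cantor set to a field, take for stages the spectra
of the rings of locally constant functions on the clopen neighbourhoods of a point p, so that the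
limit is the spectrum of the residue field at p, and take Y₀ = Spec R[t]/(m_p t) and X₀ its basic
open subset where t is invertible; the image of X₀ is constructible, the limit morphism is the
inclusion of the punctured affine line into the affine line, which is dominant, and no stage
morphism is dominant. The published proof applies the criterion for a preimage to lie in the closure
of the preimage of a pro-constructible subset along a flat limit, whose hypothesis is that the
closure of that subset is constructible; the image f₀(X₀) is pro-constructible because f₀ is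
quasi-compact, so constructibility of its closure is the hypothesis taken here.) -/
theorem result {I : Type u} [SmallCategory I] [IsCofiltered I]
    (D : I ⥤ Scheme.{u}) (c : Limits.Cone D) (hc : Limits.IsLimit c)
    [∀ (i j : I) (f : i ⟶ j), IsAffineHom (D.map f)] (i₀ : I) [CompactSpace (D.obj i₀)]
    (hfl : ∀ (i j : I) (φ : i ⟶ j), Flat (D.map φ))
    {X₀ Y₀ : Scheme.{u}} (f₀ : X₀ ⟶ Y₀) (g₀ : Y₀ ⟶ D.obj i₀)
    [QuasiCompact (f₀ ≫ g₀)] [QuasiCompact g₀] [QuasiSeparated g₀]
    (hcl : Topology.IsConstructible (closure (Set.range ⇑f₀)))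
    {X Y : Scheme.{u}} (f : X ⟶ Y) (g : Y ⟶ c.pt) (qY : Y ⟶ Y₀) (qX : X ⟶ X₀)
    (hY : IsPullback qY g g₀ (c.π.app i₀)) (hX : IsPullback qX f f₀ qY) :
    IsDominant f ↔ ∃ (j : I) (φ : j ⟶ i₀) (Xj Yj : Scheme.{u}) (fj : Xj ⟶ Yj) (gj : Yj ⟶ D.obj j)
      (pY : Yj ⟶ Y₀) (pX : Xj ⟶ X₀), IsPullback pY gj g₀ (D.map φ) ∧ IsPullback pX fj f₀ pY ∧
      IsDominant fj := by
  open Limits in
  have haff : ∀ {i j : I} (f : i ⟶ j), IsAffineHom (D.map f) := fun f => inferInstance
  have hqc : QuasiCompact f₀ := QuasiCompact.of_comp f₀ g₀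
  have hπ : Flat (c.π.app i₀) := Groth.Agent.S4764.result D c hc i₀ (fun j φ => hfl j i₀ φ)
  have hqY : Flat qY := MorphismProperty.of_isPullback hY.flip hπ
  have hVpro : ProCons.IsProConstructible (closure (Set.range f₀.base))ᶜ :=
    Groth.Agent.H24.isProConstructible_of_isLocallyConstructible hcl.compl.isLocallyConstructible
  rw [Groth.Agent.H24.isDominant_iff_preimage_compl_closure_eq_empty hX]
  constructor
  · intro h
    let F := Groth.Agent.H24.pullbackDiagram D i₀ g₀
    let cF := Groth.Agent.H24.pullbackCone D c i₀ g₀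
    have hcF : IsLimit cF := Groth.Agent.H24.isLimitPullbackCone D c i₀ g₀ hc
    have hFaff : ∀ {φ ψ : Over i₀} (f : φ ⟶ ψ), IsAffineHom (F.map f) := fun f =>
      MorphismProperty.of_isPullback (P := @IsAffineHom)
        (Groth.Agent.H24.isPullback_pullbackDiagram_map D i₀ g₀ f).flip inferInstance
    let φ₀ : Over i₀ := Over.mk (𝟙 i₀)
    have hqc' : QuasiCompact (pullback.fst (D.map φ₀.hom) g₀) :=
      MorphismProperty.pullback_fst (P := @QuasiCompact) _ _ inferInstance
    have hcpt₀ : CompactSpace (D.obj φ₀.left) := ‹CompactSpace (D.obj i₀)›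
    have hcpt' : CompactSpace ↥(pullback (D.map φ₀.hom) g₀ : Scheme.{u}) :=
      QuasiCompact.compactSpace_of_compactSpace (pullback.fst (D.map φ₀.hom) g₀)
    have hcpt : CompactSpace (F.obj φ₀) := hcpt'
    have hA : ProCons.IsProConstructible
        ((pullback.snd (D.map φ₀.hom) g₀).base ⁻¹' (closure (Set.range f₀.base))ᶜ) :=
      Groth.Agent.H24.isProConstructible_preimage _ hVpro
    have hpre : (cF.π.app φ₀).base ⁻¹'
        ((pullback.snd (D.map φ₀.hom) g₀).base ⁻¹' (closure (Set.range f₀.base))ᶜ) = ∅ := by
      have key : cF.π.app φ₀ ≫ pullback.snd (D.map φ₀.hom) g₀ =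
          hY.flip.isoPullback.inv ≫ qY := by
        rw [Groth.Agent.H24.pullbackCone_π_snd, hY.flip.isoPullback_inv_snd]
      rw [← Set.subset_empty_iff]
      intro x hx
      have e1 : (pullback.snd (D.map φ₀.hom) g₀).base ((cF.π.app φ₀).base x) =
          qY.base (hY.flip.isoPullback.inv.base x) :=
        congrArg (fun k : cF.pt ⟶ Y₀ => k.base x) key
      have hx' : (pullback.snd (D.map φ₀.hom) g₀).base ((cF.π.app φ₀).base x) ∈
          (closure (Set.range f₀.base))ᶜ := hx
      rw [e1] at hx'
      have : hY.flip.isoPullback.inv.base x ∈ qY.base ⁻¹' (closure (Set.range f₀.base))ᶜ := hx'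
      rw [h] at this
      exact this
    obtain ⟨ψ, f, hf⟩ :=
      Groth.Agent.H24.eventuallyEmpty_of_isProConstructible F cF hcF hA hpre
    refine ⟨ψ.left, ψ.hom, pullback f₀ (pullback.snd (D.map ψ.hom) g₀),
      pullback (D.map ψ.hom) g₀, pullback.snd f₀ _, pullback.fst (D.map ψ.hom) g₀,
      pullback.snd (D.map ψ.hom) g₀, pullback.fst f₀ _,
      (IsPullback.of_hasPullback (D.map ψ.hom) g₀).flip, IsPullback.of_hasPullback f₀ _, ?_⟩
    have : Flat (pullback.snd (D.map ψ.hom) g₀) :=
      MorphismProperty.pullback_snd _ _ (hfl _ _ ψ.hom)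
    rw [Groth.Agent.H24.isDominant_iff_preimage_compl_closure_eq_empty
      (IsPullback.of_hasPullback f₀ _)]
    rw [← Set.subset_empty_iff]
    intro x hx
    have e1 : (pullback.snd (D.map φ₀.hom) g₀).base ((F.map f).base x) =
        (pullback.snd (D.map ψ.hom) g₀).base x :=
      congrArg (fun k : F.obj ψ ⟶ Y₀ => k.base x)
        (Groth.Agent.H24.pullbackDiagram_map_snd D i₀ g₀ f)
    have hx' : (pullback.snd (D.map ψ.hom) g₀).base x ∈ (closure (Set.range f₀.base))ᶜ := hx
    rw [← e1] at hx'
    have : x ∈ (F.map f).base ⁻¹'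
        ((pullback.snd (D.map φ₀.hom) g₀).base ⁻¹' (closure (Set.range f₀.base))ᶜ) := hx'
    exact (Set.eq_empty_iff_forall_notMem.mp hf) x this
  · rintro ⟨j, φ, Xj, Yj, fj, gj, pY, pX, hYj, hXj, hdom⟩
    have : Flat pY := MorphismProperty.of_isPullback hYj.flip (hfl j i₀ φ)
    rw [Groth.Agent.H24.isDominant_iff_preimage_compl_closure_eq_empty hXj] at hdom
    let h : Y ⟶ Yj := hYj.lift qY (g ≫ c.π.app j) (by rw [hY.w, Category.assoc, c.w])
    have hh : h ≫ pY = qY := hYj.lift_fst _ _ _
    rw [← hh, Scheme.Hom.comp_base, TopCat.coe_comp, Set.preimage_comp, hdom, Set.preimage_empty]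

end Groth.Agent.S4800
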