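import Groth.Statements.S4806
import Groth.Agent.H21.ClImmNhd

set_option autoImplicit false
universe u
open CategoryTheory AlgebraicGeometry
open Lim8

namespace Groth.Agent.S4806

/-- Let f : X ⟶ Y be a proper morphism of finite presentation. Then f is a closed immersion if and only
if, for every point y of Y, the scheme-theoretic fibre of f at y is empty or its structure morphism
to Spec κ(y) is an isomorphism. -/
theorem result {X Y : Scheme.{u}} (f : X ⟶ Y) [IsProper f]
    [LocallyOfFinitePresentation f] :
    IsClosedImmersion f ↔ ∀ y : Y, IsEmpty (f.fiber y) ∨ IsIso (f.fiberToSpecResidueField y) := by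
  constructor
  · intro h y
    exact Groth.Agent.H21.ClImmNhd.fibre_cond_of_isClosedImmersion f y ⊤ trivial
      (IsZariskiLocalAtTarget.restrict h ⊤)
  · intro H
    apply IsZariskiLocalAtTarget.of_forall_exists_morphismRestrict (P := @IsClosedImmersion)
    intro y
    have : LocallyOfFiniteType f := inferInstance
    exact Groth.Agent.H21.ClImmNhd.exists_nhd_isClosedImmersion_of_universallyClosed f y (H y)

end Groth.Agent.S4806
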