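import Groth.Statements.S4808
import Groth.Agent.S4809

set_option autoImplicit false
universe u
open CategoryTheory AlgebraicGeometry
open Lim8

namespace Groth.Agent.S4808

/-- Let Y' and Y be integral schemes, Y normal (every local ring of Y is integrally closed), and u : Y'
⟶ Y a finite morphism which is birational: u maps the generic point of Y' to the generic point of Y
and the stalk map of u at the generic point of Y', which is the induced homomorphism of function
fields, is an isomorphism. Then u is an isomorphism. -/
theorem result {Y' Y : Scheme.{u}} [IsIntegral Y'] [IsIntegral Y]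
    (hN : ∀ y : Y, IsIntegrallyClosed (Y.presheaf.stalk y)) (u : Y' ⟶ Y) [IsFinite u]
    (hgen : u (genericPoint Y') = genericPoint Y)
    (hbir : IsIso (u.stalkMap (genericPoint Y'))) : IsIso u := by
  have h := Groth.Agent.S4809.result hN u hgen hbir
  have hoi : IsOpenImmersion u := h.2 inferInstance
  have hopen : IsOpen (Set.range u) := u.isOpenEmbedding.isOpen_range
  have hclosed : IsClosed (Set.range u) := u.isClosedMap.isClosed_range
  have hne : (Set.range u).Nonempty := ⟨_, genericPoint Y', rfl⟩
  have huniv : Set.range u = Set.univ := IsClopen.eq_univ ⟨hclosed, hopen⟩ hne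
  have hsurj : Surjective u := ⟨Set.range_eq_univ.mp huniv⟩
  exact (isIso_iff_isOpenImmersion_and_surjective u).mpr ⟨hoi, hsurj⟩

end Groth.Agent.S4808
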