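import Groth.Statements.S4816
import Groth.Agent.S4805

set_option autoImplicit false
universe u
open CategoryTheory AlgebraicGeometry
open Lim8

namespace Groth.Agent.S4816

open CategoryTheory.Limits in
/-- Let S = lim S_i be a cofiltered limit of schemes with affine transition maps and S_{i₀} a
quasi-compact stage; let ι₁ : Z₁ ⟶ S_{i₀} and ι₂ : Z₂ ⟶ S_{i₀} be two subschemes of finite
presentation of S_{i₀} (immersions which are locally of finite presentation and quasi-compact), with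
base changes Z₁ ×_{S_{i₀}} T ⟶ T to T = S and to T = S_j. Then Z₁ ×_{S_{i₀}} S is a subscheme of Z₂
×_{S_{i₀}} S (its immersion into S factors through that of Z₂ ×_{S_{i₀}} S) if and only if, for some
index j over i₀, Z₁ ×_{S_{i₀}} S_j is a subscheme of Z₂ ×_{S_{i₀}} S_j. -/
theorem result {I : Type u} [SmallCategory I] [IsCofiltered I]
    (D : I ⥤ Scheme.{u}) (c : Limits.Cone D) (hc : Limits.IsLimit c)
    [∀ (i j : I) (f : i ⟶ j), IsAffineHom (D.map f)] (i₀ : I) [CompactSpace (D.obj i₀)]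
    {Z₁ Z₂ : Scheme.{u}} (ι₁ : Z₁ ⟶ D.obj i₀) (ι₂ : Z₂ ⟶ D.obj i₀)
    [IsImmersion ι₁] [LocallyOfFinitePresentation ι₁] [QuasiCompact ι₁]
    [IsImmersion ι₂] [LocallyOfFinitePresentation ι₂] [QuasiCompact ι₂] :
    (∃ k : pullback ι₁ (c.π.app i₀) ⟶ pullback ι₂ (c.π.app i₀),
        k ≫ pullback.snd ι₂ (c.π.app i₀) = pullback.snd ι₁ (c.π.app i₀)) ↔
      ∃ (j : I) (φ : j ⟶ i₀) (k : pullback ι₁ (D.map φ) ⟶ pullback ι₂ (D.map φ)),
        k ≫ pullback.snd ι₂ (D.map φ) = pullback.snd ι₁ (D.map φ) := by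
  open Limits in
  constructor
  · rintro ⟨k, hk⟩
    -- the morphism whose base change we show is an isomorphism
    let f₀ : pullback ι₁ ι₂ ⟶ Z₁ := pullback.fst ι₁ ι₂
    have hf₀mono : Mono f₀ := inferInstance
    have hfp₀ : LocallyOfFinitePresentation f₀ := inferInstance
    have hqc₀ : QuasiCompact f₀ := inferInstance
    have h1 : LocallyOfFinitePresentation (f₀ ≫ ι₁) := inferInstance
    have h2 : QuasiCompact (f₀ ≫ ι₁) := inferInstance
    have h3 : QuasiSeparated (f₀ ≫ ι₁) := inferInstance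
    have h4 : QuasiSeparated ι₁ := inferInstance
    let qY := pullback.fst ι₁ (c.π.app i₀)
    let g := pullback.snd ι₁ (c.π.app i₀)
    have hY : IsPullback qY g ι₁ (c.π.app i₀) := IsPullback.of_hasPullback _ _
    let f := pullback.snd f₀ qY
    let qX := pullback.fst f₀ qY
    have hX : IsPullback qX f f₀ qY := IsPullback.of_hasPullback _ _
    have hmono : Mono f := inferInstance
    -- a section of `f`
    let s₁ : pullback ι₁ (c.π.app i₀) ⟶ pullback ι₁ ι₂ :=
      pullback.lift qY (k ≫ pullback.fst ι₂ (c.π.app i₀)) (by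
        have e0 : (k ≫ pullback.fst ι₂ (c.π.app i₀)) ≫ ι₂ =
            pullback.snd ι₁ (c.π.app i₀) ≫ c.π.app i₀ := by
          rw [Category.assoc, pullback.condition, ← Category.assoc, hk]
        rw [e0]
        exact pullback.condition)
    have hs₁ : s₁ ≫ f₀ = qY := pullback.lift_fst _ _ _
    let σ : pullback ι₁ (c.π.app i₀) ⟶ pullback f₀ qY :=
      pullback.lift s₁ (𝟙 _) (by rw [hs₁, Category.id_comp])
    have hσ : σ ≫ f = 𝟙 _ := pullback.lift_snd _ _ _
    have hsplit : IsSplitEpi f := ⟨⟨⟨σ, hσ⟩⟩⟩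
    have hiso : IsIso f := isIso_of_mono_of_isSplitEpi f
    obtain ⟨j, φ, Xj, Yj, fj, gj, pY, pX, hYj, hXj, hfj⟩ :=
      Groth.Agent.S4805.result D c hc i₀ f₀ ι₁ f g qY qX hY hX
    let e := (IsPullback.of_hasPullback ι₁ (D.map φ)).isoIsPullback _ _ hYj
    have he1 : e.hom ≫ pY = pullback.fst ι₁ (D.map φ) :=
      IsPullback.isoIsPullback_hom_fst _ _ _ _
    have he2 : e.hom ≫ gj = pullback.snd ι₁ (D.map φ) :=
      IsPullback.isoIsPullback_hom_snd _ _ _ _
    refine ⟨j, φ, pullback.lift (e.hom ≫ inv fj ≫ pX ≫ pullback.snd ι₁ ι₂)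
      (pullback.snd ι₁ (D.map φ)) ?_, pullback.lift_snd _ _ _⟩
    have e1 : pX ≫ pullback.snd ι₁ ι₂ ≫ ι₂ = fj ≫ gj ≫ D.map φ := by
      rw [← pullback.condition, ← Category.assoc, hXj.w, Category.assoc, hYj.w]
    simp only [Category.assoc]
    rw [e1, IsIso.inv_hom_id_assoc, ← Category.assoc, he2]
  · rintro ⟨j, φ, kj, hkj⟩
    let m : pullback ι₁ (c.π.app i₀) ⟶ pullback ι₁ (D.map φ) :=
      pullback.lift (pullback.fst _ _) (pullback.snd _ _ ≫ c.π.app j) (by
        rw [Category.assoc, c.w, pullback.condition])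
    have hm : m ≫ pullback.snd ι₁ (D.map φ) = pullback.snd _ _ ≫ c.π.app j :=
      pullback.lift_snd _ _ _
    refine ⟨pullback.lift (m ≫ kj ≫ pullback.fst ι₂ (D.map φ)) (pullback.snd _ _) ?_,
      pullback.lift_snd _ _ _⟩
    simp only [Category.assoc]
    rw [pullback.condition, ← Category.assoc kj, hkj, ← Category.assoc, hm, Category.assoc, c.w]

end Groth.Agent.S4816
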