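import Groth.Statements.S4818
import Groth.Agent.H24.LimitIff

set_option autoImplicit false
universe u
open CategoryTheory AlgebraicGeometry
open Lim8

namespace Groth.Agent.S4818

open CategoryTheory.Limits in
/-- Let S = lim S_i be a cofiltered limit of schemes with affine transition maps and S_{i₀} a
quasi-compact stage; let ι₀ : Z₀ ⟶ S_{i₀} be a subscheme of finite presentation (an immersion which
is locally of finite presentation and quasi-compact). Then the base change Z₀ ×_{S_{i₀}} S ⟶ S of ι₀
is a closed immersion if and only if, for some index j over i₀, the base change Z₀ ×_{S_{i₀}} S_j ⟶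
S_j is a closed immersion. This is the case of closed subschemes. -/
theorem result {I : Type u} [SmallCategory I] [IsCofiltered I]
    (D : I ⥤ Scheme.{u}) (c : Limits.Cone D) (hc : Limits.IsLimit c)
    [∀ (i j : I) (f : i ⟶ j), IsAffineHom (D.map f)] (i₀ : I) [CompactSpace (D.obj i₀)]
    {Z₀ : Scheme.{u}} (ι₀ : Z₀ ⟶ D.obj i₀) [IsImmersion ι₀] [LocallyOfFinitePresentation ι₀] [QuasiCompact ι₀] :
    IsClosedImmersion (pullback.snd ι₀ (c.π.app i₀)) ↔
      ∃ (j : I) (φ : j ⟶ i₀), IsClosedImmersion (pullback.snd ι₀ (D.map φ)) := by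
  open Limits in
  have haff : ∀ {i j : I} (f : i ⟶ j), IsAffineHom (D.map f) := fun f => inferInstance
  constructor
  · intro h
    have h1 : IsClosedImmersion (Groth.Agent.H24.limMap D c i₀ ι₀ (𝟙 _)) :=
      (Groth.Agent.H24.prop_limMap_id_iff D c i₀ @IsClosedImmersion ι₀).mpr h
    have hlft : LocallyOfFiniteType ι₀ := inferInstance
    have hqs : QuasiSeparated ι₀ := inferInstance
    obtain ⟨ψ, hψ⟩ := Groth.Agent.H24.exists_isClosedImmersion_stageMap_of_compact D c i₀ ι₀ (𝟙 _) hc h1
    exact ⟨ψ.left, ψ.hom, (Groth.Agent.H24.prop_stageMap_id_iff D i₀ @IsClosedImmersion ι₀ ψ).mp hψ⟩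
  · rintro ⟨j, φ, h⟩
    exact Groth.Agent.H24.prop_snd_of_stage D c i₀ @IsClosedImmersion ι₀ φ h

end Groth.Agent.S4818
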