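import Groth.Statements.S4823
import Groth.Agent.H24.FGSubAlg
import Groth.Agent.H24.HomLim.IsoLim

set_option autoImplicit false
open CategoryTheory AlgebraicGeometry
universe u
open Cons9

namespace Groth.Agent.S4823

open CategoryTheory.Limits in
/-- Let k be a field, Ω an algebraically closed extension field of k, X a scheme of finite type over k
and F, G two coherent O_X-modules (quasi-coherent of finite presentation). If the pullbacks of F and
G to X ⊗_k Ω are isomorphic, then there is a finite extension k' of k such that the pullbacks of F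
and G to X ⊗_k k' are already isomorphic (base changes are the chosen fibre products with Spec of
the extension, and the modules are pulled back along the first projection). -/
theorem result {k : Type u} [Field k] {X : Scheme.{u}}
    (p : X ⟶ Spec (CommRingCat.of k)) [LocallyOfFiniteType p] [QuasiCompact p]
    (F G : X.Modules) [Coh.IsQCoh F] [Coh.IsQCoh G] (hF : CohB1.IsFP F) (hG : CohB1.IsFP G)
    (Ω : Type u) [Field Ω] [Algebra k Ω] [IsAlgClosed Ω]
    (e : (Scheme.Modules.pullback (pullback.fst p (Spec.map (CommRingCat.ofHom (algebraMap k Ω))))).obj F ≅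
      (Scheme.Modules.pullback (pullback.fst p (Spec.map (CommRingCat.ofHom (algebraMap k Ω))))).obj G) :
    ∃ (k' : Type u) (_ : Field k') (_ : Algebra k k') (_ : Module.Finite k k'),
      Nonempty ((Scheme.Modules.pullback (pullback.fst p (Spec.map (CommRingCat.ofHom (algebraMap k k'))))).obj F ≅
        (Scheme.Modules.pullback (pullback.fst p (Spec.map (CommRingCat.ofHom (algebraMap k k'))))).obj G) := by
  classical
  let c : Limits.Cone (Groth.Agent.H24.FGSubAlg.bcDiagram Ω p) :=
    Groth.Agent.H24.FGSubAlg.bcCone Ω p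
  have hc : Limits.IsLimit c := Groth.Agent.H24.FGSubAlg.isLimitBcCone (A := Ω) p
  let i₀ : (Groth.Agent.H24.FGSubAlg.Idx k Ω)ᵒᵖ := Opposite.op ⟨⊥, Subalgebra.fg_bot⟩
  let a₀ : (Groth.Agent.H24.FGSubAlg.bcDiagram Ω p).obj i₀ ⟶ X := pullback.fst _ _
  -- the base stage is quasi-compact and quasi-separated
  haveI : IsAffineHom a₀ :=
    MorphismProperty.pullback_fst (P := @IsAffineHom) _ _ inferInstance
  haveI : CompactSpace X := by
    haveI : CompactSpace (Spec (CommRingCat.of k)) := inferInstance
    exact QuasiCompact.compactSpace_of_compactSpace p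
  haveI : CompactSpace ((Groth.Agent.H24.FGSubAlg.bcDiagram Ω p).obj i₀) :=
    QuasiCompact.compactSpace_of_compactSpace a₀
  haveI : IsLocallyNoetherian X := LocallyOfFiniteType.isLocallyNoetherian p
  haveI : QuasiSeparatedSpace X := inferInstance
  haveI : QuasiSeparatedSpace ((Groth.Agent.H24.FGSubAlg.bcDiagram Ω p).obj i₀) :=
    quasiSeparatedSpace_of_quasiSeparated a₀
  haveI : SheafOfModules.IsFinitePresentation (R := X.ringCatSheaf) F := hF
  haveI : SheafOfModules.IsFinitePresentation (R := X.ringCatSheaf) G := hG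
  haveI : SheafOfModules.IsFinitePresentation
      (R := ((Groth.Agent.H24.FGSubAlg.bcDiagram Ω p).obj i₀).ringCatSheaf)
      ((Scheme.Modules.pullback a₀).obj F) := Groth.Agent.H44.isFinitePresentation_pullback a₀ F
  haveI : SheafOfModules.IsFinitePresentation
      (R := ((Groth.Agent.H24.FGSubAlg.bcDiagram Ω p).obj i₀).ringCatSheaf)
      ((Scheme.Modules.pullback a₀).obj G) := Groth.Agent.H44.isFinitePresentation_pullback a₀ G
  -- the isomorphism on the limit, in the form needed
  have e0 : c.π.app i₀ ≫ a₀ = pullback.fst p (Spec.map (CommRingCat.ofHom (algebraMap k Ω))) :=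
    Groth.Agent.H24.FGSubAlg.bcπ_fst p i₀.unop
  have e' : (Scheme.Modules.pullback (c.π.app i₀)).obj ((Scheme.Modules.pullback a₀).obj F) ≅
      (Scheme.Modules.pullback (c.π.app i₀)).obj ((Scheme.Modules.pullback a₀).obj G) :=
    Groth.Agent.H24.HomLim.compIso (c.π.app i₀) a₀ _ e0 F ≪≫ e ≪≫
      (Groth.Agent.H24.HomLim.compIso (c.π.app i₀) a₀ _ e0 G).symm
  obtain ⟨j, φ, ⟨ι⟩⟩ := (Groth.Agent.H24.HomLim.nonempty_iso_pullback_iff
    (Groth.Agent.H24.FGSubAlg.bcDiagram Ω p) c hc i₀
    ((Scheme.Modules.pullback a₀).obj F) ((Scheme.Modules.pullback a₀).obj G)).mp ⟨e'⟩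
  -- transport to the first projection of the stage `j`
  have e1 : (Groth.Agent.H24.FGSubAlg.bcDiagram Ω p).map φ ≫ a₀ =
      pullback.fst p (Spec.map (CommRingCat.ofHom (algebraMap k j.unop.1))) :=
    Groth.Agent.H24.FGSubAlg.bcMap_fst p (leOfHom φ.unop)
  have ι' := (Groth.Agent.H24.HomLim.compIso _ a₀ _ e1 F).symm ≪≫ ι ≪≫
    Groth.Agent.H24.HomLim.compIso _ a₀ _ e1 G
  -- a residue field of the finitely generated subalgebra
  obtain ⟨⟨A', hA'⟩, rfl⟩ : ∃ j' : Groth.Agent.H24.FGSubAlg.Idx k Ω, j = Opposite.op j' :=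
    ⟨j.unop, rfl⟩
  obtain ⟨m, hm⟩ := Ideal.exists_maximal A'
  letI : Field (A' ⧸ m) := Ideal.Quotient.field m
  haveI : Algebra.FiniteType k A' := (Subalgebra.fg_iff_finiteType A').mp hA'
  haveI : Algebra.FiniteType k (A' ⧸ m) :=
    Algebra.FiniteType.of_surjective (Ideal.Quotient.mkₐ k m) (Ideal.Quotient.mkₐ_surjective k m)
  haveI : Module.Finite k (A' ⧸ m) := finite_of_finite_type_of_isJacobsonRing k (A' ⧸ m)
  refine ⟨A' ⧸ m, inferInstance, inferInstance, inferInstance, ?_⟩
  let h : pullback p (Spec.map (CommRingCat.ofHom (algebraMap k (A' ⧸ m)))) ⟶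
      pullback p (Spec.map (CommRingCat.ofHom (algebraMap k A'))) :=
    pullback.lift (pullback.fst _ _)
      (pullback.snd _ _ ≫ Spec.map (CommRingCat.ofHom (Ideal.Quotient.mk m)))
      (by
        rw [Category.assoc, ← Spec.map_comp, pullback.condition]
        rfl)
  have e2 : h ≫ pullback.fst p (Spec.map (CommRingCat.ofHom (algebraMap k A'))) =
      pullback.fst p (Spec.map (CommRingCat.ofHom (algebraMap k (A' ⧸ m)))) :=
    pullback.lift_fst _ _ _
  exact ⟨(Groth.Agent.H24.HomLim.compIso h _ _ e2 F).symm ≪≫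
    (Scheme.Modules.pullback h).mapIso ι' ≪≫ Groth.Agent.H24.HomLim.compIso h _ _ e2 G⟩

end Groth.Agent.S4823
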