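import Groth.Statements.S4827
import Groth.Agent.H99.NormFib
import Groth.Agent.H17.ProConsCompl

set_option autoImplicit false
open CategoryTheory AlgebraicGeometry
universe u
open Cons9

namespace Groth.Agent.S4827

/-- Let f : X ⟶ S be a morphism of finite presentation (locally of finite presentation, quasi-compact
and quasi-separated). Then the set of points s of S whose fibre X_s is geometrically normal over
κ(s), i.e. such that for every extension field K of κ(s) all local rings of X_s ⊗_{κ(s)} K are
integrally closed domains, is locally constructible in S. This is the case of geometric normality. -/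
theorem result {X S : Scheme.{u}} (f : X ⟶ S)
    [LocallyOfFinitePresentation f] [QuasiCompact f] [QuasiSeparated f] :
    Topology.IsLocallyConstructible {s : S |
      ∀ (K : Type u) [Field K] [Algebra (IsLocalRing.ResidueField (S.presheaf.stalk s)) K]
        (x' : ↥(FBase.bc (f.fiberToSpecResidueField s) K)),
        IsDomain ((FBase.bc (f.fiberToSpecResidueField s) K).presheaf.stalk x') ∧
          IsIntegrallyClosed ((FBase.bc (f.fiberToSpecResidueField s) K).presheaf.stalk x')} := by
  have : LocallyOfFiniteType f := inferInstance
  let N : X → Prop := fun x => Groth.Agent.H99.RkTop.PrRk 1 f x ∧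
    LocCoh.HasSk 2 ((f.fiber (f x)).presheaf.stalk (f.asFiber x))
      ((f.fiber (f x)).presheaf.stalk (f.asFiber x))
  have h : Topology.IsLocallyConstructible {x : X | N x} :=
    (Groth.Agent.H99.RkMain.isLocallyConstructible_prRk f 1).inter
      (Groth.Agent.H99.SkMain.isLocallyConstructible_fibHasSk f 2)
  have him := f.isLocallyConstructible_image (Groth.Agent.H17.isLocallyConstructible_compl h)
  have hc := Groth.Agent.H17.isLocallyConstructible_compl him
  -- transport of the pointwise characterization along an equality of base points
  have aux : ∀ (x : X) (s : S) (hs : f.base x = s) (K : Type u) [Field K]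
      [Algebra (IsLocalRing.ResidueField (S.presheaf.stalk s)) K]
      (x' : ↥(FBase.bc (f.fiberToSpecResidueField s) K)),
      (f.fiberι s).base ((FBase.bcπ (f.fiberToSpecResidueField s) K).base x') = x →
      N x →
        (IsDomain ((FBase.bc (f.fiberToSpecResidueField s) K).presheaf.stalk x') ∧
          IsIntegrallyClosed ((FBase.bc (f.fiberToSpecResidueField s) K).presheaf.stalk x')) := by
    intro x s hs
    subst hs
    intro K _ _ x' hx' hP
    refine (Groth.Agent.H99.NormFib.geomNormal_iff f x).mpr hP K x' ?_
    apply (f.fiberι (f.base x)).isEmbedding.injective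
    rw [hx']
    exact (f.fiberι_asFiber x).symm
  have hE : {s : S |
      ∀ (K : Type u) [Field K] [Algebra (IsLocalRing.ResidueField (S.presheaf.stalk s)) K]
        (x' : ↥(FBase.bc (f.fiberToSpecResidueField s) K)),
        IsDomain ((FBase.bc (f.fiberToSpecResidueField s) K).presheaf.stalk x') ∧
          IsIntegrallyClosed ((FBase.bc (f.fiberToSpecResidueField s) K).presheaf.stalk x')} =
      (f.base '' {x : X | N x}ᶜ)ᶜ := by
    ext s
    simp only [Set.mem_ofPred_eq, Set.mem_compl_iff, Set.mem_image, not_exists, not_and]
    constructor
    · intro hs x hx hfx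
      subst hfx
      exact hx ((Groth.Agent.H99.NormFib.geomNormal_iff f x).mp fun K _ _ x' _ => hs K x')
    · intro hs K _ _ x'
      have hmap : f.base ((f.fiberι s).base ((FBase.bcπ (f.fiberToSpecResidueField s) K).base x')) = s :=
        Groth.Agent.H48.CycFib.map_fiberι f s _
      have hP : N ((f.fiberι s).base ((FBase.bcπ (f.fiberToSpecResidueField s) K).base x')) := by
        by_contra hn
        exact hs _ hn hmap
      exact aux _ s hmap K x' rfl hP
  rw [hE]
  exact hc

end Groth.Agent.S4827
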