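import Groth.Statements.S4828
import Groth.Agent.H99.RkMain
import Groth.Agent.H17.ProConsCompl

set_option autoImplicit false
open CategoryTheory AlgebraicGeometry
universe u
open Cons9

namespace Groth.Agent.S4828

/-- Let f : X ⟶ S be a morphism of finite presentation (locally of finite presentation, quasi-compact
and quasi-separated) and k a natural number. Then the set of points s of S whose fibre X_s has the
geometric property (R_k), i.e. such that for every extension field K of κ(s) all local rings of X_s
⊗_{κ(s)} K satisfy Serre's condition (R_k), is locally constructible in S. -/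
theorem result {X S : Scheme.{u}} (f : X ⟶ S)
    [LocallyOfFinitePresentation f] [QuasiCompact f] [QuasiSeparated f] (k : ℕ) :
    Topology.IsLocallyConstructible {s : S |
      ∀ (K : Type u) [Field K] [Algebra (IsLocalRing.ResidueField (S.presheaf.stalk s)) K]
        (x' : ↥(FBase.bc (f.fiberToSpecResidueField s) K)),
        LocCoh.HasRk k ((FBase.bc (f.fiberToSpecResidueField s) K).presheaf.stalk x')} := by
  haveI : LocallyOfFiniteType f := inferInstance
  have h := Groth.Agent.H99.RkMain.isLocallyConstructible_prRk f k
  have him := f.isLocallyConstructible_image (Groth.Agent.H17.isLocallyConstructible_compl h)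
  have hc := Groth.Agent.H17.isLocallyConstructible_compl him
  -- transport of the pointwise characterization along an equality of base points
  have aux : ∀ (x : X) (s : S) (hs : f.base x = s) (K : Type u) [Field K]
      [Algebra (IsLocalRing.ResidueField (S.presheaf.stalk s)) K]
      (x' : ↥(FBase.bc (f.fiberToSpecResidueField s) K)),
      (f.fiberι s).base ((FBase.bcπ (f.fiberToSpecResidueField s) K).base x') = x →
      Groth.Agent.H99.RkTop.PrRk k f x →
        LocCoh.HasRk k ((FBase.bc (f.fiberToSpecResidueField s) K).presheaf.stalk x') := by
    intro x s hs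
    subst hs
    intro K _ _ x' hx' hP
    refine (Groth.Agent.H99.RkMain.geomRk_iff f k x).mpr hP K x' ?_
    apply (f.fiberι (f.base x)).isEmbedding.injective
    rw [hx']
    exact (f.fiberι_asFiber x).symm
  have hE : {s : S |
      ∀ (K : Type u) [Field K] [Algebra (IsLocalRing.ResidueField (S.presheaf.stalk s)) K]
        (x' : ↥(FBase.bc (f.fiberToSpecResidueField s) K)),
        LocCoh.HasRk k ((FBase.bc (f.fiberToSpecResidueField s) K).presheaf.stalk x')} =
      (f.base '' {x : X | Groth.Agent.H99.RkTop.PrRk k f x}ᶜ)ᶜ := by
    ext s
    simp only [Set.mem_ofPred_eq, Set.mem_compl_iff, Set.mem_image, not_exists, not_and, not_not]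
    constructor
    · intro hs x hx hfx
      subst hfx
      exact hx ((Groth.Agent.H99.RkMain.geomRk_iff f k x).mp fun K _ _ x' _ => hs K x')
    · intro hs K _ _ x'
      have hmap : f.base ((f.fiberι s).base ((FBase.bcπ (f.fiberToSpecResidueField s) K).base x')) = s :=
        Groth.Agent.H48.CycFib.map_fiberι f s _
      have hP : Groth.Agent.H99.RkTop.PrRk k f
          ((f.fiberι s).base ((FBase.bcπ (f.fiberToSpecResidueField s) K).base x')) := by
        by_contra hn
        exact hs _ hn hmap
      exact aux _ s hmap K x' rfl hP
  rw [hE]
  exact hc

end Groth.Agent.S4828
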