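import Groth.Statements.S4833
-- import your own Groth.Agent.* helpers here
import Groth.Agent.H70.RelFlatBC.Pointwise
import Groth.Agent.H70.FlatLocusGeo.Main
import Groth.Agent.H70.RegLocus.Noeth
import Groth.Agent.S4698
import Groth.Agent.H12.Constr

set_option autoImplicit false
open CategoryTheory AlgebraicGeometry
universe u
open Cons9

namespace Groth.Agent.S4833

open CategoryTheory.Limits in
/-- Let S be an integral Noetherian scheme with generic point η, let g : X ⟶ Y be an S-morphism between
schemes of finite type over S (structure morphisms h : Y ⟶ S and g ≫ h), and let F be a coherent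
O_X-module. For s in S write g_s : X_s ⟶ Y_s for the morphism induced on the fibres over s and F_s
for the pullback of F to X_s. If F_η is not flat relative to g_η (not flat over O_{Y_η, g_η(x)} at
some point x of X_η), then there is an open neighbourhood U of η such that for every s in U the
module F_s is not flat relative to g_s. -/
theorem result {X Y S : Scheme.{u}} [IsIntegral S] [IsNoetherian S]
    (g : X ⟶ Y) (h : Y ⟶ S) [LocallyOfFiniteType h] [QuasiCompact h]
    [LocallyOfFiniteType (g ≫ h)] [QuasiCompact (g ≫ h)]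
    (F : X.Modules) [Coh.IsQCoh F] (hF : CohB1.IsFP F)
    (hη : ¬ FlatMod.IsFlatOver
      (pullback.lift (pullback.fst (g ≫ h) (S.fromSpecResidueField (genericPoint S)) ≫ g)
          (pullback.snd (g ≫ h) (S.fromSpecResidueField (genericPoint S)))
          ((Category.assoc _ _ _).trans pullback.condition) :
        pullback (g ≫ h) (S.fromSpecResidueField (genericPoint S)) ⟶ pullback h (S.fromSpecResidueField (genericPoint S)))
      ((Scheme.Modules.pullback (pullback.fst (g ≫ h) (S.fromSpecResidueField (genericPoint S)))).obj F)) :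
    ∃ U : S.Opens, genericPoint S ∈ U ∧ ∀ s ∈ U, ¬ FlatMod.IsFlatOver
      (pullback.lift (pullback.fst (g ≫ h) (S.fromSpecResidueField s) ≫ g) (pullback.snd (g ≫ h) (S.fromSpecResidueField s))
          ((Category.assoc _ _ _).trans pullback.condition) :
        pullback (g ≫ h) (S.fromSpecResidueField s) ⟶ pullback h (S.fromSpecResidueField s))
      ((Scheme.Modules.pullback (pullback.fst (g ≫ h) (S.fromSpecResidueField s))).obj F) := by
  haveI : F.IsQuasicoherent := ‹Coh.IsQCoh F›
  haveI : SheafOfModules.IsFinitePresentation (R := X.ringCatSheaf) F := hF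
  haveI : SheafOfModules.IsFiniteType (R := X.ringCatSheaf) F := inferInstance
  haveI : IsLocallyNoetherian Y := LocallyOfFiniteType.isLocallyNoetherian h
  haveI : IsLocallyNoetherian X := LocallyOfFiniteType.isLocallyNoetherian (g ≫ h)
  haveI : LocallyOfFiniteType g := locallyOfFiniteType_of_comp g h
  haveI : LocallyOfFinitePresentation g :=
    Groth.Agent.H70.RegLocus.locallyOfFinitePresentation_of_isLocallyNoetherian g
  haveI : LocallyOfFinitePresentation (g ≫ h) :=
    Groth.Agent.H70.RegLocus.locallyOfFinitePresentation_of_isLocallyNoetherian (g ≫ h)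
  haveI : CompactSpace X := QuasiCompact.compactSpace_of_compactSpace (g ≫ h)
  haveI : IsNoetherian X := {}
  -- a point of the generic fibre where flatness fails
  have hη' : ¬ FlatMod.IsFlatOver (MoreMor.fiberMap g h (genericPoint S))
      ((Scheme.Modules.pullback ((g ≫ h).fiberι (genericPoint S))).obj F) := hη
  obtain ⟨x', hx'⟩ : ∃ x', ¬ FlatMod.IsFlatOverAt (MoreMor.fiberMap g h (genericPoint S))
      ((Scheme.Modules.pullback ((g ≫ h).fiberι (genericPoint S))).obj F) x' := by
    by_contra hc
    push_neg at hc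
    exact hη' hc
  -- the non-flat locus
  have hNclosed : IsClosed {x : X | ¬ FlatMod.IsFlatOverAt g F x} :=
    (Groth.Agent.H70.FlatLocusGeo.isOpen_setOf_isFlatOverAt g F).isClosed_compl
  have hxN : (g ≫ h).fiberι (genericPoint S) x' ∈ {x : X | ¬ FlatMod.IsFlatOverAt g F x} :=
    fun hfl => hx' (Groth.Agent.H71.QCoh.isFlatOverAt_baseChange
      (Groth.Agent.H70.RelFlatBC.isPullback_fiberMap g h (genericPoint S)) F x' hfl)
  have hxη : (g ≫ h) ((g ≫ h).fiberι (genericPoint S) x') = genericPoint S :=
    ((g ≫ h).range_fiberι (genericPoint S)).le ⟨x', rfl⟩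
  -- generic flatness
  obtain ⟨U, hUne, hU⟩ := Groth.Agent.S4698.result (g ≫ h) F ⟨inferInstance, inferInstance⟩
  have hηU : genericPoint S ∈ U :=
    ((genericPoint_spec S).mem_open_set_iff U.isOpen).mpr (by simpa using hUne)
  -- Chevalley
  have hcons : Topology.IsConstructible ((g ≫ h) '' {x : X | ¬ FlatMod.IsFlatOverAt g F x}) :=
    (g ≫ h).isConstructible_image (Groth.Agent.H12.isConstructible_of_isClosed hNclosed)
  have hηC : genericPoint S ∈ (g ≫ h) '' {x : X | ¬ FlatMod.IsFlatOverAt g F x} :=
    ⟨_, hxN, hxη⟩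
  have hdense : Dense ((g ≫ h) '' {x : X | ¬ FlatMod.IsFlatOverAt g F x}) := by
    have h1 : Dense ({genericPoint S} : Set S) := by
      rw [dense_iff_closure_eq]
      exact (genericPoint_spec S).def
    exact h1.mono (Set.singleton_subset_iff.mpr hηC)
  obtain ⟨U', hU'open, hU'ne, hU'sub⟩ :=
    Groth.Agent.H12.exists_open_subset_of_dense_constructible hcons hdense
  have hηU' : genericPoint S ∈ U' :=
    ((genericPoint_spec S).mem_open_set_iff hU'open).mpr (by simpa using hU'ne)
  refine ⟨U ⊓ ⟨U', hU'open⟩, ⟨hηU, hηU'⟩, fun s hs hfl_s => ?_⟩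
  obtain ⟨x, hxN', hxs⟩ := hU'sub hs.2
  obtain ⟨x₀, rfl⟩ : x ∈ Set.range ((g ≫ h).fiberι s) := by
    rw [(g ≫ h).range_fiberι s]; exact hxs
  apply hxN'
  have hfl_s' : FlatMod.IsFlatOver (MoreMor.fiberMap g h s)
      ((Scheme.Modules.pullback ((g ≫ h).fiberι s)).obj F) := hfl_s
  have hX : IsPullback ((g ≫ h).fiberι s)
      (MoreMor.fiberMap g h s ≫ h.fiberToSpecResidueField s) (g ≫ h)
      (S.fromSpecResidueField s) := by
    rw [Groth.Agent.H1.FibreCrit.fiberMap_fiberToSpecResidueField]
    exact IsPullback.of_hasPullback (g ≫ h) (S.fromSpecResidueField s)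
  exact Groth.Agent.H70.RelFlatBC.isFlatOverAt_of_isFlatOverAt_baseChange_pt g h
    (S.fromSpecResidueField s) (h.fiberι s) (h.fiberToSpecResidueField s) ((g ≫ h).fiberι s)
    (MoreMor.fiberMap g h s) F (IsPullback.of_hasPullback h (S.fromSpecResidueField s)) hX
    (Groth.Agent.H1.FibreCrit.fiberMap_fiberι g h s).symm x₀
    (hU _ (by rw [hxs]; exact hs.1)) (hfl_s' x₀)

end Groth.Agent.S4833
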