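import Groth.Statements.S4834
import Mathlib
-- import your own Groth.Agent.* helpers here

set_option autoImplicit false
open CategoryTheory CategoryTheory.Limits
universe u
open Lim8

namespace Groth.Agent.S4834

/-- Let A be a commutative ring, M an A-module of finite type and (N_λ) an inductive system of A-modules
indexed by a nonempty directed preordered set. Then the canonical map colim_λ Hom_A(M, N_λ) →
Hom_A(M, colim_λ N_λ), sending a compatible system of homomorphisms to its inductive limit, is
injective. This is the finite type case, in the form its proof gives. -/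
theorem result {A : Type u} [CommRing A] (M : ModuleCat.{u} A)
    [Module.Finite A M] {J : Type u} [Preorder J] [IsDirected J (· ≤ ·)] [Nonempty J]
    (N : J ⥤ ModuleCat.{u} A) :
    Function.Injective (colimit.post N (coyoneda.obj (Opposite.op M))) := by
  classical
  intro x y hxy
  obtain ⟨i, (φ : M ⟶ N.obj i), rfl⟩ := Types.jointly_surjective' x
  obtain ⟨j, (ψ : M ⟶ N.obj j), rfl⟩ := Types.jointly_surjective' y
  have h1 : ∀ (i : J) (φ : M ⟶ N.obj i),
      colimit.post N (coyoneda.obj (Opposite.op M))
        (colimit.ι (N ⋙ coyoneda.obj (Opposite.op M)) i φ) = φ ≫ colimit.ι N i := by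
    intro i φ
    have := ConcreteCategory.congr_hom (colimit.ι_post N (coyoneda.obj (Opposite.op M)) i) φ
    exact this
  rw [h1, h1] at hxy
  rw [Types.FilteredColimit.colimit_eq_iff]
  obtain ⟨S, hS⟩ := (Module.Finite.fg_top : (⊤ : Submodule A M).FG)
  have key : ∀ m : M, ∃ k : J, ∃ (f : i ⟶ k) (g : j ⟶ k),
      N.map f (φ m) = N.map g (ψ m) := by
    intro m
    have hm : colimit.ι N i (φ m) = colimit.ι N j (ψ m) := by
      have := congr_arg (fun F => F.hom m) hxy
      simpa using this
    exact Concrete.colimit_exists_of_rep_eq N _ _ hm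
  choose k f g hk using key
  obtain ⟨K, hK⟩ := Finset.exists_le (S.image k)
  obtain ⟨K', hiK, hKK'⟩ := exists_ge_ge i K
  obtain ⟨K'', hjK, hKK''⟩ := exists_ge_ge j K'
  have hik : ∀ m ∈ S, k m ≤ K'' := fun m hm =>
    ((hK _ (Finset.mem_image_of_mem _ hm)).trans hKK').trans hKK''
  refine ⟨K'', homOfLE (hiK.trans hKK''), homOfLE hjK, ?_⟩
  change φ ≫ N.map _ = ψ ≫ N.map _
  ext1
  apply LinearMap.ext_on hS
  intro m hm
  have e1 : homOfLE (hiK.trans hKK'') = f m ≫ homOfLE (hik m hm) := Subsingleton.elim _ _
  have e2 : homOfLE hjK = g m ≫ homOfLE (hik m hm) := Subsingleton.elim _ _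
  rw [e1, e2]
  simp only [Functor.map_comp, ModuleCat.hom_comp, LinearMap.coe_comp, Function.comp_apply]
  exact congr_arg _ (hk m)

end Groth.Agent.S4834
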