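import Groth.Statements.S4835
import Groth.Agent.S4834
import Mathlib
-- import your own Groth.Agent.* helpers here

set_option autoImplicit false
open CategoryTheory CategoryTheory.Limits
universe u
open Lim8

namespace Groth.Agent.S4835

/-- Let A be a commutative ring, M an A-module of finite presentation and (N_λ) an inductive system of
A-modules indexed by a nonempty directed preordered set. Then the canonical map colim_λ Hom_A(M,
N_λ) → Hom_A(M, colim_λ N_λ), sending a compatible system of homomorphisms to its inductive limit,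
is bijective. This is the form established in the source's proof (finite presentation case). -/
theorem result {A : Type u} [CommRing A] (M : ModuleCat.{u} A)
    [Module.FinitePresentation A M] {J : Type u} [Preorder J] [IsDirected J (· ≤ ·)] [Nonempty J]
    (N : J ⥤ ModuleCat.{u} A) :
    Function.Bijective (colimit.post N (coyoneda.obj (Opposite.op M))) := by
  classical
  refine ⟨Groth.Agent.S4834.result M N, ?_⟩
  intro (ψ : M ⟶ colimit N)
  have h1 : ∀ (i : J) (φ : M ⟶ N.obj i),
      colimit.post N (coyoneda.obj (Opposite.op M))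
        (colimit.ι (N ⋙ coyoneda.obj (Opposite.op M)) i φ) = φ ≫ colimit.ι N i := by
    intro i φ
    have := ConcreteCategory.congr_hom (colimit.ι_post N (coyoneda.obj (Opposite.op M)) i) φ
    exact this
  suffices h : ∃ (k : J) (φ : M ⟶ N.obj k), φ ≫ colimit.ι N k = ψ by
    obtain ⟨k, φ, hφ⟩ := h
    exact ⟨colimit.ι (N ⋙ coyoneda.obj (Opposite.op M)) k φ, (h1 k φ).trans hφ⟩
  obtain ⟨n, K, e, hK⟩ := Module.FinitePresentation.exists_fin A M
  obtain ⟨s, hs⟩ := hK
  -- the projection `p : (Fin n → A) → M`
  let p : (Fin n → A) →ₗ[A] M := e.symm.toLinearMap ∘ₗ K.mkQ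
  have hp : Function.Surjective p := e.symm.surjective.comp K.mkQ_surjective
  have hpK : ∀ x ∈ K, p x = 0 := by
    intro x hx
    simp [p, (Submodule.Quotient.mk_eq_zero K).mpr hx]
  -- lift the images of the basis vectors
  have hrep : ∀ a : Fin n, ∃ (j : J) (y : N.obj j),
      colimit.ι N j y = ψ (p (Pi.single a 1)) := fun a =>
    Concrete.colimit_exists_rep N _
  choose j y hy using hrep
  obtain ⟨i, hi⟩ := Finset.exists_le (Finset.univ.image j)
  have hji : ∀ a, j a ≤ i := fun a => hi _ (Finset.mem_image_of_mem _ (Finset.mem_univ a))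
  let g : (Fin n → A) →ₗ[A] N.obj i :=
    (Pi.basisFun A (Fin n)).constr A fun a => N.map (homOfLE (hji a)) (y a)
  have hg : ∀ x, colimit.ι N i (g x) = ψ (p x) := by
    intro x
    have : (colimit.ι N i).hom ∘ₗ g = ψ.hom ∘ₗ p := by
      apply (Pi.basisFun A (Fin n)).ext
      intro a
      simp only [LinearMap.coe_comp, Function.comp_apply, g]
      rw [Module.Basis.constr_basis, Pi.basisFun_apply, ← hy a]
      have := colimit.w N (homOfLE (hji a))
      exact congr_arg (fun F => F.hom (y a)) this
    exact congr_arg (fun F => F x) this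
  -- kill the relations at a later stage
  have hrel : ∀ r : (Fin n → A), r ∈ K → ∃ (k : J) (f : i ⟶ k), N.map f (g r) = 0 := by
    intro r hr
    have h0 : colimit.ι N i (g r) = colimit.ι N i (0 : N.obj i) := by
      rw [hg, hpK r hr, map_zero, map_zero]
    obtain ⟨k, f, f', hk⟩ := Concrete.colimit_exists_of_rep_eq N _ _ h0
    exact ⟨k, f, by rw [hk, map_zero]⟩
  choose k f hk using hrel
  have hsK : ∀ r ∈ s, r ∈ K := fun r hr => by rw [← hs]; exact Submodule.subset_span hr
  obtain ⟨l, hl⟩ := Finset.exists_le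
    (s.attach.image fun r : {x // x ∈ s} => k r.1 (hsK r.1 r.2))
  obtain ⟨l', hil, hll'⟩ := exists_ge_ge i l
  have hkl : ∀ (r) (hr : r ∈ s), k r (hsK r hr) ≤ l' := fun r hr =>
    (hl _ (Finset.mem_image.mpr ⟨⟨r, hr⟩, Finset.mem_attach _ _, rfl⟩)).trans hll'
  let g' : (Fin n → A) →ₗ[A] N.obj l' := (N.map (homOfLE hil)).hom ∘ₗ g
  have hg'K : K ≤ LinearMap.ker g' := by
    rw [← hs, Submodule.span_le]
    intro r hr
    have hrK : r ∈ K := hsK r hr
    have e1 : homOfLE hil = f r hrK ≫ homOfLE (hkl r hr) := Subsingleton.elim _ _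
    simp only [SetLike.mem_coe, LinearMap.mem_ker, g', LinearMap.coe_comp, Function.comp_apply]
    rw [e1]
    simp only [Functor.map_comp, ModuleCat.hom_comp, LinearMap.coe_comp, Function.comp_apply]
    have := hk r hrK
    rw [show (N.map (f r hrK)).hom (g r) = 0 from this, map_zero]
  let φ : M →ₗ[A] N.obj l' := (K.liftQ g' hg'K) ∘ₗ e.toLinearMap
  refine ⟨l', ModuleCat.ofHom φ, ?_⟩
  ext1
  apply LinearMap.ext
  intro m
  obtain ⟨x, rfl⟩ := hp m
  have hφ : φ (p x) = g' x := by
    simp [φ, p]
  simp only [ModuleCat.hom_comp, ModuleCat.hom_ofHom, LinearMap.coe_comp, Function.comp_apply]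
  rw [hφ, ← hg x]
  have := colimit.w N (homOfLE hil)
  exact congr_arg (fun F => F.hom (g x)) this

end Groth.Agent.S4835
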