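import Groth.Statements.S4837
import Groth.Agent.H18.RelSpecGamma

set_option autoImplicit false
open CategoryTheory AlgebraicGeometry
universe u
open Lim8

namespace Groth.Agent.S4837

/-- a section vanishing on every affine open inside `W` vanishes -/
theorem eq_zero_of_forall_affine {Z : Scheme.{u}} (W : Z.Opens) (s : Γ(Z, W))
    (h : ∀ (V : Z.Opens), IsAffineOpen V → ∀ hVW : V ≤ W, Z.presheaf.map (homOfLE hVW).op s = 0) :
    s = 0 := by
  fapply TopCat.Sheaf.eq_of_locally_eq' Z.sheaf
    (fun V : {V : Z.affineOpens // V.1 ≤ W} => V.1.1) W (fun V => homOfLE V.2)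
  · intro x hx
    obtain ⟨_, ⟨V, hV : IsAffineOpen V, rfl⟩, hxV, hVU⟩ :=
      Z.isBasis_affineOpens.exists_subset_of_mem_open hx W.2
    exact TopologicalSpace.Opens.mem_iSup.mpr ⟨⟨⟨V, hV⟩, hVU⟩, hxV⟩
  · intro V
    refine (h V.1.1 V.1.2 V.2).trans ?_
    exact (map_zero _).symm

/-- Let f : X ⟶ Y be a quasi-compact quasi-separated morphism, C a quasi-coherent O_Y-algebra with
relative spectrum Z = Spec(C) over Y, g : X ⟶ Z a Y-morphism which is an immersion, and φ : C ⟶
f_*O_X the homomorphism of O_Y-algebras corresponding to g (the canonical identification of C with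
the direct image of O_Z followed by the map induced by g). Then the scheme-theoretic image of g is
the whole of Z, i.e. the kernel ideal of g vanishes, if and only if φ is injective; and when this
holds g is an open immersion. -/
theorem result {X Y : Scheme.{u}} (f : X ⟶ Y)
    [QuasiCompact f] [QuasiSeparated f] (C : RelSpec.QCAlg Y) (g : X ⟶ C.spec) (w : g ≫ C.π = f)
    [IsImmersion g] (φ : C ⟶ RelSpec.QCAlg.directImage f)
    (hφ : C.gammaMap ≫ φ.hom = AffAlg.algHom C.π f g w) :
    (g.ker = ⊥ ↔ ∀ U : Y.Opens, Function.Injective (φ.hom.app (Opposite.op U)).hom) ∧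
      (g.ker = ⊥ → IsOpenImmersion g) := by
  subst w
  haveI : QuasiCompact g := QuasiCompact.of_comp g C.π
  haveI := Groth.Agent.H18.isIso_gammaMap C
  have hkey : ∀ U : Y.Opens, Function.Injective (φ.hom.app (Opposite.op U)).hom ↔
      Function.Injective (g.app (C.π ⁻¹ᵁ U)).hom := by
    intro U
    have h1 : ∀ a, (φ.hom.app (Opposite.op U)).hom ((C.gammaMap.app (Opposite.op U)).hom a) =
        (g.app (C.π ⁻¹ᵁ U)).hom a := by
      intro a
      exact congrArg (fun η => (η.app (Opposite.op U)).hom a) hφ
    haveI : IsIso (C.gammaMap.app (Opposite.op U)) := inferInstance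
    have hbij : Function.Bijective (C.gammaMap.app (Opposite.op U)).hom :=
      ConcreteCategory.bijective_of_isIso (C.gammaMap.app (Opposite.op U))
    constructor
    · intro h a b hab
      rw [← h1, ← h1] at hab
      exact hbij.1 (h hab)
    · intro h a b hab
      obtain ⟨a', rfl⟩ := hbij.2 a
      obtain ⟨b', rfl⟩ := hbij.2 b
      rw [h1, h1] at hab
      rw [h hab]
  have haff : g.ker = ⊥ → ∀ V : C.spec.affineOpens, Function.Injective (g.app V.1).hom := by
    intro hk V
    have h1 := Scheme.Hom.ker_apply g V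
    rw [hk] at h1
    exact (RingHom.injective_iff_ker_eq_bot _).mpr h1.symm
  refine ⟨⟨fun hk U => ?_, fun h => ?_⟩, fun hk => ?_⟩
  · rw [hkey]
    rw [injective_iff_map_eq_zero]
    intro s hs
    apply eq_zero_of_forall_affine
    intro V hV hVW
    apply haff hk ⟨V, hV⟩
    rw [map_zero]
    have h3 := ConcreteCategory.congr_hom (g.naturality (homOfLE hVW).op) s
    refine h3.trans ?_
    rw [ConcreteCategory.comp_apply]
    erw [hs]
    exact map_zero _
  · refine Scheme.IdealSheafData.ext_of_iSup_eq_top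
      (fun U : Y.affineOpens => (⟨C.π ⁻¹ᵁ U.1, U.2.preimage C.π⟩ : C.spec.affineOpens)) ?_ fun U => ?_
    · rw [eq_top_iff]
      intro x _
      obtain ⟨_, ⟨U, hU : IsAffineOpen U, rfl⟩, hxU, -⟩ :=
        Y.isBasis_affineOpens.exists_subset_of_mem_open (Set.mem_univ (C.π.base x)) isOpen_univ
      exact TopologicalSpace.Opens.mem_iSup.mpr ⟨⟨U, hU⟩, hxU⟩
    · rw [Scheme.Hom.ker_apply]
      exact (RingHom.injective_iff_ker_eq_bot _).mp ((hkey U.1).mp (h U.1))
  · have : IsIso g.imageι := by
      delta Scheme.Hom.imageι Scheme.Hom.image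
      rw [hk]
      infer_instance
    rw [← g.toImage_imageι]
    infer_instance

end Groth.Agent.S4837
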