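import Groth.Statements.S4839
import Groth.Agent.H24.FGSubAlg
import Groth.Agent.H24.BCAlg
import Groth.Agent.S4805

set_option autoImplicit false
open CategoryTheory AlgebraicGeometry
universe u
open Cons9

namespace Groth.Agent.S4839

open CategoryTheory.Limits in
/-- Let k be a field and X, Y two schemes of finite type over k. If for some field extension K of k
there is a K-isomorphism X ⊗_k K ≅ Y ⊗_k K (X and Y are geometrically isomorphic), then there are a
finite extension k' of k and a k'-isomorphism X ⊗_k k' ≅ Y ⊗_k k'. This is the case of the property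
of being an isomorphism (base changes are the chosen fibre products with Spec of the extension). -/
theorem result {k : Type u} [Field k] {X Y : Scheme.{u}}
    (p : X ⟶ Spec (CommRingCat.of k)) (q : Y ⟶ Spec (CommRingCat.of k))
    [LocallyOfFiniteType p] [QuasiCompact p] [LocallyOfFiniteType q] [QuasiCompact q]
    (K : Type u) [Field K] [Algebra k K]
    (e : pullback p (Spec.map (CommRingCat.ofHom (algebraMap k K))) ≅ pullback q (Spec.map (CommRingCat.ofHom (algebraMap k K))))
    (he : e.hom ≫ pullback.snd q (Spec.map (CommRingCat.ofHom (algebraMap k K))) = pullback.snd p (Spec.map (CommRingCat.ofHom (algebraMap k K)))) :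
    ∃ (k' : Type u) (_ : Field k') (_ : Algebra k k') (_ : Module.Finite k k')
      (e' : pullback p (Spec.map (CommRingCat.ofHom (algebraMap k k'))) ≅ pullback q (Spec.map (CommRingCat.ofHom (algebraMap k k')))),
      e'.hom ≫ pullback.snd q (Spec.map (CommRingCat.ofHom (algebraMap k k'))) = pullback.snd p (Spec.map (CommRingCat.ofHom (algebraMap k k'))) := by
  classical
  haveI : IsLocallyNoetherian X := LocallyOfFiniteType.isLocallyNoetherian p
  haveI : IsLocallyNoetherian Y := LocallyOfFiniteType.isLocallyNoetherian q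
  have hfgi : ∀ i : H24.FGSubAlg.Idx k K, Algebra.FiniteType k i.1 := fun i =>
    (Subalgebra.fg_iff_finiteType i.1).mp i.2
  have hnoe : ∀ i : H24.FGSubAlg.Idx k K, IsNoetherianRing i.1 := fun i =>
    Algebra.FiniteType.isNoetherianRing k i.1
  let D := H24.FGSubAlg.bcDiagram K p
  haveI : ∀ i, CompactSpace (D.obj i) := fun i => by
    change CompactSpace ↥(pullback p (Spec.map (CommRingCat.ofHom (algebraMap k i.unop.1))))
    infer_instance
  haveI : ∀ i, IsLocallyNoetherian (D.obj i) := fun i => by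
    haveI : IsNoetherianRing (CommRingCat.of i.unop.1) := hnoe i.unop
    change IsLocallyNoetherian (pullback p (Spec.map (CommRingCat.ofHom (algebraMap k i.unop.1))))
    exact LocallyOfFiniteType.isLocallyNoetherian (pullback.snd p
      (Spec.map (CommRingCat.ofHom (algebraMap k i.unop.1))))
  haveI : ∀ i, QuasiSeparatedSpace (D.obj i) := fun i => inferInstance
  let t : D ⟶ (Functor.const _).obj (Spec (CommRingCat.of k)) :=
    { app := fun i => pullback.fst _ _ ≫ p
      naturality := fun i j g => by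
        change H24.FGSubAlg.bcMap p _ ≫ pullback.fst _ _ ≫ p = (pullback.fst _ _ ≫ p) ≫ 𝟙 _
        rw [H24.FGSubAlg.bcMap_fst_assoc, Category.comp_id] }
  obtain ⟨i, g, hg1, hg2⟩ := Scheme.exists_π_app_comp_eq_of_locallyOfFinitePresentation D t q
    (H24.FGSubAlg.bcCone K p) (H24.FGSubAlg.isLimitBcCone p) (e.hom ≫ pullback.fst q _) (by
      ext i : 2
      change H24.FGSubAlg.bcπ p i.unop ≫ pullback.fst _ _ ≫ p = (e.hom ≫ pullback.fst q _) ≫ q
      rw [H24.FGSubAlg.bcπ_fst_assoc, Category.assoc, pullback.condition (f := q), ← Category.assoc, he,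
        pullback.condition])
  let φi : CommRingCat.of k ⟶ CommRingCat.of i.unop.1 :=
    CommRingCat.ofHom (algebraMap k i.unop.1)
  let φK : CommRingCat.of k ⟶ CommRingCat.of K := CommRingCat.ofHom (algebraMap k K)
  let g' : pullback p (Spec.map φi) ⟶ Y := g
  have hg2' : g' ≫ q = pullback.fst p (Spec.map φi) ≫ p := hg2
  have hg1' : H24.FGSubAlg.bcπ p i.unop ≫ g' = e.hom ≫ pullback.fst q _ := hg1
  let hi : pullback p (Spec.map φi) ⟶ pullback q (Spec.map φi) :=
    pullback.lift g' (pullback.snd _ _) (by rw [hg2', pullback.condition])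
  have hhi : hi ≫ pullback.snd _ _ = pullback.snd _ _ := pullback.lift_snd _ _ _
  have hhi1 : hi ≫ pullback.fst _ _ = g' := pullback.lift_fst _ _ _
  have hval : φi ≫ H24.FGSubAlg.val i.unop = φK := H24.FGSubAlg.str_val i.unop
  have he_eq : e.hom = H24.BCAlg.bcHom p q φi φK (H24.FGSubAlg.val i.unop) hval hi hhi := by
    refine H24.BCAlg.eq_bcHom p q φi φK (H24.FGSubAlg.val i.unop) hval hi hhi e.hom he ?_
    rw [hhi1]
    exact hg1'.symm
  have hX : IsPullback (H24.BCAlg.trans p φi φK _ hval) e.hom hi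
      (H24.BCAlg.trans q φi φK _ hval) := by
    rw [he_eq]
    exact H24.BCAlg.isPullback_bcHom p q φi φK (H24.FGSubAlg.val i.unop) hval hi hhi
  have hY : IsPullback (H24.BCAlg.trans q φi φK _ hval) (pullback.snd q (Spec.map φK))
      (pullback.snd q (Spec.map φi)) (Spec.map (H24.FGSubAlg.val i.unop)) :=
    H24.BCAlg.isPullback_trans q φi φK (H24.FGSubAlg.val i.unop) hval
  let D' := H24.FGSubAlg.specDiagram k K
  haveI : ∀ (a b : (H24.FGSubAlg.Idx k K)ᵒᵖ) (f : a ⟶ b), IsAffineHom (D'.map f) :=
    fun a b f => by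
      change IsAffineHom (Spec.map _)
      infer_instance
  haveI : CompactSpace (D'.obj i) := by
    change CompactSpace (Spec _)
    infer_instance
  let g₀ : pullback q (Spec.map φi) ⟶ D'.obj i := pullback.snd q (Spec.map φi)
  have hg₀ : g₀ = pullback.snd q (Spec.map φi) := rfl
  haveI : LocallyOfFiniteType g₀ := by
    change LocallyOfFiniteType (pullback.snd q (Spec.map φi)); infer_instance
  haveI : QuasiCompact g₀ := by
    change QuasiCompact (pullback.snd q (Spec.map φi)); infer_instance
  haveI : QuasiSeparated g₀ := by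
    change QuasiSeparated (pullback.snd q (Spec.map φi)); infer_instance
  have hhi' : hi ≫ g₀ = pullback.snd p (Spec.map φi) := hhi
  haveI : LocallyOfFinitePresentation (hi ≫ g₀) := by
    haveI : IsNoetherianRing (CommRingCat.of i.unop.1) := hnoe i.unop
    have h : LocallyOfFinitePresentation (pullback.snd p (Spec.map φi)) := inferInstance
    rw [hhi']; exact h
  haveI : QuasiCompact (hi ≫ g₀) := by
    have h : QuasiCompact (pullback.snd p (Spec.map φi)) := inferInstance
    rw [hhi']; exact h
  haveI : QuasiSeparated (hi ≫ g₀) := by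
    have h : QuasiSeparated (pullback.snd p (Spec.map φi)) := inferInstance
    rw [hhi']; exact h
  let gK : pullback q (Spec.map φK) ⟶ (H24.FGSubAlg.specCone k K).pt := pullback.snd q (Spec.map φK)
  obtain ⟨j, φ, Xj, Yj, fj, gj, pY, pX, hYj, hXj, hiso⟩ := Groth.Agent.S4805.result D'
    (H24.FGSubAlg.specCone k K) (H24.FGSubAlg.isLimitSpecCone k K) i hi
    g₀ e.hom gK
    (H24.BCAlg.trans q φi φK _ hval) (H24.BCAlg.trans p φi φK _ hval) hY hX
  obtain ⟨m, hm⟩ := Ideal.exists_maximal (↥j.unop.1)
  let k' : Type u := ↥j.unop.1 ⧸ m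
  letI : Field k' := Ideal.Quotient.field m
  haveI : Algebra.FiniteType k ↥j.unop.1 := hfgi j.unop
  haveI : Algebra.FiniteType k k' :=
    Algebra.FiniteType.of_surjective (Ideal.Quotient.mkₐ k m) (Ideal.Quotient.mkₐ_surjective k m)
  haveI : Module.Finite k k' := finite_of_finite_type_of_isJacobsonRing k k'
  refine ⟨k', inferInstance, inferInstance, inferInstance, ?_⟩
  let φk' : CommRingCat.of k ⟶ CommRingCat.of k' := CommRingCat.ofHom (algebraMap k k')
  let ρj : CommRingCat.of ↥j.unop.1 ⟶ CommRingCat.of k' := CommRingCat.ofHom (Ideal.Quotient.mk m)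
  let ρi : CommRingCat.of ↥i.unop.1 ⟶ CommRingCat.of k' :=
    H24.FGSubAlg.incl (leOfHom φ.unop) ≫ ρj
  have hρ : φi ≫ ρi = φk' := by
    ext x; rfl
  let h' := H24.BCAlg.bcHom p q φi φk' ρi hρ hi hhi
  have hX' := H24.BCAlg.isPullback_bcHom p q φi φk' ρi hρ hi hhi
  let gj' : Yj ⟶ Spec (CommRingCat.of ↥j.unop.1) := gj
  have hYj' : IsPullback pY gj' (pullback.snd q (Spec.map φi))
      (Spec.map (H24.FGSubAlg.incl (leOfHom φ.unop))) := hYj
  let u : pullback q (Spec.map φk') ⟶ Yj :=
    hYj'.lift (H24.BCAlg.trans q φi φk' ρi hρ) (pullback.snd _ _ ≫ Spec.map ρj) (by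
      rw [H24.BCAlg.trans_snd, Category.assoc]
      exact congrArg (_ ≫ ·) (Spec.map_comp _ _))
  have hu : u ≫ pY = H24.BCAlg.trans q φi φk' ρi hρ := hYj'.lift_fst _ _ _
  let tX : pullback p (Spec.map φk') ⟶ Xj :=
    hXj.lift (H24.BCAlg.trans p φi φk' ρi hρ) (h' ≫ u) (by
      rw [hX'.w, Category.assoc, hu])
  have sq : IsPullback tX h' fj u := by
    refine IsPullback.of_right ?_ (hXj.lift_snd _ _ _) hXj
    rw [hXj.lift_fst, hu]
    exact hX'
  haveI : IsIso h' := sq.isIso_snd_of_isIso
  exact ⟨asIso h', H24.BCAlg.bcHom_snd p q φi φk' ρi hρ hi hhi⟩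

end Groth.Agent.S4839
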