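import Groth.Statements.S4841
import Groth.Agent.H24.LimitTop
import Groth.Agent.H24.ComponentsTop
-- import your own Groth.Agent.* helpers here

set_option autoImplicit false
universe u
open CategoryTheory AlgebraicGeometry
open Lim8

namespace Groth.Agent.S4841

open Limits Groth.Agent.H24 TopologicalSpace in
/-- Let S = lim S_i be a cofiltered limit of schemes whose transition maps are affine and topological
embeddings (homeomorphisms onto subspaces), some stage S_{i₀} having Noetherian underlying space,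
and assume that the underlying space of S is Noetherian. Then there is an index i over i₀ such that,
for every j over i, the map sending an irreducible component Y of S to the closure of its image
under S ⟶ S_j is a bijection from the set of irreducible components of S onto the set of irreducible
components of S_j. -/
theorem result {I : Type u} [SmallCategory I] [IsCofiltered I]
    (D : I ⥤ Scheme.{u}) (c : Limits.Cone D) (hc : Limits.IsLimit c)
    [∀ (i j : I) (f : i ⟶ j), IsAffineHom (D.map f)] (i₀ : I)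
    [TopologicalSpace.NoetherianSpace (D.obj i₀)] [TopologicalSpace.NoetherianSpace c.pt]
    (he : ∀ (i j : I) (φ : i ⟶ j), Topology.IsEmbedding ⇑(D.map φ)) :
    ∃ (i : I) (_ : i ⟶ i₀), ∀ (j : I) (_ : j ⟶ i),
      Set.BijOn (fun Y : Set c.pt => closure (⇑(c.π.app j) '' (Y : Set c.pt) : Set (D.obj j)))
        (irreducibleComponents c.pt) (irreducibleComponents (D.obj j)) := by
  classical
  have haff : ∀ {i j : I} (f : i ⟶ j), IsAffineHom (D.map f) := fun f => inferInstance
  have hind : ∀ j, Topology.IsInducing (c.π.app j) :=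
    isInducing_π_app D c hc (fun i j φ => (he i j φ).isInducing)
  have hfin : (irreducibleComponents c.pt).Finite := NoetherianSpace.finite_irreducibleComponents
  let A := ↥(irreducibleComponents c.pt)
  have hAfin : Finite A := hfin.to_subtype
  let Z : ∀ j : I, A → Set (D.obj j) := fun j Y => closure ((c.π.app j) '' Y.1)
  have hZc : ∀ j Y, IsClosed (Z j Y) := fun j Y => isClosed_closure
  have hZi : ∀ j Y, IsIrreducible (Z j Y) := fun j Y =>
    (Y.2.1.image _ (c.π.app j).continuous.continuousOn).closure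
  have hZpre : ∀ j (Y : A), (c.π.app j) ⁻¹' (Z j Y) = Y.1 := by
    intro j Y
    rw [← (hind j).closure_eq_preimage_closure_image]
    exact (isClosed_of_mem_irreducibleComponents Y.1 Y.2).closure_eq
  have hZtrans : ∀ {j k : I} (ψ : k ⟶ j) (Y : A), (D.map ψ) ⁻¹' (Z j Y) = Z k Y := by
    intro j k ψ Y
    have himg : (D.map ψ) '' ((c.π.app k) '' Y.1) = (c.π.app j) '' Y.1 := by
      rw [← Set.image_comp]
      apply Set.image_congr
      intro s _
      simp only [Function.comp_apply, ← Scheme.Hom.comp_apply, c.w]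
    change (D.map ψ) ⁻¹' closure ((c.π.app j) '' Y.1) = closure ((c.π.app k) '' Y.1)
    rw [(he k j ψ).isInducing.closure_eq_preimage_closure_image, himg]
  -- the complement of the `Z i₀ Y` has empty preimage in the limit
  let W₀ : (D.obj i₀).Opens := ⟨(⋃ Y, Z i₀ Y)ᶜ, (isClosed_iUnion_of_finite (hZc i₀)).isOpen_compl⟩
  have hW₀ : c.π.app i₀ ⁻¹ᵁ W₀ = ⊥ := by
    ext s
    simp only [TopologicalSpace.Opens.coe_bot, Set.mem_empty_iff_false, iff_false]
    intro hs
    have hsU : s ∈ ⋃₀ irreducibleComponents c.pt := by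
      rw [sUnion_irreducibleComponents]; trivial
    obtain ⟨Y, hY, hsY⟩ := Set.mem_sUnion.mp hsU
    exact hs (Set.mem_iUnion.mpr ⟨⟨Y, hY⟩, subset_closure ⟨s, hsY, rfl⟩⟩)
  obtain ⟨i, φ, hφ⟩ := exists_map_preimage_eq_bot D c hc W₀ (NoetherianSpace.isCompact _) hW₀
  refine ⟨i, φ, fun j ψ => ?_⟩
  have hcov : (⋃ Y, Z j Y) = Set.univ := by
    rw [Set.eq_univ_iff_forall]
    intro y
    by_contra hy
    have : D.map ψ y ∈ D.map φ ⁻¹ᵁ W₀ := by
      change D.map φ (D.map ψ y) ∈ (⋃ Y, Z i₀ Y)ᶜ
      intro h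
      obtain ⟨Y, hY⟩ := Set.mem_iUnion.mp h
      apply hy
      refine Set.mem_iUnion.mpr ⟨Y, ?_⟩
      rw [← hZtrans (ψ ≫ φ) Y]
      change D.map (ψ ≫ φ) y ∈ Z i₀ Y
      rw [D.map_comp, Scheme.Hom.comp_apply]
      exact hY
    rw [hφ] at this
    exact this
  have hsub : ∀ Y Y' : A, Z j Y ⊆ Z j Y' → Y = Y' := by
    intro Y Y' h
    have h1 : Y.1 ⊆ Y'.1 := by
      rw [← hZpre j Y, ← hZpre j Y']
      exact Set.preimage_mono h
    exact Subtype.ext (h1.antisymm (Y.2.2 Y'.2.1 h1))
  obtain ⟨hcomp, hinj⟩ :=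
    irreducibleComponents_eq_range_of_closed_cover (Z j) (hZc j) (hZi j) hsub hcov
  refine ⟨?_, ?_, ?_⟩
  · intro Y hY
    rw [hcomp]
    exact ⟨⟨Y, hY⟩, rfl⟩
  · intro Y hY Y' hY' h
    have : (⟨Y, hY⟩ : A) = ⟨Y', hY'⟩ := hinj h
    exact congr_arg Subtype.val this
  · intro C hC
    rw [hcomp] at hC
    obtain ⟨Y, rfl⟩ := hC
    exact ⟨Y.1, Y.2, rfl⟩

end Groth.Agent.S4841
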