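import Groth.Statements.S4842
import Groth.Agent.H24.LimitTop
import Groth.Agent.H24.ComponentsTop
-- import your own Groth.Agent.* helpers here

set_option autoImplicit false
universe u
open CategoryTheory AlgebraicGeometry
open Lim8

namespace Groth.Agent.S4842

open Limits Groth.Agent.H24 TopologicalSpace in
/-- Let S = lim S_i be a cofiltered limit of schemes whose transition maps are affine and topological
embeddings (homeomorphisms onto subspaces), some stage S_{i₀} having Noetherian underlying space,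
and assume that the underlying space of S is Noetherian. Then there is an index i over i₀ such that,
for every j over i, the map sending a connected component C of S to the closure of its image under S
⟶ S_j is a bijection from the set of connected components of S onto the set of connected components
of S_j. -/
theorem result {I : Type u} [SmallCategory I] [IsCofiltered I]
    (D : I ⥤ Scheme.{u}) (c : Limits.Cone D) (hc : Limits.IsLimit c)
    [∀ (i j : I) (f : i ⟶ j), IsAffineHom (D.map f)] (i₀ : I)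
    [TopologicalSpace.NoetherianSpace (D.obj i₀)] [TopologicalSpace.NoetherianSpace c.pt]
    (he : ∀ (i j : I) (φ : i ⟶ j), Topology.IsEmbedding ⇑(D.map φ)) :
    ∃ (i : I) (_ : i ⟶ i₀), ∀ (j : I) (_ : j ⟶ i),
      Set.BijOn (fun C : Set c.pt => closure (⇑(c.π.app j) '' (C : Set c.pt) : Set (D.obj j)))
        (Set.range (connectedComponent : c.pt → Set c.pt)) (Set.range (connectedComponent : D.obj j → Set (D.obj j))) := by
  classical
  have haff : ∀ {i j : I} (f : i ⟶ j), IsAffineHom (D.map f) := fun f => inferInstance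
  have hind : ∀ j, Topology.IsInducing (c.π.app j) :=
    isInducing_π_app D c hc (fun i j φ => (he i j φ).isInducing)
  have hfin := finite_range_connectedComponent_of_noetherian (X := c.pt)
  let A := ↥(Set.range (connectedComponent : c.pt → Set c.pt))
  have hAfin : Finite A := hfin.to_subtype
  have hAfin' : Fintype A := Fintype.ofFinite A
  have hCclosed : ∀ C : A, IsClosed C.1 := by
    rintro ⟨_, ⟨x, rfl⟩⟩
    exact isClosed_connectedComponent
  have hCconn : ∀ C : A, _root_.IsConnected C.1 := by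
    rintro ⟨_, ⟨x, rfl⟩⟩
    exact isConnected_connectedComponent
  have hCdisj : ∀ C C' : A, C ≠ C' → Disjoint C.1 C'.1 := by
    rintro ⟨_, ⟨x, rfl⟩⟩ ⟨_, ⟨y, rfl⟩⟩ hne
    rw [Set.disjoint_left]
    intro z hzx hzy
    exact hne (Subtype.ext ((connectedComponent_eq hzx).trans (connectedComponent_eq hzy).symm))
  let Z : ∀ j : I, A → Set (D.obj j) := fun j C => closure ((c.π.app j) '' C.1)
  have hZc : ∀ j C, IsClosed (Z j C) := fun j C => isClosed_closure
  have hZconn : ∀ j C, _root_.IsConnected (Z j C) := fun j C =>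
    ((hCconn C).image _ (c.π.app j).continuous.continuousOn).closure
  have hZpre : ∀ j (C : A), (c.π.app j) ⁻¹' (Z j C) = C.1 := by
    intro j C
    rw [← (hind j).closure_eq_preimage_closure_image]
    exact (hCclosed C).closure_eq
  have hZtrans : ∀ {j k : I} (ψ : k ⟶ j) (C : A), (D.map ψ) ⁻¹' (Z j C) = Z k C := by
    intro j k ψ C
    have himg : (D.map ψ) '' ((c.π.app k) '' C.1) = (c.π.app j) '' C.1 := by
      rw [← Set.image_comp]
      apply Set.image_congr
      intro s _
      simp only [Function.comp_apply, ← Scheme.Hom.comp_apply, c.w]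
    change (D.map ψ) ⁻¹' closure ((c.π.app j) '' C.1) = closure ((c.π.app k) '' C.1)
    rw [(he k j ψ).isInducing.closure_eq_preimage_closure_image, himg]
  have hnoeth : ∀ {j : I} (_ : j ⟶ i₀), NoetherianSpace (D.obj j) := fun {j} φ =>
    (he j i₀ φ).isInducing.noetherianSpace
  -- covering stage
  let W₀ : (D.obj i₀).Opens := ⟨(⋃ C, Z i₀ C)ᶜ, (isClosed_iUnion_of_finite (hZc i₀)).isOpen_compl⟩
  have hW₀ : c.π.app i₀ ⁻¹ᵁ W₀ = ⊥ := by
    ext s
    simp only [TopologicalSpace.Opens.coe_bot, Set.mem_empty_iff_false, iff_false]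
    intro hs
    exact hs (Set.mem_iUnion.mpr ⟨⟨connectedComponent s, ⟨s, rfl⟩⟩,
      subset_closure ⟨s, mem_connectedComponent, rfl⟩⟩)
  obtain ⟨i₁, φ₁, hφ₁⟩ := exists_map_preimage_eq_bot D c hc W₀ (NoetherianSpace.isCompact _) hW₀
  -- disjointness stages
  have hpair : ∀ p : A × A, ∃ (j : I) (φ : j ⟶ i₀), p.1 ≠ p.2 → Z j p.1 ∩ Z j p.2 = ∅ := by
    intro p
    by_cases hp : p.1 = p.2
    · exact ⟨i₀, 𝟙 _, fun h => absurd hp h⟩
    by_contra hcon
    push Not at hcon
    have hne : ∀ (j : I) (φ : j ⟶ i₀), (Z j p.1 ∩ Z j p.2).Nonempty := fun j φ =>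
      (hcon j φ).2
    obtain ⟨s, hs⟩ := exists_mem_of_isClosed_of_nonempty' D c hc
      (fun j (_ : j ⟶ i₀) => Z j p.1 ∩ Z j p.2) (fun j φ => (hZc j _).inter (hZc j _))
      hne (fun j φ => by
        have := hnoeth φ
        exact NoetherianSpace.isCompact _)
      (fun j k ψ φ y hy => by
        rw [← hZtrans ψ p.1, ← hZtrans ψ p.2] at hy
        exact hy)
    have h1 := hs i₀ (𝟙 _)
    have h2 : s ∈ p.1.1 ∩ p.2.1 := by
      rw [← hZpre i₀ p.1, ← hZpre i₀ p.2]
      exact h1
    exact (hCdisj p.1 p.2 hp).le_bot h2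
  choose jp φp hjp using hpair
  obtain ⟨k, hk⟩ := IsCofiltered.inf_objs_exists
    (insert (Over.mk φ₁ : Over i₀) (Finset.univ.image fun p : A × A => (Over.mk (φp p) : Over i₀)))
  have g₁ : k ⟶ (Over.mk φ₁ : Over i₀) := (hk (Finset.mem_insert_self _ _)).some
  have gp : ∀ p : A × A, k ⟶ (Over.mk (φp p) : Over i₀) := fun p =>
    (hk (Finset.mem_insert_of_mem (Finset.mem_image_of_mem _ (Finset.mem_univ p)))).some
  refine ⟨k.left, k.hom, fun j ψ => ?_⟩
  have hcov : (⋃ C, Z j C) = Set.univ := by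
    rw [Set.eq_univ_iff_forall]
    intro y
    by_contra hy
    have : D.map (ψ ≫ g₁.left) y ∈ D.map φ₁ ⁻¹ᵁ W₀ := by
      change D.map φ₁ (D.map (ψ ≫ g₁.left) y) ∈ (⋃ C, Z i₀ C)ᶜ
      intro h
      obtain ⟨C, hC⟩ := Set.mem_iUnion.mp h
      apply hy
      refine Set.mem_iUnion.mpr ⟨C, ?_⟩
      rw [← hZtrans ((ψ ≫ g₁.left) ≫ φ₁) C]
      change D.map ((ψ ≫ g₁.left) ≫ φ₁) y ∈ Z i₀ C
      rw [D.map_comp, Scheme.Hom.comp_apply]
      exact hC
    rw [hφ₁] at this
    exact this
  have hdisj : ∀ C C' : A, C ≠ C' → Disjoint (Z j C) (Z j C') := by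
    intro C C' hne
    have h0 : Z (jp (C, C')) C ∩ Z (jp (C, C')) C' = ∅ := hjp (C, C') hne
    let θ : j ⟶ jp (C, C') := ψ ≫ (gp (C, C')).left
    rw [Set.disjoint_iff_inter_eq_empty, ← hZtrans θ C, ← hZtrans θ C', ← Set.preimage_inter, h0,
      Set.preimage_empty]
  have hZo : ∀ C, IsOpen (Z j C) := by
    intro C
    have : (Z j C)ᶜ = ⋃ C' ∈ {C' | C' ≠ C}, Z j C' := by
      ext x
      simp only [Set.mem_compl_iff, Set.mem_iUnion, Set.mem_ofPred_eq, exists_prop]
      constructor
      · intro hx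
        have : x ∈ ⋃ C', Z j C' := hcov ▸ Set.mem_univ x
        obtain ⟨C', hC'⟩ := Set.mem_iUnion.mp this
        exact ⟨C', fun h => hx (h ▸ hC'), hC'⟩
      · rintro ⟨C', hne, hC'⟩ hx
        exact (hdisj C' C hne).le_bot ⟨hC', hx⟩
    rw [← isClosed_compl_iff, this]
    exact (Set.toFinite _).isClosed_biUnion fun C' _ => hZc j C'
  obtain ⟨hcomp, hinj⟩ := range_connectedComponent_eq_range (Z j) hZo (hZconn j) hdisj hcov
  refine ⟨?_, ?_, ?_⟩
  · intro C hC
    rw [hcomp]
    exact ⟨⟨C, hC⟩, rfl⟩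
  · intro C hC C' hC' h
    have : (⟨C, hC⟩ : A) = ⟨C', hC'⟩ := hinj h
    exact congr_arg Subtype.val this
  · intro Y hY
    rw [hcomp] at hY
    obtain ⟨C, rfl⟩ := hY
    exact ⟨C.1, C.2, rfl⟩

end Groth.Agent.S4842
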