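import Groth.Statements.S4849
import Groth.Agent.H24.ModFlat.Stage
import Groth.Agent.H24.LimitBaseChange
import Groth.Agent.H50.LfpCancel

set_option autoImplicit false
universe u
open CategoryTheory AlgebraicGeometry
open EGA43

namespace Groth.Agent.S4849

/-- Let S be the limit of a cofiltered system (S_i) of schemes with affine transition morphisms, S_{i₀}
a quasi-compact stage, f₀ : X₀ ⟶ Y₀ an S_{i₀}-morphism between schemes of finite presentation over
S_{i₀}, and F₀ a quasi-coherent O_{X₀}-module of finite presentation. Let f : X ⟶ Y and F be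
obtained by base change to S. Then F is f-flat if and only if there are an index i over i₀ and base
changes f_i : X_i ⟶ Y_i, F_i of f₀, F₀ to S_i with F_i f_i-flat. (Base changes are expressed by
pullback squares; the stage S_{i₀} is only assumed quasi-compact.) -/
theorem result {I : Type u} [SmallCategory I] [IsCofiltered I]
    (D : I ⥤ Scheme.{u}) (c : Limits.Cone D) (hc : Limits.IsLimit c)
    [∀ (i j : I) (φ : i ⟶ j), IsAffineHom (D.map φ)] (i₀ : I) [CompactSpace (D.obj i₀)]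
    {X₀ Y₀ : Scheme.{u}} (f₀ : X₀ ⟶ Y₀) (g₀ : Y₀ ⟶ D.obj i₀)
    [LocallyOfFinitePresentation g₀] [QuasiCompact g₀] [QuasiSeparated g₀]
    [LocallyOfFinitePresentation (f₀ ≫ g₀)] [QuasiCompact (f₀ ≫ g₀)] [QuasiSeparated (f₀ ≫ g₀)]
    (F₀ : X₀.Modules) [Coh.IsQCoh F₀] (hF₀ : CohB1.IsFP F₀)
    {X Y : Scheme.{u}} (f : X ⟶ Y) (g : Y ⟶ c.pt) (qY : Y ⟶ Y₀) (qX : X ⟶ X₀)
    (hY : IsPullback qY g g₀ (c.π.app i₀)) (hX : IsPullback qX f f₀ qY) :
    FlatMod.IsFlatOver f ((Scheme.Modules.pullback qX).obj F₀) ↔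
      ∃ (i : I) (φ : i ⟶ i₀) (Xi Yi : Scheme.{u}) (fi : Xi ⟶ Yi) (gi : Yi ⟶ D.obj i)
        (pY : Yi ⟶ Y₀) (pX : Xi ⟶ X₀),
        IsPullback pY gi g₀ (D.map φ) ∧ IsPullback pX fi f₀ pY ∧
          FlatMod.IsFlatOver fi ((Scheme.Modules.pullback pX).obj F₀) := by
  classical
  haveI hfp : SheafOfModules.IsFinitePresentation (R := X₀.ringCatSheaf) F₀ := hF₀
  constructor
  · intro hflat
    -- the rebased system `Y_ψ = S_ψ ×_{S_{i₀}} Y₀`
    have hFYaff : ∀ {φ ψ : Over i₀} (f : φ ⟶ ψ),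
        IsAffineHom ((Groth.Agent.H24.pullbackDiagram D i₀ g₀).map f) := fun f =>
      MorphismProperty.of_isPullback (P := @IsAffineHom)
        (Groth.Agent.H24.isPullback_pullbackDiagram_map D i₀ g₀ f).flip inferInstance
    let D' := Groth.Agent.H24.pullbackDiagram D i₀ g₀
    let c' := Groth.Agent.H24.pullbackCone D c i₀ g₀
    have hc' : Limits.IsLimit c' := Groth.Agent.H24.isLimitPullbackCone D c i₀ g₀ hc
    let j₀ : Over i₀ := Over.mk (𝟙 i₀)
    let e₀ : D'.obj j₀ ⟶ Y₀ := Limits.pullback.snd (D.map (𝟙 i₀)) g₀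
    haveI : IsIso (D.map (𝟙 i₀)) := by rw [D.map_id]; infer_instance
    haveI he₀ : IsIso e₀ := by
      show IsIso (Limits.pullback.snd (D.map (𝟙 i₀)) g₀)
      infer_instance
    haveI : LocallyOfFinitePresentation f₀ :=
      Groth.Agent.H50.locallyOfFinitePresentation_of_comp f₀ g₀ inferInstance inferInstance
    haveI : CompactSpace X₀ := QuasiCompact.compactSpace_of_compactSpace (f₀ ≫ g₀)
    let f₀' : X₀ ⟶ D'.obj j₀ := f₀ ≫ inv e₀
    haveI : LocallyOfFinitePresentation f₀' := by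
      show LocallyOfFinitePresentation (f₀ ≫ inv e₀)
      infer_instance
    -- flatness at the limit in canonical form
    have hq₂ : c'.π.app j₀ ≫ inv (inv e₀) = Limits.pullback.snd (c.π.app i₀) g₀ := by
      rw [IsIso.inv_inv]
      exact Groth.Agent.H24.pullbackCone_π_snd D c i₀ g₀ j₀
    have h₂ : IsPullback (Limits.pullback.fst f₀' (c'.π.app j₀))
        (Limits.pullback.snd f₀' (c'.π.app j₀)) f₀ (Limits.pullback.snd (c.π.app i₀) g₀) := by
      rw [← hq₂]
      exact Groth.Agent.H24.ModFlat.isPullback_comp_iso (inv e₀)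
        (IsPullback.of_hasPullback (f₀ ≫ inv e₀) (c'.π.app j₀))
    let v : c'.pt ⟶ Y := hY.lift (Limits.pullback.snd (c.π.app i₀) g₀)
      (Limits.pullback.fst (c.π.app i₀) g₀) Limits.pullback.condition.symm
    have hv : v ≫ qY = Limits.pullback.snd (c.π.app i₀) g₀ := hY.lift_fst _ _ _
    have hflat' := Groth.Agent.H24.ModFlat.isFlatOver_of_isPullback hX h₂ v hv F₀ hflat
    obtain ⟨ψ', hψ'⟩ := Groth.Agent.H24.ModFlat.exists_isFlatOver_stage_canonical D' c' j₀ hc'
      f₀' F₀ hflat'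
    have hq : D'.map ψ'.hom ≫ inv (inv e₀) = Limits.pullback.snd (D.map ψ'.left.hom) g₀ := by
      rw [IsIso.inv_inv]
      exact Groth.Agent.H24.pullbackDiagram_map_snd D i₀ g₀ ψ'.hom
    have h₃ : IsPullback (Limits.pullback.fst f₀' (D'.map ψ'.hom))
        (Limits.pullback.snd f₀' (D'.map ψ'.hom)) f₀
        (Limits.pullback.snd (D.map ψ'.left.hom) g₀) := by
      rw [← hq]
      exact Groth.Agent.H24.ModFlat.isPullback_comp_iso (inv e₀)
        (IsPullback.of_hasPullback (f₀ ≫ inv e₀) (D'.map ψ'.hom))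
    exact ⟨ψ'.left.left, ψ'.left.hom, _, _, Limits.pullback.snd f₀' (D'.map ψ'.hom),
      Limits.pullback.fst (D.map ψ'.left.hom) g₀, Limits.pullback.snd (D.map ψ'.left.hom) g₀,
      Limits.pullback.fst f₀' (D'.map ψ'.hom),
      (IsPullback.of_hasPullback (D.map ψ'.left.hom) g₀).flip, h₃, hψ'⟩
  · rintro ⟨i, φ, Xi, Yi, fi, gi, pY, pX, hYi, hXi, hflat⟩
    let v : Y ⟶ Yi := hYi.lift qY (g ≫ c.π.app i) (by
      rw [hY.w, Category.assoc, c.w φ])
    have hv : v ≫ pY = qY := hYi.lift_fst _ _ _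
    exact Groth.Agent.H24.ModFlat.isFlatOver_of_isPullback hXi hX v hv F₀ hflat

end Groth.Agent.S4849
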