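import Groth.Statements.S4852
import Groth.Agent.S4853
import Groth.Agent.H24.SemiLocalNil
import Mathlib.RingTheory.Flat.Localization
import Mathlib.RingTheory.Localization.AtPrime.Basic
import Mathlib.LinearAlgebra.Basis.VectorSpace

set_option autoImplicit false
universe u
open EGA43

namespace Groth.Agent.S4852

open TensorProduct

/-- The local step: flatness of `A_m ⊗ M` over `A_m`. -/
theorem flat_localization {A : Type u} [CommRing A]
    [Finite (MaximalSpectrum A)] (hnil : IsNilpotent (Ring.jacobson A))
    {ι : Type u} (B : ι → Type u) [∀ i, CommRing (B i)] [∀ i, Algebra A (B i)]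
    (hB : ∀ a : A, (∀ i, algebraMap A (B i) a = 0) → a = 0)
    (M : Type u) [AddCommGroup M] [Module A M]
    (h : ∀ i, Module.Flat (B i) (B i ⊗[A] M)) (m : Ideal A) [hm : m.IsMaximal] :
    Module.Flat (Localization.AtPrime m) (Localization.AtPrime m ⊗[A] M) := by
  obtain ⟨n, hn⟩ := hnil
  obtain ⟨e, hem, hann, he⟩ :=
    Groth.Agent.H24.exists_uniform_of_semilocal_nilpotent A n hn m
  -- the maximal ideal of `A_m` is nilpotent
  have hJ' : IsNilpotent (IsLocalRing.maximalIdeal (Localization.AtPrime m)) := by
    refine ⟨n, ?_⟩
    rw [← Localization.AtPrime.map_eq_maximalIdeal, ← Ideal.map_pow, Ideal.zero_eq_bot,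
      eq_bot_iff, Ideal.map_le_iff_le_comap]
    intro y hy
    change algebraMap A (Localization.AtPrime m) y ∈ (⊥ : Ideal _)
    rw [Ideal.mem_bot, IsLocalization.map_eq_zero_iff m.primeCompl]
    exact ⟨⟨e, hem⟩, by rw [mul_comm]; exact hann y hy⟩
  let _ : Field (Localization.AtPrime m ⧸ IsLocalRing.maximalIdeal (Localization.AtPrime m)) :=
    Ideal.Quotient.field _
  have hfree : Module.Free
      (Localization.AtPrime m ⧸ IsLocalRing.maximalIdeal (Localization.AtPrime m))
      ((Localization.AtPrime m ⧸ IsLocalRing.maximalIdeal (Localization.AtPrime m))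
        ⊗[Localization.AtPrime m] (Localization.AtPrime m ⊗[A] M)) :=
    Module.Free.of_divisionRing _ _
  obtain ⟨R₀, -, -, hR₀⟩ := Groth.Agent.S4853.result (Localization.AtPrime m ⊗[A] M)
    (IsLocalRing.maximalIdeal (Localization.AtPrime m)) hJ' hfree
  have hbot : R₀ = ⊥ := by
    rw [eq_bot_iff]
    intro r hr
    rw [Ideal.mem_bot]
    obtain ⟨a, s, rfl⟩ := IsLocalization.exists_mk'_eq m.primeCompl r
    have hvan : ∀ i, algebraMap A (B i) (e * a) = 0 := by
      intro i
      have hflat : Module.Flat (Localization (Algebra.algebraMapSubmonoid (B i) m.primeCompl))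
          (Localization (Algebra.algebraMapSubmonoid (B i) m.primeCompl)
            ⊗[Localization.AtPrime m] (Localization.AtPrime m ⊗[A] M)) := by
        have e1 := AlgebraTensorModule.cancelBaseChange A (Localization.AtPrime m)
          (Localization (Algebra.algebraMapSubmonoid (B i) m.primeCompl))
          (Localization (Algebra.algebraMapSubmonoid (B i) m.primeCompl)) M
        have e2 := AlgebraTensorModule.cancelBaseChange A (B i)
          (Localization (Algebra.algebraMapSubmonoid (B i) m.primeCompl))
          (Localization (Algebra.algebraMapSubmonoid (B i) m.primeCompl)) M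
        have := h i
        exact Module.Flat.of_linearEquiv (e1.trans e2.symm)
      have h1 := (hR₀ (Localization (Algebra.algebraMapSubmonoid (B i) m.primeCompl))).2.mp hflat
      have h2 : algebraMap (Localization.AtPrime m)
          (Localization (Algebra.algebraMapSubmonoid (B i) m.primeCompl))
          (IsLocalization.mk' (Localization.AtPrime m) a s) = 0 := by
        have := Ideal.mem_map_of_mem (algebraMap (Localization.AtPrime m)
          (Localization (Algebra.algebraMapSubmonoid (B i) m.primeCompl))) hr
        rw [h1] at this
        exact this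
      have h3 : algebraMap A (Localization (Algebra.algebraMapSubmonoid (B i) m.primeCompl)) a
          = 0 := by
        rw [IsScalarTower.algebraMap_apply A (Localization.AtPrime m),
          ← IsLocalization.mk'_spec' (Localization.AtPrime m) a s, map_mul, h2, mul_zero]
      rw [IsScalarTower.algebraMap_apply A (B i),
        IsLocalization.map_eq_zero_iff (Algebra.algebraMapSubmonoid (B i) m.primeCompl)] at h3
      obtain ⟨⟨_, t, ht, rfl⟩, h4⟩ := h3
      obtain ⟨x, hx⟩ := he t ht
      have h5 : e * a = x * e * (t * a) := by
        calc e * a = (x * t * e) * a := by rw [← hx]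
          _ = x * e * (t * a) := by ring
      rw [h5, map_mul, map_mul (algebraMap A (B i)) t a]
      change algebraMap A (B i) (x * e) * (algebraMap A (B i) t * algebraMap A (B i) a) = 0
      rw [h4, mul_zero]
    have h6 : e * a = 0 := hB _ hvan
    have h7 : algebraMap A (Localization.AtPrime m) a = 0 :=
      (IsLocalization.map_eq_zero_iff m.primeCompl _ a).mpr ⟨⟨e, hem⟩, h6⟩
    rw [IsLocalization.mk'_eq_zero_iff]
    exact ⟨⟨e, hem⟩, h6⟩
  have hflat : Module.Flat (Localization.AtPrime m)
      (Localization.AtPrime m ⊗[Localization.AtPrime m] (Localization.AtPrime m ⊗[A] M)) :=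
    (hR₀ (Localization.AtPrime m)).2.mpr (by rw [hbot, Ideal.map_bot])
  exact Module.Flat.of_linearEquiv
    (TensorProduct.lid (Localization.AtPrime m) (Localization.AtPrime m ⊗[A] M)).symm

/-- Let A be a semi-local ring (finitely many maximal ideals) whose Jacobson radical is nilpotent, for
instance an Artinian ring, and let (u_i : A → B_i) be a family of ring homomorphisms whose kernels
have zero intersection. Then an A-module M is flat if and only if, for every i, the B_i-module B_i
⊗_A M is flat. -/
theorem result {A : Type u} [CommRing A]
    [Finite (MaximalSpectrum A)] (hnil : IsNilpotent (Ring.jacobson A))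
    {ι : Type u} (B : ι → Type u) [∀ i, CommRing (B i)] [∀ i, Algebra A (B i)]
    (hB : ∀ a : A, (∀ i, algebraMap A (B i) a = 0) → a = 0)
    (M : Type u) [AddCommGroup M] [Module A M] :
    Module.Flat A M ↔ ∀ i, Module.Flat (B i) (B i ⊗[A] M) := by
  constructor
  · intro h i
    infer_instance
  · intro h
    apply Module.flat_of_localized_maximal
    intro m hm
    have h1 := flat_localization hnil B hB M h m
    have h2 : Module.Flat (Localization.AtPrime m) (LocalizedModule m.primeCompl M) :=
      Module.Flat.of_linearEquiv
        (IsLocalizedModule.isBaseChange m.primeCompl (Localization.AtPrime m)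
          (LocalizedModule.mkLinearMap m.primeCompl M)).equiv.symm
    exact (Module.flat_iff_of_isLocalization (Localization.AtPrime m) m.primeCompl
      (LocalizedModule m.primeCompl M)).mp h2

end Groth.Agent.S4852
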