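import Groth.Statements.S4856
import Groth.Agent.H56.FamFlat.Chart
import Groth.Agent.H44.FiniteSections

set_option autoImplicit false
universe u
open CategoryTheory AlgebraicGeometry
open EGA43

namespace Groth.Agent.S4856

open CategoryTheory.Limits in
/-- Let A be an Artinian local ring, f : X ⟶ Spec A locally of finite type, F a coherent O_X-module and
x a point of X. Let (u_i : A → A_i) be a family of ring homomorphisms into local rings such that an
element of A killed by every u_i is zero. If, for every i, the pullback of F to X_i = X ×_{Spec A}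
Spec A_i is flat over Spec A_i at every point of X_i whose images are x in X and the closed point in
Spec A_i, then F is f-flat at x. -/
theorem result {A : Type u} [CommRing A]
    [IsArtinianRing A] [IsLocalRing A] {X : Scheme.{u}} (f : X ⟶ Spec (CommRingCat.of A))
    [LocallyOfFiniteType f] (F : X.Modules) (hF : Coh.IsCoh F) (x : X)
    {ι : Type u} (A' : ι → Type u) [∀ i, CommRing (A' i)] [∀ i, IsLocalRing (A' i)] (u : ∀ i, A →+* A' i)
    (hu : ∀ a : A, (∀ i, u i a = 0) → a = 0)
    (hflat : ∀ (i : ι) (x' : ↥(pullback f (Spec.map (CommRingCat.ofHom (u i))))),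
      pullback.fst f (Spec.map (CommRingCat.ofHom (u i))) x' = x →
      pullback.snd f (Spec.map (CommRingCat.ofHom (u i))) x' = IsLocalRing.closedPoint (A' i) →
      FlatMod.IsFlatOverAt (pullback.snd f (Spec.map (CommRingCat.ofHom (u i))))
        ((Scheme.Modules.pullback (pullback.fst f (Spec.map (CommRingCat.ofHom (u i))))).obj F) x') :
    FlatMod.IsFlatOverAt f F x := by
  classical
  obtain ⟨hqc, hft⟩ := hF
  haveI : F.IsQuasicoherent := hqc
  haveI : SheafOfModules.IsFiniteType (R := X.ringCatSheaf) F := hft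
  have hnil : IsNilpotent (IsLocalRing.maximalIdeal A) := by
    rw [← IsLocalRing.jacobson_eq_maximalIdeal ⊥ bot_ne_top]
    exact IsArtinianRing.isNilpotent_jacobson_bot
  obtain ⟨U, hU, hxU, -⟩ := exists_isAffineOpen_mem_and_subset (x := x) (U := ⊤) trivial
  -- ring data on the chart
  letI algAB : Algebra A Γ(X, U) := (Groth.Agent.H56.Flattening.baseHom f U).toAlgebra
  letI modAM : Module A Γ(F, U) := Groth.Agent.H56.Flattening.baseModule f F U
  haveI : IsScalarTower A Γ(X, U) Γ(F, U) := IsScalarTower.of_algebraMap_smul (fun r m => rfl)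
  haveI : Algebra.FiniteType A Γ(X, U) := by
    have h1 : (f.appLE ⊤ U le_top).hom.FiniteType :=
      Scheme.Hom.finiteType_appLE f (isAffineOpen_top _) hU le_top
    have h2 : (Groth.Agent.H56.Flattening.baseHom f U).FiniteType :=
      (RingHom.finiteType_respectsIso.cancel_left_isIso
        (Scheme.ΓSpecIso (CommRingCat.of A)).inv (f.appLE ⊤ U le_top)).mpr h1
    exact h2
  haveI : IsNoetherianRing Γ(X, U) := Algebra.FiniteType.isNoetherianRing A Γ(X, U)
  haveI : Module.Finite Γ(X, U) Γ(F, U) := Groth.Agent.H44.finite_sections_of_isFiniteType F hU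
  -- translate the conclusion
  rw [Groth.Agent.H70.FlatLocusGeo.isFlatOverAt_iff_flat_localizedModule f F hU
    (isAffineOpen_top _) le_top hxU]
  letI algAR : Algebra A Γ(Spec (CommRingCat.of A), ⊤) :=
    (Scheme.ΓSpecIso (CommRingCat.of A)).inv.hom.toAlgebra
  letI algRB : Algebra Γ(Spec (CommRingCat.of A), ⊤) Γ(X, U) := (f.appLE ⊤ U le_top).hom.toAlgebra
  letI modRM : Module Γ(Spec (CommRingCat.of A), ⊤) Γ(F, U) :=
    Module.compHom _ (f.appLE ⊤ U le_top).hom
  haveI : IsScalarTower Γ(Spec (CommRingCat.of A), ⊤) Γ(X, U) Γ(F, U) :=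
    IsScalarTower.of_algebraMap_smul (fun r m => rfl)
  haveI : IsScalarTower A Γ(Spec (CommRingCat.of A), ⊤) Γ(X, U) :=
    IsScalarTower.of_algebraMap_eq (fun _ => rfl)
  haveI : IsScalarTower A Γ(Spec (CommRingCat.of A), ⊤) Γ(F, U) :=
    IsScalarTower.of_algebraMap_smul (fun r m => rfl)
  have hbij : Function.Bijective (algebraMap A Γ(Spec (CommRingCat.of A), ⊤)) :=
    ConcreteCategory.bijective_of_isIso (Scheme.ΓSpecIso (CommRingCat.of A)).inv
  refine (Groth.Agent.H71.QCoh.flat_iff_of_bijective_algebraMap hbij).mpr ?_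
  refine Groth.Agent.H56.FamFlat.flat_of_relations hnil _ A' u hu ?_
  intro i Λ v hv s c hc
  letI : Algebra A (A' i) := (u i).toAlgebra
  haveI : IsLocalHom (algebraMap A (A' i)) :=
    Groth.Agent.H56.FamFlat.isLocalHom_of_isNilpotent hnil (u i)
  exact Groth.Agent.H56.FamFlat.relation_of_isFlatOverAt_pullback f F hU hxU rfl (hflat i)
    v hv s c hc

end Groth.Agent.S4856
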