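import Groth.Statements.S4857
import Groth.Agent.H56.FamFlat.ChartGen
import Groth.Agent.H56.FamFlat.Adic
import Groth.Agent.H56.FamFlat.LocalBase
import Groth.Agent.H44.FiniteSections
import Groth.Agent.H44.PullbackFT
import Groth.Agent.H70.RelFlatBC.Iso

set_option autoImplicit false
universe u
open CategoryTheory AlgebraicGeometry
open EGA43

namespace Groth.Agent.S4857

open CategoryTheory.Limits in
/-- Let Y be a locally Noetherian scheme, f : X ⟶ Y locally of finite type, F a coherent O_X-module and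
x a point of X with y = f x. Let (φ_i : O_{Y,y} → A_i) be a family of local homomorphisms into local
rings such that, for every N, some finite intersection of the ideals φ_i⁻¹(m_{A_i}^n) is contained
in m_y^N. Let Y_i = Spec A_i ⟶ Y be the induced Y-schemes and X_i = X ×_Y Y_i. If for every i the
pullback of F to X_i is flat over Y_i at every point of X_i lying over x and over the closed point
of Y_i, then F is f-flat at x. -/
theorem result {X Y : Scheme.{u}} [IsLocallyNoetherian Y]
    (f : X ⟶ Y) [LocallyOfFiniteType f] (F : X.Modules) (hF : Coh.IsCoh F) (x : X)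
    {ι : Type u} (A : ι → Type u) [∀ i, CommRing (A i)] [∀ i, IsLocalRing (A i)]
    (φ : ∀ i, (Y.presheaf.stalk (f x) : Type u) →+* A i) [∀ i, IsLocalHom (φ i)]
    (htop : ∀ N : ℕ, ∃ s : Finset (ι × ℕ),
      ⨅ p ∈ s, Ideal.comap (φ p.1) (IsLocalRing.maximalIdeal (A p.1) ^ p.2) ≤
        IsLocalRing.maximalIdeal ↑(Y.presheaf.stalk (f x)) ^ N) :
    letI g : ∀ i, Spec (CommRingCat.of (A i)) ⟶ Y :=
      fun i => Spec.map (CommRingCat.ofHom (φ i)) ≫ Y.fromSpecStalk (f x)
    (∀ (i : ι) (x' : ↥(pullback f (g i))), pullback.fst f (g i) x' = x →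
      pullback.snd f (g i) x' = IsLocalRing.closedPoint (A i) →
      FlatMod.IsFlatOverAt (pullback.snd f (g i)) ((Scheme.Modules.pullback (pullback.fst f (g i))).obj F) x') →
    FlatMod.IsFlatOverAt f F x := by
  classical
  intro hyp
  obtain ⟨hqc, hft⟩ := hF
  haveI : F.IsQuasicoherent := hqc
  haveI : SheafOfModules.IsFiniteType (R := X.ringCatSheaf) F := hft
  -- base change to the local scheme of `Y` at `f x`
  let O : Type u := Y.presheaf.stalk (f x)
  let j : Spec (CommRingCat.of O) ⟶ Y := Y.fromSpecStalk (f x)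
  let pr₁ : pullback f j ⟶ X := pullback.fst f j
  let pr₂ : pullback f j ⟶ Spec (CommRingCat.of O) := pullback.snd f j
  have hjc : j (IsLocalRing.closedPoint O) = f x := Scheme.fromSpecStalk_closedPoint
  obtain ⟨xO, hxO1, hxO2⟩ := Scheme.Pullback.exists_preimage_pullback (f := f) (g := j) x
    (IsLocalRing.closedPoint O) hjc.symm
  refine Groth.Agent.H56.FamFlat.isFlatOverAt_of_isFlatOverAt_fromSpecStalk f F x xO hxO1 ?_
  set FO : (pullback f j).Modules := (Scheme.Modules.pullback pr₁).obj F with hFO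
  haveI : LocallyOfFiniteType pr₂ := inferInstanceAs (LocallyOfFiniteType (pullback.snd f j))
  change FlatMod.IsFlatOverAt pr₂ FO xO
  -- an affine chart
  obtain ⟨U, hU, hxU, -⟩ := exists_isAffineOpen_mem_and_subset (x := xO) (U := ⊤) trivial
  letI algAB : Algebra O Γ(pullback f j, U) := (Groth.Agent.H56.Flattening.baseHom pr₂ U).toAlgebra
  letI modAM : Module O Γ(FO, U) := Groth.Agent.H56.Flattening.baseModule pr₂ FO U
  haveI : IsScalarTower O Γ(pullback f j, U) Γ(FO, U) :=
    IsScalarTower.of_algebraMap_smul (fun r m => rfl)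
  haveI : Algebra.FiniteType O Γ(pullback f j, U) := by
    have h1 : (pr₂.appLE ⊤ U le_top).hom.FiniteType :=
      Scheme.Hom.finiteType_appLE pr₂ (isAffineOpen_top _) hU le_top
    have h2 : (Groth.Agent.H56.Flattening.baseHom pr₂ U).FiniteType :=
      (RingHom.finiteType_respectsIso.cancel_left_isIso
        (Scheme.ΓSpecIso (CommRingCat.of O)).inv (pr₂.appLE ⊤ U le_top)).mpr h1
    exact h2
  haveI : IsNoetherianRing O := inferInstanceAs (IsNoetherianRing (Y.presheaf.stalk (f x)))
  haveI : IsNoetherianRing Γ(pullback f j, U) := Algebra.FiniteType.isNoetherianRing O _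
  haveI : Module.Finite Γ(pullback f j, U) Γ(FO, U) :=
    Groth.Agent.H44.finite_sections_of_isFiniteType FO hU
  -- translate the conclusion
  rw [Groth.Agent.H70.FlatLocusGeo.isFlatOverAt_iff_flat_localizedModule pr₂ FO hU
    (isAffineOpen_top _) le_top hxU]
  letI algAR : Algebra O Γ(Spec (CommRingCat.of O), ⊤) :=
    (Scheme.ΓSpecIso (CommRingCat.of O)).inv.hom.toAlgebra
  letI algRB : Algebra Γ(Spec (CommRingCat.of O), ⊤) Γ(pullback f j, U) :=
    (pr₂.appLE ⊤ U le_top).hom.toAlgebra
  letI modRM : Module Γ(Spec (CommRingCat.of O), ⊤) Γ(FO, U) :=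
    Module.compHom _ (pr₂.appLE ⊤ U le_top).hom
  haveI : IsScalarTower Γ(Spec (CommRingCat.of O), ⊤) Γ(pullback f j, U) Γ(FO, U) :=
    IsScalarTower.of_algebraMap_smul (fun r m => rfl)
  haveI : IsScalarTower O Γ(Spec (CommRingCat.of O), ⊤) Γ(pullback f j, U) :=
    IsScalarTower.of_algebraMap_eq (fun _ => rfl)
  haveI : IsScalarTower O Γ(Spec (CommRingCat.of O), ⊤) Γ(FO, U) :=
    IsScalarTower.of_algebraMap_smul (fun r m => rfl)
  have hbij : Function.Bijective (algebraMap O Γ(Spec (CommRingCat.of O), ⊤)) :=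
    ConcreteCategory.bijective_of_isIso (Scheme.ΓSpecIso (CommRingCat.of O)).inv
  refine (Groth.Agent.H71.QCoh.flat_iff_of_bijective_algebraMap hbij).mpr ?_
  -- the prime of the chart lies over the maximal ideal
  have hq : (hU.primeIdealOf ⟨xO, hxU⟩).asIdeal.comap (algebraMap O Γ(pullback f j, U)) =
      IsLocalRing.maximalIdeal O := by
    have h1 : pr₂ (hU.fromSpec (hU.primeIdealOf ⟨xO, hxU⟩)) = IsLocalRing.closedPoint O := by
      rw [hU.fromSpec_primeIdealOf ⟨xO, hxU⟩]
      exact hxO2
    rw [Groth.Agent.H56.FamFlat.map_fromSpec pr₂ hU (isAffineOpen_top _) le_top,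
      Groth.Agent.H56.FamFlat.fromSpec_top_Spec] at h1
    exact congrArg PrimeSpectrum.asIdeal h1
  have hC : (IsLocalRing.maximalIdeal O).map
      (algebraMap O (Localization (hU.primeIdealOf ⟨xO, hxU⟩).asIdeal.primeCompl)) ≤
      Ideal.jacobson ⊥ := by
    rw [IsLocalRing.jacobson_eq_maximalIdeal ⊥ bot_ne_top,
      ← Localization.AtPrime.map_eq_maximalIdeal (I := (hU.primeIdealOf ⟨xO, hxU⟩).asIdeal),
      IsScalarTower.algebraMap_eq O Γ(pullback f j, U), ← Ideal.map_map, ← hq]
    exact Ideal.map_mono Ideal.map_comap_le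
  haveI : IsNoetherianRing (Localization (hU.primeIdealOf ⟨xO, hxU⟩).asIdeal.primeCompl) :=
    IsLocalization.isNoetherianRing (hU.primeIdealOf ⟨xO, hxU⟩).asIdeal.primeCompl _ inferInstance
  refine Groth.Agent.H56.FamFlat.flat_of_relations_adic
    (C := Localization (hU.primeIdealOf ⟨xO, hxU⟩).asIdeal.primeCompl) _ hC A φ htop ?_
  intro i k Λ v hv s c hc
  rcases Nat.eq_zero_or_pos k with hk | hk
  · subst hk
    intro l _
    rw [pow_zero, Ideal.one_eq_top]
    exact Submodule.mem_top
  -- the pasted pullback square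
  letI : Algebra O (A i) := (φ i).toAlgebra
  haveI : IsLocalHom (algebraMap O (A i)) := inferInstanceAs (IsLocalHom (φ i))
  let gi : Spec (CommRingCat.of (A i)) ⟶ Y := Spec.map (CommRingCat.ofHom (φ i)) ≫ j
  let g'' : pullback f gi ⟶ pullback f j :=
    pullback.lift (pullback.fst f gi) (pullback.snd f gi ≫ Spec.map (CommRingCat.ofHom (φ i)))
      (by rw [Category.assoc]; exact pullback.condition)
  have hg1 : g'' ≫ pr₁ = pullback.fst f gi := pullback.lift_fst _ _ _
  have hg2 : g'' ≫ pr₂ = pullback.snd f gi ≫ Spec.map (CommRingCat.ofHom (φ i)) :=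
    pullback.lift_snd _ _ _
  have hsq : IsPullback g'' (pullback.snd f gi) pr₂
      (Spec.map (CommRingCat.ofHom (algebraMap O (A i)))) := by
    refine IsPullback.of_right ?_ hg2 (IsPullback.of_hasPullback f j)
    rw [hg1]
    exact IsPullback.of_hasPullback f gi
  have hIne : IsLocalRing.maximalIdeal (A i) ^ k ≠ ⊤ := by
    intro h
    have h1 : IsLocalRing.maximalIdeal (A i) ^ k ≤ IsLocalRing.maximalIdeal (A i) :=
      Ideal.pow_le_self (Nat.pos_iff_ne_zero.mp hk)
    rw [h] at h1
    exact (Ideal.IsPrime.ne_top (IsLocalRing.maximalIdeal.isMaximal (A i)).isPrime)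
      (top_le_iff.mp h1)
  refine Groth.Agent.H56.FamFlat.relation_mem_of_isFlatOverAt_pullback pr₂ g''
    (pullback.snd f gi) hsq FO hU hxU rfl ?_ (IsLocalRing.maximalIdeal (A i) ^ k) hIne
    v hv s c hc
  intro x' hx'1 hx'2
  have hfst : pullback.fst f gi x' = x := by
    rw [← hg1, Scheme.Hom.comp_apply, hx'1]
    exact hxO1
  have h1 := hyp i x' hfst hx'2
  let iso : (Scheme.Modules.pullback (pullback.fst f gi)).obj F ≅
      (Scheme.Modules.pullback g'').obj FO :=
    ((Scheme.Modules.pullbackCongr hg1).app F).symm ≪≫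
      ((Scheme.Modules.pullbackComp g'' pr₁).app F).symm
  exact Groth.Agent.H70.RelFlatBC.isFlatOverAt_of_iso _ iso x' h1

end Groth.Agent.S4857
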