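import Groth.Statements.S4859
import Mathlib.Tactic.TFAE

set_option autoImplicit false
universe u
open EGA43

namespace Groth.Agent.S4859

/-- Conditions a), a′), b) (quasi-homeomorphisms): for a continuous map f : X₀ → X the following are
equivalent: taking preimages is a bijection from the open subsets of X onto the open subsets of X₀;
taking preimages is a bijection from the closed subsets of X onto the closed subsets of X₀; the
topology of X₀ is induced from X through f and the image f(X₀) is very dense in X, in the sense that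
two open subsets of X with the same trace on f(X₀) coincide. -/
theorem result {X₀ X : Type u} [TopologicalSpace X₀] [TopologicalSpace X]
    (f : X₀ → X) (hf : Continuous f) :
    [Function.Bijective (fun U : TopologicalSpace.Opens X =>
        (⟨f ⁻¹' (U : Set X), U.isOpen.preimage hf⟩ : TopologicalSpace.Opens X₀)),
      Function.Bijective (fun F : TopologicalSpace.Closeds X =>
        (⟨f ⁻¹' (F : Set X), F.isClosed.preimage hf⟩ : TopologicalSpace.Closeds X₀)),
      Topology.IsInducing f ∧
        ∀ U V : Set X, IsOpen U → IsOpen V → U ∩ Set.range f = V ∩ Set.range f → U = V].TFAE := by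
  tfae_have 1 → 2 := by
    rintro ⟨hinj, hsurj⟩
    constructor
    · intro F F' hFF'
      have h1 : f ⁻¹' (F : Set X) = f ⁻¹' (F' : Set X) := congrArg (fun G : TopologicalSpace.Closeds X₀ => (G : Set X₀)) hFF'
      have h2 := @hinj ⟨(F : Set X)ᶜ, F.isClosed.isOpen_compl⟩ ⟨(F' : Set X)ᶜ, F'.isClosed.isOpen_compl⟩ (by
        apply TopologicalSpace.Opens.ext
        simp only [TopologicalSpace.Opens.coe_mk, Set.preimage_compl, h1])
      have h3 : (F : Set X)ᶜ = (F' : Set X)ᶜ := congrArg (fun G : TopologicalSpace.Opens X => (G : Set X)) h2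
      exact TopologicalSpace.Closeds.ext (compl_injective h3)
    · intro G
      obtain ⟨U, hU⟩ := hsurj ⟨(G : Set X₀)ᶜ, G.isClosed.isOpen_compl⟩
      have h1 : f ⁻¹' (U : Set X) = (G : Set X₀)ᶜ := congrArg (fun G : TopologicalSpace.Opens X₀ => (G : Set X₀)) hU
      refine ⟨⟨(U : Set X)ᶜ, U.isOpen.isClosed_compl⟩, ?_⟩
      apply TopologicalSpace.Closeds.ext
      simp only [TopologicalSpace.Closeds.coe_mk, Set.preimage_compl, h1, compl_compl]
  tfae_have 2 → 1 := by
    rintro ⟨hinj, hsurj⟩
    constructor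
    · intro F F' hFF'
      have h1 : f ⁻¹' (F : Set X) = f ⁻¹' (F' : Set X) := congrArg (fun G : TopologicalSpace.Opens X₀ => (G : Set X₀)) hFF'
      have h2 := @hinj ⟨(F : Set X)ᶜ, F.isOpen.isClosed_compl⟩ ⟨(F' : Set X)ᶜ, F'.isOpen.isClosed_compl⟩ (by
        apply TopologicalSpace.Closeds.ext
        simp only [TopologicalSpace.Closeds.coe_mk, Set.preimage_compl, h1])
      have h3 : (F : Set X)ᶜ = (F' : Set X)ᶜ := congrArg (fun G : TopologicalSpace.Closeds X => (G : Set X)) h2
      exact TopologicalSpace.Opens.ext (compl_injective h3)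
    · intro G
      obtain ⟨U, hU⟩ := hsurj ⟨(G : Set X₀)ᶜ, G.isOpen.isClosed_compl⟩
      have h1 : f ⁻¹' (U : Set X) = (G : Set X₀)ᶜ := congrArg (fun G : TopologicalSpace.Closeds X₀ => (G : Set X₀)) hU
      refine ⟨⟨(U : Set X)ᶜ, U.isClosed.isOpen_compl⟩, ?_⟩
      apply TopologicalSpace.Opens.ext
      simp only [TopologicalSpace.Opens.coe_mk, Set.preimage_compl, h1, compl_compl]
  tfae_have 1 → 3 := by
    rintro ⟨hinj, hsurj⟩
    constructor
    · rw [Topology.isInducing_iff_nhds]
      intro x
      apply le_antisymm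
      · exact hf.continuousAt.tendsto.le_comap
      · intro s hs
        obtain ⟨W, hWs, hW, hxW⟩ := mem_nhds_iff.mp hs
        obtain ⟨U, hU⟩ := hsurj ⟨W, hW⟩
        have h1 : f ⁻¹' (U : Set X) = W := congrArg (fun G : TopologicalSpace.Opens X₀ => (G : Set X₀)) hU
        rw [Filter.mem_comap]
        refine ⟨U, U.isOpen.mem_nhds ?_, ?_⟩
        · have : x ∈ f ⁻¹' (U : Set X) := h1 ▸ hxW
          exact this
        · rw [h1]; exact hWs
    · intro U V hU hV hUV
      have := @hinj ⟨U, hU⟩ ⟨V, hV⟩ (by
        apply TopologicalSpace.Opens.ext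
        simp only [TopologicalSpace.Opens.coe_mk]
        ext x
        have h1 : f x ∈ U ∩ Set.range f ↔ f x ∈ V ∩ Set.range f := by rw [hUV]
        simpa using h1)
      exact congrArg (fun G : TopologicalSpace.Opens X => (G : Set X)) this
  tfae_have 3 → 1 := by
    rintro ⟨hind, hvd⟩
    constructor
    · intro U V hUV
      have h1 : f ⁻¹' (U : Set X) = f ⁻¹' (V : Set X) := congrArg (fun G : TopologicalSpace.Opens X₀ => (G : Set X₀)) hUV
      apply TopologicalSpace.Opens.ext
      apply hvd _ _ U.isOpen V.isOpen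
      ext x
      constructor
      · rintro ⟨hxU, y, rfl⟩
        have : y ∈ f ⁻¹' (V : Set X) := h1 ▸ (show y ∈ f ⁻¹' (U : Set X) from hxU)
        exact ⟨this, y, rfl⟩
      · rintro ⟨hxV, y, rfl⟩
        have : y ∈ f ⁻¹' (U : Set X) := h1 ▸ (show y ∈ f ⁻¹' (V : Set X) from hxV)
        exact ⟨this, y, rfl⟩
    · intro W
      obtain ⟨U, hU, hUW⟩ := hind.isOpen_iff.mp W.isOpen
      exact ⟨⟨U, hU⟩, TopologicalSpace.Opens.ext hUW⟩
  tfae_finish

end Groth.Agent.S4859
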