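import Groth.Statements.S4860
import Mathlib.Tactic.TFAE
import Mathlib.RingTheory.Jacobson.Ring
import Mathlib.RingTheory.Localization.InvSubmonoid
import Mathlib.RingTheory.Localization.Integral
import Mathlib.RingTheory.Algebraic.Integral
import Mathlib.RingTheory.Spectrum.Prime.Topology

set_option autoImplicit false
universe u
open EGA43

namespace Groth.Agent.S4860

theorem step12 (B : Type u) [CommRing B] [IsDomain B]
    (h : ∃ f : B, f ≠ 0 ∧ IsField (Localization.Away f)) :
    Algebra.FiniteType B (FractionRing B) := by
  obtain ⟨f, hf, hfield⟩ := h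
  have hinj : Function.Injective (algebraMap B (Localization.Away f)) :=
    IsLocalization.injective (M := Submonoid.powers f) _
      (powers_le_nonZeroDivisors_of_noZeroDivisors hf)
  have hfr : IsFractionRing B (Localization.Away f) := by
    apply IsLocalization.of_le (Submonoid.powers f) (nonZeroDivisors B)
      (powers_le_nonZeroDivisors_of_noZeroDivisors hf)
    intro r hr
    have hr0 : r ≠ 0 := nonZeroDivisors.ne_zero hr
    have : algebraMap B (Localization.Away f) r ≠ 0 := by
      intro h0
      exact hr0 (hinj (h0.trans (map_zero _).symm))
    obtain ⟨b, hb⟩ := hfield.mul_inv_cancel this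
    exact IsUnit.of_mul_eq_one _ hb
  let e : Localization.Away f ≃ₐ[B] FractionRing B :=
    IsLocalization.algEquiv (nonZeroDivisors B) _ _
  exact Algebra.FiniteType.equiv inferInstance e

theorem step31 (B : Type u) [CommRing B] [IsDomain B]
    (h : ∃ (K : Type u) (_ : Field K) (_ : Algebra B K),
      Function.Injective (algebraMap B K) ∧ Algebra.FiniteType B K) :
    ∃ f : B, f ≠ 0 ∧ IsField (Localization.Away f) := by
  obtain ⟨K, _, _, hinj, hft⟩ := h
  -- K is algebraic over B
  letI : Algebra (FractionRing B) K := (IsFractionRing.lift hinj).toAlgebra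
  have : IsScalarTower B (FractionRing B) K :=
    IsScalarTower.of_algebraMap_eq (fun x => (IsFractionRing.lift_algebraMap hinj x).symm)
  have hft' : Algebra.FiniteType (FractionRing B) K :=
    Algebra.FiniteType.of_restrictScalars_finiteType B (FractionRing B) K
  have hfin : Module.Finite (FractionRing B) K :=
    finite_of_finite_type_of_isJacobsonRing (FractionRing B) K
  have halg' : Algebra.IsAlgebraic (FractionRing B) K := Algebra.IsAlgebraic.of_finite _ _
  have halg : Algebra.IsAlgebraic B K :=
    (IsFractionRing.comap_isAlgebraic_iff (A := B) (K := FractionRing B) (C := K)).mpr halg'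
  obtain ⟨s, hs⟩ := hft.out
  obtain ⟨y, hy0, hy⟩ := Algebra.IsAlgebraic.exists_integral_multiples B s
  refine ⟨y, hy0, ?_⟩
  have hyunit : IsUnit (algebraMap B K y) := by
    apply IsUnit.mk0
    intro h0
    exact hy0 (hinj (h0.trans (map_zero _).symm))
  letI : Algebra (Localization.Away y) K := (IsLocalization.Away.lift y hyunit).toAlgebra
  have : IsScalarTower B (Localization.Away y) K :=
    IsScalarTower.of_algebraMap_eq (fun x => (IsLocalization.Away.lift_eq y hyunit x).symm)
  have hinj' : Function.Injective (algebraMap (Localization.Away y) K) := by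
    change Function.Injective (IsLocalization.lift _)
    rw [IsLocalization.lift_injective_iff]
    intro a b
    constructor
    · intro hab
      have := IsLocalization.injective (M := Submonoid.powers y) (Localization.Away y)
        (powers_le_nonZeroDivisors_of_noZeroDivisors hy0) hab
      rw [this]
    · intro hab
      rw [hinj hab]
  have hint : Algebra.IsIntegral (Localization.Away y) K := by
    have hsub : ∀ z ∈ s, z ∈ (integralClosure (Localization.Away y) K).restrictScalars B := by
      intro z hz
      have h1 : IsIntegral (Localization.Away y) (y • z) := (hy z hz).tower_top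
      have h2 : z = algebraMap (Localization.Away y) K (IsLocalization.Away.invSelf y) * (y • z) := by
        rw [Algebra.smul_def, ← mul_assoc, IsScalarTower.algebraMap_apply B (Localization.Away y) K,
          ← map_mul, mul_comm (IsLocalization.Away.invSelf y)]
        rw [IsLocalization.Away.mul_invSelf, map_one, one_mul]
      change IsIntegral (Localization.Away y) z
      rw [h2]
      exact isIntegral_algebraMap.mul h1
    have htop : (integralClosure (Localization.Away y) K).restrictScalars B = ⊤ := by
      rw [eq_top_iff, ← hs]
      exact Algebra.adjoin_le hsub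
    constructor
    intro x
    have : x ∈ (integralClosure (Localization.Away y) K).restrictScalars B := by
      rw [htop]; exact Algebra.mem_top
    exact this
  exact isField_of_isIntegral_of_isField hinj' (Field.toIsField K)

theorem step14 (B : Type u) [CommRing B] [IsDomain B]
    (h : ∃ f : B, f ≠ 0 ∧ IsField (Localization.Away f)) :
    IsOpen ({⟨⊥, Ideal.bot_prime⟩} : Set (PrimeSpectrum B)) := by
  obtain ⟨f, hf, hfield⟩ := h
  have hinj : Function.Injective (algebraMap B (Localization.Away f)) :=
    IsLocalization.injective (M := Submonoid.powers f) _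
      (powers_le_nonZeroDivisors_of_noZeroDivisors hf)
  have : ({⟨⊥, Ideal.bot_prime⟩} : Set (PrimeSpectrum B)) = PrimeSpectrum.basicOpen f := by
    ext p
    simp only [Set.mem_singleton_iff, SetLike.mem_coe, PrimeSpectrum.mem_basicOpen]
    constructor
    · rintro rfl
      exact hf
    · intro hfp
      have hdisj : Disjoint (Submonoid.powers f : Set B) (p.asIdeal : Set B) := by
        rw [Set.disjoint_left]
        rintro _ ⟨n, rfl⟩ hn
        exact hfp (p.isPrime.mem_of_pow_mem n hn)
      have hprime := IsLocalization.isPrime_of_isPrime_disjoint (Submonoid.powers f)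
        (Localization.Away f) p.asIdeal p.isPrime hdisj
      have hcm := IsLocalization.under_map_of_isPrime_disjoint (Submonoid.powers f)
        (Localization.Away f) p.isPrime hdisj
      let _ : Field (Localization.Away f) := hfield.toField
      have hbot : Ideal.map (algebraMap B (Localization.Away f)) p.asIdeal = ⊥ := by
        rcases Ideal.eq_bot_or_top (Ideal.map (algebraMap B (Localization.Away f)) p.asIdeal) with h | h
        · exact h
        · exact absurd h hprime.ne_top
      rw [hbot, Ideal.under_def, Ideal.comap_bot_of_injective _ hinj] at hcm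
      exact PrimeSpectrum.ext hcm.symm
  rw [this]
  exact (PrimeSpectrum.basicOpen f).isOpen

theorem step41 (B : Type u) [CommRing B] [IsDomain B]
    (h : IsOpen ({⟨⊥, Ideal.bot_prime⟩} : Set (PrimeSpectrum B))) :
    ∃ f : B, f ≠ 0 ∧ IsField (Localization.Away f) := by
  obtain ⟨U, ⟨f, rfl⟩, hbotU, hU⟩ := PrimeSpectrum.isTopologicalBasis_basic_opens.exists_subset_of_mem_open
    (Set.mem_singleton (⟨⊥, Ideal.bot_prime⟩ : PrimeSpectrum B)) h
  have hf : f ≠ 0 := by
    intro h0
    have : f ∉ (⊥ : Ideal B) := hbotU
    exact this (h0 ▸ Ideal.zero_mem _)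
  refine ⟨f, hf, ?_⟩
  have hdom : IsDomain (Localization.Away f) :=
    IsLocalization.isDomain_localization (powers_le_nonZeroDivisors_of_noZeroDivisors hf)
  by_contra hnf
  obtain ⟨m, hm0, hm⟩ := Ring.exists_maximal_of_not_isField hnf
  have hmprime := hm.isPrime
  let p : PrimeSpectrum B := ⟨m.under B, inferInstance⟩
  have hfp : p ∈ (PrimeSpectrum.basicOpen f : Set (PrimeSpectrum B)) := by
    intro hfm
    have hfm' : algebraMap B (Localization.Away f) f ∈ m := hfm
    have hunit : IsUnit (algebraMap B (Localization.Away f) f) :=
      IsLocalization.map_units _ (⟨f, Submonoid.mem_powers f⟩ : Submonoid.powers f)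
    exact hm.ne_top (Ideal.eq_top_of_isUnit_mem _ hfm' hunit)
  have hp : p = ⟨⊥, Ideal.bot_prime⟩ := hU hfp
  have hunder : m.under B = ⊥ := congrArg PrimeSpectrum.asIdeal hp
  apply hm0
  rw [← IsLocalization.map_under (Submonoid.powers f) (Localization.Away f) m, hunder, Ideal.map_bot]

/-- For an integral domain B the following are equivalent: a) the localization B_f is a field for some
nonzero f; b) the fraction field of B is a finitely generated B-algebra; c) there is a field
containing B (an injective algebra map from B) which is a finitely generated B-algebra; d) the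
generic point of Spec B is open. -/
theorem result (B : Type u) [CommRing B] [IsDomain B] :
    [∃ f : B, f ≠ 0 ∧ IsField (Localization.Away f),
      Algebra.FiniteType B (FractionRing B),
      ∃ (K : Type u) (_ : Field K) (_ : Algebra B K), Function.Injective (algebraMap B K) ∧ Algebra.FiniteType B K,
      IsOpen ({⟨⊥, Ideal.bot_prime⟩} : Set (PrimeSpectrum B))].TFAE := by
  tfae_have 1 → 2 := step12 B
  tfae_have 2 → 3 := fun h => ⟨FractionRing B, inferInstance, inferInstance,
    IsFractionRing.injective B (FractionRing B), h⟩
  tfae_have 3 → 1 := step31 B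
  tfae_have 1 → 4 := step14 B
  tfae_have 4 → 1 := step41 B
  tfae_finish

end Groth.Agent.S4860
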