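import Groth.Statements.S4862
import Mathlib.Tactic.TFAE
import Mathlib.RingTheory.Jacobson.Ring
import Mathlib.RingTheory.Localization.InvSubmonoid

set_option autoImplicit false
universe u
open EGA43

namespace Groth.Agent.S4862

theorem step32 (A : Type u) [CommRing A]
    (h : ∀ (K : Type u) [Field K] [Algebra A K], Algebra.FiniteType A K → Module.Finite A K) :
    ∀ (p : Ideal A) [p.IsPrime], ¬ p.IsMaximal → ∀ f : A ⧸ p, f ≠ 0 →
      ¬ IsField (Localization.Away f) := by
  intro p hp hpmax f hf hfield
  let _ : Field (Localization.Away f) := hfield.toField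
  have hft : Algebra.FiniteType A (Localization.Away f) := inferInstance
  have hfin : Module.Finite A (Localization.Away f) := h _ hft
  have hint : Algebra.IsIntegral A (Localization.Away f) := inferInstance
  have hint' : Algebra.IsIntegral (A ⧸ p) (Localization.Away f) :=
    Algebra.IsIntegral.tower_top (R := A)
  have hinj : Function.Injective (algebraMap (A ⧸ p) (Localization.Away f)) := by
    apply IsLocalization.injective (M := Submonoid.powers f)
    exact powers_le_nonZeroDivisors_of_noZeroDivisors hf
  have hfld : IsField (A ⧸ p) := isField_of_isIntegral_of_isField hinj hfield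
  exact hpmax (Ideal.Quotient.maximal_of_isField p hfld)

theorem step21 (A : Type u) [CommRing A]
    (h : ∀ (p : Ideal A) [p.IsPrime], ¬ p.IsMaximal → ∀ f : A ⧸ p, f ≠ 0 →
      ¬ IsField (Localization.Away f)) : IsJacobsonRing A := by
  rw [isJacobsonRing_iff_prime_eq]
  intro P hP
  apply le_antisymm _ Ideal.le_jacobson
  intro x hx
  by_contra hxP
  -- Zorn: an ideal maximal among those containing P and disjoint from powers of x
  have hdisj : Disjoint (P : Set A) (Submonoid.powers x) := by
    rw [Set.disjoint_right]
    rintro _ ⟨n, rfl⟩ hn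
    exact hxP (hP.mem_of_pow_mem n hn)
  obtain ⟨Q, hPQ, hQ⟩ := zorn_le_nonempty₀ {p : Ideal A | Disjoint (p : Set A) (Submonoid.powers x)}
    (fun c hc hc' y hy => by
      refine ⟨sSup c, Set.disjoint_left.mpr fun z hz => ?_, fun _ => le_sSup⟩
      have hne : c.Nonempty := ⟨y, hy⟩
      have : Nonempty c := hne.to_subtype
      have ⟨p, hp⟩ := (Submodule.mem_iSup_of_directed _ hc'.directed).mp (sSup_eq_iSup' c ▸ hz)
      exact Set.disjoint_left.mp (hc p.2) hp) P hdisj
  have hQprime : Q.IsPrime :=
    Ideal.isPrime_of_maximally_disjoint _ _ hQ.1 (fun _ => hQ.not_prop_of_gt)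
  have hxQ : x ∉ Q := fun hxQ => Set.disjoint_left.mp hQ.1 hxQ (Submonoid.mem_powers x)
  have hQmax : Q.IsMaximal := by
    by_contra hQmax
    have hx0 : (Ideal.Quotient.mk Q x) ≠ 0 := fun h0 => hxQ (Ideal.Quotient.eq_zero_iff_mem.mp h0)
    have hnf := h Q hQmax _ hx0
    have hdom : IsDomain (Localization.Away (Ideal.Quotient.mk Q x)) :=
      IsLocalization.isDomain_localization
        (powers_le_nonZeroDivisors_of_noZeroDivisors hx0)
    obtain ⟨I, hIbot, hItop⟩ := Ring.not_isField_iff_exists_ideal_bot_lt_and_lt_top.mp hnf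
    obtain ⟨m, hm, hIm⟩ := Ideal.exists_le_maximal I hItop.ne
    -- contraction of m to A
    let Q' : Ideal A := (m.comap (algebraMap (A ⧸ Q) (Localization.Away (Ideal.Quotient.mk Q x)))).comap
      (Ideal.Quotient.mk Q)
    have hQ'prime : Q'.IsPrime := by
      have := hm.isPrime
      exact Ideal.comap_isPrime _ _
    have hQQ' : Q ≤ Q' := by
      intro a ha
      change algebraMap (A ⧸ Q) _ (Ideal.Quotient.mk Q a) ∈ m
      rw [Ideal.Quotient.eq_zero_iff_mem.mpr ha, map_zero]
      exact zero_mem _
    have hxQ' : Disjoint (Q' : Set A) (Submonoid.powers x) := by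
      rw [Set.disjoint_right]
      rintro _ ⟨n, rfl⟩ hn
      have hxm : x ∈ Q' := hQ'prime.mem_of_pow_mem n hn
      have hxm' : algebraMap (A ⧸ Q) (Localization.Away (Ideal.Quotient.mk Q x))
          (Ideal.Quotient.mk Q x) ∈ m := hxm
      have hunit : IsUnit (algebraMap (A ⧸ Q) (Localization.Away (Ideal.Quotient.mk Q x))
          (Ideal.Quotient.mk Q x)) :=
        IsLocalization.map_units _ (⟨_, Submonoid.mem_powers _⟩ : Submonoid.powers (Ideal.Quotient.mk Q x))
      exact hm.ne_top (Ideal.eq_top_of_isUnit_mem _ hxm' hunit)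
    have hne : Q ≠ Q' := by
      intro heq
      -- then comap of m to A/Q is zero, so m = ⊥
      have hcomap : m.comap (algebraMap (A ⧸ Q) (Localization.Away (Ideal.Quotient.mk Q x))) = ⊥ := by
        rw [eq_bot_iff]
        intro y hy
        obtain ⟨a, rfl⟩ := Ideal.Quotient.mk_surjective y
        have : a ∈ Q' := hy
        rw [← heq] at this
        rw [Ideal.mem_bot]
        exact Ideal.Quotient.eq_zero_iff_mem.mpr this
      have hmbot : m = ⊥ := by
        rw [← IsLocalization.map_under (Submonoid.powers (Ideal.Quotient.mk Q x))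
          (Localization.Away (Ideal.Quotient.mk Q x)) m, Ideal.under_def, hcomap, Ideal.map_bot]
      rw [hmbot] at hIm
      exact hIbot.ne' (le_bot_iff.mp hIm)
    exact hQ.not_prop_of_gt (lt_of_le_of_ne hQQ' hne) hxQ'
  have : x ∈ Q := by
    rw [Ideal.jacobson, Ideal.mem_sInf] at hx
    exact hx ⟨hPQ, hQmax⟩
  exact hxQ this

/-- For a commutative ring A the following are equivalent: a) A is a Jacobson ring; b) for every prime
ideal p of A which is not maximal and every nonzero f of B = A/p, the localization B_f is not a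
field; b′) every finitely generated A-algebra which is a field is a finite A-module. -/
theorem result (A : Type u) [CommRing A] :
    [IsJacobsonRing A,
      ∀ (p : Ideal A) [p.IsPrime], ¬ p.IsMaximal → ∀ f : A ⧸ p, f ≠ 0 → ¬ IsField (Localization.Away f),
      ∀ (K : Type u) [Field K] [Algebra A K], Algebra.FiniteType A K → Module.Finite A K].TFAE := by
  tfae_have 1 → 3 := by
    intro h K _ _ hft
    exact finite_of_finite_type_of_isJacobsonRing A K
  tfae_have 3 → 2 := step32 A
  tfae_have 2 → 1 := step21 A
  tfae_finish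

end Groth.Agent.S4862
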