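import Groth.Statements.S4864
-- import your own Groth.Agent.* helpers here
import Groth.Agent.H70.FlatLocusGeo.Main
import Groth.Agent.H70.SpecClosure.Main

set_option autoImplicit false
universe u
open EGA43

namespace Groth.Agent.S4864

open AlgebraicGeometry CategoryTheory Limits in
/-- Let f : X ⟶ Y and g : Y ⟶ Z be morphisms of finite presentation and F a quasi-coherent O_X-module of
finite presentation. Then the set U of points y of Y such that, for every generization y' of y, F is
(f ≫ g)-flat at every point of X above y', is open in Y. -/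
theorem result {X Y Z : Scheme.{u}} (f : X ⟶ Y) (g : Y ⟶ Z)
    [LocallyOfFinitePresentation f] [QuasiCompact f] [QuasiSeparated f]
    [LocallyOfFinitePresentation g] [QuasiCompact g] [QuasiSeparated g]
    (F : X.Modules) [Coh.IsQCoh F] (hF : CohB1.IsFP F) :
    IsOpen {y : Y | ∀ y' : Y, y' ⤳ y → ∀ x : X, f x = y' → FlatMod.IsFlatOverAt (f ≫ g) F x} := by
  haveI : SheafOfModules.IsFinitePresentation (R := X.ringCatSheaf) F := hF
  have hopen : IsOpen {x : X | FlatMod.IsFlatOverAt (f ≫ g) F x} :=
    Groth.Agent.H70.FlatLocusGeo.isOpen_setOf_isFlatOverAt (f ≫ g) F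
  have hT : IsClosed {x : X | FlatMod.IsFlatOverAt (f ≫ g) F x}ᶜ := hopen.isClosed_compl
  have hcl := Groth.Agent.H70.SpecClosure.isClosed_setOf_exists_specializes f hT
  have heq : {y : Y | ∀ y' : Y, y' ⤳ y → ∀ x : X, f x = y' → FlatMod.IsFlatOverAt (f ≫ g) F x} =
      {y : Y | ∃ x ∈ {x : X | FlatMod.IsFlatOverAt (f ≫ g) F x}ᶜ, f x ⤳ y}ᶜ := by
    ext y
    simp only [Set.mem_setOf_eq, Set.mem_compl_iff, not_exists, not_and]
    constructor
    · intro h x hx hxy
      exact hx (h (f x) hxy x rfl)
    · intro h y' hy' x hxy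
      by_contra hx
      exact h x hx (hxy ▸ hy')
  rw [heq]
  exact hcl.isOpen_compl

end Groth.Agent.S4864
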