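import Groth.Statements.S4869
import Groth.Agent.H56.GrFlat.Final
import Groth.Agent.H56.GrFlat.ModelJ
import Groth.Agent.H56.GrFlat.TensorForm

set_option autoImplicit false
set_option maxSynthPendingDepth 3
universe u
open TensorProduct
open EGA43

namespace Groth.Agent.S4869

attribute [local instance] MvPolynomial.algebraMvPolynomial

/-- Let A₀ be a commutative ring, (A_i) a directed system of A₀-algebras with colimit A, B₀ a finitely
presented A₀-algebra, J₀ a finitely generated ideal of B₀ and M₀ a finitely presented B₀-module; put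
M = A ⊗_{A₀} M₀ and J = J₀B, and likewise M_i, J_i over each A_i. Then the associated graded module
gr_J(M) = ⊕_k J^k M / J^{k+1} M is flat over A if and only if, for some index i, gr_{J_i}(M_i) is
flat over A_i. Flatness of the graded module is expressed through the equivalent condition that
every truncation M / J^k M (k ≥ 0) is flat (the pieces J^k M / J^{k+1} M are the kernels of the
surjections M / J^{k+1} M → M / J^k M), and J^k M is realised as the image of A ⊗_{A₀} J₀^k M₀ in A
⊗_{A₀} M₀. (The published statement also asserts that the canonical maps from gr_{J_i}(M_i) ⊗_{A_i}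
A to gr_J(M) are then bijective; this row states only the equivalence.) -/
theorem result {A₀ : Type u} [CommRing A₀]
    {ι : Type u} [Preorder ι] (G : ι → Type u) [∀ i, CommRing (G i)] [∀ i, Algebra A₀ (G i)]
    (g : ∀ i j, i ≤ j → G i →ₐ[A₀] G j)
    (A : Type u) [CommRing A] [Algebra A₀ A] [∀ i, Algebra (G i) A] [∀ i, IsScalarTower A₀ (G i) A]
    (hcolim : FlatCA.IsDirectedColimitRing G (fun i j h => (g i j h).toRingHom) A)
    {B₀ : Type u} [CommRing B₀] [Algebra A₀ B₀] [Algebra.FinitePresentation A₀ B₀]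
    (J₀ : Ideal B₀) (hJ₀ : J₀.FG)
    (M₀ : Type u) [AddCommGroup M₀] [Module B₀ M₀] [Module A₀ M₀] [IsScalarTower A₀ B₀ M₀]
    [Module.FinitePresentation B₀ M₀] :
    (∀ k : ℕ, Module.Flat A ((A ⊗[A₀] M₀) ⧸
        LinearMap.range (((J₀ ^ k • (⊤ : Submodule B₀ M₀)).restrictScalars A₀).subtype.baseChange A))) ↔
      ∃ i : ι, ∀ k : ℕ, Module.Flat (G i) ((G i ⊗[A₀] M₀) ⧸
        LinearMap.range (((J₀ ^ k • (⊤ : Submodule B₀ M₀)).restrictScalars A₀).subtype.baseChange (G i))) := by
  classical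
  obtain ⟨Z, hZfg, 𝓜, φ, e, s, 𝔣, hφ, he, hJJ⟩ :=
    Groth.Agent.H56.GrFlat.exists_model_ideal A₀ B₀ M₀ J₀ hJ₀
  have : Algebra.FiniteType ℤ Z := (Subalgebra.fg_iff_finiteType Z).mp hZfg
  have : IsNoetherianRing Z := Algebra.FiniteType.isNoetherianRing ℤ Z
  -- comparison with the model over any `A₀`-algebra
  have key : ∀ (D : Type u) [CommRing D] [Algebra A₀ D],
      (∀ k : ℕ, Module.Flat D ((D ⊗[A₀] M₀) ⧸
        LinearMap.range (((J₀ ^ k • (⊤ : Submodule B₀ M₀)).restrictScalars A₀).subtype.baseChange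
          D))) ↔ ∀ k : ℕ, Module.Flat D (Groth.Agent.H56.GrFlat.Sys.QQ 𝓜 𝔣 D k) := fun D _ _ =>
    forall_congr' fun k => Module.Flat.equiv_iff
      (Groth.Agent.H56.GrFlat.Sys.tensorFormEquiv 𝓜 𝔣 φ hφ e he hJJ D k)
  rw [key A]
  constructor
  · intro hA
    obtain ⟨C, _, _, _, _, hft, hC⟩ :=
      Groth.Agent.H56.GrFlat.Sys.exists_finiteType_flat_all 𝓜 𝔣 A hA
    have : Algebra.FinitePresentation Z C := Algebra.FinitePresentation.of_finiteType.mp hft
    obtain ⟨j, ψ, -⟩ := Groth.Agent.H1.FlatLocus.exists_algHom_of_isDirectedColimitRing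
      (Z := Z) G (fun i j h => (g i j h).toRingHom)
      (fun i j h z => (g i j h).commutes (z : A₀)) A hcolim C (IsScalarTower.toAlgHom Z C A)
    refine ⟨j, (key (G j)).mpr fun k => ?_⟩
    letI : Algebra C (G j) := ψ.toRingHom.toAlgebra
    have : IsScalarTower Z C (G j) := IsScalarTower.of_algebraMap_eq fun z => (ψ.commutes z).symm
    have := hC k
    exact Groth.Agent.H56.GrFlat.Sys.flat_QQ_of_flat 𝓜 𝔣 C (G j) k
  · rintro ⟨i, hi⟩ k
    have := (key (G i)).mp hi k
    exact Groth.Agent.H56.GrFlat.Sys.flat_QQ_of_flat 𝓜 𝔣 (G i) A k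

end Groth.Agent.S4869
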