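import Groth.Statements.S4870
import Groth.Agent.H56.GrFlat.Final
import Groth.Agent.H56.GrFlat.Noeth
import Groth.Agent.H56.GrFlat.ModelJ
import Groth.Agent.H56.GrFlat.Transport

set_option autoImplicit false
set_option maxSynthPendingDepth 3
universe u
open EGA43

namespace Groth.Agent.S4870

attribute [local instance] MvPolynomial.algebraMvPolynomial

/-- Let A be a commutative ring, B a finitely presented A-algebra, J a finitely generated ideal of B and
M a finitely presented B-module. If the associated graded module gr_J(M) is flat over A, that is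
every J^k M / J^{k+1} M is a flat A-module, then M is flat over A at every point of V(J): for every
prime ideal q of B containing J, the localization M_q is a flat A-module. -/
theorem result {A B : Type u} [CommRing A] [CommRing B] [Algebra A B]
    [Algebra.FinitePresentation A B] (J : Ideal B) (hJ : J.FG)
    (M : Type u) [AddCommGroup M] [Module B M] [Module A M] [IsScalarTower A B M] [Module.FinitePresentation B M]
    (hgr : ∀ k : ℕ, Module.Flat A
      (↥(J ^ k • (⊤ : Submodule B M)) ⧸ Submodule.comap (J ^ k • (⊤ : Submodule B M)).subtype (J ^ (k + 1) • ⊤)))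
    (q : Ideal B) [q.IsPrime] (hq : J ≤ q) :
    Module.Flat A (LocalizedModule q.primeCompl M) := by
  classical
  obtain ⟨Z, hZfg, 𝓜, φ, e, s, 𝔣, hφ, he, hJJ⟩ :=
    Groth.Agent.H56.GrFlat.exists_model_ideal A B M J hJ
  have : Algebra.FiniteType ℤ Z := (Subalgebra.fg_iff_finiteType Z).mp hZfg
  have : IsNoetherianRing Z := Algebra.FiniteType.isNoetherianRing ℤ Z
  -- flatness of the truncations of `M`
  have hG : ∀ k, Module.Flat A (Groth.Agent.H56.GrFlat.Gk J M k) := fun k =>
    haveI := hgr k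
    Module.Flat.of_linearEquiv ((Groth.Agent.H56.GrFlat.grEquiv J M k).restrictScalars A).symm
  have hQ : ∀ k, Module.Flat A (Groth.Agent.H56.GrFlat.Qk J M k) :=
    Groth.Agent.H56.GrFlat.flat_Qk_of_flat_Gk J M A hG
  have hA : ∀ k, Module.Flat A (Groth.Agent.H56.GrFlat.Sys.QQ 𝓜 𝔣 A k) := fun k =>
    have : Module.Flat A (M ⧸ J ^ k • (⊤ : Submodule B M)) := hQ k
    Module.Flat.of_linearEquiv (Groth.Agent.H56.GrFlat.quotSemiEquiv φ e he hφ hJJ k)
  obtain ⟨C, _, _, _, _, hft, hC⟩ :=
    Groth.Agent.H56.GrFlat.Sys.exists_finiteType_flat_all 𝓜 𝔣 A hA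
  have : IsNoetherianRing C := Algebra.FiniteType.isNoetherianRing Z C
  -- the primes
  have hq' : Groth.Agent.H56.GrFlat.Sys.JJ 𝓜 𝔣 A ≤ q.comap φ :=
    Ideal.map_le_iff_le_comap.mp (hJJ ▸ hq)
  have hq'' : Groth.Agent.H56.GrFlat.Sys.JJ 𝓜 𝔣 C ≤
      (q.comap φ).comap (algebraMap (𝓜.P C) (𝓜.P A)) := by
    rw [← Ideal.map_le_iff_le_comap, Groth.Agent.H56.GrFlat.Sys.map_JJ]
    exact hq'
  have h1 : Module.Flat C (LocalizedModule
      ((q.comap φ).comap (algebraMap (𝓜.P C) (𝓜.P A))).primeCompl (𝓜.Mod C)) :=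
    Groth.Agent.H56.GrFlat.Sys.flat_localizedModule_of_flat_QQ 𝓜 𝔣 C hC _ hq''
  have h2 : Module.Flat A (LocalizedModule (q.comap φ).primeCompl (𝓜.Mod A)) :=
    𝓜.flat_localizedModule_of_comap C A (q.comap φ)
  exact (Groth.Agent.H1.FlatLocus.flat_localizedModule_iff_of_surjective φ hφ e he q).mp h2

end Groth.Agent.S4870
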