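import Groth.Statements.S4874
import Mathlib.AlgebraicGeometry.Morphisms.Flat

set_option autoImplicit false
universe u
open CategoryTheory AlgebraicGeometry
open EGA43

namespace Groth.Agent.S4874

theorem stalkMap_injective_of_flat {X Y : Scheme.{u}} (f : X ⟶ Y) [Flat f] (x : X) :
    Function.Injective (f.stalkMap x).hom := by
  algebraize [(f.stalkMap x).hom]
  have : Module.FaithfullyFlat (Y.presheaf.stalk (f x)) (X.presheaf.stalk x) :=
    @Module.FaithfullyFlat.of_flat_of_isLocalHom _ _ _ _ _ _ _
      (Flat.stalkMap f x) (f.toLRSHom.prop x)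
  exact ‹RingHom.FaithfullyFlat _›.injective

/-- Let (f_i : Z_i ⟶ X) be a family of morphisms, g : X' ⟶ X a faithfully flat morphism and f'_i : Z_i
×_X X' ⟶ X' the base changes. If the family (f'_i) is schematically dominant, then so is the family
(f_i). (Schematically dominant: a section of the structure sheaf over an open whose pullback along
every member of the family vanishes is zero.) -/
theorem result {X X' : Scheme.{u}} {ι : Type u} (Z : ι → Scheme.{u})
    (f : ∀ i, Z i ⟶ X) (g : X' ⟶ X) [Flat g] [Surjective g]
    (h : (∀ (V : (X').Opens) (t : Γ(X', V)), (∀ i, (Limits.pullback.snd (f i) g).app V t = 0) → t = 0)) :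
    (∀ (V : (X).Opens) (t : Γ(X, V)), (∀ i, (f i).app V t = 0) → t = 0) := by
  intro V t ht
  have h1 : g.app V t = 0 := by
    apply h
    intro i
    have hcomp : Limits.pullback.snd (f i) g ≫ g = Limits.pullback.fst (f i) g ≫ f i :=
      Limits.pullback.condition.symm
    have h2 := Scheme.Hom.congr_app hcomp V
    have e1 : (Limits.pullback.snd (f i) g ≫ g).app V =
        g.app V ≫ (Limits.pullback.snd (f i) g).app (g ⁻¹ᵁ V) := Scheme.Hom.comp_app _ _ _
    have e2 : (Limits.pullback.fst (f i) g ≫ f i).app V =
        (f i).app V ≫ (Limits.pullback.fst (f i) g).app ((f i) ⁻¹ᵁ V) := Scheme.Hom.comp_app _ _ _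
    have e2' : (Limits.pullback.fst (f i) g ≫ f i).app V t = 0 := by
      have e3 : (Limits.pullback.fst (f i) g ≫ f i).app V t =
          (Limits.pullback.fst (f i) g).app ((f i) ⁻¹ᵁ V) ((f i).app V t) := by
        rw [e2]
        rfl
      rw [e3, ht i, map_zero]
      rfl
    have h3 : (Limits.pullback.snd (f i) g ≫ g).app V t = 0 := by
      rw [h2, CommRingCat.comp_apply, e2', map_zero]
    have h4 : (Limits.pullback.snd (f i) g ≫ g).app V t =
        (Limits.pullback.snd (f i) g).app (g ⁻¹ᵁ V) (g.app V t) := by
      rw [e1]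
      rfl
    rw [← h4]
    exact h3
  apply TopCat.Presheaf.section_ext X.sheaf V
  intro x hx
  obtain ⟨x', rfl⟩ := ‹Surjective g›.surj x
  change X.presheaf.germ V (g x') hx t = X.presheaf.germ V (g x') hx 0
  rw [map_zero]
  have hinj := stalkMap_injective_of_flat g x'
  apply (injective_iff_map_eq_zero _).mp hinj
  have h4 := Scheme.Hom.germ_stalkMap_apply g V x' hx t
  rw [h1, map_zero] at h4
  exact h4

end Groth.Agent.S4874
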