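import Groth.Statements.S4878
import Mathlib.LinearAlgebra.DirectSum.Finsupp

set_option autoImplicit false
universe u
open TensorProduct
open EGA43

namespace Groth.Agent.S4878

/-- Let A be a commutative ring, (u_i : M → M_i) a family of A-linear maps whose kernels have zero
intersection, and N a projective A-module. Then the kernels of the maps u_i ⊗ 1 : M ⊗_A N → M_i ⊗_A
N have zero intersection. -/
theorem result {A : Type u} [CommRing A]
    {M : Type u} [AddCommGroup M] [Module A M] {ι : Type u} (M' : ι → Type u)
    [∀ i, AddCommGroup (M' i)] [∀ i, Module A (M' i)] (u : ∀ i, M →ₗ[A] M' i)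
    (hu : ⨅ i, LinearMap.ker (u i) = ⊥)
    (N : Type u) [AddCommGroup N] [Module A N] [Module.Projective A N] :
    ⨅ i, LinearMap.ker ((u i).rTensor N) = ⊥ := by
  classical
  obtain ⟨s, hs⟩ := Module.projective_def'.1 (inferInstance : Module.Projective A N)
  set r : (N →₀ A) →ₗ[A] N := Finsupp.linearCombination A id with hr
  rw [eq_bot_iff]
  intro x hx
  rw [Submodule.mem_iInf] at hx
  rw [Submodule.mem_bot]
  -- move to `M ⊗ (N →₀ A)`
  set y : M ⊗[A] (N →₀ A) := (s.lTensor M) x with hy
  have hxy : x = (r.lTensor M) y := by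
    rw [hy, ← LinearMap.comp_apply, ← LinearMap.lTensor_comp, hs, LinearMap.lTensor_id,
      LinearMap.id_apply]
  have hyi : ∀ i, ((u i).rTensor (N →₀ A)) y = 0 := by
    intro i
    have h1 : ((u i).rTensor (N →₀ A)) y = (s.lTensor (M' i)) (((u i).rTensor N) x) := by
      rw [hy, ← LinearMap.comp_apply, ← LinearMap.comp_apply, LinearMap.rTensor_comp_lTensor,
        LinearMap.lTensor_comp_rTensor]
    rw [h1, LinearMap.mem_ker.1 (hx i), map_zero]
  -- naturality of `finsuppScalarRight`
  have hnat : ∀ (i : ι) (z : M ⊗[A] (N →₀ A)) (n : N),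
      TensorProduct.finsuppScalarRight A A (M' i) N (((u i).rTensor (N →₀ A)) z) n =
        u i (TensorProduct.finsuppScalarRight A A M N z n) := by
    intro i z n
    induction z using TensorProduct.induction_on with
    | zero => simp
    | tmul m p => simp
    | add z₁ z₂ h₁ h₂ => simp only [map_add, Finsupp.add_apply, h₁, h₂]
  have hzero : TensorProduct.finsuppScalarRight A A M N y = 0 := by
    ext n
    have hmem : TensorProduct.finsuppScalarRight A A M N y n ∈ ⨅ i, LinearMap.ker (u i) := by
      rw [Submodule.mem_iInf]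
      intro i
      rw [LinearMap.mem_ker, ← hnat, hyi i, map_zero, Finsupp.zero_apply]
    rw [hu, Submodule.mem_bot] at hmem
    rw [hmem, Finsupp.zero_apply]
  have hy0 : y = 0 := (TensorProduct.finsuppScalarRight A A M N).injective (by rw [hzero, map_zero])
  rw [hxy, hy0, map_zero]

end Groth.Agent.S4878
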