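import Groth.Statements.S4880
import Groth.Agent.H25.FiniteSpec

set_option autoImplicit false
universe u
open CategoryTheory AlgebraicGeometry
open EGA43

namespace Groth.Agent.S4880

/-- For a Noetherian irreducible scheme X the following are equivalent: a) the generic point of X is an
isolated point; b) the underlying set of X is finite; c) X has dimension at most 1 and finitely many
closed points. -/
theorem result (X : Scheme.{u}) [IsNoetherian X]
    [IrreducibleSpace X] :
    [IsOpen ({genericPoint X} : Set X),
      Finite X,
      topologicalKrullDim X ≤ 1 ∧ {x : X | IsClosed ({x} : Set X)}.Finite].TFAE := by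
  have hη : closure ({genericPoint X} : Set X) = Set.univ := genericPoint_spec X
  have hirr : ∀ x : X, IsIrreducible (closure ({x} : Set X)) := fun x =>
    isIrreducible_singleton.closure
  tfae_have 1 → 3 := by
    intro h
    obtain ⟨hfin, hinc⟩ := Groth.Agent.H25.finite_closure_of_isOpen_singleton X (genericPoint X)
      {genericPoint X} h (by rw [hη, Set.inter_univ])
    rw [hη] at hfin hinc
    refine ⟨?_, hfin.subset (Set.subset_univ _)⟩
    change Order.krullDim (TopologicalSpace.IrreducibleCloseds X) ≤ 1
    rw [Order.krullDim_le_one_iff]
    intro Z
    obtain ⟨z, hz⟩ := QuasiSober.sober Z.isIrreducible Z.isClosed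
    by_cases hzη : z = genericPoint X
    · right
      intro W _
      rw [← SetLike.coe_subset_coe, ← hz.def, hzη, hη]
      exact Set.subset_univ _
    · left
      intro W hWZ
      obtain ⟨w, hw⟩ := QuasiSober.sober W.isIrreducible W.isClosed
      rw [← SetLike.coe_subset_coe, ← hz.def, ← hw.def] at hWZ ⊢
      have hzw : z ⤳ w := specializes_iff_mem_closure.2 (hWZ (subset_closure rfl))
      rw [hinc z w (Set.mem_univ _) hzη hzw]
  tfae_have 3 → 2 := by
    rintro ⟨hdim, hfin⟩
    have hsub : (Set.univ : Set X) ⊆ insert (genericPoint X) {x : X | IsClosed ({x} : Set X)} := by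
      intro x _
      by_cases hx : x = genericPoint X
      · exact hx ▸ Set.mem_insert _ _
      · right
        change Order.krullDim (TopologicalSpace.IrreducibleCloseds X) ≤ 1 at hdim
        rw [Order.krullDim_le_one_iff] at hdim
        obtain ⟨y, hy, hycl⟩ := IsClosed.exists_closed_singleton
          (isClosed_closure (s := ({x} : Set X))) ⟨x, subset_closure rfl⟩
        rcases hdim ⟨closure {x}, hirr x, isClosed_closure⟩ with hmin | hmax
        · have hle : (⟨closure {y}, hirr y, isClosed_closure⟩ : TopologicalSpace.IrreducibleCloseds X) ≤
              ⟨closure {x}, hirr x, isClosed_closure⟩ := by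
            rw [← SetLike.coe_subset_coe]
            exact closure_minimal (Set.singleton_subset_iff.2 hy) isClosed_closure
          have := hmin hle
          rw [← SetLike.coe_subset_coe] at this
          have hxy : x ∈ closure ({y} : Set X) := this (subset_closure rfl)
          rw [hycl.closure_eq, Set.mem_singleton_iff] at hxy
          rw [Set.mem_ofPred_eq, hxy]; exact hycl
        · exfalso
          have hle : (⟨closure {x}, hirr x, isClosed_closure⟩ : TopologicalSpace.IrreducibleCloseds X) ≤
              ⟨Set.univ, (IrreducibleSpace.isIrreducible_univ X), isClosed_univ⟩ := by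
            rw [← SetLike.coe_subset_coe]
            exact Set.subset_univ _
          have := hmax hle
          rw [← SetLike.coe_subset_coe] at this
          have hgx : IsGenericPoint x (Set.univ : Set X) :=
            Set.eq_univ_of_univ_subset this
          exact hx (hgx.eq (genericPoint_spec X))
    exact Set.finite_univ_iff.1 ((hfin.insert _).subset hsub)
  tfae_have 2 → 1 := by
    intro hfin
    have : ({genericPoint X} : Set X) = (⋃ x ∈ {x : X | x ≠ genericPoint X}, closure {x})ᶜ := by
      ext y
      simp only [Set.mem_singleton_iff, Set.mem_compl_iff, Set.mem_iUnion, Set.mem_ofPred_eq,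
        not_exists]
      constructor
      · rintro rfl x hx hmem
        have h1 : x ⤳ genericPoint X := specializes_iff_mem_closure.2 hmem
        exact hx (h1.antisymm (genericPoint_specializes x)).eq
      · intro h
        by_contra hy
        exact h y hy (subset_closure rfl)
    rw [this, isOpen_compl_iff]
    exact (Set.toFinite _).isClosed_biUnion fun _ _ => isClosed_closure
  tfae_finish

end Groth.Agent.S4880
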