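import Groth.Statements.S4881
import Groth.Agent.H25.Dim

set_option autoImplicit false
universe u
open CategoryTheory AlgebraicGeometry
open EGA43

namespace Groth.Agent.S4881
open Groth.Agent.H25 TopologicalSpace Topology

/-- Let X be a locally Noetherian scheme which is Jacobson, whose local rings are universally catenary,
and whose irreducible components X' are equidimensional in the sense that for every closed point x
of X' the dimension of X' equals the dimension of the set of generizations of x in X'. Then for
every dense open subset U of X, dim U = dim X. -/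
theorem result (X : Scheme.{u}) [IsLocallyNoetherian X] [JacobsonSpace X]
    (h2 : ∀ x : X, CAlg.IsUniversallyCatenary (X.presheaf.stalk x))
    (h3 : ∀ X' ∈ irreducibleComponents (X : Type u), ∀ x ∈ X', IsClosed ({x} : Set X) →
      topologicalKrullDim (↥X' : Type u) = topologicalKrullDim ↥{t : X | t ∈ X' ∧ t ⤳ x})
    (U : Set X) (hU : IsOpen U) (hd : Dense U) :
    topologicalKrullDim ↥U = topologicalKrullDim X := by
  apply le_antisymm (topologicalKrullDim_subspace_le X U)
  have hXN : ∀ x : X, ∃ V : Set X, IsOpen V ∧ x ∈ V ∧ NoetherianSpace V := by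
    intro x
    obtain ⟨_, ⟨V, hV, rfl⟩, hxV, -⟩ :=
      (X.isBasis_affineOpens).exists_subset_of_mem_open (Set.mem_univ x) isOpen_univ
    have : IsNoetherianRing Γ(X, V) := IsLocallyNoetherian.component_noetherian ⟨V, hV⟩
    exact ⟨V, V.2, hxV, noetherianSpace_of_isAffineOpen V hV⟩
  change Order.krullDim (IrreducibleCloseds X) ≤ _
  rw [Order.krullDim]
  apply iSup_le
  intro p
  obtain ⟨X', hX', hle⟩ :=
    exists_mem_irreducibleComponents_subset_of_isIrreducible (p.last : Set X) p.last.isIrreducible
  obtain ⟨o, ho, hone, hoX'⟩ := exists_isOpen_nonempty_subset_irreducibleComponent hXN X' hX'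
  obtain ⟨y, hyo, hyU⟩ := hd.inter_open_nonempty o ho hone
  -- closed point in the open set `U ∩ o`
  obtain ⟨x, ⟨hxU, hxo⟩, hxcl⟩ := nonempty_inter_closedPoints (Z := U ∩ o) ⟨y, hyU, hyo⟩
    (hU.inter ho).isLocallyClosed
  have hx := h3 X' hX' x (hoX' hxo) hxcl
  have h4 := length_le_topologicalKrullDim_of_last_le p X'
    (isClosed_of_mem_irreducibleComponents X' hX') hle
  have hGU : {t : X | t ∈ X' ∧ t ⤳ x} ⊆ U := fun t ht => ht.2.mem_open hU hxU
  have h5 : topologicalKrullDim ↥{t : X | t ∈ X' ∧ t ⤳ x} ≤ topologicalKrullDim ↥U :=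
    (IsEmbedding.inclusion hGU).isInducing.topologicalKrullDim_le
  exact h4.trans (hx ▸ h5)

end Groth.Agent.S4881
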