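import Groth.Statements.S4882
import Groth.Agent.H25.LQC

set_option autoImplicit false
universe u
open EGA43

namespace Groth.Agent.S4882

/-- Let X be a Jacobson space and Z a locally quasi-constructible subset of X, i.e. every point of X has
an open neighbourhood U such that U ∩ Z is a finite union of locally closed subsets of X. Then the
subspace Z is a Jacobson space, and a point of Z is closed in Z if and only if it is closed in X. -/
theorem result {X : Type u} [TopologicalSpace X] [JacobsonSpace X]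
    (Z : Set X)
    (hZ : ∀ x : X, ∃ U : Set X, IsOpen U ∧ x ∈ U ∧
      ∃ T : Set (Set X), T.Finite ∧ (∀ t ∈ T, IsLocallyClosed t) ∧ U ∩ Z = ⋃₀ T) :
    JacobsonSpace ↥Z ∧ ∀ z : ↥Z, IsClosed ({z} : Set ↥Z) ↔ IsClosed ({(z : X)} : Set X) := by
  have hZ' : Groth.Agent.H25.IsLQC Z := hZ
  have closed_iff : ∀ z : ↥Z, IsClosed ({z} : Set ↥Z) ↔ IsClosed ({(z : X)} : Set X) := by
    intro z
    constructor
    · intro hz
      obtain ⟨C, hC, e⟩ := isClosed_induced_iff.1 hz
      obtain ⟨L, hL, hzL, hLZ⟩ := hZ'.exists_locallyClosed_mem z.2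
      have : ({(z : X)} : Set X) = C ∩ L := by
        ext y
        constructor
        · rintro rfl
          refine ⟨?_, hzL⟩
          have : z ∈ Subtype.val ⁻¹' C := by rw [e]; rfl
          exact this
        · rintro ⟨hyC, hyL⟩
          have : (⟨y, hLZ hyL⟩ : ↥Z) ∈ Subtype.val ⁻¹' C := hyC
          rw [e] at this
          exact congrArg Subtype.val this
      apply isClosed_singleton_of_isLocallyClosed_singleton
      rw [this]
      exact hC.isLocallyClosed.inter hL
    · intro hz
      have : ({z} : Set ↥Z) = Subtype.val ⁻¹' {(z : X)} := by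
        ext y
        simp [Subtype.ext_iff]
      rw [this]
      exact hz.preimage continuous_subtype_val
  refine ⟨?_, closed_iff⟩
  rw [jacobsonSpace_iff_locallyClosed]
  intro L hne hL
  obtain ⟨L', hL', rfl⟩ := (Topology.IsInducing.subtypeVal.isLocallyClosed_iff).1 hL
  obtain ⟨y, hy⟩ := hne
  obtain ⟨M, hM, hyM, hMZ⟩ := hZ'.exists_locallyClosed_mem y.2
  obtain ⟨x, ⟨hxL', hxM⟩, hxc⟩ := nonempty_inter_closedPoints (Z := L' ∩ M) ⟨y.1, hy, hyM⟩
    (hL'.inter hM)
  exact ⟨⟨x, hMZ hxM⟩, hxL', (closed_iff ⟨x, hMZ hxM⟩).2 hxc⟩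

end Groth.Agent.S4882
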