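import Groth.Statements.S4883
import Groth.Agent.H25.FiniteSpec

set_option autoImplicit false
universe u
open CategoryTheory AlgebraicGeometry
open EGA43

namespace Groth.Agent.S4883

/-- Let X be a Noetherian scheme. Then the set of points x of X whose closure is finite is very dense in
X: every nonempty locally closed subset of X contains a point with finite closure. -/
theorem result (X : Scheme.{u}) [IsNoetherian X]
    (Z : Set X) (hZ : IsLocallyClosed Z) (hne : Z.Nonempty) :
    ∃ x ∈ Z, (closure ({x} : Set X)).Finite := by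
  obtain ⟨O, C, hO, hC, rfl⟩ := hZ
  have : CompactSpace ↥(O ∩ C) :=
    isCompact_iff_compactSpace.1 (TopologicalSpace.NoetherianSpace.isCompact (O ∩ C))
  have : Nonempty ↥(O ∩ C) := hne.to_subtype
  obtain ⟨z, -, hz⟩ := IsClosed.exists_closed_singleton (X := ↥(O ∩ C)) isClosed_univ
    Set.univ_nonempty
  obtain ⟨D, hD, hDz⟩ := isClosed_induced_iff.1 hz
  refine ⟨z.1, z.2, ?_⟩
  have hzD : z.1 ∈ D := by
    have : z ∈ Subtype.val ⁻¹' D := by rw [hDz]; rfl
    exact this
  have hOz : O ∩ closure ({z.1} : Set X) = {z.1} := by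
    apply Set.Subset.antisymm
    · rintro y ⟨hyO, hy⟩
      have hyC : y ∈ C := closure_minimal (Set.singleton_subset_iff.2 z.2.2) hC hy
      have hyD : y ∈ D := closure_minimal (Set.singleton_subset_iff.2 hzD) hD hy
      have : (⟨y, hyO, hyC⟩ : ↥(O ∩ C)) ∈ Subtype.val ⁻¹' D := hyD
      rw [hDz, Set.mem_singleton_iff] at this
      rw [Set.mem_singleton_iff, ← this]
    · rintro _ rfl
      exact ⟨z.2.1, subset_closure rfl⟩
  exact (Groth.Agent.H25.finite_closure_of_isOpen_singleton X z.1 O hO hOz).1

end Groth.Agent.S4883
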