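import Groth.Statements.S4885
import Mathlib.RingTheory.IntegralClosure.IsIntegralClosure.Basic
import Mathlib.RingTheory.IntegralClosure.Algebra.Basic
import Mathlib.RingTheory.Adjoin.FG

set_option autoImplicit false
universe u
open EGA43

namespace Groth.Agent.S4885

/-- Every finite algebra A' over a commutative ring A is a directed colimit (filtered inductive limit)
of A-algebras which are finite and of finite presentation over A. -/
theorem result (A A' : Type u) [CommRing A] [CommRing A']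
    [Algebra A A'] [Module.Finite A A'] :
    ∃ (ι : Type u) (_ : Preorder ι) (G : ι → Type u) (_ : ∀ i, CommRing (G i)) (_ : ∀ i, Algebra A (G i))
      (g : ∀ i j, i ≤ j → G i →ₐ[A] G j) (_ : ∀ i, Algebra (G i) A') (_ : ∀ i, IsScalarTower A (G i) A'),
      FlatCA.IsDirectedColimitRing G (fun i j h => (g i j h).toRingHom) A' ∧
        ∀ i, Module.Finite A (G i) ∧ Algebra.FinitePresentation A (G i) := by
  classical
  obtain ⟨s, hs⟩ := (Module.Finite.fg_top : (⊤ : Submodule A A').FG)
  let P := MvPolynomial (↥s) A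
  let φ : P →ₐ[A] A' := MvPolynomial.aeval (fun i : s => (i : A'))
  have hφ : Function.Surjective φ := by
    have hrange : Set.range (fun i : s => (i : A')) = (s : Set A') := by
      ext x; simp
    rw [← AlgHom.range_eq_top, ← Algebra.adjoin_range_eq_range_aeval, hrange, eq_top_iff]
    intro x _
    have : x ∈ Submodule.span A (s : Set A') := hs ▸ Submodule.mem_top
    exact Algebra.span_le_adjoin A _ this
  have hint : ∀ i : s, IsIntegral A (i : A') := fun i => Algebra.IsIntegral.isIntegral _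
  choose m hm_monic hm_eval using hint
  let M : s → P := fun i => Polynomial.aeval (MvPolynomial.X i : P) (m i)
  have hM : ∀ i, φ (M i) = 0 := by
    intro i
    change φ (Polynomial.aeval (MvPolynomial.X i : P) (m i)) = 0
    rw [← Polynomial.aeval_algHom_apply, MvPolynomial.aeval_X]
    exact hm_eval i
  let K : Ideal P := RingHom.ker φ.toRingHom
  let ι := {J : Ideal P // J.FG ∧ J ≤ K ∧ ∀ i, M i ∈ J}
  -- the base index
  have hJ₀ : (Ideal.span (Set.range M)).FG ∧ Ideal.span (Set.range M) ≤ K ∧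
      ∀ i, M i ∈ Ideal.span (Set.range M) := by
    refine ⟨⟨Finset.univ.image M, by simp⟩, ?_, fun i => Ideal.subset_span ⟨i, rfl⟩⟩
    rw [Ideal.span_le]
    rintro _ ⟨i, rfl⟩
    exact hM i
  refine ⟨ι, inferInstance, fun J => P ⧸ J.1, fun J => inferInstance, fun J => inferInstance,
    fun J₁ J₂ h => Ideal.Quotient.factorₐ A h,
    fun J => (Ideal.Quotient.lift J.1 φ.toRingHom (fun a ha => J.2.2.1 ha)).toAlgebra, ?_, ?_, ?_⟩
  · intro J
    let : Algebra (P ⧸ J.1) A' :=
      (Ideal.Quotient.lift J.1 φ.toRingHom (fun a ha => J.2.2.1 ha)).toAlgebra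
    exact IsScalarTower.of_algebraMap_eq fun a => (φ.commutes a).symm
  · refine ⟨⟨fun J₁ J₂ => ⟨⟨J₁.1 ⊔ J₂.1, Submodule.FG.sup J₁.2.1 J₂.2.1, sup_le J₁.2.2.1 J₂.2.2.1,
      fun i => Ideal.mem_sup_left (J₁.2.2.2 i)⟩,
      (le_sup_left : J₁.1 ≤ J₁.1 ⊔ J₂.1), (le_sup_right : J₂.1 ≤ J₁.1 ⊔ J₂.1)⟩⟩,
      ⟨⟨_, hJ₀⟩⟩, ?_, ?_, ?_, ?_, ?_⟩
    · intro J
      apply Ideal.Quotient.ringHom_ext
      exact RingHom.ext fun x => rfl
    · intro J₁ J₂ J₃ h₁₂ h₂₃
      apply Ideal.Quotient.ringHom_ext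
      exact RingHom.ext fun x => rfl
    · intro J₁ J₂ h
      apply Ideal.Quotient.ringHom_ext
      exact RingHom.ext fun x => rfl
    · intro a
      obtain ⟨p, rfl⟩ := hφ a
      exact ⟨⟨_, hJ₀⟩, Ideal.Quotient.mk _ p, rfl⟩
    · intro J x hx
      obtain ⟨p, rfl⟩ := Ideal.Quotient.mk_surjective x
      have hpK : p ∈ K := hx
      refine ⟨⟨J.1 ⊔ Ideal.span {p}, Submodule.FG.sup J.2.1 ⟨{p}, by simp⟩,
        sup_le J.2.2.1 ((Ideal.span_singleton_le_iff_mem _).2 hpK),
        fun i => Ideal.mem_sup_left (J.2.2.2 i)⟩,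
        (le_sup_left : J.1 ≤ J.1 ⊔ Ideal.span {p}), ?_⟩
      change Ideal.Quotient.mk _ p = 0
      rw [Ideal.Quotient.eq_zero_iff_mem]
      exact Ideal.mem_sup_right (Ideal.mem_span_singleton_self p)
  · intro J
    have hfp : Algebra.FinitePresentation A (P ⧸ J.1) := Algebra.FinitePresentation.quotient J.2.1
    refine ⟨?_, hfp⟩
    have hft : Algebra.FiniteType A (P ⧸ J.1) := inferInstance
    have hint : Algebra.IsIntegral A (P ⧸ J.1) := by
      rw [← integralClosure_eq_top_iff, eq_top_iff]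
      have hmap : (⊤ : Subalgebra A (P ⧸ J.1)) =
          (Algebra.adjoin A (Set.range (MvPolynomial.X : s → P))).map
            (Ideal.Quotient.mkₐ A J.1) := by
        rw [MvPolynomial.adjoin_range_X, Algebra.map_top, eq_comm, AlgHom.range_eq_top]
        exact Ideal.Quotient.mkₐ_surjective A _
      rw [hmap, AlgHom.map_adjoin, Algebra.adjoin_le_iff]
      rintro _ ⟨_, ⟨i, rfl⟩, rfl⟩
      refine ⟨m i, hm_monic i, ?_⟩
      rw [← Polynomial.aeval_def, Polynomial.aeval_algHom_apply]
      change Ideal.Quotient.mk J.1 (M i) = 0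
      rw [Ideal.Quotient.eq_zero_iff_mem]
      exact J.2.2.2 i
    exact Algebra.IsIntegral.finite

end Groth.Agent.S4885
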