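import Groth.Statements.S4886
import Groth.Agent.H25.FiniteTypeInt

set_option autoImplicit false
universe u
open CategoryTheory AlgebraicGeometry
open EGA43

namespace Groth.Agent.S4886
open Groth.Agent.H25

/-- Let Y be a scheme of finite type over ℤ. (i) A point y of Y is closed if and only if the residue
field k(y) is finite. (ii) For every prime number p and every integer d ≥ 1, the set of points y of
Y such that k(y) is an extension of 𝔽_p of degree dividing d, i.e. admits a ring homomorphism into
the field with p^d elements, is finite. -/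
theorem result (Y : Scheme.{u}) [CompactSpace Y]
    [LocallyOfFiniteType (Limits.IsTerminal.from specULiftZIsTerminal Y)] :
    (∀ y : Y, IsClosed ({y} : Set Y) ↔ Finite ↑(Y.residueField y)) ∧
    ∀ (p d : ℕ) [Fact p.Prime], 0 < d →
      {y : Y | Nonempty (↑(Y.residueField y) →+* GaloisField p d)}.Finite := by
  refine ⟨isClosed_singleton_iff_finite_residueField Y, ?_⟩
  intro p d _ hd
  have hF : Finite (GaloisField p d) := by
    have : Fintype (GaloisField p d) := Fintype.ofFinite _
    infer_instance
  -- choose an affine open neighbourhood of every point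
  have hex : ∀ y : Y, ∃ U : Y.Opens, IsAffineOpen U ∧ y ∈ U := by
    intro y
    obtain ⟨_, ⟨V, hV, rfl⟩, hxV, -⟩ :=
      (Y.isBasis_affineOpens).exists_subset_of_mem_open (Set.mem_univ y) isOpen_univ
    exact ⟨V, hV, hxV⟩
  choose W hW hyW using hex
  obtain ⟨s, hs⟩ := isCompact_univ.elim_nhds_subcover (fun y => (W y : Set Y))
    (fun y _ => (W y).2.mem_nhds (hyW y))
  refine Set.Finite.subset (Set.Finite.biUnion s.finite_toSet (fun y _ =>
    finite_setOf_residueField_hom_inter_affineOpen Y (W y) (hW y) (GaloisField p d))) ?_
  intro y hy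
  obtain ⟨z, hz, hyz⟩ := Set.mem_iUnion₂.1 (hs.2 (Set.mem_univ y))
  exact Set.mem_iUnion₂.2 ⟨z, hz, hy, hyz⟩

end Groth.Agent.S4886
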