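import Groth.Statements.S4891
import Groth.Agent.H25.NilFlat

set_option autoImplicit false
universe u
open TensorProduct
open EGA43

namespace Groth.Agent.S4891
open Groth.Agent.H2 Groth.Agent.H25

/-- Let A be a commutative ring, J a nilpotent ideal of A, B a commutative A-algebra and M a B-module.
If M is flat over A, M/JM is flat over B/JB, B/JB is flat over A/J and mM ≠ M for every maximal
ideal m of B containing JB, then B is flat over A. (Under the first two hypotheses M is also flat
over B; that implication is stated elsewhere and not repeated here.) -/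
theorem result {A B : Type u} [CommRing A] [CommRing B] [Algebra A B]
    (J : Ideal A) (hJ : IsNilpotent J) (M : Type u) [AddCommGroup M] [Module B M] [Module A M] [IsScalarTower A B M]
    (hc1 : Module.Flat A M)
    (hc2 : Module.Flat (B ⧸ J.map (algebraMap A B)) ((B ⧸ J.map (algebraMap A B)) ⊗[B] M))
    (hd1 : Module.Flat (A ⧸ J) ((A ⧸ J) ⊗[A] B))
    (hd2 : ∀ m : Ideal B, m.IsMaximal → J.map (algebraMap A B) ≤ m → (m • (⊤ : Submodule B M)) ≠ ⊤) :
    Module.Flat A B := by
  have hT : Tor1Zero B (B ⧸ J.map (algebraMap A B)) M :=
    (tor1Zero_quotient_iff _).mpr (NilFlat.rTensor_map_injective J M)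
  have hJB : IsNilpotent (J.map (algebraMap A B)) := by
    obtain ⟨n, hn⟩ := hJ
    exact ⟨n, by rw [← Ideal.map_pow, hn, Ideal.zero_eq_bot, Ideal.map_bot]; rfl⟩
  have hflatB : Module.Flat B M := flat_of_isNilpotent_of_tor1Zero _ hJB hT
  have hff : Module.FaithfullyFlat B M := by
    refine ⟨fun m hm => hd2 m hm ?_⟩
    obtain ⟨n, hn⟩ := hJB
    have : (J.map (algebraMap A B)) ^ n ≤ m := by rw [hn]; exact bot_le
    exact hm.isPrime.le_of_pow_le this
  rw [Module.Flat.iff_lTensor_preserves_injective_linearMap]
  intro N N' _ _ _ _ f hf
  have h1 : Function.Injective (f.lTensor M) :=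
    Module.Flat.lTensor_preserves_injective_linearMap f hf
  have h2 : Function.Injective ((f.baseChange B).lTensor M) := by
    have hcomm : ∀ x : M ⊗[B] (B ⊗[A] N),
        TensorProduct.AlgebraTensorModule.cancelBaseChange A B B M N'
          (((f.baseChange B).lTensor M) x) =
        (f.lTensor M) (TensorProduct.AlgebraTensorModule.cancelBaseChange A B B M N x) := by
      intro x
      induction x using TensorProduct.induction_on with
      | zero => simp
      | add x y hx hy => simp only [map_add, hx, hy]
      | tmul m y =>
        induction y using TensorProduct.induction_on with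
        | zero => simp
        | add y y' hy hy' => simp only [TensorProduct.tmul_add, map_add, hy, hy']
        | tmul b n => simp
    rw [injective_iff_map_eq_zero]
    intro x hx
    have h3 := hcomm x
    rw [hx, map_zero] at h3
    have h4 := h1 (a₁ := TensorProduct.AlgebraTensorModule.cancelBaseChange A B B M N x) (a₂ := 0)
      (by rw [map_zero]; exact h3.symm)
    exact (LinearEquiv.map_eq_zero_iff _).mp h4
  exact (Module.FaithfullyFlat.lTensor_injective_iff_injective B M (f.baseChange B)).mp h2

end Groth.Agent.S4891
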