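import Groth.Statements.S4892
import Groth.Agent.H56.GrFlat.FPChain
import Groth.Agent.H56.GrFlat.NormalFlat
import Groth.Agent.H56.GrFlat.LocTensor

set_option autoImplicit false
set_option maxSynthPendingDepth 3
universe u
open TensorProduct
open EGA43

namespace Groth.Agent.S4892

/-- Affine form: let A be a commutative ring, B a finitely presented A-algebra, J a finitely generated
ideal of B and M a finitely presented B-module; assume that every graded piece J^k / J^{k+1} of B
and every graded piece J^k M / J^{k+1} M of M is flat over A. Then the set W of primes q ⊇ J of B at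
which M is normally flat along V(J) — every localisation (J^k M / J^{k+1} M)_q is flat over B/J — is
open in V(J); equivalently the set of primes q such that J ⊆ q implies this condition is open in
Spec B. Flatness over B/J of the localised piece N_q (a module killed by J) is expressed as flatness
of (B/J) ⊗_B N_q. -/
theorem result {A B : Type u} [CommRing A] [CommRing B] [Algebra A B]
    [Algebra.FinitePresentation A B] (J : Ideal B) (hJ : J.FG)
    (M : Type u) [AddCommGroup M] [Module B M] [Module A M] [IsScalarTower A B M] [Module.FinitePresentation B M]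
    (hgrB : ∀ k : ℕ, Module.Flat A (↥(J ^ k) ⧸ Submodule.comap (J ^ k).subtype (J ^ (k + 1))))
    (hgrM : ∀ k : ℕ, Module.Flat A
      (↥(J ^ k • (⊤ : Submodule B M)) ⧸ Submodule.comap (J ^ k • (⊤ : Submodule B M)).subtype (J ^ (k + 1) • ⊤))) :
    IsOpen {q : PrimeSpectrum B | J ≤ q.asIdeal → ∀ k : ℕ,
      Module.Flat (B ⧸ J) ((B ⧸ J) ⊗[B] LocalizedModule q.asIdeal.primeCompl
        (↥(J ^ k • (⊤ : Submodule B M)) ⧸ Submodule.comap (J ^ k • (⊤ : Submodule B M)).subtype (J ^ (k + 1) • ⊤)))} := by
  classical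
  -- flatness of the graded pieces in kernel form
  have hG : ∀ k, Module.Flat A (Groth.Agent.H56.GrFlat.Gk J M k) := fun k =>
    haveI := hgrM k
    Module.Flat.of_linearEquiv ((Groth.Agent.H56.GrFlat.grEquiv J M k).restrictScalars A).symm
  obtain ⟨s, b, hb, hfp⟩ := Groth.Agent.H56.GrFlat.exists_finitePresentation_grOf J hJ M hG
  -- the graded module over `B ⧸ J`
  have key : ∀ (𝒢 : Groth.Agent.H56.GrFlat.GrMod B s)
      (_ : Module.FinitePresentation (MvPolynomial (Fin s) B) 𝒢.Tot)
      (ε : ∀ k, (↥(J ^ k • (⊤ : Submodule B M)) ⧸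
        Submodule.comap (J ^ k • (⊤ : Submodule B M)).subtype (J ^ (k + 1) • ⊤)) ≃ₗ[B] 𝒢.V k),
      IsOpen {q : PrimeSpectrum B | J ≤ q.asIdeal → ∀ k : ℕ,
        Module.Flat (B ⧸ J) ((B ⧸ J) ⊗[B] LocalizedModule q.asIdeal.primeCompl
          (↥(J ^ k • (⊤ : Submodule B M)) ⧸
            Submodule.comap (J ^ k • (⊤ : Submodule B M)).subtype (J ^ (k + 1) • ⊤)))} := by
    intro 𝒢 h𝒢 ε
    haveI := h𝒢
    haveI : Module.FinitePresentation (MvPolynomial (Fin s) (B ⧸ J)) (𝒢.baseChange (B ⧸ J)).Tot :=
      𝒢.finitePresentation_baseChange (B ⧸ J)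
    have hopen := (𝒢.baseChange (B ⧸ J)).isOpen_flat_pieces
    -- pointwise comparison
    have hpt : ∀ q' : PrimeSpectrum (B ⧸ J),
        (∀ k : ℕ, Module.Flat (B ⧸ J) ((B ⧸ J) ⊗[B] LocalizedModule
          (PrimeSpectrum.comap (Ideal.Quotient.mk J) q').asIdeal.primeCompl
          (↥(J ^ k • (⊤ : Submodule B M)) ⧸
            Submodule.comap (J ^ k • (⊤ : Submodule B M)).subtype (J ^ (k + 1) • ⊤)))) ↔
        ∀ k, Module.Flat (B ⧸ J)
          (LocalizedModule q'.asIdeal.primeCompl ((𝒢.baseChange (B ⧸ J)).V k)) := by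
      intro q'
      refine forall_congr' fun k => ?_
      have hloc : IsLocalizedModule (q'.asIdeal.comap (Ideal.Quotient.mk J)).primeCompl
          ((LocalizedModule.mkLinearMap (q'.asIdeal.comap (Ideal.Quotient.mk J)).primeCompl
            (↥(J ^ k • (⊤ : Submodule B M)) ⧸
              Submodule.comap (J ^ k • (⊤ : Submodule B M)).subtype (J ^ (k + 1) • ⊤))) ∘ₗ
            (ε k).symm.toLinearMap) := inferInstance
      exact Groth.Agent.H56.GrFlat.flat_baseChange_localized_iff J q'.asIdeal
        ((LocalizedModule.mkLinearMap (q'.asIdeal.comap (Ideal.Quotient.mk J)).primeCompl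
            (↥(J ^ k • (⊤ : Submodule B M)) ⧸
              Submodule.comap (J ^ k • (⊤ : Submodule B M)).subtype (J ^ (k + 1) • ⊤))) ∘ₗ
            (ε k).symm.toLinearMap) hloc
    -- topology
    rw [← isClosed_compl_iff]
    have hcl : Topology.IsClosedEmbedding (PrimeSpectrum.comap (Ideal.Quotient.mk J)) :=
      PrimeSpectrum.isClosedEmbedding_comap_of_surjective (B ⧸ J) (Ideal.Quotient.mk J)
        Ideal.Quotient.mk_surjective
    have heq : {q : PrimeSpectrum B | J ≤ q.asIdeal → ∀ k : ℕ,
        Module.Flat (B ⧸ J) ((B ⧸ J) ⊗[B] LocalizedModule q.asIdeal.primeCompl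
          (↥(J ^ k • (⊤ : Submodule B M)) ⧸
            Submodule.comap (J ^ k • (⊤ : Submodule B M)).subtype (J ^ (k + 1) • ⊤)))}ᶜ =
        PrimeSpectrum.comap (Ideal.Quotient.mk J) ''
          {𝔮 : PrimeSpectrum (B ⧸ J) | ∀ k, Module.Flat (B ⧸ J)
            (LocalizedModule 𝔮.asIdeal.primeCompl ((𝒢.baseChange (B ⧸ J)).V k))}ᶜ := by
      ext q
      simp only [Set.mem_compl_iff, Set.mem_ofPred_eq, Set.mem_image]
      constructor
      · intro hq
        rw [Classical.not_imp] at hq
        obtain ⟨hJq, hnot⟩ := hq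
        have hmem : q ∈ Set.range (PrimeSpectrum.comap (Ideal.Quotient.mk J)) := by
          rw [_root_.range_comap_of_surjective _ _ Ideal.Quotient.mk_surjective,
            Ideal.mk_ker]
          exact hJq
        obtain ⟨q', rfl⟩ := hmem
        exact ⟨q', fun h => hnot ((hpt q').mpr h), rfl⟩
      · rintro ⟨q', hq', rfl⟩
        rw [Classical.not_imp]
        refine ⟨?_, fun h => hq' ((hpt q').mp h)⟩
        intro x hx
        change Ideal.Quotient.mk J x ∈ q'.asIdeal
        rw [Ideal.Quotient.eq_zero_iff_mem.mpr hx]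
        exact q'.asIdeal.zero_mem
    rw [heq]
    exact hcl.isClosedMap _ hopen.isClosed_compl
  exact key (Groth.Agent.H56.GrFlat.grOf J M b hb) hfp
    (fun k => Groth.Agent.H56.GrFlat.grEquiv J M k)

end Groth.Agent.S4892
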