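import Groth.Statements.S4897
import Groth.Agent.H25.Constructible

set_option autoImplicit false
universe u
open EGA43

namespace Groth.Agent.S4897
open Groth.Agent.H25 Set.Notation

/-- Let f : X → Y be a quasi-homeomorphism, i.e. a continuous map such that U ↦ f⁻¹(U) is a bijection
from the open subsets of Y onto the open subsets of X. Then Z ↦ f⁻¹(Z) induces bijections from the
locally closed (resp. constructible, resp. locally constructible) subsets of Y onto those of X. -/
theorem result {X Y : Type u}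
    [TopologicalSpace X] [TopologicalSpace Y] (f : X → Y) (hf : Continuous f)
    (hq : Function.Bijective (fun U : TopologicalSpace.Opens Y =>
      (⟨f ⁻¹' (U : Set Y), U.isOpen.preimage hf⟩ : TopologicalSpace.Opens X))) :
    Function.Bijective (fun Z : {Z : Set Y // IsLocallyClosed Z} =>
        (⟨f ⁻¹' Z.1, Z.2.preimage hf⟩ : {Z : Set X // IsLocallyClosed Z})) ∧
      Set.BijOn (fun Z : Set Y => f ⁻¹' Z) {Z | Topology.IsConstructible Z} {Z | Topology.IsConstructible Z} ∧
      Set.BijOn (fun Z : Set Y => f ⁻¹' Z) {Z | Topology.IsLocallyConstructible Z}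
        {Z | Topology.IsLocallyConstructible Z} := by
  have h : IsQuasiHomeo f := (isQuasiHomeo_iff_bijective hf).1 hq
  refine ⟨⟨?_, ?_⟩, ⟨?_, ?_, ?_⟩, ⟨?_, ?_, ?_⟩⟩
  · rintro ⟨Z, hZ⟩ ⟨Z', hZ'⟩ e
    apply Subtype.ext
    exact h.eq_of_preimage_eq (IsLocallyClosed.isQC hZ).isLQC (IsLocallyClosed.isQC hZ').isLQC
      (congrArg Subtype.val e)
  · rintro ⟨T, U, C, hU, hC, rfl⟩
    obtain ⟨U', hU', rfl⟩ := h.2 U hU
    obtain ⟨W', hW', hW⟩ := h.2 Cᶜ hC.isOpen_compl
    refine ⟨⟨U' ∩ W'ᶜ, hU'.isLocallyClosed.inter hW'.isClosed_compl.isLocallyClosed⟩, ?_⟩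
    apply Subtype.ext
    change f ⁻¹' (U' ∩ W'ᶜ) = f ⁻¹' U' ∩ C
    rw [Set.preimage_inter, Set.preimage_compl, hW, compl_compl]
  · intro Z hZ
    exact h.isConstructible_preimage hf hZ
  · intro Z hZ Z' hZ' e
    exact h.eq_of_preimage_eq (isQC_of_isConstructible hZ).isLQC
      (isQC_of_isConstructible hZ').isLQC e
  · intro T hT
    obtain ⟨Z, hZ, e⟩ := h.exists_isConstructible_preimage_eq hf hT
    exact ⟨Z, hZ, e⟩
  · intro Z hZ x
    obtain ⟨U, hUx, hU, hc⟩ := hZ (f x)
    refine ⟨f ⁻¹' U, hf.continuousAt.preimage_mem_nhds hUx, hU.preimage hf, ?_⟩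
    have hr := h.restrictPreimage (Y' := U) (IsLocallyClosed.isQC hU.isLocallyClosed).isLQC
    exact hr.isConstructible_preimage hf.restrictPreimage hc
  · intro Z hZ Z' hZ' e
    exact h.eq_of_preimage_eq (isLQC_of_isLocallyConstructible hZ)
      (isLQC_of_isLocallyConstructible hZ') e
  · intro T hT
    have key : ∀ x : X, ∃ U : Set Y, IsOpen U ∧ f x ∈ U ∧
        Topology.IsConstructible ((f ⁻¹' U) ↓∩ T) := by
      intro x
      obtain ⟨W, hWx, hWo, hWc⟩ := hT x
      obtain ⟨U, hUo, rfl⟩ := h.2 W hWo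
      exact ⟨U, hUo, (mem_of_mem_nhds hWx : x ∈ f ⁻¹' U), hWc⟩
    choose U hUo hxU hUc using key
    have hr : ∀ x, IsQuasiHomeo ((U x).restrictPreimage f) := fun x =>
      h.restrictPreimage (IsLocallyClosed.isQC (hUo x).isLocallyClosed).isLQC
    have key2 : ∀ x, ∃ Zx : Set ↥(U x), Topology.IsConstructible Zx ∧
        ((U x).restrictPreimage f) ⁻¹' Zx = (f ⁻¹' U x) ↓∩ T := fun x =>
      (hr x).exists_isConstructible_preimage_eq hf.restrictPreimage (hUc x)
    choose Zx hZxc hZxe using key2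
    -- membership in the preimage of a piece
    have hmem : ∀ (x p : X), f p ∈ Subtype.val '' (Zx x) ↔ f p ∈ U x ∧ p ∈ T := by
      intro x p
      constructor
      · rintro ⟨q, hq, hqp⟩
        have hp : p ∈ f ⁻¹' U x := by
          change f p ∈ U x
          rw [← hqp]; exact q.2
        have h1 : (⟨p, hp⟩ : ↥(f ⁻¹' U x)) ∈ ((U x).restrictPreimage f) ⁻¹' Zx x := by
          change (⟨f p, hp⟩ : ↥(U x)) ∈ Zx x
          have : q = ⟨f p, hp⟩ := Subtype.ext hqp
          rw [← this]; exact hq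
        rw [hZxe x] at h1
        exact ⟨hp, h1⟩
      · rintro ⟨hp, hpT⟩
        have h1 : (⟨p, hp⟩ : ↥(f ⁻¹' U x)) ∈ (f ⁻¹' U x) ↓∩ T := hpT
        rw [← hZxe x] at h1
        exact ⟨⟨f p, hp⟩, h1, rfl⟩
    have hQC : ∀ x, IsQC (Subtype.val '' (Zx x)) := fun x =>
      (isQC_of_isConstructible (hZxc x)).image_of_isOpenEmbedding
        (hUo x).isOpenEmbedding_subtypeVal
    -- compatibility
    have hcompat : ∀ x x₀ : X, U x₀ ∩ Subtype.val '' (Zx x) = U x ∩ Subtype.val '' (Zx x₀) := by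
      intro x x₀
      apply h.eq_of_preimage_eq ((hQC x).inter_isOpen (hUo x₀)).isLQC
        ((hQC x₀).inter_isOpen (hUo x)).isLQC
      ext p
      simp only [Set.mem_preimage, Set.mem_inter_iff, hmem]
      tauto
    refine ⟨⋃ x, Subtype.val '' (Zx x), ?_, ?_⟩
    · intro y
      have hcov : (⋃ x, U x) = Set.univ := by
        apply h.1 _ _ (isOpen_iUnion hUo) isOpen_univ
        rw [Set.preimage_univ, Set.preimage_iUnion]
        exact Set.eq_univ_of_forall fun p => Set.mem_iUnion.2 ⟨p, hxU p⟩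
      obtain ⟨x₀, hy⟩ := Set.mem_iUnion.1 (hcov.symm ▸ Set.mem_univ y : y ∈ ⋃ x, U x)
      refine ⟨U x₀, (hUo x₀).mem_nhds hy, hUo x₀, ?_⟩
      have : (U x₀) ↓∩ (⋃ x, Subtype.val '' (Zx x)) = Zx x₀ := by
        ext q
        constructor
        · intro hq
          obtain ⟨x, hqx⟩ := Set.mem_iUnion.1 hq
          have h1 : q.1 ∈ U x₀ ∩ Subtype.val '' (Zx x) := ⟨q.2, hqx⟩
          rw [hcompat x x₀] at h1
          obtain ⟨q', hq', e⟩ := h1.2
          have : q' = q := Subtype.ext e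
          rw [← this]; exact hq'
        · intro hq
          exact Set.mem_iUnion.2 ⟨x₀, q, hq, rfl⟩
      rw [this]
      exact hZxc x₀
    · ext p
      simp only [Set.mem_preimage, Set.mem_iUnion, hmem]
      constructor
      · rintro ⟨x, -, hpT⟩; exact hpT
      · intro hpT; exact ⟨p, hxU p, hpT⟩

end Groth.Agent.S4897
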