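import Groth.Statements.S4898
import Groth.Agent.H56.Flattening.Chart

set_option autoImplicit false
universe u
open CategoryTheory AlgebraicGeometry
open EGA43

namespace Groth.Agent.S4898

open CategoryTheory.Limits in
/-- Over an affine irreducible base, tested on affine base changes, to which the general statement
reduces: let A be a commutative ring whose spectrum is irreducible, f : X ⟶ Spec A a morphism of
finite presentation and F a quasi-coherent O_X-module of finite presentation. Then there are an
element h of A which is not nilpotent (so that U = Spec A_h is a nonempty open subset of Spec A) and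
a finitely generated ideal J of A_h contained in the nilradical (so that the closed subscheme Z =
V(J) of U, of finite presentation over U, has the same underlying space as U) such that for every
A_h-algebra A' the pullback of F to X ×_{Spec A} Spec A' is flat over Spec A' if and only if J
generates the zero ideal of A', i.e. if and only if Spec A' ⟶ U factors through Z. (The published
statement also asserts that, for a finite affine open cover (W_i) of X, U can be chosen so that the
sections of the pullback of F over each W_i ×_{Spec A} Spec A' form a free A'-module whenever Spec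
A' ⟶ U factors through Z; this row omits that assertion.) -/
theorem result {A : Type u} [CommRing A] [IrreducibleSpace (PrimeSpectrum A)]
    {X : Scheme.{u}} (f : X ⟶ Spec (CommRingCat.of A))
    [LocallyOfFinitePresentation f] [QuasiCompact f] [QuasiSeparated f]
    (F : X.Modules) [Coh.IsQCoh F] (hF : CohB1.IsFP F) :
    ∃ (h : A) (_ : ¬ IsNilpotent h) (J : Ideal (Localization.Away h)) (_ : J.FG)
      (_ : J ≤ nilradical (Localization.Away h)),
      ∀ (A' : Type u) [CommRing A'] [Algebra (Localization.Away h) A'],
        letI g : Spec (CommRingCat.of A') ⟶ Spec (CommRingCat.of A) :=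
          Spec.map (CommRingCat.ofHom ((algebraMap (Localization.Away h) A').comp (algebraMap A (Localization.Away h))))
        (FlatMod.IsFlatOver (pullback.snd f g) ((Scheme.Modules.pullback (pullback.fst f g)).obj F) ↔
          Ideal.map (algebraMap (Localization.Away h) A') J = ⊥) := by
  classical
  haveI : F.IsQuasicoherent := ‹Coh.IsQCoh F›
  haveI : SheafOfModules.IsFinitePresentation (R := X.ringCatSheaf) F := hF
  have hprime : (nilradical A).IsPrime :=
    PrimeSpectrum.irreducibleSpace_iff_isPrime_nilradical.mp inferInstance
  haveI : CompactSpace X := QuasiCompact.compactSpace_of_compactSpace f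
  -- a finite affine open cover
  let 𝒰 := X.affineCover.finiteSubcover
  haveI : ∀ i, IsAffine (𝒰.X i) := fun i => by
    change IsAffine (X.affineCover.X _)
    infer_instance
  let U : 𝒰.I₀ → X.Opens := fun i => (𝒰.f i).opensRange
  have hU : ∀ i, IsAffineOpen (U i) := fun i => isAffineOpen_opensRange (𝒰.f i)
  have hcov : ∀ x : X, ∃ i, x ∈ U i := fun x => ⟨𝒰.idx x, 𝒰.covers x⟩
  choose h hh J hJ hJn key using fun i =>
    Groth.Agent.H56.Flattening.exists_flattening_ideal_chart hprime f F (hU i)
  refine ⟨∏ i, h i, ?_, Ideal.map (algebraMap A (Localization.Away (∏ i, h i))) (⨆ i, J i),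
    ?_, ?_, ?_⟩
  · intro hnil
    have hmem : ∏ i, h i ∈ nilradical A := mem_nilradical.mpr hnil
    obtain ⟨i, -, hi⟩ := (hprime.prod_mem_iff).mp hmem
    exact hh i (mem_nilradical.mp hi)
  · exact Ideal.FG.map (Submodule.fg_iSup _ hJ) _
  · rw [Ideal.map_le_iff_le_comap]
    refine iSup_le fun i => (hJn i).trans ?_
    intro x hx
    rw [Ideal.mem_comap, mem_nilradical]
    exact (mem_nilradical.mp hx).map _
  · intro A' _ _
    letI algAA' : Algebra A A' :=
      ((algebraMap (Localization.Away (∏ i, h i)) A').comp
        (algebraMap A (Localization.Away (∏ i, h i)))).toAlgebra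
    haveI : IsScalarTower A (Localization.Away (∏ i, h i)) A' :=
      IsScalarTower.of_algebraMap_eq (fun _ => rfl)
    have huprod : IsUnit (algebraMap A A' (∏ i, h i)) := by
      rw [IsScalarTower.algebraMap_apply A (Localization.Away (∏ i, h i)) A']
      exact (IsLocalization.Away.algebraMap_isUnit (∏ i, h i)).map _
    have hu : ∀ i, IsUnit (algebraMap A A' (h i)) := by
      rw [map_prod] at huprod
      exact IsUnit.prod_univ_iff.mp huprod
    rw [Ideal.map_map, ← IsScalarTower.algebraMap_eq, Ideal.map_iSup, iSup_eq_bot]
    change FlatMod.IsFlatOver (pullback.snd f (Spec.map (CommRingCat.ofHom (algebraMap A A'))))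
      ((Scheme.Modules.pullback
        (pullback.fst f (Spec.map (CommRingCat.ofHom (algebraMap A A'))))).obj F) ↔ _
    constructor
    · intro hfl i
      exact (key i A' (hu i)).mp (fun x' _ => hfl x')
    · intro hJ0 x'
      obtain ⟨i, hi⟩ := hcov (pullback.fst f (Spec.map (CommRingCat.ofHom (algebraMap A A'))) x')
      exact (key i A' (hu i)).mpr (hJ0 i) x' hi

end Groth.Agent.S4898
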