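import Groth.Statements.S4899
import Groth.Agent.H56.FamFlat.Main
import Groth.Agent.H56.Primary.Chart
import Groth.Agent.H56.Primary.Glue
import Groth.Agent.H44.FiniteSections
import Groth.Agent.H44.PullbackFT

set_option autoImplicit false
universe u
open CategoryTheory AlgebraicGeometry
open EGA43

namespace Groth.Agent.S4899

open CategoryTheory.Limits in
/-- Let A be an Artinian local ring, f : X ⟶ Spec A locally of finite type, F a coherent O_X-module and
x a point of X; let (u_i : A → A_i) be a family of ring homomorphisms into local rings such that an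
element of A killed by every u_i is zero. Assume (ii) that the residue field k(x) is a primary
extension of the residue field of the base (every element of k(x) which is separable algebraic over
it already lies in it; automatic when that field is separably closed), and (iii) that for every i
there is a point x' of X_i = X ×_{Spec A} Spec A_i above x and above the closed point of Spec A_i at
which the pullback of F is flat over Spec A_i. Then F is f-flat at x. -/
theorem result {A : Type u} [CommRing A]
    [IsArtinianRing A] [IsLocalRing A] {X : Scheme.{u}} (f : X ⟶ Spec (CommRingCat.of A))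
    [LocallyOfFiniteType f] (F : X.Modules) (hF : Coh.IsCoh F) (x : X)
    {ι : Type u} (A' : ι → Type u) [∀ i, CommRing (A' i)] [∀ i, IsLocalRing (A' i)] (u : ∀ i, A →+* A' i)
    (hu : ∀ a : A, (∀ i, u i a = 0) → a = 0)
    (hprim : letI := (f.residueFieldMap x).hom.toAlgebra
      ∀ a : ↑(X.residueField x), IsSeparable ↑((Spec (CommRingCat.of A)).residueField (f x)) a →
        a ∈ (f.residueFieldMap x).hom.range)
    (hflat : ∀ i : ι, ∃ x' : ↥(pullback f (Spec.map (CommRingCat.ofHom (u i)))),
      pullback.fst f (Spec.map (CommRingCat.ofHom (u i))) x' = x ∧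
      pullback.snd f (Spec.map (CommRingCat.ofHom (u i))) x' = IsLocalRing.closedPoint (A' i) ∧
      FlatMod.IsFlatOverAt (pullback.snd f (Spec.map (CommRingCat.ofHom (u i))))
        ((Scheme.Modules.pullback (pullback.fst f (Spec.map (CommRingCat.ofHom (u i))))).obj F) x') :
    FlatMod.IsFlatOverAt f F x := by
  classical
  obtain ⟨hqc, hft⟩ := hF
  haveI : F.IsQuasicoherent := hqc
  have hnil : IsNilpotent (IsLocalRing.maximalIdeal A) := by
    rw [← IsLocalRing.jacobson_eq_maximalIdeal ⊥ bot_ne_top]
    exact IsArtinianRing.isNilpotent_jacobson_bot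
  -- `x` lies over the closed point
  have hfx : f x = IsLocalRing.closedPoint A := by
    apply PrimeSpectrum.ext
    change (f x).asIdeal = IsLocalRing.maximalIdeal A
    obtain ⟨n, hn⟩ := hnil
    have h1 : IsLocalRing.maximalIdeal A ≤ (f x).asIdeal := by
      apply (f x).isPrime.le_of_pow_le (n := n)
      rw [hn]
      exact bot_le
    exact ((IsLocalRing.maximalIdeal.isMaximal A).eq_of_le (f x).isPrime.ne_top h1).symm
  obtain ⟨U, hU, hxU, -⟩ := exists_isAffineOpen_mem_and_subset (x := x) (U := ⊤) trivial
  -- ring data on the chart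
  letI algAB : Algebra A Γ(X, U) := (Groth.Agent.H56.Flattening.baseHom f U).toAlgebra
  letI modAM : Module A Γ(F, U) := Groth.Agent.H56.Flattening.baseModule f F U
  haveI : IsScalarTower A Γ(X, U) Γ(F, U) := IsScalarTower.of_algebraMap_smul (fun r m => rfl)
  -- translate the conclusion
  rw [Groth.Agent.H70.FlatLocusGeo.isFlatOverAt_iff_flat_localizedModule f F hU
    (isAffineOpen_top _) le_top hxU]
  letI algAR : Algebra A Γ(Spec (CommRingCat.of A), ⊤) :=
    (Scheme.ΓSpecIso (CommRingCat.of A)).inv.hom.toAlgebra
  letI algRB : Algebra Γ(Spec (CommRingCat.of A), ⊤) Γ(X, U) := (f.appLE ⊤ U le_top).hom.toAlgebra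
  letI modRM : Module Γ(Spec (CommRingCat.of A), ⊤) Γ(F, U) :=
    Module.compHom _ (f.appLE ⊤ U le_top).hom
  haveI : IsScalarTower Γ(Spec (CommRingCat.of A), ⊤) Γ(X, U) Γ(F, U) :=
    IsScalarTower.of_algebraMap_smul (fun r m => rfl)
  haveI : IsScalarTower A Γ(Spec (CommRingCat.of A), ⊤) Γ(X, U) :=
    IsScalarTower.of_algebraMap_eq (fun _ => rfl)
  haveI : IsScalarTower A Γ(Spec (CommRingCat.of A), ⊤) Γ(F, U) :=
    IsScalarTower.of_algebraMap_smul (fun r m => rfl)
  have hbij : Function.Bijective (algebraMap A Γ(Spec (CommRingCat.of A), ⊤)) :=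
    ConcreteCategory.bijective_of_isIso (Scheme.ΓSpecIso (CommRingCat.of A)).inv
  refine (Groth.Agent.H71.QCoh.flat_iff_of_bijective_algebraMap hbij).mpr ?_
  -- the prime of the chart lies over the maximal ideal
  have hq : (hU.primeIdealOf ⟨x, hxU⟩).asIdeal.comap (algebraMap A Γ(X, U)) =
      IsLocalRing.maximalIdeal A := by
    have h1 : f (hU.fromSpec (hU.primeIdealOf ⟨x, hxU⟩)) = IsLocalRing.closedPoint A := by
      rw [hU.fromSpec_primeIdealOf ⟨x, hxU⟩]
      exact hfx
    rw [Groth.Agent.H56.FamFlat.map_fromSpec f hU (isAffineOpen_top _) le_top,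
      Groth.Agent.H56.FamFlat.fromSpec_top_Spec] at h1
    exact congrArg PrimeSpectrum.asIdeal h1
  haveI : IsLocalHom (algebraMap A
      (Localization.AtPrime (hU.primeIdealOf ⟨x, hxU⟩).asIdeal)) :=
    Groth.Agent.H56.Primary.isLocalHom_algebraMap_localization _ hq
  have hprimC := Groth.Agent.H56.Primary.hprim_chart f hU hxU rfl hfx
    (fun α hα => hprim α hα)
  refine Groth.Agent.H56.FamFlat.flat_of_relations hnil _ A' u hu ?_
  intro i Λ v hv s c hc
  letI : Algebra A (A' i) := (u i).toAlgebra
  haveI : IsLocalHom (algebraMap A (A' i)) :=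
    Groth.Agent.H56.FamFlat.isLocalHom_of_isNilpotent hnil (u i)
  have h := Groth.Agent.H56.Primary.relation_mem_of_exists_isFlatOverAt_pullback f
    (pullback.fst f (Spec.map (CommRingCat.ofHom (algebraMap A (A' i)))))
    (pullback.snd f (Spec.map (CommRingCat.ofHom (algebraMap A (A' i)))))
    (IsPullback.of_hasPullback f _) F hU hxU rfl hprimC (hflat i) ⊥ bot_ne_top v hv s c
    (by rw [hc]; exact Submodule.zero_mem _)
  intro j hj
  exact (Submodule.mem_bot _).mp (h j hj)

end Groth.Agent.S4899
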