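import Groth.Statements.S4900
import Groth.Agent.H24.ModFlat.StagePtFree
import Groth.Agent.H50.LfpCancel
import Groth.Agent.H71.QCoh.FlatOverPullback

set_option autoImplicit false
universe u
open CategoryTheory AlgebraicGeometry
open EGA43

namespace Groth.Agent.S4900

/-- Let S be the limit of a cofiltered system (S_i) of schemes with affine transition morphisms, S_{i₀}
a quasi-compact stage, f₀ : X₀ ⟶ Y₀ an S_{i₀}-morphism between schemes of finite presentation over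
S_{i₀}, F₀ a quasi-coherent O_{X₀}-module of finite presentation, f : X ⟶ Y and F the base changes
to S, and x a point of X. Then F is f-flat at x if and only if there are an index i over i₀ and base
changes f_i : X_i ⟶ Y_i, F_i of f₀, F₀ to S_i (pullback squares, with the induced compatible
morphisms X ⟶ X_i, Y ⟶ Y_i) such that F_i is f_i-flat at the image x_i of x in X_i. -/
theorem result {I : Type u} [SmallCategory I] [IsCofiltered I]
    (D : I ⥤ Scheme.{u}) (c : Limits.Cone D) (hc : Limits.IsLimit c)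
    [∀ (i j : I) (φ : i ⟶ j), IsAffineHom (D.map φ)] (i₀ : I) [CompactSpace (D.obj i₀)]
    {X₀ Y₀ : Scheme.{u}} (f₀ : X₀ ⟶ Y₀) (g₀ : Y₀ ⟶ D.obj i₀)
    [LocallyOfFinitePresentation g₀] [QuasiCompact g₀] [QuasiSeparated g₀]
    [LocallyOfFinitePresentation (f₀ ≫ g₀)] [QuasiCompact (f₀ ≫ g₀)] [QuasiSeparated (f₀ ≫ g₀)]
    (F₀ : X₀.Modules) [Coh.IsQCoh F₀] (hF₀ : CohB1.IsFP F₀)
    {X Y : Scheme.{u}} (f : X ⟶ Y) (g : Y ⟶ c.pt) (qY : Y ⟶ Y₀) (qX : X ⟶ X₀)
    (hY : IsPullback qY g g₀ (c.π.app i₀)) (hX : IsPullback qX f f₀ qY) (x : X) :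
    FlatMod.IsFlatOverAt f ((Scheme.Modules.pullback qX).obj F₀) x ↔
      ∃ (i : I) (φ : i ⟶ i₀) (Xi Yi : Scheme.{u}) (fi : Xi ⟶ Yi) (gi : Yi ⟶ D.obj i)
        (pY : Yi ⟶ Y₀) (pX : Xi ⟶ X₀) (vY : Y ⟶ Yi) (vX : X ⟶ Xi),
        IsPullback pY gi g₀ (D.map φ) ∧ IsPullback pX fi f₀ pY ∧
          vY ≫ pY = qY ∧ vY ≫ gi = g ≫ c.π.app i ∧ vX ≫ pX = qX ∧ vX ≫ fi = f ≫ vY ∧
          FlatMod.IsFlatOverAt fi ((Scheme.Modules.pullback pX).obj F₀) (vX x) := by
  classical
  haveI hfp : SheafOfModules.IsFinitePresentation (R := X₀.ringCatSheaf) F₀ := hF₀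
  constructor
  · intro hflat
    have hFYaff : ∀ {φ ψ : Over i₀} (f : φ ⟶ ψ),
        IsAffineHom ((Groth.Agent.H24.pullbackDiagram D i₀ g₀).map f) := fun f =>
      MorphismProperty.of_isPullback (P := @IsAffineHom)
        (Groth.Agent.H24.isPullback_pullbackDiagram_map D i₀ g₀ f).flip inferInstance
    let D' := Groth.Agent.H24.pullbackDiagram D i₀ g₀
    let c' := Groth.Agent.H24.pullbackCone D c i₀ g₀
    have hc' : Limits.IsLimit c' := Groth.Agent.H24.isLimitPullbackCone D c i₀ g₀ hc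
    let j₀ : Over i₀ := Over.mk (𝟙 i₀)
    let e₀ : D'.obj j₀ ⟶ Y₀ := Limits.pullback.snd (D.map (𝟙 i₀)) g₀
    haveI : IsIso (D.map (𝟙 i₀)) := by rw [D.map_id]; infer_instance
    haveI he₀ : IsIso e₀ := by
      show IsIso (Limits.pullback.snd (D.map (𝟙 i₀)) g₀)
      infer_instance
    haveI : LocallyOfFinitePresentation f₀ :=
      Groth.Agent.H50.locallyOfFinitePresentation_of_comp f₀ g₀ inferInstance inferInstance
    let f₀' : X₀ ⟶ D'.obj j₀ := f₀ ≫ inv e₀
    haveI : LocallyOfFinitePresentation f₀' := by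
      show LocallyOfFinitePresentation (f₀ ≫ inv e₀)
      infer_instance
    -- `Y ≅ c'.pt`
    let isoY : Y ≅ c'.pt := hY.flip.isoPullback
    have hiso1 : isoY.hom ≫ Limits.pullback.fst (c.π.app i₀) g₀ = g :=
      hY.flip.isoPullback_hom_fst
    have hiso2 : isoY.hom ≫ Limits.pullback.snd (c.π.app i₀) g₀ = qY :=
      hY.flip.isoPullback_hom_snd
    have hπe : c'.π.app j₀ ≫ e₀ = Limits.pullback.snd (c.π.app i₀) g₀ :=
      Groth.Agent.H24.pullbackCone_π_snd D c i₀ g₀ j₀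
    have hX' : IsPullback qX (f ≫ isoY.hom) f₀' (c'.π.app j₀) := by
      refine IsPullback.of_iso hX (Iso.refl _) (Iso.refl _) isoY (asIso e₀).symm
        (by simp) (by simp) (by simp [f₀']) ?_
      show qY ≫ inv e₀ = isoY.hom ≫ c'.π.app j₀
      rw [IsIso.comp_inv_eq, Category.assoc, hπe, hiso2]
    have hflat' : FlatMod.IsFlatOverAt (f ≫ isoY.hom) ((Scheme.Modules.pullback qX).obj F₀) x :=
      Groth.Agent.H71.QCoh.isFlatOverAt_comp f isoY.hom _ x hflat
        (RingHom.Flat.of_bijective (ConcreteCategory.bijective_of_isIso _))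
    obtain ⟨ψ', hψ'⟩ := Groth.Agent.H24.ModFlat.exists_isFlatOverAt_stage D' c' j₀ hc' f₀' F₀
      (f ≫ isoY.hom) qX hX' x hflat'
    -- the output data
    let pY : D'.obj ψ'.left ⟶ Y₀ := Limits.pullback.snd (D.map ψ'.left.hom) g₀
    let gi : D'.obj ψ'.left ⟶ D.obj ψ'.left.left := Limits.pullback.fst (D.map ψ'.left.hom) g₀
    let vY : Y ⟶ D'.obj ψ'.left := isoY.hom ≫ c'.π.app ψ'.left
    have hvY1 : vY ≫ pY = qY := by
      show (isoY.hom ≫ c'.π.app ψ'.left) ≫ Limits.pullback.snd (D.map ψ'.left.hom) g₀ = qY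
      rw [Category.assoc, Groth.Agent.H24.pullbackCone_π_snd, hiso2]
    have hvY2 : vY ≫ gi = g ≫ c.π.app ψ'.left.left :=
      calc (isoY.hom ≫ c'.π.app ψ'.left) ≫ Limits.pullback.fst (D.map ψ'.left.hom) g₀
          = isoY.hom ≫ (c'.π.app ψ'.left ≫ Limits.pullback.fst (D.map ψ'.left.hom) g₀) :=
            Category.assoc _ _ _
        _ = isoY.hom ≫ (Limits.pullback.fst (c.π.app i₀) g₀ ≫ c.π.app ψ'.left.left) :=
            congrArg (fun k => isoY.hom ≫ k)
              (Groth.Agent.H24.pullbackCone_π_fst D c i₀ g₀ ψ'.left)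
        _ = (isoY.hom ≫ Limits.pullback.fst (c.π.app i₀) g₀) ≫ c.π.app ψ'.left.left :=
            (Category.assoc _ _ _).symm
        _ = g ≫ c.π.app ψ'.left.left := by rw [hiso1]
    let vX : X ⟶ Limits.pullback f₀ pY := Limits.pullback.lift qX (f ≫ vY) (by
      rw [Category.assoc, hvY1, hX.w])
    have hpY : D'.map ψ'.hom ≫ e₀ = pY :=
      Groth.Agent.H24.pullbackDiagram_map_snd D i₀ g₀ ψ'.hom
    have hXi' : IsPullback (Limits.pullback.fst f₀ pY) (Limits.pullback.snd f₀ pY) f₀'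
        (D'.map ψ'.hom) := by
      refine Groth.Agent.H24.ModFlat.isPullback_of_comp_iso e₀ ?_
      rw [hpY]
      exact IsPullback.of_hasPullback f₀ pY
    refine ⟨ψ'.left.left, ψ'.left.hom, Limits.pullback f₀ pY, D'.obj ψ'.left,
      Limits.pullback.snd f₀ pY, gi, pY, Limits.pullback.fst f₀ pY, vY, vX,
      (IsPullback.of_hasPullback (D.map ψ'.left.hom) g₀).flip, IsPullback.of_hasPullback f₀ pY,
      hvY1, hvY2, Limits.pullback.lift_fst _ _ _, Limits.pullback.lift_snd _ _ _, ?_⟩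
    refine hψ' _ _ _ hXi' vX (Limits.pullback.lift_fst _ _ _) ?_
    rw [Limits.pullback.lift_snd, Category.assoc]
  · rintro ⟨i, φ, Xi, Yi, fi, gi, pY, pX, vY, vX, hYi, hXi, e1, e2, e3, e4, hflat⟩
    exact Groth.Agent.H24.ModFlat.isFlatOverAt_of_isPullback hXi hX vY e1 vX e3 e4 F₀ x hflat

end Groth.Agent.S4900
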