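import Groth.Statements.S4903
import Groth.Agent.H25.LQC

set_option autoImplicit false
universe u
open EGA43

namespace Groth.Agent.S4903

/-- Conditions a), b), b′), c″), c‴) and its last assertion: given a topological space X and a subset X₀
⊆ X, the statements below are equivalent. Every locally closed subset of X that is nonempty
intersects X₀. Every nonempty locally quasi-constructible subset of X intersects X₀; here a subset
is locally quasi-constructible when each point of X has an open neighbourhood on which the subset's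
trace can be written as a union of finitely many locally closed sets. Each locally
quasi-constructible Z ⊆ X is contained in the closure of Z ∩ X₀. Any two quasi-constructible subsets
of X (unions of finitely many locally closed sets) having equal traces on X₀ coincide. Any two
locally quasi-constructible subsets of X having equal traces on X₀ coincide. Assuming these
conditions, each locally quasi-constructible subset of the subspace X₀ arises as the trace on X₀ of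
some locally quasi-constructible subset of X. -/
theorem result {X : Type u} [TopologicalSpace X] (X₀ : Set X) :
    [∀ Z : Set X, IsLocallyClosed Z → Z.Nonempty → (Z ∩ X₀).Nonempty,
      ∀ Z : Set X, (∀ x : X, ∃ U : Set X, IsOpen U ∧ x ∈ U ∧ ∃ T : Set (Set X), T.Finite ∧ (∀ t ∈ T, IsLocallyClosed t) ∧ U ∩ Z = ⋃₀ T) → Z.Nonempty → (Z ∩ X₀).Nonempty,
      ∀ Z : Set X, (∀ x : X, ∃ U : Set X, IsOpen U ∧ x ∈ U ∧ ∃ T : Set (Set X), T.Finite ∧ (∀ t ∈ T, IsLocallyClosed t) ∧ U ∩ Z = ⋃₀ T) → Z ⊆ closure (Z ∩ X₀),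
      ∀ Z Z' : Set X, (∃ T : Set (Set X), T.Finite ∧ (∀ t ∈ T, IsLocallyClosed t) ∧ Z = ⋃₀ T) → (∃ T : Set (Set X), T.Finite ∧ (∀ t ∈ T, IsLocallyClosed t) ∧ Z' = ⋃₀ T) → Z ∩ X₀ = Z' ∩ X₀ → Z = Z',
      ∀ Z Z' : Set X, (∀ x : X, ∃ U : Set X, IsOpen U ∧ x ∈ U ∧ ∃ T : Set (Set X), T.Finite ∧ (∀ t ∈ T, IsLocallyClosed t) ∧ U ∩ Z = ⋃₀ T) → (∀ x : X, ∃ U : Set X, IsOpen U ∧ x ∈ U ∧ ∃ T : Set (Set X), T.Finite ∧ (∀ t ∈ T, IsLocallyClosed t) ∧ U ∩ Z' = ⋃₀ T) → Z ∩ X₀ = Z' ∩ X₀ → Z = Z'].TFAE ∧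
    ((∀ Z : Set X, IsLocallyClosed Z → Z.Nonempty → (Z ∩ X₀).Nonempty) →
      ∀ Z₀ : Set ↥X₀, (∀ x : ↥X₀, ∃ U : Set ↥X₀, IsOpen U ∧ x ∈ U ∧ ∃ T : Set (Set ↥X₀), T.Finite ∧ (∀ t ∈ T, IsLocallyClosed t) ∧ U ∩ Z₀ = ⋃₀ T) →
        ∃ Z : Set X, (∀ x : X, ∃ U : Set X, IsOpen U ∧ x ∈ U ∧ ∃ T : Set (Set X), T.Finite ∧ (∀ t ∈ T, IsLocallyClosed t) ∧ U ∩ Z = ⋃₀ T) ∧ Subtype.val ⁻¹' Z = Z₀) := by
  refine ⟨?_, fun ha Z₀ hZ₀ => Groth.Agent.H25.exists_lift_of_veryDense X₀ ha Z₀ hZ₀⟩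
  tfae_have 1 → 2 := by
    intro ha Z hZ hne
    obtain ⟨y, hy⟩ := hne
    obtain ⟨L, hL, hyL, hLZ⟩ := Groth.Agent.H25.IsLQC.exists_locallyClosed_mem hZ hy
    obtain ⟨x, hxL, hx₀⟩ := ha L hL ⟨y, hyL⟩
    exact ⟨x, hLZ hxL, hx₀⟩
  tfae_have 2 → 3 := by
    intro hb Z hZ y hy
    rw [mem_closure_iff]
    intro W hW hyW
    have hZ' : Groth.Agent.H25.IsLQC Z := hZ
    obtain ⟨x, ⟨hxW, hxZ⟩, hx₀⟩ := hb (W ∩ Z) (hZ'.inter_isOpen hW) ⟨y, hyW, hy⟩
    exact ⟨x, hxW, hxZ, hx₀⟩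
  tfae_have 3 → 1 := by
    intro hb' Z hZ hne
    have h1 := hb' Z (Groth.Agent.H25.IsLocallyClosed.isQC hZ).isLQC
    by_contra hcon
    rw [Set.not_nonempty_iff_eq_empty] at hcon
    rw [hcon, closure_empty] at h1
    obtain ⟨y, hy⟩ := hne
    exact h1 hy
  tfae_have 1 → 5 := by
    intro ha Z Z' hZ hZ' e
    exact Groth.Agent.H25.IsLQC.eq_of_inter_eq ha hZ hZ' e
  tfae_have 5 → 4 := by
    intro hc Z Z' hZ hZ' e
    have h1 : Groth.Agent.H25.IsQC Z := hZ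
    have h2 : Groth.Agent.H25.IsQC Z' := hZ'
    exact hc Z Z' h1.isLQC h2.isLQC e
  tfae_have 4 → 1 := by
    intro hc Z hZ hne
    by_contra hcon
    rw [Set.not_nonempty_iff_eq_empty] at hcon
    have := hc Z ∅ (Groth.Agent.H25.IsLocallyClosed.isQC hZ) Groth.Agent.H25.isQC_empty
      (by rw [hcon, Set.empty_inter])
    rw [this] at hne
    exact Set.not_nonempty_empty hne
  tfae_finish

end Groth.Agent.S4903
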