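import Groth.Statements.S4914
-- import your own Groth.Agent.* helpers here

set_option autoImplicit false
open CategoryTheory AlgebraicGeometry
universe u v w
open EGA43

namespace Groth.Agent.S4914

/-- Let ψ : X → Y be a continuous map, x a point of X, and (Y_i) a locally finite covering of Y by
closed subsets. If for every index i with ψ x ∈ Y_i the restriction ψ⁻¹(Y_i) → Y_i of ψ is open at
x, then ψ is open at x. -/
theorem result {α : Type u} {β : Type v} {ι : Type w} [TopologicalSpace α]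
    [TopologicalSpace β] (ψ : α → β) (hψ : Continuous ψ) (x : α) (Y : ι → Set β) (hY : LocallyFinite Y)
    (hcl : ∀ i, IsClosed (Y i)) (hcov : ⋃ i, Y i = Set.univ)
    (h : ∀ i, ∀ hi : ψ x ∈ Y i, EGA43.IsOpenAt ((Y i).restrictPreimage ψ) ⟨x, hi⟩) :
    EGA43.IsOpenAt ψ x := by
  intro U hU
  have hfin : {i | ψ x ∈ Y i}.Finite := hY.point_finite (ψ x)
  -- complement of the union of the members not containing ψ x
  have hcl : IsClosed (⋃ i : {i // ψ x ∉ Y i}, Y i.1) :=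
    (hY.comp_injective Subtype.val_injective).isClosed_iUnion (fun i => hcl i.1)
  have hW : (⋃ i : {i // ψ x ∉ Y i}, Y i.1)ᶜ ∈ nhds (ψ x) := by
    apply hcl.isOpen_compl.mem_nhds
    simp only [Set.mem_compl_iff, Set.mem_iUnion, not_exists]
    rintro ⟨i, hi⟩
    exact hi
  -- for each i with ψ x ∈ Y i choose a neighbourhood
  have hN : ∀ i : {i // ψ x ∈ Y i}, ∃ N ∈ nhds (ψ x), N ∩ Y i.1 ⊆ ψ '' U := by
    rintro ⟨i, hi⟩
    have h0 := h i hi ((Subtype.val : ψ ⁻¹' (Y i) → α) ⁻¹' U)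
      (continuous_subtype_val.continuousAt.preimage_mem_nhds hU)
    rw [nhds_subtype_eq_comap, Filter.mem_comap] at h0
    obtain ⟨N, hN, hNU⟩ := h0
    refine ⟨N, hN, ?_⟩
    rintro y ⟨hyN, hyY⟩
    have : (⟨y, hyY⟩ : Y i) ∈ (Y i).restrictPreimage ψ '' (Subtype.val ⁻¹' U) := hNU hyN
    obtain ⟨⟨v, hv⟩, hvU, hvy⟩ := this
    refine ⟨v, hvU, ?_⟩
    exact congrArg Subtype.val hvy
  choose N hN hNU using hN
  have hfin' : Finite {i // ψ x ∈ Y i} := hfin.to_subtype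
  have hI : (⋂ i : {i // ψ x ∈ Y i}, N i) ∈ nhds (ψ x) := Filter.iInter_mem.2 hN
  refine Filter.mem_of_superset (Filter.inter_mem hW hI) ?_
  rintro y ⟨hy1, hy2⟩
  have : y ∈ ⋃ i, Y i := by rw [hcov]; trivial
  obtain ⟨i, hi⟩ := Set.mem_iUnion.1 this
  by_cases hxi : ψ x ∈ Y i
  · exact hNU ⟨i, hxi⟩ ⟨Set.mem_iInter.1 hy2 ⟨i, hxi⟩, hi⟩
  · exact absurd (Set.mem_iUnion.2 ⟨⟨i, hxi⟩, hi⟩) hy1

end Groth.Agent.S4914
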