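import Groth.Statements.S4921
import Groth.Agent.H17.Chev.OpenDim

set_option autoImplicit false
open CategoryTheory AlgebraicGeometry
universe u v w
open EGA43

namespace Groth.Agent.S4921

/-- Let Y be a locally Noetherian scheme, f : X ⟶ Y a proper morphism and y a point of Y such that f is
open at every point of the fibre over y. Then the function z ↦ dim X_z is constant on a
neighbourhood of y. -/
theorem result {X Y : Scheme.{u}} [IsLocallyNoetherian Y] (f : X ⟶ Y)
    [IsProper f] (y : Y) (h : ∀ x : X, f.base x = y → EGA43.IsOpenAt f.base x) :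
    ∃ V ∈ nhds y, ∀ z ∈ V, topologicalKrullDim ↥(f.fiber z) = topologicalKrullDim ↥(f.fiber y) := by
  open Groth.Agent.H17.Chev in
  have hU := fun c => isOpen_setOf_dim_fiber_le f f.isClosedMap c
  obtain ⟨O, hyO, hO⟩ := Groth.Agent.H17.Chev.exists_open_forall_exists_isMax Y y
  have hC : IsClosed {z : Y | topologicalKrullDim ↥(f.fiber y) ≤ topologicalKrullDim ↥(f.fiber z)} := by
    rw [← isOpen_compl_iff, isOpen_iff_forall_mem_open]
    intro z hz
    have hz' : topologicalKrullDim ↥(f.fiber z) < topologicalKrullDim ↥(f.fiber y) := not_le.mp hz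
    refine ⟨_, ?_, hU (topologicalKrullDim ↥(f.fiber z)), (le_refl _ : topologicalKrullDim ↥(f.fiber z) ≤ _)⟩
    intro z' hz'' hcon
    exact absurd (lt_of_le_of_lt (hcon.trans hz'') hz') (lt_irrefl _)
  refine ⟨{z | topologicalKrullDim ↥(f.fiber z) ≤ topologicalKrullDim ↥(f.fiber y)} ∩ (O : Set Y),
    Filter.inter_mem ((hU _).mem_nhds (le_refl _ : topologicalKrullDim ↥(f.fiber y) ≤ _)) (O.isOpen.mem_nhds hyO), ?_⟩
  rintro z ⟨hz1, hzO⟩
  apply le_antisymm hz1
  obtain ⟨η, -, hηy, hηz⟩ := hO z hzO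
  have h1 := Groth.Agent.H17.Chev.dim_fiber_le_of_isOpenAt_of_specializes f y h η hηy
  exact hηz.mem_closed hC h1

end Groth.Agent.S4921
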