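import Groth.Statements.S4922
import Groth.Agent.H17.Chev.OpenDim2

set_option autoImplicit false
open CategoryTheory AlgebraicGeometry
universe u v w
open EGA43

namespace Groth.Agent.S4922

/-- Let Y be a locally Noetherian scheme, f : X ⟶ Y an open morphism of finite type and y a point of Y.
If dim X_y = dim X_{η} for the generic point η of every irreducible component of Y containing y,
then z ↦ dim X_z is constant on a neighbourhood of y. -/
theorem result {X Y : Scheme.{u}} [IsLocallyNoetherian Y]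
    (f : X ⟶ Y) [LocallyOfFiniteType f] [QuasiCompact f] (hf : IsOpenMap f.base) (y : Y)
    (h : ∀ η : Y, y ∈ closure {η} → closure {η} ∈ irreducibleComponents (Y : Type u) →
      topologicalKrullDim ↥(f.fiber y) = topologicalKrullDim ↥(f.fiber η)) :
    ∃ V ∈ nhds y, ∀ z ∈ V, topologicalKrullDim ↥(f.fiber z) = topologicalKrullDim ↥(f.fiber y) := by
  have hopenAt : ∀ x : X, EGA43.IsOpenAt f.base x := by
    intro x U hU
    rw [mem_nhds_iff] at hU
    obtain ⟨W, hWU, hW, hxW⟩ := hU
    exact Filter.mem_of_superset ((hf W hW).mem_nhds ⟨x, hxW, rfl⟩) (Set.image_mono hWU)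
  obtain ⟨O, hyO, hO⟩ := Groth.Agent.H17.Chev.exists_open_forall_exists_isMax Y y
  have hLB := Groth.Agent.H17.Chev.setOf_dim_fiber_ge_mem_nhds f y (fun x _ => hopenAt x)
  refine ⟨_, Filter.inter_mem hLB (O.isOpen.mem_nhds hyO), ?_⟩
  rintro z ⟨hz1, hzO⟩
  apply le_antisymm _ hz1
  obtain ⟨η, hηmax, hηy, hηz⟩ := hO z hzO
  have h1 := Groth.Agent.H17.Chev.dim_fiber_le_of_isOpenAt_of_specializes f z
    (fun x _ => hopenAt x) η hηz
  rw [h η hηy.mem_closure (Groth.Agent.H17.Chev.closure_mem_irreducibleComponents_of_isMax Y η hηmax)]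
  exact h1

end Groth.Agent.S4922
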