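import Groth.Statements.S4923
import Groth.Agent.H17.Chev.OpenDim3

set_option autoImplicit false
open CategoryTheory AlgebraicGeometry
universe u v w
open EGA43

namespace Groth.Agent.S4923

/-- Let Y be a locally Noetherian scheme, f : X ⟶ Y an open morphism of finite type and y a point of Y;
for z in Y let E(z) be the set of dimensions of the irreducible components of the fibre X_z. If E(y)
= E(η) for the generic point η of every irreducible component of Y containing y, then E is constant
on a neighbourhood of y. -/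
theorem result {X Y : Scheme.{u}}
    [IsLocallyNoetherian Y] (f : X ⟶ Y) [LocallyOfFiniteType f] [QuasiCompact f] (hf : IsOpenMap f.base) (y : Y) :
    letI E : Y → Set (WithBot ℕ∞) := fun z =>
      (fun Z : Set ↥(f.fiber z) => topologicalKrullDim ↥Z) '' irreducibleComponents ↥(f.fiber z)
    (∀ η : Y, y ∈ closure {η} → closure {η} ∈ irreducibleComponents (Y : Type u) → E y = E η) →
      ∃ V ∈ nhds y, ∀ z ∈ V, E z = E y := by
  intro hE
  have hopenAt : ∀ x : X, EGA43.IsOpenAt f.base x := by
    intro x U hU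
    rw [mem_nhds_iff] at hU
    obtain ⟨W, hWU, hW, hxW⟩ := hU
    exact Filter.mem_of_superset ((hf W hW).mem_nhds ⟨x, hxW, rfl⟩) (Set.image_mono hWU)
  obtain ⟨O, hyO, hO⟩ := Groth.Agent.H17.Chev.exists_open_forall_exists_isMax Y y
  have hfin : (Groth.Agent.H17.Chev.compDims ↥(f.fiber y)).Finite :=
    (Groth.Agent.H17.Chev.finite_irreducibleComponents_fiber f y).image _
  have hN : (⋂ k ∈ Groth.Agent.H17.Chev.compDims ↥(f.fiber y),
      {z : Y | k ∈ Groth.Agent.H17.Chev.compDims ↥(f.fiber z)}) ∈ nhds y :=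
    (Filter.biInter_mem hfin).mpr fun k hk =>
      Groth.Agent.H17.Chev.setOf_mem_compDims_mem_nhds f y (fun x _ => hopenAt x) k hk
  refine ⟨_, Filter.inter_mem hN (O.isOpen.mem_nhds hyO), ?_⟩
  rintro z ⟨hz1, hzO⟩
  change Groth.Agent.H17.Chev.compDims ↥(f.fiber z) = Groth.Agent.H17.Chev.compDims ↥(f.fiber y)
  apply Set.Subset.antisymm
  · obtain ⟨η, hηmax, hηy, hηz⟩ := hO z hzO
    have h1 := Groth.Agent.H17.Chev.compDims_fiber_subset_of_isOpenAt_of_specializes f z
      (fun x _ => hopenAt x) η hηz
    have h2 : Groth.Agent.H17.Chev.compDims ↥(f.fiber y) =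
        Groth.Agent.H17.Chev.compDims ↥(f.fiber η) :=
      hE η hηy.mem_closure
        (Groth.Agent.H17.Chev.closure_mem_irreducibleComponents_of_isMax Y η hηmax)
    rw [h2]
    exact h1
  · intro k hk
    simp only [Set.mem_iInter] at hz1
    exact hz1 k hk

end Groth.Agent.S4923
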