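import Groth.Statements.S4924
import Groth.Agent.H17.Chev.OpenDim2

set_option autoImplicit false
open CategoryTheory AlgebraicGeometry
universe u v w
open EGA43

namespace Groth.Agent.S4924

/-- Let Y be a locally Noetherian scheme, f : X ⟶ Y an open morphism of finite type and y a point of Y.
Then there is an open neighbourhood U of the fibre f⁻¹(y) in X such that the function z ↦ dim (U ∩
f⁻¹(z)) is constant on a neighbourhood of y. -/
theorem result {X Y : Scheme.{u}} [IsLocallyNoetherian Y]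
    (f : X ⟶ Y) [LocallyOfFiniteType f] [QuasiCompact f] (hf : IsOpenMap f.base) (y : Y) :
    ∃ U : X.Opens, f.base ⁻¹' {y} ⊆ (U : Set X) ∧ ∃ V ∈ nhds y, ∀ z ∈ V,
      topologicalKrullDim ↥((U : Set X) ∩ f.base ⁻¹' {z}) = topologicalKrullDim ↥((U : Set X) ∩ f.base ⁻¹' {y}) := by
  have hXN : IsLocallyNoetherian X := LocallyOfFiniteType.isLocallyNoetherian f
  let U : X.Opens := ⟨{x | FlatMor.fibreDimAt f x ≤ topologicalKrullDim ↥(f.fiber y)},
    Groth.Agent.H17.Chev.isOpen_setOf_fibreDimAt_le' f _⟩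
  have hsub : f.base ⁻¹' {y} ⊆ (U : Set X) := fun x hx =>
    (Groth.Agent.H17.Chev.dim_fiber_le_iff f y _).mp le_rfl x hx
  have hqc : QuasiCompact (U.ι ≫ f) := inferInstance
  have hopenAt : ∀ u : ↥(U : Scheme.{u}), EGA43.IsOpenAt (U.ι ≫ f).base u := by
    intro u W hW
    rw [mem_nhds_iff] at hW
    obtain ⟨W', hW'W, hW', huW'⟩ := hW
    have h1 : IsOpen ((U.ι ≫ f).base '' W') := by
      have : (U.ι ≫ f).base '' W' = f.base '' (U.ι.base '' W') := by
        rw [Set.image_image]; rfl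
      rw [this]
      exact hf _ (U.ι.isOpenEmbedding.isOpenMap _ hW')
    exact Filter.mem_of_superset (h1.mem_nhds ⟨u, huW', rfl⟩) (Set.image_mono hW'W)
  have hsq : (U.ι ≫ f) ≫ 𝟙 Y = U.ι ≫ f := Category.comp_id _
  have hdimU : ∀ z : Y, topologicalKrullDim ↥((U : Set X) ∩ f.base ⁻¹' {z}) =
      topologicalKrullDim ↥((U.ι ≫ f).fiber z) := by
    intro z
    rw [Groth.Agent.H17.Chev.sq_dim_fiber f U.ι (𝟙 Y) (U.ι ≫ f) hsq Function.injective_id z]
    apply Groth.Agent.H17.Chev.topologicalKrullDim_subtype_congr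
    rw [Scheme.Opens.range_ι]
    rfl
  have hup : ∀ z : Y, topologicalKrullDim ↥((U.ι ≫ f).fiber z) ≤ topologicalKrullDim ↥(f.fiber y) := by
    intro z
    rw [Groth.Agent.H17.Chev.dim_fiber_le_iff]
    intro u _
    have := Groth.Agent.H17.Chev.fibreDimAt_ι_comp f U u
    rw [this]
    exact u.2
  have hy : topologicalKrullDim ↥(f.fiber y) ≤ topologicalKrullDim ↥((U.ι ≫ f).fiber y) := by
    rw [Groth.Agent.H17.Chev.dim_fiber_le_iff]
    intro x hx
    have h1 := (Groth.Agent.H17.Chev.dim_fiber_le_iff (U.ι ≫ f) y _).mp le_rfl ⟨x, hsub hx⟩ hx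
    have h2 := Groth.Agent.H17.Chev.fibreDimAt_ι_comp f U ⟨x, hsub hx⟩
    rw [h2] at h1
    exact h1
  have hLB := Groth.Agent.H17.Chev.setOf_dim_fiber_ge_mem_nhds (U.ι ≫ f) y (fun u _ => hopenAt u)
  refine ⟨U, hsub, _, hLB, fun z hz => ?_⟩
  rw [hdimU z, hdimU y]
  exact le_antisymm ((hup z).trans hy) hz

end Groth.Agent.S4924
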