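import Groth.Statements.S4927
import Groth.Agent.H25.OpenAt

set_option autoImplicit false
open CategoryTheory AlgebraicGeometry
universe u v w
open EGA43
open CategoryTheory.Limits

namespace Groth.Agent.S4927

open CategoryTheory.Limits in
/-- Let f : X ⟶ Y be a morphism of S-schemes (structure morphisms p and q) which is universally open at
the point x, and let g : S' ⟶ S be a morphism. Then the morphism X ×_S S' ⟶ Y ×_S S' induced by f is
universally open at every point of X ×_S S' lying over x. -/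
theorem result {X Y S S' : Scheme.{u}} (p : X ⟶ S) (q : Y ⟶ S) (f : X ⟶ Y)
    (g : S' ⟶ S) (e₁ : p ≫ 𝟙 S = f ≫ q) (e₂ : g ≫ 𝟙 S = 𝟙 S' ≫ g) (x : X) (h : EGA43.IsUnivOpenAt f x)
    (x' : ↥(pullback p g)) (hx' : (pullback.fst p g).base x' = x) :
    EGA43.IsUnivOpenAt (pullback.map p g q g f (𝟙 S') (𝟙 S) e₁ e₂) x' := by
  have hp : p = f ≫ q := by rw [← e₁, Category.comp_id]
  subst hp
  have m1 : pullback.map (f ≫ q) g q g f (𝟙 S') (𝟙 S) e₁ e₂ ≫ pullback.fst q g =
      pullback.fst (f ≫ q) g ≫ f := pullback.lift_fst _ _ _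
  have m2 : pullback.map (f ≫ q) g q g f (𝟙 S') (𝟙 S) e₁ e₂ ≫ pullback.snd q g =
      pullback.snd (f ≫ q) g := by
    rw [pullback.map, pullback.lift_snd, Category.comp_id]
  have sqR : IsPullback (pullback.snd q g) (pullback.fst q g) g q :=
    (IsPullback.of_hasPullback q g).flip
  have sqO : IsPullback (pullback.map (f ≫ q) g q g f (𝟙 S') (𝟙 S) e₁ e₂ ≫ pullback.snd q g)
      (pullback.fst (f ≫ q) g) g (f ≫ q) := by
    rw [m2]
    exact (IsPullback.of_hasPullback (f ≫ q) g).flip
  have sqL := IsPullback.of_right sqO m1 sqR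
  exact Groth.Agent.H25.isUnivOpenAt_of_isPullback h sqL.flip x' hx'

end Groth.Agent.S4927
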