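import Groth.Statements.S4929
import Groth.Agent.H25.OpenAt
import Groth.Agent.S4914

set_option autoImplicit false
open CategoryTheory AlgebraicGeometry
universe u v w
open EGA43
open CategoryTheory.Limits

namespace Groth.Agent.S4929

open CategoryTheory.Limits in
/-- Let f : X ⟶ Y be a morphism of schemes, x a point of X, and (Y_i ⟶ Y) a finite family of closed
immersions whose images cover Y. If for every i the base change X ×_Y Y_i ⟶ Y_i is universally open
at every point lying over x, then f is universally open at x. -/
theorem result {X Y : Scheme.{u}} (f : X ⟶ Y) (x : X) {ι : Type w}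
    [Finite ι] (T : ι → Scheme.{u}) (g : ∀ i, T i ⟶ Y) [∀ i, IsClosedImmersion (g i)]
    (hcov : ⋃ i, Set.range (g i).base = Set.univ)
    (h : ∀ i, ∀ x' : ↥(pullback f (g i)), (pullback.fst f (g i)).base x' = x →
      EGA43.IsUnivOpenAt (pullback.snd f (g i)) x') :
    EGA43.IsUnivOpenAt f x := by
  intro Y' k x' hx'
  have hcl : ∀ i, IsClosed (Set.range (pullback.snd (g i) k).base) :=
    fun i => (pullback.snd (g i) k).isClosedEmbedding.isClosed_range
  have hcov' : ⋃ i, Set.range (pullback.snd (g i) k).base = Set.univ := by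
    rw [Set.eq_univ_iff_forall]
    intro y'
    have : k.base y' ∈ ⋃ i, Set.range (g i).base := by rw [hcov]; trivial
    obtain ⟨i, t, ht⟩ := Set.mem_iUnion.1 this
    obtain ⟨z, -, hz⟩ := Scheme.Pullback.exists_preimage_pullback (f := g i) (g := k) t y' ht
    exact Set.mem_iUnion.2 ⟨i, z, hz⟩
  refine Groth.Agent.S4914.result (pullback.snd f k).base (pullback.snd f k).continuous x'
    (fun i => Set.range (pullback.snd (g i) k).base) (locallyFinite_of_finite _) hcl hcov' ?_
  intro i hi
  obtain ⟨t, ht⟩ := hi
  obtain ⟨p, hp1, hp2⟩ := Scheme.Pullback.exists_preimage_pullback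
    (f := pullback.snd f k) (g := pullback.snd (g i) k) x' t ht.symm
  have key := Groth.Agent.H25.isOpenAt_restrictPreimage_of_isEmbedding
    (pullback.snd f k).base (pullback.snd (g i) k).base
    (pullback.snd (g i) k).isClosedEmbedding.isEmbedding
    (pullback.fst (pullback.snd f k) (pullback.snd (g i) k)).base
    (pullback.snd (pullback.snd f k) (pullback.snd (g i) k)).base
    (pullback.fst (pullback.snd f k) (pullback.snd (g i) k)).continuous
    (fun q => by
      rw [← Scheme.Hom.comp_apply, ← Scheme.Hom.comp_apply, pullback.condition])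
    p (Groth.Agent.H25.isOpenAt_double_baseChange f (g i) k x (h i) x' hx' p hp1)
  have e : (⟨x', ⟨t, ht⟩⟩ : ↥((pullback.snd f k).base ⁻¹' Set.range (pullback.snd (g i) k).base)) =
      ⟨(pullback.fst (pullback.snd f k) (pullback.snd (g i) k)).base p,
        ⟨(pullback.snd (pullback.snd f k) (pullback.snd (g i) k)).base p, by
          rw [← Scheme.Hom.comp_apply, ← Scheme.Hom.comp_apply, pullback.condition]⟩⟩ :=
    Subtype.ext hp1.symm
  rw [e]
  exact key

end Groth.Agent.S4929
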