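import Groth.Statements.S4935
import Groth.Agent.H25.Unibranch

set_option autoImplicit false
universe u
open EGA43

namespace Groth.Agent.S4935

/-- Let A be a unibranch local domain, B a domain containing A and integral over A, and 𝔫 a prime ideal
of B lying over the maximal ideal of A. Then Spec B_𝔫 → Spec A is surjective: for every prime ideal
𝔭 of A there is a prime ideal 𝔮 ⊆ 𝔫 of B with 𝔮 ∩ A = 𝔭. -/
theorem result {A B : Type u} [CommRing A] [IsDomain A]
    [IsLocalRing A] (hA : CAlg2.IsUnibranch A) [CommRing B] [IsDomain B] [Algebra A B]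
    (hinj : Function.Injective (algebraMap A B)) [Algebra.IsIntegral A B] (n : Ideal B) [n.IsPrime]
    (hn : n.comap (algebraMap A B) = IsLocalRing.maximalIdeal A) (p : Ideal A) [p.IsPrime] :
    ∃ q : Ideal B, q.IsPrime ∧ q ≤ n ∧ q.comap (algebraMap A B) = p := by
  obtain ⟨hdom, hloc⟩ := hA
  have hnil : nilradical A = ⊥ := nilradical_eq_zero A
  let R := CAlg2.red A
  have hmk_surj : Function.Surjective (Ideal.Quotient.mk (nilradical A)) := Ideal.Quotient.mk_surjective
  have hmk_inj : Function.Injective (Ideal.Quotient.mk (nilradical A)) := by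
    rw [RingHom.injective_iff_ker_eq_bot, Ideal.mk_ker, hnil]
  have hRloc : IsLocalRing R := IsLocalRing.of_surjective' (Ideal.Quotient.mk (nilradical A)) hmk_surj
  let ψ : R →+* B := Ideal.Quotient.lift (nilradical A) (algebraMap A B) (by
    intro a ha
    rw [hnil] at ha
    rw [(Ideal.mem_bot.1 ha), map_zero])
  letI algRB : Algebra R B := ψ.toAlgebra
  have hcomp : (algebraMap R B).comp (Ideal.Quotient.mk (nilradical A)) = algebraMap A B := by
    ext a; rfl
  have hψinj : Function.Injective (algebraMap R B) := by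
    intro x y hxy
    obtain ⟨a, rfl⟩ := hmk_surj x
    obtain ⟨b, rfl⟩ := hmk_surj y
    have : algebraMap A B a = algebraMap A B b := hxy
    rw [hinj this]
  have hint : Algebra.IsIntegral R B := by
    refine ⟨fun b => ?_⟩
    obtain ⟨P, hP, hPb⟩ := Algebra.IsIntegral.isIntegral (R := A) b
    refine ⟨P.map (Ideal.Quotient.mk (nilradical A)), hP.map _, ?_⟩
    rw [Polynomial.eval₂_map, hcomp]
    exact hPb
  have hn' : n.comap (algebraMap R B) = IsLocalRing.maximalIdeal R := by
    apply Ideal.comap_injective_of_surjective _ hmk_surj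
    rw [Ideal.comap_comap, hcomp, hn]
    symm
    apply IsLocalRing.eq_maximalIdeal
    exact Ideal.comap_isMaximal_of_surjective _ hmk_surj
  have hpR : (p.map (Ideal.Quotient.mk (nilradical A))).IsPrime :=
    Ideal.map_isPrime_of_surjective hmk_surj (by rw [Ideal.mk_ker, hnil]; exact bot_le)
  obtain ⟨q, hq, hqn, hqp⟩ := Groth.Agent.H25.exists_prime_le_comap_eq_of_unibranch (R := R) (B := B)
    hloc hψinj n hn' (p.map (Ideal.Quotient.mk (nilradical A)))
  refine ⟨q, hq, hqn, ?_⟩
  rw [← hcomp, ← Ideal.comap_comap, hqp, Ideal.comap_map_of_surjective _ hmk_surj,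
    ← RingHom.ker_eq_comap_bot, Ideal.mk_ker, hnil, sup_bot_eq]

end Groth.Agent.S4935
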