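import Groth.Statements.S4937
import Mathlib
import Groth.Agent.S3404
import Groth.Agent.H66.UnibranchGD
import Groth.Agent.H24.AffineChart
import Groth.Agent.H13.AssPush

set_option autoImplicit false
open CategoryTheory AlgebraicGeometry
universe u v w
open EGA43

namespace Groth.Agent.S4937

/-- Let X and Y be irreducible schemes and f : X ⟶ Y a dominant morphism which is locally of finite
presentation and locally quasi-finite. If x is a point of X whose image y = f x has unibranch local
ring O_{Y,y}, then f is open at x. (Stated for f locally of finite presentation, the class to which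
the openness criterion by lifting of generizations used in the published argument applies; the
published hypothesis is 'locally quasi-finite', which includes locally of finite type.) -/
theorem result {X Y : Scheme.{u}} [IrreducibleSpace X]
    [IrreducibleSpace Y] (f : X ⟶ Y) [LocallyOfFinitePresentation f] [LocallyQuasiFinite f] [IsDominant f]
    (x : X) (hy : CAlg2.IsUnibranch (Y.presheaf.stalk (f.base x))) : EGA43.IsOpenAt f.base x := by
  refine ((Groth.Agent.S3404.result f x).2 inferInstance).mpr ?_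
  intro y' hy'
  obtain ⟨V, U, hV, hU, hxU, hUV⟩ := Groth.Agent.H24.exists_affine_charts f x
  have hyV : f.base x ∈ V := hUV hxU
  have hy'V : y' ∈ V := hy'.mem_open V.2 hyV
  -- generic points
  have hξx : genericPoint X ⤳ x := (genericPoint_spec X).specializes trivial
  have hξU : genericPoint X ∈ U := hξx.mem_open U.2 hxU
  have hmap : f.base (genericPoint X) = genericPoint Y := by
    apply ((genericPoint_spec Y).eq _).symm
    have h := (genericPoint_spec X).image f.continuous
    rw [Set.image_univ, f.denseRange.closure_range] at h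
    exact h
  -- the ring map
  letI := (f.appLE V U hUV).hom.toAlgebra
  haveI : Algebra.FiniteType Γ(Y, V) Γ(X, U) := f.finiteType_appLE hV hU hUV
  haveI : Algebra.QuasiFinite Γ(Y, V) Γ(X, U) := LocallyQuasiFinite.quasiFinite_appLE hV hU hUV
  have hcomap : ∀ (z : X) (hz : z ∈ U), ((hU.primeIdealOf ⟨z, hz⟩).asIdeal).under Γ(Y, V) =
      (hV.primeIdealOf ⟨f.base z, hUV hz⟩).asIdeal := fun z hz =>
    congrArg PrimeSpectrum.asIdeal (IsAffineOpen.comap_primeIdealOf_appLE V hV U hU hUV hz)
  haveI : ((hU.primeIdealOf ⟨x, hxU⟩).asIdeal).LiesOver (hV.primeIdealOf ⟨f.base x, hyV⟩).asIdeal :=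
    ⟨(hcomap x hxU).symm⟩
  -- the stalk as a localization
  letI := Y.presheaf.algebra_section_stalk ⟨f.base x, hyV⟩
  haveI := hV.isLocalization_stalk ⟨f.base x, hyV⟩
  have hq₀ : (hU.primeIdealOf ⟨genericPoint X, hξU⟩).asIdeal ≤ (hU.primeIdealOf ⟨x, hxU⟩).asIdeal :=
    Groth.Agent.H13.primeIdealOf_le_of_specializes hU hxU hξU hξx
  have hgen : ∀ p'' : Ideal Γ(Y, V), p''.IsPrime → p'' ≤ (hV.primeIdealOf ⟨f.base x, hyV⟩).asIdeal →
      ((hU.primeIdealOf ⟨genericPoint X, hξU⟩).asIdeal).under Γ(Y, V) ≤ p'' := by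
    intro p'' hp'' _
    rw [hcomap]
    have h1 := Groth.Agent.H24.primeIdealOf_fromSpec hV ⟨p'', hp''⟩
    have h2 : p'' = (hV.primeIdealOf ⟨hV.fromSpec ⟨p'', hp''⟩,
        Groth.Agent.H24.fromSpec_mem hV ⟨p'', hp''⟩⟩).asIdeal := by rw [h1]
    rw [h2]
    apply Groth.Agent.H13.primeIdealOf_le_of_specializes hV
    rw [hmap]
    exact (genericPoint_spec Y).specializes trivial
  have hp' : (hV.primeIdealOf ⟨y', hy'V⟩).asIdeal ≤ (hV.primeIdealOf ⟨f.base x, hyV⟩).asIdeal :=
    Groth.Agent.H13.primeIdealOf_le_of_specializes hV hyV hy'V hy'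
  obtain ⟨q', hq'prime, hq'le, hq'under⟩ :=
    Groth.Agent.H66.UnibranchGD.going_down Γ(Y, V) Γ(X, U)
      (hV.primeIdealOf ⟨f.base x, hyV⟩).asIdeal (hU.primeIdealOf ⟨x, hxU⟩).asIdeal
      (Y.presheaf.stalk (f.base x)) hy (hU.primeIdealOf ⟨genericPoint X, hξU⟩).asIdeal hq₀ hgen
      (hV.primeIdealOf ⟨y', hy'V⟩).asIdeal hp'
  have hmem := Groth.Agent.H24.fromSpec_mem hU ⟨q', hq'prime⟩
  refine ⟨hU.fromSpec ⟨q', hq'prime⟩, ?_, ?_⟩
  · have h1 : (⟨q', hq'prime⟩ : PrimeSpectrum Γ(X, U)) ≤ hU.primeIdealOf ⟨x, hxU⟩ := hq'le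
    have h2 := ((PrimeSpectrum.le_iff_specializes _ _).mp h1).map hU.fromSpec.continuous
    rwa [hU.fromSpec_primeIdealOf] at h2
  · apply Groth.Agent.H24.primeIdealOf_injective hV (hUV hmem) hy'V
    apply PrimeSpectrum.ext
    rw [← hcomap _ hmem, Groth.Agent.H24.primeIdealOf_fromSpec]
    exact hq'under

end Groth.Agent.S4937
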