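import Groth.Statements.S4939
import Mathlib
import Groth.Agent.H17.UO.EquidimGU

set_option autoImplicit false
open CategoryTheory AlgebraicGeometry
universe u v w
open EGA43

namespace Groth.Agent.S4939

/-- Suppose Y is a locally Noetherian scheme and f : X ⟶ Y is locally of finite type; take a point x of
X whose image y = f x is geometrically unibranch on Y. Then these three conditions are equivalent:
a) f is equidimensional at x; b) O_{X,x} is an equidimensional local ring, and f is open at every
generic point of an irreducible component of the fibre X_y that contains x; c) O_{X,x} is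
equidimensional, and f is universally open at every such generic point of an irreducible component
of X_y passing through x. (Not formalized here is the additional claim that, when these hold,
restricting f to any reduced irreducible component of X through x gives a morphism equidimensional
at x and universally open at the points of the components of its fibre through x.) -/
theorem result {X Y : Scheme.{u}} [IsLocallyNoetherian Y] (f : X ⟶ Y)
    [LocallyOfFiniteType f] (x : X) (hy : CAlg2.IsGeomUnibranch (Y.presheaf.stalk (f.base x))) :
    List.TFAE [EGA43.IsEquidimAt f x,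
      EGA4.IsEquidim (X.presheaf.stalk x) ∧ (∀ z : ↥(f.fiber (f.base x)), f.asFiber x ∈ closure {z} →
        (∀ z' : ↥(f.fiber (f.base x)), z ∈ closure {z'} → z' = z) → EGA43.IsOpenAt f.base ((f.fiberι (f.base x)).base z)),
      EGA4.IsEquidim (X.presheaf.stalk x) ∧ (∀ z : ↥(f.fiber (f.base x)), f.asFiber x ∈ closure {z} →
        (∀ z' : ↥(f.fiber (f.base x)), z ∈ closure {z'} → z' = z) → EGA43.IsUnivOpenAt f ((f.fiberι (f.base x)).base z))] := by
  open Groth.Agent.H17.UO Groth.Agent.H17.Chev in
  have hXN : IsLocallyNoetherian X := LocallyOfFiniteType.isLocallyNoetherian f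
  have hpt : ∀ z : ↥(f.fiber (f.base x)), f.asFiber x ∈ closure {z} →
      (f.fiberι (f.base x)).base z ⤳ x ∧ f.base ((f.fiberι (f.base x)).base z) = f.base x := by
    intro z hz
    have h1 : z ⤳ f.asFiber x := specializes_iff_mem_closure.mpr hz
    have h2 := h1.map (f.fiberι (f.base x)).continuous
    rw [f.fiberι_asFiber] at h2
    refine ⟨h2, ?_⟩
    have : (f.fiberι (f.base x)).base z ∈ Set.range (f.fiberι (f.base x)).base := ⟨z, rfl⟩
    rw [Scheme.Hom.range_fiberι] at this
    exact this
  tfae_have 1 → 3 := by
    intro h
    refine ⟨Groth.Agent.H17.UO.isEquidim_stalk_of_isEquidimAt_of_isGeomUnibranch f x hy h,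
      fun z hz _ => ?_⟩
    obtain ⟨h2, h3⟩ := hpt z hz
    exact Groth.Agent.H17.UO.isUnivOpenAt_of_isEquidimAt f _
      (Groth.Agent.H17.UO.gu_congr h3.symm hy)
      (Groth.Agent.H17.UO.isEquidimAt_of_specializes f x _ h2 h3 h)
  tfae_have 3 → 2 := by
    rintro ⟨h1, h2⟩
    refine ⟨h1, fun z hz hm => ?_⟩
    exact Groth.Agent.H25.isOpenAt_of_isPullback (fst := 𝟙 X) (snd := f) (g := 𝟙 Y) (h2 z hz hm)
      IsPullback.of_id_fst _ rfl
  tfae_have 2 → 1 := by
    rintro ⟨h1, h2⟩
    exact Groth.Agent.H17.Chev.isEquidimAt_of_isEquidim_stalk_of_dim_formula f x h1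
      (Groth.Agent.H17.Chev.stalk_dim_eq_add_of_isOpenAt f x h2)
  tfae_finish

end Groth.Agent.S4939
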