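import Groth.Statements.S4942
import Groth.Agent.H25.OpenAt

set_option autoImplicit false
open CategoryTheory AlgebraicGeometry
universe u v w
open EGA43
open CategoryTheory.Limits

namespace Groth.Agent.S4942

open CategoryTheory.Limits in
/-- Let v : Y₁ ⟶ Y be a universally closed surjective morphism of schemes, f : X ⟶ Y a morphism and x a
point of X. If the base change f₁ : X ×_Y Y₁ ⟶ Y₁ is universally open at every point of X ×_Y Y₁
lying over x, then f is universally open at x. -/
theorem result {X Y Y₁ : Scheme.{u}} (v : Y₁ ⟶ Y)
    [UniversallyClosed v] [Surjective v] (f : X ⟶ Y) (x : X)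
    (h : ∀ x₁ : ↥(pullback f v), (pullback.fst f v).base x₁ = x → EGA43.IsUnivOpenAt (pullback.snd f v) x₁) :
    EGA43.IsUnivOpenAt f x := by
  intro Y' g x' hx'
  -- the base change of v to Y'
  have hv'c : IsClosedMap (pullback.snd v g).base := (pullback.snd v g).isClosedMap
  have hv's : Function.Surjective (pullback.snd v g).base := by
    intro y'
    obtain ⟨y₁, hy₁⟩ := v.surjective (g.base y')
    obtain ⟨z, -, hz⟩ := Scheme.Pullback.exists_preimage_pullback (f := v) (g := g) y₁ y' hy₁
    exact ⟨z, hz⟩
  refine Groth.Agent.H25.isOpenAt_of_closed_surjective (pullback.snd v g) hv'c hv's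
    (pullback.snd f g) x' (IsPullback.of_hasPullback (pullback.snd f g) (pullback.snd v g)) ?_
  intro x₁ hx₁
  -- the comparison map to `pullback f v`
  have cond : (pullback.fst (pullback.snd f g) (pullback.snd v g) ≫ pullback.fst f g) ≫ f =
      (pullback.snd (pullback.snd f g) (pullback.snd v g) ≫ pullback.fst v g) ≫ v := by
    rw [Category.assoc, pullback.condition, ← Category.assoc, pullback.condition, Category.assoc,
      Category.assoc, pullback.condition]
  let a : pullback (pullback.snd f g) (pullback.snd v g) ⟶ pullback f v :=
    pullback.lift _ _ cond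
  have a1 : a ≫ pullback.fst f v =
      pullback.fst (pullback.snd f g) (pullback.snd v g) ≫ pullback.fst f g := pullback.lift_fst _ _ _
  have a2 : a ≫ pullback.snd f v =
      pullback.snd (pullback.snd f g) (pullback.snd v g) ≫ pullback.fst v g := pullback.lift_snd _ _ _
  have sqO : IsPullback (a ≫ pullback.fst f v) (pullback.snd (pullback.snd f g) (pullback.snd v g))
      f (pullback.fst v g ≫ v) := by
    rw [a1, pullback.condition]
    exact (IsPullback.of_hasPullback (pullback.snd f g) (pullback.snd v g)).paste_horiz
      (IsPullback.of_hasPullback f g)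
  have sqL := IsPullback.of_right sqO a2 (IsPullback.of_hasPullback f v)
  have hx : (pullback.fst f v).base (a.base x₁) = x := by
    rw [← Scheme.Hom.comp_apply, a1, Scheme.Hom.comp_apply, hx₁, hx']
  exact Groth.Agent.H25.isOpenAt_of_isPullback (h (a.base x₁) hx) sqL x₁ rfl

end Groth.Agent.S4942
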