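import Groth.Statements.S4943
import Groth.Agent.H17.Chev.Equidim4

set_option autoImplicit false
open CategoryTheory AlgebraicGeometry
universe u v w
open EGA43

namespace Groth.Agent.S4943

/-- Let Y be an irreducible locally Noetherian scheme, f : X ⟶ Y a morphism locally of finite type which
is equidimensional at the point x, y = f x and e = dim_x(X_y). Let X' be an irreducible closed
subset of X containing x, with generic point x', and n a natural number such that codim(X', X) ≤ n
(the codimension being dim O_{X,x'}) and dim_x(X' ∩ X_y) ≤ e − n. Then codim(X', X) = n, dim_x(X' ∩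
X_y) = e − n, and the restriction of f to X' with its reduced subscheme structure is equidimensional
at x. -/
theorem result {X Y : Scheme.{u}} [IrreducibleSpace Y]
    [IsLocallyNoetherian Y] (f : X ⟶ Y) [LocallyOfFiniteType f] (x : X) (hf : EGA43.IsEquidimAt f x)
    (X' : TopologicalSpace.Closeds X) (x' : X) (hx' : closure ({x'} : Set X) = (X' : Set X)) (hx : x ∈ X') (n : ℕ)
    (hcodim : ringKrullDim (X.presheaf.stalk x') ≤ n)
    (hdim : FlatMor.localDim ↥((X' : Set X) ∩ f.base ⁻¹' {f.base x}) ⟨x, ⟨hx, rfl⟩⟩ + n ≤ FlatMor.fibreDimAt f x) :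
    ringKrullDim (X.presheaf.stalk x') = n ∧
      FlatMor.localDim ↥((X' : Set X) ∩ f.base ⁻¹' {f.base x}) ⟨x, ⟨hx, rfl⟩⟩ + n = FlatMor.fibreDimAt f x ∧
      ∀ w : ↥(Scheme.IdealSheafData.vanishingIdeal X').subscheme,
        (Scheme.IdealSheafData.vanishingIdeal X').subschemeι.base w = x →
        EGA43.IsEquidimAt ((Scheme.IdealSheafData.vanishingIdeal X').subschemeι ≫ f) w := by
  open Groth.Agent.H17.Chev in
  obtain ⟨r1, r2, r3, r4⟩ := equidim_closed_irreducible_main f x hf (X' : Set X) X'.isClosed x' hx'
    hx n hcodim hdim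
  refine ⟨r1, r2, ?_⟩
  intro w hw
  subst hw
  have hr : Set.range (Scheme.IdealSheafData.vanishingIdeal X').subschemeι.base = (X' : Set X) := by
    rw [Scheme.IdealSheafData.range_subschemeι]
    exact Scheme.IdealSheafData.coe_support_vanishingIdeal _
  obtain ⟨a', ha'⟩ : x' ∈ Set.range (Scheme.IdealSheafData.vanishingIdeal X').subschemeι.base := by
    rw [hr, ← hx']; exact subset_closure rfl
  open Groth.Agent.H17.Chev in
  obtain ⟨hirr, hcl⟩ := irreducibleSpace_of_isEmbedding
    (Scheme.IdealSheafData.vanishingIdeal X').subschemeι.base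
    (Scheme.IdealSheafData.vanishingIdeal X').subschemeι.isEmbedding a' (by rw [hr, ha', hx'])
  haveI := hirr
  haveI : IsDominant ((Scheme.IdealSheafData.vanishingIdeal X').subschemeι ≫ f) := by
    constructor
    rw [DenseRange, dense_iff_closure_eq, Set.eq_univ_iff_forall]
    intro y
    have h0 : ((Scheme.IdealSheafData.vanishingIdeal X').subschemeι ≫ f).base a' =
        genericPoint Y := by
      change f.base ((Scheme.IdealSheafData.vanishingIdeal X').subschemeι.base a') = _
      rw [ha', r3]
    have h1 : closure ({genericPoint Y} : Set Y) ⊆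
        closure (Set.range ((Scheme.IdealSheafData.vanishingIdeal X').subschemeι ≫ f).base) := by
      apply closure_mono
      rw [Set.singleton_subset_iff]
      exact ⟨a', h0⟩
    exact h1 ((genericPoint_spec Y).def ▸ Set.mem_univ y)
  have hsq : ((Scheme.IdealSheafData.vanishingIdeal X').subschemeι ≫ f) ≫ 𝟙 Y =
      (Scheme.IdealSheafData.vanishingIdeal X').subschemeι ≫ f := Category.comp_id _
  open Groth.Agent.H17.Chev in
  have h5 := sq_dim_fiber f (Scheme.IdealSheafData.vanishingIdeal X').subschemeι (𝟙 Y) _ hsq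
    Function.injective_id (genericPoint Y)
  open Groth.Agent.H17.Chev in
  have h6 := sq_fibreDimAt f (Scheme.IdealSheafData.vanishingIdeal X').subschemeι (𝟙 Y) _ hsq
    Function.injective_id w
  have h7 : (𝟙 Y : Y ⟶ Y).base (genericPoint Y) = genericPoint Y := rfl
  rw [h7, ← r3] at h5
  open Groth.Agent.H17.Chev in
  rw [topologicalKrullDim_subtype_congr (show Set.range
      (Scheme.IdealSheafData.vanishingIdeal X').subschemeι.base ∩ f.base ⁻¹' {f.base x'} =
      (X' : Set X) ∩ f.base ⁻¹' {f.base x'} by rw [hr]), r4] at h5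
  open Groth.Agent.H17.Chev in
  rw [localDim_subtype_congr (show Set.range
      (Scheme.IdealSheafData.vanishingIdeal X').subschemeι.base ∩ f.base ⁻¹'
        {f.base ((Scheme.IdealSheafData.vanishingIdeal X').subschemeι.base w)} =
      (X' : Set X) ∩ f.base ⁻¹'
        {f.base ((Scheme.IdealSheafData.vanishingIdeal X').subschemeι.base w)} by rw [hr])
      _ _ ⟨hx, rfl⟩] at h6
  open Groth.Agent.H17.Chev in
  obtain ⟨m, hm⟩ := exists_nat_eq_fibreDimAt
    ((Scheme.IdealSheafData.vanishingIdeal X').subschemeι ≫ f) w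
  open Groth.Agent.H17.Chev in
  refine isEquidimAt_of_fibreDimAt_le _ w m ?_ hm.le
  rw [← r3, h5, ← h6, hm]

end Groth.Agent.S4943
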