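import Groth.Statements.S4945
import Mathlib
import Groth.Agent.S4934
import Groth.Agent.H17.UO.FibreGen
import Groth.Agent.H17.UO.EquidimComp
import Groth.Agent.H17.UO.ClosedPt
import Groth.Agent.H17.Chev.FamCycT
import Groth.Agent.H17.Chev.CompleteSec
import Groth.Agent.H25.OpenAt
import Groth.Agent.H25.ChevComp
import Groth.Agent.H25.ChevOpenB
import Groth.Agent.H53.QfLocus

set_option autoImplicit false
open CategoryTheory AlgebraicGeometry
universe u v w
open EGA43

namespace Groth.Agent.S4945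

theorem gu_congr {Y : Scheme.{u}} {a b : Y} (h : a = b)
    (H : CAlg2.IsGeomUnibranch (Y.presheaf.stalk a)) :
    CAlg2.IsGeomUnibranch (Y.presheaf.stalk b) := h ▸ H


/-- Let Y be an irreducible locally Noetherian scheme with generic point η, f : X ⟶ Y a morphism locally
of finite type and y a geometrically unibranch point of Y. The following are equivalent: a) f is
universally open at every point of X_y; b) f is open at every point of X_y; c) for every maximal
point z of X_y there is an irreducible component Z of X containing z and dominating Y with dim_z(Z ∩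
X_y) = dim(Z ∩ X_η); d) for every point x closed in X_y there are an irreducible reduced scheme T
and an immersion T ⟶ X with image containing x such that T ⟶ Y is quasi-finite and dominant. -/
theorem result {X Y : Scheme.{u}} [IrreducibleSpace Y]
    [IsLocallyNoetherian Y] (f : X ⟶ Y) [LocallyOfFiniteType f] (y : Y) (hy : CAlg2.IsGeomUnibranch (Y.presheaf.stalk y)) :
    List.TFAE [∀ x : X, f.base x = y → EGA43.IsUnivOpenAt f x,
      ∀ x : X, f.base x = y → EGA43.IsOpenAt f.base x,
      ∀ z : X, ∀ hzy : f.base z = y, (∀ z' : X, f.base z' = y → z ∈ closure {z'} → z' = z) →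
        ∃ Z ∈ irreducibleComponents (X : Type u), ∃ hz : z ∈ Z, Dense (f.base '' Z) ∧
          FlatMor.localDim ↥(Z ∩ f.base ⁻¹' {y}) ⟨z, ⟨hz, hzy⟩⟩ = topologicalKrullDim ↥(Z ∩ f.base ⁻¹' {genericPoint Y}),
      ∀ x : X, f.base x = y → (∀ x' : X, f.base x' = y → x ⤳ x' → x' = x) →
        ∃ (T : Scheme.{u}) (i : T ⟶ X), IsImmersion i ∧ IrreducibleSpace ↥T ∧ IsReduced T ∧ x ∈ Set.range i.base ∧
        LocallyOfFiniteType (i ≫ f) ∧ LocallyQuasiFinite (i ≫ f) ∧ QuasiCompact (i ≫ f) ∧ IsDominant (i ≫ f)] := by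
  open Groth.Agent.H17.Chev Groth.Agent.H17.UO Groth.Agent.H17.Val in
  have hnil : (nilradical (Y.presheaf.stalk y)).IsPrime :=
    (Ideal.Quotient.isDomain_iff_prime _).mp hy.1.1
  have huniv : (Set.univ : Set Y) ∈ irreducibleComponents (Y : Type u) := by
    rw [irreducibleComponents_eq_singleton]; rfl
  have hgenY : ∀ η : Y, closure ({η} : Set Y) = Set.univ → η = genericPoint Y := by
    intro η hη
    exact (show IsGenericPoint η Set.univ from hη).eq (genericPoint_spec Y)
  tfae_have 1 → 2 := fun h x hx =>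
    Groth.Agent.H25.isOpenAt_of_isPullback (fst := 𝟙 X) (snd := f) (g := 𝟙 Y) (h x hx)
      IsPullback.of_id_fst x rfl
  tfae_have 2 → 3 := by
    intro h z hzy hmax
    subst hzy
    obtain ⟨Z, hZ, hz, hcl, hd⟩ := Groth.Agent.H25.ChevCore.component_of_isOpenAt f z hmax hnil
      (h z rfl) Set.univ huniv (Set.mem_univ _)
    exact ⟨Z, hZ, hz, dense_iff_closure_eq.mpr hcl, hd (genericPoint Y) (genericPoint_spec Y).def⟩
  tfae_have 3 → 1 := by
    intro h x hx
    obtain ⟨z, hzx, hspec, hmax, -, -⟩ :=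
      Groth.Agent.H17.Chev.exists_maximal_fibre_point_fibreDimAt_eq f x
    have hzy : f.base z = y := hzx.trans hx
    have hmax' : ∀ z' : X, f.base z' = y → z ∈ closure {z'} → z' = z := fun z' h1 h2 =>
      hmax z' (h1.trans hzy.symm) (specializes_iff_mem_closure.mpr h2)
    obtain ⟨Z, hZ, hz, hdense, hd⟩ := h z hzy hmax'
    subst hzy
    have hcl : closure (f.base '' Z) = Set.univ := hdense.closure_eq
    have hUOz : EGA43.IsUnivOpenAt f z :=
      Groth.Agent.H25.ChevCore.isUnivOpenAt_of_component f z hy Z hZ hz (hcl ▸ huniv)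
        (fun η hη => by rw [hgenY η (hη.trans hcl)]; exact hd)
    exact Groth.Agent.H17.UO.isUnivOpenAt_of_specializes f x z hspec hzx hUOz
  tfae_have 1 → 4 := by
    intro h x hx hcl
    obtain ⟨ζ, hζ1, hζx, hζmax, -, hζdim⟩ :=
      Groth.Agent.H17.Chev.exists_maximal_fibre_point_fibreDimAt_eq f x
    have hUO : EGA43.IsUnivOpenAt f ζ := h ζ (hζ1.trans hx)
    obtain ⟨W, hW, w, hw, hEq⟩ :=
      Groth.Agent.H17.UO.exists_component_isEquidimAt_of_isUnivOpenAt f x ζ hζ1 hζx hζmax hζdim hUO
    have hcl' : ∀ x' : ↥((Scheme.IdealSheafData.vanishingIdeal W).subscheme),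
        ((Scheme.IdealSheafData.vanishingIdeal W).subschemeι ≫ f).base x' =
          ((Scheme.IdealSheafData.vanishingIdeal W).subschemeι ≫ f).base w → w ⤳ x' → x' = w := by
      intro x' h1 h2
      apply (Scheme.IdealSheafData.vanishingIdeal W).subschemeι.isEmbedding.injective
      have h3 := h2.map (Scheme.IdealSheafData.vanishingIdeal W).subschemeι.continuous
      rw [hw] at h3
      have h4 : f.base ((Scheme.IdealSheafData.vanishingIdeal W).subschemeι.base x') = y := by
        have : f.base ((Scheme.IdealSheafData.vanishingIdeal W).subschemeι.base x') =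
            f.base ((Scheme.IdealSheafData.vanishingIdeal W).subschemeι.base w) := h1
        rw [this, hw, hx]
      rw [hcl _ h4 h3, hw]
    have hQF := Groth.Agent.H17.Chev.hasQFSection_of_isEquidimAt
      ((Scheme.IdealSheafData.vanishingIdeal W).subschemeι ≫ f) w hEq hcl'
    have hQF' := Groth.Agent.H17.Chev.HasQFSection.of_immersion
      (Scheme.IdealSheafData.vanishingIdeal W).subschemeι f w hQF
    rw [hw] at hQF'
    exact hQF'
  tfae_have 4 → 2 := by
    intro h x₁ hx₁ N hN
    obtain ⟨U, hUN, hUo, hx₁U⟩ := mem_nhds_iff.mp hN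
    obtain ⟨x, hxU, hfx, hspec, hclx⟩ :=
      Groth.Agent.H17.UO.exists_closed_fibre_point_mem_open f x₁ ⟨U, hUo⟩ hx₁U
    obtain ⟨T, i, hi, hirr, hred, ⟨t, ht⟩, hlft, hlqf, hqc, hdom⟩ := h x (hfx.trans hx₁)
      (fun x' hx' hsp => hclx x' (hx'.trans hx₁.symm) hsp)
    have e : (i ≫ f).base t = y := by
      change f.base (i.base t) = y
      rw [ht, hfx, hx₁]
    have hgη : (i ≫ f).base (genericPoint ↥T) = genericPoint ↥Y :=
      Groth.Agent.H17.Val.map_genericPoint_of_isDominant (i ≫ f)
    have hUOt : EGA43.IsUnivOpenAt (i ≫ f) t := by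
      refine Groth.Agent.H25.ChevCore.isUnivOpenAt_of_irreducible (i ≫ f) t (gu_congr e.symm hy)
        ?_ 0 ?_ ?_
      · intro y' hy'
        rw [hgη] at hy' ⊢
        exact (hy'.antisymm ((genericPoint_spec Y).specializes (Set.mem_univ y'))).eq
      · exact_mod_cast (Groth.Agent.H53.quasiFiniteAt_iff_fibreDimAt_eq_zero (i ≫ f) t).mp
          ((i ≫ f).quasiFiniteAt t)
      · exact_mod_cast (Groth.Agent.H53.quasiFiniteAt_iff_fibreDimAt_eq_zero (i ≫ f) _).mp
          ((i ≫ f).quasiFiniteAt _)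
    have hOt : EGA43.IsOpenAt (i ≫ f).base t :=
      Groth.Agent.H25.isOpenAt_of_isPullback (fst := 𝟙 T) (snd := i ≫ f) (g := 𝟙 Y) hUOt
        IsPullback.of_id_fst t rfl
    have h1 : i.base ⁻¹' U ∈ nhds t :=
      (hUo.preimage i.continuous).mem_nhds (by rw [Set.mem_preimage, ht]; exact hxU)
    have h2 := hOt _ h1
    rw [e, ← hx₁] at h2
    refine Filter.mem_of_superset h2 ?_
    rintro _ ⟨a, ha, rfl⟩
    exact ⟨i.base a, hUN ha, rfl⟩
  tfae_finish

end Groth.Agent.S4945
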