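import Groth.Statements.S4947
import Groth.Agent.H25.OrdVal

set_option autoImplicit false
universe u
open EGA43

namespace Groth.Agent.S4947
open Groth.Agent.H25 Groth.Agent.H19

/-- Let A be a regular local ring which is not a field, K its fraction field and k its residue field.
Then there is a discrete valuation ring V between A and K, with fraction field K, dominating A,
whose residue field is a purely transcendental extension of k: for some ring map from k compatible
with A → V there is an algebraically independent family generating the residue field of V as a field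
over k. -/
theorem result (A : Type u) [CommRing A] [IsRegularLocalRing A]
    (hA : ¬ IsField A) :
    ∃ (V : Subalgebra A (FractionRing A)) (_ : IsDomain V) (_ : IsDiscreteValuationRing V), IsFractionRing V (FractionRing A) ∧
      (IsLocalRing.maximalIdeal V).comap (algebraMap A V) = IsLocalRing.maximalIdeal A ∧
      ∃ (φ : IsLocalRing.ResidueField A →+* IsLocalRing.ResidueField V),
        φ.comp (IsLocalRing.residue A) = (IsLocalRing.residue V).comp (algebraMap A V) ∧
        letI := φ.toAlgebra
        ∃ (ι : Type u) (t : ι → IsLocalRing.ResidueField V), AlgebraicIndependent (IsLocalRing.ResidueField A) t ∧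
          IntermediateField.adjoin (IsLocalRing.ResidueField A) (Set.range t) = ⊤ := by
  obtain ⟨d, x, hx, hqr⟩ := OrdVal.exists_gens A hA
  have : IsDomain A := Groth.Agent.Lead.RLR.isDomain A
  have hm := OrdVal.mulOrd_of_qr x hx hqr
  have hdvr : IsDiscreteValuationRing (OrdVal.ordSubalgebra (FractionRing A) hm) :=
    OrdVal.isDiscreteValuationRing hm (OrdVal.exactOrd_gen x hx hqr 0)
  have hcomap := OrdVal.comap_maximalIdeal (K := FractionRing A) hm
  refine ⟨OrdVal.ordSubalgebra (FractionRing A) hm, inferInstance, hdvr, inferInstance, hcomap, ?_⟩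
  obtain ⟨φ, hφ⟩ : ∃ φ : IsLocalRing.ResidueField A →+*
      IsLocalRing.ResidueField (OrdVal.ordSubalgebra (FractionRing A) hm),
      φ.comp (IsLocalRing.residue A) =
      (IsLocalRing.residue _).comp (algebraMap A (OrdVal.ordSubalgebra (FractionRing A) hm)) := by
    have : IsLocalHom (algebraMap A (OrdVal.ordSubalgebra (FractionRing A) hm)) :=
      ((IsLocalRing.local_hom_TFAE
        (algebraMap A (OrdVal.ordSubalgebra (FractionRing A) hm))).out 0 4).mpr hcomap
    exact ⟨IsLocalRing.ResidueField.map (algebraMap A (OrdVal.ordSubalgebra (FractionRing A) hm)),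
      by ext a; rfl⟩
  refine ⟨φ, hφ, ?_⟩
  letI := φ.toAlgebra
  refine ⟨ULift (Fin d), fun j => IsLocalRing.residue _
    (OrdVal.quot x hx hqr hm (FractionRing A) j.down), ?_, ?_⟩
  · exact (OrdVal.algebraicIndependent_residue x hx hqr hm _ hφ).comp ULift.down
      ULift.down_injective
  · have := OrdVal.adjoin_residue_eq_top x hx hqr hm _ hφ
    rw [← this]
    congr 1
    ext z
    simp only [Set.mem_range]
    constructor
    · rintro ⟨j, rfl⟩; exact ⟨j.down, rfl⟩
    · rintro ⟨j, rfl⟩; exact ⟨ULift.up j, rfl⟩

end Groth.Agent.S4947
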