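import Groth.Statements.S4951
import Groth.Agent.H25.Generize

set_option autoImplicit false
universe u
open EGA43

namespace Groth.Agent.S4951

/-- Let X be a locally Noetherian topological space in which every irreducible closed subset has a
unique generic point (X quasi-sober and T₀), and Z a closed nowhere dense subset of X such that for
every point x of Z the set of generizations of x distinct from x is connected (possibly empty). If X
is connected, then X − Z is connected. (Uniqueness of generic points, automatic for the underlying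
space of a scheme, is needed: in the four-point space {u, v, z₁, z₂} whose open sets are ∅, {u},
{v}, {u, v} and the whole space, the closed nowhere dense set Z = {z₁, z₂} satisfies the hypothesis,
since z₂ is a generization of z₁ and conversely, yet X − Z = {u, v} is not connected.) -/
theorem result {X : Type u} [TopologicalSpace X]
    [QuasiSober X] [T0Space X] (hloc : ∀ x : X, ∃ U ∈ nhds x, TopologicalSpace.NoetherianSpace ↥U) [ConnectedSpace X]
    (Z : Set X) (hZ : IsClosed Z) (hZn : IsNowhereDense Z)
    (hgen : ∀ x ∈ Z, IsPreconnected ({x' : X | x' ⤳ x} \ {x})) :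
    IsConnected Zᶜ := by
  have hne : (Zᶜ).Nonempty := by
    have hd : Dense Zᶜ := by
      have : interior (closure Z) = ∅ := hZn
      rw [hZ.closure_eq, interior_eq_empty_iff_dense_compl] at this
      exact this
    obtain ⟨x⟩ := (inferInstance : Nonempty X)
    exact hd.nonempty
  refine ⟨hne, ?_⟩
  have hdense : Dense Zᶜ := by
    have : interior (closure Z) = ∅ := hZn
    rw [hZ.closure_eq, interior_eq_empty_iff_dense_compl] at this
    exact this
  intro u v hu hv huv hnu hnv
  by_contra hcon
  rw [Set.not_nonempty_iff_eq_empty] at hcon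
  set U₁ : Set X := Zᶜ ∩ u with hU₁
  set U₂ : Set X := Zᶜ ∩ v with hU₂
  have hU₁o : IsOpen U₁ := hZ.isOpen_compl.inter hu
  have hU₂o : IsOpen U₂ := hZ.isOpen_compl.inter hv
  have hdisj : U₁ ∩ U₂ = ∅ := by
    apply Set.eq_empty_of_subset_empty
    rw [← hcon]
    rintro x ⟨⟨h1, h2⟩, -, h3⟩
    exact ⟨h1, h2, h3⟩
  have hunion : Zᶜ ⊆ U₁ ∪ U₂ := by
    intro x hx
    rcases huv hx with h | h
    · exact Or.inl ⟨hx, h⟩
    · exact Or.inr ⟨hx, h⟩
  have hcov : closure U₁ ∪ closure U₂ = Set.univ := by
    rw [← closure_union]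
    exact Set.eq_univ_of_univ_subset (hdense.closure_eq ▸ closure_mono hunion)
  -- the two closures meet since X is connected
  have hmeet : (closure U₁ ∩ closure U₂).Nonempty := by
    have hpre : IsPreconnected (Set.univ : Set X) := isPreconnected_univ
    rw [isPreconnected_closed_iff] at hpre
    have := hpre (closure U₁) (closure U₂) isClosed_closure isClosed_closure
      (by rw [hcov]) (by
        obtain ⟨x, hx⟩ := hnu
        exact ⟨x, trivial, subset_closure hx⟩) (by
        obtain ⟨x, hx⟩ := hnv
        exact ⟨x, trivial, subset_closure hx⟩)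
    obtain ⟨x, -, hx⟩ := this
    exact ⟨x, hx⟩
  obtain ⟨y, hy⟩ := hmeet
  obtain ⟨x, hxF, -, hxmax⟩ := Groth.Agent.H25.exists_maximal_generization
    (isClosed_closure.inter isClosed_closure) hy
  -- x is not in U₁ ∪ U₂
  have hx1 : x ∉ U₁ := by
    intro h
    have : (U₁ ∩ U₂).Nonempty := by
      have h2 := hxF.2
      rw [mem_closure_iff] at h2
      exact h2 U₁ hU₁o h
    rw [hdisj] at this
    exact Set.not_nonempty_empty this
  have hx2 : x ∉ U₂ := by
    intro h
    have : (U₂ ∩ U₁).Nonempty := by
      have h2 := hxF.1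
      rw [mem_closure_iff] at h2
      exact h2 U₂ hU₂o h
    rw [Set.inter_comm, hdisj] at this
    exact Set.not_nonempty_empty this
  have hxZ : x ∈ Z := by
    by_contra h
    rcases hunion h with h' | h'
    · exact hx1 h'
    · exact hx2 h'
  obtain ⟨x₁, hx₁U, hx₁x⟩ := Groth.Agent.H25.exists_specializes_of_mem_closure hloc hU₁o hxF.1
  obtain ⟨x₂, hx₂U, hx₂x⟩ := Groth.Agent.H25.exists_specializes_of_mem_closure hloc hU₂o hxF.2
  have hG := hgen x hxZ
  rw [isPreconnected_closed_iff] at hG
  have hGsub : ({x' : X | x' ⤳ x} \ {x}) ⊆ closure U₁ ∪ closure U₂ := by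
    rw [hcov]; exact Set.subset_univ _
  obtain ⟨x', ⟨hx'x, hx'ne⟩, hx'F⟩ := hG (closure U₁) (closure U₂) isClosed_closure isClosed_closure
    hGsub ⟨x₁, ⟨hx₁x, fun h => hx1 (h ▸ hx₁U)⟩, subset_closure hx₁U⟩
    ⟨x₂, ⟨hx₂x, fun h => hx2 (h ▸ hx₂U)⟩, subset_closure hx₂U⟩
  exact hx'ne (hxmax x' hx'F hx'x)

end Groth.Agent.S4951
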