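import Groth.Statements.S4952
import Groth.Agent.H17.Chev.SecComp2

set_option autoImplicit false
open CategoryTheory AlgebraicGeometry
universe u v w
open EGA43

namespace Groth.Agent.S4952

/-- Let Y be a locally Noetherian scheme, f : X ⟶ Y a morphism locally of finite type and g : Y ⟶ X a
section of f; for z in Y let X_z^0 be the connected component of the fibre f⁻¹(z) containing g z (a
subset of X with the induced topology). Let y be a point of Y and y' a generization of y. (i) If
there is an irreducible component Z of f⁻¹(y') containing g y' with dim Z = dim X_{y'}^0, then dim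
X_y^0 ≥ dim X_{y'}^0. (ii) If moreover X_y^0 is irreducible and dim X_y^0 = dim X_{y'}^0, then X_y^0
is contained in the closure of X_{y'}^0 in X. -/
theorem result {X Y : Scheme.{u}} [IsLocallyNoetherian Y] (f : X ⟶ Y)
    [LocallyOfFiniteType f] (g : Y ⟶ X) (hg : g ≫ f = 𝟙 Y) (y y' : Y) (hy : y' ⤳ y)
    (hZ : ∃ Z : Set X, Z ⊆ f.base ⁻¹' {y'} ∧ IsIrreducible Z ∧
      (∀ Z' : Set X, IsIrreducible Z' → Z' ⊆ f.base ⁻¹' {y'} → Z ⊆ Z' → Z' = Z) ∧ g.base y' ∈ Z ∧
      topologicalKrullDim ↥Z = topologicalKrullDim ↥(connectedComponentIn (f.base ⁻¹' {y'}) (g.base y'))) :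
    topologicalKrullDim ↥(connectedComponentIn (f.base ⁻¹' {y'}) (g.base y')) ≤ topologicalKrullDim ↥(connectedComponentIn (f.base ⁻¹' {y}) (g.base y)) ∧
      (IsIrreducible (connectedComponentIn (f.base ⁻¹' {y}) (g.base y)) → topologicalKrullDim ↥(connectedComponentIn (f.base ⁻¹' {y}) (g.base y)) = topologicalKrullDim ↥(connectedComponentIn (f.base ⁻¹' {y'}) (g.base y')) →
        connectedComponentIn (f.base ⁻¹' {y}) (g.base y) ⊆ closure (connectedComponentIn (f.base ⁻¹' {y'}) (g.base y'))) := by
  obtain ⟨Z, hZsub, hZirr, hZmax, hgZ, hdimZ⟩ := hZ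
  have hgy : f.base (g.base y) = y := by
    rw [← Scheme.Hom.comp_apply, hg]
    rfl
  have hgy' : f.base (g.base y') = y' := by
    rw [← Scheme.Hom.comp_apply, hg]
    rfl
  have hgW : g.base y ∈ closure Z := by
    have h1 : g.base y' ⤳ g.base y := hy.map g.continuous
    exact h1.mem_closed isClosed_closure (subset_closure hgZ)
  have key := Groth.Agent.H17.Chev.dim_le_dim_closure_inter_connectedComponentIn f y y' Z hZsub
    hZirr hZmax (g.base y) hgy hgW
  rw [hdimZ] at key
  have hincl : topologicalKrullDim ↥(closure Z ∩ connectedComponentIn (f.base ⁻¹' {y}) (g.base y)) ≤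
      topologicalKrullDim ↥(connectedComponentIn (f.base ⁻¹' {y}) (g.base y)) :=
    (Topology.IsEmbedding.inclusion Set.inter_subset_right).isInducing.topologicalKrullDim_le
  refine ⟨key.trans hincl, ?_⟩
  intro hCirr hdimeq
  have hdimC := Groth.Agent.H17.Chev.dim_connectedComponentIn_fibre_eq' f y (g.base y) hgy hCirr
  obtain ⟨n, hn⟩ := Groth.Agent.H17.Chev.exists_nat_eq_fibreDimAt f (g.base y)
  rw [hn] at hdimC
  have hsub := Groth.Agent.H17.Chev.subset_of_isClosed_of_natCast_le_dim
    (connectedComponentIn (f.base ⁻¹' {y}) (g.base y)) (closure Z) hCirr isClosed_closure n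
    hdimC.le (by rw [← hdimC, hdimeq]; exact key)
  refine hsub.trans (closure_mono ?_)
  exact hZirr.isConnected.isPreconnected.subset_connectedComponentIn hgZ hZsub

end Groth.Agent.S4952
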