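import Groth.Statements.S4958
import Groth.Agent.H17.Chev.FibComp

set_option autoImplicit false
open CategoryTheory AlgebraicGeometry
universe u v w
open EGA43

namespace Groth.Agent.S4958

/-- Let Y be an irreducible locally Noetherian scheme with generic point η, f : X ⟶ Y a morphism of
finite type and y a point of Y whose local ring O_{Y,y} is universally catenary. Suppose that dim
O_{X,z} = dim O_{Y,y} for every maximal point z of the fibre X_y. For z' in Y let E(z') be the set
of dimensions of the irreducible components of X_{z'}. Then E(y) ⊆ E(η), and hence dim X_y ≤ dim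
X_η. -/
theorem result {X Y : Scheme.{u}} [IrreducibleSpace Y]
    [IsLocallyNoetherian Y] (f : X ⟶ Y) [LocallyOfFiniteType f] [QuasiCompact f] (y : Y)
    (hcat : CAlg.IsUniversallyCatenary (Y.presheaf.stalk y))
    (hb : ∀ z : X, f.base z = y → (∀ z' : X, f.base z' = y → z ∈ closure {z'} → z' = z) →
      ringKrullDim (X.presheaf.stalk z) = ringKrullDim (Y.presheaf.stalk y)) :
    letI E : Y → Set (WithBot ℕ∞) := fun z =>
      (fun Z : Set ↥(f.fiber z) => topologicalKrullDim ↥Z) '' irreducibleComponents ↥(f.fiber z)
    E y ⊆ E (genericPoint Y) ∧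
      topologicalKrullDim ↥(f.fiber y) ≤ topologicalKrullDim ↥(f.fiber (genericPoint Y)) := by
  have key := Groth.Agent.H17.Chev.exists_irreducibleComponent_generic_dim_eq f y hb
  refine ⟨?_, ?_⟩
  · rintro _ ⟨Z, hZ, rfl⟩
    obtain ⟨Z', hZ', h⟩ := key Z hZ
    exact ⟨Z', hZ', h⟩
  · apply Groth.Agent.H17.Chev.topologicalKrullDim_le_of_forall_irreducibleComponents
    intro Z hZ
    obtain ⟨Z', hZ', h⟩ := key Z hZ
    rw [← h]
    exact topologicalKrullDim_subspace_le _ Z'

end Groth.Agent.S4958
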