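import Groth.Statements.S4959
-- import your own Groth.Agent.* helpers here

set_option autoImplicit false
open CategoryTheory AlgebraicGeometry
universe u v w
open EGA43

namespace Groth.Agent.S4959

open CategoryTheory.Limits in
/-- Let f : X ⟶ Y be a morphism of schemes and g : Y' ⟶ Y a surjective morphism which is either proper,
or flat and quasi-compact. If the base change f' : X ×_Y Y' ⟶ Y' is universally submersive (all of
its base changes are topological quotient maps), then f is universally submersive. -/
theorem result {X Y Y' : Scheme.{u}} (f : X ⟶ Y) (g : Y' ⟶ Y) [Surjective g]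
    (hg : IsProper g ∨ (Flat g ∧ QuasiCompact g))
    (h : MorphismProperty.universally (topologically @Topology.IsQuotientMap) (pullback.snd f g)) :
    MorphismProperty.universally (topologically @Topology.IsQuotientMap) f := by
  intro X₁ Z i₁ i₂ f' sq
  -- `sq : IsPullback f' i₁ i₂ f`
  -- the base change of `g`
  let p := pullback.fst i₂ g
  let r := pullback.snd i₂ g
  let q := pullback.fst f' p
  let f'' := pullback.snd f' p
  have hp : Topology.IsQuotientMap p.base := by
    rcases hg with hg | ⟨hg1, hg2⟩
    · have : IsProper p := inferInstanceAs (IsProper (pullback.fst i₂ g))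
      exact (p.isClosedMap).isQuotientMap p.continuous p.surjective
    · have : Flat p := inferInstanceAs (Flat (pullback.fst i₂ g))
      have : QuasiCompact p := inferInstanceAs (QuasiCompact (pullback.fst i₂ g))
      exact Flat.isQuotientMap_of_surjective p
  -- `f''` is a base change of `pullback.snd f g`
  have sq1 : IsPullback f'' q p f' := (IsPullback.of_hasPullback f' p).flip
  have sq2 : IsPullback f'' (q ≫ i₁) (p ≫ i₂) f := sq1.paste_vert sq
  have hcond : p ≫ i₂ = r ≫ g := pullback.condition
  have sq3 : IsPullback (pullback.snd f g) (pullback.fst f g) g f :=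
    (IsPullback.of_hasPullback f g).flip
  let l : pullback f' p ⟶ pullback f g :=
    pullback.lift (q ≫ i₁) (f'' ≫ r) (by
      have := sq2.w
      rw [Category.assoc (f := f''), ← hcond, this])
  have hl1 : l ≫ pullback.fst f g = q ≫ i₁ := pullback.lift_fst _ _ _
  have hl2 : l ≫ pullback.snd f g = f'' ≫ r := pullback.lift_snd _ _ _
  have sq4 : IsPullback f'' l r (pullback.snd f g) := by
    refine IsPullback.of_bot ?_ hl2.symm sq3
    rw [hl1, ← hcond]
    exact sq2
  have hf'' : Topology.IsQuotientMap f''.base := h _ _ _ sq4
  have hcomp : f'.base ∘ q.base = p.base ∘ f''.base := by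
    have := congrArg (fun φ : pullback f' p ⟶ Z => ⇑φ.base) (pullback.condition (f := f') (g := p))
    simpa using this
  have h5 : Topology.IsQuotientMap (f'.base ∘ q.base) := hcomp ▸ hp.comp hf''
  exact Topology.IsQuotientMap.of_comp q.continuous f'.continuous h5

end Groth.Agent.S4959
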