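import Groth.Statements.S4960
import Groth.Agent.H99.CodepthOpenM

set_option autoImplicit false
open CategoryTheory AlgebraicGeometry
universe u v w
open EGA43

namespace Groth.Agent.S4960

/-- Let f : X ⟶ Y be a morphism locally of finite presentation, F a finitely presented O_X-module which
is f-flat, and k a natural number. The set of points x of X such that the stalk at x of the
restriction of F to the fibre through x has codepth at most k over the local ring of that fibre at x
(the dimension of its support is at most its depth plus k) is open in X; that is, the codepth of the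
fibre stalk is an upper semicontinuous function of x. -/
theorem result {X Y : Scheme.{u}} (f : X ⟶ Y) [LocallyOfFinitePresentation f]
    (F : X.Modules) (hF : CohB1.IsFP F) (hflat : FlatMod.IsFlatOver f F) (k : ℕ) :
    IsOpen {x : X | Module.supportDim ((f.fiber (f.base x)).presheaf.stalk (f.asFiber x)) (((Scheme.Modules.pullback (f.fiberι (f.base x))).obj F).presheaf.stalk (f.asFiber x)) ≤
      ((LocCoh.depth ((f.fiber (f.base x)).presheaf.stalk (f.asFiber x)) (((Scheme.Modules.pullback (f.fiberι (f.base x))).obj F).presheaf.stalk (f.asFiber x)) : ℕ∞) : WithBot ℕ∞) + k} := by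
  have : SheafOfModules.IsFinitePresentation (R := X.ringCatSheaf) F := hF
  have : Coh.IsQCoh F := SheafOfModules.instIsQuasicoherentOfIsFinitePresentation.{u, u, u}
    (R := X.ringCatSheaf) F
  have hFc : Coh.IsCoh F := Groth.Agent.H99.FibrePropGenM.isCoh_of_isFP F hF
  have h := Groth.Agent.H99.CodepthOpenM.isOpen_fibCodepthLEM k f F hF hflat
  convert h using 1
  ext x
  exact (Groth.Agent.H99.CodepthOpenM.fibMP_codepthLEM_iff k f F hFc x).symm

end Groth.Agent.S4960
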