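import Groth.Statements.S4966
import Groth.Agent.H99.AssFinal
import Groth.Agent.S4982

set_option autoImplicit false
open CategoryTheory AlgebraicGeometry
universe u v w
open EGA43

namespace Groth.Agent.S4966

/-- Let f : X ⟶ Y be a proper morphism of finite presentation and F a finitely presented O_X-module
which is f-flat; for y in Y write F_y for the restriction of F to the fibre X_y. Let Φ be a finite
set of natural numbers. Then the set of points y of Y such that F_y has no embedded associated point
and the set of dimensions of the irreducible components of Supp(F_y) is exactly Φ is open in Y. -/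
theorem result {X Y : Scheme.{u}} (f : X ⟶ Y) [IsProper f]
    [LocallyOfFinitePresentation f] (F : X.Modules) (hF : CohB1.IsFP F) (hflat : FlatMod.IsFlatOver f F) (Φ : Finset ℕ) :
    IsOpen {y : Y | AssSch.NoEmbedded ((Scheme.Modules.pullback (f.fiberι y)).obj F) ∧
      (fun Z : Set ↥{z : ↥(f.fiber y) | Nontrivial (((Scheme.Modules.pullback (f.fiberι y)).obj F).presheaf.stalk z)} => topologicalKrullDim ↥Z) '' irreducibleComponents ↥{z : ↥(f.fiber y) | Nontrivial (((Scheme.Modules.pullback (f.fiberι y)).obj F).presheaf.stalk z)} =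
        (fun n : ℕ => (n : WithBot ℕ∞)) '' (Φ : Set ℕ)} := by
  have hQ : SheafOfModules.IsFinitePresentation (R := X.ringCatSheaf) F := hF
  haveI : Coh.IsQCoh F :=
    SheafOfModules.instIsQuasicoherentOfIsFinitePresentation.{u, u, u} (R := X.ringCatSheaf) F
  have hFc : Coh.IsCoh F := Groth.Agent.H99.FibrePropGenM.isCoh_of_isFP F hF
  have hset : {y : Y | AssSch.NoEmbedded ((Scheme.Modules.pullback (f.fiberι y)).obj F) ∧
      (fun Z : Set ↥{z : ↥(f.fiber y) | Nontrivial (((Scheme.Modules.pullback (f.fiberι y)).obj F).presheaf.stalk z)} => topologicalKrullDim ↥Z) '' irreducibleComponents ↥{z : ↥(f.fiber y) | Nontrivial (((Scheme.Modules.pullback (f.fiberι y)).obj F).presheaf.stalk z)} =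
        (fun n : ℕ => (n : WithBot ℕ∞)) '' (Φ : Set ℕ)} =
      {y : Y | ∀ x' : f.fiber y, Groth.Agent.H99.AssEmbBridge.NoEmbAt f F y x'} ∩
        ({y : Y | ∀ x' : f.fiber y, Groth.Agent.H99.AssDimsCons.AssDimsAt f F Φ y x'} ∩
          ⋂ n ∈ Φ, f '' (CohB1.support F ∩ {x : X | Groth.Agent.H99.AssInv.PrΦ {n} f F x})) := by
    ext y
    simp only [Set.mem_ofPred_eq, Set.mem_inter_iff, Set.mem_iInter]
    rw [Groth.Agent.H99.AssFinal.noEmbedded_and_dims_iff f F hF Φ y,
      Groth.Agent.H99.AssEmbBridge.noEmbedded_iff f F y]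
  rw [hset]
  refine IsOpen.inter ?_ (IsOpen.inter ?_ ?_)
  · refine Groth.Agent.H99.FibForall.isOpen_setOf_forall_fiber f f.isClosedMap _ ?_
    have hopen := Groth.Agent.H99.AssEmbBridge.isOpen_not_embThrough f F hF hflat
    convert hopen using 1
    ext x
    exact Groth.Agent.H99.AssEmbBridge.noEmbAt_iff f F hFc x
  · exact Groth.Agent.H99.FibForall.isOpen_setOf_forall_fiber f f.isClosedMap _
      (Groth.Agent.S4982.result f F hF hflat Φ)
  · refine isOpen_biInter_finset fun n _ => ?_
    refine Groth.Agent.H99.SuppComp.isOpen_image_support_inter f F hF hflat _ ?_ ?_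
    · exact Groth.Agent.H99.FibrePropDVRM.isOpen_of_genOverDVR
        (Groth.Agent.H99.AssInv.isFibInvM_prΦ {n}) (Groth.Agent.H99.AssInv.isLCM_prΦ {n})
        (Groth.Agent.H99.AssDVR.genOverDVR_prΦ {n}) f F hF hflat
    · exact Groth.Agent.H99.AssInv.isLCM_prΦ {n} f inferInstance F inferInstance hF

end Groth.Agent.S4966
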