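import Groth.Statements.S4972
import Groth.Agent.H17.Val.FibClos
import Groth.Agent.H17.Val.ValStep
import Groth.Agent.H17.Val.OpenGenSch
import Groth.Agent.H17.Val.ValSpec

set_option autoImplicit false
open CategoryTheory AlgebraicGeometry
universe u v w
open EGA43

namespace Groth.Agent.S4972

open Groth.Agent.H17.Val Limits


/-- Let f : X ⟶ S be a morphism of finite type, (g_i : Y_i ⟶ S) a family of universally open morphisms
and (u_i : Y_i ⟶ X) a family of S-morphisms. For s in S let Z(s) be the closure, in the fibre f⁻¹(s)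
(with the topology induced from X), of the union of the sets u_i(Y_i) ∩ f⁻¹(s) (the images of the
fibres of the Y_i over s), and let d(s) = dim Z(s). Then for every point s of S and every
generization s' of s one has d(s) ≤ d(s'). -/
theorem result {X S : Scheme.{u}} (f : X ⟶ S) [LocallyOfFiniteType f]
    [QuasiCompact f] {ι : Type u} (Y : ι → Scheme.{u}) (g : ∀ i, Y i ⟶ S) [∀ i, UniversallyOpen (g i)]
    (v : ∀ i, Y i ⟶ X) (hv : ∀ i, v i ≫ f = g i) (s s' : S) (hs : s' ⤳ s) :
    letI d : S → WithBot ℕ∞ := fun t =>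
      topologicalKrullDim ↥(f.base ⁻¹' {t} ∩ closure ((⋃ i, Set.range (v i).base) ∩ f.base ⁻¹' {t}))
    d s ≤ d s' := by
  obtain ⟨V, hV1, hV2, hV3, φ, hφc, hφη⟩ := exists_valuationRing_hom s' s hs
  set T : Set X := ⋃ i, Set.range (v i).base with hT
  let p := pullback.fst f φ
  let fV := pullback.snd f φ
  have hc : IsPullback p fV f φ := IsPullback.of_hasPullback f φ
  have e1 := dim_fibre_closure_eq_of_isPullback f φ fV p hc (IsLocalRing.closedPoint V) T
  have e2 := dim_fibre_closure_eq_of_isPullback f φ fV p hc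
    (genericPoint (Spec (CommRingCat.of V))) T
  rw [hφc] at e1
  rw [hφη] at e2
  have hgen : ∀ x ∈ p.base ⁻¹' T, ∃ x' ∈ p.base ⁻¹' T, x' ⤳ x ∧
      fV.base x' = genericPoint (Spec (CommRingCat.of V)) := by
    intro x hx
    obtain ⟨i, y, hy⟩ : ∃ i, ∃ y : Y i, (v i).base y = p.base x := by
      have hx' : p.base x ∈ ⋃ i, Set.range (v i).base := hx
      rw [Set.mem_iUnion] at hx'
      obtain ⟨i, y, hy⟩ := hx'
      exact ⟨i, y, hy⟩
    let a := pullback.fst (v i) p
    let b := pullback.snd (v i) p
    have hW : IsPullback a b (v i) p := IsPullback.of_hasPullback _ _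
    have hbig : IsPullback a (b ≫ fV) (v i ≫ f) φ := hW.paste_vert hc
    have : UniversallyOpen (v i ≫ f) := by rw [hv i]; infer_instance
    have : UniversallyOpen (b ≫ fV) :=
      MorphismProperty.of_isPullback (P := @UniversallyOpen) hbig inferInstance
    obtain ⟨w, hwa, hwb⟩ := Scheme.Pullback.exists_preimage_pullback y x hy
    obtain ⟨w', hw'w, hw'⟩ := exists_specializes_map_eq_bot_of_isOpenMap (b ≫ fV)
      (b ≫ fV).isOpenMap w
    refine ⟨b.base w', ?_, ?_, ?_⟩
    · change p.base (b.base w') ∈ T
      have h1 : p.base (b.base w') = (v i).base (a.base w') := by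
        have := congrArg (fun h => h.base w') hW.w
        simpa using this.symm
      rw [h1, hT]
      exact Set.mem_iUnion.mpr ⟨i, a.base w', rfl⟩
    · rw [← hwb]
      exact hw'w.map b.continuous
    · rw [genericPoint_eq_bot_of_affine]
      exact hw'
  have key := dim_fibre_closure_le_generic fV (p.base ⁻¹' T)
    (genericPoint (Spec (CommRingCat.of V))) (IsLocalRing.closedPoint V) rfl hgen
  rw [e1, e2] at key
  exact key

end Groth.Agent.S4972
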