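import Groth.Statements.S4973
import Mathlib.AlgebraicGeometry.PullbackCarrier

set_option autoImplicit false
open CategoryTheory AlgebraicGeometry
universe u v w
open EGA43

namespace Groth.Agent.S4973

open CategoryTheory.Limits in
/-- Let Y₀ and Y be integral schemes, g : Y ⟶ Y₀ a dominant morphism, f₀ : X₀ ⟶ Y₀ a dominant morphism
whose fibre over the generic point of Y₀ is irreducible, and X'₀ an irreducible component of X₀
meeting that generic fibre (it is unique), regarded as a reduced closed subscheme of X₀. If X = X₀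
×_{Y₀} Y is an integral scheme, then the morphism X'₀ ×_{Y₀} Y ⟶ X induced by the inclusion of X'₀
is an isomorphism. -/
theorem result {X₀ Y₀ Y : Scheme.{u}} [IsIntegral Y₀] [IsIntegral Y]
    (g : Y ⟶ Y₀) [IsDominant g] (f₀ : X₀ ⟶ Y₀) [IsDominant f₀]
    (hirr : IsIrreducible (f₀.base ⁻¹' {genericPoint Y₀}))
    (C : TopologicalSpace.Closeds X₀) (hC : (C : Set X₀) ∈ irreducibleComponents (X₀ : Type u))
    (hCη : ((C : Set X₀) ∩ f₀.base ⁻¹' {genericPoint Y₀}).Nonempty) [IsIntegral (pullback f₀ g)]
    (e₁ : ((Scheme.IdealSheafData.vanishingIdeal C).subschemeι ≫ f₀) ≫ 𝟙 Y₀ =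
      (Scheme.IdealSheafData.vanishingIdeal C).subschemeι ≫ f₀) (e₂ : g ≫ 𝟙 Y₀ = 𝟙 Y ≫ g) :
    IsIso (pullback.map ((Scheme.IdealSheafData.vanishingIdeal C).subschemeι ≫ f₀) g f₀ g
      (Scheme.IdealSheafData.vanishingIdeal C).subschemeι (𝟙 Y) (𝟙 Y₀) e₁ e₂) := by
  set ι₀ := (Scheme.IdealSheafData.vanishingIdeal C).subschemeι with hι₀
  set m := pullback.map (ι₀ ≫ f₀) g f₀ g ι₀ (𝟙 Y) (𝟙 Y₀) e₁ e₂ with hm
  -- m is a base change of ι₀
  have m1 : m ≫ pullback.fst f₀ g = pullback.fst (ι₀ ≫ f₀) g ≫ ι₀ := pullback.lift_fst _ _ _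
  have m2 : m ≫ pullback.snd f₀ g = pullback.snd (ι₀ ≫ f₀) g := by
    rw [hm, pullback.map, pullback.lift_snd, Category.comp_id]
  have sqR : IsPullback (pullback.snd f₀ g) (pullback.fst f₀ g) g f₀ :=
    (IsPullback.of_hasPullback f₀ g).flip
  have sqO : IsPullback (m ≫ pullback.snd f₀ g) (pullback.fst (ι₀ ≫ f₀) g) g (ι₀ ≫ f₀) := by
    rw [m2]
    exact (IsPullback.of_hasPullback (ι₀ ≫ f₀) g).flip
  have sqL : IsPullback m (pullback.fst (ι₀ ≫ f₀) g) (pullback.fst f₀ g) ι₀ :=
    IsPullback.of_right sqO m1 sqR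
  have hci : IsClosedImmersion m :=
    MorphismProperty.of_isPullback (P := @IsClosedImmersion) sqL.flip inferInstance
  have hrange : Set.range ι₀.base = (C : Set X₀) := by
    rw [hι₀, Scheme.IdealSheafData.range_subschemeι, Scheme.IdealSheafData.coe_support_vanishingIdeal]
  -- the generic fibre lies in C
  set η₀ := genericPoint Y₀ with hη₀
  have hCirr : IsIrreducible (C : Set X₀) := hC.1
  obtain ⟨ζ, hζ⟩ := QuasiSober.sober hCirr C.isClosed
  obtain ⟨c, hcC, hcF⟩ := hCη
  have hζF : f₀.base ζ = η₀ := by
    have h1 : f₀.base ζ ⤳ f₀.base c := (hζ.specializes hcC).map f₀.continuous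
    rw [show f₀.base c = η₀ from hcF] at h1
    exact (h1.antisymm (genericPoint_specializes _)).eq
  have hFC : f₀.base ⁻¹' {η₀} ⊆ (C : Set X₀) := by
    have h2 : (C : Set X₀) ⊆ closure (f₀.base ⁻¹' {η₀}) := by
      rw [← hζ.def]
      exact closure_mono (Set.singleton_subset_iff.2 hζF)
    have h3 := hC.2 hirr.closure h2
    exact subset_closure.trans h3
  -- the generic point of the pullback maps into the generic fibre
  set ξ := genericPoint ↥(pullback f₀ g) with hξ
  have hηrange : genericPoint Y ∈ Set.range (pullback.snd f₀ g).base := by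
    rw [Scheme.Pullback.range_snd]
    refine ⟨c, ?_⟩
    rw [show f₀.base c = η₀ from hcF]
    have h1 : g.base (genericPoint Y) ⤳ η₀ := by
      have hd : DenseRange g.base := g.denseRange
      have : η₀ ∈ closure (Set.range g.base) := hd η₀
      have hcl : closure (Set.range g.base) = closure {g.base (genericPoint Y)} := by
        have := (genericPoint_spec Y).image g.continuous
        rw [Set.image_univ] at this
        exact this.def.symm
      rw [hcl] at this
      exact specializes_iff_mem_closure.2 this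
    exact ((h1.antisymm (genericPoint_specializes _)).eq).symm
  obtain ⟨x, hx⟩ := hηrange
  have hsndξ : (pullback.snd f₀ g).base ξ = genericPoint Y := by
    have h1 : (pullback.snd f₀ g).base ξ ⤳ (pullback.snd f₀ g).base x :=
      (genericPoint_specializes x).map (pullback.snd f₀ g).continuous
    rw [hx] at h1
    exact (h1.antisymm (genericPoint_specializes _)).eq
  have hgη : g.base (genericPoint Y) = η₀ := by
    have hd : DenseRange g.base := g.denseRange
    have : η₀ ∈ closure (Set.range g.base) := hd η₀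
    have hcl : closure (Set.range g.base) = closure {g.base (genericPoint Y)} := by
      have := (genericPoint_spec Y).image g.continuous
      rw [Set.image_univ] at this
      exact this.def.symm
    rw [hcl] at this
    have h1 : g.base (genericPoint Y) ⤳ η₀ := specializes_iff_mem_closure.2 this
    exact (h1.antisymm (genericPoint_specializes _)).eq
  have hfstξ : (pullback.fst f₀ g).base ξ ∈ (C : Set X₀) := by
    apply hFC
    show f₀.base ((pullback.fst f₀ g).base ξ) = η₀
    rw [← Scheme.Hom.comp_apply, pullback.condition, Scheme.Hom.comp_apply, hsndξ, hgη]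
  -- surjectivity of m
  have hsurj : Surjective m := by
    refine ⟨fun z => ?_⟩
    have hz : (pullback.fst f₀ g).base z ∈ (C : Set X₀) := by
      have hcl : IsClosed ((pullback.fst f₀ g).base ⁻¹' (C : Set X₀)) :=
        C.isClosed.preimage (pullback.fst f₀ g).continuous
      have h1 : ξ ⤳ z := genericPoint_specializes z
      exact h1.mem_closed hcl hfstξ
    rw [← hrange] at hz
    obtain ⟨w, hw⟩ := hz
    obtain ⟨p, hp, -⟩ := Scheme.exists_preimage_of_isPullback sqL z w hw.symm
    exact ⟨p, hp⟩
  exact isIso_of_isClosedImmersion_of_surjective m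

end Groth.Agent.S4973
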