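import Groth.Statements.S4975
import Groth.Agent.H25.Spread6

set_option autoImplicit false
open CategoryTheory AlgebraicGeometry
universe u v w
open EGA43

namespace Groth.Agent.S4975

/-- Let f : X ⟶ Y be a morphism locally of finite type with Y locally Noetherian, g : Y ⟶ X a section of
f, X_y^0 the connected component of f⁻¹(y) containing g y, and X^0 ⊆ X their union. Suppose every
X_y^0 is geometrically integral over κ(y) (its preimage in X_y ⊗ K is irreducible and has reduced
local rings, for every field extension K of κ(y)). Then y ↦ dim X_y^0 is locally constant on Y if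
and only if f is universally open at every point of X^0; and when this holds, X^0 is open in X. (The
published statement also lists, as a further equivalent condition, flatness of the base change of f
to the reduced closed subscheme Y_red at the points of X^0; that condition is not stated here.) -/
theorem result {X Y : Scheme.{u}}
    [IsLocallyNoetherian Y] (f : X ⟶ Y) [LocallyOfFiniteType f] (g : Y ⟶ X) (hg : g ≫ f = 𝟙 Y)
    (hint : ∀ y : Y, (∀ (K : Type u) [Field K] [Algebra (IsLocalRing.ResidueField (Y.presheaf.stalk y)) K],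
        IsIrreducible ((FBase.bcπ (f.fiberToSpecResidueField y) K ≫ f.fiberι y).base ⁻¹' connectedComponentIn (f.base ⁻¹' {y}) (g.base y)) ∧
        ∀ x' : ↥(FBase.bc (f.fiberToSpecResidueField y) K),
          (FBase.bcπ (f.fiberToSpecResidueField y) K ≫ f.fiberι y).base x' ∈ connectedComponentIn (f.base ⁻¹' {y}) (g.base y) →
          _root_.IsReduced ((FBase.bc (f.fiberToSpecResidueField y) K).presheaf.stalk x'))) :
    (IsLocallyConstant (fun y : Y => topologicalKrullDim ↥(connectedComponentIn (f.base ⁻¹' {y}) (g.base y))) ↔ ∀ x ∈ MoreMor.sectionComponents f g, EGA43.IsUnivOpenAt f x) ∧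
      (IsLocallyConstant (fun y : Y => topologicalKrullDim ↥(connectedComponentIn (f.base ⁻¹' {y}) (g.base y))) → IsOpen (MoreMor.sectionComponents f g)) := by
  have hgi : ∀ (y : Y) (K : Type u) [Field K]
      [Algebra (IsLocalRing.ResidueField (Y.presheaf.stalk y)) K],
      IsIrreducible ((FBase.bcπ (f.fiberToSpecResidueField y) K ≫ f.fiberι y).base ⁻¹'
        (connectedComponentIn (f.base ⁻¹' {y}) (g.base y))) := fun y K _ _ => (hint y K).1
  have hred : ∀ (y : Y) (x : X), x ∈ connectedComponentIn (f.base ⁻¹' {y}) (g.base y) →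
      FBase.IsGeomReducedAt (f.fiberToSpecResidueField (f.base x)) (f.asFiber x) := by
    intro y x hx
    exact Groth.Agent.H25.Spread.isGeomReducedAt_of_hint f g y (fun K _ _ => (hint y K).2) x hx
  have hfg : ∀ y : Y, f.base (g.base y) = y := by
    intro y
    rw [← Scheme.Hom.comp_apply, hg]; rfl
  have hmem : ∀ (y : Y) (x : X), x ∈ connectedComponentIn (f.base ⁻¹' {y}) (g.base y) →
      x ∈ MoreMor.sectionComponents f g := by
    intro y x hx
    have hfx : f.base x = y := by
      have := connectedComponentIn_subset (f.base ⁻¹' {y}) (g.base y) hx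
      exact this
    change x ∈ connectedComponentIn (f.base ⁻¹' {f.base x}) (g.base (f.base x))
    rw [hfx]
    exact hx
  have h1 : IsLocallyConstant (fun y : Y =>
        topologicalKrullDim ↥(connectedComponentIn (f.base ⁻¹' {y}) (g.base y))) →
      ∀ x ∈ MoreMor.sectionComponents f g, EGA43.IsUnivOpenAt f x := by
    intro hlc x hx
    have hx' : x ∈ connectedComponentIn (f.base ⁻¹' {f.base x}) (g.base (f.base x)) := hx
    have hev := (IsLocallyConstant.iff_eventually_eq _).mp hlc (f.base x)
    exact Groth.Agent.S3458.result f g hg hgi (f.base x)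
      ⟨_, hev, fun z hz => hz⟩ x hx'
  refine ⟨⟨h1, fun huo => ?_⟩, fun hlc => ?_⟩
  · rw [IsLocallyConstant.iff_eventually_eq]
    intro y₀
    have hg0 : g.base y₀ ∈ connectedComponentIn (f.base ⁻¹' {y₀}) (g.base y₀) :=
      mem_connectedComponentIn (hfg y₀)
    obtain ⟨V, hV, hVc⟩ := Groth.Agent.S5927.result f g hg hgi y₀
      (fun ξ hξ _ => huo ξ (hmem y₀ ξ hξ)) (Or.inl (hred y₀ (g.base y₀) hg0))
    exact Filter.mem_of_superset hV (fun z hz => hVc z hz)
  · have huo := h1 hlc
    rw [← subset_interior_iff_isOpen]
    intro x hx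
    have hx' : x ∈ connectedComponentIn (f.base ⁻¹' {f.base x}) (g.base (f.base x)) := hx
    exact (Groth.Agent.S3420.result f g hg).1 (f.base x)
      (fun x' hx'' => ⟨huo x' (hmem _ x' hx''), hred _ x' hx''⟩) hx'

end Groth.Agent.S4975
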