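import Groth.Statements.S4978
import Groth.Agent.H22.PropAtPt
import Groth.Agent.H22.GenPts

set_option autoImplicit false
open CategoryTheory AlgebraicGeometry
universe u v w
open EGA43

namespace Groth.Agent.S4978

open CategoryTheory.Limits in
/-- Let Y be a Noetherian scheme, f : X ⟶ Y a separated morphism of finite type, Z a subset of X such
that every maximal point of the closure of Z belongs to Z, and y a point of Y. Then the closure of Z
is proper over Y at y (for some open U ∋ y, its trace on f⁻¹(U) is proper over U with the reduced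
structure) if and only if: for every discrete valuation ring A' and every morphism g : Spec A' ⟶ Y
mapping the closed point to y, every point x' of X' = X ×_Y Spec A' which projects into Z, lies over
the generic point η' of Spec A' and is rational over κ(η') is in the image of some section of X' ⟶
Spec A'. -/
theorem result {X Y : Scheme.{u}} [IsNoetherian Y] (f : X ⟶ Y) [IsSeparated f]
    [LocallyOfFiniteType f] [QuasiCompact f] (Z : Set X)
    (hZ : ∀ z ∈ closure Z, (∀ z' ∈ closure Z, z ∈ closure {z'} → z' = z) → z ∈ Z) (y : Y) :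
    (∃ U : Y.Opens, y ∈ U ∧ ∃ hC : IsClosed ((f ⁻¹ᵁ U).ι.base ⁻¹' closure Z),
      IsProper ((Scheme.IdealSheafData.vanishingIdeal
        (⟨(f ⁻¹ᵁ U).ι.base ⁻¹' closure Z, hC⟩ : TopologicalSpace.Closeds ↥(f ⁻¹ᵁ U))).subschemeι ≫ (f ∣_ U))) ↔
      ∀ (A' : Type u) [CommRing A'] [IsDomain A'] [IsDiscreteValuationRing A'] (g : Spec (CommRingCat.of A') ⟶ Y),
        g.base (IsLocalRing.closedPoint A') = y →
        ∀ x' : ↥(pullback f g), (pullback.fst f g).base x' ∈ Z →
          (pullback.snd f g).base x' = genericPoint (Spec (CommRingCat.of A')) →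
          Function.Bijective ((pullback.snd f g).residueFieldMap x').hom →
          ∃ s : Spec (CommRingCat.of A') ⟶ pullback f g, s ≫ pullback.snd f g = 𝟙 _ ∧ x' ∈ Set.range s.base := by
  classical
  have hX : IsLocallyNoetherian X := LocallyOfFiniteType.isLocallyNoetherian f
  constructor
  · rintro ⟨U, hyU, hC, hprop⟩ A' _ _ _ g hg x' hx' hsnd hbij
    have hred := Groth.Agent.H22.isReduced_subscheme_vanishingIdeal
      (X := (f ⁻¹ᵁ U).toScheme) ⟨(f ⁻¹ᵁ U).ι.base ⁻¹' closure Z, hC⟩
    have hq := Groth.Agent.H22.CompLift.range_subschemeι_vanishingIdeal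
      (X := (f ⁻¹ᵁ U).toScheme) ⟨(f ⁻¹ᵁ U).ι.base ⁻¹' closure Z, hC⟩
    have hUC : UniversallyClosed ((Scheme.IdealSheafData.vanishingIdeal
        (X := (f ⁻¹ᵁ U).toScheme) ⟨(f ⁻¹ᵁ U).ι.base ⁻¹' closure Z, hC⟩).subschemeι ≫ f ∣_ U) :=
      hprop.toUniversallyClosed
    have hlifts : Groth.Agent.H22.CompLift.LiftsOver f (closure Z) U :=
      Groth.Agent.H22.PropAtPt.liftsOver_of_universallyClosed f U (closure Z)
        (Scheme.IdealSheafData.vanishingIdeal
          (X := (f ⁻¹ᵁ U).toScheme) ⟨(f ⁻¹ᵁ U).ι.base ⁻¹' closure Z, hC⟩).subschemeι hq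
    exact Groth.Agent.H22.PropAtPt.exists_section_of_liftsOver f (closure Z) U hlifts A' g
      (hg ▸ hyU) x' (subset_closure hx') hsnd hbij
  · intro Hd
    have hcpt : CompactSpace X := QuasiCompact.compactSpace_of_compactSpace f
    have hN : IsNoetherian X := {}
    obtain ⟨E, hEfin, hEC, hEcov, hEmax⟩ := Groth.Agent.H22.GenPts.exists_finite_maximal
      (α := X) (C := closure Z) isClosed_closure
    have hEZ : E ⊆ Z := fun η hη => hZ η (hEC hη) (fun z' hz' hηz' => hEmax η hη z' hz' hηz')
    have hLift : ∀ η ∈ E, Groth.Agent.H22.CompLift.LiftHyp f η y := fun η hη =>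
      Groth.Agent.H22.PropAtPt.liftHyp_of_sections f η y
        (fun A' _ _ _ g hg x' hx' hsnd hbij => Hd A' g hg x' (hx' ▸ hEZ hη) hsnd hbij)
    obtain ⟨U, hyU, hU⟩ := Groth.Agent.H22.CompLift.exists_open_lift_of_finite f y E hEfin hLift
    have hCeq : (⋃ η ∈ E, closure {η}) = closure Z := by
      apply Set.Subset.antisymm
      · intro x hx
        simp only [Set.mem_iUnion] at hx
        obtain ⟨η, hη, hxη⟩ := hx
        exact (closure_minimal (Set.singleton_subset_iff.mpr (hEC hη)) isClosed_closure) hxη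
      · intro x hx
        obtain ⟨η, hη, hxη⟩ := hEcov x hx
        simp only [Set.mem_iUnion]
        exact ⟨η, hη, hxη⟩
    rw [hCeq] at hU
    have hC : IsClosed ((f ⁻¹ᵁ U).ι.base ⁻¹' closure Z) :=
      isClosed_closure.preimage (f ⁻¹ᵁ U).ι.continuous
    refine ⟨U, hyU, hC, ?_⟩
    have hred := Groth.Agent.H22.isReduced_subscheme_vanishingIdeal
      (X := (f ⁻¹ᵁ U).toScheme) ⟨(f ⁻¹ᵁ U).ι.base ⁻¹' closure Z, hC⟩
    have hq := Groth.Agent.H22.CompLift.range_subschemeι_vanishingIdeal
      (X := (f ⁻¹ᵁ U).toScheme) ⟨(f ⁻¹ᵁ U).ι.base ⁻¹' closure Z, hC⟩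
    have hUC := Groth.Agent.H22.PropAtPt.universallyClosed_of_liftsOver f U (closure Z) _ hq hU
    exact { toIsSeparated := inferInstance, toUniversallyClosed := hUC,
            toLocallyOfFiniteType := inferInstance }


end Groth.Agent.S4978
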