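import Groth.Statements.S4993
import Groth.Agent.H49.CMChartFlat
import Groth.Agent.H25.EtaleStalk

set_option autoImplicit false
universe u
open CategoryTheory CategoryTheory.Limits AlgebraicGeometry TopologicalSpace
open Unram17

namespace Groth.Agent.S4993

/-- Let f : Y ⟶ S and h : X ⟶ S be smooth and let g : X ⟶ Y satisfy g ≫ f = h. Then g is an open
immersion if and only if g is a monomorphism and, for every point x of X, the local dimension at
g(x) of the fibre of f through g(x) equals the local dimension at x of the fibre of h through x. -/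
theorem result {X Y S : Scheme.{u}} (f : Y ⟶ S) (h : X ⟶ S)
    [Smooth f] [Smooth h] (g : X ⟶ Y) (w : g ≫ f = h) :
    IsOpenImmersion g ↔ Mono g ∧ ∀ x : ↥X, FlatMor.fibreDimAt f (g.base x) = FlatMor.fibreDimAt h x := by
  constructor
  · intro hg
    refine ⟨inferInstance, fun x => ?_⟩
    exact (Groth.Agent.H17.Chev.fibreDimAt_eq_of_isOpenImmersion f h g (𝟙 S)
      Function.injective_id ((Category.comp_id h).trans w.symm) x).symm
  · rintro ⟨hmono, hdim⟩
    have hlfp : LocallyOfFinitePresentation (g ≫ f) := by rw [w]; infer_instance
    have hlfpg : LocallyOfFinitePresentation g := Groth.Agent.H25.EtaleStalk.lfp_of_comp g f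
    have hlft : LocallyOfFiniteType g := inferInstance
    have hqf : LocallyQuasiFinite g := LocallyQuasiFinite.of_injective g.injective
    have hsm : Smooth (g ≫ f) := by rw [w]; infer_instance
    have hflat : Flat g := by
      rw [Flat.iff_flat_stalkMap]
      intro x
      refine Groth.Agent.H49.CMChartFlat.flat_stalkMap_of_isCMAt g f x
        (Groth.Agent.H49.CMChart.isCMAt_of_smooth (g ≫ f) x) (g.quasiFiniteAt x) ?_
      rw [hdim x]
      exact le_of_eq (by rw [w])
    exact IsOpenImmersion.of_flat_of_mono g

end Groth.Agent.S4993
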