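import Groth.Statements.S4998
import Groth.Agent.H25.Separable

set_option autoImplicit false
universe u
open Unram17

namespace Groth.Agent.S4998
open Groth.Agent.H25

/-- Let A be an algebra of finite type over a field k. Then A is formally unramified over k if and only
if A is finite over k and every element of A has separable minimal polynomial over k (equivalently,
A is a finite product of finite separable extensions of k). -/
theorem result (k A : Type u) [Field k] [CommRing A]
    [Algebra k A] [Algebra.FiniteType k A] :
    Algebra.FormallyUnramified k A ↔ Module.Finite k A ∧ Algebra.IsSeparable k A := by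
  constructor
  · intro h
    have hfin : Module.Finite k A := Algebra.FormallyUnramified.finite_of_free k A
    refine ⟨hfin, ?_⟩
    have het : Algebra.FormallyEtale k A :=
      Algebra.FormallyEtale.iff_formallyUnramified_of_field.2 h
    obtain ⟨I, _, Ai, _, _, e, hsep⟩ := (Algebra.FormallyEtale.iff_exists_algEquiv_prod k A).1 het
    have := isSeparable_pi k Ai
    refine ⟨fun x => ?_⟩
    have h1 := Algebra.IsSeparable.isSeparable k (e x)
    unfold IsSeparable at h1 ⊢
    rwa [minpoly.algEquiv_eq] at h1
  · rintro ⟨-, hsep⟩
    exact formallyUnramified_of_isSeparable k A

end Groth.Agent.S4998
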