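import Groth.Statements.S4999
import Mathlib
import Groth.Agent.H94.SmoothGeneric

set_option autoImplicit false
universe u
open Unram17

namespace Groth.Agent.S4999


open TensorProduct KaehlerDifferential IsLocalRing Module in
/-- heights do not drop under preimage along a surjection -/
theorem height_le_height_comap {R S : Type*} [CommRing R] [CommRing S] (f : R →+* S)
    (hf : Function.Surjective f) (Q : Ideal S) [hQ : Q.IsPrime] :
    Q.height ≤ (Q.comap f).height := by
  have h1 := PrimeSpectrum.height_eq_orderHeight (⟨Q, hQ⟩ : PrimeSpectrum S)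
  have h2 := PrimeSpectrum.height_eq_orderHeight (PrimeSpectrum.comap f ⟨Q, hQ⟩)
  change Q.height = _ at h1
  change (Q.comap f).height = _ at h2
  rw [h1, h2]
  apply Order.height_le_height_apply_of_strictMono
  intro a b hab
  refine lt_of_le_of_ne ?_ ?_
  · exact Ideal.comap_mono (f := f) hab.le
  · intro h
    exact hab.ne (PrimeSpectrum.comap_injective_of_surjective f hf h)

attribute [local instance] Algebra.TensorProduct.rightAlgebra in
open TensorProduct KaehlerDifferential IsLocalRing Module in
theorem smooth_of_projective_of_generic (k A : Type u) [Field k] [CommRing A] [Algebra k A]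
    [Algebra.FiniteType k A] (hproj : Module.Projective A Ω[A⁄k])
    (hgen : ∀ (p : Ideal A) [p.IsPrime], p ∈ minimalPrimes A →
      Algebra.IsGeometricallyReduced k (Localization.AtPrime p)) :
    Algebra.Smooth k A := by
  haveI : IsNoetherianRing A := Algebra.FiniteType.isNoetherianRing k A
  let K := AlgebraicClosure k
  let A' := A ⊗[k] K
  let e' : K ⊗[k] A ≃ₐ[K] A' :=
    AlgEquiv.ofRingEquiv (f := (Algebra.TensorProduct.comm k K A).toRingEquiv)
      (by intro x; simp [RingHom.algebraMap_toAlgebra])
  haveI : Algebra.FiniteType K A' := Algebra.FiniteType.equiv inferInstance e'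
  suffices h : Algebra.Smooth K A' by
    haveI : Algebra.Smooth K (K ⊗[k] A) := Algebra.Smooth.of_equiv e'.symm
    exact Algebra.Smooth.of_smooth_tensorProduct_of_faithfullyFlat K
  rw [← Groth.Agent.H23.RegSmooth.isRegularRing_iff_smooth K A']
  haveI : IsNoetherianRing A' := Algebra.FiniteType.isNoetherianRing K A'
  apply Groth.Agent.H29.RegCompl.isRegularRing_of_maximal
  intro m' hm'
  let m : Ideal A := m'.comap (algebraMap A A')
  haveI : m'.LiesOver m := ⟨rfl⟩
  haveI hm : m.IsMaximal := Ideal.isMaximal_comap_of_isIntegral_of_isMaximal m'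
  obtain ⟨p, hpmin, hpm⟩ := Ideal.exists_minimalPrimes_le (I := ⊥) (J := m) bot_le
  haveI hpp : p.IsPrime := hpmin.1.1
  haveI := hgen p hpmin
  have hrank_p := Groth.Agent.H94.SmoothGeneric.finrank_fiber_minimalPrime k A p hpmin
  let eΩ : A' ⊗[A] Ω[A⁄k] ≃ₗ[A'] Ω[A'⁄K] := tensorKaehlerEquiv k K A A'
  haveI : Module.Finite A Ω[A⁄k] := inferInstance
  haveI : Module.Projective A' (A' ⊗[A] Ω[A⁄k]) := inferInstance
  haveI : Module.Projective A' Ω[A'⁄K] := Module.Projective.of_equiv eΩ
  haveI : Module.Finite A' Ω[A'⁄K] := inferInstance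
  have h1 := Groth.Agent.H94.JacCrit.finrank_fiber_eq_finrank_cotangentSpace K A' m'
  have h2 : finrank m'.ResidueField (m'.ResidueField ⊗[A'] Ω[A'⁄K]) =
      rankAtStalk Ω[A'⁄K] ⟨m', hm'.isPrime⟩ := Ideal.finrank_fiber_eq_rankAtStalk m'
  have h3 : rankAtStalk Ω[A'⁄K] ⟨m', hm'.isPrime⟩ =
      rankAtStalk (A' ⊗[A] Ω[A⁄k]) ⟨m', hm'.isPrime⟩ := by
    rw [rankAtStalk_eq_of_equiv eΩ]
  have h4 : rankAtStalk (A' ⊗[A] Ω[A⁄k]) ⟨m', hm'.isPrime⟩ =
      rankAtStalk Ω[A⁄k] ⟨m, hm.isPrime⟩ := by
    rw [rankAtStalk_baseChange]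
    rfl
  have h5 : rankAtStalk Ω[A⁄k] ⟨m, hm.isPrime⟩ = rankAtStalk Ω[A⁄k] ⟨p, hpp⟩ :=
    (rankAtStalk_eq_of_le_of_finite_of_flat' Ω[A⁄k] hpm).symm
  have h6 : finrank p.ResidueField (p.ResidueField ⊗[A] Ω[A⁄k]) =
      rankAtStalk Ω[A⁄k] ⟨p, hpp⟩ := Ideal.finrank_fiber_eq_rankAtStalk p
  apply IsRegularLocalRing.of_spanFinrank_maximalIdeal_le
  rw [IsLocalRing.spanFinrank_maximalIdeal_eq_finrank_cotangentSpace, ← h1, h2, h3, h4, h5, ← h6,
    hrank_p]
  -- dimension inequality
  haveI : IsDomain (A ⧸ p) := Ideal.Quotient.isDomain p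
  haveI : Algebra.FiniteType k (A ⧸ p) :=
    Algebra.FiniteType.of_surjective (IsScalarTower.toAlgHom k A (A ⧸ p))
      Ideal.Quotient.mk_surjective
  let mb : Ideal (A ⧸ p) := m.map (Ideal.Quotient.mk p)
  have hmb : mb.IsMaximal :=
    Ideal.IsMaximal.map_of_surjective_of_ker_le Ideal.Quotient.mk_surjective
      (by rw [Ideal.mk_ker]; exact hpm)
  have hcomap : mb.comap (Ideal.Quotient.mk p) = m := by
    rw [Ideal.comap_map_of_surjective _ Ideal.Quotient.mk_surjective,
      ← RingHom.ker_eq_comap_bot, Ideal.mk_ker]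
    exact sup_eq_left.mpr hpm
  have hd := Groth.Agent.H14.height_of_isMaximal_of_finiteType_domain k (A ⧸ p) mb
  have hle1 : mb.height ≤ m.height := by
    have := height_le_height_comap (Ideal.Quotient.mk p) Ideal.Quotient.mk_surjective mb
    rwa [hcomap] at this
  have hle2 : m.height ≤ m'.height := by
    rw [Ideal.height_eq_height_add_of_liesOver_of_hasGoingDown m m']
    exact le_self_add
  rw [IsLocalization.AtPrime.ringKrullDim_eq_height m' (Localization.AtPrime m'), ← hd]
  exact_mod_cast hle1.trans hle2

open TensorProduct KaehlerDifferential IsLocalRing Module in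
theorem geomReduced_of_smooth (k A : Type u) [Field k] [CommRing A] [Algebra k A]
    [Algebra.FiniteType k A] [hsm : Algebra.Smooth k A] (p : Ideal A) [hp : p.IsPrime]
    (hmin : p ∈ minimalPrimes A) :
    Algebra.IsGeometricallyReduced k (Localization.AtPrime p) := by
  haveI : IsNoetherianRing A := Algebra.FiniteType.isNoetherianRing k A
  let B := Localization.AtPrime p
  let κ := p.ResidueField
  haveI : IsRegularRing k := inferInstance
  haveI : IsRegularRing A := Groth.Agent.H47.isRegularRing_of_smooth k A
  haveI : IsRegularLocalRing B := inferInstance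
  haveI : IsDomain B := Groth.Agent.Lead.RLR.isDomain B
  haveI : IsNoetherianRing B := IsLocalization.isNoetherianRing p.primeCompl B inferInstance
  have hdim0 : ringKrullDim B = 0 := by
    rw [IsLocalization.AtPrime.ringKrullDim_eq_height p, Ideal.height_eq_zero_iff.mpr hmin]
    rfl
  haveI : Ring.KrullDimLE 0 B := by
    rw [Ring.krullDimLE_iff]
    exact hdim0.le
  haveI : IsArtinianRing B := isArtinianRing_iff_krullDimLE_zero.mpr inferInstance
  have hB : IsField B := IsArtinianRing.isField_of_isReduced_of_isLocalRing B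
  have hmax : maximalIdeal B = ⊥ := IsLocalRing.isField_iff_maximalIdeal_eq.mp hB
  have hsurjB : Function.Surjective (algebraMap B κ) := IsLocalRing.residue_surjective
  have hker : RingHom.ker (algebraMap B κ) = ⊥ := by
    rw [← hmax]
    ext x
    rw [RingHom.mem_ker, IsLocalRing.ResidueField.algebraMap_eq, IsLocalRing.residue_eq_zero_iff]
  have hinjB : Function.Injective (algebraMap B κ) :=
    (RingHom.injective_iff_ker_eq_bot _).mpr hker
  let e : B ≃ₐ[k] κ := AlgEquiv.ofBijective (IsScalarTower.toAlgHom k B κ) ⟨hinjB, hsurjB⟩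
  haveI : Algebra.FormallySmooth k A := hsm.1
  haveI : Algebra.FormallyEtale A B := Algebra.FormallyEtale.of_isLocalization p.primeCompl
  haveI : Algebra.FormallySmooth k B := Algebra.FormallySmooth.comp k A B
  haveI : Algebra.FormallySmooth k κ := Algebra.FormallySmooth.of_equiv e
  haveI : Algebra.IsGeometricallyReduced k κ :=
    Groth.Agent.H47.isGeometricallyReduced_of_formallySmooth_field
  exact Algebra.IsGeometricallyReduced.of_injective e.toAlgHom e.injective

/-- Let A be an algebra of finite type over a field k. Then A is smooth over k if and only if the module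
of differentials of A over k is projective (locally free) and, at every minimal prime p of A, the
local ring A_p is geometrically reduced over k, which for this Artinian local ring says that A_p is
a field and a separable (not necessarily algebraic) extension of k. -/
theorem result (k A : Type u) [Field k] [CommRing A]
    [Algebra k A] [Algebra.FiniteType k A] :
    Algebra.Smooth k A ↔
      Module.Projective A (KaehlerDifferential k A) ∧
        ∀ (p : Ideal A) [p.IsPrime], p ∈ minimalPrimes A →
          Algebra.IsGeometricallyReduced k (Localization.AtPrime p) := by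
  constructor
  · intro hsm
    haveI : Algebra.FormallySmooth k A := hsm.1
    refine ⟨inferInstance, ?_⟩
    intro p hp hpmin
    exact geomReduced_of_smooth k A p hpmin
  · rintro ⟨hproj, hgen⟩
    exact smooth_of_projective_of_generic k A hproj hgen

end Groth.Agent.S4999
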