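import Groth.Statements.S5002
import Mathlib.RingTheory.FiniteStability
import Mathlib.RingTheory.IntegralClosure.IsIntegralClosure.Basic
import Mathlib.RingTheory.IntegralClosure.Algebra.Basic

set_option autoImplicit false
universe u
open PP16

namespace Groth.Agent.S5002
open scoped TensorProduct

/-- Suppose A is a commutative ring and B is a finite-type A-algebra. For each n, the ring of principal
parts of order n of B over A is then finitely generated as a B-module, where B acts via the first
factor. -/
theorem result (n : ℕ) (A B : Type u) [CommRing A] [CommRing B] [Algebra A B]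
    [Algebra.FiniteType A B] : Module.Finite B (PP16.P n A B) := by
  classical
  set I := KaehlerDifferential.ideal A B with hI
  have hft : Algebra.FiniteType B (B ⊗[A] B) := inferInstance
  have hftP : Algebra.FiniteType B (PP16.P n A B) :=
    Algebra.FiniteType.of_surjective (Ideal.Quotient.mkₐ B (I ^ (n + 1)))
      (Ideal.Quotient.mkₐ_surjective B _)
  -- generators: the classes of `1 ⊗ b`
  have htop : Algebra.adjoin B (Set.range fun b : B => ((1 : B) ⊗ₜ[A] b : B ⊗[A] B)) = ⊤ := by
    rw [eq_top_iff]
    rintro t -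
    induction t using TensorProduct.induction_on with
    | zero => exact Subalgebra.zero_mem _
    | tmul x y =>
      have : x ⊗ₜ[A] y = x • ((1 : B) ⊗ₜ[A] y : B ⊗[A] B) := by
        rw [TensorProduct.smul_tmul', smul_eq_mul, mul_one]
      rw [this]
      exact Subalgebra.smul_mem _ (Algebra.subset_adjoin (Set.mem_range_self y)) x
    | add x y hx hy => exact Subalgebra.add_mem _ hx hy
  have hint : Algebra.IsIntegral B (PP16.P n A B) := by
    rw [← integralClosure_eq_top_iff, eq_top_iff]
    have hmap : (⊤ : Subalgebra B (PP16.P n A B)) =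
        (Algebra.adjoin B (Set.range fun b : B => ((1 : B) ⊗ₜ[A] b : B ⊗[A] B))).map
          (Ideal.Quotient.mkₐ B (I ^ (n + 1))) := by
      rw [htop, Algebra.map_top, eq_comm, AlgHom.range_eq_top]
      exact Ideal.Quotient.mkₐ_surjective B _
    rw [hmap, AlgHom.map_adjoin, Algebra.adjoin_le_iff]
    rintro _ ⟨_, ⟨b, rfl⟩, rfl⟩
    change IsIntegral B (Ideal.Quotient.mk (I ^ (n + 1)) ((1 : B) ⊗ₜ[A] b))
    have hsplit : Ideal.Quotient.mk (I ^ (n + 1)) ((1 : B) ⊗ₜ[A] b) =
        algebraMap B (PP16.P n A B) b +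
          Ideal.Quotient.mk (I ^ (n + 1)) ((1 : B) ⊗ₜ[A] b - b ⊗ₜ[A] (1 : B)) := by
      rw [map_sub]
      change _ = Ideal.Quotient.mk (I ^ (n + 1)) (b ⊗ₜ[A] (1 : B)) + _
      ring
    rw [hsplit]
    refine IsIntegral.add isIntegral_algebraMap ?_
    refine IsIntegral.of_pow (Nat.succ_pos n) ?_
    have : (Ideal.Quotient.mk (I ^ (n + 1)) ((1 : B) ⊗ₜ[A] b - b ⊗ₜ[A] (1 : B))) ^ (n + 1) = 0 := by
      rw [← map_pow, Ideal.Quotient.eq_zero_iff_mem]
      exact Ideal.pow_mem_pow (KaehlerDifferential.one_smul_sub_smul_one_mem_ideal A b) _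
    rw [this]
    exact isIntegral_zero
  exact Algebra.IsIntegral.finite

end Groth.Agent.S5002
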