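import Groth.Statements.S5006
import Mathlib.RingTheory.Nakayama
import Mathlib.RingTheory.Nilpotent.Lemmas
import Mathlib.RingTheory.Noetherian.Nilpotent
import Mathlib.RingTheory.Finiteness.Ideal

set_option autoImplicit false
universe u
open Nrm16

namespace Groth.Agent.S5006

/-- Let A be a commutative ring, I a finitely generated ideal and p a prime ideal containing I. Then
some basic open neighbourhood of p in Spec A is contained in the closed set V(I) (so that V(I) ⟶
Spec A is a local homeomorphism onto an open set near p) if and only if there is an integer n > 0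
with I^n A_p = I^(n+1) A_p in the local ring at p. Affine form. -/
theorem result (A : Type u) [CommRing A] (I : Ideal A) (hI : I.FG)
    (p : Ideal A) [p.IsPrime] (hp : I ≤ p) :
    (∃ f : A, f ∉ p ∧ ∀ q : Ideal A, q.IsPrime → f ∉ q → I ≤ q) ↔
      ∃ n : ℕ, 0 < n ∧
        (I ^ n).map (algebraMap A (Localization.AtPrime p)) =
          (I ^ (n + 1)).map (algebraMap A (Localization.AtPrime p)) := by
  classical
  have hpow : ∀ n, (I ^ n).map (algebraMap A (Localization.AtPrime p)) =
      (I.map (algebraMap A (Localization.AtPrime p))) ^ n := fun n => Ideal.map_pow _ _ _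
  simp only [hpow]
  have hI'fg : (I.map (algebraMap A (Localization.AtPrime p))).FG := hI.map _
  generalize hI' : I.map (algebraMap A (Localization.AtPrime p)) = I' at *
  constructor
  · rintro ⟨f, hfp, hf⟩
    have hle : I' ≤ nilradical (Localization.AtPrime p) := by
      rw [← hI', Ideal.map_le_iff_le_comap]
      intro a ha
      have haf : a * f ∈ nilradical A := by
        rw [nilradical_eq_sInf, Ideal.mem_sInf]
        intro q hq
        by_cases hfq : f ∈ q
        · exact q.mul_mem_left _ hfq
        · exact q.mul_mem_right _ (hf q hq hfq ha)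
      obtain ⟨k, hk⟩ := haf
      rw [Ideal.mem_comap, mem_nilradical]
      refine ⟨k, ?_⟩
      have hu : IsUnit (algebraMap A (Localization.AtPrime p) f) :=
        IsLocalization.map_units (Localization.AtPrime p) (⟨f, hfp⟩ : p.primeCompl)
      have : (algebraMap A (Localization.AtPrime p) a) ^ k * (algebraMap A (Localization.AtPrime p) f) ^ k = 0 := by
        rw [← mul_pow, ← map_mul, ← map_pow, hk, map_zero]
      exact (hu.pow k).mul_left_eq_zero.1 this
    obtain ⟨n, hn⟩ := (Ideal.FG.isNilpotent_iff_le_nilradical hI'fg).2 hle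
    refine ⟨n + 1, Nat.succ_pos _, ?_⟩
    rw [pow_succ, pow_succ, pow_succ, hn]
    simp
  · rintro ⟨n, hn0, hn⟩
    have hjac : I' ≤ Ideal.jacobson ⊥ := by
      rw [IsLocalRing.jacobson_eq_maximalIdeal ⊥ bot_ne_top]
      rw [← hI', Ideal.map_le_iff_le_comap]
      have := IsLocalization.AtPrime.under_maximalIdeal (Localization.AtPrime p) p
      rw [Ideal.under] at this
      rw [this]
      exact hp
    have hzero : I' ^ n = ⊥ := by
      have hfg : (I' ^ n).FG := hI'fg.pow
      refine Submodule.eq_bot_of_le_smul_of_le_jacobson_bot I' (I' ^ n) hfg ?_ hjac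
      rw [smul_eq_mul, ← pow_succ', ← hn]
    -- clear denominators
    obtain ⟨s, hs⟩ := (hI.pow (n := n))
    have hs0 : ∀ g ∈ s, ∃ c : A, c ∉ p ∧ c * g = 0 := by
      intro g hg
      have hgI : g ∈ I ^ n := hs ▸ Ideal.subset_span hg
      have : algebraMap A (Localization.AtPrime p) g ∈ I' ^ n := by
        rw [← hpow]; exact Ideal.mem_map_of_mem _ hgI
      rw [hzero, Ideal.mem_bot] at this
      obtain ⟨c, hc⟩ := (IsLocalization.map_eq_zero_iff p.primeCompl (Localization.AtPrime p) g).1 this
      exact ⟨c, c.2, hc⟩
    choose! c hcp hc0 using hs0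
    refine ⟨∏ g ∈ s, c g, ?_, ?_⟩
    · intro hmem
      obtain ⟨g, hg, hgp⟩ := (Ideal.IsPrime.prod_mem_iff).1 hmem
      exact hcp g hg hgp
    · intro q hq hfq a ha
      have hkill : ∀ x ∈ I ^ n, (∏ g ∈ s, c g) * x = 0 := by
        intro x hx
        rw [← hs] at hx
        induction hx using Submodule.span_induction with
        | mem g hg =>
          obtain ⟨r, hr⟩ := Finset.dvd_prod_of_mem c hg
          rw [hr, mul_right_comm, hc0 g hg, zero_mul]
        | zero => simp
        | add x y _ _ hx hy => rw [mul_add, hx, hy, add_zero]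
        | smul r x _ hx => rw [smul_eq_mul, mul_left_comm, hx, mul_zero]
      have h1 : (∏ g ∈ s, c g) * a ^ n ∈ q := by
        rw [hkill _ (Ideal.pow_mem_pow ha n)]; exact q.zero_mem
      exact hq.mem_of_pow_mem n ((hq.mem_or_mem h1).resolve_left hfq)

end Groth.Agent.S5006
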