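import Groth.Statements.S5007
import Groth.Agent.H25.UnramFibre

set_option autoImplicit false
universe u
open CategoryTheory CategoryTheory.Limits AlgebraicGeometry TopologicalSpace
open Unram17

namespace Groth.Agent.S5007
open Groth.Agent.H25

/-- Let g : Y ⟶ S and h : X ⟶ S be locally of finite presentation and f : X ⟶ Y a morphism over S. Then
f is (formally) unramified if and only if for every point s of S the base change of f along the
fibre Y_s ⟶ Y, which is the fibre map X_s ⟶ Y_s, is (formally) unramified. -/
theorem result {X Y S : Scheme.{u}} (g : Y ⟶ S) (h : X ⟶ S)
    [LocallyOfFinitePresentation g] [LocallyOfFinitePresentation h] (f : X ⟶ Y) (w : f ≫ g = h) :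
    FormallyUnramified f ↔ ∀ s : ↥S, FormallyUnramified (pullback.snd f (g.fiberι s)) := by
  constructor
  · intro hf s
    exact MorphismProperty.pullback_snd _ _ hf
  · intro H
    have hft : LocallyOfFiniteType f := by
      have : LocallyOfFiniteType (f ≫ g) := by rw [w]; infer_instance
      exact locallyOfFiniteType_of_comp f g
    apply formallyUnramified_of_fiberToSpecResidueField
    intro y
    have e : g.asFiberHom y ≫ g.fiberι (g y) = Y.fromSpecResidueField y := g.asFiberHom_fiberι y
    change FormallyUnramified (pullback.snd f (Y.fromSpecResidueField y))
    have big : IsPullback (pullback.fst f (Y.fromSpecResidueField y))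
        (pullback.snd f (Y.fromSpecResidueField y)) f (g.asFiberHom y ≫ g.fiberι (g y)) := by
      rw [e]; exact IsPullback.of_hasPullback _ _
    have right := IsPullback.of_hasPullback f (g.fiberι (g y))
    have hcond : pullback.fst f (Y.fromSpecResidueField y) ≫ f =
        (pullback.snd f (Y.fromSpecResidueField y) ≫ g.asFiberHom y) ≫ g.fiberι (g y) := by
      rw [Category.assoc, e]; exact pullback.condition
    have left : IsPullback (pullback.lift (pullback.fst f (Y.fromSpecResidueField y))
        (pullback.snd f (Y.fromSpecResidueField y) ≫ g.asFiberHom y) hcond)
        (pullback.snd f (Y.fromSpecResidueField y)) (pullback.snd f (g.fiberι (g y)))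
        (g.asFiberHom y) := by
      refine IsPullback.of_right ?_ (pullback.lift_snd _ _ _) right
      rw [pullback.lift_fst]
      exact big
    exact MorphismProperty.of_isPullback (P := @FormallyUnramified) left (H (g y))

end Groth.Agent.S5007
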