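import Groth.Statements.S5008
import Groth.Agent.H25.LocalLift

set_option autoImplicit false
universe u
open CategoryTheory CategoryTheory.Limits AlgebraicGeometry TopologicalSpace
open Unram17

namespace Groth.Agent.S5008
open Groth.Agent.H25

/-- Let f : X ⟶ Y be locally of finite presentation and x a point of X. Then f is smooth at x if and
only if for every surjection of local rings B' → B with square-zero kernel, every morphism Spec B ⟶
X sending the closed point to x and every morphism Spec B' ⟶ Y making the square commute, there is a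
lift Spec B' ⟶ X compatible with both. (No Noetherian hypothesis on Y.) -/
theorem result {X Y : Scheme.{u}} (f : X ⟶ Y)
    [LocallyOfFinitePresentation f] (x : ↥X) :
    x ∈ f.smoothLocus ↔ ∀ (B B' : Type u) [CommRing B] [CommRing B'] [IsLocalRing B] [IsLocalRing B'] (φ : B' →+* B),
      Function.Surjective φ → RingHom.ker φ ^ 2 = ⊥ →
      ∀ (α : Spec (CommRingCat.of B) ⟶ X) (β : Spec (CommRingCat.of B') ⟶ Y),
        α.base (IsLocalRing.closedPoint B) = x → Spec.map (CommRingCat.ofHom φ) ≫ β = α ≫ f →
        ∃ γ : Spec (CommRingCat.of B') ⟶ X, Spec.map (CommRingCat.ofHom φ) ≫ γ = α ∧ γ ≫ f = β := by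
  rw [Scheme.Hom.mem_smoothLocus]
  constructor
  · intro hsm B B' _ _ _ _ φ hφ hker α β hα hcomm
    have hβ : β.base (IsLocalRing.closedPoint B') = f.base x := by
      rw [← SpecMap_closedPoint_of_surjective φ hφ, ← hα]
      exact congrArg (fun h : Spec (CommRingCat.of B) ⟶ Y => h.base (IsLocalRing.closedPoint B)) hcomm
    obtain ⟨a, -, rfl⟩ := exists_factor_fromSpecStalk (CommRingCat.of B) α x hα
    obtain ⟨b, -, rfl⟩ := exists_factor_fromSpecStalk (CommRingCat.of B') β (f.base x) hβ
    have hcomm' : b ≫ CommRingCat.ofHom φ = f.stalkMap x ≫ a := by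
      apply Spec.map_injective
      rw [← cancel_mono (Y.fromSpecStalk (f.base x))]
      rw [Spec.map_comp, Spec.map_comp, Category.assoc, Category.assoc, hcomm,
        Scheme.SpecMap_stalkMap_fromSpecStalk, Category.assoc]
    obtain ⟨c, hc1, hc2⟩ := exists_lift_of_formallySmooth (f.stalkMap x).hom hsm φ hφ ⟨2, hker⟩
      a.hom b.hom (by
        have := congrArg CommRingCat.Hom.hom hcomm'
        simpa using this)
    refine ⟨Spec.map (CommRingCat.ofHom c) ≫ X.fromSpecStalk x, ?_, ?_⟩
    · rw [← Category.assoc, ← Spec.map_comp]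
      congr 2
      ext z
      exact congrFun (congrArg DFunLike.coe hc1) z
    · rw [Category.assoc, ← Scheme.SpecMap_stalkMap_fromSpecStalk, ← Category.assoc, ← Spec.map_comp]
      congr 2
      ext z
      exact congrFun (congrArg DFunLike.coe hc2) z
  · intro H
    apply formallySmooth_of_exists_lift (f.stalkMap x).hom
    intro B' _ _ φ hφ hker b hb
    have hcomm : Spec.map (CommRingCat.ofHom φ) ≫
        (Spec.map (CommRingCat.ofHom b) ≫ Y.fromSpecStalk (f.base x)) = X.fromSpecStalk x ≫ f := by
      rw [← Category.assoc, ← Spec.map_comp, ← Scheme.SpecMap_stalkMap_fromSpecStalk]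
      congr 2
      ext z
      exact congrFun (congrArg DFunLike.coe hb) z
    obtain ⟨γ, hγ1, hγ2⟩ := H (X.presheaf.stalk x) B' φ hφ hker (X.fromSpecStalk x)
      (Spec.map (CommRingCat.ofHom b) ≫ Y.fromSpecStalk (f.base x))
      Scheme.fromSpecStalk_closedPoint hcomm
    have hγx : γ.base (IsLocalRing.closedPoint B') = x := by
      rw [← SpecMap_closedPoint_of_surjective φ hφ]
      have := congrArg (fun h : Spec (X.presheaf.stalk x) ⟶ X =>
        h.base (IsLocalRing.closedPoint (X.presheaf.stalk x))) hγ1
      exact this.trans Scheme.fromSpecStalk_closedPoint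
    obtain ⟨c, -, rfl⟩ := exists_factor_fromSpecStalk (CommRingCat.of B') γ x hγx
    have h1 : c ≫ CommRingCat.ofHom φ = 𝟙 (X.presheaf.stalk x) := by
      apply Spec.map_injective
      rw [← cancel_mono (X.fromSpecStalk x)]
      rw [Spec.map_comp, Category.assoc, hγ1, Spec.map_id]
      exact (Category.id_comp _).symm
    have h2 : f.stalkMap x ≫ c = CommRingCat.ofHom b := by
      apply Spec.map_injective
      rw [← cancel_mono (Y.fromSpecStalk (f.base x))]
      rw [Spec.map_comp, Category.assoc, Scheme.SpecMap_stalkMap_fromSpecStalk, ← hγ2,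
        Category.assoc]
    refine ⟨c.hom, ?_, ?_⟩
    · have := congrArg CommRingCat.Hom.hom h1
      simpa using this
    · have := congrArg CommRingCat.Hom.hom h2
      simpa using this

end Groth.Agent.S5008
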