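import Groth.Statements.S5009
import Groth.Agent.H25.LocalLiftUnram

set_option autoImplicit false
universe u
open CategoryTheory CategoryTheory.Limits AlgebraicGeometry TopologicalSpace
open Unram17

namespace Groth.Agent.S5009
open Groth.Agent.H25

/-- Let f : X ⟶ Y be locally of finite presentation and x a point of X. Then f is (formally) unramified
on an open neighbourhood of x if and only if for every surjection of local rings B' → B with
square-zero kernel, every morphism Spec B ⟶ X sending the closed point to x and every morphism Spec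
B' ⟶ Y making the square commute, any two lifts Spec B' ⟶ X compatible with both are equal. -/
theorem result {X Y : Scheme.{u}} (f : X ⟶ Y)
    [LocallyOfFinitePresentation f] (x : ↥X) :
    (∃ U : X.Opens, x ∈ U ∧ FormallyUnramified (U.ι ≫ f)) ↔
      ∀ (B B' : Type u) [CommRing B] [CommRing B'] [IsLocalRing B] [IsLocalRing B'] (φ : B' →+* B),
      Function.Surjective φ → RingHom.ker φ ^ 2 = ⊥ →
      ∀ (α : Spec (CommRingCat.of B) ⟶ X) (β : Spec (CommRingCat.of B') ⟶ Y),
        α.base (IsLocalRing.closedPoint B) = x → Spec.map (CommRingCat.ofHom φ) ≫ β = α ≫ f →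
        ∀ γ₁ γ₂ : Spec (CommRingCat.of B') ⟶ X,
          Spec.map (CommRingCat.ofHom φ) ≫ γ₁ = α → γ₁ ≫ f = β →
          Spec.map (CommRingCat.ofHom φ) ≫ γ₂ = α → γ₂ ≫ f = β → γ₁ = γ₂ := by
  rw [exists_formallyUnramified_nhd_iff]
  constructor
  · intro hun B B' _ _ _ _ φ hφ hker α β hα hcomm γ₁ γ₂ h1 h1' h2 h2'
    have hγx : ∀ γ : Spec (CommRingCat.of B') ⟶ X, Spec.map (CommRingCat.ofHom φ) ≫ γ = α →
        γ.base (IsLocalRing.closedPoint B') = x := by
      intro γ hγ
      rw [← SpecMap_closedPoint_of_surjective φ hφ, ← hα, ← hγ]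
      rfl
    obtain ⟨c₁, -, rfl⟩ := exists_factor_fromSpecStalk (CommRingCat.of B') γ₁ x (hγx γ₁ h1)
    obtain ⟨c₂, -, rfl⟩ := exists_factor_fromSpecStalk (CommRingCat.of B') γ₂ x (hγx _ h2)
    have e1 : c₁ ≫ CommRingCat.ofHom φ = c₂ ≫ CommRingCat.ofHom φ := by
      apply Spec.map_injective
      rw [← cancel_mono (X.fromSpecStalk x)]
      rw [Spec.map_comp, Spec.map_comp, Category.assoc, Category.assoc, h1, h2]
    have e2 : f.stalkMap x ≫ c₁ = f.stalkMap x ≫ c₂ := by
      apply Spec.map_injective
      rw [← cancel_mono (Y.fromSpecStalk (f.base x))]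
      rw [Spec.map_comp, Spec.map_comp, Category.assoc, Category.assoc,
        Scheme.SpecMap_stalkMap_fromSpecStalk, ← Category.assoc, ← Category.assoc, h1', h2']
    have := lift_unique_of_formallyUnramified (f.stalkMap x).hom hun φ ⟨2, hker⟩ c₁.hom c₂.hom
      (by simpa using congrArg CommRingCat.Hom.hom e1)
      (by simpa using congrArg CommRingCat.Hom.hom e2)
    have : c₁ = c₂ := CommRingCat.hom_ext this
    rw [this]
  · intro H
    apply formallyUnramified_of_lift_unique (f.stalkMap x).hom
    intro B' _ _ φ hφ hker b hb c₁ c₂ h1 h1' h2 h2'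
    have hcomm : Spec.map (CommRingCat.ofHom φ) ≫
        (Spec.map (CommRingCat.ofHom b) ≫ Y.fromSpecStalk (f.base x)) = X.fromSpecStalk x ≫ f := by
      rw [← Category.assoc, ← Spec.map_comp, ← Scheme.SpecMap_stalkMap_fromSpecStalk]
      congr 2
      ext z
      exact congrFun (congrArg DFunLike.coe hb) z
    have key : ∀ c : ↑(X.presheaf.stalk x) →+* B', φ.comp c = RingHom.id _ →
        c.comp (f.stalkMap x).hom = b →
        Spec.map (CommRingCat.ofHom φ) ≫ (Spec.map (CommRingCat.ofHom c) ≫ X.fromSpecStalk x) =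
          X.fromSpecStalk x ∧
        (Spec.map (CommRingCat.ofHom c) ≫ X.fromSpecStalk x) ≫ f =
          Spec.map (CommRingCat.ofHom b) ≫ Y.fromSpecStalk (f.base x) := by
      intro c hc hc'
      constructor
      · rw [← Category.assoc, ← Spec.map_comp]
        have : CommRingCat.ofHom c ≫ CommRingCat.ofHom φ = 𝟙 (X.presheaf.stalk x) := by
          ext z
          exact congrFun (congrArg DFunLike.coe hc) z
        rw [this]
        erw [Spec.map_id]
        exact Category.id_comp _
      · rw [Category.assoc, ← Scheme.SpecMap_stalkMap_fromSpecStalk, ← Category.assoc,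
          ← Spec.map_comp]
        congr 2
        ext z
        exact congrFun (congrArg DFunLike.coe hc') z
    have := H (X.presheaf.stalk x) B' φ hφ hker (X.fromSpecStalk x)
      (Spec.map (CommRingCat.ofHom b) ≫ Y.fromSpecStalk (f.base x))
      Scheme.fromSpecStalk_closedPoint hcomm _ _ (key c₁ h1 h1').1 (key c₁ h1 h1').2
      (key c₂ h2 h2').1 (key c₂ h2 h2').2
    rw [cancel_mono] at this
    have := Spec.map_injective this
    ext z
    exact congrFun (congrArg DFunLike.coe (congrArg CommRingCat.Hom.hom this)) z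

end Groth.Agent.S5009
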