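import Groth.Statements.S5012
import Mathlib
import Groth.Agent.H47.SepFS
import Groth.Agent.H47.FSSep
import Groth.Agent.H47.RegSmoothField
import Groth.Agent.Lead.RegularLocal

set_option autoImplicit false
universe u
open Unram17

namespace Groth.Agent.S5012


open IsLocalRing in
/-- at a minimal prime `p` of a Noetherian `k`-algebra with `A_p` reduced, `A_p ≃ κ(p)` over `k`. -/
noncomputable def equivResidue (k A : Type u) [Field k] [CommRing A] [Algebra k A]
    [IsNoetherianRing A] (p : Ideal A) [hp : p.IsPrime] (hmin : p ∈ minimalPrimes A)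
    [IsReduced (Localization.AtPrime p)] : Localization.AtPrime p ≃ₐ[k] p.ResidueField := by
  let B := Localization.AtPrime p
  let κ := p.ResidueField
  haveI : IsNoetherianRing B := IsLocalization.isNoetherianRing p.primeCompl B inferInstance
  have hdim0 : ringKrullDim B = 0 := by
    rw [IsLocalization.AtPrime.ringKrullDim_eq_height p, Ideal.height_eq_zero_iff.mpr hmin]
    rfl
  haveI : Ring.KrullDimLE 0 B := by
    rw [Ring.krullDimLE_iff]
    exact hdim0.le
  haveI : IsArtinianRing B := isArtinianRing_iff_krullDimLE_zero.mpr inferInstance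
  have hB : IsField B := IsArtinianRing.isField_of_isReduced_of_isLocalRing B
  have hmax : maximalIdeal B = ⊥ := IsLocalRing.isField_iff_maximalIdeal_eq.mp hB
  have hsurjB : Function.Surjective (algebraMap B κ) := IsLocalRing.residue_surjective
  have hker : RingHom.ker (algebraMap B κ) = ⊥ := by
    rw [← hmax]
    ext x
    rw [RingHom.mem_ker, IsLocalRing.ResidueField.algebraMap_eq, IsLocalRing.residue_eq_zero_iff]
  have hinjB : Function.Injective (algebraMap B κ) :=
    (RingHom.injective_iff_ker_eq_bot _).mpr hker
  exact AlgEquiv.ofBijective (IsScalarTower.toAlgHom k B κ) ⟨hinjB, hsurjB⟩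

theorem isSmoothAt_of_geomReduced (k A : Type u) [Field k] [CommRing A] [Algebra k A]
    [Algebra.FiniteType k A] (p : Ideal A) [hp : p.IsPrime] (hmin : p ∈ minimalPrimes A)
    [Algebra.IsGeometricallyReduced k (Localization.AtPrime p)] : Algebra.IsSmoothAt k p := by
  haveI : IsNoetherianRing A := Algebra.FiniteType.isNoetherianRing k A
  haveI : IsReduced (Localization.AtPrime p) := Algebra.isReduced_of_isGeometricallyReduced k
  let e := equivResidue k A p hmin
  haveI : Algebra.IsGeometricallyReduced k p.ResidueField :=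
    Algebra.IsGeometricallyReduced.of_injective e.symm.toAlgHom e.symm.injective
  haveI : Algebra.EssFiniteType k p.ResidueField := Algebra.EssFiniteType.comp k A p.ResidueField
  haveI : Algebra.FormallySmooth k p.ResidueField :=
    Groth.Agent.H47.formallySmooth_of_isGeometricallyReduced
  exact Algebra.FormallySmooth.of_equiv e.symm

theorem geomReduced_of_isSmoothAt (k A : Type u) [Field k] [CommRing A] [Algebra k A]
    [Algebra.FiniteType k A] (p : Ideal A) [hp : p.IsPrime] (hmin : p ∈ minimalPrimes A)
    [hsm : Algebra.IsSmoothAt k p] :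
    Algebra.IsGeometricallyReduced k (Localization.AtPrime p) := by
  haveI : IsNoetherianRing A := Algebra.FiniteType.isNoetherianRing k A
  haveI : IsRegularLocalRing (Localization.AtPrime p) :=
    Groth.Agent.H47.RSF.isRegularLocalRing_of_isSmoothAt k A p
  haveI : IsDomain (Localization.AtPrime p) := Groth.Agent.Lead.RLR.isDomain _
  let e := equivResidue k A p hmin
  haveI : Algebra.FormallySmooth k (Localization.AtPrime p) := hsm
  haveI : Algebra.FormallySmooth k p.ResidueField := Algebra.FormallySmooth.of_equiv e
  haveI : Algebra.IsGeometricallyReduced k p.ResidueField :=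
    Groth.Agent.H47.isGeometricallyReduced_of_formallySmooth_field
  exact Algebra.IsGeometricallyReduced.of_injective e.toAlgHom e.injective

/-- a dense open subset of the spectrum of a Noetherian ring contains all minimal primes -/
theorem mem_of_dense_of_minimal {A : Type*} [CommRing A] [IsNoetherianRing A]
    (U : TopologicalSpace.Opens (PrimeSpectrum A)) (hdense : Dense (U : Set (PrimeSpectrum A)))
    (p : Ideal A) [hp : p.IsPrime] (hmin : p ∈ minimalPrimes A) :
    (⟨p, hp⟩ : PrimeSpectrum A) ∈ U := by
  classical
  have hfin : (minimalPrimes A).Finite := minimalPrimes.finite_of_isNoetherianRing A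
  let S : Finset (Ideal A) := hfin.toFinset.erase p
  have hJ : ¬ (S.inf id ≤ p) := by
    intro hle
    obtain ⟨p', hp'S, hp'p⟩ := (hp.inf_le').mp hle
    rw [Finset.mem_erase, Set.Finite.mem_toFinset] at hp'S
    have : p ≤ p' := hmin.2 ⟨hp'S.2.1.1, bot_le⟩ hp'p
    exact hp'S.1 (le_antisymm hp'p this)
  obtain ⟨f, hfJ, hfp⟩ := SetLike.not_le_iff_exists.mp hJ
  have hDf : ∀ q : PrimeSpectrum A, q ∈ PrimeSpectrum.basicOpen f → p ≤ q.asIdeal := by
    intro q hq
    obtain ⟨p'', hp''min, hp''q⟩ := Ideal.exists_minimalPrimes_le (I := ⊥) (J := q.asIdeal) bot_le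
    by_cases hpp : p'' = p
    · rw [← hpp]; exact hp''q
    · exfalso
      have hmem : p'' ∈ S := by
        rw [Finset.mem_erase, Set.Finite.mem_toFinset]
        exact ⟨hpp, hp''min⟩
      have : f ∈ p'' := (Finset.inf_le hmem : S.inf id ≤ id p'') hfJ
      exact hq (hp''q this)
  have hne : ((PrimeSpectrum.basicOpen f : Set (PrimeSpectrum A)) ∩ (U : Set _)).Nonempty :=
    hdense.inter_open_nonempty _ (PrimeSpectrum.basicOpen f).isOpen ⟨⟨p, hp⟩, hfp⟩
  obtain ⟨q, hqf, hqU⟩ := hne
  have hle : (⟨p, hp⟩ : PrimeSpectrum A) ≤ q := hDf q hqf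
  exact ((PrimeSpectrum.le_iff_specializes _ _).mp hle).mem_open U.isOpen hqU

/-- Let A be an algebra of finite type over a field k. Then Spec A has a dense open subset consisting of
points at which A is smooth over k if and only if, for every minimal prime p of A, the local ring
A_p is geometrically reduced over k (that is, A_p is a field and a separable extension of k). -/
theorem result (k A : Type u) [Field k] [CommRing A] [Algebra k A]
    [Algebra.FiniteType k A] :
    (∃ U : TopologicalSpace.Opens (PrimeSpectrum A), Dense (U : Set (PrimeSpectrum A)) ∧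
        ∀ p ∈ U, Algebra.IsSmoothAt k p.asIdeal) ↔
      ∀ (p : Ideal A) [p.IsPrime], p ∈ minimalPrimes A →
        Algebra.IsGeometricallyReduced k (Localization.AtPrime p) := by
  haveI : IsNoetherianRing A := Algebra.FiniteType.isNoetherianRing k A
  haveI hfp : Algebra.FinitePresentation k A :=
    Algebra.FinitePresentation.of_finiteType.mp inferInstance
  constructor
  · rintro ⟨U, hdense, hU⟩ p hp hmin
    have hpU := mem_of_dense_of_minimal U hdense p hmin
    haveI : Algebra.IsSmoothAt k p := hU _ hpU
    exact geomReduced_of_isSmoothAt k A p hmin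
  · intro hgen
    refine ⟨⟨Algebra.smoothLocus k A, Algebra.isOpen_smoothLocus⟩, ?_, fun p hp => hp⟩
    rw [dense_iff_closure_eq, ← PrimeSpectrum.zeroLocus_vanishingIdeal_eq_closure,
      Set.eq_univ_iff_forall]
    intro q
    rw [PrimeSpectrum.mem_zeroLocus]
    intro f hf
    obtain ⟨p, hpmin, hpq⟩ := Ideal.exists_minimalPrimes_le (I := ⊥) (J := q.asIdeal) bot_le
    haveI hpp : p.IsPrime := hpmin.1.1
    haveI := hgen p hpmin
    have hsm : (⟨p, hpp⟩ : PrimeSpectrum A) ∈ Algebra.smoothLocus k A :=
      isSmoothAt_of_geomReduced k A p hpmin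
    rw [SetLike.mem_coe, PrimeSpectrum.mem_vanishingIdeal] at hf
    exact hpq (hf _ hsm)

end Groth.Agent.S5012
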