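import Groth.Statements.S5013
import Groth.Agent.S2561
import Groth.Agent.S4939
import Groth.Agent.H25.FibreAlg3
import Groth.Agent.H25.UnivOpenComp
import Groth.Agent.H25.FibreSmoothPt
import Groth.Agent.H6.UnivOpenDVR2
import Groth.Agent.H25.EquidimGU

set_option autoImplicit false
universe u
open CategoryTheory CategoryTheory.Limits AlgebraicGeometry TopologicalSpace
open Unram17

namespace Groth.Agent.S5013

/-- Let Y be locally Noetherian, f : X ⟶ Y locally of finite type, x a point of X with image y, and
suppose the local ring of Y at y is reduced and geometrically unibranch. Then f is smooth on an open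
neighbourhood of x if and only if f is equidimensional at x and the local ring of the fibre at x
(the quotient of the local ring of X at x by the extension of the maximal ideal at y) is
geometrically regular over the residue field κ(y). -/
theorem result {X Y : Scheme.{u}} (f : X ⟶ Y)
    [IsLocallyNoetherian Y] [LocallyOfFiniteType f] (x : ↥X)
    (hred : IsReduced ↑(Y.presheaf.stalk (f.base x)))
    (hgu : CAlg2.IsGeomUnibranch ↑(Y.presheaf.stalk (f.base x))) :
    letI φ := (f.stalkMap x).hom
    letI 𝔪 := IsLocalRing.maximalIdeal ↑(Y.presheaf.stalk (f.base x))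
    letI : Algebra (IsLocalRing.ResidueField ↑(Y.presheaf.stalk (f.base x))) (↑(X.presheaf.stalk x) ⧸ 𝔪.map φ) :=
      (Ideal.quotientMap (𝔪.map φ) φ Ideal.le_comap_map).toAlgebra
    (∃ U : X.Opens, x ∈ U ∧ Smooth (U.ι ≫ f)) ↔
      EGA43.IsEquidimAt f x ∧
        CAlg.IsGeometricallyRegular (IsLocalRing.ResidueField ↑(Y.presheaf.stalk (f.base x)))
          (↑(X.presheaf.stalk x) ⧸ 𝔪.map φ) := by
  haveI : LocallyOfFinitePresentation f :=
    LocallyOfFinitePresentation.iff_locallyOfFiniteType.mpr inferInstance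
  haveI : LocallyOfFinitePresentation (f.fiberToSpecResidueField (f.base x)) :=
    inferInstanceAs (LocallyOfFinitePresentation
      (Limits.pullback.snd f (Y.fromSpecResidueField (f.base x))))
  have hbridge := Groth.Agent.H25.FibreAlg.isGeometricallyRegular_iff_mem_smoothLocus f x
  have htfae := Groth.Agent.S4939.result f x hgu
  have h02 : EGA43.IsEquidimAt f x ↔
      (EGA4.IsEquidim (X.presheaf.stalk x) ∧ (∀ z : ↥(f.fiber (f.base x)),
        f.asFiber x ∈ closure {z} →
        (∀ z' : ↥(f.fiber (f.base x)), z ∈ closure {z'} → z' = z) →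
        EGA43.IsUnivOpenAt f ((f.fiberι (f.base x)).base z))) := htfae.out 0 2
  constructor
  · rintro ⟨U, hxU, hU⟩
    have hxs : x ∈ f.smoothLocus := by
      have h1 : (U.ι ≫ f).smoothLocus = ⊤ := Scheme.Hom.smoothLocus_eq_top_iff.mpr hU
      rw [← Scheme.Hom.preimage_smoothLocus_eq] at h1
      have h2 : (⟨x, hxU⟩ : U) ∈ U.ι ⁻¹ᵁ f.smoothLocus := by rw [h1]; trivial
      exact h2
    refine ⟨?_, ?_⟩
    · refine h02.mpr ⟨?_, ?_⟩
      · exact Groth.Agent.H25.EquidimGU.isEquidim_stalk_of_smooth_nhd f x U hxU hgu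
      · intro z hz _
        have h1 : z ⤳ f.asFiber x := specializes_iff_mem_closure.mpr hz
        have h2 := h1.map (f.fiberι (f.base x)).continuous
        rw [f.fiberι_asFiber] at h2
        have hzU : (f.fiberι (f.base x)).base z ∈ U := h2.mem_open U.2 hxU
        haveI : UniversallyOpen (U.ι ≫ f) := inferInstance
        have h3 := Groth.Agent.H6.UnivOpenDVR.isUnivOpenAt_of_universallyOpen (U.ι ≫ f)
          (⟨_, hzU⟩ : U)
        exact Groth.Agent.H25.isUnivOpenAt_of_comp_left U.ι f ⟨_, hzU⟩ h3
    · exact hbridge.mpr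
        (Groth.Agent.H25.FibreSmoothPt.flat_and_fibre_of_mem_smoothLocus f x hxs).2
  · rintro ⟨heq, hreg⟩
    have hsm := hbridge.mp hreg
    have hgr : FBase.IsGeomReducedAt (f.fiberToSpecResidueField (f.base x)) (f.asFiber x) :=
      @Groth.Agent.H25.FibreAlg.isGeomReducedAt_of_mem_smoothLocus
        (IsLocalRing.ResidueField ↑(Y.presheaf.stalk (f.base x))) _ _
        (f.fiberToSpecResidueField (f.base x)) ‹_› (f.asFiber x) hsm
    have hopen := (h02.mp heq).2
    have hflat := Groth.Agent.S2561.result f x hopen hgr hred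
    have hxs := Groth.Agent.H25.FibreSmoothPt.mem_smoothLocus_of_flat_of_fibre f x hflat hsm
    exact ⟨f.smoothLocus, hxs, Groth.Agent.H25.FibreSmoothPt.smooth_smoothLocus_ι_comp f⟩

end Groth.Agent.S5013
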