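import Groth.Statements.S5017
import Groth.Agent.H25.MonoFibreA

set_option autoImplicit false
universe u
open CategoryTheory CategoryTheory.Limits AlgebraicGeometry TopologicalSpace
open Unram17

namespace Groth.Agent.S5017
open Groth.Agent.H25

/-- Let f : X ⟶ Y be locally of finite type. Then f is a monomorphism if and only if, for every point x
of X with image y, x is the only point of its fibre and the canonical map from the residue field
κ(y) to the quotient of the local ring of X at x by the extension of the maximal ideal at y is
bijective (each nonempty fibre is Spec κ(y)). -/
theorem result {X Y : Scheme.{u}} (f : X ⟶ Y) [LocallyOfFiniteType f] :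
    Mono f ↔ ∀ x : ↥X,
      (∀ x' : ↥X, f.base x' = f.base x → x' = x) ∧
        Function.Bijective
          (Ideal.quotientMap
            ((IsLocalRing.maximalIdeal ↑(Y.presheaf.stalk (f.base x))).map (f.stalkMap x).hom)
            (f.stalkMap x).hom Ideal.le_comap_map) := by
  constructor
  · intro hmono x
    have hdi : IsIso (pullback.diagonal f) := (pullback.isIso_diagonal_iff f).2 hmono
    have hui : UniversallyInjective f := inferInstance
    have hfu : FormallyUnramified f := inferInstance
    refine ⟨fun x' hx' => f.injective hx', ?_⟩
    rw [bijective_quotientMap_iff _ (LocallyOfFiniteType.stalkMap f x)]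
    refine ⟨FormallyUnramified.stalkMap f x, ?_⟩
    have h02 : UniversallyInjective f ↔ (Function.Injective f ∧
        ∀ x, (f.residueFieldMap x).hom.IsPurelyInseparable) :=
      (tfae_universallyInjective f).out 0 2
    have hpi : (f.residueFieldMap x).hom.IsPurelyInseparable := (h02.1 hui).2 x
    letI : Algebra (Y.residueField (f.base x)) (X.residueField x) :=
      (f.residueFieldMap x).hom.toAlgebra
    have hsep : Algebra.IsSeparable (Y.residueField (f.base x)) (X.residueField x) :=
      inferInstance
    have hpi' : IsPurelyInseparable (Y.residueField (f.base x)) (X.residueField x) := hpi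
    exact IsPurelyInseparable.surjective_algebraMap_of_isSeparable
      (Y.residueField (f.base x)) (X.residueField x)
  · intro h
    have hinj : Function.Injective f.base := fun a b hab => (h b).1 a hab
    have hst : ∀ x, (f.stalkMap x).hom.FormallyUnramified ∧
        Function.Surjective (IsLocalRing.ResidueField.map (f.stalkMap x).hom) := fun x =>
      (bijective_quotientMap_iff _ (LocallyOfFiniteType.stalkMap f x)).1 (h x).2
    have hfu : FormallyUnramified f := formallyUnramified_of_stalkMap f fun x => (hst x).1
    have hui : UniversallyInjective f := by
      have h02 : UniversallyInjective f ↔ (Function.Injective f ∧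
          ∀ x, (f.residueFieldMap x).hom.IsPurelyInseparable) :=
        (tfae_universallyInjective f).out 0 2
      refine h02.2 ⟨hinj, fun x => ?_⟩
      change letI := (f.residueFieldMap x).hom.toAlgebra; IsPurelyInseparable _ _
      letI := (f.residueFieldMap x).hom.toAlgebra
      rw [isPurelyInseparable_iff]
      intro z
      obtain ⟨k, rfl⟩ := (hst x).2 z
      exact ⟨isIntegral_algebraMap, fun _ => ⟨k, rfl⟩⟩
    have hsurj : Surjective (pullback.diagonal f) := (UniversallyInjective.iff_diagonal f).1 hui
    have hoi : IsOpenImmersion (pullback.diagonal f) := inferInstance
    have hepi : Epi (pullback.diagonal f).base := by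
      rw [TopCat.epi_iff_surjective]
      exact hsurj.surj
    have : IsIso (pullback.diagonal f) := IsOpenImmersion.isIso _
    exact (pullback.isIso_diagonal_iff f).1 this

end Groth.Agent.S5017
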