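import Groth.Statements.S5020
import Groth.Agent.H44.ConormalSeq
import Groth.Agent.H44.FormallySmoothOmega

set_option autoImplicit false
universe u
open CategoryTheory CategoryTheory.Limits AlgebraicGeometry TopologicalSpace
open Unram17

namespace Groth.Agent.S5020

/-- Let j : X' ⟶ X be a quasi-compact immersion and f : X ⟶ Y a morphism with j ≫ f formally smooth. Let
(Ω', d) be a sheaf of differentials of X over Y (d universal) and φ the canonical map from the
conormal sheaf of j to the pullback of Ω' along j (the O_{X'}-linear map sending the class of a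
local section s of the ideal of j to the pullback of d s). Then φ is a monomorphism. (The published
statement allows any immersion j and also asserts that the sequence conormal sheaf → pullback of Ω'
→ differentials of X' over Y is short exact and locally split; this row assumes j quasi-compact, the
case in which the conormal sheaf used here is known to be the conormal sheaf of j, and states only
that the first map is injective.) -/
theorem result {X' X Y : Scheme.{u}} (j : X' ⟶ X)
    [IsImmersion j] [QuasiCompact j] (f : X ⟶ Y) (hf : MoreMor.IsFormallySmoothHom (j ≫ f))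
    (Ω' : X.Modules) (d : OmegaSh.Der f Ω') (hd : OmegaSh.IsUniversal d)
    (φ : Omega.conormal j ⟶ (Scheme.Modules.pullback j).obj Ω') (hφ : OmegaSh.IsConormalDiff j d φ) :
    Mono φ := by
  refine Groth.Agent.H44.mono_of_injective_on_basis φ
    (fun t : Groth.Agent.H44.ImmChart j f => j ⁻¹ᵁ t.U) (Groth.Agent.H44.isBasis_immChart j f)
    fun t => ?_
  refine Groth.Agent.H44.conormalDiff_app_injective d hd φ hφ t ?_
  letI algAB : Algebra Γ(Y, t.V) Γ(X, t.U) := (f.appLE t.V t.U t.e).hom.toAlgebra
  letI algAC : Algebra Γ(Y, t.V) Γ(X', j ⁻¹ᵁ t.U) :=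
    ((j ≫ f).appLE t.V (j ⁻¹ᵁ t.U) t.e').hom.toAlgebra
  letI algBC : Algebra Γ(X, t.U) Γ(X', j ⁻¹ᵁ t.U) := (j.appLE t.U (j ⁻¹ᵁ t.U) le_rfl).hom.toAlgebra
  haveI : IsScalarTower Γ(Y, t.V) Γ(X, t.U) Γ(X', j ⁻¹ᵁ t.U) := IsScalarTower.of_algebraMap_eq' (by
    change ((j ≫ f).appLE t.V (j ⁻¹ᵁ t.U) t.e').hom =
      (j.appLE t.U (j ⁻¹ᵁ t.U) le_rfl).hom.comp (f.appLE t.V t.U t.e).hom
    rw [← CommRingCat.hom_comp, Scheme.Hom.appLE_comp_appLE])
  haveI : Algebra.FormallySmooth Γ(Y, t.V) Γ(X', j ⁻¹ᵁ t.U) :=
    Groth.Agent.H44.formallySmooth_appLE_of_isFormallySmoothHom hf t.hU' t.hV t.e'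
  have hsurj : Function.Surjective (algebraMap Γ(X, t.U) Γ(X', j ⁻¹ᵁ t.U)) := by
    change Function.Surjective (j.appLE t.U (j ⁻¹ᵁ t.U) le_rfl).hom
    rw [Scheme.Hom.appLE_eq_app]
    exact t.surj
  exact Groth.Agent.H44.conormalToTensor_injective_of_formallySmooth _ _ _ hsurj

end Groth.Agent.S5020
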