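import Groth.Statements.S5028
import Groth.Agent.S2561
import Groth.Agent.H25.FibreAlg3
import Groth.Agent.H25.UnivOpenComp
import Groth.Agent.H25.FibreSmoothPt
import Groth.Agent.H6.UnivOpenDVR2

set_option autoImplicit false
universe u
open CategoryTheory CategoryTheory.Limits AlgebraicGeometry TopologicalSpace
open Unram17

namespace Groth.Agent.S5028

/-- Let Y be locally Noetherian, f : X ⟶ Y locally of finite type, x a point of X with image y, and
suppose the local ring of Y at y is reduced. Then f is smooth on an open neighbourhood of x if and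
only if f is universally open at every point of some neighbourhood of x in the fibre over y (that
is, for the points x' of some open neighbourhood of x in X lying over y, every base change of f is
open at each point lying over x') and the local ring of the fibre at x (the quotient of the local
ring of X at x by the extension of the maximal ideal at y) is geometrically regular over the residue
field κ(y). -/
theorem result {X Y : Scheme.{u}} (f : X ⟶ Y)
    [IsLocallyNoetherian Y] [LocallyOfFiniteType f] (x : ↥X)
    (hred : IsReduced ↑(Y.presheaf.stalk (f.base x))) :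
    letI φ := (f.stalkMap x).hom
    letI 𝔪 := IsLocalRing.maximalIdeal ↑(Y.presheaf.stalk (f.base x))
    letI : Algebra (IsLocalRing.ResidueField ↑(Y.presheaf.stalk (f.base x))) (↑(X.presheaf.stalk x) ⧸ 𝔪.map φ) :=
      (Ideal.quotientMap (𝔪.map φ) φ Ideal.le_comap_map).toAlgebra
    (∃ U : X.Opens, x ∈ U ∧ Smooth (U.ι ≫ f)) ↔
      (∃ W : X.Opens, x ∈ W ∧ ∀ x' ∈ W, f.base x' = f.base x → EGA43.IsUnivOpenAt f x') ∧
        CAlg.IsGeometricallyRegular (IsLocalRing.ResidueField ↑(Y.presheaf.stalk (f.base x)))
          (↑(X.presheaf.stalk x) ⧸ 𝔪.map φ) := by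
  haveI : LocallyOfFinitePresentation f :=
    LocallyOfFinitePresentation.iff_locallyOfFiniteType.mpr inferInstance
  haveI : LocallyOfFinitePresentation (f.fiberToSpecResidueField (f.base x)) :=
    inferInstanceAs (LocallyOfFinitePresentation
      (Limits.pullback.snd f (Y.fromSpecResidueField (f.base x))))
  have hbridge := Groth.Agent.H25.FibreAlg.isGeometricallyRegular_iff_mem_smoothLocus f x
  constructor
  · rintro ⟨U, hxU, hU⟩
    have hxs : x ∈ f.smoothLocus := by
      have h1 : (U.ι ≫ f).smoothLocus = ⊤ := Scheme.Hom.smoothLocus_eq_top_iff.mpr hU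
      rw [← Scheme.Hom.preimage_smoothLocus_eq] at h1
      have h2 : (⟨x, hxU⟩ : U) ∈ U.ι ⁻¹ᵁ f.smoothLocus := by rw [h1]; trivial
      exact h2
    refine ⟨⟨U, hxU, ?_⟩, ?_⟩
    · intro x' hx' _
      haveI : UniversallyOpen (U.ι ≫ f) := inferInstance
      have h3 := Groth.Agent.H6.UnivOpenDVR.isUnivOpenAt_of_universallyOpen (U.ι ≫ f)
        (⟨x', hx'⟩ : U)
      exact Groth.Agent.H25.isUnivOpenAt_of_comp_left U.ι f ⟨x', hx'⟩ h3
    · exact hbridge.mpr
        (Groth.Agent.H25.FibreSmoothPt.flat_and_fibre_of_mem_smoothLocus f x hxs).2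
  · rintro ⟨⟨W, hxW, hW⟩, hreg⟩
    have hsm := hbridge.mp hreg
    have hgr : FBase.IsGeomReducedAt (f.fiberToSpecResidueField (f.base x)) (f.asFiber x) :=
      @Groth.Agent.H25.FibreAlg.isGeomReducedAt_of_mem_smoothLocus
        (IsLocalRing.ResidueField ↑(Y.presheaf.stalk (f.base x))) _ _
        (f.fiberToSpecResidueField (f.base x)) ‹_› (f.asFiber x) hsm
    have hopen : ∀ z : ↥(f.fiber (f.base x)), f.asFiber x ∈ closure {z} →
        (∀ z' : ↥(f.fiber (f.base x)), z ∈ closure {z'} → z' = z) →
        EGA43.IsUnivOpenAt f ((f.fiberι (f.base x)).base z) := by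
      intro z hz _
      have h1 : z ⤳ f.asFiber x := specializes_iff_mem_closure.mpr hz
      have h2 := h1.map (f.fiberι (f.base x)).continuous
      rw [f.fiberι_asFiber] at h2
      refine hW _ (h2.mem_open W.2 hxW) ?_
      have : (f.fiberι (f.base x)).base z ∈ Set.range (f.fiberι (f.base x)).base := ⟨z, rfl⟩
      rw [Scheme.Hom.range_fiberι] at this
      exact this
    have hflat := Groth.Agent.S2561.result f x hopen hgr hred
    have hxs := Groth.Agent.H25.FibreSmoothPt.mem_smoothLocus_of_flat_of_fibre f x hflat hsm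
    exact ⟨f.smoothLocus, hxs, Groth.Agent.H25.FibreSmoothPt.smooth_smoothLocus_ι_comp f⟩

end Groth.Agent.S5028
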