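import Groth.Statements.S5029
import Groth.Agent.H41.SymStruct
import Groth.Agent.H44.AffineFree

set_option autoImplicit false
universe u
open CategoryTheory CategoryTheory.Limits AlgebraicGeometry TopologicalSpace
open Unram17

namespace Groth.Agent.S5029

/-- Let S be a scheme and E a quasi-coherent O_S-module that is finite locally free. If A is a
quasi-coherent O_S-algebra which is the symmetric algebra of E (through j : E ⟶ A), then the
structure morphism of the relative spectrum of A, i.e. of the vector bundle V(E), is smooth. -/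
theorem result {S : Scheme.{u}} (E : S.Modules) (hE : Coh.IsQCoh E)
    (hlf : FlatMod.IsFinLocFree E) (A : RelSpec.QCAlg S) (j : E ⟶ A.toModule) (hA : RelSpec.IsSymAlg E A j) :
    Smooth A.π := by
  haveI : E.IsQuasicoherent := hE
  let ι := {V : S.affineOpens // ∃ (U : S.Opens) (n : ℕ), (V : S.Opens) ≤ U ∧
    Nonempty (E.restrict U.ι ≅ FlatMod.freeMod (↑U) n)}
  have hcov : ∀ x : A.spec, ∃ (a : ι) (y : Spec (A.presheaf.obj (Opposite.op a.1.1))),
      A.ι a.1.1 a.1.2 y = x := by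
    intro x
    obtain ⟨U, n, hxU, he⟩ := hlf (A.π x)
    obtain ⟨_, ⟨V, hV : IsAffineOpen V, rfl⟩, hxV, hVU⟩ :=
      S.isBasis_affineOpens.exists_subset_of_mem_open hxU U.2
    refine ⟨⟨⟨V, hV⟩, U, n, hVU, he⟩, ?_⟩
    have h1 : x ∈ A.π ⁻¹ᵁ V := hxV
    rw [A.π_preimage V hV] at h1
    exact h1
  let 𝒰 : A.spec.OpenCover := Scheme.Cover.mkOfCovers ι
    (fun a => Spec (A.presheaf.obj (Opposite.op a.1.1))) (fun a => A.ι a.1.1 a.1.2) hcov
  refine IsZariskiLocalAtSource.of_openCover (P := @Smooth) 𝒰 fun a => ?_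
  change Smooth (A.ι a.1.1 a.1.2 ≫ A.π)
  rw [A.ι_π]
  obtain ⟨U, n, hVU, ⟨e⟩⟩ := a.2
  obtain ⟨b⟩ := Groth.Agent.H44.nonempty_basis_of_iso_freeMod (F := E) a.1.2 hVU e
  haveI : Smooth (Spec.map (A.str.app (Opposite.op a.1.1))) := by
    rw [HasRingHomProperty.Spec_iff (P := @Smooth)]
    letI : Algebra Γ(S, a.1.1) (A.presheaf.obj (Opposite.op a.1.1)) :=
      (A.str.app (Opposite.op a.1.1)).hom.toAlgebra
    let e1 : SymmetricAlgebra Γ(S, a.1.1) Γ(E, a.1.1) ≃ₐ[Γ(S, a.1.1)]
        A.presheaf.obj (Opposite.op a.1.1) :=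
      { RingEquiv.ofBijective (Groth.Agent.H41.SymSheaf.liftApp E A j a.1.1)
          (Groth.Agent.H41.SymStruct.bijective_liftApp E A j hA a.1.1 a.1.2) with
        commutes' := fun r => Groth.Agent.H41.SymSheaf.liftApp_algebraMap E A j a.1.1 r }
    haveI : Algebra.Smooth Γ(S, a.1.1) (MvPolynomial (Fin n) Γ(S, a.1.1)) := ⟨inferInstance, inferInstance⟩
    exact Algebra.Smooth.of_equiv ((SymmetricAlgebra.equivMvPolynomial b).symm.trans e1)
  infer_instance

end Groth.Agent.S5029
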