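import Groth.Statements.S5034
import Mathlib.RingTheory.Nakayama
import Mathlib.RingTheory.AdjoinRoot
import Mathlib.Algebra.Polynomial.Identities

set_option autoImplicit false
universe u
open Hensel

namespace Groth.Agent.S5034
open Polynomial IsLocalRing

/-- a') implies a): let R be a local ring such that for every monic polynomial F over R the quotient
ring R[T]/(F) is isomorphic, as a ring, to a finite product of local rings. Then R is henselian. -/
theorem result (R : Type u) [CommRing R] [IsLocalRing R]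
    (h : ∀ F : Polynomial R, F.Monic →
      ∃ (ι : Type u) (_ : Fintype ι) (A : ι → Type u) (_ : ∀ i, CommRing (A i)),
        (∀ i, IsLocalRing (A i)) ∧ Nonempty (AdjoinRoot F ≃+* (∀ i, A i))) :
    HenselianLocalRing R := by
  classical
  refine ⟨fun F hF a₀ hFa₀ hF'a₀ => ?_⟩
  obtain ⟨ι, _, A, _, hloc, ⟨e⟩⟩ := h F hF
  -- the residue map on B
  have hroot : F.eval₂ (residue R) (residue R a₀) = 0 := by
    rw [Polynomial.eval₂_at_apply]
    exact (residue_eq_zero_iff _).2 hFa₀
  set ψ₀ : AdjoinRoot F →+* ResidueField R := AdjoinRoot.lift (residue R) (residue R a₀) hroot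
    with hψ₀
  -- idempotents
  set ε : ι → AdjoinRoot F := fun i => e.symm (Pi.single i 1) with hε
  have hεidem : ∀ i, ε i * ε i = ε i := by
    intro i
    simp only [hε, ← map_mul, ← Pi.single_mul, mul_one]
  have hεsum : ∑ i, ε i = 1 := by
    have hs : (∑ i : ι, (Pi.single i (1 : A i) : ∀ j, A j)) = 1 :=
      Finset.univ_sum_single (1 : ∀ i, A i)
    simp only [hε, ← map_sum]
    rw [hs, map_one]
  obtain ⟨i₀, hi₀⟩ : ∃ i₀, ψ₀ (ε i₀) = 1 := by
    by_contra hcon
    push Not at hcon
    have h0 : ∀ i, ψ₀ (ε i) = 0 := by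
      intro i
      have h1 : ψ₀ (ε i) * ψ₀ (ε i) = ψ₀ (ε i) := by rw [← map_mul, hεidem]
      have h2 : ψ₀ (ε i) * (ψ₀ (ε i) - 1) = 0 := by rw [mul_sub, h1, mul_one, sub_self]
      rcases mul_eq_zero.1 h2 with h3 | h3
      · exact h3
      · exact absurd (sub_eq_zero.1 h3) (hcon i)
    have : ψ₀ (∑ i, ε i) = 0 := by rw [map_sum]; exact Finset.sum_eq_zero fun i _ => h0 i
    rw [hεsum, map_one] at this
    exact one_ne_zero this
  have := hloc i₀
  -- the maps
  set σ : AdjoinRoot F →+* A i₀ := (Pi.evalRingHom A i₀).comp (e : AdjoinRoot F →+* ∀ i, A i)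
    with hσ
  have hσapp : ∀ b, σ b = e b i₀ := fun b => rfl
  have hσsurj : Function.Surjective σ := by
    intro a
    refine ⟨e.symm (Pi.single i₀ a), ?_⟩
    rw [hσapp, RingEquiv.apply_symm_apply, Pi.single_eq_same]
  set φ : R →+* A i₀ := σ.comp (AdjoinRoot.of F) with hφ
  have hσε : σ (ε i₀) = 1 := by
    rw [hσapp, hε]; simp
  -- kernel of σ is contained in kernel of ψ₀
  have hker : ∀ b, σ b = 0 → ψ₀ b = 0 := by
    intro b hb
    have : b * ε i₀ = 0 := by
      apply e.injective
      rw [map_mul, map_zero, hε]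
      simp only [RingEquiv.apply_symm_apply]
      ext j
      by_cases hj : j = i₀
      · subst hj
        rw [Pi.mul_apply, Pi.single_eq_same, mul_one, ← hσapp, hb]; rfl
      · rw [Pi.mul_apply, Pi.single_eq_of_ne hj, mul_zero]; rfl
    have h2 : ψ₀ b * ψ₀ (ε i₀) = 0 := by rw [← map_mul, this, map_zero]
    rwa [hi₀, mul_one] at h2
  -- χ
  set χ : A i₀ →+* ResidueField R :=
    σ.liftOfSurjective hσsurj ⟨ψ₀, fun b hb => hker b hb⟩ with hχ
  have hχσ : ∀ b, χ (σ b) = ψ₀ b := fun b =>
    σ.liftOfRightInverse_comp_apply _ (Function.rightInverse_surjInv hσsurj) _ b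
  have hχφ : ∀ r, χ (φ r) = residue R r := by
    intro r
    rw [hφ, RingHom.comp_apply, hχσ, hψ₀, AdjoinRoot.lift_of]
  have hχsurj : Function.Surjective χ := by
    intro z
    obtain ⟨r, rfl⟩ := residue_surjective z
    exact ⟨φ r, hχφ r⟩
  have hχker : RingHom.ker χ = maximalIdeal (A i₀) :=
    eq_maximalIdeal (RingHom.ker_isMaximal_of_surjective χ hχsurj)
  set ρ : A i₀ := σ (AdjoinRoot.root F) with hρ
  set x : A i₀ := ρ - φ a₀ with hx
  have hxm : x ∈ maximalIdeal (A i₀) := by
    rw [← hχker, RingHom.mem_ker, hx, map_sub, hρ, hχσ, hχφ, hψ₀, AdjoinRoot.lift_root, sub_self]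
  -- F(ρ) = 0
  have hFρ : (F.map φ).eval ρ = 0 := by
    rw [Polynomial.eval_map, hφ, hρ, ← Polynomial.hom_eval₂, AdjoinRoot.eval₂_root, map_zero]
  -- Taylor
  obtain ⟨k, hk⟩ := Polynomial.binomExpansion (F.map φ) (φ a₀) x
  have hρeq : φ a₀ + x = ρ := by rw [hx]; ring
  rw [hρeq, hFρ] at hk
  have hFa : (F.map φ).eval (φ a₀) = φ (F.eval a₀) := by
    rw [Polynomial.eval_map, Polynomial.eval₂_at_apply]
  have hF'a : (F.map φ).derivative.eval (φ a₀) = φ (F.derivative.eval a₀) := by
    rw [Polynomial.derivative_map, Polynomial.eval_map, Polynomial.eval₂_at_apply]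
  rw [hFa, hF'a] at hk
  set u : A i₀ := φ (F.derivative.eval a₀) + k * x with hu
  have huunit : IsUnit u := by
    rw [← IsLocalRing.notMem_maximalIdeal]
    intro hmem
    have : φ (F.derivative.eval a₀) ∈ maximalIdeal (A i₀) := by
      have : φ (F.derivative.eval a₀) = u - k * x := by rw [hu]; ring
      rw [this]
      exact Ideal.sub_mem _ hmem (Ideal.mul_mem_left _ _ hxm)
    exact (IsLocalRing.notMem_maximalIdeal.2 (hF'a₀.map φ)) this
  have hxeq : x * u = - φ (F.eval a₀) := by
    rw [hu]; linear_combination -hk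
  obtain ⟨v, hv⟩ := huunit.exists_right_inv
  have hxeq' : x = φ (- F.eval a₀) * v := by
    rw [map_neg, ← hxeq, mul_assoc, hv, mul_one]
  -- module structure
  let : Algebra R (A i₀) := φ.toAlgebra
  have halg : ∀ r, algebraMap R (A i₀) r = φ r := fun r => rfl
  let σa : AdjoinRoot F →ₐ[R] A i₀ := { σ with commutes' := fun r => rfl }
  have : Module.Finite R (AdjoinRoot F) := hF.finite_adjoinRoot
  have : Module.Finite R (A i₀) := Module.Finite.of_surjective σa.toLinearMap hσsurj
  -- surjectivity of φ via Nakayama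
  have hsurjφ : Function.Surjective φ := by
    have hle : (⊤ : Submodule R (A i₀)) ≤ LinearMap.range (Algebra.linearMap R (A i₀)) := by
      apply Submodule.le_of_le_smul_of_le_jacobson_bot (I := maximalIdeal R)
        (Module.Finite.fg_top)
        (IsLocalRing.jacobson_eq_maximalIdeal ⊥ bot_ne_top).ge
      intro a _
      obtain ⟨b, rfl⟩ := hσsurj a
      obtain ⟨p, rfl⟩ := AdjoinRoot.mk_surjective b
      have h1 : σ (AdjoinRoot.mk F p) = (p.map φ).eval ρ := by
        rw [Polynomial.eval_map, hφ, hρ, ← Polynomial.hom_eval₂, ← AdjoinRoot.aeval_eq,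
          Polynomial.aeval_def]
        rfl
      obtain ⟨c, hc⟩ := Polynomial.sub_dvd_eval_sub ρ (φ a₀) (p.map φ)
      have h2 : (p.map φ).eval (φ a₀) = φ (p.eval a₀) := by
        rw [Polynomial.eval_map, Polynomial.eval₂_at_apply]
      have h3 : σ (AdjoinRoot.mk F p) = φ (p.eval a₀) + (- F.eval a₀) • (v * c) := by
        rw [h1, ← h2, Algebra.smul_def, halg, ← mul_assoc, ← hxeq']
        rw [← hx] at hc
        linear_combination hc
      rw [h3]
      refine Submodule.add_mem_sup ⟨p.eval a₀, rfl⟩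
        (Submodule.smul_mem_smul (Ideal.neg_mem_iff _ |>.2 hFa₀) Submodule.mem_top)
    intro a
    obtain ⟨r, hr⟩ := hle (Submodule.mem_top (x := a))
    exact ⟨r, hr⟩
  -- injectivity of φ via the power basis
  have hinjφ : Function.Injective φ := by
    rw [injective_iff_map_eq_zero]
    intro r hr
    have hrε : r • ε i₀ = 0 := by
      rw [Algebra.smul_def]
      apply e.injective
      rw [map_mul, map_zero, hε]
      simp only [RingEquiv.apply_symm_apply]
      ext j
      by_cases hj : j = i₀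
      · subst hj
        rw [Pi.mul_apply, Pi.single_eq_same, mul_one]
        exact hr
      · rw [Pi.mul_apply, Pi.single_eq_of_ne hj, mul_zero]; rfl
    let pb := AdjoinRoot.powerBasis' hF
    obtain ⟨j, hj⟩ : ∃ j, pb.basis.repr (ε i₀) j ∉ maximalIdeal R := by
      by_contra hcon
      push Not at hcon
      have : ψ₀ (ε i₀) = 0 := by
        conv_lhs => rw [← pb.basis.sum_repr (ε i₀)]
        rw [map_sum]
        refine Finset.sum_eq_zero fun j _ => ?_
        rw [Algebra.smul_def, map_mul]
        have : ψ₀ (algebraMap R (AdjoinRoot F) (pb.basis.repr (ε i₀) j)) = 0 := by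
          rw [hψ₀]
          erw [AdjoinRoot.lift_of]
          exact (residue_eq_zero_iff _).2 (hcon j)
        rw [this, zero_mul]
      rw [hi₀] at this
      exact one_ne_zero this
    have hunit : IsUnit (pb.basis.repr (ε i₀) j) := IsLocalRing.notMem_maximalIdeal.1 hj
    have h0 : pb.basis.repr (r • ε i₀) j = 0 := by rw [hrε]; simp
    rw [map_smul, Finsupp.smul_apply, smul_eq_mul] at h0
    exact (hunit.mul_left_eq_zero).1 h0
  obtain ⟨a, ha⟩ := hsurjφ ρ
  refine ⟨a, ?_, ?_⟩
  · apply hinjφ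
    rw [map_zero, ← Polynomial.eval₂_at_apply, ← Polynomial.eval_map, ha, hFρ]
  · rw [← residue_eq_zero_iff, map_sub, sub_eq_zero, ← hχφ a, ha, hρ, hχσ, hψ₀,
      AdjoinRoot.lift_root]

end Groth.Agent.S5034
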