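import Groth.Statements.S5038
import Groth.Agent.H25.HenselSmooth

set_option autoImplicit false
open CategoryTheory AlgebraicGeometry
universe u
open Hensel

namespace Groth.Agent.S5038
open Groth.Agent.H25 IsLocalRing

/-- Let A be a henselian local ring with residue field k, S = Spec A, and f : X ⟶ S a smooth morphism.
Then the map from sections of f to k-points of the closed fibre is surjective: every u₀ : Spec k ⟶ X
lying over the closed point extends to a section u of f. -/
theorem result (A : Type u) [CommRing A] [HenselianLocalRing A]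
    {X : Scheme.{u}} (f : X ⟶ Spec (CommRingCat.of A)) [Smooth f]
    (u₀ : Spec (CommRingCat.of (IsLocalRing.ResidueField A)) ⟶ X)
    (h₀ : u₀ ≫ f = Spec.map (CommRingCat.ofHom (IsLocalRing.residue A))) :
    ∃ u : Spec (CommRingCat.of A) ⟶ X, u ≫ f = 𝟙 _ ∧
      Spec.map (CommRingCat.ofHom (IsLocalRing.residue A)) ≫ u = u₀ := by
  set x : X := u₀ (closedPoint (ResidueField A)) with hx
  obtain ⟨_, ⟨U, hU, rfl⟩, hxU, -⟩ :=
    (X.isBasis_affineOpens).exists_subset_of_mem_open (Set.mem_univ x) isOpen_univ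
  have hrange : Set.range u₀ ⊆ Set.range hU.fromSpec := by
    rw [hU.range_fromSpec]
    rintro _ ⟨z, rfl⟩
    have : z = closedPoint (ResidueField A) := Subsingleton.elim _ _
    rw [this]; exact hxU
  let l : Spec (CommRingCat.of (ResidueField A)) ⟶ Spec Γ(X, U) :=
    IsOpenImmersion.lift hU.fromSpec u₀ hrange
  have hl : l ≫ hU.fromSpec = u₀ := IsOpenImmersion.lift_fac _ _ _
  obtain ⟨β, hβ⟩ := Spec.map_surjective l
  obtain ⟨α, hα⟩ := Spec.map_surjective (hU.fromSpec ≫ f)
  have hsm : Smooth (Spec.map α) := by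
    rw [hα]
    exact MorphismProperty.comp_mem _ _ _ inferInstance inferInstance
  have hαsm : α.hom.Smooth := (HasRingHomProperty.Spec_iff (P := @Smooth)).1 hsm
  have hαβ : α ≫ β = CommRingCat.ofHom (residue A) := by
    apply Spec.map_injective
    rw [Spec.map_comp, hβ, hα, ← Category.assoc, hl, h₀]
  algebraize [α.hom]
  let βa : Γ(X, U) →ₐ[A] ResidueField A :=
    { β.hom with
      commutes' := fun a => by
        have := congr($(hαβ).hom a)
        exact this }
  obtain ⟨s, hs⟩ := exists_algHom_of_smooth βa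
  have hsα : α ≫ CommRingCat.ofHom (s : Γ(X, U) →+* A) = 𝟙 _ := by
    ext a
    exact s.commutes a
  have hsβ : CommRingCat.ofHom (s : Γ(X, U) →+* A) ≫ CommRingCat.ofHom (residue A) = β := by
    ext b
    exact hs b
  refine ⟨Spec.map (CommRingCat.ofHom (s : Γ(X, U) →+* A)) ≫ hU.fromSpec, ?_, ?_⟩
  · rw [Category.assoc, ← hα, ← Spec.map_comp, hsα, Spec.map_id]
  · rw [← Category.assoc, ← Spec.map_comp, hsβ, hβ, hl]

end Groth.Agent.S5038
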