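import Groth.Statements.S5039
import Groth.Agent.H13.HensNagata
import Groth.Agent.S0567
-- import your own Groth.Agent.* helpers here

set_option autoImplicit false
universe u
open Hensel

namespace Groth.Agent.S5039

/-- Let R be a Noetherian local ring and S its henselization. Then S is universally Japanese if and only
if R is. -/
theorem result (R S : Type u) [CommRing R] [IsLocalRing R] [IsNoetherianRing R]
    [CommRing S] [IsLocalRing S] [Algebra R S] [IsLocalHom (algebraMap R S)] [Hensel.IsHenselization R S] :
    CAlg.IsUniversallyJapanese S ↔ CAlg.IsUniversallyJapanese R := by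
  have hSN : IsNoetherianRing S := (Groth.Agent.H14.HensProp.hens_basic R S).1
  constructor
  · intro hS
    have hS' : CAlg.IsNagata S := (Groth.Agent.S0567.result S).mpr ⟨hSN, hS⟩
    exact ((Groth.Agent.S0567.result R).mp
      (Groth.Agent.H13.HensNagata.isNagata_of_henselization R S hS')).2
  · intro hR
    have hR' : CAlg.IsNagata R := (Groth.Agent.S0567.result R).mpr ⟨inferInstance, hR⟩
    exact ((Groth.Agent.S0567.result S).mp
      (Groth.Agent.H13.HensNagata.isNagata_henselization R S hR')).2

end Groth.Agent.S5039
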