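import Mathlib
import Groth.Statements.S5040
import Groth.Agent.H72.HensFormal
import Groth.Agent.H14.HensProp.Small
import Groth.Agent.H3.HensDim
import Groth.Agent.H3.Henselization
-- import your own Groth.Agent.* helpers here

set_option autoImplicit false
universe u
open Hensel

namespace Groth.Agent.S5040

open IsLocalRing

/-- Let R be a Noetherian local ring with henselization S. If R is formally catenary (the completion of
R/p is equidimensional for every prime ideal p), then S is formally catenary. -/
theorem result (R S : Type u) [CommRing R] [IsLocalRing R] [IsNoetherianRing R]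
    [CommRing S] [IsLocalRing S] [Algebra R S] [IsLocalHom (algebraMap R S)] [Hensel.IsHenselization R S]
    (h : EGA4.IsFormallyCatenary R) : EGA4.IsFormallyCatenary S := by
  obtain ⟨hnoe, hflat, hmax⟩ := Groth.Agent.H14.HensProp.hens_basic R S
  have hP := Groth.Agent.H3.HensIso.isPairHenselization_of_isHenselization
      (inferInstance : Hensel.IsHenselization R S)
  have hH : HenselianLocalRing (R ⧸ maximalIdeal R) := by
    let _ := Ideal.Quotient.field (maximalIdeal R)
    exact Field.henselian _
  have hres : ∀ b : S, ∃ a : R, b - algebraMap R S a ∈ maximalIdeal S := by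
    intro b
    have hb := (Groth.Agent.H3.bijective_quotientMap_of_isHenselization R S (maximalIdeal R)).2
      (Ideal.Quotient.mk _ b)
    obtain ⟨y, hy⟩ := hb
    obtain ⟨a, rfl⟩ := Ideal.Quotient.mk_surjective y
    refine ⟨a, ?_⟩
    rw [Ideal.quotientMap_mk, Ideal.Quotient.eq, hmax] at hy
    have := (maximalIdeal S).neg_mem hy
    rwa [neg_sub] at this
  have hlt : ∀ (q q' : Ideal S), q.IsPrime → q'.IsPrime → q < q' →
      q.comap (algebraMap R S) < q'.comap (algebraMap R S) := by
    intro q q' hq hq' hqq'
    exact Groth.Agent.H3.HensDim.under_lt_under hP hqq'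
  exact Groth.Agent.H72.HensFormal.isFormallyCatenary_of_flat hmax hres hlt h

end Groth.Agent.S5040
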