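import Groth.Statements.S5047
import Groth.Agent.H25.EtaleDim

set_option autoImplicit false
open CategoryTheory AlgebraicGeometry
universe u
open Unram

namespace Groth.Agent.S5047

/-- Consider morphisms g : Y ⟶ S and h : X ⟶ S, both locally of finite presentation, where h is flat and
every local ring of every fibre of g is a normal domain (this holds, e.g., when g is smooth). Given
an S-morphism f : X ⟶ Y, the morphism f is an open immersion exactly when it is a monomorphism and,
at each point x of X, the local dimension at x of the h-fibre containing x coincides with the local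
dimension at f x of the g-fibre containing f x. -/
theorem result {X Y S : Scheme.{u}} (g : Y ⟶ S) (h : X ⟶ S)
    [LocallyOfFinitePresentation g] [LocallyOfFinitePresentation h] [Flat h]
    (hnorm : ∀ y : Y, IsDomain ((g.fiber (g.base y)).presheaf.stalk (g.asFiber y)) ∧
      IsIntegrallyClosed ((g.fiber (g.base y)).presheaf.stalk (g.asFiber y)))
    (f : X ⟶ Y) (w : f ≫ g = h) :
    IsOpenImmersion f ↔ (Mono f ∧ ∀ x : X, FlatMor.fibreDimAt h x = FlatMor.fibreDimAt g (f.base x)) := by
  constructor
  · intro hf
    haveI : Etale f := inferInstance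
    exact ⟨inferInstance, fun x => Groth.Agent.H25.EtaleDim.fibreDimAt_eq_of_etale' h w x⟩
  · rintro ⟨hmono, hdim⟩
    haveI : IsIso (CategoryTheory.Limits.pullback.diagonal f) := inferInstance
    haveI : IsOpenImmersion (CategoryTheory.Limits.pullback.diagonal f) := inferInstance
    haveI hunr : FormallyUnramified f := inferInstance
    have key : ∀ x : X, ∃ U : X.Opens, x ∈ U ∧ Etale (U.ι ≫ f) := by
      intro x
      refine (Groth.Agent.H25.EtaleDim.etale_nhd_iff h w x (Flat.stalkMap h x)
        (hnorm (f x)).1 (hnorm (f x)).2).mpr ⟨⟨⊤, trivial, ?_⟩, hdim x⟩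
      exact MorphismProperty.comp_mem _ _ _
        (inferInstanceAs (FormallyUnramified (⊤ : X.Opens).ι)) hunr
    choose U hxU hU using key
    haveI : Etale f := by
      refine IsZariskiLocalAtSource.of_iSup_eq_top (P := @Etale) U ?_ hU
      exact top_le_iff.mp fun x _ => TopologicalSpace.Opens.mem_iSup.mpr ⟨x, hxU x⟩
    exact IsOpenImmersion.of_flat_of_mono f

end Groth.Agent.S5047
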