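import Groth.Statements.S5048
import Groth.Agent.H25.FlatLQF

set_option autoImplicit false
open CategoryTheory AlgebraicGeometry
universe u
open Unram

namespace Groth.Agent.S5048
open Groth.Agent.H25 TopologicalSpace Topology

/-- Let Y be an irreducible scheme with generic point η and f : X ⟶ Y flat, locally of finite type and
locally quasi-finite. Then a point x of X maps to η if and only if its closure is an irreducible
component of X; thus the irreducible components of X are in canonical bijection with the fibre over
η. -/
theorem result {X Y : Scheme.{u}} [IrreducibleSpace ↥Y] (f : X ⟶ Y)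
    [Flat f] [LocallyOfFiniteType f] [LocallyQuasiFinite f] (x : X) :
    f.base x = genericPoint Y ↔ closure ({x} : Set ↥X) ∈ irreducibleComponents ↥X := by
  rw [closure_singleton_mem_irreducibleComponents_iff]
  constructor
  · intro hx x' hx'
    have h1 : f.base x' ⤳ genericPoint Y := hx ▸ hx'.map f.continuous
    have h2 : genericPoint Y ⤳ f.base x' := genericPoint_specializes _
    have h3 : f.base x' = genericPoint Y := (h1.antisymm h2).eq
    have hdisc := (f.isDiscrete_preimage_singleton (genericPoint Y)).to_subtype
    have h4 : (⟨x', h3⟩ : f.base ⁻¹' {genericPoint Y}) ⤳ ⟨x, hx⟩ := by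
      rw [subtype_specializes_iff]; exact hx'
    exact congrArg Subtype.val h4.eq
  · intro h
    obtain ⟨x', hx', hfx'⟩ := (Flat.generalizingMap f) (genericPoint_specializes (f.base x))
    rw [← h x' hx']
    exact hfx'

end Groth.Agent.S5048
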