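import Groth.Statements.S5049
import Groth.Agent.H25.FlatLQF

set_option autoImplicit false
open CategoryTheory AlgebraicGeometry
universe u
open Unram

namespace Groth.Agent.S5049
open Groth.Agent.H25 TopologicalSpace Topology

/-- Let f : X ⟶ Y be flat, locally of finite type and locally quasi-finite. If the irreducible
components of Y form a locally finite family of subsets, then so do the irreducible components of X. -/
theorem result {X Y : Scheme.{u}} (f : X ⟶ Y)
    [Flat f] [LocallyOfFiniteType f] [LocallyQuasiFinite f]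
    (hY : LocallyFinite (fun Z : ↥(irreducibleComponents ↥Y) => (Z : Set ↥Y))) :
    LocallyFinite (fun Z : ↥(irreducibleComponents ↥X) => (Z : Set ↥X)) := by
  intro x
  obtain ⟨t, ht, htfin⟩ := hY (f.base x)
  -- affine open nbhd of `f x` inside `t`
  obtain ⟨t', ht't, ht'o, hxt'⟩ := mem_nhds_iff.1 ht
  obtain ⟨_, ⟨V, hV, rfl⟩, hxV, hVt⟩ :=
    Y.isBasis_affineOpens.exists_subset_of_mem_open hxt' ht'o
  obtain ⟨_, ⟨U, hU, rfl⟩, hxU, hUV⟩ :=
    X.isBasis_affineOpens.exists_subset_of_mem_open hxV (V.2.preimage f.continuous)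
  refine ⟨U, U.2.mem_nhds hxU, ?_⟩
  -- generic points of the components of `Y` meeting `t`
  let G : Set Y := {η | closure {η} ∈ irreducibleComponents Y ∧ (closure {η} ∩ t).Nonempty}
  have hG : G.Finite := by
    refine Set.Finite.of_injOn (f := fun η => closure ({η} : Set Y))
      (t := (fun Z : ↥(irreducibleComponents ↥Y) => (Z : Set ↥Y)) ''
        {Z | ((Z : Set Y) ∩ t).Nonempty}) ?_ ?_ (htfin.image _)
    · intro η hη
      exact ⟨⟨_, hη.1⟩, hη.2, rfl⟩
    · intro η _ η' _ h
      exact (inseparable_iff_closure_eq.2 h).eq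
  have hT : (⋃ η ∈ G, ((U : Set X) ∩ f.base ⁻¹' {η})).Finite :=
    hG.biUnion fun η _ => finite_inter_preimage_singleton f U hU V hV hUV η
  -- generic point of each component
  have hgen : ∀ Z : ↥(irreducibleComponents ↥X), ∃ z : X, IsGenericPoint z (Z : Set X) := fun Z =>
    QuasiSober.sober Z.2.1 (isClosed_of_mem_irreducibleComponents _ Z.2)
  choose z hz using hgen
  refine Set.Finite.of_injOn (f := z) (t := ⋃ η ∈ G, ((U : Set X) ∩ f.base ⁻¹' {η})) ?_ ?_ hT
  · intro Z hZ
    obtain ⟨w, hwZ, hwU⟩ := hZ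
    have hzw : z Z ⤳ w := (hz Z).specializes hwZ
    have hzU : z Z ∈ U := hzw.mem_open U.2 hwU
    -- `z Z` is a maximal point, so is its image
    have hmax : ∀ x' : X, x' ⤳ z Z → x' = z Z := by
      rw [← closure_singleton_mem_irreducibleComponents_iff, (hz Z).def]
      exact Z.2
    have hmaxY : ∀ y' : Y, y' ⤳ f.base (z Z) → y' = f.base (z Z) := by
      intro y' hy'
      obtain ⟨x', hx', hfx'⟩ := (Flat.generalizingMap f) hy'
      rw [← hfx', hmax x' hx']
    refine Set.mem_iUnion₂.2 ⟨f.base (z Z), ⟨?_, ?_⟩, hzU, rfl⟩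
    · rwa [closure_singleton_mem_irreducibleComponents_iff]
    · exact ⟨f.base (z Z), subset_closure rfl, ht't (hVt (hUV hzU))⟩
  · intro Z _ Z' _ h
    apply Subtype.ext
    rw [← (hz Z).def, ← (hz Z').def, h]

end Groth.Agent.S5049
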