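import Groth.Statements.S5050
import Mathlib.RingTheory.Filtration

set_option autoImplicit false
universe u v
open CInt

namespace Groth.Agent.S5050

/-- Let A be a Noetherian ring, N a finitely generated A-module, E and F submodules of N and Q an ideal
of A. For every natural number k there is h > 0 with E ⊓ (F ⊔ Q^h N) ≤ (E ⊓ F) ⊔ Q^k N. -/
theorem result {A : Type u} [CommRing A] [IsNoetherianRing A] {N : Type v} [AddCommGroup N]
    [Module A N] [Module.Finite A N] (E F : Submodule A N) (Q : Ideal A) (k : ℕ) :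
    ∃ h : ℕ, 0 < h ∧ E ⊓ (F ⊔ Q ^ h • (⊤ : Submodule A N)) ≤ (E ⊓ F) ⊔ Q ^ k • (⊤ : Submodule A N) := by
  obtain ⟨c, hc⟩ := Ideal.exists_pow_inf_eq_pow_smul Q (E.map F.mkQ)
  refine ⟨k + c + 1, Nat.succ_pos _, ?_⟩
  rintro x ⟨hxE, hxFQ⟩
  obtain ⟨f, hf, z, hz, rfl⟩ := Submodule.mem_sup.1 hxFQ
  -- image in the quotient
  have h1 : F.mkQ (f + z) ∈ Q ^ (k + c + 1) • (⊤ : Submodule A (N ⧸ F)) := by
    have hz' : F.mkQ z ∈ (Q ^ (k + c + 1) • (⊤ : Submodule A N)).map F.mkQ :=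
      Submodule.mem_map_of_mem hz
    rw [Submodule.map_smul''] at hz'
    have hfz : F.mkQ (f + z) = F.mkQ z := by
      rw [map_add]
      have : F.mkQ f = 0 := by
        rw [Submodule.mkQ_apply]; exact (Submodule.Quotient.mk_eq_zero F).2 hf
      rw [this, zero_add]
    rw [hfz]
    exact Submodule.smul_mono le_rfl le_top hz'
  have h2 : F.mkQ (f + z) ∈ E.map F.mkQ := Submodule.mem_map_of_mem hxE
  have h3 : F.mkQ (f + z) ∈ Q ^ (k + c + 1) • (⊤ : Submodule A (N ⧸ F)) ⊓ E.map F.mkQ := ⟨h1, h2⟩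
  rw [hc (k + c + 1) (by omega)] at h3
  have h4 : Q ^ (k + c + 1 - c) • (Q ^ c • (⊤ : Submodule A (N ⧸ F)) ⊓ E.map F.mkQ) ≤
      Q ^ k • E.map F.mkQ := by
    refine (Submodule.smul_mono le_rfl inf_le_right).trans ?_
    exact Submodule.smul_mono_left (Ideal.pow_le_pow_right (by omega))
  have h5 := h4 h3
  rw [← Submodule.map_smul''] at h5
  obtain ⟨y, hy, hyx⟩ := h5
  have hyE : y ∈ E := Submodule.smul_le_right hy
  have hdiff : f + z - y ∈ F := by
    rw [← Submodule.Quotient.mk_eq_zero F, Submodule.Quotient.mk_sub]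
    have : F.mkQ y = F.mkQ (f + z) := hyx
    simp only [Submodule.mkQ_apply] at this
    rw [this, sub_self]
  have e : f + z = (f + z - y) + y := by abel
  rw [e]
  refine Submodule.add_mem_sup ⟨E.sub_mem hxE hyE, hdiff⟩ ?_
  exact Submodule.smul_mono le_rfl le_top hy

end Groth.Agent.S5050
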