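import Groth.Statements.S5057
import Mathlib.AlgebraicGeometry.PullbackCarrier
import Mathlib.AlgebraicGeometry.IdealSheaf.Subscheme

set_option autoImplicit false
open CategoryTheory CategoryTheory.Limits AlgebraicGeometry
universe u
open Hensel

namespace Groth.Agent.S5057

/-- Let i : S₀ ⟶ S be a closed immersion such that for every finite morphism g : S' ⟶ S every
open-closed subset of S' ×_S S₀ is the inverse image under the first projection of exactly one
open-closed subset of S'. Then for every finite morphism g : S' ⟶ S, every open subset of S'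
containing the image of S' ×_S S₀ is all of S'. -/
theorem result {S S₀ : Scheme.{u}} (i : S₀ ⟶ S) [IsClosedImmersion i]
    (ha : ∀ (S' : Scheme.{u}) (g : S' ⟶ S), IsFinite g →
      ∀ V : Set ↥(pullback g i), IsClopen V → ∃! U : Set ↥S', IsClopen U ∧ (pullback.fst g i).base ⁻¹' U = V)
    {S' : Scheme.{u}} (g : S' ⟶ S) [IsFinite g] (U : Set ↥S') (hU : IsOpen U)
    (hU₀ : Set.range (pullback.fst g i).base ⊆ U) : U = Set.univ := by
  set Zc : TopologicalSpace.Closeds ↥S' := ⟨Uᶜ, hU.isClosed_compl⟩ with hZc
  set j := (Scheme.IdealSheafData.vanishingIdeal Zc).subschemeι with hj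
  have hrange : Set.range j.base = Uᶜ := by
    rw [hj, Scheme.IdealSheafData.range_subschemeι, Scheme.IdealSheafData.coe_support_vanishingIdeal]
    rfl
  have hfin : IsFinite (j ≫ g) := inferInstance
  have hempty : IsEmpty ↥(pullback (j ≫ g) i) := by
    refine ⟨fun p => ?_⟩
    have hcond : g.base (j.base ((pullback.fst (j ≫ g) i).base p)) =
        i.base ((pullback.snd (j ≫ g) i).base p) := by
      have h0 := congrArg (fun φ : pullback (j ≫ g) i ⟶ S => φ.base p)
        (pullback.condition (f := j ≫ g) (g := i))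
      simpa using h0
    obtain ⟨q, hq, -⟩ := Scheme.Pullback.exists_preimage_pullback (f := g) (g := i) _ _ hcond
    have h1 : j.base ((pullback.fst (j ≫ g) i).base p) ∈ U := hU₀ ⟨q, hq⟩
    have h2 : j.base ((pullback.fst (j ≫ g) i).base p) ∈ Uᶜ := by
      rw [← hrange]; exact ⟨_, rfl⟩
    exact h2 h1
  obtain ⟨U', -, huniq⟩ := ha _ (j ≫ g) hfin ∅ isClopen_empty
  have e1 : (∅ : Set ↥(Scheme.IdealSheafData.vanishingIdeal Zc).subscheme) = U' :=
    huniq ∅ ⟨isClopen_empty, Set.preimage_empty⟩
  have e2 : (Set.univ : Set ↥(Scheme.IdealSheafData.vanishingIdeal Zc).subscheme) = U' :=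
    huniq Set.univ ⟨isClopen_univ, Set.eq_empty_of_isEmpty _⟩
  have hZempty : IsEmpty ↥(Scheme.IdealSheafData.vanishingIdeal Zc).subscheme := by
    refine ⟨fun z => ?_⟩
    have : z ∈ (Set.univ : Set _) := trivial
    rw [e2, ← e1] at this
    exact this
  have : Uᶜ = ∅ := by
    rw [← hrange]
    exact Set.range_eq_empty _
  rwa [Set.compl_empty_iff] at this

end Groth.Agent.S5057
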