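import Groth.Statements.S5066
import Groth.Agent.H3.EtaleLiftUnique
import Groth.Agent.H3.EtaleLiftConv

set_option autoImplicit false
universe u
open Hensel

namespace Groth.Agent.S5066

/-- Case of a local ring, affine étale schemes: a local ring A with maximal ideal m is henselian if and
only if, for every finite A-algebra C and every étale A-algebra E, composing with the projection C →
C/mC is a bijection from the set of A-algebra homomorphisms E → C onto the set of A-algebra
homomorphisms E → C/mC. -/
theorem result (A : Type u) [CommRing A] [IsLocalRing A] :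
    HenselianLocalRing A ↔
      ∀ (C : Type u) [CommRing C] [Algebra A C] [Module.Finite A C] (E : Type u) [CommRing E] [Algebra A E] [Algebra.Etale A E],
        Function.Bijective (fun φ : E →ₐ[A] C =>
          (Ideal.Quotient.mkₐ A (Ideal.map (algebraMap A C) (IsLocalRing.maximalIdeal A))).comp φ) := by
  constructor
  · intro hA C _ _ _ E _ _ _
    have hI : Algebra.IsIntegral A C := Algebra.IsIntegral.of_finite A C
    have hpair : HenselianRing A (IsLocalRing.maximalIdeal A) := inferInstance
    constructor
    · intro φ φ' hφφ'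
      obtain ⟨ψ, -, hψ⟩ := Groth.Agent.H3.EtaleLift.existsUnique_lift_of_etale_of_isIntegral
        hpair C ((Ideal.Quotient.mkₐ A (Ideal.map (algebraMap A C)
          (IsLocalRing.maximalIdeal A))).comp φ)
      have h1 := hψ φ (fun x => rfl)
      have h2 := hψ φ' (fun x => by
        have := congrArg (fun g : E →ₐ[A] C ⧸ Ideal.map (algebraMap A C)
          (IsLocalRing.maximalIdeal A) => g x) hφφ'
        exact this.symm)
      rw [h1, h2]
    · intro σ₀
      obtain ⟨φ, hφ, -⟩ := Groth.Agent.H3.EtaleLift.existsUnique_lift_of_etale_of_isIntegral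
        hpair C σ₀
      exact ⟨φ, AlgHom.ext hφ⟩
  · intro H
    have hmap : Ideal.map (algebraMap A A) (IsLocalRing.maximalIdeal A) =
        IsLocalRing.maximalIdeal A := Ideal.map_id _
    have hpair : HenselianRing A (IsLocalRing.maximalIdeal A) := by
      apply Groth.Agent.H3.EtaleLift.henselianRing_of_etale_lift
      intro A' _ _ _ σ
      let θ := Ideal.quotientEquivAlgOfEq A hmap
      obtain ⟨τ, hτ⟩ := (H A A').2 ((θ.symm.toAlgHom).comp σ)
      refine ⟨τ, ?_⟩
      apply AlgHom.ext
      intro x
      have h1 := congrArg (fun g : A' →ₐ[A] A ⧸ Ideal.map (algebraMap A A)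
        (IsLocalRing.maximalIdeal A) => θ (g x)) hτ
      simp only [AlgHom.comp_apply, AlgEquiv.toAlgHom_eq_coe, AlgHom.coe_coe] at h1
      have h2 : θ ((θ.symm : _ →ₐ[A] _) (σ x)) = σ x := θ.apply_symm_apply (σ x)
      rw [h2] at h1
      rw [← h1]
      rfl
    constructor
    intro f hf a₀ h₁ h₂
    exact hpair.is_henselian f hf a₀ h₁ (h₂.map _)

end Groth.Agent.S5066
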