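import Groth.Statements.S5067
import Groth.Agent.H25.PullbackPoint
import Groth.Agent.S4997
import Mathlib.AlgebraicGeometry.Morphisms.FlatMono
import Mathlib.AlgebraicGeometry.Morphisms.FormallyUnramified
import Mathlib.AlgebraicGeometry.Morphisms.UniversallyOpen

set_option autoImplicit false
open CategoryTheory AlgebraicGeometry
universe u
open Unram

namespace Groth.Agent.S5067
open CategoryTheory.Limits TopologicalSpace

/-- Let f : X ⟶ Y be an étale separated morphism of integral schemes which maps the generic point of X
to the generic point of Y and induces a bijection between the residue fields of the generic points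
(f is birational). Then f is an open immersion. -/
theorem result {X Y : Scheme.{u}} [IsIntegral X] [IsIntegral Y]
    (f : X ⟶ Y) [Etale f] [IsSeparated f] (hgen : f.base (genericPoint X) = genericPoint Y)
    (hbir : Function.Bijective (f.residueFieldMap (genericPoint X)).hom) : IsOpenImmersion f := by
  have hLQF : LocallyQuasiFinite f := ((Groth.Agent.S4997.result f).1 inferInstance).2
  suffices Mono f from IsOpenImmersion.of_flat_of_mono f
  rw [← pullback.isIso_diagonal_iff]
  suffices hsurj : Function.Surjective (pullback.diagonal f).base by
    have : Epi (pullback.diagonal f).base := (TopCat.epi_iff_surjective _).2 hsurj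
    exact IsOpenImmersion.isIso _
  by_contra hns
  set R : Set ↑(pullback f f) := Set.range (pullback.diagonal f).base with hR
  have hRc : IsClosed R := (pullback.diagonal f).isClosedEmbedding.isClosed_range
  have hW : (Rᶜ).Nonempty := by
    rw [Set.nonempty_compl]
    intro h
    exact hns (Set.range_eq_univ.1 h)
  have h1 : IsOpen ((pullback.fst f f).base '' Rᶜ) :=
    (pullback.fst f f).isOpenMap _ hRc.isOpen_compl
  have h2 : genericPoint X ∈ (pullback.fst f f).base '' Rᶜ := by
    rw [(genericPoint_spec X).mem_open_set_iff h1, Set.univ_inter]
    exact hW.image _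
  obtain ⟨w, hwR, hw1⟩ := h2
  -- second projection
  have hx2 : f.base ((pullback.snd f f).base w) = f.base (genericPoint X) := by
    rw [← hw1]
    have := congrArg (fun φ => φ.base w) (pullback.condition (f := f) (g := f))
    simpa using this.symm
  have hx2' : (pullback.snd f f).base w = genericPoint X := by
    have hd := f.isDiscrete_preimage_singleton (f.base (genericPoint X))
    have hsp : genericPoint X ⤳ (pullback.snd f f).base w := genericPoint_specializes _
    have hdt : DiscreteTopology ↥(f.base ⁻¹' {f.base (genericPoint X)}) := hd.to_subtype
    let a : ↥(f.base ⁻¹' {f.base (genericPoint X)}) := ⟨genericPoint X, rfl⟩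
    let b : ↥(f.base ⁻¹' {f.base (genericPoint X)}) := ⟨(pullback.snd f f).base w, hx2⟩
    have hab : a ⤳ b := (subtype_specializes_iff a b).2 hsp
    have := hab.eq
    exact (congrArg Subtype.val this).symm
  apply hwR
  refine ⟨genericPoint X, ?_⟩
  have hiso : IsIso (f.residueFieldMap (genericPoint X)) := by
    rw [ConcreteCategory.isIso_iff_bijective]
    exact hbir
  have hΔ1 : (pullback.fst f f).base ((pullback.diagonal f).base (genericPoint X)) = genericPoint X := by
    rw [← Scheme.Hom.comp_apply, pullback.diagonal_fst]; rfl
  have hΔ2 : (pullback.snd f f).base ((pullback.diagonal f).base (genericPoint X)) = genericPoint X := by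
    rw [← Scheme.Hom.comp_apply, pullback.diagonal_snd]; rfl
  have hiso' : IsIso (f.residueFieldMap ((pullback.snd f f).base w)) := by
    rw [hx2']; exact hiso
  exact Groth.Agent.H25.eq_of_fst_eq_of_snd_eq _ w (hΔ1.trans hw1.symm) (hΔ2.trans hx2'.symm)


end Groth.Agent.S5067
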