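import Groth.Statements.S5071
import Groth.Agent.H25.TransReg

set_option autoImplicit false
universe u
open CInt

namespace Groth.Agent.S5071
open Groth.Agent.H25 Groth.Agent.H25.TransReg Groth.Agent.H19

/-- Let B be an A-algebra and J an ideal of B generated by a sequence which is transversally regular
relative to A. Then for n < m the module J^n/J^m is flat over A, and for every prime q of B
containing J the localisation (J^n)_q is flat over A (modules regarded as A-modules by restriction
of scalars). -/
theorem result (A B : Type u) [CommRing A] [CommRing B] [Algebra A B]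
    (rs : List B) (hrs : RegImm.IsTransRegularSeq A B rs) (n m : ℕ) (hnm : n < m) :
    Module.Flat A (RestrictScalars A B
      (↥(Ideal.ofList rs ^ n) ⧸ (Submodule.comap (Ideal.ofList rs ^ n).subtype (Ideal.ofList rs ^ m)))) ∧
      ∀ (q : Ideal B) [q.IsPrime], Ideal.ofList rs ≤ q →
        Module.Flat A (RestrictScalars A B (LocalizedModule q.primeCompl ↥(Ideal.ofList rs ^ n))) := by
  obtain ⟨hreg, hfl⟩ := hrs
  have hJ : Ideal.ofList rs = QReg.J rs.get := by
    rw [← QReg.ofList_ofFn, List.ofFn_get]
  have hqr : QReg.QR rs.get :=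
    QReg.isQuasiRegular_of_isWeaklyRegular rs.get (by rw [List.ofFn_get]; exact hreg)
  have hflJ : Module.Flat A (B ⧸ QReg.J rs.get) := by
    have := hfl rs.length le_rfl
    rwa [List.take_length, hJ] at this
  have hB : Module.Flat A B := by
    have h0 := hfl 0 (Nat.zero_le _)
    have h1 : Ideal.ofList (rs.take 0) = ⊥ := by simp [Ideal.ofList]
    rw [h1] at h0
    exact Module.Flat.of_linearEquiv
      ((Submodule.quotEquivOfEqBot (⊥ : Ideal B) rfl).symm.restrictScalars A)
  have hgr : ∀ k, Module.Flat A (Gr (Ideal.ofList rs) k (k + 1)) := by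
    rw [hJ]
    exact fun k => flat_gr rs.get hqr hflJ k
  refine ⟨FlatExt.flat_restrictScalars_iff.mpr (flat_gr_of_lt _ hgr hnm.le), fun q _ _ => ?_⟩
  exact FlatExt.flat_restrictScalars_localizedModule _ (flat_pow _ hB hgr n)

end Groth.Agent.S5071
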