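import Groth.Statements.S5073
import Mathlib.RingTheory.Ideal.MinimalPrime.Noetherian
import Mathlib.RingTheory.Ideal.Operations

set_option autoImplicit false
universe u
open EGA418

namespace Groth.Agent.S5073

/-- Let A be a Noetherian local ring, p a prime ideal and x an element of A. Then there is an element x'
of A whose image in A_p equals that of x and which belongs to no minimal prime ideal of A not
contained in p. -/
theorem result (A : Type u) [CommRing A] [IsNoetherianRing A] [IsLocalRing A]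
    (p : Ideal A) [p.IsPrime] (x : A) :
    ∃ x' : A, algebraMap A (Localization.AtPrime p) x' = algebraMap A (Localization.AtPrime p) x ∧
      ∀ q ∈ minimalPrimes A, ¬ q ≤ p → x' ∉ q := by
  classical
  set I : Ideal A := RingHom.ker (algebraMap A (Localization.AtPrime p)) with hI
  have hImem : ∀ a : A, a ∈ I ↔ ∃ s ∈ p.primeCompl, s * a = 0 := by
    intro a
    rw [hI, RingHom.mem_ker, IsLocalization.map_eq_zero_iff p.primeCompl]
    constructor
    · rintro ⟨m, hm⟩; exact ⟨m.1, m.2, hm⟩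
    · rintro ⟨s, hs, h⟩; exact ⟨⟨s, hs⟩, h⟩
  -- step 1
  have step1 : ∀ q ∈ minimalPrimes A, ¬ q ≤ p → ¬ I ≤ q := by
    intro q hq hqp hIq
    have hqprime : q.IsPrime := hq.1.1
    by_cases h0 : (0 : A) ∈ p.primeCompl ⊔ q.primeCompl
    · obtain ⟨s, hs, t, ht, hst⟩ := Submonoid.mem_sup.1 h0
      have : t ∈ I := (hImem t).2 ⟨s, hs, hst⟩
      exact ht (hIq this)
    · have hdisj : Disjoint ((⊥ : Ideal A) : Set A) (p.primeCompl ⊔ q.primeCompl : Submonoid A) := by
        rw [Set.disjoint_left]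
        intro a ha ha'
        rw [SetLike.mem_coe, Ideal.mem_bot] at ha
        subst ha
        exact h0 ha'
      obtain ⟨P, hP, -, hPd⟩ := Ideal.exists_le_prime_disjoint (⊥ : Ideal A) _ hdisj
      have hPq : P ≤ q := by
        intro a ha
        by_contra haq
        exact Set.disjoint_left.1 hPd ha (Submonoid.mem_sup_right (show a ∈ q.primeCompl from haq))
      have hPp : P ≤ p := by
        intro a ha
        by_contra hap
        exact Set.disjoint_left.1 hPd ha (Submonoid.mem_sup_left (show a ∈ p.primeCompl from hap))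
      have hqP : q ≤ P := hq.2 ⟨hP, bot_le⟩ hPq
      exact hqp (hqP.trans hPp)
  -- the finite set of minimal primes not contained in p
  set S : Finset (Ideal A) :=
    (minimalPrimes.finite_of_isNoetherianRing A).toFinset.filter (fun q => ¬ q ≤ p) with hS
  have hSmem : ∀ q, q ∈ S ↔ q ∈ minimalPrimes A ∧ ¬ q ≤ p := by
    intro q; simp [hS]
  set S₁ := S.filter (fun q => x ∈ q) with hS₁
  set S₂ := S.filter (fun q => x ∉ q) with hS₂
  set J : Ideal A := I * ∏ q ∈ S₂, q with hJ
  have hJ1 : ¬ ((J : Set A) ⊆ ⋃ q ∈ (↑S₁ : Set (Ideal A)), (id q : Ideal A)) := by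
    rw [Ideal.subset_union_prime (⊥ : Ideal A) ⊥ (fun q hq _ _ => by
      have := (hSmem q).1 (Finset.mem_filter.1 hq).1
      exact this.1.1.1)]
    rintro ⟨q, hq, hJq⟩
    have hqS : q ∈ S := (Finset.mem_filter.1 hq).1
    have hxq : x ∈ q := (Finset.mem_filter.1 hq).2
    have hqmin := ((hSmem q).1 hqS).1
    have hqprime : q.IsPrime := hqmin.1.1
    rcases (Ideal.IsPrime.mul_le hqprime).1 hJq with h | h
    · exact step1 q hqmin ((hSmem q).1 hqS).2 h
    · obtain ⟨q', hq', hq'q⟩ := (Ideal.IsPrime.prod_le hqprime).1 h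
      have hq'S : q' ∈ S := (Finset.mem_filter.1 hq').1
      have hxq' : x ∉ q' := (Finset.mem_filter.1 hq').2
      have hq'min := ((hSmem q').1 hq'S).1
      have : q ≤ q' := hqmin.2 ⟨hq'min.1.1, bot_le⟩ hq'q
      exact hxq' (this hxq)
  rw [Set.not_subset] at hJ1
  obtain ⟨y, hyJ, hy⟩ := hJ1
  have hJI : J ≤ I := Ideal.mul_le_left
  have hJP : J ≤ ∏ q ∈ S₂, q := Ideal.mul_le_right
  have hyI : y ∈ I := hJI hyJ
  have hyS₂ : ∀ q ∈ S₂, y ∈ q := by
    intro q hq
    have h1 : y ∈ ∏ q ∈ S₂, q := hJP hyJ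
    have h2 : (∏ q ∈ S₂, q) ≤ q := by
      have h3 : (∏ q ∈ S₂, q) ≤ S₂.inf id := Ideal.prod_le_inf
      have h4 : S₂.inf id ≤ id q := Finset.inf_le hq
      exact h3.trans h4
    exact h2 h1
  refine ⟨x + y, ?_, ?_⟩
  · rw [map_add, (RingHom.mem_ker).1 hyI, add_zero]
  · intro q hq hqp hxy
    have hqS : q ∈ S := (hSmem q).2 ⟨hq, hqp⟩
    by_cases hxq : x ∈ q
    · have hq1 : q ∈ S₁ := Finset.mem_filter.2 ⟨hqS, hxq⟩
      have hyq : y ∈ q := by
        have := q.sub_mem hxy hxq
        simpa using this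
      apply hy
      simp only [Set.mem_iUnion, Finset.mem_coe, id]
      exact ⟨q, hq1, hyq⟩
    · have hq2 : q ∈ S₂ := Finset.mem_filter.2 ⟨hqS, hxq⟩
      have hyq : y ∈ q := hyS₂ q hq2
      have := q.sub_mem hxy hyq
      rw [add_sub_cancel_right] at this
      exact hxq this

end Groth.Agent.S5073
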