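import Groth.Statements.S5076
import Mathlib.RingTheory.Unramified.LocalRing

set_option autoImplicit false
universe u
open Unram

namespace Groth.Agent.S5076

/-- Let A be a local ring with maximal ideal m, C a finite A-algebra, r a maximal ideal of C, and u an
element of C which lies in every maximal ideal of C other than r, does not lie in r, and whose image
generates C_r modulo m C_r as an A-algebra. Let B = A[u] be the A-subalgebra of C generated by u and
n the inverse image of r in B. Then the canonical homomorphism B_n → C_r is bijective. -/
theorem result (A C : Type u) [CommRing A] [IsLocalRing A]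
    [CommRing C] [Algebra A C] [Module.Finite A C] (r : Ideal C) [r.IsMaximal] (u : C)
    (hu₁ : ∀ r' : Ideal C, r'.IsMaximal → r' ≠ r → u ∈ r') (hu₂ : u ∉ r)
    (hu₃ : Subalgebra.toSubmodule (Algebra.adjoin A {algebraMap C (Localization.AtPrime r) u}) ⊔
        Submodule.restrictScalars A (Ideal.map (algebraMap A (Localization.AtPrime r)) (IsLocalRing.maximalIdeal A)) = ⊤) :
    Function.Bijective (Localization.localRingHom (Ideal.comap (Algebra.adjoin A ({u} : Set C)).val.toRingHom r) r
      (Algebra.adjoin A ({u} : Set C)).val.toRingHom rfl) := by
  classical
  set B := Algebra.adjoin A ({u} : Set C) with hB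
  have hfin : Module.Finite B C := Module.Finite.of_restrictScalars_finite A B C
  have hint : Algebra.IsIntegral B C := inferInstance
  have hfaith : FaithfulSMul B C :=
    (faithfulSMul_iff_algebraMap_injective B C).2 Subtype.val_injective
  have hLO : r.LiesOver (Ideal.comap B.val.toRingHom r) := ⟨rfl⟩
  have hnmax : (Ideal.comap B.val.toRingHom r).IsMaximal :=
    Ideal.isMaximal_comap_of_isIntegral_of_isMaximal (R := B) r
  have huB : u ∈ B := Algebra.subset_adjoin (Set.mem_singleton u)
  have hq : (Ideal.comap B.val.toRingHom r).primesOver C = {r} := by
    ext P
    constructor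
    · rintro ⟨hPprime, hPover⟩
      have hPcomap : Ideal.comap (algebraMap B C) P = Ideal.comap B.val.toRingHom r :=
        hPover.over.symm
      have hPmax : P.IsMaximal := by
        have : (Ideal.comap (algebraMap B C) P).IsMaximal := hPcomap ▸ hnmax
        exact Ideal.isMaximal_of_isIntegral_of_isMaximal_comap P this
      by_contra hne
      have huP : u ∈ P := hu₁ P hPmax hne
      have : (⟨u, huB⟩ : B) ∈ Ideal.comap (algebraMap B C) P := huP
      rw [hPcomap] at this
      exact hu₂ this
    · rintro rfl
      exact ⟨inferInstance, hLO⟩
  constructor
  · exact Localization.localRingHom_injective_of_primesOver_eq_singleton hq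
  · let := Localization.AtPrime.algebraOfLiesOver (Ideal.comap B.val.toRingHom r) r
    have hfinloc : Module.Finite (Localization.AtPrime (Ideal.comap B.val.toRingHom r))
        (Localization.AtPrime r) := Localization.finite_of_primesOver_eq_singleton hq
    change Function.Surjective (algebraMap (Localization.AtPrime (Ideal.comap B.val.toRingHom r))
      (Localization.AtPrime r))
    change Function.Surjective (Algebra.linearMap _ _)
    rw [← LinearMap.range_eq_top, ← top_le_iff]
    apply Submodule.le_of_le_smul_of_le_jacobson_bot Module.Finite.fg_top
      (IsLocalRing.maximalIdeal_le_jacobson _)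
    rw [Ideal.smul_top_eq_map]
    rintro x -
    have hx : x ∈ (⊤ : Submodule A (Localization.AtPrime r)) := trivial
    rw [← hu₃] at hx
    obtain ⟨a, ha, b, hb, rfl⟩ := Submodule.mem_sup.1 hx
    have hmapeq : algebraMap (Localization.AtPrime (Ideal.comap B.val.toRingHom r))
        (Localization.AtPrime r) =
        Localization.localRingHom (Ideal.comap B.val.toRingHom r) r (algebraMap B C)
          Ideal.LiesOver.over :=
      Localization.AtPrime.IsLiesOverAlgebra.algebraMap_eq
    refine Submodule.add_mem _ (Submodule.mem_sup_left ?_) (Submodule.mem_sup_right ?_)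
    · have hle : Algebra.adjoin A {algebraMap C (Localization.AtPrime r) u} ≤
          (IsScalarTower.toAlgHom A (Localization.AtPrime (Ideal.comap B.val.toRingHom r))
            (Localization.AtPrime r)).range := by
        refine Algebra.adjoin_le ?_
        rintro _ rfl
        refine ⟨algebraMap B _ ⟨u, huB⟩, ?_⟩
        change algebraMap (Localization.AtPrime (Ideal.comap B.val.toRingHom r))
          (Localization.AtPrime r) (algebraMap B _ ⟨u, huB⟩) = _
        rw [hmapeq, Localization.localRingHom_to_map]
        rfl
      obtain ⟨y, hy⟩ := hle ha
      exact ⟨y, hy⟩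
    · have hmA : Ideal.comap (algebraMap A C) r = IsLocalRing.maximalIdeal A :=
        IsLocalRing.eq_maximalIdeal (Ideal.isMaximal_comap_of_isIntegral_of_isMaximal (R := A) r)
      have hle : Ideal.map (algebraMap A (Localization.AtPrime r)) (IsLocalRing.maximalIdeal A) ≤
          Ideal.map (algebraMap (Localization.AtPrime (Ideal.comap B.val.toRingHom r))
            (Localization.AtPrime r))
            (IsLocalRing.maximalIdeal (Localization.AtPrime (Ideal.comap B.val.toRingHom r))) := by
        rw [Ideal.map_le_iff_le_comap]
        intro a0 ha0
        rw [Ideal.mem_comap, IsScalarTower.algebraMap_apply A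
          (Localization.AtPrime (Ideal.comap B.val.toRingHom r)) (Localization.AtPrime r)]
        refine Ideal.mem_map_of_mem _ ?_
        rw [IsScalarTower.algebraMap_apply A B
          (Localization.AtPrime (Ideal.comap B.val.toRingHom r)),
          IsLocalization.AtPrime.to_map_mem_maximal_iff _ (Ideal.comap B.val.toRingHom r)]
        rw [← hmA] at ha0
        exact ha0
      exact hle hb

end Groth.Agent.S5076
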