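import Groth.Statements.S5081
import Groth.Agent.H26.Monogenic

set_option autoImplicit false
universe u
open Unram

namespace Groth.Agent.S5081

/-- Let B be a finite A-algebra generated by a single element u and F a polynomial with coefficients in
A such that F(u) = 0. Then the ideal generated by F'(u) is contained in the annihilator of the
module of differentials of B over A, and equals it when the kernel of the surjection A[T] → B
sending T to u is generated by F. -/
theorem result (A B : Type u) [CommRing A] [CommRing B] [Algebra A B]
    [Module.Finite A B] (u : B) (hu : Algebra.adjoin A ({u} : Set B) = ⊤) (F : Polynomial A) (hF : Polynomial.aeval u F = 0) :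
    Ideal.span {Polynomial.aeval u (Polynomial.derivative F)} ≤ Module.annihilator B (KaehlerDifferential A B) ∧
      (RingHom.ker (Polynomial.aeval u : Polynomial A →ₐ[A] B) = Ideal.span {F} →
        Module.annihilator B (KaehlerDifferential A B) = Ideal.span {Polynomial.aeval u (Polynomial.derivative F)}) := by
  rw [Groth.Agent.H26.annihilator_kaehler_eq_derivIdeal u hu]
  have h1 : Ideal.span {Polynomial.aeval u (Polynomial.derivative F)} ≤
      Groth.Agent.H26.derivIdeal u hu := by
    rw [Ideal.span_singleton_le_iff_mem]
    exact ⟨F, hF, rfl⟩
  refine ⟨h1, fun hker => le_antisymm ?_ h1⟩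
  rintro _ ⟨P, hP, rfl⟩
  have hP' : P ∈ RingHom.ker (Polynomial.aeval u : Polynomial A →ₐ[A] B) := hP
  rw [hker, Ideal.mem_span_singleton] at hP'
  obtain ⟨Q, rfl⟩ := hP'
  rw [Ideal.mem_span_singleton]
  refine ⟨Polynomial.aeval u Q, ?_⟩
  simp [Polynomial.derivative_mul, hF]

end Groth.Agent.S5081
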