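import Groth.Statements.S5084
import Groth.Agent.H8.StructAss
import Groth.Agent.H8.MeroK
import Groth.Prelude.Def_MeroDiv

set_option autoImplicit false
universe u
open CategoryTheory CategoryTheory.Limits AlgebraicGeometry TopologicalSpace
open Mero

namespace Groth.Agent.S5084

/-- In a Noetherian local ring whose maximal ideal is not an associated prime, the maximal ideal
contains a nonzerodivisor. -/
lemma exists_nonZeroDivisor_mem_maximalIdeal {R : Type*} [CommRing R] [IsLocalRing R]
    [IsNoetherianRing R] (h : ¬ IsAssociatedPrime (IsLocalRing.maximalIdeal R) R) :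
    ∃ g ∈ IsLocalRing.maximalIdeal R, g ∈ nonZeroDivisors R := by
  classical
  by_contra hcon
  push Not at hcon
  have hfin : (associatedPrimes R R).Finite := associatedPrimes.finite R R
  have hsub : (IsLocalRing.maximalIdeal R : Set R) ⊆ ⋃ p ∈ (hfin.toFinset : Set (Ideal R)), p := by
    intro g hg
    have h1 : g ∈ (nonZeroDivisors R : Set R)ᶜ := hcon g hg
    rw [← biUnion_associatedPrimes_eq_compl_nonZeroDivisors] at h1
    simpa using h1
  have hprime : ∀ i ∈ hfin.toFinset, i ≠ ⊥ → i ≠ ⊥ → (id i : Ideal R).IsPrime := by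
    intro i hi _ _
    exact ((Set.Finite.mem_toFinset hfin).mp hi).isPrime
  obtain ⟨p, hpS, hp⟩ := (Ideal.subset_union_prime (f := id) ⊥ ⊥ hprime).mp hsub
  have hp' : p ∈ associatedPrimes R R := (Set.Finite.mem_toFinset hfin).mp hpS
  have hpp : p.IsPrime := hp'.isPrime
  have : p = IsLocalRing.maximalIdeal R :=
    ((IsLocalRing.maximalIdeal.isMaximal R).eq_of_le hpp.ne_top hp).symm
  exact h (this ▸ hp')

lemma app_injective_of_mono {X : Scheme.{u}} {F G : X.Modules} (φ : F ⟶ G) [Mono φ]
    (U : X.Opens) : Function.Injective (φ.app U) := by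
  let H : X.Modules ⥤ Ab.{u} := Scheme.Modules.toPresheaf X ⋙
    (evaluation (Opens ↥X)ᵒᵖ Ab.{u}).obj (Opposite.op U)
  have h1 : PreservesLimitsOfSize.{u, u} ((evaluation (Opens ↥X)ᵒᵖ Ab.{u}).obj (Opposite.op U)) :=
    inferInstance
  have hlim : PreservesLimitsOfSize.{u, u} H := comp_preservesLimits _ _
  have hmono : Mono (H.map φ) := inferInstance
  exact (AddCommGrpCat.mono_iff_injective (H.map φ)).mp hmono

lemma toMer_app_apply {X : Scheme.{u}} (F : X.Modules) (U : X.Opens) (m : Γ(F, U)) :
    (toMer F).app U m = toMerFun F U m := rfl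



set_option backward.isDefEq.respectTransparency false in
/-- Let X be a locally Noetherian scheme and F a quasi-coherent O_X-module. Then F is torsion-free — the
canonical map from F to its sheaf of meromorphic sections K_X(F), m ↦ m/1, is a monomorphism, i.e.
at every point no germ of a regular function kills a nonzero element of the stalk of F — if and only
if every associated point of F is an associated point of the structure sheaf (a point x such that
the maximal ideal of O_{X,x} is an associated prime of O_{X,x}). -/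
theorem result (X : Scheme.{u}) [IsLocallyNoetherian X]
    (F : X.Modules) (hF : Coh.IsQCoh F) :
    Mono (Mero.toMer F) ↔
      ∀ x : ↥X, Curv2.IsAssPoint F x →
        IsAssociatedPrime (IsLocalRing.maximalIdeal ↑(X.presheaf.stalk x)) ↑(X.presheaf.stalk x) := by
  have : F.IsQuasicoherent := hF
  constructor
  · intro hmono x hx
    by_contra hnot
    obtain ⟨g, hgm, hgnzd⟩ := exists_nonZeroDivisor_mem_maximalIdeal hnot
    obtain ⟨hp, m, hm⟩ := hx
    have hgm' := hgm
    rw [hm] at hgm'
    obtain ⟨n, hn⟩ := hgm'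
    rw [Submodule.mem_colon_singleton, Submodule.mem_bot] at hn
    obtain ⟨W, hxW, f, hf, hfx⟩ :=
      Groth.Agent.H8.exists_regular_of_germ_mem_nonZeroDivisors x (g ^ n) (pow_mem hgnzd n)
    obtain ⟨W₁, hxW₁, m', rfl⟩ := TopCat.Presheaf.exists_germ_eq F.presheaf m
    let W₂ : X.Opens := W ⊓ W₁
    have hxW₂ : x ∈ W₂ := ⟨hxW, hxW₁⟩
    let f₂ : Γ(X, W₂) := X.presheaf.map (homOfLE inf_le_left).op f
    let m₂ : Γ(F, W₂) := F.presheaf.map (homOfLE inf_le_right).op m'
    have h1 : F.presheaf.germ W₂ x hxW₂ (f₂ • m₂) = F.presheaf.germ W₂ x hxW₂ 0 := by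
      rw [Groth.Agent.H8.germ_smul, map_zero]
      erw [TopCat.Presheaf.germ_res_apply, TopCat.Presheaf.germ_res_apply]
      rw [hfx]
      exact hn
    obtain ⟨W₃, hxW₃, i₁, i₂, e⟩ := F.presheaf.germ_eq x hxW₂ hxW₂ _ _ h1
    rw [map_zero, Scheme.Modules.map_smul] at e
    have hf₃ : X.presheaf.map i₁.op f₂ ∈ regSub X W₃ := by
      intro y
      change X.presheaf.germ W₃ y.1 y.2 (X.presheaf.map i₁.op f₂) ∈ _
      rw [TopCat.Presheaf.germ_res_apply, TopCat.Presheaf.germ_res_apply]
      exact hf y.1 _
    have h4 : toMerFun F W₃ (F.presheaf.map i₁.op m₂) = 0 := by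
      refine Subtype.ext (funext fun y => ?_)
      rw [toMerFun_apply]
      change LocalizedModule.mk _ _ = (0 : MStalk F y.1)
      rw [← LocalizedModule.zero_mk 1, LocalizedModule.mk_eq]
      refine ⟨regGerm y ⟨_, hf₃⟩, ?_⟩
      simp only [one_smul, smul_zero, Submonoid.smul_def]
      rw [← Groth.Agent.H8.germ_smul, e, map_zero]
    have h5 : F.presheaf.map i₁.op m₂ = 0 := by
      apply app_injective_of_mono (toMer F) W₃
      rw [toMer_app_apply, h4, map_zero]
    have h6 : F.presheaf.germ W₁ x hxW₁ m' = 0 := by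
      rw [← TopCat.Presheaf.germ_res_apply F.presheaf (homOfLE inf_le_right) x hxW₂ m',
        ← TopCat.Presheaf.germ_res_apply F.presheaf i₁ x hxW₃]
      change F.presheaf.germ W₃ x hxW₃ (F.presheaf.map i₁.op m₂) = 0
      rw [h5, map_zero]
    have h7 : (1 : X.presheaf.stalk x) ∈ IsLocalRing.maximalIdeal (X.presheaf.stalk x) := by
      rw [hm]
      refine Ideal.le_radical ?_
      rw [Submodule.mem_colon_singleton, h6, smul_zero]
      exact Submodule.zero_mem _
    exact hp.ne_top ((Ideal.eq_top_iff_one _).mpr h7)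
  · intro hass
    have key : ∀ (W : X.Opens) (s : Γ(F, W)), (toMer F).app W s = 0 → s = 0 := by
      intro W s hs
      by_contra hs'
      obtain ⟨y, hyW, hy, hgy⟩ := Groth.Agent.H8.exists_isWeakAssPoint_germ_ne_zero' F s hs'
      have hy' : Curv2.IsAssPoint F y := (Groth.Agent.H8.isAssPoint_iff_isWeakAssPoint F y).mpr hy
      have h1 := hass y hy'
      have h2 : (toMerFun F W s).1 ⟨y, hyW⟩ = 0 := by
        rw [← toMer_app_apply, hs]; rfl
      rw [toMerFun_apply] at h2
      have h2' : (LocalizedModule.mk (F.presheaf.germ W y hyW s) 1 : MStalk F y) =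
          LocalizedModule.mk 0 1 := h2.trans (LocalizedModule.zero_mk 1).symm
      rw [LocalizedModule.mk_eq] at h2'
      obtain ⟨u, hu⟩ := h2'
      simp only [one_smul, smul_zero, Submonoid.smul_def] at hu
      have hu1 : IsUnit (u : X.presheaf.stalk y) :=
        Groth.Agent.H8.isUnit_of_mem_nonZeroDivisors_of_isAssociatedPrime h1
          (regStalk_le_nonZeroDivisors y u.2)
      apply hgy
      obtain ⟨v, hv⟩ := hu1
      have h3 := congrArg (fun z => (↑v⁻¹ : X.presheaf.stalk y) • z) hu
      simp only [smul_zero] at h3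
      rw [← hv, smul_smul, Units.inv_mul, one_smul] at h3
      exact h3
    apply (Scheme.Modules.toPresheaf X).mono_of_mono_map
    have hmono : ∀ U : (TopologicalSpace.Opens X)ᵒᵖ,
        Mono (((Scheme.Modules.toPresheaf X).map (toMer F)).app U) := by
      intro U
      rw [AddCommGrpCat.mono_iff_injective, injective_iff_map_eq_zero]
      intro s hs
      exact key U.unop s hs
    exact NatTrans.mono_of_mono_app _

end Groth.Agent.S5084
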