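import Groth.Statements.S5092
import Groth.Agent.H8.StructAss

set_option autoImplicit false
universe u
open CategoryTheory CategoryTheory.Limits AlgebraicGeometry TopologicalSpace
open Mero

namespace Groth.Agent.S5092

/-- Suppose X and Y are schemes, both locally Noetherian, and f : X → Y is a morphism carrying each
associated point of O_X (that is, a point whose local ring has its maximal ideal among its
associated primes) to an associated point of O_Y. Then, given any open subset U of Y and any regular
function s on U (one whose germ at each point of U is a non-zero-divisor), the function on f⁻¹(U)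
obtained by pulling s back along f is again regular; as a result, every meromorphic function and
every divisor on Y admits a well-defined pullback along f. -/
theorem result {X Y : Scheme.{u}} [IsLocallyNoetherian X] [IsLocallyNoetherian Y]
    (f : X ⟶ Y)
    (hf : ∀ x : ↥X, IsAssociatedPrime (IsLocalRing.maximalIdeal ↑(X.presheaf.stalk x)) ↑(X.presheaf.stalk x) →
      IsAssociatedPrime (IsLocalRing.maximalIdeal ↑(Y.presheaf.stalk (f x))) ↑(Y.presheaf.stalk (f x))) :
    ∀ (U : Y.Opens) (s : Γ(Y, U)), s ∈ Mero.regSub Y U → f.app U s ∈ Mero.regSub X (f ⁻¹ᵁ U) := by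
  intro U s hs x
  refine Groth.Agent.H8.germ_mem_nonZeroDivisors_of_weakAss (f.app U s) ?_ x.1 x.2
  intro y hy hyw
  have hfy : f y ∈ U := hy
  have h1 : Y.presheaf.germ U (f y) hfy s ∈ nonZeroDivisors (Y.presheaf.stalk (f y)) :=
    hs ⟨f y, hfy⟩
  have hass := hf y ((Groth.Agent.H8.isWeakAssPoint_structure_iff y).mp hyw)
  have h2 : IsUnit (Y.presheaf.germ U (f y) hfy s) :=
    Groth.Agent.H8.isUnit_of_mem_nonZeroDivisors_of_isAssociatedPrime hass h1
  have h3 := h2.map (f.stalkMap y).hom
  rw [← Scheme.Hom.germ_stalkMap_apply f U y hfy s]
  exact h3.mem_nonZeroDivisors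

end Groth.Agent.S5092
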