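import Groth.Statements.S5104
import Groth.Agent.H40.Lm.Pseudo3

set_option autoImplicit false
universe u
open CategoryTheory CategoryTheory.Limits AlgebraicGeometry TopologicalSpace
open Rat20

namespace Groth.Agent.S5104

/-- Let X be an S-scheme which is locally Noetherian, or reduced with locally finite set of irreducible
components; let Y be separated and locally of finite presentation over S, U a schematically dense
open subset of X, h : U → Y an S-morphism (a pseudo-S-morphism ω of X into Y) and x a point of X.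
Then ω is defined at x — some S-morphism from an open neighbourhood V of x to Y agrees with h on U ∩
V — if and only if the restriction of ω to Spec O_{X,x} is everywhere defined — some S-morphism Spec
O_{X,x} → Y agrees with h after pulling back to Spec O_{X,x} ×_X U. (The published statement does
not assume Y separated over S and compares morphisms only on some schematically dense open; this row
assumes Y separated over S, where the two readings agree.) -/
theorem result {X Y S : Scheme.{u}} (pX : X ⟶ S) (pY : Y ⟶ S)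
    [IsSeparated pY] [LocallyOfFinitePresentation pY]
    (hX : IsLocallyNoetherian X ∨ (IsReduced X ∧ ∀ x : ↥X, ∃ W : X.Opens, x ∈ W ∧
      {Z : Set ↥X | Z ∈ irreducibleComponents ↥X ∧ (Z ∩ (W : Set ↥X)).Nonempty}.Finite))
    (U : X.Opens) (hU : CInt.IsSchematicallyDense U) (h : (U : Scheme.{u}) ⟶ Y) (hh : h ≫ pY = U.ι ≫ pX)
    (x : ↥X) :
    (∃ (V : X.Opens) (v : (V : Scheme.{u}) ⟶ Y), x ∈ V ∧ v ≫ pY = V.ι ≫ pX ∧
        X.homOfLE (inf_le_right : U ⊓ V ≤ V) ≫ v = X.homOfLE (inf_le_left : U ⊓ V ≤ U) ≫ h) ↔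
      ∃ w : Spec (X.presheaf.stalk x) ⟶ Y, w ≫ pY = X.fromSpecStalk x ≫ pX ∧
        pullback.fst (X.fromSpecStalk x) U.ι ≫ w = pullback.snd (X.fromSpecStalk x) U.ι ≫ h := by
  constructor
  · rintro ⟨V, v, hxV, hv, hvh⟩
    exact Groth.Agent.H40.Lm.stalk_of_nhd pX pY U h x V v hxV hv hvh
  · rintro ⟨w, hw, hw2⟩
    obtain ⟨j, g₀', hπ', hg₀'⟩ := Groth.Agent.H40.Lm.exists_nhd_hom pX pY x w hw
    have key : ∃ (j : (Groth.Agent.H24.FieldPoint.Nhd X x)ᵒᵖ)
        (g₀ : Spec Γ(X, j.unop.opens) ⟶ Y), Groth.Agent.H40.Lm.nπ j ≫ g₀ = w ∧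
        g₀ ≫ pY = j.unop.isAffineOpen.fromSpec ≫ pX := ⟨j, g₀', hπ', hg₀'⟩
    clear hπ' hg₀' g₀' j
    obtain ⟨j, g₀, hπ, hg₀⟩ := key
    have hw2' : pullback.fst (X.fromSpecStalk x) U.ι ≫ Groth.Agent.H40.Lm.nπ j ≫ g₀ =
        pullback.snd (X.fromSpecStalk x) U.ι ≫ h := by
      rw [hπ]
      exact hw2
    have hk : ∃ (k : (Groth.Agent.H24.FieldPoint.Nhd X x)ᵒᵖ) (φ : k ⟶ j),
        X.homOfLE (inf_le_right : U ⊓ k.unop.opens ≤ k.unop.opens) ≫
          Groth.Agent.H40.Lm.vK φ g₀ =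
        X.homOfLE (inf_le_left : U ⊓ k.unop.opens ≤ U) ≫ h := by
      rcases hX with hN | ⟨hR, hfin⟩
      · haveI := hN
        exact Groth.Agent.H40.Lm.exists_eq_noeth pX pY U h hh g₀ hg₀ hw2'
      · haveI := hR
        obtain ⟨W, hxW, hWfin⟩ := hfin x
        obtain ⟨V, hVo, hxV, -, hV⟩ :=
          Groth.Agent.H40.Lm.exists_open_generizations x (W : Set ↥X) W.2 hxW hWfin
        obtain ⟨k', hk'⟩ := Groth.Agent.H24.FieldPoint.exists_nhd_le X x
          (j.unop.opens ⊓ ⟨V, hVo⟩) ⟨j.unop.mem, hxV⟩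
        have hle : j.unop ≤ k' := (le_trans hk' inf_le_left : k'.opens ≤ j.unop.opens)
        refine ⟨Opposite.op k', (homOfLE hle).op, ?_⟩
        exact Groth.Agent.H40.Lm.eq_of_dominant pX pY U h hh (homOfLE hle).op g₀ hg₀ hw2'
          (Groth.Agent.H40.Lm.isDominant_toInf U x k'.opens k'.mem
            (fun y hy => hV y (hk' hy).2))
    obtain ⟨k, φ, hk⟩ := hk
    exact ⟨k.unop.opens, Groth.Agent.H40.Lm.vK φ g₀, k.unop.mem,
      Groth.Agent.H40.Lm.vK_over pX pY φ g₀ hg₀, hk⟩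

end Groth.Agent.S5104
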