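import Groth.Statements.S5123
import Groth.Agent.H40.DGE.BaseOpen

set_option autoImplicit false
universe u
open SGA1

namespace Groth.Agent.S5123

open AlgebraicGeometry CategoryTheory CategoryTheory.Limits in
/-- Let g : S' ⟶ S be universally submersive, D a descent datum relative to g (functor-of-points form,
for the one-member family g) whose underlying S'-scheme is etale over S', and (S_i)_{i ∈ ι} a cover
of S by open subschemes. Then D is effective in the fibred category of etale schemes (isomorphic to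
the canonical datum of some etale S-scheme) if and only if for every i the descent datum obtained by
base change along S_i ⟶ S, relative to S' ×_S S_i ⟶ S_i, is the canonical datum of some etale
S_i-scheme. -/
theorem result {S S' : Scheme.{u}} (g : S' ⟶ S) (hg : SGA1.UnivSubmersive g)
    (D : Desc.SchDDFam (fun _ : PUnit.{1} => g)) [Etale (D.obj PUnit.unit).hom]
    {ι : Type u} (V : ι → S.Opens) (hV : ⨆ i, V i = ⊤) :
    (∃ U : Over S, Etale U.hom ∧ Nonempty ((Desc.toDDFam (fun _ : PUnit.{1} => g)).obj U ≅ D)) ↔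
      ∀ i : ι, (∃ U : Over (V i : Scheme.{u}), Etale U.hom ∧
        Nonempty ((Desc.toDDFam (fun _ : PUnit.{1} => pullback.snd g (V i).ι)).obj U ≅
          (Desc.pullDDFam (f := fun _ : PUnit.{1} => g) (f' := fun _ : PUnit.{1} => pullback.snd g (V i).ι)
        (α := id) (p := (V i).ι) (p' := fun _ => pullback.fst g (V i).ι) (fun _ => pullback.condition)).obj D)) := by
  constructor
  · rintro ⟨U, hU, ⟨e⟩⟩ i
    refine ⟨Over.mk (pullback.snd U.hom (V i).ι), ?_, ⟨?_⟩⟩
    · change Etale (pullback.snd U.hom (V i).ι)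
      infer_instance
    · exact Groth.Agent.H40.DF.bcIso (f := fun _ : PUnit.{1} => g)
        (f' := fun _ : PUnit.{1} => pullback.snd g (V i).ι) (α := id) (p := (V i).ι)
        (p' := fun _ => pullback.fst g (V i).ι) (fun _ => pullback.condition) U ≪≫
        (Desc.pullDDFam (f := fun _ : PUnit.{1} => g)
          (f' := fun _ : PUnit.{1} => pullback.snd g (V i).ι) (α := id) (p := (V i).ι)
          (p' := fun _ => pullback.fst g (V i).ι) (fun _ => pullback.condition)).mapIso e
  · intro h
    haveI : Groth.Agent.H40.DGE.USub g := ⟨hg⟩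
    have hcov : Groth.Agent.H40.DGE.Covers (Groth.Agent.H40.DGE.D₀ D) := by
      intro v
      have hv : g ((Groth.Agent.H40.DGE.D₀ D).obj.hom v) ∈ (⨆ i, V i : S.Opens) := by
        rw [hV]
        trivial
      obtain ⟨i, hi⟩ := TopologicalSpace.Opens.mem_iSup.mp hv
      obtain ⟨U₀, hU₀, ⟨e⟩⟩ := h i
      exact ⟨⟨_, Groth.Agent.H40.DGE.isChart_of_bcD (D := D) (S₀ := V i) (U₀ := U₀) e⟩, hi⟩
    obtain ⟨U, hU, ⟨e⟩⟩ := Groth.Agent.H40.DGE.exists_etale_effective_of_covers hcov
    refine ⟨U, hU, ⟨?_⟩⟩
    exact (Desc.SchDDFam.oneEquiv g).unitIso.app _ ≪≫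
      (Desc.SchDDFam.ofSchDD g).mapIso e ≪≫ ((Desc.SchDDFam.oneEquiv g).unitIso.app D).symm

end Groth.Agent.S5123
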