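import Groth.Statements.S5126
import Groth.Agent.S5125
import Groth.Agent.H40.Lm.Fpqc

set_option autoImplicit false
universe u
open SGA1

namespace Groth.Agent.S5126

open AlgebraicGeometry CategoryTheory CategoryTheory.Limits in
/-- Let S be locally Noetherian, g : S' ⟶ S universally submersive and of finite presentation, and D a
descent datum relative to g (functor-of-points form, for the one-member family g) whose underlying
S'-scheme is etale, separated and of finite presentation over S'. Then D is the canonical datum of
some etale S-scheme if and only if for every point a of S the descent datum induced over the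
spectrum of the adic completion Ô of the local ring O_{S,a} (mapping to S through Spec O_{S,a}) is
the canonical datum of some etale Ô-scheme. -/
theorem result {S S' : Scheme.{u}} [IsLocallyNoetherian S] (g : S' ⟶ S)
    (hg : SGA1.UnivSubmersive g) [LocallyOfFinitePresentation g] [QuasiCompact g] [QuasiSeparated g]
    (D : Desc.SchDDFam (fun _ : PUnit.{1} => g)) [Etale (D.obj PUnit.unit).hom]
    [QuasiCompact (D.obj PUnit.unit).hom] [IsSeparated (D.obj PUnit.unit).hom] :
    (∃ U : Over S, Etale U.hom ∧ Nonempty ((Desc.toDDFam (fun _ : PUnit.{1} => g)).obj U ≅ D)) ↔ ∀ a : S,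
      (∃ U : Over (Spec (CommRingCat.of (AdicCompletion (IsLocalRing.maximalIdeal (S.presheaf.stalk a)) (S.presheaf.stalk a)))), Etale U.hom ∧
        Nonempty ((Desc.toDDFam (fun _ : PUnit.{1} => pullback.snd g (Spec.map (CommRingCat.ofHom (algebraMap (S.presheaf.stalk a)
          (AdicCompletion (IsLocalRing.maximalIdeal (S.presheaf.stalk a)) (S.presheaf.stalk a)))) ≫ S.fromSpecStalk a))).obj U ≅
          (Desc.pullDDFam (f := fun _ : PUnit.{1} => g) (f' := fun _ : PUnit.{1} => pullback.snd g (Spec.map (CommRingCat.ofHom (algebraMap (S.presheaf.stalk a)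
          (AdicCompletion (IsLocalRing.maximalIdeal (S.presheaf.stalk a)) (S.presheaf.stalk a)))) ≫ S.fromSpecStalk a))
        (α := id) (p := (Spec.map (CommRingCat.ofHom (algebraMap (S.presheaf.stalk a)
          (AdicCompletion (IsLocalRing.maximalIdeal (S.presheaf.stalk a)) (S.presheaf.stalk a)))) ≫ S.fromSpecStalk a)) (p' := fun _ => pullback.fst g (Spec.map (CommRingCat.ofHom (algebraMap (S.presheaf.stalk a)
          (AdicCompletion (IsLocalRing.maximalIdeal (S.presheaf.stalk a)) (S.presheaf.stalk a)))) ≫ S.fromSpecStalk a)) (fun _ => pullback.condition)).obj D)) := by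
  constructor
  · rintro ⟨U, hU, ⟨e⟩⟩ a
    refine ⟨Over.mk (pullback.snd U.hom (Spec.map (CommRingCat.ofHom (algebraMap (S.presheaf.stalk a)
      (AdicCompletion (IsLocalRing.maximalIdeal (S.presheaf.stalk a)) (S.presheaf.stalk a)))) ≫
        S.fromSpecStalk a)), ?_, ⟨?_⟩⟩
    · change Etale (pullback.snd U.hom _)
      infer_instance
    · exact Groth.Agent.H40.DF.bcIso (f := fun _ : PUnit.{1} => g)
        (f' := fun _ : PUnit.{1} => pullback.snd g (Spec.map (CommRingCat.ofHom (algebraMap
          (S.presheaf.stalk a) (AdicCompletion (IsLocalRing.maximalIdeal (S.presheaf.stalk a))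
            (S.presheaf.stalk a)))) ≫ S.fromSpecStalk a)) (α := id)
        (p := Spec.map (CommRingCat.ofHom (algebraMap
          (S.presheaf.stalk a) (AdicCompletion (IsLocalRing.maximalIdeal (S.presheaf.stalk a))
            (S.presheaf.stalk a)))) ≫ S.fromSpecStalk a)
        (p' := fun _ => pullback.fst g _) (fun _ => pullback.condition) U ≪≫
        (Desc.pullDDFam (f := fun _ : PUnit.{1} => g)
          (f' := fun _ : PUnit.{1} => pullback.snd g (Spec.map (CommRingCat.ofHom (algebraMap
          (S.presheaf.stalk a) (AdicCompletion (IsLocalRing.maximalIdeal (S.presheaf.stalk a))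
            (S.presheaf.stalk a)))) ≫ S.fromSpecStalk a)) (α := id)
          (p := Spec.map (CommRingCat.ofHom (algebraMap
          (S.presheaf.stalk a) (AdicCompletion (IsLocalRing.maximalIdeal (S.presheaf.stalk a))
            (S.presheaf.stalk a)))) ≫ S.fromSpecStalk a)
          (p' := fun _ => pullback.fst g _) (fun _ => pullback.condition)).mapIso e
  · intro h
    refine (Groth.Agent.S5125.result g hg D).mpr (fun a => ?_)
    haveI hff : Module.FaithfullyFlat (S.presheaf.stalk a)
        (AdicCompletion (IsLocalRing.maximalIdeal (S.presheaf.stalk a)) (S.presheaf.stalk a)) :=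
      Module.FaithfullyFlat.of_flat_of_isLocalHom
    have hfl : Flat (Spec.map (CommRingCat.ofHom (algebraMap (S.presheaf.stalk a)
        (AdicCompletion (IsLocalRing.maximalIdeal (S.presheaf.stalk a)) (S.presheaf.stalk a))))) := by
      rw [HasRingHomProperty.Spec_iff (P := @Flat)]
      exact RingHom.flat_algebraMap_iff.mpr inferInstance
    have hsu : Surjective (Spec.map (CommRingCat.ofHom (algebraMap (S.presheaf.stalk a)
        (AdicCompletion (IsLocalRing.maximalIdeal (S.presheaf.stalk a)) (S.presheaf.stalk a))))) := by
      rw [surjective_iff]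
      exact PrimeSpectrum.comap_surjective_of_faithfullyFlat
    have key : ∀ (c : Spec (CommRingCat.of (AdicCompletion (IsLocalRing.maximalIdeal
        (S.presheaf.stalk a)) (S.presheaf.stalk a))) ⟶ Spec (S.presheaf.stalk a)),
        Flat c → Surjective c →
        (∃ U : Over (Spec (CommRingCat.of (AdicCompletion (IsLocalRing.maximalIdeal
          (S.presheaf.stalk a)) (S.presheaf.stalk a)))), Etale U.hom ∧
          Nonempty ((Desc.toDDFam (fun _ : PUnit.{1} => pullback.snd g (c ≫ S.fromSpecStalk a))).obj U ≅
            Groth.Agent.H40.Bi.bcFam (p := c ≫ S.fromSpecStalk a) D)) →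
        ∃ U : Over (Spec (S.presheaf.stalk a)), Etale U.hom ∧
          Nonempty ((Desc.toDDFam (fun _ : PUnit.{1} => pullback.snd g (S.fromSpecStalk a))).obj U ≅
            Groth.Agent.H40.Bi.bcFam (p := S.fromSpecStalk a) D) := fun c _ _ H =>
      Groth.Agent.H40.Lm.effective_of_fpqc g hg D (S.fromSpecStalk a) c H
    exact key _ hfl hsu (h a)

end Groth.Agent.S5126
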