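import Groth.Statements.S5127
import Groth.Agent.S5125
import Groth.Agent.H40.Lm.Fpqc
import Groth.Agent.H40.Lm.Gonfl

set_option autoImplicit false
universe u
open SGA1

namespace Groth.Agent.S5127

open AlgebraicGeometry CategoryTheory CategoryTheory.Limits in
/-- Let S be locally Noetherian, g : S' ⟶ S universally submersive and of finite presentation, and D a
descent datum relative to g (functor-of-points form, for the one-member family g) whose underlying
S'-scheme is etale, separated and of finite presentation over S'. Then D is the canonical datum of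
some etale S-scheme if and only if, for every complete Noetherian local ring B with algebraically
closed residue field and every morphism q : Spec B ⟶ S, the descent datum induced over Spec B
(relative to S' ×_S Spec B ⟶ Spec B) is the canonical datum of some etale B-scheme. -/
theorem result {S S' : Scheme.{u}} [IsLocallyNoetherian S]
    (g : S' ⟶ S) (hg : SGA1.UnivSubmersive g) [LocallyOfFinitePresentation g] [QuasiCompact g] [QuasiSeparated g]
    (D : Desc.SchDDFam (fun _ : PUnit.{1} => g)) [Etale (D.obj PUnit.unit).hom]
    [QuasiCompact (D.obj PUnit.unit).hom] [IsSeparated (D.obj PUnit.unit).hom] :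
    (∃ U : Over S, Etale U.hom ∧ Nonempty ((Desc.toDDFam (fun _ : PUnit.{1} => g)).obj U ≅ D)) ↔ ∀ (B : Type u) [CommRing B] [IsNoetherianRing B] [IsLocalRing B]
      [IsAdicComplete (IsLocalRing.maximalIdeal B) B] [IsAlgClosed (IsLocalRing.ResidueField B)]
      (q : Spec (CommRingCat.of B) ⟶ S), (∃ U : Over (Spec (CommRingCat.of B)), Etale U.hom ∧
        Nonempty ((Desc.toDDFam (fun _ : PUnit.{1} => pullback.snd g q)).obj U ≅
          (Desc.pullDDFam (f := fun _ : PUnit.{1} => g) (f' := fun _ : PUnit.{1} => pullback.snd g q)
        (α := id) (p := q) (p' := fun _ => pullback.fst g q) (fun _ => pullback.condition)).obj D)) := by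
  constructor
  · rintro ⟨U, hU, ⟨e⟩⟩ B _ _ _ _ _ q
    refine ⟨Over.mk (pullback.snd U.hom q), ?_, ⟨?_⟩⟩
    · change Etale (pullback.snd U.hom q)
      infer_instance
    · exact Groth.Agent.H40.DF.bcIso (f := fun _ : PUnit.{1} => g)
        (f' := fun _ : PUnit.{1} => pullback.snd g q) (α := id) (p := q)
        (p' := fun _ => pullback.fst g q) (fun _ => pullback.condition) U ≪≫
        (Desc.pullDDFam (f := fun _ : PUnit.{1} => g)
          (f' := fun _ : PUnit.{1} => pullback.snd g q) (α := id) (p := q)
          (p' := fun _ => pullback.fst g q) (fun _ => pullback.condition)).mapIso e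
  · intro h
    refine (Groth.Agent.S5125.result g hg D).mpr (fun a => ?_)
    obtain ⟨B, iB1, iB2, iB3, iB4, iB5, f, hfl, hloc⟩ :=
      Groth.Agent.H40.Lm.exists_complete_algClosed (S.presheaf.stalk a)
    have hflat : Flat (Spec.map (CommRingCat.ofHom f)) :=
      (HasRingHomProperty.Spec_iff (P := @Flat)).mpr hfl
    have hsurj : Surjective (Spec.map (CommRingCat.ofHom f)) := by
      letI : Algebra (S.presheaf.stalk a) B := f.toAlgebra
      haveI : Module.Flat (S.presheaf.stalk a) B := hfl
      haveI : IsLocalHom (algebraMap (S.presheaf.stalk a) B) := hloc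
      haveI : Module.FaithfullyFlat (S.presheaf.stalk a) B :=
        Module.FaithfullyFlat.of_flat_of_isLocalHom
      rw [surjective_iff]
      exact PrimeSpectrum.comap_surjective_of_faithfullyFlat (A := S.presheaf.stalk a) (B := B)
    have key : ∀ (c : Spec (CommRingCat.of B) ⟶ Spec (S.presheaf.stalk a)),
        Flat c → Surjective c →
        (∃ U : Over (Spec (CommRingCat.of B)), Etale U.hom ∧
          Nonempty ((Desc.toDDFam (fun _ : PUnit.{1} => pullback.snd g (c ≫ S.fromSpecStalk a))).obj U ≅
            Groth.Agent.H40.Bi.bcFam (p := c ≫ S.fromSpecStalk a) D)) →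
        ∃ U : Over (Spec (S.presheaf.stalk a)), Etale U.hom ∧
          Nonempty ((Desc.toDDFam (fun _ : PUnit.{1} => pullback.snd g (S.fromSpecStalk a))).obj U ≅
            Groth.Agent.H40.Bi.bcFam (p := S.fromSpecStalk a) D) := fun c _ _ H =>
      Groth.Agent.H40.Lm.effective_of_fpqc g hg D (S.fromSpecStalk a) c H
    exact key (Spec.map (CommRingCat.ofHom f)) hflat hsurj
      (h B (Spec.map (CommRingCat.ofHom f) ≫ S.fromSpecStalk a))

end Groth.Agent.S5127
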