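import Groth.Statements.S5132
-- import your own Groth.Agent.* helpers here

set_option autoImplicit false
open CategoryTheory AlgebraicGeometry
universe u
open SGA1

namespace Groth.Agent.S5132

/-- Quasi-compactness of a morphism descends along a surjective and quasi-compact base change; flatness
of the base change is not needed for this property. -/
theorem result :
    MorphismProperty.DescendsAlong @QuasiCompact (@Surjective ⊓ @QuasiCompact : MorphismProperty Scheme.{u}) := by
  constructor
  intro A X Y Z fst snd f g h hf hfst
  have hfs : Surjective f := hf.1
  have hfq : QuasiCompact f := hf.2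
  have hsnd : Surjective snd := MorphismProperty.of_isPullback h hfs
  constructor
  intro U hUo hUc
  have h1 : IsCompact (f ⁻¹' U) := QuasiCompact.isCompact_preimage U hUo hUc
  have h2 : IsCompact (fst ⁻¹' (f ⁻¹' U)) :=
    QuasiCompact.isCompact_preimage _ (hUo.preimage f.continuous) h1
  have h3 : fst ⁻¹' (f ⁻¹' U) = snd ⁻¹' (g ⁻¹' U) := by
    rw [← Set.preimage_comp, ← Set.preimage_comp]
    have : (f : X → Z) ∘ (fst : A → X) = (g : Y → Z) ∘ (snd : A → Y) := by
      ext a
      have := congrArg (fun t => t.base a) h.w
      simpa using this
    rw [this]
  rw [h3] at h2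
  have h4 := h2.image snd.continuous
  rwa [Set.image_preimage_eq _ hsnd.surj] at h4

end Groth.Agent.S5132
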