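import Groth.Statements.S5135
import Mathlib

set_option autoImplicit false
universe u
open scoped TensorProduct
open SGA1

namespace Groth.Agent.S5135

/-- The affine case, in submodule form (descent of submodules, equivalently of quotient modules): for A
⟶ A' faithfully flat, M an A-module and N' an A'-submodule of A' ⊗ M whose two extensions to (A' ⊗
A') ⊗ M, along a ↦ a ⊗ 1 and a ↦ 1 ⊗ a, generate the same submodule, N' is the base change of the
submodule of M formed by the elements m with 1 ⊗ m in N'. -/
theorem result (A A' : Type u) [CommRing A] [CommRing A'] [Algebra A A']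
    [Module.FaithfullyFlat A A'] (M : Type u) [AddCommGroup M] [Module A M] (N' : Submodule A' (A' ⊗[A] M))
    (h : Submodule.span (A' ⊗[A] A')
          ((N'.restrictScalars A).map
            ((Algebra.TensorProduct.includeLeft : A' →ₐ[A] A' ⊗[A] A').toLinearMap.rTensor M) : Set ((A' ⊗[A] A') ⊗[A] M)) =
        Submodule.span (A' ⊗[A] A')
          ((N'.restrictScalars A).map
            ((Algebra.TensorProduct.includeRight : A' →ₐ[A] A' ⊗[A] A').toLinearMap.rTensor M) : Set ((A' ⊗[A] A') ⊗[A] M))) :
    ((N'.restrictScalars A).comap (TensorProduct.mk A A' M 1)).baseChange A' = N' := by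
  apply le_antisymm
  · rw [Submodule.baseChange_eq_span, Submodule.span_le]
    rintro _ ⟨m, hm, rfl⟩
    exact hm
  · intro x hx
    let φ : A' ⊗[A] M →ₗ[A] (A' ⊗[A] M) ⧸ N' := N'.mkQ.restrictScalars A
    have hφ : ∀ y, φ y = Submodule.Quotient.mk y := fun y => rfl
    let ψ : M →ₗ[A] (A' ⊗[A] M) ⧸ N' := φ ∘ₗ TensorProduct.mk A A' M 1
    have hker : LinearMap.ker ψ = (N'.restrictScalars A).comap (TensorProduct.mk A A' M 1) := by
      ext m
      simp only [LinearMap.mem_ker, ψ, LinearMap.comp_apply, hφ, Submodule.Quotient.mk_eq_zero,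
        Submodule.mem_comap, Submodule.restrictScalars_mem]
    let Φ : (A' ⊗[A] A') ⊗[A] M →ₗ[A] A' ⊗[A] ((A' ⊗[A] M) ⧸ N') :=
      (φ.lTensor A') ∘ₗ (TensorProduct.assoc A A' A' M).toLinearMap
    have hΦ0 : ∀ y : A' ⊗[A] M,
        Φ ((Algebra.TensorProduct.includeLeft : A' →ₐ[A] A' ⊗[A] A').toLinearMap.rTensor M y) =
          ψ.lTensor A' y := by
      intro y
      induction y using TensorProduct.induction_on with
      | zero => simp
      | tmul a m => simp [Φ, ψ]
      | add y y' h h' => simp only [map_add, h, h']
    have hΦ1 : ∀ (a b : A') (y : A' ⊗[A] M),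
        Φ ((a ⊗ₜ[A] b) •
          ((Algebra.TensorProduct.includeRight : A' →ₐ[A] A' ⊗[A] A').toLinearMap.rTensor M y)) =
          a ⊗ₜ[A] φ (b • y) := by
      intro a b y
      induction y using TensorProduct.induction_on with
      | zero => simp
      | tmul c m =>
        simp [Φ, TensorProduct.smul_tmul', Algebra.TensorProduct.tmul_mul_tmul]
      | add y y' h h' =>
        simp only [map_add, smul_add, h, h', TensorProduct.tmul_add]
    have hvanish : ∀ z ∈ Submodule.span (A' ⊗[A] A')
          ((N'.restrictScalars A).map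
            ((Algebra.TensorProduct.includeRight : A' →ₐ[A] A' ⊗[A] A').toLinearMap.rTensor M) :
              Set ((A' ⊗[A] A') ⊗[A] M)), ∀ t : A' ⊗[A] A', Φ (t • z) = 0 := by
      intro z hz
      induction hz using Submodule.span_induction with
      | mem z hz =>
        obtain ⟨y, hy, rfl⟩ := hz
        intro t
        induction t using TensorProduct.induction_on with
        | zero => simp
        | tmul a b =>
          rw [hΦ1, hφ, (Submodule.Quotient.mk_eq_zero N').mpr (N'.smul_mem b hy),
            TensorProduct.tmul_zero]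
        | add t t' h h' => rw [add_smul, map_add, h, h', add_zero]
      | zero => intro t; simp
      | add z z' _ _ h h' => intro t; rw [smul_add, map_add, h, h', add_zero]
      | smul s z _ h => intro t; rw [smul_smul]; exact h _
    have hx0 : (Algebra.TensorProduct.includeLeft : A' →ₐ[A] A' ⊗[A] A').toLinearMap.rTensor M x ∈
        Submodule.span (A' ⊗[A] A')
          ((N'.restrictScalars A).map
            ((Algebra.TensorProduct.includeLeft : A' →ₐ[A] A' ⊗[A] A').toLinearMap.rTensor M) :
              Set ((A' ⊗[A] A') ⊗[A] M)) :=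
      Submodule.subset_span ⟨x, hx, rfl⟩
    rw [h] at hx0
    have hx1 := hvanish _ hx0 1
    rw [one_smul, hΦ0] at hx1
    have hex := Module.Flat.lTensor_exact A' (LinearMap.exact_subtype_ker_map ψ)
    obtain ⟨w, hw⟩ := (hex x).mp hx1
    rw [← hker, Submodule.baseChange]
    refine ⟨w, ?_⟩
    rw [← hw]
    exact congrFun (LinearMap.baseChange_eq_ltensor _) w

end Groth.Agent.S5135
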