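import Groth.Statements.S5162
import Groth.Agent.H2.LCExtVanish

set_option autoImplicit false
universe u
open CategoryTheory
open LocCoh

namespace Groth.Agent.S5162

/-- The affine case. Let A be a Noetherian ring, J an ideal, G any A-module and n ≥ 0. Then: H^i_J(G) =
0 for all i < n iff Ext^i_A(F, G) = 0 for all i < n and all finite A-modules F with Supp F ⊆ V(J),
iff Ext^i_A(F, G) = 0 for all i < n for one finite F with Supp F = V(J). (G is not assumed finitely
generated.) -/
theorem result (A : Type u) [CommRing A] [IsNoetherianRing A] (J : Ideal A) (G : Type u) [AddCommGroup G] [Module A G] (n : ℕ) : ((∀ i : ℕ, i < n → Subsingleton (LocCoh.H J i G)) ↔ ∀ (F : Type u) [AddCommGroup F] [Module A F], Module.Finite A F → Module.support A F ⊆ PrimeSpectrum.zeroLocus (J : Set A) → ∀ i : ℕ, i < n → Subsingleton (Abelian.Ext (ModuleCat.of A F) (ModuleCat.of A G) i)) ∧ ((∀ i : ℕ, i < n → Subsingleton (LocCoh.H J i G)) ↔ ∃ (F : Type u) (_ : AddCommGroup F) (_ : Module A F), Module.Finite A F ∧ Module.support A F =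 PrimeSpectrum.zeroLocus (J : Set A) ∧ ∀ i : ℕ, i < n → Subsingleton (Abelian.Ext (ModuleCat.of A F) (ModuleCat.of A G) i)) := by
  -- finite modules supported in `V(J)` are `J`-power torsion
  have htors : ∀ (F : Type u) [AddCommGroup F] [Module A F], Module.Finite A F →
      Module.support A F ⊆ PrimeSpectrum.zeroLocus (J : Set A) →
      Groth.Agent.H58.LC.IsTors J (ModuleCat.of A F) := by
    intro F _ _ hfin hsupp
    rw [Module.support_eq_zeroLocus, PrimeSpectrum.zeroLocus_subset_zeroLocus_iff] at hsupp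
    obtain ⟨t, ht⟩ := Ideal.exists_pow_le_of_le_radical_of_fg hsupp
      (IsNoetherian.noetherian J)
    intro y
    exact ⟨t, fun a ha => Module.mem_annihilator.mp (ht ha) y⟩
  have hsuppQ : ∀ t : ℕ, Module.support A (A ⧸ J ^ t) ⊆ PrimeSpectrum.zeroLocus (J : Set A) := by
    intro t p hp
    rw [Module.support_eq_zeroLocus, Ideal.annihilator_quotient, PrimeSpectrum.mem_zeroLocus,
      SetLike.coe_subset_coe] at hp
    rw [PrimeSpectrum.mem_zeroLocus, SetLike.coe_subset_coe]
    exact p.2.le_of_pow_le hp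
  have h12 : (∀ i : ℕ, i < n → Subsingleton (LocCoh.H J i G)) →
      ∀ (F : Type u) [AddCommGroup F] [Module A F], Module.Finite A F →
        Module.support A F ⊆ PrimeSpectrum.zeroLocus (J : Set A) → ∀ i : ℕ, i < n →
        Subsingleton (Abelian.Ext (ModuleCat.of A F) (ModuleCat.of A G) i) := by
    intro h F _ _ hfin hsupp i hi
    exact Groth.Agent.H2.LCExtVanish.subsingleton_ext_of_subsingleton_H J (ModuleCat.of A F)
      (htors F hfin hsupp) n G h i hi
  refine ⟨⟨h12, fun h i hi => ?_⟩, ⟨fun h => ?_, ?_⟩⟩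
  · apply Groth.Agent.H2.LCExtVanish.subsingleton_H_of_subsingleton_ext_Q J (ModuleCat.of A G) i
    intro t
    exact h (A ⧸ J ^ t) inferInstance (hsuppQ t) i hi
  · have hsupp : Module.support A (A ⧸ J) = PrimeSpectrum.zeroLocus (J : Set A) := by
      rw [Module.support_eq_zeroLocus, Ideal.annihilator_quotient]
    exact ⟨A ⧸ J, inferInstance, inferInstance, inferInstance, hsupp,
      h12 h (A ⧸ J) inferInstance hsupp.le⟩
  · rintro ⟨F, _, _, hfin, hsupp, hext⟩
    exact Groth.Agent.H2.LCExtVanish.subsingleton_H_of_subsingleton_ext J F hsupp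
      (htors F hfin hsupp.le) n G hext

end Groth.Agent.S5162
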