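import Groth.Statements.S5167
import Mathlib
import Groth.Agent.S2934
import Groth.Agent.H81.DepthLC

set_option autoImplicit false
universe u
open LocCoh

namespace Groth.Agent.S5167

/-- Let A be a Noetherian local ring which is a quotient of a regular local ring, m its maximal ideal, M
a finite A-module and n ≥ 0. Then H^i_m(M) is of finite length for all i ≤ n if and only if
depth(M_p) > n − dim(A/p) for every prime p ≠ m. -/
theorem result (R : Type u) [CommRing R] [IsRegularLocalRing R] (A : Type u) [CommRing A] [IsLocalRing A] [IsNoetherianRing A] (π : R →+* A) (hπ : Function.Surjective π) (M : Type u) [AddCommGroup M] [Module A M] [Module.Finite A M] (n : ℕ) : (∀ i : ℕ, i ≤ n → IsFiniteLength A (LocCoh.H (IsLocalRing.maximalIdeal A) i M)) ↔ ∀ p : PrimeSpectrum A, p.asIdeal ≠ IsLocalRing.maximalIdeal A → ∀ e : ℕ, ringKrullDim (A ⧸ p.asIdeal) = e → (n : ℕ∞) < LocCoh.depth (Localization.AtPrime p.asIdeal) (LocalizedModule p.asIdeal.primeCompl M) + e := by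
  have crit : ∀ (p : PrimeSpectrum A) (t : ℕ),
      (∀ j : ℕ, j ≤ t → Subsingleton (LocCoh.H (IsLocalRing.maximalIdeal
        (Localization.AtPrime p.asIdeal)) j (LocalizedModule p.asIdeal.primeCompl M))) ↔
      (t : ℕ∞) < LocCoh.depth (Localization.AtPrime p.asIdeal)
        (LocalizedModule p.asIdeal.primeCompl M) := fun p t =>
    Groth.Agent.H81.DepthLC.forall_subsingleton_H_iff_lt_idealDepth
      (Localization.AtPrime p.asIdeal) _ (LocalizedModule p.asIdeal.primeCompl M) t
  constructor
  · intro h p hp e he
    have hLS : ∀ j : ℕ, j + e ≤ n → Subsingleton (LocCoh.H (IsLocalRing.maximalIdeal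
        (Localization.AtPrime p.asIdeal)) j (LocalizedModule p.asIdeal.primeCompl M)) :=
      fun j hj => (Groth.Agent.S2934.result R A π hπ M (j + e)).mp (h (j + e) hj) p hp e j he rfl
    by_cases hen : e ≤ n
    · have h1 := (crit p (n - e)).mp (fun j hj => hLS j (by omega))
      cases hD : LocCoh.depth (Localization.AtPrime p.asIdeal)
          (LocalizedModule p.asIdeal.primeCompl M) with
      | top =>
        rw [top_add]
        exact ENat.natCast_lt_top n
      | coe d' =>
        rw [hD] at h1
        have h2 : n - e < d' := by exact_mod_cast h1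
        have : n < d' + e := by omega
        exact_mod_cast this
    · rw [not_le] at hen
      have h1 : (n : ℕ∞) < (e : ℕ∞) := by exact_mod_cast hen
      exact lt_of_lt_of_le h1 le_add_self
  · intro h i hi
    rw [Groth.Agent.S2934.result R A π hπ M i]
    intro p hp e j he hj
    have h1 := h p hp e he
    refine (crit p j).mpr ?_ j le_rfl
    cases hD : LocCoh.depth (Localization.AtPrime p.asIdeal)
        (LocalizedModule p.asIdeal.primeCompl M) with
    | top => exact ENat.natCast_lt_top j
    | coe d' =>
      rw [hD] at h1
      have h2 : n < d' + e := by exact_mod_cast h1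
      have : j < d' := by omega
      exact_mod_cast this

end Groth.Agent.S5167
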