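import Groth.Statements.S5171
import Mathlib
import Groth.Agent.S5152
import Groth.Agent.H2.LCDepthNonvanish
import Groth.Agent.H29.DepthAB

set_option autoImplicit false
universe u
open LocCoh

namespace Groth.Agent.S5171

open CategoryTheory in
/-- if `JG = G` for a finite module `G` then all local cohomology with support in `J` vanishes. -/
theorem subsingleton_H_of_smul_top_eq_top (A : Type u) [CommRing A] [IsNoetherianRing A]
    (J : Ideal A) (G : Type u) [AddCommGroup G] [Module A G] [Module.Finite A G]
    (h : J • (⊤ : Submodule A G) = ⊤) (i : ℕ) : Subsingleton (LocCoh.H J i G) := by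
  obtain ⟨r, hr1, hr0⟩ := Submodule.exists_sub_one_mem_and_smul_eq_zero_of_fg_of_le_smul J
    (⊤ : Submodule A G) Module.Finite.fg_top (le_of_eq h.symm)
  have hrid : r • 𝟙 (ModuleCat.of A G) = 0 := by
    apply ModuleCat.hom_ext
    apply LinearMap.ext
    intro y
    exact hr0 y Submodule.mem_top
  refine ⟨fun x y => ?_⟩
  suffices key : ∀ z : LocCoh.H J i G, z = 0 by rw [key x, key y]
  intro z
  have hrz : r • z = 0 :=
    Groth.Agent.H58.LC.smul_eq_zero_of_smul_id_eq_zero J i (ModuleCat.of A G) r hrid z
  obtain ⟨k, hk⟩ := Groth.Agent.H58.LC.isTors_H J i (ModuleCat.of A G) z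
  have h1 : (r - 1) ^ k • z = 0 := hk _ (Ideal.pow_mem_pow hr1 k)
  -- `(r - 1)^k = r * s + (-1)^k`
  obtain ⟨s, hs⟩ : ∃ s : A, (r - 1) ^ k = r * s + (-1) ^ k := by
    have hdvd : r ∣ (r - 1) ^ k - (-1) ^ k := by
      have := sub_dvd_pow_sub_pow (r - 1) (-1) k
      simpa using this
    obtain ⟨s, hs⟩ := hdvd
    exact ⟨s, by rw [← hs]; ring⟩
  rw [hs, add_smul, mul_comm, mul_smul, hrz, smul_zero, zero_add] at h1
  have h2 : ((-1 : A) ^ k * (-1) ^ k) • z = 0 := by rw [mul_smul, h1, smul_zero]
  rwa [← mul_pow, neg_one_mul, neg_neg, one_pow, one_smul] at h2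

/-- Let A be a Noetherian ring, J an ideal, n ≥ 0 and G a finite Cohen–Macaulay A-module (each
localization G_p is zero or Cohen–Macaulay). Then H^i_J(G) = 0 for i < n if and only if codim(V(J) ∩
Supp G, Supp G) ≥ n, i.e. dim Supp(G_p) ≥ n for every p ∈ V(J) ∩ Supp G. -/
theorem result (A : Type u) [CommRing A] [IsNoetherianRing A] (J : Ideal A) (G : Type u) [AddCommGroup G] [Module A G] [Module.Finite A G] (hCM : ∀ p : PrimeSpectrum A, Subsingleton (LocalizedModule p.asIdeal.primeCompl G) ∨ LocCoh.IsCohenMacaulayModule (Localization.AtPrime p.asIdeal) (LocalizedModule p.asIdeal.primeCompl G)) (n : ℕ) : (∀ i : ℕ, i < n → Subsingleton (LocCoh.H J i G)) ↔ ∀ p : PrimeSpectrum A, J ≤ p.asIdeal → p ∈ Module.support A G → (n : WithBot ℕ∞) ≤ Module.supportDim (Localization.AtPrime p.asIdeal) (LocalizedModule p.asIdeal.primeCompl G) := by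
  have hS := Groth.Agent.S5152.result A J G
  have hdepthCM : ∀ p : PrimeSpectrum A, p ∈ Module.support A G →
      Module.supportDim (Localization.AtPrime p.asIdeal) (LocalizedModule p.asIdeal.primeCompl G) =
        ((LocCoh.depth (Localization.AtPrime p.asIdeal)
          (LocalizedModule p.asIdeal.primeCompl G) : ℕ∞) : WithBot ℕ∞) := by
    intro p hp
    rw [Module.mem_support_iff] at hp
    rcases hCM p with h | h
    · exact absurd h (not_subsingleton_iff_nontrivial.mpr hp)
    · exact h
  constructor
  · intro hvan p hJp hp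
    rw [hdepthCM p hp]
    have hle : (n : ℕ∞) ≤ LocCoh.idealDepth J G := by
      by_cases htop : J • (⊤ : Submodule A G) = ⊤
      · rw [Groth.Agent.H15.idealDepth_eq_top_of_smul_top_eq J G htop]
        exact le_top
      · by_contra hcon
        rw [not_le] at hcon
        obtain ⟨d, hd⟩ : ∃ d : ℕ, LocCoh.idealDepth J G = d := by
          cases hD : LocCoh.idealDepth J G with
          | top => rw [hD] at hcon; exact absurd hcon (not_lt.mpr le_top)
          | coe d => exact ⟨d, rfl⟩
        rw [hd] at hcon
        have hdn : d < n := by exact_mod_cast hcon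
        have hnt := Groth.Agent.H2.LCDepthNonvanish.nontrivial_H_of_idealDepth_eq J d G htop hd
        exact absurd hnt (not_nontrivial_iff_subsingleton.mpr (hvan d hdn))
    have h2 : LocCoh.idealDepth J G ≤ LocCoh.depth (Localization.AtPrime p.asIdeal)
        (LocalizedModule p.asIdeal.primeCompl G) := by
      rw [hS]
      exact iInf₂_le p hJp
    exact_mod_cast hle.trans h2
  · intro hdim i hi
    by_cases htop : J • (⊤ : Submodule A G) = ⊤
    · exact subsingleton_H_of_smul_top_eq_top A J G htop i
    · refine Groth.Agent.H2.LCInjective.subsingleton_H_of_lt_depth J n G htop ?_ i hi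
      rw [hS]
      refine le_iInf₂ fun p hJp => ?_
      by_cases hp : p ∈ Module.support A G
      · have h1 := hdim p hJp hp
        rw [hdepthCM p hp] at h1
        exact_mod_cast h1
      · rw [Module.mem_support_iff, not_nontrivial_iff_subsingleton] at hp
        have : LocCoh.depth (Localization.AtPrime p.asIdeal)
            (LocalizedModule p.asIdeal.primeCompl G) = ⊤ :=
          Groth.Agent.H29.CML.depth_eq_top_of_subsingleton _
        rw [this]
        exact le_top

end Groth.Agent.S5171
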