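import Groth.Statements.S5172
import Mathlib
import Groth.Agent.H81.RelCodim

set_option autoImplicit false
universe u
open LocCoh

namespace Groth.Agent.S5172

/-- Let A be a Noetherian ring which is a quotient of a regular ring, I an ideal, M a finite A-module
and n ≥ 0; c(p) = codim(V(p) ∩ V(I), V(p)). Then depth M_p > n − c(p) for all primes p ⊉ I if and
only if depth M_p ≥ n for all primes p ⊉ I with c(p) = 1. -/
theorem result (R : Type u) [CommRing R] [IsRegularRing R] (A : Type u) [CommRing A] [IsNoetherianRing A] (π : R →+* A) (hπ : Function.Surjective π) (I : Ideal A) (M : Type u) [AddCommGroup M] [Module A M] [Module.Finite A M] (n : ℕ) : (∀ p : PrimeSpectrum A, ¬ I ≤ p.asIdeal → (n : ℕ∞) < LocCoh.depth (Localization.AtPrime p.asIdeal) (LocalizedModule p.asIdeal.primeCompl M) + SGA2.relCodim I p) ↔ (∀ p : PrimeSpectrum A, ¬ I ≤ p.asIdeal → SGA2.relCodim I p = 1 → (n : ℕ∞) ≤ LocCoh.depth (Localization.AtPrime p.asIdeal) (LocalizedModule p.asIdeal.primeCompl M)) := by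
  constructor
  · intro h p hp hc
    have h1 := h p hp
    rw [hc] at h1
    exact Order.le_of_lt_add_one h1
  · intro H p hp
    set d := LocCoh.depth (Localization.AtPrime p.asIdeal)
      (LocalizedModule p.asIdeal.primeCompl M) with hd
    by_cases hemp : IsEmpty {q : PrimeSpectrum A // p ≤ q ∧ I ≤ q.asIdeal}
    · have : SGA2.relCodim I p = ⊤ := by
        unfold SGA2.relCodim
        exact iInf_of_empty _
      rw [this, add_top]
      exact ENat.natCast_lt_top n
    rw [not_isEmpty_iff] at hemp
    obtain ⟨⟨q, hpq, hIq⟩, hq⟩ := ENat.exists_eq_iInf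
      (fun q : {q : PrimeSpectrum A // p ≤ q ∧ I ≤ q.asIdeal} =>
        Order.height (⟨q.1, q.2.1⟩ : Set.Ici p))
    have hc : SGA2.relCodim I p = Order.height (⟨q, hpq⟩ : Set.Ici p) := hq.symm
    have hc1 := Groth.Agent.H81.RelCodim.one_le_relCodim I p hp
    cases hcv : SGA2.relCodim I p with
    | top =>
      rw [add_top]
      exact ENat.natCast_lt_top n
    | coe c =>
      rw [hcv] at hc1 hc
      have hc1' : 1 ≤ c := by exact_mod_cast hc1
      obtain ⟨m, rfl⟩ : ∃ m, c = m + 1 := ⟨c - 1, by omega⟩
      have hpq' : p < q := lt_of_le_of_ne hpq (fun h => hp (h ▸ hIq))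
      obtain ⟨p', hpp', hp'q, hcov⟩ := Groth.Agent.H81.RelCodim.exists_covBy p q hpq'
      -- the height of `p'` above `p` is at most `m`
      have hhp' : Order.height (⟨p', hpp'⟩ : Set.Ici p) ≤ (m : ℕ∞) := by
        have h1 := Order.height_add_one_le
          (show (⟨p', hpp'⟩ : Set.Ici p) < ⟨q, hpq⟩ from hp'q)
        rw [← hc] at h1
        have h2 : Order.height (⟨p', hpp'⟩ : Set.Ici p) + 1 ≤ (m : ℕ∞) + 1 := by
          exact_mod_cast h1
        exact (ENat.add_le_add_iff_right ENat.one_ne_top).mp h2
      -- `p'` does not contain `I`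
      have hp'I : ¬ I ≤ p'.asIdeal := by
        intro hIp'
        have h1 := Groth.Agent.H81.RelCodim.relCodim_le I p p' hpp' hIp'
        rw [hcv] at h1
        have h2 := h1.trans hhp'
        have : m + 1 ≤ m := by exact_mod_cast h2
        omega
      -- `c(p') = 1`
      have hcp' : SGA2.relCodim I p' = 1 := by
        apply le_antisymm
        · refine (Groth.Agent.H81.RelCodim.relCodim_le I p' q hp'q.le hIq).trans ?_
          have : Order.height (⟨q, hp'q.le⟩ : Set.Ici p') ≤ ((1 : ℕ) : ℕ∞) := by
            rw [Order.height_le_coe_iff]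
            rintro ⟨r, hr⟩ hrq
            have hreq : r = p' := hcov r hr hrq
            subst hreq
            have hmin : IsMin (⟨r, hr⟩ : Set.Ici r) := by
              intro x _
              exact x.2
            rw [Order.height_eq_zero.mpr hmin]
            exact zero_lt_one
          exact_mod_cast this
        · exact Groth.Agent.H81.RelCodim.one_le_relCodim I p' hp'I
      have h3 := H p' hp'I hcp'
      have h4 := Groth.Agent.H72.DepthLocIneq.depth_localization_le M p.asIdeal p'.asIdeal hpp'
      rw [← Groth.Agent.H81.RelCodim.height_Ici_eq p p' hpp'] at h4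
      have h5 : (n : ℕ∞) ≤ d + (m : ℕ∞) := h3.trans (h4.trans (add_le_add_right hhp' _))
      cases hdv : d with
      | top =>
        rw [top_add]
        exact ENat.natCast_lt_top n
      | coe d' =>
        rw [hdv] at h5
        have h6 : n ≤ d' + m := by exact_mod_cast h5
        have : n < d' + (m + 1) := by omega
        exact_mod_cast this

end Groth.Agent.S5172
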