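import Groth.Statements.S5212
import Mathlib

set_option autoImplicit false
universe u
open GrpQ

namespace Groth.Agent.S5212

/-- For `A'` finite and free as an `A`-module, a prime `p` of `A` and `a ∈ A'`, the element `a` belongs
to some prime of `A'` lying over `p` if and only if its norm belongs to `p`. (The published
statement allows `A'` projective of constant rank over `A`; this row takes `A'` free, where the norm
is the determinant of multiplication.) -/
theorem result {A A' : Type u} [CommRing A] [CommRing A'] [Algebra A A']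
    [Module.Free A A'] [Module.Finite A A'] (p : Ideal A) [p.IsPrime] (a : A') :
    (∃ q : Ideal A', q.IsPrime ∧ q.LiesOver p ∧ a ∈ q) ↔ Algebra.norm A a ∈ p := by
  classical
  let Ap := Localization.AtPrime p
  let A'p := Localization (Algebra.algebraMapSubmonoid A' p.primeCompl)
  let b := Module.Free.chooseBasis A A'
  let bp := b.localizationLocalization Ap p.primeCompl A'p
  have : Module.Free Ap A'p := Module.Free.of_basis bp
  have : Module.Finite Ap A'p := Module.Finite.of_basis bp
  have hnorm : Algebra.norm Ap (algebraMap A' A'p a) = algebraMap A Ap (Algebra.norm A a) :=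
    Algebra.norm_localization A p.primeCompl a
  -- unit iff norm unit
  have hunit : IsUnit (algebraMap A' A'p a) ↔ Algebra.norm A a ∉ p := by
    rw [← Ideal.mem_primeCompl_iff, ← IsLocalization.AtPrime.isUnit_to_map_iff Ap p, ← hnorm]
    constructor
    · intro h
      exact h.map (Algebra.norm Ap)
    · intro h
      rw [Algebra.norm_apply, ← LinearMap.isUnit_iff_isUnit_det] at h
      obtain ⟨u, hu⟩ := h
      have h1 : (u : A'p →ₗ[Ap] A'p) (((u⁻¹ : (A'p →ₗ[Ap] A'p)ˣ) : A'p →ₗ[Ap] A'p) 1) = 1 := by
        have h0 : (u : A'p →ₗ[Ap] A'p) * ((u⁻¹ : (A'p →ₗ[Ap] A'p)ˣ) : A'p →ₗ[Ap] A'p) = 1 := by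
          rw [← Units.val_mul, mul_inv_cancel, Units.val_one]
        have := LinearMap.congr_fun h0 1
        rwa [Module.End.mul_apply, Module.End.one_apply] at this
      rw [hu] at h1
      exact IsUnit.of_mul_eq_one _ (by simpa using h1)
  rw [← not_iff_not, ← hunit]
  constructor
  · intro h
    by_contra hnu
    obtain ⟨Q, hQ, haQ⟩ := exists_max_ideal_of_mem_nonunits (mem_nonunits_iff.mpr hnu)
    apply h
    refine ⟨Q.comap (algebraMap A' A'p), inferInstance, ?_, haQ⟩
    constructor
    have hint : (algebraMap Ap A'p).IsIntegral := Algebra.IsIntegral.isIntegral (R := Ap) (A := A'p) |>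
      fun h => algebraMap_isIntegral_iff.mpr ⟨h⟩
    have hmax : (Q.comap (algebraMap Ap A'p)).IsMaximal :=
      Ideal.isMaximal_comap_of_isIntegral_of_isMaximal' _ hint Q
    have h2 : Q.comap (algebraMap Ap A'p) = IsLocalRing.maximalIdeal Ap :=
      IsLocalRing.eq_maximalIdeal hmax
    rw [Ideal.under_def, Ideal.comap_comap, ← IsScalarTower.algebraMap_eq,
      IsScalarTower.algebraMap_eq A Ap A'p, ← Ideal.comap_comap, h2]
    exact (IsLocalization.AtPrime.under_maximalIdeal Ap p).symm
  · rintro hu ⟨q, hq, hqp, haq⟩
    have hdisj : Disjoint (Algebra.algebraMapSubmonoid A' p.primeCompl : Set A') (q : Set A') := by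
      rw [Set.disjoint_left]
      rintro x ⟨s, hs, rfl⟩ hxq
      apply hs
      rw [hqp.over]
      exact hxq
    have hQ := IsLocalization.isPrime_of_isPrime_disjoint
      (Algebra.algebraMapSubmonoid A' p.primeCompl) A'p q hq hdisj
    apply hQ.ne_top
    exact Ideal.eq_top_of_isUnit_mem _ (Ideal.mem_map_of_mem _ haq) hu

end Groth.Agent.S5212
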