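import Groth.Statements.S5213
import Groth.Agent.H26.Avoid

set_option autoImplicit false
universe u
open GrpQ

namespace Groth.Agent.S5213

/-- Let `B` be a local ring with infinite residue field, `A` a semi-local ring, `B → A` a ring map
carrying the maximal ideal of `B` into the Jacobson radical of `A`, `M` a finite free `A`-module and
`N` a `B`-submodule of `M` generating `M` as an `A`-module. Then `N` contains a basis of `M` over
`A`. -/
theorem result {B A M : Type u} [CommRing B] [CommRing A]
    [IsLocalRing B] [Infinite (IsLocalRing.ResidueField B)] [Algebra B A]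
    [Finite (MaximalSpectrum A)]
    (hBA : (IsLocalRing.maximalIdeal B).map (algebraMap B A) ≤ (⊥ : Ideal A).jacobson)
    [AddCommGroup M] [Module A M] [Module B M] [IsScalarTower B A M]
    [Module.Free A M] [Module.Finite A M]
    (N : Submodule B M) (hN : Submodule.span A (N : Set M) = ⊤) :
    ∃ b : Module.Basis (Fin (Module.finrank A M)) A M, ∀ i, b i ∈ N := by
  classical
  rcases subsingleton_or_nontrivial A with hA | hA
  · -- trivial ring
    have : Subsingleton M := Module.subsingleton A M
    refine ⟨Module.Basis.ofRepr (LinearEquiv.ofSubsingleton _ _), fun i => ?_⟩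
    rw [Subsingleton.elim (Module.Basis.ofRepr (LinearEquiv.ofSubsingleton M _) i : M) 0]
    exact N.zero_mem
  set n := Module.finrank A M with hn
  let b : Module.Basis (Fin n) A M := Module.finBasis A M
  -- key claim
  have key : ∀ j ≤ n, ∃ x : Fin n → M, (∀ i : Fin n, i.val < j → x i ∈ N) ∧
      ∀ m : MaximalSpectrum A, ∃ z : Fin n → M,
        (∀ i : Fin n, i.val < j → z i = x i) ∧ b.det z ∉ m.asIdeal := by
    intro j
    induction j with
    | zero =>
      intro _
      refine ⟨b, fun i hi => absurd hi (Nat.not_lt_zero _), fun m => ⟨b, fun _ _ => rfl, ?_⟩⟩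
      rw [Module.Basis.det_self]
      exact fun h => m.isMaximal.ne_top ((Ideal.eq_top_iff_one _).mpr h)
    | succ j ih =>
      intro hj
      obtain ⟨x, hxN, hx⟩ := ih (Nat.le_of_succ_le hj)
      choose z hz hdet using hx
      let jj : Fin n := ⟨j, hj⟩
      let φ : MaximalSpectrum A → M →ₗ[A] A :=
        fun m => (b.det).toMultilinearMap.toLinearMap (z m) jj
      have hφ : ∀ m y, φ m y = b.det (Function.update (z m) jj y) := fun m y => rfl
      let P : MaximalSpectrum A → Submodule B N := fun m =>
        { carrier := {y | φ m y.1 ∈ m.asIdeal}
          add_mem' := by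
            intro y y' hy hy'
            simp only [Set.mem_ofPred_eq, Submodule.coe_add, map_add] at hy hy' ⊢
            exact Ideal.add_mem _ hy hy'
          zero_mem' := by simp
          smul_mem' := by
            intro β y hy
            simp only [Set.mem_ofPred_eq, Submodule.coe_smul] at hy ⊢
            rw [← IsScalarTower.algebraMap_smul A β (y : M), map_smul]
            exact Ideal.mul_mem_left _ _ hy }
      have hP : ∀ m, P m ≠ ⊤ := by
        intro m hPm
        have h1 : ∀ y ∈ Submodule.span A (N : Set M), φ m y ∈ m.asIdeal := by
          intro y hy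
          induction hy using Submodule.span_induction with
          | mem y hy =>
            have : (⟨y, hy⟩ : N) ∈ P m := hPm ▸ Submodule.mem_top
            exact this
          | zero => simp
          | add y y' _ _ h h' => rw [map_add]; exact Ideal.add_mem _ h h'
          | smul a y _ h => rw [map_smul]; exact Ideal.mul_mem_left _ _ h
        apply hdet m
        have := h1 (z m jj) (hN ▸ Submodule.mem_top)
        rwa [hφ, Function.update_eq_self] at this
      obtain ⟨y, hy⟩ := Groth.Agent.H26.exists_forall_notMem_of_infinite_residueField P hP
      refine ⟨Function.update x jj y.1, ?_, fun m => ⟨Function.update (z m) jj y.1, ?_, hy m⟩⟩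
      · intro i hi
        by_cases hij : i = jj
        · subst hij; rw [Function.update_self]; exact y.2
        · rw [Function.update_of_ne hij]
          apply hxN
          have : i.val ≠ j := fun h => hij (Fin.ext h)
          omega
      · intro i hi
        by_cases hij : i = jj
        · subst hij; simp
        · rw [Function.update_of_ne hij, Function.update_of_ne hij]
          apply hz
          have : i.val ≠ j := fun h => hij (Fin.ext h)
          omega
  obtain ⟨x, hxN, hx⟩ := key n le_rfl
  have hdet : IsUnit (b.det x) := by
    by_contra hnu
    obtain ⟨m, hm, hmem⟩ := exists_max_ideal_of_mem_nonunits (mem_nonunits_iff.mpr hnu)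
    obtain ⟨z, hz, hzdet⟩ := hx ⟨m, hm⟩
    have : z = x := funext fun i => hz i i.2
    exact hzdet (this ▸ hmem)
  have hb := (Module.Basis.is_basis_iff_det b).mpr hdet
  exact ⟨Module.Basis.mk hb.1 hb.2.ge, fun i => by
    rw [Module.Basis.mk_apply]; exact hxN i i.2⟩

end Groth.Agent.S5213
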