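import Groth.Statements.S5222
import Mathlib.CategoryTheory.Monoidal.Cartesian.Grp

set_option autoImplicit false
open CategoryTheory CategoryTheory.Limits MonoidalCategory
universe v₁ u₁
open DescCat

namespace Groth.Agent.S5222

open MonObj CartesianMonoidalCategory SemiCartesianMonoidalCategory in
/-- In a cartesian monoidal category with pullbacks: for a homomorphism `f : G ⟶ G'` of group objects
with kernel `K = G ×_{G'} e`, the pair `G × K ⇉ G` given by the projection and by multiplication is
the kernel pair of `f`. -/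
theorem result {C : Type u₁} [Category.{v₁} C]
    [CartesianMonoidalCategory C] [HasPullbacks C]
    {G G' : C} [GrpObj G] [GrpObj G'] (f : G ⟶ G') [IsMonHom f] :
    IsKernelPair f (fst G (pullback f η[G']))
      ((G ◁ pullback.fst f η[G']) ≫ μ[G]) := by
  set K := pullback f η[G'] with hK
  set k : K ⟶ G := pullback.fst f η[G'] with hk
  have hkf : k ≫ f = 1 := by
    rw [hk, pullback.condition, Hom.one_def]
    congr 1
    exact toUnit_unique _ _
  have hmul : (G ◁ k) ≫ μ[G] = fst G K * (snd G K ≫ k) := by
    rw [Hom.mul_def]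
    congr 1
    ext <;> simp
  rw [hmul]
  have w : fst G K ≫ f = (fst G K * (snd G K ≫ k)) ≫ f := by
    rw [MonObj.mul_comp, Category.assoc, hkf, MonObj.comp_one, _root_.mul_one]
  -- the lifted element of the kernel
  have hc : ∀ {W : C} (a b : W ⟶ G), a ≫ f = b ≫ f → (a⁻¹ * b) ≫ f = toUnit W ≫ η[G'] := by
    intro W a b hab
    rw [MonObj.mul_comp, GrpObj.inv_comp, hab, _root_.inv_mul_cancel, Hom.one_def]
  refine ⟨⟨w⟩, ⟨PullbackCone.IsLimit.mk w
    (fun s => lift s.fst (pullback.lift (s.fst⁻¹ * s.snd) (toUnit _) (hc _ _ s.condition))) ?_ ?_ ?_⟩⟩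
  · intro s
    simp
  · intro s
    rw [MonObj.comp_mul, lift_fst, ← Category.assoc, lift_snd, pullback.lift_fst]
    simp
  · intro s m h₁ h₂
    apply CartesianMonoidalCategory.hom_ext
    · simpa using h₁
    · rw [lift_snd]
      refine pullback.hom_ext (f := f) (g := η[G']) ?_ (toUnit_unique _ _)
      rw [pullback.lift_fst, ← h₁, ← h₂, MonObj.comp_mul]
      simp
      rfl

end Groth.Agent.S5222
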