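import Groth.Statements.S5224
import Groth.Agent.H40.QuotShDesc
import Groth.Agent.H40.FpqcTors
import Mathlib.AlgebraicGeometry.Morphisms.LocalFlatDescent
set_option backward.isDefEq.respectTransparency.types false

set_option autoImplicit false
open CategoryTheory CategoryTheory.Limits AlgebraicGeometry
universe u
open GrpQ

namespace Groth.Agent.S5224

/-- For the fppf topology: let `s, t : R ⇉ U` be an equivalence relation of schemes over `S` with `s`
faithfully flat and locally of finite presentation. A morphism `q : U ⟶ Y` over `S` is a faithfully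
flat, locally finitely presented quotient with kernel pair `R` if and only if `q` identifies `h_Y`
with the fppf quotient sheaf `U/R`. -/
theorem result {S : Scheme.{u}} {R U Y : Over S} (s t : R ⟶ U)
    [IsEquivalenceRelation s t]
    [Flat s.left] [Surjective s.left] [LocallyOfFinitePresentation s.left]
    (q : U ⟶ Y) :
    (IsKernelPair q s t ∧ Flat q.left ∧ Surjective q.left ∧ LocallyOfFinitePresentation q.left) ↔
      QuotSh.IsQuotient Scheme.fppfPrecoverage s t q := by
  have hHasIsos : (Scheme.fppfPrecoverage.{u}).HasIsos := by
    unfold Scheme.fppfPrecoverage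
    have : (@Flat ⊓ @LocallyOfFinitePresentation : MorphismProperty Scheme.{u}).ContainsIdentities :=
      ⟨fun X => ⟨inferInstance, inferInstance⟩⟩
    infer_instance
  constructor
  · rintro ⟨hk, hf, hs, hl⟩
    refine Groth.Agent.H40.QuotShLoc.isQuotient_of_isKernelPair _ s t q hk (fun T y => ?_)
    exact Groth.Agent.H40.QuotShLoc.liftSieve_mem_of_cover _ q
      (fun g => Scheme.Hom.singleton_mem_fppfPrecoverage _) y
  · intro h
    have hk := Groth.Agent.H40.QuotShLoc.isKernelPair_of_isQuotient _ s t q h
    obtain ⟨Rc, hRc, hsec⟩ := Groth.Agent.H40.QuotShLoc.exists_presieve_of_liftSieve_mem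
      Scheme.fppfPrecoverage q
      (((Groth.Agent.H40.QuotShLoc.isQuotient_iff _ s t q).1 h).2.1 _ (𝟙 Y))
    have hRc' : Rc ∈ Scheme.fpqcPrecoverage Y.left := Scheme.fppfPrecoverage_le_fpqcPrecoverage _ hRc
    refine ⟨hk, ?_, ?_, ?_⟩
    · exact Groth.Agent.H40.QuotShLoc.prop_of_isKernelPair_of_local_sections s t @Flat
        Groth.Agent.H40.flat_descendsAlong q hk hRc' hsec inferInstance
    · exact Groth.Agent.H40.QuotShLoc.prop_of_isKernelPair_of_local_sections s t @Surjective
        inferInstance q hk hRc' hsec inferInstance
    · exact Groth.Agent.H40.QuotShLoc.prop_of_isKernelPair_of_local_sections s t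
        @LocallyOfFinitePresentation inferInstance q hk hRc' hsec inferInstance

end Groth.Agent.S5224
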