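import Groth.Statements.S5225
import Groth.Agent.H40.QuotShDesc
import Groth.Agent.H40.FpqcTors
import Mathlib.AlgebraicGeometry.Morphisms.LocalFlatDescent
set_option backward.isDefEq.respectTransparency.types false

set_option autoImplicit false
open CategoryTheory CategoryTheory.Limits AlgebraicGeometry
universe u
open GrpQ

namespace Groth.Agent.S5225

/-- For the étale topology: let `s, t : R ⇉ U` be an equivalence relation of schemes over `S` with `s`
étale and surjective. A morphism `q : U ⟶ Y` over `S` is an étale surjective quotient with kernel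
pair `R` if and only if `q` identifies `h_Y` with the étale quotient sheaf `U/R`. -/
theorem result {S : Scheme.{u}} {R U Y : Over S} (s t : R ⟶ U)
    [IsEquivalenceRelation s t] [Etale s.left] [Surjective s.left]
    (q : U ⟶ Y) :
    (IsKernelPair q s t ∧ Etale q.left ∧ Surjective q.left) ↔
      QuotSh.IsQuotient Scheme.etalePrecoverage s t q := by
  have hHasIsos : (Scheme.etalePrecoverage.{u}).HasIsos := by
    unfold Scheme.etalePrecoverage
    infer_instance
  have hComp : (Scheme.etalePrecoverage.{u}).IsStableUnderComposition := by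
    unfold Scheme.etalePrecoverage
    infer_instance
  have hBC : (Scheme.etalePrecoverage.{u}).IsStableUnderBaseChange := by
    unfold Scheme.etalePrecoverage
    infer_instance
  have hle : Scheme.etalePrecoverage.{u} ≤ Scheme.fppfPrecoverage := by
    apply Scheme.precoverage_mono
    intro X Y f hf
    exact ⟨inferInstance, inferInstance⟩
  have hsub : (Scheme.etalePrecoverage.{u}).toGrothendieck.Subcanonical :=
    GrothendieckTopology.Subcanonical.of_le (K := Scheme.fppfTopology)
      (Precoverage.toGrothendieck_mono hle)
  have hsing : ∀ {X Z : Scheme.{u}} (f : X ⟶ Z) [Etale f] [Surjective f],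
      Presieve.singleton f ∈ Scheme.etalePrecoverage Z := by
    intro X Z f _ _
    rw [← Presieve.ofArrows_pUnit.{0}]
    exact (f.cover (P := @Etale) ‹_›).mem₀
  constructor
  · rintro ⟨hk, hf, hs⟩
    refine Groth.Agent.H40.QuotShLoc.isQuotient_of_isKernelPair _ s t q hk (fun T y => ?_)
    exact Groth.Agent.H40.QuotShLoc.liftSieve_mem_of_cover _ q
      (fun g => hsing _) y
  · intro h
    have hk := Groth.Agent.H40.QuotShLoc.isKernelPair_of_isQuotient _ s t q h
    obtain ⟨Rc, hRc, hsec⟩ := Groth.Agent.H40.QuotShLoc.exists_presieve_of_liftSieve_mem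
      Scheme.etalePrecoverage q
      (((Groth.Agent.H40.QuotShLoc.isQuotient_iff _ s t q).1 h).2.1 _ (𝟙 Y))
    have hRc' : Rc ∈ Scheme.fpqcPrecoverage Y.left :=
      Scheme.fppfPrecoverage_le_fpqcPrecoverage _ (hle _ hRc)
    refine ⟨hk, ?_, ?_⟩
    · exact Groth.Agent.H40.QuotShLoc.prop_of_isKernelPair_of_local_sections s t @Etale
        inferInstance q hk hRc' hsec inferInstance
    · exact Groth.Agent.H40.QuotShLoc.prop_of_isKernelPair_of_local_sections s t @Surjective
        inferInstance q hk hRc' hsec inferInstance

end Groth.Agent.S5225
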