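import Groth.Statements.S5226
import Groth.Agent.H26.Shf

set_option autoImplicit false
open CategoryTheory CategoryTheory.Limits
universe w v₁ u₁
open ShfCat

namespace Groth.Agent.S5226

/-- For sheaves of sets on a site with sheafification: if `R ⇉ X` is an equivalence relation with
(universally effective) quotient `X/R` and `Y ⊆ X` is a subsheaf with induced relation `R_Y`, then
the canonical map `Y/R_Y ⟶ X/R` is a monomorphism. Here `R_Y` is built as the iterated pullback of
`R` along `Y ⟶ X` on both sides. -/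
theorem result {C : Type u₁} [Category.{v₁} C]
    (J : GrothendieckTopology C) [HasSheafify J (Type w)]
    {R X Y : Sheaf J (Type w)} {p₁ p₂ : R ⟶ X} (e : UniversallyEffectiveEquivalenceRelation p₁ p₂)
    (ι : Y ⟶ X) [Mono ι]
    [HasCoequalizer (pullback.fst (pullback.fst p₁ ι ≫ p₂) ι ≫ pullback.snd p₁ ι)
      (pullback.snd (pullback.fst p₁ ι ≫ p₂) ι)]
    (g : coequalizer (pullback.fst (pullback.fst p₁ ι ≫ p₂) ι ≫ pullback.snd p₁ ι)
      (pullback.snd (pullback.fst p₁ ι ≫ p₂) ι) ⟶ e.B)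
    (hg : coequalizer.π _ _ ≫ g = ι ≫ e.π) :
    Mono g := by
  have hρ := Groth.Agent.H26.sheaf_UEE_of_epi J
    (coequalizer.π (pullback.fst (pullback.fst p₁ ι ≫ p₂) ι ≫ pullback.snd p₁ ι)
      (pullback.snd (pullback.fst p₁ ι ≫ p₂) ι))
  apply Groth.Agent.H26.mono_of_forall_kernel hρ.uepi g
  intro Z a b hab
  rw [hg] at hab
  have hab' : (a ≫ ι) ≫ e.π = (b ≫ ι) ≫ e.π := by simpa using hab
  have h1 : e.isKernelPair.lift _ _ hab' ≫ p₁ = a ≫ ι := e.isKernelPair.lift_fst _ _ _
  have h2 : e.isKernelPair.lift _ _ hab' ≫ p₂ = b ≫ ι := e.isKernelPair.lift_snd _ _ _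
  have w2 : pullback.lift (e.isKernelPair.lift _ _ hab') a h1 ≫ pullback.fst p₁ ι ≫ p₂ = b ≫ ι := by
    rw [← Category.assoc, pullback.lift_fst, h2]
  have m1 : pullback.lift (pullback.lift (e.isKernelPair.lift _ _ hab') a h1) b w2 ≫
      (pullback.fst (pullback.fst p₁ ι ≫ p₂) ι ≫ pullback.snd p₁ ι) = a := by
    rw [← Category.assoc, pullback.lift_fst, pullback.lift_snd]
  have m2 : pullback.lift (pullback.lift (e.isKernelPair.lift _ _ hab') a h1) b w2 ≫
      pullback.snd (pullback.fst p₁ ι ≫ p₂) ι = b := by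
    rw [pullback.lift_snd]
  calc a ≫ coequalizer.π _ _ = (pullback.lift (pullback.lift (e.isKernelPair.lift _ _ hab') a h1) b w2 ≫
      (pullback.fst (pullback.fst p₁ ι ≫ p₂) ι ≫ pullback.snd p₁ ι)) ≫ coequalizer.π _ _ := by rw [m1]
    _ = (pullback.lift (pullback.lift (e.isKernelPair.lift _ _ hab') a h1) b w2 ≫
      pullback.snd (pullback.fst p₁ ι ≫ p₂) ι) ≫ coequalizer.π _ _ := by
        rw [Category.assoc, coequalizer.condition, ← Category.assoc]
    _ = b ≫ coequalizer.π _ _ := by rw [m2]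

end Groth.Agent.S5226
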