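import Groth.Statements.S5231
-- import your own Groth.Agent.* helpers here

set_option autoImplicit false
open CategoryTheory
universe w v₁ u₁
open ShfCat

namespace Groth.Agent.S5231

/-- (iii) ⇒ (i): a morphism `f` of sheaves of sets on a site is a monomorphism (resp. an epimorphism) as
soon as, for every object `S`, the morphisms `T ⟶ S` over which the restriction of `f` to the
induced site `C/T` is a monomorphism (resp. an epimorphism) form a covering sieve. No sheafification
is assumed. (The published statement also treats isomorphisms in the same way; that case is left out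
here.) -/
theorem result {C : Type u₁} [Category.{v₁} C]
    (J : GrothendieckTopology C) {F G : Sheaf J (Type w)} (f : F ⟶ G) :
    ((∀ S : C, ∃ R : Sieve S, R ∈ J S ∧ ∀ ⦃T : C⦄ (g : T ⟶ S), R g →
        Mono ((J.overPullback (Type w) T).map f)) → Mono f) ∧
    ((∀ S : C, ∃ R : Sieve S, R ∈ J S ∧ ∀ ⦃T : C⦄ (g : T ⟶ S), R g →
        Epi ((J.overPullback (Type w) T).map f)) → Epi f) := by
  constructor
  · intro h
    refine ⟨fun {H} a b hab => ?_⟩
    ext S s
    obtain ⟨R, hR, hmono⟩ := h S.unop
    apply (((isSheaf_iff_isSheaf_of_type _ _).1 F.2).isSeparated _ hR).ext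
    intro T g hg
    have := hmono g hg
    have e : (J.overPullback (Type w) T).map a = (J.overPullback (Type w) T).map b := by
      rw [← cancel_mono ((J.overPullback (Type w) T).map f), ← Functor.map_comp,
        ← Functor.map_comp, hab]
    have e' := ConcreteCategory.congr_hom
      (congrArg (fun t => t.hom.app (Opposite.op (Over.mk (𝟙 T)))) e) (H.obj.map g.op s)
    have h₁ := ConcreteCategory.congr_hom (a.hom.naturality g.op) s
    have h₂ := ConcreteCategory.congr_hom (b.hom.naturality g.op) s
    dsimp at h₁ h₂ ⊢
    rw [← h₁, ← h₂]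
    exact e'
  · intro h
    refine ⟨fun {H} a b hab => ?_⟩
    ext S s
    obtain ⟨R, hR, hepi⟩ := h S.unop
    apply (((isSheaf_iff_isSheaf_of_type _ _).1 H.2).isSeparated _ hR).ext
    intro T g hg
    have := hepi g hg
    have e : (J.overPullback (Type w) T).map a = (J.overPullback (Type w) T).map b := by
      rw [← cancel_epi ((J.overPullback (Type w) T).map f), ← Functor.map_comp,
        ← Functor.map_comp, hab]
    have e' := ConcreteCategory.congr_hom
      (congrArg (fun t => t.hom.app (Opposite.op (Over.mk (𝟙 T)))) e) (G.obj.map g.op s)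
    have h₁ := ConcreteCategory.congr_hom (a.hom.naturality g.op) s
    have h₂ := ConcreteCategory.congr_hom (b.hom.naturality g.op) s
    dsimp at h₁ h₂ ⊢
    rw [← h₁, ← h₂]
    exact e'

end Groth.Agent.S5231
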