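import Groth.Statements.S5232
import Groth.Agent.H65.FppfDescAffHom
import Groth.Agent.H49.AlgSpQuot
-- import your own Groth.Agent.* helpers here

set_option autoImplicit false
open CategoryTheory CategoryTheory.Limits AlgebraicGeometry
universe u
open GrpQ

namespace Groth.Agent.S5232

/-- On the big fppf site of a scheme `S`, in the case where the local representing objects are affine
over the cover (so that the canonical descent datum is effective): if `Z` is an fppf sheaf over `S`
and, for an fppf cover `S' ⟶ S`, the sheaf `Z ×_S S'` is represented over `S'` by a scheme affine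
over `S'`, then `Z` is represented by a scheme affine over `S`. -/
theorem result {S S' : Scheme.{u}} (f : S' ⟶ S)
    [Flat f] [Surjective f] [LocallyOfFinitePresentation f]
    (Z : QuotSh.Sh Scheme.fppfPrecoverage S)
    (T' : Over S) (a : T' ⟶ Over.mk f) [IsAffineHom a.left]
    (φ : QuotSh.rep Scheme.fppfPrecoverage T' ≅ Z ⨯ QuotSh.rep Scheme.fppfPrecoverage (Over.mk f))
    (hφ : φ.hom ≫ prod.snd = QuotSh.repMap Scheme.fppfPrecoverage a) :
    ∃ T : Over S, IsAffineHom T.hom ∧ Nonempty (QuotSh.rep Scheme.fppfPrecoverage T ≅ Z) := by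
  have hT : IsTerminal ((AlgSp.yon S).obj (Over.mk (𝟙 S))) :=
    IsTerminal.isTerminalObj (AlgSp.yon S) _ Over.mkIdTerminal
  let Y : Over S := Over.mk (𝟙 S)
  let c : Over.mk f ⟶ Y := Over.homMk f (by simp [Y])
  let H : AlgSp.Sp S := QuotSh.rep Scheme.fppfPrecoverage (Over.mk f)
  let ρ : H ≅ (AlgSp.yon S).obj (Over.mk f) :=
    QuotSh.repIsoUliftYoneda Scheme.fppfPrecoverage (Over.mk f)
  let ρT : QuotSh.rep Scheme.fppfPrecoverage T' ≅ (AlgSp.yon S).obj T' :=
    QuotSh.repIsoUliftYoneda Scheme.fppfPrecoverage T'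
  have sq0 : IsPullback (prod.fst : Z ⨯ H ⟶ Z) prod.snd (hT.from Z) (hT.from H) :=
    IsPullback.of_is_product (prodIsProd Z H) hT
  have hnat : ρT.hom ≫ (AlgSp.yon S).map a = QuotSh.repMap Scheme.fppfPrecoverage a ≫ ρ.hom :=
    (Groth.Agent.H49.repMap_comp_repIso_hom a).symm
  have sq : IsPullback (ρT.inv ≫ φ.hom ≫ prod.fst) ((AlgSp.yon S).map a) (hT.from Z)
      ((AlgSp.yon S).map c) := by
    refine IsPullback.of_iso sq0 (φ.symm ≪≫ ρT) (Iso.refl _) ρ (Iso.refl _) ?_ ?_ ?_ ?_
    · simp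
      rfl
    · change prod.snd ≫ ρ.hom = (φ.inv ≫ ρT.hom) ≫ (AlgSp.yon S).map a
      rw [Category.assoc, hnat, ← hφ]
      simp
      rfl
    · simp
    · exact hT.hom_ext _ _
  obtain ⟨G, e, γ, -, hγ⟩ := Groth.Agent.H65.FppfDescAffHom.exists_rep_of_fppf_descent
    (hT.from Z) (fun _ : PUnit.{u + 1} => Over.mk f) (fun _ => T') (fun _ => c)
    (fun _ => (inferInstance : Flat f)) (fun _ => (inferInstance : LocallyOfFinitePresentation f))
    (fun y => ⟨PUnit.unit, (inferInstance : Surjective f).surj y⟩) (fun _ => a)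
    (fun _ => inferInstance) (fun _ => ρT.inv ≫ φ.hom ≫ prod.fst) (fun _ => sq)
  refine ⟨G, ?_, ⟨QuotSh.repIsoUliftYoneda Scheme.fppfPrecoverage G ≪≫ e⟩⟩
  have hw : γ.left = G.hom := by
    have := Over.w γ
    simpa [Y] using this
  rw [← hw]
  exact hγ

end Groth.Agent.S5232
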