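import Groth.Statements.S5234
import Groth.Agent.H40.Torsor
import Groth.Agent.H40.FlatDesc
import Mathlib.AlgebraicGeometry.Morphisms.LocalFlatDescent

set_option autoImplicit false
open CategoryTheory CategoryTheory.Limits AlgebraicGeometry MonoidalCategory
universe u
open RedSub

namespace Groth.Agent.S5234

open CartesianMonoidalCategory SemiCartesianMonoidalCategory in
/-- (ii) ⇔ (iii), for schemes with the fppf topology: let `G` be an `S`-group scheme which is faithfully
flat and locally of finite presentation over `S`, acting on `X` so that `X` is formally principal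
homogeneous. Then `X` is a torsor (its structure map is faithfully flat and locally of finite
presentation) if and only if `X` has a point over some faithfully flat, locally finitely presented
`S' ⟶ S`. -/
theorem result {S : Scheme.{u}} {G X : Over S} [GrpObj G]
    (a : AlgGrp.Action G X)
    [Flat G.hom] [Surjective G.hom] [LocallyOfFinitePresentation G.hom]
    (hX : IsIso (lift a.act (snd G X))) :
    RedSub.IsTorsor a ↔
      ∃ S' : Over S, Surjective S'.hom ∧ Flat S'.hom ∧ LocallyOfFinitePresentation S'.hom ∧
        Nonempty (S' ⟶ X) := by
  constructor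
  · rintro ⟨h1, h2, h3, -⟩
    exact ⟨X, h1, h2, h3, ⟨𝟙 X⟩⟩
  · rintro ⟨S', h1, h2, h3, ⟨x⟩⟩
    have := h1
    have := h2
    have := h3
    haveI : IsIso (lift a.act (snd G X)) := hX
    have hΨ : IsIso (lift ((G ◁ x) ≫ a.act) (snd G S')) :=
      Groth.Agent.H40.isIso_twisted_shear a.act x
    set Ψ := lift ((G ◁ x) ≫ a.act) (snd G S') with hΨdef
    have hsnd : Ψ ≫ snd X S' = snd G S' := by simp [hΨdef]
    have hsnd' : snd X S' = inv Ψ ≫ snd G S' := by
      rw [← hsnd, IsIso.inv_hom_id_assoc]
    have hleft : (snd X S').left = (inv Ψ).left ≫ (snd G S').left := by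
      rw [hsnd']; rfl
    haveI : IsIso (inv Ψ).left :=
      Functor.map_isIso (Over.forget S) (inv Ψ)
    have hpbG : IsPullback (fst G S').left (snd G S').left G.hom S'.hom := by
      simpa using IsPullback.of_hasPullback G.hom S'.hom
    have hpbX : IsPullback (snd X S').left (fst X S').left S'.hom X.hom := by
      simpa using (IsPullback.of_hasPullback X.hom S'.hom).flip
    have hs1 : Surjective (snd G S').left :=
      MorphismProperty.of_isPullback (P := @Surjective) hpbG inferInstance
    have hs2 : Flat (snd G S').left :=
      MorphismProperty.of_isPullback (P := @Flat) hpbG inferInstance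
    have hs3 : LocallyOfFinitePresentation (snd G S').left :=
      MorphismProperty.of_isPullback (P := @LocallyOfFinitePresentation) hpbG inferInstance
    have ht1 : Surjective (snd X S').left := by rw [hleft]; infer_instance
    have ht2 : Flat (snd X S').left := by rw [hleft]; infer_instance
    have ht3 : LocallyOfFinitePresentation (snd X S').left := by rw [hleft]; infer_instance
    have hQ : (@Surjective ⊓ @Flat ⊓ @LocallyOfFinitePresentation : MorphismProperty Scheme.{u})
        S'.hom := ⟨⟨h1, h2⟩, h3⟩
    refine ⟨?_, ?_, ?_, hX⟩
    · exact MorphismProperty.of_isPullback_of_descendsAlong (P := @Surjective)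
        (Q := @Surjective ⊓ @Flat ⊓ @LocallyOfFinitePresentation) hpbX hQ ht1
    · -- flatness: descend along the flat surjection `X ⊗ S' ⟶ X`
      have hf1 : Flat (fst X S').left :=
        MorphismProperty.of_isPullback (P := @Flat) hpbX inferInstance
      have hf2 : Surjective (fst X S').left :=
        MorphismProperty.of_isPullback (P := @Surjective) hpbX inferInstance
      have hcomp : (fst X S').left ≫ X.hom = (snd X S').left ≫ S'.hom := hpbX.w.symm
      haveI : Flat ((fst X S').left ≫ X.hom) := by rw [hcomp]; infer_instance
      exact Groth.Agent.H40.flat_of_flat_comp (fst X S').left X.hom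
    · exact MorphismProperty.of_isPullback_of_descendsAlong (P := @LocallyOfFinitePresentation)
        (Q := @Surjective ⊓ @Flat ⊓ @LocallyOfFinitePresentation) hpbX hQ ht3

end Groth.Agent.S5234
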