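import Groth.Statements.S5236
import Groth.Agent.H40.QuotGrp

set_option autoImplicit false
open CategoryTheory CategoryTheory.Limits AlgebraicGeometry MonoidalCategory
universe u
open RedSub

namespace Groth.Agent.S5236

/-- For group schemes and the fppf topology: if `i : H ⟶ G` is a normal monomorphism of `S`-group
schemes and `q : G ⟶ Q` exhibits `Q` as the fppf quotient `G/H`, then there is exactly one
group-scheme structure on `Q` over `S` making `q` a homomorphism. -/
theorem result {S : Scheme.{u}} {H G Q : Over S} [GrpObj H] [hG : GrpObj G]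
    (i : H ⟶ G) [IsMonHom i] [Mono i] (hn : AlgGrp.IsNormalHom i)
    (q : G ⟶ Q) (hq : RedSub.IsQuotient i q) :
    ∃! s : GrpObj Q, @IsMonHom (Over S) _ _ G Q hG.toMonObj s.toMonObj q := by
  obtain ⟨h1, h2, h3, sq⟩ := hq
  have hcov : Groth.Agent.H40.IsCovFP q := ⟨h2, h1, h3⟩
  obtain ⟨s, hs⟩ := Groth.Agent.H40.exists_grpObj_of_quotient i hn q hcov sq
  refine ⟨s, hs, ?_⟩
  intro s' hs'
  have hepi2 : Epi (q ⊗ₘ q) := (hcov.tensorHom hcov).epi
  apply GrpObj.ext
  apply MonObj.ext
  rw [← cancel_epi (q ⊗ₘ q)]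
  have e1 := @IsMonHom.mul_hom (Over S) _ _ G Q hG.toMonObj s.toMonObj q hs
  have e2 := @IsMonHom.mul_hom (Over S) _ _ G Q hG.toMonObj s'.toMonObj q hs'
  exact e2.symm.trans e1

end Groth.Agent.S5236
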