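import Groth.Statements.S5238
import Groth.Agent.H99.FppfQF

set_option autoImplicit false
open CategoryTheory AlgebraicGeometry
universe w u
open GrpQ

namespace Groth.Agent.S5238

/-- A presheaf of sets on schemes is a sheaf for the fppf topology (the topology generated by jointly
surjective families of flat morphisms locally of finite presentation) if and only if it is a Zariski
sheaf and satisfies the sheaf condition for every single morphism of affine schemes `T ⟶ S` which is
flat, surjective, locally of finite presentation and locally quasi-finite. (Between affine schemes
such a morphism is faithfully flat, of finite presentation and quasi-finite; that these quasi-finite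
covers suffice rests on the existence of quasi-finite flat quasi-sections of flat surjective
morphisms locally of finite presentation.) -/
theorem result (F : Scheme.{u}ᵒᵖ ⥤ Type w) :
    Presheaf.IsSheaf Scheme.fppfTopology F ↔
      Presheaf.IsSheaf Scheme.zariskiTopology F ∧
        ∀ (T S : Scheme.{u}) [IsAffine T] [IsAffine S] (f : T ⟶ S)
          [Flat f] [Surjective f] [LocallyOfFinitePresentation f] [LocallyQuasiFinite f],
          Presieve.IsSheafFor F (Presieve.singleton f) := by
  rw [isSheaf_iff_isSheaf_of_type, isSheaf_iff_isSheaf_of_type]
  constructor
  · intro hF
    refine ⟨Presieve.isSheaf_of_le _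
      (Precoverage.toGrothendieck_mono Scheme.zariskiPrecoverage_le_fppfPrecoverage) hF, ?_⟩
    intro T S _ _ f _ _ _ _
    rw [Presieve.isSheafFor_iff_generate]
    exact hF _ (Precoverage.generate_mem_toGrothendieck f.singleton_mem_fppfPrecoverage)
  · rintro ⟨hzar, haff⟩
    refine Presieve.isSheaf_of_le _ Groth.Agent.H99.FppfQF.fppfTopology_le ?_
    rw [isSheaf_type_propQCTopology_iff]
    refine ⟨hzar, ?_⟩
    intro R S f hf hsurj
    have : Flat (Spec.map f) := hf.1.1
    have : LocallyOfFinitePresentation (Spec.map f) := hf.1.2
    have : LocallyQuasiFinite (Spec.map f) := hf.2
    exact haff _ _ (Spec.map f)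

end Groth.Agent.S5238
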