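import Groth.Statements.S5239
import Groth.Agent.H15.MTH9

set_option autoImplicit false
universe u
open TensorProduct SGA3b
open SGA3b

namespace Groth.Agent.S5239

/-- Existence of the lifting; case of an affine target group: Let R be a ring, I a nilpotent ideal of R,
H = Spec A an R-group of multiplicative type and G = Spec C an affine R-group with C smooth over R.
Then every homomorphism of (R/I)-groups H₀ ⟶ G₀ between the reductions modulo I, i.e. every
bialgebra map φ₀ : C₀ → A₀ over R/I, is the reduction of a homomorphism of R-groups H ⟶ G: there is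
a bialgebra map φ : C → A over R with φ₀ (1 ⊗ c) = 1 ⊗ φ c for all c. (The published statement
allows any S-group G smooth over the base; this row takes G affine.) (Affine group schemes over an
affine base are taken in Hopf-algebra form; base change is the tensor product; a homomorphism of
groups Spec A ⟶ Spec C is a bialgebra map C → A.) -/
theorem result (R : Type u) [CommRing R] (I : Ideal R) (hI : IsNilpotent I)
    (A : Type u) [CommRing A] [HopfAlgebra R A] (hH : IsMultType R A)
    (C : Type u) [CommRing C] [HopfAlgebra R C] [Algebra.Smooth R C]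
    (φ₀ : ((R ⧸ I) ⊗[R] C) →ₐc[R ⧸ I] ((R ⧸ I) ⊗[R] A)) :
    ∃ φ : C →ₐc[R] A, ∀ c : C, φ₀ ((1 : R ⧸ I) ⊗ₜ[R] c) = (1 : R ⧸ I) ⊗ₜ[R] (φ c) := by
  obtain ⟨I₀, h1, hinv⟩ := Groth.Agent.H15.MTH.exists_integral hH
  let θ₁ : C →ₐ[R] (R ⧸ I) ⊗[R] A :=
    ((φ₀ : (R ⧸ I) ⊗[R] C →ₐ[R ⧸ I] (R ⧸ I) ⊗[R] A).restrictScalars R).comp
      Algebra.TensorProduct.includeRight
  have hco : Groth.Agent.H26.IsCoalgMapOver (R ⧸ I) θ₁.toLinearMap :=
    Groth.Agent.H26.IsCoalgMapOver.comp (S₁ := R ⧸ I)
      (Groth.Agent.H26.isCoalgMapOver_of_coalgHom (φ₀.toCoalgHom))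
      (Groth.Agent.H26.isCoalgMapOver_inc (R ⧸ I) C)
  have hθ₁ := Groth.Agent.H15.MTH.isHomMod_of_isCoalgMapOver I θ₁ hco
  obtain ⟨φ, hφ⟩ := Groth.Agent.H15.MTH.exists_bialgHom_of_nilpotent hI I₀ h1 hinv θ₁ hθ₁
  exact ⟨φ, fun c => hφ c⟩

end Groth.Agent.S5239
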