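import Groth.Statements.S5254
import Groth.Agent.H15.MTSub3
import Groth.Agent.H15.MTSub4

set_option autoImplicit false
universe u
open TensorProduct SGA3b
open SGA3b

namespace Groth.Agent.S5254

/-- Over a local base, where an open neighbourhood of the closed point is the whole base: Let R be a
local ring with maximal ideal 𝔪, H = Spec A an R-group of multiplicative type and of finite type,
and K = Spec (A/J) a closed subgroup scheme of H (J a Hopf ideal) with A/J of finite presentation
over R. If the closed fibre of K is the unit group, i.e. J + 𝔪A = Ker ε + 𝔪A with ε the counit, then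
K is the unit group: J = Ker ε. (Affine group schemes over an affine base are taken in Hopf-algebra
form; base change is the tensor product; a homomorphism of groups Spec A ⟶ Spec C is a bialgebra map
C → A.) -/
theorem result (R : Type u) [CommRing R] [IsLocalRing R]
    (A : Type u) [CommRing A] [HopfAlgebra R A] (hft : Algebra.FiniteType R A) (hH : IsMultType R A)
    (J : Ideal A) [J.IsHopfIdeal R] (hK : Algebra.FinitePresentation R (A ⧸ J))
    (hs : J ⊔ Ideal.map (algebraMap R A) (IsLocalRing.maximalIdeal R) =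
      RingHom.ker (Bialgebra.counitAlgHom R A) ⊔ Ideal.map (algebraMap R A) (IsLocalRing.maximalIdeal R)) :
    J = RingHom.ker (Bialgebra.counitAlgHom R A) := by
  classical
  have hJε : J ≤ RingHom.ker (Bialgebra.counitAlgHom R A) := by
    intro a ha
    exact Submodule.IsCoideal.counit_eq_zero (I := J.restrictScalars R) ha
  apply le_antisymm hJε
  obtain ⟨R', hR', hAlg, N, hN, Lc, hFF, hchart⟩ :=
    Groth.Agent.H15.MTC.exists_ff_chart_of_isLocalRing R A hH
  have hs' : RingHom.ker (Bialgebra.counitAlgHom R A) ≤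
      J ⊔ Ideal.map (algebraMap R A) (IsLocalRing.maximalIdeal R) := by
    rw [hs]; exact le_sup_left
  have htors : ∀ n : ℕ, 0 < n →
      RingHom.ker (Bialgebra.counitAlgHom R A) ≤ J ⊔ SGA3b.torsionIdeal R A n := fun n hn =>
    Groth.Agent.H15.MTSub.ker_counit_le_sup_torsionIdeal n
      (Groth.Agent.H15.MTC.finite_quot_torsionIdeal hchart hft n hn) J hJε hs'
  -- the augmentation of `A ⧸ J`
  let εB : (A ⧸ J) →ₐ[R] R := Bialgebra.counitAlgHom R (A ⧸ J)
  have hεB : ∀ a : A, εB (Ideal.Quotient.mk J a) = Bialgebra.counitAlgHom R A a := fun a => rfl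
  haveI : Algebra.FinitePresentation R (A ⧸ J) := hK
  have hfg : (RingHom.ker εB).FG := by
    have hsurj : Function.Surjective εB := by
      intro r
      exact ⟨algebraMap R (A ⧸ J) r, by rw [AlgHom.commutes]; rfl⟩
    exact Algebra.FinitePresentation.ker_fG_of_surjective εB hsurj
  have hle : RingHom.ker εB ≤
      Ideal.map (algebraMap R (A ⧸ J)) (IsLocalRing.maximalIdeal R) := by
    intro b hb
    obtain ⟨a, rfl⟩ := Ideal.Quotient.mk_surjective b
    have ha : a ∈ RingHom.ker (Bialgebra.counitAlgHom R A) := by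
      rw [RingHom.mem_ker] at hb ⊢
      rw [← hεB]; exact hb
    obtain ⟨j, hj, y, hy, rfl⟩ := Submodule.mem_sup.mp (hs' ha)
    have hj0 : Ideal.Quotient.mk J j = 0 := Ideal.Quotient.eq_zero_iff_mem.mpr hj
    rw [map_add, hj0, zero_add]
    have h1 : Ideal.Quotient.mk J y ∈ Ideal.map (Ideal.Quotient.mk J)
        (Ideal.map (algebraMap R A) (IsLocalRing.maximalIdeal R)) := Ideal.mem_map_of_mem _ hy
    rw [Ideal.map_map] at h1
    exact h1
  obtain ⟨e, he_idem, he0, hex⟩ := Groth.Agent.H15.MTSub.exists_idem_of_ker_le εB hfg hle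
  have he : e = 0 := by
    by_contra hne
    obtain ⟨L, hLf, hLa, hLa', hLt, φ, hφe⟩ :=
      Groth.Agent.H15.MTSub.exists_field_point (R := R) R' e he_idem hne
    have hd : Groth.Agent.H15.MTC.HasDChart R A R' N := ⟨Lc, hchart.coalg, hchart.bc⟩
    obtain ⟨E⟩ := ((hd.map L).baseChange L).nonempty_equiv
    have h0 := Groth.Agent.H15.MTSub.tmul_eq_zero_of_field L hft N E J htors e he0
    let Φ : L ⊗[R] (A ⧸ J) →ₐ[L] L :=
      Algebra.TensorProduct.lift (AlgHom.id _ _) φ (fun _ _ => Commute.all _ _)
    have h1 := congrArg Φ h0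
    rw [map_zero] at h1
    change Φ ((1 : L) ⊗ₜ[R] e) = 0 at h1
    rw [Algebra.TensorProduct.lift_tmul, map_one, one_mul, hφe] at h1
    exact one_ne_zero h1
  intro a ha
  have h1 : Ideal.Quotient.mk J a ∈ RingHom.ker εB := by
    rw [RingHom.mem_ker, hεB]; exact ha
  have h2 := hex _ h1
  rw [he, zero_mul] at h2
  exact Ideal.Quotient.eq_zero_iff_mem.mp h2

end Groth.Agent.S5254
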