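import Groth.Statements.S5255
import Groth.Agent.H82.CentMT

set_option autoImplicit false
open CategoryTheory MonoidalCategory CartesianMonoidalCategory MonObj GrpObj AlgebraicGeometry
universe u
open SGA3x

namespace Groth.Agent.S5255

/-- Let K be an S-group locally of finite type over S whose fibres are connected, and i : H ⟶ K a
subgroup scheme of multiplicative type and of finite type which is normal in K. Then H is central in
K: for every S-scheme X, every X-point of K commutes with (the image of) every X-point of H. -/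
theorem result {S : Scheme.{u}} (K H : Over S) [GrpObj K] [GrpObj H]
    [LocallyOfFiniteType K.hom] (hconn : ∀ s : S, ConnectedSpace ↥(Limits.pullback K.hom (S.fromSpecResidueField s)))
    (i : H ⟶ K) [IsMonHom i] [Mono i] (hH : SGA3x.IsMultTypeFT H) (hn : AlgGrp.IsNormalHom i) :
    ∀ (X : Over S) (k : X ⟶ K) (h : X ⟶ H), k * (h ≫ i) = (h ≫ i) * k := by
  intro X k h
  let c : K ⊗ H ⟶ H := (hn (K ⊗ H) (fst K H) (snd K H)).choose
  have hc : fst K H * (snd K H ≫ i) * (fst K H)⁻¹ = c ≫ i :=
    (hn (K ⊗ H) (fst K H) (snd K H)).choose_spec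
  have hlift : ∀ (T : Over S) (x : T ⟶ K) (h : T ⟶ H),
      (lift x h ≫ c) ≫ i = x * (h ≫ i) * x⁻¹ := by
    intro T x h
    rw [Category.assoc, ← hc, MonObj.comp_mul, MonObj.comp_mul, GrpObj.comp_inv, lift_fst,
      ← Category.assoc, lift_snd]
  have hc1 : ∀ (T : Over S) (x : T ⟶ K) (h h' : T ⟶ H),
      lift x (h * h') ≫ c = (lift x h ≫ c) * (lift x h' ≫ c) := by
    intro T x h h'
    rw [← cancel_mono i, MonObj.mul_comp, hlift, hlift, hlift, MonObj.mul_comp]
    group
  have hc2 : ∀ (T : Over S) (h : T ⟶ H), lift 1 h ≫ c = h := by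
    intro T h
    rw [← cancel_mono i, hlift]
    group
  have hcs := Groth.Agent.H82.CentMT.main K H hconn hH c hc1 hc2
  have h1 := hlift X k h
  rw [hcs, lift_snd] at h1
  calc k * (h ≫ i) = (k * (h ≫ i) * k⁻¹) * k := by group
    _ = (h ≫ i) * k := by rw [← h1]

end Groth.Agent.S5255
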