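import Groth.Statements.S5268
import Groth.Agent.H42.EtConstFin2
import Groth.Agent.H1.GeomUnibranchFlat
import Groth.Agent.H17.StalkComponents2
import Groth.Agent.H12.Topo

set_option autoImplicit false
open CategoryTheory MonoidalCategory CartesianMonoidalCategory MonObj GrpObj AlgebraicGeometry
universe u
open SGA3x

namespace Groth.Agent.S5268

/-- Let S be a locally Noetherian scheme all of whose local rings are geometrically unibranch, and P a
quasi-isotrivial twisted constant S-scheme (etale-locally on S isomorphic to a constant scheme).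
Then every connected component of P is open, and as an open subscheme of P it is finite over S. -/
theorem result {S : Scheme.{u}} [IsLocallyNoetherian S]
    (hS : ∀ s : S, CAlg2.IsGeomUnibranch (S.presheaf.stalk s))
    (P : Over S) (hP : TwC.IsTwConst TwC.Topology.etale P) (x : P.left) :
    ∃ U : P.left.Opens, (U : Set P.left) = connectedComponent x ∧ IsFinite (U.ι ≫ P.hom) := by
  obtain ⟨h1, h2, h3⟩ := Groth.Agent.H42.TwConstMain.main P hP
  have : IsSeparated P.hom := h1
  have : Etale P.hom := h2
  have hLN : IsLocallyNoetherian P.left := LocallyOfFiniteType.isLocallyNoetherian P.hom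
  have hX : ∀ y : P.left, ∃ U ∈ nhds y, TopologicalSpace.NoetherianSpace U := by
    intro y
    obtain ⟨W, hW, hxW, -⟩ := exists_isAffineOpen_mem_and_subset (x := y) (U := ⊤) trivial
    have := IsLocallyNoetherian.component_noetherian ⟨W, hW⟩
    exact ⟨W, W.2.mem_nhds hxW, noetherianSpace_of_isAffineOpen W hW⟩
  have hLC : LocallyConnectedSpace P.left :=
    Groth.Agent.H12.locallyConnectedSpace_of_locallyNoetherian hX
  have hopen : IsOpen (connectedComponent x) := isOpen_connectedComponent
  have hclosed : IsClosed (connectedComponent x) := isClosed_connectedComponent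
  -- connected components are irreducible
  have hprime : ∀ y : P.left, (nilradical (P.left.presheaf.stalk y)).IsPrime := fun y =>
    Groth.Agent.H1.GeomUnibranchFlat.isPrime_nilradical_stalk_of_etale P.hom y (hS _)
  have hdisj := (Groth.Agent.H17.pairwiseDisjoint_irreducibleComponents_iff P.left).mpr hprime
  have htfae := (Groth.Agent.H12.irreducibleComponents_tfae hX).out 3 2
  have hirr : IsIrreducible (connectedComponent x) := htfae.mp hdisj x
  obtain ⟨ξ, hξ⟩ := QuasiSober.sober hirr hclosed
  let U : P.left.Opens := ⟨connectedComponent x, hopen⟩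
  refine ⟨U, rfl, ?_⟩
  have hcl : IsClosedImmersion U.ι :=
    IsClosedImmersion.of_isPreimmersion _ (by rw [Scheme.Opens.range_ι]; exact hclosed)
  have hpc : PreconnectedSpace U :=
    Subtype.preconnectedSpace (isPreconnected_connectedComponent (x := x))
  have hξU : ξ ∈ U := hξ.mem
  have hLQF : LocallyQuasiFinite P.hom :=
    Groth.Agent.H42.FpqcTwConst.locallyQuasiFinite_of_etale _
  refine Groth.Agent.H42.EtConstFin2.main_of_preconnected P hP U.ι ⟨ξ, hξU⟩ ?_
  -- the fibre over the image of the generic point is a single point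
  apply Set.Subsingleton.finite
  have key : ∀ a : U, a ∈ (U.ι ≫ P.hom) ⁻¹' {(U.ι ≫ P.hom) ⟨ξ, hξU⟩} → a = ⟨ξ, hξU⟩ := by
    intro a ha
    have ha' : P.hom (a : P.left) = P.hom ξ := ha
    have hspec : ξ ⤳ (a : P.left) := by
      rw [specializes_iff_mem_closure, hξ.def]
      exact a.2
    have hd := (Scheme.Hom.isDiscrete_preimage_singleton P.hom (P.hom ξ)).to_subtype
    have hs2 : (⟨ξ, rfl⟩ : P.hom ⁻¹' {P.hom ξ}) ⤳ ⟨(a : P.left), ha'⟩ :=
      (subtype_specializes_iff _ _).mpr hspec
    have := congrArg Subtype.val hs2.eq
    exact Subtype.ext this.symm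
  intro a ha b hb
  rw [key a ha, key b hb]

end Groth.Agent.S5268
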