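import Groth.Statements.S5278
import Groth.Agent.H99.ClopenFibre

set_option autoImplicit false
open CategoryTheory AlgebraicGeometry
universe u
open SGA3x

namespace Groth.Agent.S5278

/-- Let X be a connected scheme, f : X' ⟶ X a finite etale morphism and x a point of X. Then every
connected component of X' meets the fibre of f over x; equivalently the map from the connected
components of the fibre (or of the geometric fibre) to those of X' is surjective. -/
theorem result {X X' : Scheme.{u}} [ConnectedSpace X] (f : X' ⟶ X)
    [IsFinite f] [Etale f] (x : X) (c : X') :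
    ∃ x' : X', f.base x' = x ∧ x' ∈ connectedComponent c := by
  have hopen : IsOpenMap f.base := f.isOpenMap
  have hclosed : IsClosedMap f.base := f.isClosedMap
  have hfin : (f.base ⁻¹' {x}).Finite := Scheme.Hom.finite_preimage_singleton f x
  refine Groth.Agent.H99.ClopenFibre.exists_mem_connectedComponent f.base x hfin ?_ c
  intro W hW hWne
  have hcl : IsClopen (f.base '' W) := ⟨hclosed W hW.isClosed, hopen W hW.isOpen⟩
  have huniv : f.base '' W = Set.univ := hcl.eq_univ (hWne.image _)
  have hx : x ∈ f.base '' W := huniv ▸ Set.mem_univ x
  obtain ⟨x', hx', hfx'⟩ := hx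
  exact ⟨x', hx', hfx'⟩

end Groth.Agent.S5278
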