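import Groth.Statements.S5335
import Groth.Agent.H90.GrpBase
-- import your own Groth.Agent.* helpers here

set_option autoImplicit false
universe u
open CategoryTheory CategoryTheory.Limits MonoidalCategory CartesianMonoidalCategory MonObj GrpObj AlgebraicGeometry
open SGA3

namespace Groth.Agent.S5335

/-- Let A be a local artinian ring and f : X' → X, g : Y' → Y two quasi-compact dominant morphisms of
schemes over A. Then the product morphism f ×_A g : X' ×_A Y' → X ×_A Y is dominant (and
quasi-compact). -/
theorem result (A : Type u) [CommRing A] [IsArtinianRing A] [IsLocalRing A] (X X' Y Y' : Over (Spec (CommRingCat.of A)))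
    (f : X' ⟶ X) (g : Y' ⟶ Y) [QuasiCompact f.left] [QuasiCompact g.left]
    (hf : DenseRange f.left.base) (hg : DenseRange g.left.base) :
    DenseRange (f ⊗ₘ g).left.base ∧ QuasiCompact (f ⊗ₘ g).left := by
  refine ⟨Groth.Agent.H90.Base.denseRange_tensorHom
    (fun h => Groth.Agent.H90.universallyOpen_of_artinian_local A h) f g hf hg, ?_⟩
  rw [Over.tensorHom_left]
  exact MorphismProperty.pullbackMap (P := @QuasiCompact) (inferInstance : QuasiCompact f.left)
    (inferInstance : QuasiCompact g.left) (Over.w f).symm (Over.w g).symm

end Groth.Agent.S5335
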