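import Groth.Statements.S5348
import Groth.Agent.H38.HomogBC

set_option autoImplicit false
universe u
open CategoryTheory CategoryTheory.Limits MonoidalCategory CartesianMonoidalCategory MonObj GrpObj AlgebraicGeometry
open SGA3

namespace Groth.Agent.S5348

/-- Let G be a group scheme over a field k (not assumed of finite type) acting on a k-scheme X so that
the morphism G ×_k X → X ×_k X, (g, x) ↦ (gx, x), is surjective. (i) For every field extension K of
k, every point of X ⊗_k K lies in exactly one irreducible component of X ⊗_k K. (iv) If x is a
k-rational point of X and C the irreducible component of X containing x, then for every field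
extension K of k the inverse image of C in X ⊗_k K is irreducible. -/
theorem result (k : Type u) [Field k] (G X : Over (Spec (CommRingCat.of k))) [GrpObj G] (a : AlgGrp.Action G X) (hΦ : Surjective (lift a.act (snd G X)).left) :
    (∀ (K : Type u) [Field K] [Algebra k K] (z : ↥(pullback X.hom (Spec.map (CommRingCat.ofHom (algebraMap k K))))),
      ∃! C, C ∈ irreducibleComponents ↥(pullback X.hom (Spec.map (CommRingCat.ofHom (algebraMap k K)))) ∧ z ∈ C) ∧
    (∀ (x : 𝟙_ (Over (Spec (CommRingCat.of k))) ⟶ X) (pt : ↥(𝟙_ (Over (Spec (CommRingCat.of k)))).left) (C : Set X.left),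
      C ∈ irreducibleComponents ↥X.left → x.left.base pt ∈ C →
      ∀ (K : Type u) [Field K] [Algebra k K],
        IsIrreducible ((pullback.fst X.hom (Spec.map (CommRingCat.ofHom (algebraMap k K)))).base ⁻¹' C)) := by
  constructor
  · intro K _ _ z
    exact Groth.Agent.H38.HomogBC.existsUnique_irreducibleComponent
      (a.bc (Spec.map (CommRingCat.ofHom (algebraMap k K))))
      (Groth.Agent.H38.HomogBC.surjective_bc (Spec.map (CommRingCat.ofHom (algebraMap k K)))
        a hΦ) z
  · intro x pt C hC hxC K _ _
    obtain ⟨G₀, hgrp, incl, hmon, -, -, hrange, hgi, hc⟩ :=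
      Groth.Agent.H38.GrpConnComp.exists_identityComponent k G
    have hh : irreducibleComponent (Groth.Agent.H38.GrpComp.unitPt k G) ⊆
        Set.range ⇑incl.left := by
      rw [hrange, Groth.Agent.H38.GrpConnComp.connectedComponent_unit_eq]
    have h1 : C = Set.range ⇑(incl ≫ a.orbitMap x).left := by
      rw [Groth.Agent.H38.HomogBC.irreducibleComponent_eq_orb a hΦ incl hh hC hxC]
      rw [Groth.Agent.H38.HomogRat.orb_rational]
      ext v
      simp only [Set.mem_image, Set.mem_range, exists_exists_eq_and, Over.comp_left,
        Scheme.Hom.comp_apply]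
    rw [h1]
    exact Groth.Agent.H38.HomogRat.isIrreducible_preimage_range (incl ≫ a.orbitMap x) K

end Groth.Agent.S5348
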