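import Groth.Statements.S5350
import Groth.Agent.H38.HomogOpen

set_option autoImplicit false
universe u
open CategoryTheory CategoryTheory.Limits MonoidalCategory CartesianMonoidalCategory MonObj GrpObj AlgebraicGeometry
open SGA3

namespace Groth.Agent.S5350

/-- Let G be a group scheme over a field k (not assumed of finite type) acting on a k-scheme X so that G
×_k X → X ×_k X, (g, x) ↦ (gx, x), is surjective; let C⁰ be an irreducible component of G containing
the unit point and U an open subset of X. Let C⁰·U be the image under the action of the set of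
points of G ×_k X whose projections lie in C⁰ and in U. Then (i) C⁰·U is open in X and equals the
union of the irreducible components of X whose generic point lies in U; (ii) if U is retrocompact in
X then C⁰·U is the closure of U (so is open and closed). -/
theorem result (k : Type u) [Field k] (G X : Over (Spec (CommRingCat.of k))) [GrpObj G] (a : AlgGrp.Action G X) (hΦ : Surjective (lift a.act (snd G X)).left)
    (pt : ↥(𝟙_ (Over (Spec (CommRingCat.of k)))).left) (C0 : Set G.left) (hC0 : C0 ∈ irreducibleComponents ↥G.left)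
    (he : η[G].left.base pt ∈ C0) (U : X.left.Opens) :
    letI V : Set X.left := a.act.left.base '' {z : ↥(G ⊗ X).left | (fst G X).left.base z ∈ C0 ∧ (snd G X).left.base z ∈ U}
    IsOpen V ∧ V = ⋃₀ {Z : Set X.left | Z ∈ irreducibleComponents ↥X.left ∧ ∃ ξ ∈ U, closure {ξ} = Z} ∧
    (IsRetrocompact (U : Set X.left) → V = closure (U : Set X.left)) := by
  obtain ⟨G₀, hgrp, incl, hmon, -, -, hrange, hgi, hc⟩ :=
    Groth.Agent.H38.GrpConnComp.exists_identityComponent k G
  have hh : irreducibleComponent (Groth.Agent.H38.GrpComp.unitPt k G) ⊆ Set.range ⇑incl.left := by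
    rw [hrange, Groth.Agent.H38.GrpConnComp.connectedComponent_unit_eq]
  have hC0' : C0 = Set.range ⇑incl.left := by
    rw [hrange, Groth.Agent.H38.GrpConnComp.connectedComponent_unit_eq]
    refine Groth.Agent.H38.GrpComp.eq_of_mem_of_mem k G hC0
      (irreducibleComponent_mem_irreducibleComponents _) _ he ?_
    rw [Groth.Agent.H38.GrpComp.unit_left_apply]
    exact mem_irreducibleComponent
  have hV : a.act.left.base '' {z : ↥(G ⊗ X).left | (fst G X).left.base z ∈ C0 ∧
      (snd G X).left.base z ∈ U} = Groth.Agent.H38.ActCalc.orb a incl (U : Set ↥X.left) := by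
    rw [Groth.Agent.H38.HomogOpen.orb_eq_image, hC0']
    rfl
  change IsOpen (a.act.left.base '' {z : ↥(G ⊗ X).left | (fst G X).left.base z ∈ C0 ∧
      (snd G X).left.base z ∈ U}) ∧
    a.act.left.base '' {z : ↥(G ⊗ X).left | (fst G X).left.base z ∈ C0 ∧
      (snd G X).left.base z ∈ U} =
      ⋃₀ {Z : Set X.left | Z ∈ irreducibleComponents ↥X.left ∧ ∃ ξ ∈ U, closure {ξ} = Z} ∧
    (IsRetrocompact (U : Set X.left) → a.act.left.base '' {z : ↥(G ⊗ X).left |
      (fst G X).left.base z ∈ C0 ∧ (snd G X).left.base z ∈ U} = closure (U : Set X.left))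
  rw [hV]
  refine ⟨Groth.Agent.H38.ActCalc.isOpen_orb a incl U.2,
    Groth.Agent.H38.HomogOpen.orb_opens_eq_sUnion a incl hΦ hh U, ?_⟩
  intro hU
  exact subset_antisymm (Groth.Agent.H38.HomogOpen.orb_opens_subset_closure a incl hΦ hh U)
    (Groth.Agent.H38.HomogOpen.closure_subset_orb_opens a incl hΦ hh U hU)

end Groth.Agent.S5350
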