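import Groth.Statements.S5353
import Groth.Agent.H38.GrpArtinQuot

set_option autoImplicit false
universe u
open CategoryTheory CategoryTheory.Limits MonoidalCategory CartesianMonoidalCategory MonObj GrpObj AlgebraicGeometry
open SGA3

namespace Groth.Agent.S5353

/-- Let A be a local artinian ring, G an A-group scheme which is flat and locally of finite type, i : G⁰
→ G an open subgroup scheme whose image is the connected component of the unit (the neutral
component), and p : G → Q a homomorphism of A-group schemes which is surjective, flat and locally of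
finite presentation with kernel G⁰ (Q is the quotient of G by G⁰). Then Q is etale over A. -/
theorem result (A : Type u) [CommRing A] [IsArtinianRing A] [IsLocalRing A] (G0 G Q : Over (Spec (CommRingCat.of A))) [GrpObj G0] [GrpObj G] [GrpObj Q]
    [Flat G.hom] [LocallyOfFiniteType G.hom] (i : G0 ⟶ G) [IsMonHom i] [IsOpenImmersion i.left]
    (pt : ↥(𝟙_ (Over (Spec (CommRingCat.of A)))).left) (hi : Set.range i.left.base = connectedComponent (η[G].left.base pt))
    (p : G ⟶ Q) [IsMonHom p] [Surjective p.left] [Flat p.left] [LocallyOfFinitePresentation p.left]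
    (hK : AlgGrp.IsKernel i p) : Etale Q.hom := by
  have hsub : Subsingleton ↥(Spec (CommRingCat.of A)) := by
    change Subsingleton (PrimeSpectrum A)
    refine ⟨fun p q => ?_⟩
    have hp : p.asIdeal.IsMaximal := IsArtinianRing.isMaximal_of_isPrime p.asIdeal
    have hq : q.asIdeal.IsMaximal := IsArtinianRing.isMaximal_of_isPrime q.asIdeal
    ext1
    rw [IsLocalRing.eq_maximalIdeal hp, IsLocalRing.eq_maximalIdeal hq]
  have hne : Nonempty ↥(Spec (CommRingCat.of A)) := ⟨pt⟩
  have hlfp : LocallyOfFinitePresentation G.hom := by
    rw [HasRingHomProperty.iff_appLE (P := @LocallyOfFinitePresentation)]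
    intro U V e
    haveI : IsNoetherianRing Γ(Spec (CommRingCat.of A), U.1) :=
      IsLocallyNoetherian.component_noetherian U
    exact RingHom.FinitePresentation.of_finiteType.mp (G.hom.finiteType_appLE U.2 V.2 e)
  exact Groth.Agent.H38.GrpArtinQuot.etale_quotient G0 G Q i p hK

end Groth.Agent.S5353
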