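import Groth.Statements.S5357
import Groth.Agent.H40.CD.EqLocus
import Groth.Agent.H90.GrpUnitSection

set_option autoImplicit false
universe u
open CategoryTheory CategoryTheory.Limits MonoidalCategory CartesianMonoidalCategory MonObj GrpObj AlgebraicGeometry
open SGA3

namespace Groth.Agent.S5357

/-- Let G be a group scheme over a field k, X a k-scheme and u, v : X → G two morphisms of k-schemes.
Then the transporter of u into v, the subfunctor of G whose points with values in S' are the g such
that g u(x) g⁻¹ = v(x) for every S'' → S' and every point x of X with values in S'', is represented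
by a closed subscheme of G. (For u = v this says that the centralizer of u is represented by a
closed subscheme of G; that it is a subgroup scheme is not stated here.) -/
theorem result (k : Type u) [Field k] (G X : Over (Spec (CommRingCat.of k))) [GrpObj G]
    (u v : X ⟶ G) :
    ∃ (T : Over (Spec (CommRingCat.of k))) (t : T ⟶ G), IsClosedImmersion t.left ∧
      ∀ (S' : Over (Spec (CommRingCat.of k))) (g : S' ⟶ G), (∃ z : S' ⟶ T, z ≫ t = g) ↔
        ∀ (S'' : Over (Spec (CommRingCat.of k))) (s : S'' ⟶ S') (x : S'' ⟶ X), (s ≫ g) * (x ≫ u) * (s ≫ g)⁻¹ = x ≫ v := by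
  haveI : IsSeparated G.hom := Groth.Agent.H90.isSeparated_of_discrete _ G
  obtain ⟨W, i₀, hi₀, hW⟩ := Groth.Agent.H40.CD.exists_closed_eqLocus X G G
    ((snd X G * (fst X G ≫ u)) * (snd X G)⁻¹) (fst X G ≫ v)
  refine ⟨Over.mk (i₀ ≫ G.hom), Over.homMk i₀, hi₀, fun S' g => ?_⟩
  have h1 : (∀ (S'' : Over (Spec (CommRingCat.of k))) (s : S'' ⟶ S') (x : S'' ⟶ X),
      (s ≫ g) * (x ≫ u) * (s ≫ g)⁻¹ = x ≫ v) ↔
      ((X ◁ g) ≫ ((snd X G * (fst X G ≫ u)) * (snd X G)⁻¹) = (X ◁ g) ≫ (fst X G ≫ v)) := by
    rw [MonObj.comp_mul, MonObj.comp_mul, GrpObj.comp_inv, whiskerLeft_fst_assoc,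
      whiskerLeft_snd, whiskerLeft_fst_assoc]
    constructor
    · intro h
      exact h (X ⊗ S') (snd X S') (fst X S')
    · intro h S'' s x
      have := congrArg (fun φ => lift x s ≫ φ) h
      simp only [MonObj.comp_mul, GrpObj.comp_inv, lift_fst_assoc, lift_snd_assoc] at this
      exact this
  rw [h1, hW]
  constructor
  · rintro ⟨z, rfl⟩
    exact ⟨z.left, rfl⟩
  · rintro ⟨w, hw⟩
    refine ⟨Over.homMk w ?_, ?_⟩
    · have := Over.w g
      dsimp at this ⊢
      rw [← Category.assoc, hw, this]
    · ext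
      exact hw

end Groth.Agent.S5357
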