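import Groth.Statements.S5358
import Groth.Agent.H40.CD.FieldLocus
import Groth.Agent.H40.CD.SubGrp
import Groth.Agent.H90.GrpImmClosed

set_option autoImplicit false
universe u
open CategoryTheory CategoryTheory.Limits MonoidalCategory CartesianMonoidalCategory MonObj GrpObj AlgebraicGeometry
open SGA3

namespace Groth.Agent.S5358

/-- Let G be a group scheme over a field k, y' : Y' → G an immersion and y : Y → G a closed immersion.
(ii) The transporter of Y' into Y, whose points with values in S' are the g such that conjugation by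
g carries every point of Y' (after any base change S'' → S') into Y, is represented by a closed
subscheme of G; if y' is also a closed immersion, so is the strict transporter (g Y' g⁻¹ = Y
functorially). (iii) For every subgroup scheme h : H → G (a homomorphism which is an immersion), the
normalizer of H in G is represented by a closed subscheme of G. -/
theorem result (k : Type u) [Field k] (G Y Y' : Over (Spec (CommRingCat.of k))) [GrpObj G]
    (y : Y ⟶ G) [IsClosedImmersion y.left] (y' : Y' ⟶ G) [IsImmersion y'.left] :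
    (∃ (T : Over (Spec (CommRingCat.of k))) (t : T ⟶ G), IsClosedImmersion t.left ∧
      ∀ (S' : Over (Spec (CommRingCat.of k))) (g : S' ⟶ G), (∃ z : S' ⟶ T, z ≫ t = g) ↔
        ∀ (S'' : Over (Spec (CommRingCat.of k))) (s : S'' ⟶ S') (x : S'' ⟶ Y'),
          ∃ x' : S'' ⟶ Y, (s ≫ g) * (x ≫ y') * (s ≫ g)⁻¹ = x' ≫ y) ∧
    (IsClosedImmersion y'.left →
      ∃ (T : Over (Spec (CommRingCat.of k))) (t : T ⟶ G), IsClosedImmersion t.left ∧
      ∀ (S' : Over (Spec (CommRingCat.of k))) (g : S' ⟶ G), (∃ z : S' ⟶ T, z ≫ t = g) ↔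
        ((∀ (S'' : Over (Spec (CommRingCat.of k))) (s : S'' ⟶ S') (x : S'' ⟶ Y'),
          ∃ x' : S'' ⟶ Y, (s ≫ g) * (x ≫ y') * (s ≫ g)⁻¹ = x' ≫ y) ∧
        (∀ (S'' : Over (Spec (CommRingCat.of k))) (s : S'' ⟶ S') (x' : S'' ⟶ Y),
          ∃ x : S'' ⟶ Y', (s ≫ g)⁻¹ * (x' ≫ y) * (s ≫ g) = x ≫ y'))) ∧
    (∀ (H : Over (Spec (CommRingCat.of k))) [GrpObj H] (h : H ⟶ G) [IsMonHom h] [IsImmersion h.left],
      ∃ (N : Over (Spec (CommRingCat.of k))) (_ : GrpObj N) (n : N ⟶ G), IsClosedImmersion n.left ∧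
        Red.IsNormalizerOf h n) := by
  classical
  -- general facts
  have hcm₁ : ∀ {A B : Over (Spec (CommRingCat.of k))} (b : B ⟶ G)
      {S' S'' : Over (Spec (CommRingCat.of k))} (g : S' ⟶ G) (s : S'' ⟶ S') (x : S'' ⟶ B),
      lift x (s ≫ g) ≫ ((snd B G) * (fst B G ≫ b) * (snd B G)⁻¹) =
        (s ≫ g) * (x ≫ b) * (s ≫ g)⁻¹ := by
    intro A B b S' S'' g s x
    rw [MonObj.comp_mul, MonObj.comp_mul, GrpObj.comp_inv, lift_snd, lift_fst_assoc]
  have hcm₂ : ∀ {B : Over (Spec (CommRingCat.of k))} (b : B ⟶ G)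
      {S' S'' : Over (Spec (CommRingCat.of k))} (g : S' ⟶ G) (s : S'' ⟶ S') (x : S'' ⟶ B),
      lift x (s ≫ g) ≫ ((snd B G)⁻¹ * (fst B G ≫ b) * (snd B G)) =
        (s ≫ g)⁻¹ * (x ≫ b) * (s ≫ g) := by
    intro B b S' S'' g s x
    rw [MonObj.comp_mul, MonObj.comp_mul, GrpObj.comp_inv, lift_snd, lift_fst_assoc]
  -- transporter of `B'` into closed `B`
  have trans₁ : ∀ (B B' : Over (Spec (CommRingCat.of k))) (b : B ⟶ G) (b' : B' ⟶ G)
      [IsClosedImmersion b.left],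
      ∃ (W : Scheme.{u}) (i₀ : W ⟶ G.left), IsClosedImmersion i₀ ∧
        ∀ (S' : Over (Spec (CommRingCat.of k))) (g : S' ⟶ G),
          (∃ w : S'.left ⟶ W, w ≫ i₀ = g.left) ↔
          ∀ (S'' : Over (Spec (CommRingCat.of k))) (s : S'' ⟶ S') (x : S'' ⟶ B'),
            ∃ x' : S'' ⟶ B, (s ≫ g) * (x ≫ b') * (s ≫ g)⁻¹ = x' ≫ b := by
    intro B B' b b' _
    obtain ⟨W, i₀, hi₀, hW⟩ := Groth.Agent.H40.CD.exists_closed_transporter_field G B B'
      ((snd B' G) * (fst B' G ≫ b') * (snd B' G)⁻¹) b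
    refine ⟨W, i₀, hi₀, fun S' g => ?_⟩
    rw [hW]
    constructor
    · intro h S'' s x
      obtain ⟨x', hx'⟩ := h S'' s x
      exact ⟨x', by rw [← hx', hcm₁ (A := G)]⟩
    · intro h S'' s x
      obtain ⟨x', hx'⟩ := h S'' s x
      exact ⟨x', by rw [← hx', hcm₁ (A := G)]⟩
  have trans₂ : ∀ (B B' : Over (Spec (CommRingCat.of k))) (b : B ⟶ G) (b' : B' ⟶ G)
      [IsClosedImmersion b'.left],
      ∃ (W : Scheme.{u}) (i₀ : W ⟶ G.left), IsClosedImmersion i₀ ∧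
        ∀ (S' : Over (Spec (CommRingCat.of k))) (g : S' ⟶ G),
          (∃ w : S'.left ⟶ W, w ≫ i₀ = g.left) ↔
          ∀ (S'' : Over (Spec (CommRingCat.of k))) (s : S'' ⟶ S') (x' : S'' ⟶ B),
            ∃ x : S'' ⟶ B', (s ≫ g)⁻¹ * (x' ≫ b) * (s ≫ g) = x ≫ b' := by
    intro B B' b b' _
    obtain ⟨W, i₀, hi₀, hW⟩ := Groth.Agent.H40.CD.exists_closed_transporter_field G B' B
      ((snd B G)⁻¹ * (fst B G ≫ b) * (snd B G)) b'
    refine ⟨W, i₀, hi₀, fun S' g => ?_⟩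
    rw [hW]
    constructor
    · intro h S'' s x
      obtain ⟨x', hx'⟩ := h S'' s x
      exact ⟨x', by rw [← hx', hcm₂]⟩
    · intro h S'' s x
      obtain ⟨x', hx'⟩ := h S'' s x
      exact ⟨x', by rw [← hx', hcm₂]⟩
  -- strict transporter, both closed
  have strict : ∀ (B B' : Over (Spec (CommRingCat.of k))) (b : B ⟶ G) (b' : B' ⟶ G)
      [IsClosedImmersion b.left] [IsClosedImmersion b'.left],
      ∃ (W : Scheme.{u}) (i₀ : W ⟶ G.left), IsClosedImmersion i₀ ∧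
        ∀ (S' : Over (Spec (CommRingCat.of k))) (g : S' ⟶ G),
          (∃ w : S'.left ⟶ W, w ≫ i₀ = g.left) ↔
          ((∀ (S'' : Over (Spec (CommRingCat.of k))) (s : S'' ⟶ S') (x : S'' ⟶ B'),
            ∃ x' : S'' ⟶ B, (s ≫ g) * (x ≫ b') * (s ≫ g)⁻¹ = x' ≫ b) ∧
          (∀ (S'' : Over (Spec (CommRingCat.of k))) (s : S'' ⟶ S') (x' : S'' ⟶ B),
            ∃ x : S'' ⟶ B', (s ≫ g)⁻¹ * (x' ≫ b) * (s ≫ g) = x ≫ b')) := by
    intro B B' b b' _ _
    obtain ⟨W₁, j₁, hj₁, hW₁⟩ := trans₁ B B' b b'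
    obtain ⟨W₂, j₂, hj₂, hW₂⟩ := trans₂ B B' b b'
    obtain ⟨W, i₀, hi₀, hW⟩ := Groth.Agent.H40.CD.exists_closed_inter j₁ j₂
    refine ⟨W, i₀, hi₀, fun S' g => ?_⟩
    rw [hW, hW₁, hW₂]
  refine ⟨?_, ?_, ?_⟩
  · obtain ⟨W, i₀, hi₀, hW⟩ := trans₁ Y Y' y y'
    refine ⟨Over.mk (i₀ ≫ G.hom), Over.homMk i₀ rfl, hi₀, fun S' g => ?_⟩
    rw [Groth.Agent.H40.CD.over_factors_iff, hW]
  · intro hy'
    obtain ⟨W, i₀, hi₀, hW⟩ := strict Y Y' y y'
    refine ⟨Over.mk (i₀ ≫ G.hom), Over.homMk i₀ rfl, hi₀, fun S' g => ?_⟩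
    rw [Groth.Agent.H40.CD.over_factors_iff, hW]
  · intro H _ h _ _
    haveI : IsClosedImmersion h.left :=
      Groth.Agent.H90.isClosedImmersion_of_isImmersion k H G h
    obtain ⟨W, i₀, hi₀, hW⟩ := strict H H h h
    let N : Over (Spec (CommRingCat.of k)) := Over.mk (i₀ ≫ G.hom)
    let n : N ⟶ G := Over.homMk i₀ rfl
    haveI hmono : Mono n := by
      have h' : Mono ((Over.forget _).map n) := (inferInstance : Mono i₀)
      exact (Over.forget _).mono_of_mono_map h'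
    let P : ∀ ⦃T : Over (Spec (CommRingCat.of k))⦄, (T ⟶ G) → Prop := fun T g =>
      ((∀ (S'' : Over (Spec (CommRingCat.of k))) (s : S'' ⟶ T) (x : S'' ⟶ H),
            ∃ x' : S'' ⟶ H, (s ≫ g) * (x ≫ h) * (s ≫ g)⁻¹ = x' ≫ h) ∧
          (∀ (S'' : Over (Spec (CommRingCat.of k))) (s : S'' ⟶ T) (x' : S'' ⟶ H),
            ∃ x : S'' ⟶ H, (s ≫ g)⁻¹ * (x' ≫ h) * (s ≫ g) = x ≫ h))
    have hrep : ∀ (T : Over (Spec (CommRingCat.of k))) (g : T ⟶ G),
        (∃ z : T ⟶ N, z ≫ n = g) ↔ P g := by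
      intro T g
      rw [Groth.Agent.H40.CD.over_factors_iff, hW]
    obtain ⟨str, hstr⟩ := Groth.Agent.H40.CD.exists_grpObj_of_subfunctor n P hrep
      (by
        refine ⟨fun S'' s x => ⟨x, ?_⟩, fun S'' s x => ⟨x, ?_⟩⟩
        · rw [MonObj.one_eq_one, MonObj.comp_one]; simp
        · rw [MonObj.one_eq_one, MonObj.comp_one]; simp)
      (by
        rintro T a b ⟨ha1, ha2⟩ ⟨hb1, hb2⟩
        refine ⟨fun S'' s x => ?_, fun S'' s x => ?_⟩
        · obtain ⟨x₁, hx₁⟩ := hb1 S'' s x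
          obtain ⟨x₂, hx₂⟩ := ha1 S'' s x₁
          refine ⟨x₂, ?_⟩
          rw [← hx₂, ← hx₁, MonObj.comp_mul]
          group
        · obtain ⟨x₁, hx₁⟩ := ha2 S'' s x
          obtain ⟨x₂, hx₂⟩ := hb2 S'' s x₁
          refine ⟨x₂, ?_⟩
          rw [← hx₂, ← hx₁, MonObj.comp_mul]
          group)
      (by
        rintro T a ⟨ha1, ha2⟩
        refine ⟨fun S'' s x => ?_, fun S'' s x => ?_⟩
        · obtain ⟨x₁, hx₁⟩ := ha2 S'' s x
          refine ⟨x₁, ?_⟩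
          rw [← hx₁, GrpObj.comp_inv]
          group
        · obtain ⟨x₁, hx₁⟩ := ha1 S'' s x
          refine ⟨x₁, ?_⟩
          rw [← hx₁, GrpObj.comp_inv]
          group)
    refine ⟨N, str, n, hi₀, hstr, hmono, fun X g => ?_⟩
    rw [hrep X g]
    constructor
    · rintro ⟨h1, h2⟩ X' x h'
      exact ⟨h1 X' x h', h2 X' x h'⟩
    · intro hh
      exact ⟨fun X' x h' => (hh X' x h').1, fun X' x h' => (hh X' x h').2⟩

end Groth.Agent.S5358
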