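import Groth.Statements.S5369
import Groth.Agent.H40.CD.QuotSep

set_option autoImplicit false
universe u
open CategoryTheory CategoryTheory.Limits MonoidalCategory CartesianMonoidalCategory MonObj GrpObj AlgebraicGeometry
open SGA3

namespace Groth.Agent.S5369

/-- Let u : G' → G be a monomorphism of S-group schemes and p : G → G'' a morphism of S-schemes which is
covering for the fpqc topology (some Z → G'' which is flat, surjective, with every affine open of
G'' the image of a quasi-compact open of Z, factors through p) and such that the square (g, h) ↦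
g·u(h), first projection G ×_S G' → G, p, p is cartesian, so that G'' represents the fpqc quotient
sheaf G/G'. Let ε'' be the composite of the unit section of G with p. Then the square formed by u,
the structure morphism G' → S, p and ε'' is cartesian; u is an immersion; and G'' is separated over
S if and only if u is a closed immersion, if and only if ε'' is a closed immersion. -/
theorem result (S : Scheme.{u}) (G G' G'' : Over S) [GrpObj G] [GrpObj G']
    (u : G' ⟶ G) [IsMonHom u] [Mono u] (p : G ⟶ G'')
    (hcov : (∃ (Z : Scheme.{u}) (q : Z ⟶ G''.left) (r : Z ⟶ G.left), r ≫ p.left = q ∧ Surjective q ∧ Flat q ∧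
        ∀ V : G''.left.Opens, IsAffineOpen V → ∃ W : Z.Opens, IsCompact (W : Set Z) ∧ q.base '' (W : Set Z) = (V : Set G''.left)))
    (hsq : IsPullback ((G ◁ u) ≫ μ[G]) (fst G G') p p) :
    IsPullback u (toUnit G') p (η[G] ≫ p) ∧ IsImmersion u.left ∧
    (IsSeparated G''.hom ↔ IsClosedImmersion u.left) ∧ (IsClosedImmersion u.left ↔ IsClosedImmersion (η[G] ≫ p).left) := by
  obtain ⟨Z, q, r, hr, hqs, hqf, hqc⟩ := hcov
  have hq := Groth.Agent.H40.CD.singleton_mem_fpqcPrecoverage_of_image q hqs hqf hqc
  have sq := Groth.Agent.H40.CD.isPullback_kernel u p hsq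
  refine ⟨sq, Groth.Agent.H40.CD.isImmersion_of_kernel u p sq, ⟨fun hsep => ?_, fun hcl => ?_⟩,
    ⟨fun hcl => ?_, fun hcl => ?_⟩⟩
  · haveI := hsep
    haveI := Groth.Agent.H40.CD.isClosedImmersion_unit_of_isSeparated (G := G) p
    exact Groth.Agent.H40.CD.isClosedImmersion_of_unit u p sq
  · haveI := hcl
    exact Groth.Agent.H40.CD.isSeparated_of_isClosedImmersion u p hsq q r hr hq
  · haveI := hcl
    exact Groth.Agent.H40.CD.isClosedImmersion_unit_of_fpqc u p sq q r hr hq
  · haveI := hcl
    exact Groth.Agent.H40.CD.isClosedImmersion_of_unit u p sq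

end Groth.Agent.S5369
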