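import Groth.Statements.S5370
import Groth.Agent.H40.CD.QuotFlat

set_option autoImplicit false
universe u
open CategoryTheory CategoryTheory.Limits MonoidalCategory CartesianMonoidalCategory MonObj GrpObj AlgebraicGeometry
open SGA3

namespace Groth.Agent.S5370

/-- Let u : G' → G be a monomorphism of S-group schemes and p : G → G'' a morphism of S-schemes which is
covering for the fpqc topology (some Z → G'' which is flat, surjective, with every affine open of
G'' the image of a quasi-compact open of Z, factors through p) and such that the square (g, h) ↦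
g·u(h), first projection G ×_S G' → G, p, p is cartesian, so that G'' represents the fpqc quotient
sheaf G/G'. Then: (ix) if G is reduced, G'' is reduced; (xi) G' is flat over S if and only if p is
flat, and in that case G'' is flat over S if and only if G is flat over S. -/
theorem result (S : Scheme.{u}) (G G' G'' : Over S) [GrpObj G] [GrpObj G']
    (u : G' ⟶ G) [IsMonHom u] [Mono u] (p : G ⟶ G'')
    (hcov : (∃ (Z : Scheme.{u}) (q : Z ⟶ G''.left) (r : Z ⟶ G.left), r ≫ p.left = q ∧ Surjective q ∧ Flat q ∧
        ∀ V : G''.left.Opens, IsAffineOpen V → ∃ W : Z.Opens, IsCompact (W : Set Z) ∧ q.base '' (W : Set Z) = (V : Set G''.left)))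
    (hsq : IsPullback ((G ◁ u) ≫ μ[G]) (fst G G') p p) :
    (IsReduced G.left → IsReduced G''.left) ∧
    (Flat G'.hom ↔ Flat p.left) ∧ (Flat p.left → (Flat G''.hom ↔ Flat G.hom)) := by
  obtain ⟨Z, q, r, hr, hqs, hqf, hqc⟩ := hcov
  have hq := Groth.Agent.H40.CD.singleton_mem_fpqcPrecoverage_of_image q hqs hqf hqc
  have sq := Groth.Agent.H40.CD.isPullback_kernel u p hsq
  haveI hrs : Surjective (r ≫ p.left) := by rw [hr]; exact hqs
  haveI hrf : Flat (r ≫ p.left) := by rw [hr]; exact hqf
  haveI hps : Surjective p.left := Surjective.of_comp r p.left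
  refine ⟨fun hred => ?_, ⟨fun hfl => ?_, fun hfl => ?_⟩, fun hfl => ⟨fun h => ?_, fun h => ?_⟩⟩
  · haveI := hred
    exact Groth.Agent.H40.CD.isReduced_of_flat_surjective_factor r p.left
  · exact Groth.Agent.H40.CD.prop_quot_of_prop_fst u p @Flat Groth.Agent.H40.flat_descendsAlong
      hsq q r hr hq (Groth.Agent.H40.CD.prop_fst_of_prop_hom (G := G) @Flat hfl)
  · exact Groth.Agent.H40.CD.prop_hom_of_prop_quot u p @Flat sq hfl
  · rw [← Over.w p]
    haveI := hfl
    haveI := h
    infer_instance
  · haveI := hfl
    haveI : Flat (p.left ≫ G''.hom) := by rw [Over.w p]; exact h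
    exact Groth.Agent.H40.flat_of_flat_comp p.left G''.hom

end Groth.Agent.S5370
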