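import Groth.Statements.S5371
import Groth.Agent.H40.QuotFP2
import Groth.Agent.H40.FpqcTors
import Groth.Agent.S0115
import Groth.Agent.H53.LfpFppfSource
import Groth.Agent.H53.LftFppfSource2

set_option autoImplicit false
universe u
open CategoryTheory CategoryTheory.Limits MonoidalCategory CartesianMonoidalCategory MonObj GrpObj AlgebraicGeometry
open SGA3

namespace Groth.Agent.S5371

/-- Let u : G' → G be a monomorphism of S-group schemes and p : G → G'' a morphism of S-schemes which is
covering for the fpqc topology (some Z → G'' which is flat, surjective, with every affine open of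
G'' the image of a quasi-compact open of Z, factors through p) and such that the square (g, h) ↦
g·u(h), first projection G ×_S G' → G, p, p is cartesian, so that G'' represents the fpqc quotient
sheaf G/G'. (xii) G' is flat and locally of finite presentation over S if and only if p is
surjective, flat and locally of finite presentation; in that case, if G is locally of finite
presentation (resp. locally of finite type, of finite type, smooth, etale, unramified, locally
quasi-finite) over S, so is G''. (xiii) If G' is flat and of finite presentation over S then p is of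
finite presentation, and G is of finite presentation over S if and only if G'' is. -/
theorem result (S : Scheme.{u}) (G G' G'' : Over S) [GrpObj G] [GrpObj G']
    (u : G' ⟶ G) [IsMonHom u] [Mono u] (p : G ⟶ G'')
    (hcov : (∃ (Z : Scheme.{u}) (q : Z ⟶ G''.left) (r : Z ⟶ G.left), r ≫ p.left = q ∧ Surjective q ∧ Flat q ∧
        ∀ V : G''.left.Opens, IsAffineOpen V → ∃ W : Z.Opens, IsCompact (W : Set Z) ∧ q.base '' (W : Set Z) = (V : Set G''.left)))
    (hsq : IsPullback ((G ◁ u) ≫ μ[G]) (fst G G') p p) :
    ((Flat G'.hom ∧ LocallyOfFinitePresentation G'.hom) ↔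
      (Surjective p.left ∧ Flat p.left ∧ LocallyOfFinitePresentation p.left)) ∧
    (Flat p.left → LocallyOfFinitePresentation p.left →
      (LocallyOfFinitePresentation G.hom → LocallyOfFinitePresentation G''.hom) ∧
      (LocallyOfFiniteType G.hom → LocallyOfFiniteType G''.hom) ∧
      (LocallyOfFiniteType G.hom → QuasiCompact G.hom → QuasiCompact G''.hom) ∧
      (Smooth G.hom → Smooth G''.hom) ∧ (Etale G.hom → Etale G''.hom) ∧
      (FormallyUnramified G.hom → LocallyOfFinitePresentation G.hom → FormallyUnramified G''.hom) ∧
      (LocallyQuasiFinite G.hom → LocallyOfFiniteType G.hom → LocallyQuasiFinite G''.hom)) ∧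
    (Flat G'.hom → LocallyOfFinitePresentation G'.hom → QuasiCompact G'.hom → QuasiSeparated G'.hom →
      QuasiCompact p.left ∧ QuasiSeparated p.left ∧ LocallyOfFinitePresentation p.left ∧
      ((LocallyOfFinitePresentation G.hom ∧ QuasiCompact G.hom ∧ QuasiSeparated G.hom) ↔
        (LocallyOfFinitePresentation G''.hom ∧ QuasiCompact G''.hom ∧ QuasiSeparated G''.hom))) := by
  have hc : Groth.Agent.H40.IsFpqcCov p := Groth.Agent.H40.isFpqcCov_of_image p hcov
  have hsurj : Surjective p.left := by
    obtain ⟨Z, q, r, hr, hs, -, -⟩ := hcov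
    subst hr
    exact Surjective.of_comp r p.left
  have hGw : G.hom = p.left ≫ G''.hom := (Over.w p).symm
  have hLFP : Flat p.left → LocallyOfFinitePresentation p.left →
      LocallyOfFinitePresentation G.hom → LocallyOfFinitePresentation G''.hom := by
    intro hfl hfp h
    have : LocallyOfFinitePresentation (p.left ≫ G''.hom) := by rw [← hGw]; exact h
    exact Groth.Agent.H53.locallyOfFinitePresentation_of_fppf_family G''.hom
      (fun _ : Unit => G.left) (fun _ => p.left) (fun _ => hfl) (fun _ => hfp) (fun _ => this)
      (fun y => ⟨(), p.left.surjective y⟩)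
  have hLFT : Flat p.left → LocallyOfFinitePresentation p.left →
      LocallyOfFiniteType G.hom → LocallyOfFiniteType G''.hom := by
    intro hfl hfp h
    have : LocallyOfFiniteType (p.left ≫ G''.hom) := by rw [← hGw]; exact h
    exact Groth.Agent.H53.locallyOfFiniteType_of_fppf_family G''.hom
      (fun _ : Unit => G.left) (fun _ => p.left) (fun _ => hfl) (fun _ => hfp) (fun _ => this)
      (fun y => ⟨(), p.left.surjective y⟩)
  have hQC : QuasiCompact G.hom → QuasiCompact G''.hom := by
    intro h
    have : QuasiCompact (p.left ≫ G''.hom) := by rw [← hGw]; exact h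
    exact Groth.Agent.H40.QuotFP.quasiCompact_of_surjective_comp p.left G''.hom
  refine ⟨⟨?_, ?_⟩, ?_, ?_⟩
  · rintro ⟨h1, h2⟩
    exact ⟨hsurj,
      Groth.Agent.H40.QuotFP.prop_p u p hsq hc @Flat Groth.Agent.H40.flat_descendsAlong h1,
      Groth.Agent.H40.QuotFP.prop_p u p hsq hc @LocallyOfFinitePresentation inferInstance h2⟩
  · rintro ⟨-, h1, h2⟩
    exact ⟨Groth.Agent.H40.QuotFP.prop_hom_of_p u p hsq @Flat h1,
      Groth.Agent.H40.QuotFP.prop_hom_of_p u p hsq @LocallyOfFinitePresentation h2⟩
  · intro hfl hfp
    refine ⟨hLFP hfl hfp, hLFT hfl hfp, fun _ h2 => hQC h2, ?_, ?_, ?_, ?_⟩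
    · intro h
      have : Smooth (p.left ≫ G''.hom) := by rw [← hGw]; exact h
      exact Groth.Agent.S0115.result p.left G''.hom
    · intro h
      have : Etale (p.left ≫ G''.hom) := by rw [← hGw]; exact h
      exact Groth.Agent.H53.etale_of_fppf_comp p.left G''.hom
    · intro h1 h2
      have h3 : LocallyOfFinitePresentation G''.hom := hLFP hfl hfp h2
      have h4 : LocallyOfFiniteType G''.hom := inferInstance
      have : FormallyUnramified (p.left ≫ G''.hom) := by rw [← hGw]; exact h1
      have : LocallyOfFinitePresentation (p.left ≫ G''.hom) := by rw [← hGw]; exact h2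
      exact Groth.Agent.H40.QuotFP.formallyUnramified_of_fppf_comp p.left G''.hom
    · intro h1 h2
      have h4 : LocallyOfFiniteType G''.hom := hLFT hfl hfp h2
      have : LocallyQuasiFinite (p.left ≫ G''.hom) := by rw [← hGw]; exact h1
      exact Groth.Agent.H53.locallyQuasiFinite_of_fppf_comp p.left G''.hom
  · intro h1 h2 h3 h4
    have hpfl : Flat p.left :=
      Groth.Agent.H40.QuotFP.prop_p u p hsq hc @Flat Groth.Agent.H40.flat_descendsAlong h1
    have hpfp : LocallyOfFinitePresentation p.left :=
      Groth.Agent.H40.QuotFP.prop_p u p hsq hc @LocallyOfFinitePresentation inferInstance h2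
    have hpqc : QuasiCompact p.left :=
      Groth.Agent.H40.QuotFP.prop_p u p hsq hc @QuasiCompact
        Groth.Agent.H1.quasiCompact_descendsAlong_fpqc h3
    have hpqs : QuasiSeparated p.left :=
      Groth.Agent.H40.QuotFP.prop_p u p hsq hc @QuasiSeparated
        Groth.Agent.H1.quasiSeparated_descendsAlong_fpqc h4
    refine ⟨hpqc, hpqs, hpfp, ⟨?_, ?_⟩⟩
    · rintro ⟨a1, a2, a3⟩
      exact ⟨hLFP hpfl hpfp a1, hQC a2, Groth.Agent.H40.QuotFP.quasiSeparated_quot u p hsq⟩
    · rintro ⟨a1, a2, a3⟩
      rw [hGw]
      exact ⟨inferInstance, inferInstance, inferInstance⟩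

end Groth.Agent.S5371
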