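import Groth.Statements.S5373
import Groth.Agent.H40.CD.GraphRelOver

set_option autoImplicit false
universe u
open CategoryTheory CategoryTheory.Limits MonoidalCategory CartesianMonoidalCategory MonObj GrpObj AlgebraicGeometry
open SGA3

namespace Groth.Agent.S5373

/-- Let p : X → Y be a morphism of S-schemes and v : X ×_Y X → X ×_S X the canonical monomorphism (the
graph of the effective equivalence relation defined by p). Then (i) v is an immersion, and a closed
immersion if Y is separated over S; (ii) if p is covering for the fpqc topology (some Z → Y which is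
flat, surjective, with every affine open of Y the image of a quasi-compact open of Z, factors
through p), so that Y represents the quotient sheaf of X by this equivalence relation, and v is a
closed immersion, then Y is separated over S. -/
theorem result (S : Scheme.{u}) (X Y : Over S) (p : X ⟶ Y) :
    letI v : (pullback p p) ⟶ X ⊗ X := lift (pullback.fst p p) (pullback.snd p p)
    IsImmersion v.left ∧ (IsSeparated Y.hom → IsClosedImmersion v.left) ∧
    ((∃ (Z : Scheme.{u}) (q : Z ⟶ Y.left) (r : Z ⟶ X.left), r ≫ p.left = q ∧ Surjective q ∧ Flat q ∧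
        ∀ V : Y.left.Opens, IsAffineOpen V → ∃ W : Z.Opens, IsCompact (W : Set Z) ∧ q.base '' (W : Set Z) = (V : Set Y.left)) →
      IsClosedImmersion v.left → IsSeparated Y.hom) := by
  set v : (pullback p p) ⟶ X ⊗ X := lift (pullback.fst p p) (pullback.snd p p) with hvdef
  haveI : Mono v := Groth.Agent.H40.CD.mono_graph p
  haveI : Mono v.left := inferInstance
  have hv : ∀ ⦃T : Scheme.{u}⦄ (m : T ⟶ (X ⊗ X).left),
      Groth.Agent.H40.CD.SameImage X.hom p.left m ↔ ∃ w : T ⟶ (pullback p p).left, w ≫ v.left = m :=
    Groth.Agent.H40.CD.sameImage_iff_factors_graph p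
  obtain ⟨E, jE, hjE, hjEc, hE⟩ :=
    Groth.Agent.H40.CD.exists_immersion_sameImage X.hom Y.hom p.left (Over.w p)
  haveI : Mono jE := inferInstance
  obtain ⟨e, he⟩ := Groth.Agent.H40.CD.exists_iso_of_repr
    (fun T m => Groth.Agent.H40.CD.SameImage X.hom p.left m) v.left jE hv hE
  refine ⟨?_, fun hsep => ?_, ?_⟩
  · rw [← he]
    infer_instance
  · haveI := hjEc hsep
    rw [← he]
    infer_instance
  · rintro ⟨Z, q, r, hr, hqs, hqf, hqc⟩ hvc
    exact Groth.Agent.H40.CD.isSeparated_of_sameImage_closed X.hom Y.hom p.left (Over.w p) q r hr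
      (Groth.Agent.H40.CD.singleton_mem_fpqcPrecoverage_of_image q hqs hqf hqc) v.left hv

end Groth.Agent.S5373
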