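import Groth.Statements.S5381
import Mathlib

set_option autoImplicit false
universe u
open CategoryTheory CategoryTheory.Limits MonoidalCategory CartesianMonoidalCategory MonObj GrpObj AlgebraicGeometry
open SGA3

namespace Groth.Agent.S5381

/-- For S the spectrum of a Dedekind domain R: let X be a scheme which is flat, quasi-compact and
quasi-separated over R. Then the ring of global sections Γ(X, O_X) is a flat R-module. (The
published remark takes S locally noetherian and regular of dimension 1 and also observes, when S is
local with closed point s and uniformizer π, that Γ(X, O_X)/πΓ(X, O_X) → Γ(X_s, O_{X_s}) is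
injective; this row takes S the spectrum of a Dedekind domain and omits the injectivity.) -/
theorem result (R : Type u) [CommRing R] [IsDedekindDomain R]
    (X : Scheme.{u}) (f : X ⟶ Spec (CommRingCat.of R)) [Flat f] [QuasiCompact f] [QuasiSeparated f] :
    letI := ((Scheme.ΓSpecIso (CommRingCat.of R)).inv ≫ f.appTop).hom.toAlgebra
    Module.Flat R Γ(X, ⊤) := by
  letI alg := ((Scheme.ΓSpecIso (CommRingCat.of R)).inv ≫ f.appTop).hom.toAlgebra
  have htf : Module.IsTorsionFree R Γ(X, ⊤) := by
    rw [Module.isTorsionFree_iff_smul_eq_zero]
    intro r s hrs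
    by_cases hr : r = 0
    · exact Or.inl hr
    right
    have key : ∀ V : X.affineOpens, X.presheaf.map (homOfLE (le_top : (V : X.Opens) ≤ ⊤)).op s = 0 := by
      intro V
      have hflat := f.flat_appLE (isAffineOpen_top (Spec (CommRingCat.of R))) V.2 (le_top)
      have hiso : Function.Bijective (Scheme.ΓSpecIso (CommRingCat.of R)).inv.hom :=
        ConcreteCategory.bijective_of_isIso (Scheme.ΓSpecIso (CommRingCat.of R)).inv
      have hφV : ((f.appLE ⊤ V.1 le_top).hom.comp (Scheme.ΓSpecIso (CommRingCat.of R)).inv.hom).Flat :=
        RingHom.Flat.comp (RingHom.Flat.of_bijective hiso) hflat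
      letI algV := ((f.appLE ⊤ V.1 le_top).hom.comp (Scheme.ΓSpecIso (CommRingCat.of R)).inv.hom).toAlgebra
      have hfl : Module.Flat R Γ(X, V.1) := hφV
      have hreg : IsSMulRegular Γ(X, V.1) r :=
        Module.Flat.isSMulRegular_of_isRegular (IsRegular.of_ne_zero hr)
      apply hreg
      show r • _ = r • 0
      rw [smul_zero]
      have h1 := congrArg (X.presheaf.map (homOfLE (le_top : (V : X.Opens) ≤ ⊤)).op).hom hrs
      rw [map_zero] at h1
      rw [← h1]
      rw [Algebra.smul_def, Algebra.smul_def, map_mul]
      congr 1
    refine X.sheaf.eq_of_locally_eq' (fun V : X.affineOpens => (V : X.Opens)) ⊤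
      (fun V => homOfLE le_top) (by rw [iSup_affineOpens_eq_top]) s 0 (fun V => ?_)
    rw [map_zero]
    exact key V
  infer_instance

end Groth.Agent.S5381
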