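import Groth.Statements.S5383
import Groth.Agent.H17.Unib.SchemeOpen
import Groth.Agent.H17.Unib.IntegralOpen
import Groth.Agent.H17.Unib.UnibUniq
import Groth.Agent.H17.Val.ValGeo

set_option autoImplicit false
universe u
open CategoryTheory CategoryTheory.Limits MonoidalCategory CartesianMonoidalCategory MonObj GrpObj AlgebraicGeometry
open SGA3

namespace Groth.Agent.S5383

/-- (i) let A ⊆ B be domains with B integral over A, and q a prime of B such that the local ring of A at
p = q ∩ A is unibranch; then Spec B → Spec A is open at q (it maps neighbourhoods of q to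
neighbourhoods of p). (ii) Let f : X → Y be a dominant morphism of irreducible schemes which is
locally of finite type, x a point of X isolated in its fibre (f quasi-finite at x) such that the
local ring of Y at f(x) is unibranch; then f is open at x. -/
theorem result :
    (∀ (A B : Type u) [CommRing A] [IsDomain A] [CommRing B] [IsDomain B] [Algebra A B],
      Function.Injective (algebraMap A B) → Algebra.IsIntegral A B →
      ∀ q : PrimeSpectrum B, CAlg2.IsUnibranch (Localization.AtPrime (q.asIdeal.comap (algebraMap A B))) →
        EGA43.IsOpenAt (PrimeSpectrum.comap (algebraMap A B)) q) ∧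
    (∀ (X Y : Scheme.{u}) (f : X ⟶ Y) [IrreducibleSpace X] [IrreducibleSpace Y] [LocallyOfFiniteType f],
      DenseRange f.base → ∀ x : X, (nhdsWithin x (f.base ⁻¹' {f.base x})) = pure x →
        CAlg2.IsUnibranch (Y.presheaf.stalk (f.base x)) → EGA43.IsOpenAt f.base x) := by
  refine ⟨?_, ?_⟩
  · intro A B _ _ _ _ _ hinj hint q hU
    haveI := hint
    exact Groth.Agent.H17.Unib.isOpenAt_comap_of_isIntegral_of_subsingleton hinj q
      (fun P₁ P₂ h₁ h₂ =>
        Groth.Agent.H17.Unib.subsingleton_primesOver_of_isUnibranch _ hU P₁ P₂ h₁ h₂)
  · intro X Y f _ _ _ hdense x hx hU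
    haveI : IsDominant f := ⟨hdense⟩
    have hqf : f.QuasiFiniteAt x := by
      rw [Scheme.Hom.quasiFiniteAt_iff_isOpen_singleton_asFiber,
        ← (f.fiberHomeo (f.base x)).isOpen_image]
      simp only [Set.image_singleton, Scheme.Hom.asFiber, Homeomorph.apply_symm_apply]
      rw [isOpen_singleton_iff_nhds_eq_pure]
      apply Filter.map_injective Subtype.val_injective
      rw [Filter.map_pure, ← nhdsWithin_eq_map_subtype_coe]
      exact hx
    refine Groth.Agent.H17.Unib.isOpenAt_of_quasiFiniteAt f x (genericPoint X)
      (genericPoint_specializes x) hqf hU ?_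
    intro t
    rw [Groth.Agent.H17.Val.map_genericPoint_of_isDominant f]
    exact genericPoint_specializes t

end Groth.Agent.S5383
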