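import Groth.Statements.S5403
import Groth.Agent.H38.HomogRat

set_option autoImplicit false
universe u
open CategoryTheory CategoryTheory.Limits MonoidalCategory CartesianMonoidalCategory MonObj GrpObj AlgebraicGeometry
open SGA3

namespace Groth.Agent.S5403

/-- Let G be a group scheme over a field k (not assumed of finite type) acting on a quasi-separated
k-scheme X so that G ×_k X → X ×_k X, (g, x) ↦ (gx, x), is surjective, and let x be a k-rational
point of X and C the connected component of X containing x. Then the orbit morphism g ↦ g·x maps the
irreducible component of G containing the unit point (the underlying set of the neutral component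
G⁰) onto C, and for every field extension K of k the inverse image of C in X ⊗_k K is irreducible. -/
theorem result (k : Type u) [Field k] (G X : Over (Spec (CommRingCat.of k)))
    [GrpObj G] [QuasiSeparatedSpace X.left] (a : AlgGrp.Action G X) (hΦ : Surjective (lift a.act (snd G X)).left)
    (x : 𝟙_ (Over (Spec (CommRingCat.of k))) ⟶ X) (pt : ↥(𝟙_ (Over (Spec (CommRingCat.of k)))).left)
    (C0 : Set G.left) (hC0 : C0 ∈ irreducibleComponents ↥G.left) (he : η[G].left.base pt ∈ C0) :
    (a.orbitMap x).left.base '' C0 = connectedComponent (x.left.base pt) ∧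
    ∀ (K : Type u) [Field K] [Algebra k K],
      IsIrreducible ((pullback.fst X.hom (Spec.map (CommRingCat.ofHom (algebraMap k K)))).base ⁻¹' connectedComponent (x.left.base pt)) := by
  obtain ⟨G₀, hgrp, incl, hmon, -, -, hrange, hgi, hc⟩ :=
    Groth.Agent.H38.GrpConnComp.exists_identityComponent k G
  have hh : irreducibleComponent (Groth.Agent.H38.GrpComp.unitPt k G) ⊆ Set.range ⇑incl.left := by
    rw [hrange, Groth.Agent.H38.GrpConnComp.connectedComponent_unit_eq]
  have hC0' : C0 = Set.range ⇑incl.left := by
    rw [hrange, Groth.Agent.H38.GrpConnComp.connectedComponent_unit_eq]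
    refine Groth.Agent.H38.GrpComp.eq_of_mem_of_mem k G hC0
      (irreducibleComponent_mem_irreducibleComponents _) _ he ?_
    rw [Groth.Agent.H38.GrpComp.unit_left_apply]
    exact mem_irreducibleComponent
  have hcc : connectedComponent (x.left pt) = (a.orbitMap x).left '' Set.range ⇑incl.left := by
    rw [Groth.Agent.H38.HomogConn.connectedComponent_eq_orb a incl hΦ hh,
      Groth.Agent.H38.HomogRat.orb_rational]
  change (a.orbitMap x).left '' C0 = connectedComponent (x.left pt) ∧
    ∀ (K : Type u) [Field K] [Algebra k K],
      IsIrreducible ((pullback.fst X.hom (Spec.map (CommRingCat.ofHom (algebraMap k K)))) ⁻¹'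
        connectedComponent (x.left pt))
  refine ⟨by rw [hcc, hC0'], ?_⟩
  intro K _ _
  rw [hcc]
  have h1 : (a.orbitMap x).left '' Set.range ⇑incl.left =
      Set.range ⇑(incl ≫ a.orbitMap x).left := by
    ext v
    simp only [Set.mem_image, Set.mem_range, exists_exists_eq_and, Over.comp_left,
      Scheme.Hom.comp_apply]
  rw [h1]
  exact Groth.Agent.H38.HomogRat.isIrreducible_preimage_range (incl ≫ a.orbitMap x) K

end Groth.Agent.S5403
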