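import Groth.Statements.S5415
import Groth.Agent.H15.GrpExtDescent

set_option autoImplicit false
universe u
open CategoryTheory MonoidalCategory CartesianMonoidalCategory MonObj GrpObj AlgebraicGeometry CategoryTheory.Limits
open SGA3x

namespace Groth.Agent.S5415

/-- Let G be an S-group scheme of finite presentation over S, p : G → G'' a homomorphism which is
surjective, flat and locally of finite presentation onto an S-group scheme G'' proper and of finite
presentation over S, and i : G' → G its kernel, with G' flat and of finite presentation over S. Let
H be an S-group scheme which is of finite presentation over S, or locally of finite presentation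
over a locally Noetherian S, and u : G → H a homomorphism. If the restriction u ∘ i of u to G' is
proper, then u is proper. -/
theorem result (S : Scheme.{u}) (G G' G'' : Over S) [GrpObj G] [GrpObj G'] [GrpObj G'']
    [QuasiCompact G.hom] [QuasiSeparated G.hom] [LocallyOfFinitePresentation G.hom]
    [IsProper G''.hom] [LocallyOfFinitePresentation G''.hom]
    [Flat G'.hom] [QuasiCompact G'.hom] [QuasiSeparated G'.hom] [LocallyOfFinitePresentation G'.hom]
    (p : G ⟶ G'') [IsMonHom p] [Surjective p.left] [Flat p.left] [LocallyOfFinitePresentation p.left]
    (i : G' ⟶ G) [IsMonHom i] (hker : AlgGrp.IsKernel i p)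
    (H : Over S) [GrpObj H] [LocallyOfFinitePresentation H.hom]
    (hH : (QuasiCompact H.hom ∧ QuasiSeparated H.hom) ∨ IsLocallyNoetherian S)
    (u : G ⟶ H) [IsMonHom u] (hu : IsProper (i ≫ u).left) : IsProper u.left := by
  have hqc : QuasiCompact p.left := by
    have : QuasiCompact (p.left ≫ G''.hom) := by
      rw [Over.w p]
      infer_instance
    exact QuasiCompact.of_comp p.left G''.hom
  have h1 : IsProper (lift u p).left :=
    Groth.Agent.H15.GrpExtDescent.prop_pair_of_prop_kernel @IsProper
      Groth.Agent.H1.isProper_descendsAlong_fpqc p i hker u hu
  have h2 : IsProper (fst H G'').left := by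
    rw [Over.fst_left]
    infer_instance
  have h3 : u.left = (lift u p).left ≫ (fst H G'').left := by
    rw [← Over.comp_left, lift_fst]
  rw [h3]
  infer_instance

end Groth.Agent.S5415
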