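import Groth.Statements.S5423
import Groth.Agent.H93.Kolchin
import Groth.Agent.H75.UnipTorsion
import Groth.Agent.H48.AlgClosedTensor
import Groth.Agent.H93.DualMod

set_option autoImplicit false
universe u
open TensorProduct
open SGA3t2b

namespace Groth.Agent.S5423

/-- Let k be an algebraically closed field and A a reduced finitely generated commutative Hopf algebra
over k (a smooth affine algebraic k-group G). Then G is unipotent (every non-zero finite-dimensional
representation has a non-zero fixed vector) if and only if every element of G(k) is unipotent, i.e.
every k-point g : A → k acts on every finite-dimensional comodule V by an endomorphism g_V with g_V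
− 1 nilpotent. -/
theorem result (k : Type u) [Field k] [IsAlgClosed k] (A : Type u) [CommRing A] [HopfAlgebra k A] [Algebra.FiniteType k A]
    [IsReduced A] :
    HopfRep.IsUnipotent k A ↔
      ∀ (g : A →ₐ[k] k) (V : Type u) [AddCommGroup V] [Module k V] [HopfRep.Comod k A V],
        Module.Finite k V → IsNilpotent (HopfRep.Comod.act k A V g - LinearMap.id) := by
  classical
  constructor
  · intro hU g V _ _ _ hfin
    exact Groth.Agent.H75.opOf_sub_one_isNilpotent hU V (WithConv.toConv g)
  · intro h V _ _ _ hfin hnt
    let ρ : WithConv (A →ₐ[k] k) →* Module.End k V :=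
      { toFun := fun g => Groth.Agent.H75.opOf V (Groth.Agent.H75.lin g)
        map_one' := by rw [Groth.Agent.H75.lin_one, Groth.Agent.H75.opOf_counit]
        map_mul' := fun g g' => by rw [Groth.Agent.H75.lin_mul, Groth.Agent.H75.opOf_conv] }
    obtain ⟨v, hv0, hv⟩ := Groth.Agent.H93.Kolchin.kolchin ρ (fun g => h g.ofConv V hfin)
    intro hbot
    have hfix : v ∈ HopfRep.fixedPts k A V := by
      change HopfRep.Comod.coact (k := k) (A := A) v = v ⊗ₜ[k] (1 : A)
      rw [← sub_eq_zero]
      set y := HopfRep.Comod.coact (k := k) (A := A) v - v ⊗ₜ[k] (1 : A) with hy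
      have hpt : ∀ g : A →ₐ[k] k, Groth.Agent.H93.slice V g.toLinearMap y = 0 := by
        intro g
        rw [hy, map_sub, Groth.Agent.H93.slice_tmul]
        have h1 : Groth.Agent.H93.slice V g.toLinearMap
            (HopfRep.Comod.coact (k := k) (A := A) v) = ρ (WithConv.toConv g) v := rfl
        rw [h1, hv]
        simp
      have hcomm : TensorProduct.comm k V A y = 0 := by
        apply Groth.Agent.H93.eq_zero_of_slice_eq_zero
        intro φ
        by_contra hne
        have hnil : ¬ IsNilpotent (Groth.Agent.H93.slice A φ (TensorProduct.comm k V A y)) :=
          fun hn => hne hn.eq_zero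
        obtain ⟨g, hg⟩ := Groth.Agent.H48.exists_algHom_apply_ne_zero (k := k) _ hnil
        apply hg
        have key : ∀ z : V ⊗[k] A, g (Groth.Agent.H93.slice A φ (TensorProduct.comm k V A z)) =
            φ (Groth.Agent.H93.slice V g.toLinearMap z) := by
          intro z
          induction z using TensorProduct.induction_on with
          | zero => simp
          | tmul w a =>
            rw [TensorProduct.comm_tmul, Groth.Agent.H93.slice_tmul,
              Groth.Agent.H93.slice_tmul, map_smul, map_smul, smul_eq_mul, smul_eq_mul, mul_comm]
            rfl
          | add s t hs ht => simp only [map_add, hs, ht]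
        rw [key, hpt g, map_zero]
      have := congrArg (TensorProduct.comm k V A).symm hcomm
      simpa using this
    rw [hbot, Submodule.mem_bot] at hfix
    exact hv0 hfix

end Groth.Agent.S5423
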