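import Groth.Statements.S5480
import Groth.Agent.H27.PMorph

set_option autoImplicit false
open RootD

namespace Groth.Agent.S5480

/-- For a p-morphism of reduced root data with root bijection u and radicial exponents q: (a) for all
roots α, β one has q(s_α(β)) = q(β) and u(s_α(β)) = s_{u(α)}(u(β)); (b) the exponents are invariant
under the Weyl group, q(w(α)) = q(α); (c) there is an isomorphism ū from the Weyl group of the first
datum to that of the second with ū(s_α) = s_{u(α)} and u(w(α)) = ū(w)(u(α)) for every Weyl group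
element w and every root α. -/
theorem result {ι M N ι' M' N' : Type*} [AddCommGroup M] [AddCommGroup N] [AddCommGroup M'] [AddCommGroup N']
    (P : RootPairing ι ℤ M N) (P' : RootPairing ι' ℤ M' N') [Finite ι] [Finite ι'] [P.IsReduced] [P'.IsReduced]
    (p : ℕ) (hp : 0 < p) (f : M' →ₗ[ℤ] M) (g : N →ₗ[ℤ] N')
    (hfg : ∀ (m' : M') (n : N), P.toLinearMap (f m') n = P'.toLinearMap m' (g n))
    (u : ι ≃ ι') (q : ι → ℕ) (hq : ∀ i, ∃ e : ℕ, q i = p ^ e)
    (hroot : ∀ i : ι, f (P'.root (u i)) = (q i : ℤ) • P.root i)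
    (hcoroot : ∀ i : ι, g (P.coroot i) = (q i : ℤ) • P'.coroot (u i)) :
    (∀ i j : ι, q (P.reflectionPerm i j) = q j ∧ u (P.reflectionPerm i j) = P'.reflectionPerm (u i) (u j)) ∧
      (∀ w ∈ P.weylGroup, ∀ i : ι, q (w • i) = q i) ∧
      ∃ ubar : P.weylGroup ≃* P'.weylGroup,
        (∀ i : ι, ubar (RootPairing.weylGroup.ofIdx P i) = RootPairing.weylGroup.ofIdx P' (u i)) ∧
        ∀ (w : P.weylGroup) (i : ι), u ((w : P.Aut) • i) = ((ubar w : P'.weylGroup) : P'.Aut) • u i := by
  have hqpos : ∀ i, 0 < q i := fun i => by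
    obtain ⟨e, he⟩ := hq i
    rw [he]; exact Nat.pow_pos hp
  have ha := Groth.Agent.H27.pmorph_reflectionPerm P P' f g hfg u q hqpos hroot hcoroot
  refine ⟨ha, fun w hw i => Groth.Agent.H27.pmorph_weyl_invariant P q (fun i j => (ha i j).1) hw i, ?_⟩
  obtain ⟨ubar, hubar⟩ := Groth.Agent.H27.pmorph_weyl_iso P P' u (fun i j => (ha i j).2)
  refine ⟨ubar, fun i => ?_, fun w i => ?_⟩
  · apply Groth.Agent.H27.weylGroupToPerm_injective (P := P')
    rw [hubar]
    ext j'
    simp [Equiv.permCongr_apply, RootPairing.weylGroup.ofIdx, (ha _ _).2]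
  · have := DFunLike.congr_fun (hubar w) (u i)
    simp only [Equiv.permCongrHom_coe, Equiv.permCongr_apply, Equiv.symm_apply_apply] at this
    exact this.symm

end Groth.Agent.S5480
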