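import Groth.Statements.S5488
import Groth.Agent.H28.RootIndiv

set_option autoImplicit false
open RootD
open RootPairing
open scoped Pointwise

namespace Groth.Agent.S5488

/-- The reduced datum of indivisible roots has the same Weyl group: the reflections in indivisible roots
generate W. -/
theorem result {ι M N : Type*} [AddCommGroup M] [AddCommGroup N]
    (P : RootPairing ι ℤ M N) [Finite ι] :
    Subgroup.closure ((fun i : ι => Equiv.reflection P i) '' {i : ι | RootD.IsIndiv P i}) = P.weylGroup :=
  Groth.Agent.H28.closure_reflection_indiv_eq_weylGroup P

end Groth.Agent.S5488
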