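import Groth.Statements.S5491
import Mathlib.LinearAlgebra.RootSystem.Base
import Mathlib.Tactic

set_option autoImplicit false
open RootD

namespace Groth.Agent.S5491

open Classical in
/-- With ρ^v the half-sum of the positive coroots, the order (height) of any root α relative to the
simple system equals (ρ^v, α); equivalently 2·height(α) = Σ_{β > 0} (β^v, α). -/
theorem result {ι M N : Type*} [AddCommGroup M] [AddCommGroup N]
    (P : RootPairing ι ℤ M N) [Finite ι] [Fintype ι] [P.IsReduced] (b : P.Base) (i : ι) :
    2 * b.height i = ∑ j, if b.IsPos j then P.pairing i j else 0 := by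
  classical
  -- the function F
  set F : ι → ℤ := fun i => ∑ j, if b.IsPos j then P.pairing i j else 0 with hF
  -- F on simple roots
  have hsimple : ∀ a ∈ b.support, F a = 2 := by
    intro a ha
    have hapos : b.IsPos a := RootPairing.Base.isPos_of_mem_support ha
    set g : ι → ℤ := fun j => if b.IsPos j ∧ j ≠ a then P.pairing a j else 0 with hg
    have hsplit : F a = P.pairing a a + ∑ j, g j := by
      rw [hF]
      simp only
      rw [← Finset.add_sum_erase Finset.univ _ (Finset.mem_univ a), if_pos hapos]
      congr 1
      rw [← Finset.sum_erase_add Finset.univ g (Finset.mem_univ a)]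
      have hga : g a = 0 := by simp [hg]
      rw [hga, add_zero]
      refine Finset.sum_congr rfl fun j hj => ?_
      have hja : j ≠ a := (Finset.mem_erase.mp hj).1
      simp [hg, hja]
    have hneg_not : ¬ b.IsPos (P.reflectionPerm a a) := by
      have h := RootPairing.Base.IsPos.neg_iff_not b a
      have h' : b.IsPos (P.reflectionPerm a a) ↔ ¬ b.IsPos a := h
      rw [h']
      exact fun h => h hapos
    have hσ : ∀ j, g (P.reflectionPerm a j) = - g j := by
      intro j
      have hiff : (b.IsPos (P.reflectionPerm a j) ∧ P.reflectionPerm a j ≠ a) ↔ (b.IsPos j ∧ j ≠ a) := by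
        constructor
        · rintro ⟨h1, h2⟩
          have h3 := h1.reflectionPerm ha h2
          rw [P.reflectionPerm_self] at h3
          refine ⟨h3, ?_⟩
          rintro rfl
          exact hneg_not h1
        · rintro ⟨h1, h2⟩
          refine ⟨h1.reflectionPerm ha h2, ?_⟩
          intro h3
          have h4 : j = P.reflectionPerm a a := by
            have h5 := congrArg (P.reflectionPerm a) h3
            rw [P.reflectionPerm_self] at h5
            exact h5
          rw [h4] at h1
          exact hneg_not h1
      simp only [hg]
      by_cases hc : b.IsPos j ∧ j ≠ a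
      · rw [if_pos hc, if_pos (hiff.mpr hc), P.pairing_reflectionPerm,
          P.pairing_reflectionPerm_self_left]
      · rw [if_neg hc, if_neg (fun h => hc (hiff.mp h)), neg_zero]
    have hsum0 : ∑ j, g j = 0 := by
      have h1 : ∑ j, g (P.reflectionPerm a j) = ∑ j, g j := Equiv.sum_comp (P.reflectionPerm a) g
      simp only [hσ, Finset.sum_neg_distrib] at h1
      omega
    rw [hsplit, hsum0, P.pairing_same, add_zero]
  -- general roots
  obtain ⟨f, -, -, hf⟩ := b.exists_root_eq_sum_int i
  rw [RootPairing.Base.height_eq_sum hf]
  have hlin : ∀ k : ι, P.pairing i k = ∑ j ∈ b.support, f j * P.pairing j k := by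
    intro k
    rw [← P.root_coroot_eq_pairing, hf, map_sum, LinearMap.sum_apply]
    refine Finset.sum_congr rfl fun j _ => ?_
    rw [map_smul, LinearMap.smul_apply, P.root_coroot_eq_pairing, smul_eq_mul]
  have h1 : (∑ k, if b.IsPos k then P.pairing i k else 0) = ∑ j ∈ b.support, f j * F j := by
    simp only [hF, Finset.mul_sum]
    rw [Finset.sum_comm]
    refine Finset.sum_congr rfl fun k _ => ?_
    by_cases hk : b.IsPos k
    · simp only [if_pos hk]
      exact hlin k
    · simp only [if_neg hk, mul_zero, Finset.sum_const_zero]
  rw [h1, Finset.mul_sum]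
  refine Finset.sum_congr rfl fun j hj => ?_
  rw [hsimple j hj, mul_comm]

end Groth.Agent.S5491
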