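import Groth.Statements.S5495
import Groth.Agent.H28.RootBasic

set_option autoImplicit false
open RootD

namespace Groth.Agent.S5495

open Groth.Agent.H28

/-- If α is an indivisible root and kα is a root for a rational k, then k is an integer. -/
theorem result {ι M N : Type*} [AddCommGroup M] [AddCommGroup N]
    (P : RootPairing ι ℤ M N) [Finite ι] (i j : ι) (hind : RootD.IsIndiv P i) (a b : ℤ) (hb : b ≠ 0)
    (h : b • P.root j = a • P.root i) : b ∣ a := by
  have hTF := isTorsionFree_weight P
  have hATF := isAddTorsionFree_weight P
  -- apply coroot i and coroot j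
  have h1 : b * P.pairing j i = a * 2 := by
    have := congrArg (fun x => P.toLinearMap x (P.coroot i)) h
    simpa using this
  have h2 : b * 2 = a * P.pairing i j := by
    have := congrArg (fun x => P.toLinearMap x (P.coroot j)) h
    simpa using this
  have ha : a ≠ 0 := by
    rintro rfl
    simp at h2
    exact hb h2
  have h4 : P.pairing i j * P.pairing j i = 4 := by
    have : (a * b) * (P.pairing i j * P.pairing j i) = (a * b) * 4 := by
      calc (a * b) * (P.pairing i j * P.pairing j i)
          = (a * P.pairing i j) * (b * P.pairing j i) := by ring
        _ = (b * 2) * (a * 2) := by rw [← h2, h1]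
        _ = (a * b) * 4 := by ring
    exact mul_left_cancel₀ (mul_ne_zero ha hb) this
  have hmem := P.pairingIn_pairingIn_mem_set_of_isCrystallographic i j
  rw [pairingIn_int, pairingIn_int] at hmem
  simp only [Set.mem_insert_iff, Set.mem_singleton_iff, Prod.mk.injEq] at hmem
  -- the case where pairing j i = ±1 contradicts indivisibility
  have key : P.pairing j i ≠ 1 ∧ P.pairing j i ≠ -1 := by
    constructor
    · intro h'
      rw [h', mul_one] at h1
      -- b = 2a, so a • (2 root j - root i) = 0
      have : a • ((2 : ℤ) • P.root j) = a • P.root i := by
        rw [smul_smul, ← h1]; exact h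
      have := smul_right_injective M ha this
      exact hind j this
    · intro h'
      rw [h'] at h1
      have hb' : b = -(a * 2) := by linarith
      have : a • ((2 : ℤ) • P.root (P.reflectionPerm j j)) = a • P.root i := by
        rw [← h, hb']
        simp only [RootPairing.root_reflectionPerm, RootPairing.reflection_apply_self]
        module
      have := smul_right_injective M ha this
      exact hind _ this
  rcases hmem with h' | h' | h' | h' | h' | h' | h' | h' | h' | h' | h' | h' | h' | h' | h' | h' | h' <;>
    obtain ⟨e1, e2⟩ := h' <;> rw [e1, e2] at h4 <;> norm_num at h4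
  · -- (4, 1)
    exact absurd e2 key.1
  · -- (1, 4)
    rw [e2] at h1
    exact ⟨2, by linarith⟩
  · exact absurd e2 key.2
  · rw [e2] at h1
    exact ⟨-2, by linarith⟩
  · rw [e2] at h1
    exact ⟨1, by linarith⟩
  · rw [e2] at h1
    exact ⟨-1, by linarith⟩

end Groth.Agent.S5495
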