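import Groth.Statements.S5496
import Groth.Agent.H28.DihedralCard
import Groth.Agent.H28.RootBasic
import Mathlib.LinearAlgebra.RootSystem.Reduced

set_option autoImplicit false
open RootPairing
open scoped Pointwise
open RootD

namespace Groth.Agent.S5496


/-- Every element of the group generated by two reflections moves a vector by an element of the span
of the two roots. -/
lemma smul_sub_mem_span {ι M N : Type*} [AddCommGroup M] [AddCommGroup N]
    (P : RootPairing ι ℤ M N) (i j : ι) (g : P.Aut)
    (hg : g ∈ Subgroup.closure ({Equiv.reflection P i, Equiv.reflection P j} : Set P.Aut)) (x : M) :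
    g • x - x ∈ Submodule.span ℤ ({P.root i, P.root j} : Set M) := by
  induction hg using Subgroup.closure_induction generalizing x with
  | mem y hy =>
    rcases hy with rfl | rfl
    · rw [Equiv.reflection_smul, reflection_apply, sub_sub_cancel_left]
      exact Submodule.neg_mem _ (Submodule.smul_mem _ _ (Submodule.subset_span (by simp)))
    · rw [Equiv.reflection_smul, reflection_apply, sub_sub_cancel_left]
      exact Submodule.neg_mem _ (Submodule.smul_mem _ _ (Submodule.subset_span (by simp)))
  | one => simp
  | mul y z _ _ hy hz =>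
    have h1 : (y * z) • x - x = (y • (z • x - x) - (z • x - x)) + (z • x - x) + (y • x - x) := by
      rw [mul_smul, smul_sub]
      abel
    rw [h1]
    exact Submodule.add_mem _ (Submodule.add_mem _ (hy _) (hz x)) (hy x)
  | inv y _ hy =>
    have h1 : y⁻¹ • x - x = -(y • (y⁻¹ • x) - y⁻¹ • x) := by
      rw [smul_inv_smul]
      abel
    rw [h1]
    exact Submodule.neg_mem _ (hy _)

lemma pairing_smul_of_smul_eq {ι M N : Type*} [AddCommGroup M] [AddCommGroup N]
    (P : RootPairing ι ℤ M N) (i : ι) (g : P.Aut) (hi : g • i = i) (x : M) :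
    P.toLinearMap (g • x) (P.coroot i) = P.toLinearMap x (P.coroot i) := by
  have h1 := Hom.weight_coweight_transpose_apply P P (P.coroot i) g.toHom
  have h2 := LinearMap.congr_fun h1 x
  have h3 : g.toHom.indexEquiv.symm i = i := by
    rw [Equiv.symm_apply_eq]
    exact hi.symm
  rw [Hom.coroot_coweightMap_apply, h3] at h2
  exact h2

/-- For non-proportional roots α, β let n be the least integer n > 0 with (s_α s_β)^n(α) = α and (s_α
s_β)^n(β) = β. Then the subgroup W_{α,β} generated by s_α and s_β is presented by s_α² = s_β² = (s_α
s_β)^n = 1; equivalently it has exactly 2n elements. -/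
theorem result {ι M N : Type*} [AddCommGroup M] [AddCommGroup N]
    (P : RootPairing ι ℤ M N) [Finite ι] (i j : ι) (hli : LinearIndependent ℤ ![P.root i, P.root j])
    (n : ℕ) (hn : IsLeast {m : ℕ | 0 < m ∧ ((Equiv.reflection P i * Equiv.reflection P j) ^ m) • i = i ∧
      ((Equiv.reflection P i * Equiv.reflection P j) ^ m) • j = j} n) :
    Nat.card (Subgroup.closure ({Equiv.reflection P i, Equiv.reflection P j} : Set P.Aut)) = 2 * n := by
  classical
  have hTF := Groth.Agent.H28.isAddTorsionFree_weight P
  have hcw : P.coxeterWeight i j ≠ 4 := P.coxeterWeight_ne_four_of_linearIndependent hli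
  have hri : P.root i ≠ 0 := hli.ne_zero 0
  have hrj : P.root j ≠ 0 := hli.ne_zero 1
  -- key: elements of the subgroup fixing `i` and `j` are trivial
  have key : ∀ g ∈ Subgroup.closure ({Equiv.reflection P i, Equiv.reflection P j} : Set P.Aut),
      g • i = i → g • j = j → g = 1 := by
    intro g hg hi hj
    apply Equiv.weightHom_injective P
    ext x
    change g • x = x
    have hx := smul_sub_mem_span P i j g hg x
    obtain ⟨c, d, hcd⟩ := Submodule.mem_span_pair.1 hx
    have e1 : P.toLinearMap (g • x - x) (P.coroot i) = 0 := by
      rw [map_sub, LinearMap.sub_apply, pairing_smul_of_smul_eq P i g hi, sub_self]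
    have e2 : P.toLinearMap (g • x - x) (P.coroot j) = 0 := by
      rw [map_sub, LinearMap.sub_apply, pairing_smul_of_smul_eq P j g hj, sub_self]
    rw [← hcd] at e1 e2
    simp only [map_add, map_smul, LinearMap.add_apply, LinearMap.smul_apply, root_coroot_eq_pairing,
      pairing_same, smul_eq_mul] at e1 e2
    have hd : d * (4 - P.pairing i j * P.pairing j i) = 0 := by linear_combination 2 * e2 - P.pairing i j * e1
    have hd0 : d = 0 := by
      rcases mul_eq_zero.1 hd with h | h
      · exact h
      · exfalso
        apply hcw
        rw [coxeterWeight]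
        linarith
    have hc0 : c = 0 := by
      rw [hd0] at e1
      linarith
    rw [hc0, hd0, zero_smul, zero_smul, add_zero] at hcd
    exact (sub_eq_zero.1 hcd.symm)
  set a := Equiv.reflection P i with ha_def
  set b := Equiv.reflection P j with hb_def
  have ha : a * a = 1 := by
    have := Equiv.reflection_inv P i
    rw [← ha_def] at this
    nth_rewrite 1 [← this]
    exact inv_mul_cancel a
  have hb : b * b = 1 := by
    have := Equiv.reflection_inv P j
    rw [← hb_def] at this
    nth_rewrite 1 [← this]
    exact inv_mul_cancel b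
  have ha_mem : a ∈ Subgroup.closure ({a, b} : Set P.Aut) := Subgroup.subset_closure (by simp)
  have hb_mem : b ∈ Subgroup.closure ({a, b} : Set P.Aut) := Subgroup.subset_closure (by simp)
  have hr_mem : a * b ∈ Subgroup.closure ({a, b} : Set P.Aut) := mul_mem ha_mem hb_mem
  obtain ⟨⟨hn0, hni, hnj⟩, hmin⟩ := hn
  have hrn : (a * b) ^ n = 1 := key _ (pow_mem hr_mem n) hni hnj
  have hord : orderOf (a * b) = n := by
    rw [orderOf_eq_iff hn0]
    refine ⟨hrn, fun m hm hm0 hrm => ?_⟩
    have : n ≤ m := hmin ⟨hm0, by rw [hrm, one_smul], by rw [hrm, one_smul]⟩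
    omega
  have hne_one : ∀ k : ι, P.root k ≠ 0 → Equiv.reflection P k ≠ 1 := by
    intro k hk h1
    have h2 : Equiv.reflection P k • P.root k = P.root k := by rw [h1, one_smul]
    rw [Equiv.reflection_smul, reflection_apply_self] at h2
    have h3 : (2 : ℤ) • P.root k = 0 := by
      rw [two_smul]
      nth_rewrite 1 [← h2]
      exact neg_add_cancel _
    exact hk ((smul_eq_zero_iff_right (by norm_num)).1 h3)
  have hnot : a ∉ Subgroup.zpowers (a * b) := by
    intro hmem
    have hcomm : a * (a * b) = (a * b) * a := by
      obtain ⟨k, hk⟩ := Subgroup.mem_zpowers_iff.1 hmem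
      have h := ((Commute.refl (a * b)).zpow_left k).eq
      rw [hk] at h
      exact h
    have hab : b = a * b * a := by
      rw [← hcomm, ← mul_assoc, ha, one_mul]
    have hr2 : (a * b) * (a * b) = 1 := by
      calc (a * b) * (a * b) = (a * b * a) * b := by group
        _ = b * b := by rw [← hab]
        _ = 1 := hb
    obtain ⟨k, hk⟩ := Subgroup.mem_zpowers_iff.1 hmem
    rcases Int.even_or_odd' k with ⟨q, rfl | rfl⟩
    · rw [zpow_mul, zpow_two, hr2, one_zpow] at hk
      exact hne_one i hri hk.symm
    · rw [zpow_add, zpow_mul, zpow_two, hr2, one_zpow, one_mul, zpow_one] at hk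
      have : b = 1 := by
        have := congrArg (fun z => a * z) hk
        simp only [← mul_assoc, ha, one_mul] at this
        exact this
      exact hne_one j hrj this
  exact Groth.Agent.H28.card_closure_pair_of_involutions a b ha hb n hn0 hord hnot

end Groth.Agent.S5496
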