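import Groth.Statements.S5499
import Groth.Agent.H28.RootLong

set_option autoImplicit false
open RootD

namespace Groth.Agent.S5499

/-- For an irreducible datum, where long(α) = ℓ(α)/ℓ(α₀) with ℓ(α₀) minimal: there is a unique
homomorphism u : Γ_0(R) → M^v with u(α) = long(α) α^v for every root α. -/
theorem result {ι M N : Type*} [AddCommGroup M] [AddCommGroup N]
    (P : RootPairing ι ℤ M N) [Finite ι] [Fintype ι]
    (hirr : ∀ R' : Set ι, RootD.IsClosedSub P R' → RootD.IsSymmSub P R' → RootD.IsClosedSub P R'ᶜ →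
      RootD.IsSymmSub P R'ᶜ → R' = ∅ ∨ R' = Set.univ)
    (i₀ : ι) (hmin : ∀ i : ι, P.RootForm (P.root i₀) (P.root i₀) ≤ P.RootForm (P.root i) (P.root i)) :
    ∃! u : Submodule.span ℤ (Set.range P.root) →+ N, ∀ i : ι,
      u ⟨P.root i, Submodule.subset_span (Set.mem_range_self i)⟩ =
        (P.RootForm (P.root i) (P.root i) / P.RootForm (P.root i₀) (P.root i₀)) • P.coroot i := by
  classical
  set ℓ₀ : ℤ := P.RootForm (P.root i₀) (P.root i₀) with hℓ₀
  have hℓ₀pos : 0 < ℓ₀ := Groth.Agent.H28.rootForm_root_self_pos P i₀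
  have hdvd : ∀ i : ι, ℓ₀ ∣ P.RootForm (P.root i) (P.root i) :=
    Groth.Agent.H28.rootForm_min_dvd P hirr i₀ hmin
  have htf : IsAddTorsionFree N := Groth.Agent.H28.isAddTorsionFree_coweight P
  have hinj : ∀ a b : N, ℓ₀ • a = ℓ₀ • b → a = b := by
    intro a b hab
    exact zsmul_right_injective hℓ₀pos.ne' hab
  -- the map `2 • Polarization`
  set φ : M →ₗ[ℤ] N := (2 : ℤ) • P.Polarization with hφ
  have hφroot : ∀ i : ι, φ (P.root i) =
      ℓ₀ • ((P.RootForm (P.root i) (P.root i) / ℓ₀) • P.coroot i) := by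
    intro i
    rw [smul_smul, Int.mul_ediv_cancel' (hdvd i), hφ, LinearMap.smul_apply,
      P.rootForm_self_smul_coroot i]
    simp only [two_smul]
  have hex : ∀ x : Submodule.span ℤ (Set.range P.root), ∃ n : N, ℓ₀ • n = φ x.1 := by
    rintro ⟨x, hx⟩
    induction hx using Submodule.span_induction with
    | mem y hy =>
      obtain ⟨i, rfl⟩ := hy
      exact ⟨_, (hφroot i).symm⟩
    | zero => exact ⟨0, by simp⟩
    | add y z _ _ hy hz =>
      obtain ⟨a, ha⟩ := hy
      obtain ⟨b, hb⟩ := hz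
      exact ⟨a + b, by simp only [smul_add, map_add, ha, hb]⟩
    | smul c y _ hy =>
      obtain ⟨a, ha⟩ := hy
      exact ⟨c • a, by simp only [map_smul, ← ha, smul_comm ℓ₀ c a]⟩
  choose v hv using hex
  have hvadd : ∀ x y, v (x + y) = v x + v y := by
    intro x y
    apply hinj
    rw [smul_add, hv, hv, hv]
    simp
  refine ⟨AddMonoidHom.mk' v hvadd, ?_, ?_⟩
  · intro i
    apply hinj
    change ℓ₀ • v _ = _
    rw [hv, ← hφroot i]
  · intro w hw
    ext ⟨x, hx⟩
    induction hx using Submodule.span_induction with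
    | mem y hy =>
      obtain ⟨i, rfl⟩ := hy
      rw [hw i]
      apply hinj
      change _ = ℓ₀ • v _
      rw [hv, ← hφroot i]
    | zero =>
      have : (⟨0, Submodule.zero_mem _⟩ : Submodule.span ℤ (Set.range P.root)) = 0 := rfl
      rw [this, map_zero, map_zero]
    | add y z hy hz ihy ihz =>
      have : (⟨y + z, Submodule.add_mem _ hy hz⟩ : Submodule.span ℤ (Set.range P.root)) =
          ⟨y, hy⟩ + ⟨z, hz⟩ := rfl
      rw [this, map_add, map_add, ihy, ihz]
    | smul c y hy ihy =>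
      have : (⟨c • y, Submodule.smul_mem _ c hy⟩ : Submodule.span ℤ (Set.range P.root)) =
          c • ⟨y, hy⟩ := rfl
      rw [this, map_zsmul, map_zsmul, ihy]

end Groth.Agent.S5499
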