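import Groth.Statements.S5500
import Groth.Agent.H28.RootIrred

set_option autoImplicit false
open RootD

namespace Groth.Agent.S5500

/-- For a p-morphism between irreducible reduced root data there is a rational constant k with k ·
long(u(α)) = q(α)² · long(α) for every root α; stated as the proportionality q(α)² ℓ(α) ℓ'(u β) =
q(β)² ℓ(β) ℓ'(u α) of the canonical quadratic forms. -/
theorem result {ι M N ι' M' N' : Type*} [AddCommGroup M] [AddCommGroup N] [AddCommGroup M'] [AddCommGroup N']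
    (P : RootPairing ι ℤ M N) (P' : RootPairing ι' ℤ M' N') [Finite ι] [Finite ι'] [Fintype ι] [Fintype ι'] [P.IsReduced] [P'.IsReduced]
    (hirr : ∀ R₁ : Set ι, RootD.IsClosedSub P R₁ → RootD.IsSymmSub P R₁ → RootD.IsClosedSub P R₁ᶜ →
      RootD.IsSymmSub P R₁ᶜ → R₁ = ∅ ∨ R₁ = Set.univ)
    (hirr' : ∀ R₁ : Set ι', RootD.IsClosedSub P' R₁ → RootD.IsSymmSub P' R₁ → RootD.IsClosedSub P' R₁ᶜ →
      RootD.IsSymmSub P' R₁ᶜ → R₁ = ∅ ∨ R₁ = Set.univ)
    (p : ℕ) (hp : 0 < p) (f : M' →ₗ[ℤ] M) (g : N →ₗ[ℤ] N')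
    (hfg : ∀ (m' : M') (n : N), P.toLinearMap (f m') n = P'.toLinearMap m' (g n))
    (u : ι ≃ ι') (q : ι → ℕ) (hq : ∀ i, ∃ e : ℕ, q i = p ^ e)
    (hroot : ∀ i : ι, f (P'.root (u i)) = (q i : ℤ) • P.root i)
    (hcoroot : ∀ i : ι, g (P.coroot i) = (q i : ℤ) • P'.coroot (u i)) (i j : ι) :
    ((q i : ℤ) ^ 2 * P.RootForm (P.root i) (P.root i)) * P'.RootForm (P'.root (u j)) (P'.root (u j)) =
      ((q j : ℤ) ^ 2 * P.RootForm (P.root j) (P.root j)) * P'.RootForm (P'.root (u i)) (P'.root (u i)) := by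
  classical
  have hqpos : ∀ i, (0 : ℤ) < (q i : ℤ) := by
    intro i
    obtain ⟨e, he⟩ := hq i
    rw [he]
    exact_mod_cast Nat.pow_pos hp
  have hpair : ∀ a b : ι, (q a : ℤ) * P.pairing a b = (q b : ℤ) * P'.pairing (u a) (u b) := by
    intro a b
    have h1 := hfg (P'.root (u a)) (P.coroot b)
    rw [hroot a, hcoroot b] at h1
    simpa using h1
  have hB : ∀ a : ι, 0 < P'.RootForm (P'.root (u a)) (P'.root (u a)) := fun a =>
    Groth.Agent.H28.rootForm_root_self_pos P' (u a)
  have hstep : ∀ a b : ι, ¬ P.IsOrthogonal a b →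
      ((q a : ℤ) ^ 2 * P.RootForm (P.root a) (P.root a)) * P'.RootForm (P'.root (u b)) (P'.root (u b)) =
      ((q b : ℤ) ^ 2 * P.RootForm (P.root b) (P.root b)) * P'.RootForm (P'.root (u a)) (P'.root (u a)) := by
    intro a b hab
    rw [Groth.Agent.H28.isOrthogonal_iff] at hab
    have hba : P.pairing b a ≠ 0 := fun h0 => hab ((Groth.Agent.H28.pairing_zero_iff P a b).mpr h0)
    have e1 := Groth.Agent.H28.rootForm_self_mul_pairing_comm P a b
    have e2 := Groth.Agent.H28.rootForm_self_mul_pairing_comm P' (u a) (u b)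
    have p1 := hpair a b
    have p2 := hpair b a
    have ha' : P'.pairing (u a) (u b) ≠ 0 := by
      intro h0
      rw [h0, mul_zero] at p1
      rcases mul_eq_zero.mp p1 with h | h
      · exact (hqpos a).ne' h
      · exact hab h
    have hne : P.pairing b a * P'.pairing (u a) (u b) ≠ 0 := mul_ne_zero hba ha'
    apply mul_right_cancel₀ hne
    calc (q a : ℤ) ^ 2 * P.RootForm (P.root a) (P.root a) * P'.RootForm (P'.root (u b)) (P'.root (u b)) *
          (P.pairing b a * P'.pairing (u a) (u b))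
        = (q a : ℤ) ^ 2 * (P.RootForm (P.root a) (P.root a) * P.pairing b a) *
          (P'.RootForm (P'.root (u b)) (P'.root (u b)) * P'.pairing (u a) (u b)) := by ring
      _ = (q a : ℤ) ^ 2 * (P.RootForm (P.root b) (P.root b) * P.pairing a b) *
          (P'.RootForm (P'.root (u a)) (P'.root (u a)) * P'.pairing (u b) (u a)) := by rw [e1, e2]
      _ = P.RootForm (P.root b) (P.root b) * P'.RootForm (P'.root (u a)) (P'.root (u a)) *
          (((q a : ℤ) * P.pairing a b) * ((q a : ℤ) * P'.pairing (u b) (u a))) := by ring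
      _ = P.RootForm (P.root b) (P.root b) * P'.RootForm (P'.root (u a)) (P'.root (u a)) *
          (((q b : ℤ) * P'.pairing (u a) (u b)) * ((q b : ℤ) * P.pairing b a)) := by rw [p1, p2]
      _ = _ := by ring
  have hchain := Groth.Agent.H28.chain_of_isIrred P hirr i j
  induction hchain with
  | refl => rfl
  | @tail b c _ hbc ih =>
    have h2 := hstep b c hbc
    apply mul_right_cancel₀ (hB b).ne'
    calc (q i : ℤ) ^ 2 * P.RootForm (P.root i) (P.root i) * P'.RootForm (P'.root (u c)) (P'.root (u c)) *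
          P'.RootForm (P'.root (u b)) (P'.root (u b))
        = ((q i : ℤ) ^ 2 * P.RootForm (P.root i) (P.root i) * P'.RootForm (P'.root (u b)) (P'.root (u b))) *
          P'.RootForm (P'.root (u c)) (P'.root (u c)) := by ring
      _ = ((q b : ℤ) ^ 2 * P.RootForm (P.root b) (P.root b) * P'.RootForm (P'.root (u c)) (P'.root (u c))) *
          P'.RootForm (P'.root (u i)) (P'.root (u i)) := by rw [ih]; ring
      _ = _ := by rw [h2]; ring

end Groth.Agent.S5500
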