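import Groth.Statements.S5501
import Groth.Agent.H28.RootSpanRestrict
import Mathlib.LinearAlgebra.FreeModule.Finite.Quotient
import Mathlib.LinearAlgebra.FreeModule.PID

set_option autoImplicit false
universe u v w
open RootD

namespace Groth.Agent.S5501

/-- Adjoint case; the simply connected case is dual: a semisimple root datum R is adjoint if and only if
every isogeny R' → R is an isomorphism. -/
theorem result {ι : Type u} {M : Type v} {N : Type w} [AddCommGroup M] [AddCommGroup N]
    (P : RootPairing ι ℤ M N) [Finite ι] [Module.Finite ℤ M] [Module.Finite ℤ N]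
    (hss : Module.finrank ℤ (Submodule.span ℤ (Set.range P.root)) = Module.finrank ℤ M) :
    Submodule.span ℤ (Set.range P.root) = ⊤ ↔
      ∀ (ι' : Type u) (M' N' : Type v) [AddCommGroup M'] [AddCommGroup N'] [Finite ι']
        [Module.Finite ℤ M'] [Module.Finite ℤ N'] (P' : RootPairing ι' ℤ M' N') (f : RootPairing.Hom P' P),
        Function.Injective f.weightMap → Finite (M ⧸ LinearMap.range f.weightMap) →
          Function.Bijective f.weightMap := by
  classical
  constructor
  · intro htop ι' M' N' _ _ _ _ _ P' f hinj _
    refine ⟨hinj, ?_⟩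
    rw [← LinearMap.range_eq_top, eq_top_iff, ← htop, Submodule.span_le]
    rintro _ ⟨i, rfl⟩
    refine ⟨P'.root (f.indexEquiv.symm i), ?_⟩
    rw [RootPairing.Hom.root_weightMap_apply]
    simp
  · intro h
    have hrefl : Module.IsReflexive ℤ M := Groth.Agent.H28.isReflexive_weight P
    have htf : Module.IsTorsionFree ℤ M := Groth.Agent.H28.isTorsionFree_weight P
    have hfree : Module.Free ℤ M := Module.free_of_finite_type_torsion_free'
    have hfin' : Module.Finite ℤ (Groth.Agent.H28.rSpan P) := inferInstance
    have hfree' : Module.Free ℤ (Groth.Agent.H28.rSpan P) := inferInstance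
    have hrefl' : Module.IsReflexive ℤ (Groth.Agent.H28.rSpan P) := inferInstance
    have hfinq : Finite (M ⧸ Groth.Agent.H28.rSpan P) :=
      Submodule.finiteQuotientOfFreeOfRankEq _ hss
    have hfd : Module.Finite ℤ (Module.Dual ℤ (Groth.Agent.H28.rSpan P)) := inferInstance
    have hb := h ι (Groth.Agent.H28.rSpan P) (Module.Dual ℤ (Groth.Agent.H28.rSpan P))
      (Groth.Agent.H28.restrictRootSpan P) (Groth.Agent.H28.restrictRootSpanHom P)
      (Submodule.subtype_injective _)
      (by
        have : LinearMap.range (Groth.Agent.H28.restrictRootSpanHom P).weightMap =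
            Groth.Agent.H28.rSpan P := Submodule.range_subtype _
        rw [this]
        exact hfinq)
    have hs : Function.Surjective (Groth.Agent.H28.rSpan P).subtype := hb.2
    rw [← LinearMap.range_eq_top, Submodule.range_subtype] at hs
    exact hs

end Groth.Agent.S5501
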