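import Groth.Statements.S5502
import Groth.Agent.H28.SimpleDual

set_option autoImplicit false
open RootD

namespace Groth.Agent.S5502

/-- If β = Σ_{α ∈ Δ} a_α α along a system of simple roots Δ, then ℓ(β) divides 2 a_α ℓ(α), and 2ℓ(β)
divides it when α^v is indivisible (ℓ the canonical quadratic form). -/
theorem result {ι M N : Type*} [AddCommGroup M] [AddCommGroup N]
    (P : RootPairing ι ℤ M N) [Finite ι] [Fintype ι] (Δ : Set ι) (hΔ : RootD.IsSimpleSys P Δ)
    (k : ι) (c : ι →₀ ℤ) (hc : ↑c.support ⊆ Δ) (hck : Finsupp.linearCombination ℤ P.root c = P.root k)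
    (i : ι) (hi : i ∈ Δ) :
    P.RootForm (P.root k) (P.root k) ∣ 2 * c i * P.RootForm (P.root i) (P.root i) ∧
      (RootD.IsIndiv P.flip i → 2 * P.RootForm (P.root k) (P.root k) ∣ 2 * c i * P.RootForm (P.root i) (P.root i)) := by
  classical
  have := Fintype.ofFinite Δ
  set c' : Δ →₀ ℤ := c.subtypeDomain (· ∈ Δ) with hc'
  have hlc : Groth.Agent.H28.lc P Δ c' = P.root k := by
    rw [← hck, Groth.Agent.H28.lc_apply, Finsupp.linearCombination_apply]
    exact Finsupp.sum_subtypeDomain_index (h := fun a n => n • P.root a) (fun x hx => hc hx)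
  have hcoeff : Groth.Agent.H28.coeff hΔ k = c' := Groth.Agent.H28.coeff_unique hΔ hlc
  obtain ⟨d, -, hd⟩ := Groth.Agent.H28.exists_dual_coeff hΔ k
  have h := hd ⟨i, hi⟩
  rw [hcoeff] at h
  have hci : c' ⟨i, hi⟩ = c i := rfl
  rw [hci] at h
  by_cases hind : RootD.IsIndiv P.flip i
  · have he : Groth.Agent.H28.eps P Δ ⟨i, hi⟩ = 1 := Groth.Agent.H28.eps_eq_one P Δ (a := ⟨i, hi⟩) hind
    rw [he, mul_one] at h
    refine ⟨⟨2 * d ⟨i, hi⟩, ?_⟩, fun _ => ⟨d ⟨i, hi⟩, ?_⟩⟩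
    · simp only at h ⊢; linear_combination (-2 : ℤ) * h
    · simp only at h ⊢; linear_combination (-2 : ℤ) * h
  · have he : Groth.Agent.H28.eps P Δ ⟨i, hi⟩ = 2 := Groth.Agent.H28.eps_eq_two P Δ (a := ⟨i, hi⟩) hind
    rw [he] at h
    refine ⟨⟨d ⟨i, hi⟩, ?_⟩, fun h' => absurd h' hind⟩
    simp only at h ⊢; linear_combination (-1 : ℤ) * h

end Groth.Agent.S5502
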