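import Groth.Statements.S5503

set_option autoImplicit false
open RootD
open RootPairing
open scoped Pointwise

namespace Groth.Agent.S5503

/-- For an automorphism u of a root datum and a root α, u s_α u⁻¹ = s_{u(α)}; hence W(R) is a normal
subgroup of Aut(R). -/
theorem result {ι M N : Type*} [AddCommGroup M] [AddCommGroup N]
    (P : RootPairing ι ℤ M N) [Finite ι] (u : P.Aut) (i : ι) :
    u * Equiv.reflection P i * u⁻¹ = Equiv.reflection P (u • i) := by
  apply Equiv.weightHom_injective P
  rw [map_mul, map_mul, map_inv]
  ext x
  have hroot : Equiv.weightHom P u (P.root i) = P.root (u • i) := by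
    have := Hom.root_weightMap_apply P P i u.toHom
    exact this
  have hco : u.toHom.coweightMap (P.coroot (u • i)) = P.coroot i := by
    have := Hom.coroot_coweightMap_apply P P (u • i) u.toHom
    rw [this]
    congr 1
    exact u.toHom.indexEquiv.symm_apply_apply i
  have htr : ∀ (m : M) (n : N), P.toLinearMap (Equiv.weightHom P u m) n =
      P.toLinearMap m (u.toHom.coweightMap n) := by
    intro m n
    have := Hom.weight_coweight_transpose_apply P P n u.toHom
    have := LinearMap.congr_fun this m
    simpa using this
  have hx : x = Equiv.weightHom P u ((Equiv.weightHom P u)⁻¹ x) := by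
    simp
  set y := (Equiv.weightHom P u)⁻¹ x with hy
  simp only [LinearEquiv.mul_apply, Equiv.weightHom_apply, Equiv.reflection_weightEquiv]
  change Equiv.weightHom P u (P.reflection i y) = P.reflection (u • i) x
  rw [RootPairing.reflection_apply, RootPairing.reflection_apply, map_sub, map_smul, hroot, ← hx]
  congr 2
  simp only [LinearMap.flip_apply]
  rw [hx, htr, hco]

end Groth.Agent.S5503
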