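import Groth.Statements.S5582
import Groth.Agent.H28.ToposPres

set_option autoImplicit false
open CategoryTheory CategoryTheory.Limits Opposite
universe u
open ToposFin

namespace Groth.Agent.S5582

/-- Equivalence of (i), (ii bis) and (iii), for the topos of sheaves of sets on a small site admitting a
generating family of coherent objects: the coequalizer of every pair of arrows between coherent
objects is coherent if and only if every object X for which Hom(X, -) commutes with small filtered
colimits is coherent; and every object is a small filtered colimit of coherent objects if and only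
if that same condition holds. -/
theorem result {C : Type u} [SmallCategory C]
    {J : GrothendieckTopology C} (hE : ToposFin.HasCoherentGenerators J) :
    ((∀ (X₀ X₁ : ToposFin.Sh J) (a b : X₁ ⟶ X₀), ToposFin.IsCoherent X₀ → ToposFin.IsCoherent X₁ →
        ToposFin.IsCoherent (coequalizer a b)) ↔
      (∀ X : ToposFin.Sh J, ToposFin.IsFP X → ToposFin.IsCoherent X)) ∧
    ((∀ X : ToposFin.Sh J, ∃ (I : Type u) (_ : SmallCategory I) (_ : IsFiltered I) (D : I ⥤ ToposFin.Sh J),
        (∀ i, ToposFin.IsCoherent (D.obj i)) ∧ Nonempty (X ≅ colimit D)) ↔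
      (∀ X : ToposFin.Sh J, ToposFin.IsFP X → ToposFin.IsCoherent X)) := by
  have hE' := Groth.Agent.H28.coversAll_coherent_iff.2 hE
  have hqcgen : ToposFin.HasQCGenerators J :=
    Groth.Agent.H28.coversAll_qc_iff.1 (hE'.mono fun K hK => hK.1)
  refine ⟨⟨fun hA X hX => ?_, fun hB X₀ X₁ a b h₀ h₁ => ?_⟩, ⟨fun hC X hX => ?_, fun hB X => ?_⟩⟩
  · obtain ⟨X₀, X₁, a, b, i, p, h₀, h₁, hip⟩ :=
      Groth.Agent.H28.exists_retract_coequalizer_of_isFP hE' hX
    exact Groth.Agent.H28.isCoherent_of_retract i p hip (hA X₀ X₁ a b h₀ h₁)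
  · exact hB _ (Groth.Agent.H28.isFP_coequalizer a b
      (Groth.Agent.H28.isFP_of_isCoherent hqcgen h₀)
      ((Groth.Agent.H28.isQC_iff_fpInj X₁).1 h₁.1))
  · obtain ⟨I, _, _, D, hD, ⟨e⟩⟩ := hC X
    obtain ⟨i, f, hf⟩ := ((Groth.Agent.H28.isFP_iff X).1 hX).2 I D e.hom
    exact Groth.Agent.H28.isCoherent_of_retract f (colimit.ι D i ≫ e.inv)
      (by rw [← Category.assoc, hf, e.hom_inv_id]) (hD i)
  · obtain ⟨I, _, _, D, hD, e⟩ := Groth.Agent.H28.exists_filtered_colimit_isFP hE' X
    exact ⟨I, inferInstance, inferInstance, D, fun i => hB _ (hD i), e⟩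

end Groth.Agent.S5582
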