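import Groth.Statements.S5585
import Groth.Agent.H28.ToposAlg

set_option autoImplicit false
open CategoryTheory CategoryTheory.Limits Opposite
universe u
open ToposFin

namespace Groth.Agent.S5585

/-- For an algebraic topos of sheaves of sets on a small site and a morphism f : X -> Y: if Y is
quasi-separated (resp. coherent), then X is quasi-separated (resp. coherent) if and only if f is a
quasi-separated (resp. coherent) morphism. -/
theorem result {C : Type u} [SmallCategory C] {J : GrothendieckTopology C}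
    (hE : ToposFin.IsAlgebraic J) {X Y : ToposFin.Sh J} (f : X ⟶ Y) :
    (ToposFin.IsQS Y → (ToposFin.IsQS X ↔ ToposFin.IsQSHom f)) ∧
    (ToposFin.IsCoherent Y → (ToposFin.IsCoherent X ↔ ToposFin.IsCohHom f)) := by
  obtain ⟨S, hqc, hgen, hpb, heq⟩ := hE
  have hS := Groth.Agent.H28.CoversAll.of_isGenerating hgen
  refine ⟨fun hY => ⟨fun hX => Groth.Agent.H28.isQSHom_of_isQS_of_algebraic hqc hS heq hX f,
    fun hf => Groth.Agent.H28.IsQS.of_isQSHom f hf hY⟩, fun hY => ⟨fun hX => ?_, fun hf => ?_⟩⟩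
  · exact ⟨Groth.Agent.H28.isQCHom_of_isQC_of_isQS f hX.1 hY.2,
      Groth.Agent.H28.isQSHom_of_isQS_of_algebraic hqc hS heq hX.2 f⟩
  · exact ⟨Groth.Agent.H28.IsQCHom.of_isPullback hf.1 (IsPullback.of_id_fst (f := f)) hY.1,
      Groth.Agent.H28.IsQS.of_isQSHom f hf.2 hY.2⟩

end Groth.Agent.S5585
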