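import Groth.Statements.S5586
import Groth.Agent.H28.ToposAlg

set_option autoImplicit false
open CategoryTheory CategoryTheory.Limits Opposite
universe u
open ToposFin

namespace Groth.Agent.S5586

/-- Quasi-separated and coherent cases: for an algebraic topos of sheaves of sets on a small site: let f
: X -> Y be a morphism and (Y_i -> Y) a jointly epimorphic family. If the Y_i are quasi-separated
(resp. coherent), then f is quasi-separated (resp. coherent) if and only if every X x_Y Y_i is a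
quasi-separated (resp. coherent) object. -/
theorem result {C : Type u} [SmallCategory C]
    {J : GrothendieckTopology C} (hE : ToposFin.IsAlgebraic J) {X Y : ToposFin.Sh J} (f : X ⟶ Y)
    {ι : Type u} (Yi : ι → ToposFin.Sh J) (g : ∀ i, Yi i ⟶ Y)
    (hg : ∀ (Z : ToposFin.Sh J) (a b : Y ⟶ Z), (∀ i, g i ≫ a = g i ≫ b) → a = b) :
    ((∀ i, ToposFin.IsQS (Yi i)) → (ToposFin.IsQSHom f ↔ ∀ i, ToposFin.IsQS (pullback f (g i)))) ∧
    ((∀ i, ToposFin.IsCoherent (Yi i)) →
      (ToposFin.IsCohHom f ↔ ∀ i, ToposFin.IsCoherent (pullback f (g i)))) := by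
  obtain ⟨S, hqc, hgen, hpb, heq⟩ := hE
  have hS := Groth.Agent.H28.CoversAll.of_isGenerating hgen
  have hE' := Groth.Agent.H28.coversAll_qc_of_subset hS hqc
  have hcov : Groth.Agent.H28.IsCover g := Groth.Agent.H28.isCover_of_hom_ext g hg
  have hqs1 : ToposFin.IsQSHom f → ∀ i, ToposFin.IsQS (Yi i) → ToposFin.IsQS (pullback f (g i)) := by
    intro hf i hYi
    exact Groth.Agent.H28.IsQS.of_isQSHom _
      (Groth.Agent.H28.IsQSHom.of_isPullback_snd hf (IsPullback.of_hasPullback f (g i))) hYi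
  have hqs2 : (∀ i, ToposFin.IsQS (pullback f (g i))) → ToposFin.IsQSHom f := by
    intro h
    exact Groth.Agent.H28.isQSHom_of_cover_target hE' f g hcov
      (fun i => Groth.Agent.H28.isQSHom_of_isQS_of_algebraic hqc hS heq (h i) _)
  refine ⟨fun hY => ⟨fun hf i => hqs1 hf i (hY i), hqs2⟩, fun hY => ⟨fun hf i => ?_, fun h => ?_⟩⟩
  · exact ⟨hf.1 _ (g i) (hY i).1, hqs1 hf.2 i (hY i).2⟩
  · refine ⟨?_, hqs2 (fun i => (h i).2)⟩
    exact Groth.Agent.H28.isQCHom_of_cover_target hE' f g hcov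
      (fun i => Groth.Agent.H28.isQCHom_of_isQC_of_isQS _ (h i).1 (hY i).2)

end Groth.Agent.S5586
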