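import Groth.Statements.S5588
import Groth.Agent.H28.ToposPres
import Groth.Agent.H28.ToposAlg

set_option autoImplicit false
open CategoryTheory CategoryTheory.Limits Opposite
universe u
open ToposFin

namespace Groth.Agent.S5588

/-- (ii) implies (i), for the topos of sheaves of sets on a small site: let S be an isomorphism-closed
generating set of quasi-compact objects, stable under finite colimits and under fibre products. Then
S is the set of all coherent objects (so the topos is locally coherent), and every object X for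
which Hom(X, -) commutes with small filtered colimits is coherent. -/
theorem result {C : Type u} [SmallCategory C]
    {J : GrothendieckTopology C} (S : Set (ToposFin.Sh J)) (hqc : ∀ K ∈ S, ToposFin.IsQC K)
    (hiso : ∀ ⦃K L : ToposFin.Sh J⦄, K ∈ S → Nonempty (K ≅ L) → L ∈ S)
    (hgen : ToposFin.IsGenerating S) (hpb : ToposFin.ClosedUnderPullbacks S)
    (hcolim : ∀ (K : Type) [SmallCategory K] [FinCategory K] (D : K ⥤ ToposFin.Sh J),
      (∀ k, D.obj k ∈ S) → colimit D ∈ S) :
    (∀ X : ToposFin.Sh J, X ∈ S ↔ ToposFin.IsCoherent X) ∧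
    (∀ X : ToposFin.Sh J, ToposFin.IsFP X → ToposFin.IsCoherent X) := by
  have hS := Groth.Agent.H28.CoversAll.of_isGenerating hgen
  have hmem : ∀ X : ToposFin.Sh J, X ∈ S ↔ ToposFin.IsCoherent X := fun X =>
    ⟨fun hX => Groth.Agent.H28.isCoherent_of_mem hqc hS hpb hX,
      fun hX => Groth.Agent.H28.mem_of_isCoherent hqc hiso hS hcolim hX⟩
  refine ⟨hmem, fun X hX => ?_⟩
  have hE' : Groth.Agent.H28.CoversAll {K : ToposFin.Sh J | ToposFin.IsCoherent K} :=
    hS.mono fun K hK => (hmem K).1 hK
  obtain ⟨X₀, X₁, a, b, i, p, h₀, h₁, hip⟩ :=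
    Groth.Agent.H28.exists_retract_coequalizer_of_isFP hE' hX
  have hQ : coequalizer a b ∈ S := hcolim WalkingParallelPair (parallelPair a b) (by
    rintro (_ | _)
    · exact (hmem _).2 h₁
    · exact (hmem _).2 h₀)
  exact Groth.Agent.H28.isCoherent_of_retract i p hip ((hmem _).1 hQ)

end Groth.Agent.S5588
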