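import Groth.Statements.S5590
import Groth.Agent.H28.ToposMor

set_option autoImplicit false
open CategoryTheory CategoryTheory.Limits Opposite
universe u
open ToposFin

namespace Groth.Agent.S5590

/-- Let f be a morphism of topoi of sheaves of sets on small sites, with inverse image functor F (left
adjoint, preserving finite limits); let S be a generating set of coherent objects of the target
topos and assume the source topos admits a generating family of quasi-compact objects. Then f is
coherent, i.e. F carries quasi-compact objects to quasi-compact objects and quasi-separated objects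
to quasi-separated objects, if and only if F(X) is coherent for every X in S. -/
theorem result {C D : Type u} [SmallCategory C] [SmallCategory D]
    {J : GrothendieckTopology C} {K : GrothendieckTopology D}
    (F : ToposFin.Sh K ⥤ ToposFin.Sh J) (R : ToposFin.Sh J ⥤ ToposFin.Sh K) (adj : F ⊣ R)
    [PreservesFiniteLimits F]
    (hE' : ToposFin.HasQCGenerators J)
    (S : Set (ToposFin.Sh K)) (hS : ∀ X ∈ S, ToposFin.IsCoherent X) (hgen : ToposFin.IsGenerating S) :
    ((∀ X : ToposFin.Sh K, ToposFin.IsQC X → ToposFin.IsQC (F.obj X)) ∧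
      (∀ X : ToposFin.Sh K, ToposFin.IsQS X → ToposFin.IsQS (F.obj X))) ↔
      ∀ X ∈ S, ToposFin.IsCoherent (F.obj X) := by
  have hS' := Groth.Agent.H28.CoversAll.of_isGenerating hgen
  have hEJ := Groth.Agent.H28.coversAll_qc_iff.2 hE'
  constructor
  · intro h X hX
    exact ⟨h.1 X (hS X hX).1, h.2 X (hS X hX).2⟩
  · intro h
    have hqc : ∀ X : ToposFin.Sh K, ToposFin.IsQC X → ToposFin.IsQC (F.obj X) :=
      fun X hX => Groth.Agent.H28.isQC_map_of_coversAll adj hS' (fun Y hY => (h Y hY).1) hX
    refine ⟨hqc, ?_⟩
    intro X hX
    obtain ⟨ι, G, π, hG, hπ⟩ := hS' X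
    refine Groth.Agent.H28.isQS_of_coherent_cover_pullback hEJ (fun i => F.map (π i))
      (hπ.map_of_adjunction adj) (fun i => h _ (hG i)) ?_
    intro i j
    have h1 : ToposFin.IsQC (pullback (π i) (π j)) :=
      hX _ _ (π i) (π j) (hS _ (hG i)).1 (hS _ (hG j)).1
    have h2 := (IsPullback.of_hasPullback (π i) (π j)).map F
    exact Groth.Agent.H28.IsQC.of_iso h2.isoPullback (hqc _ h1)

end Groth.Agent.S5590
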