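import Groth.Statements.S5592
import Groth.Agent.H69.EtSepClosedPt

set_option autoImplicit false
open CategoryTheory CategoryTheory.Limits AlgebraicGeometry Opposite
universe u
open EtDesc

namespace Groth.Agent.S5592

/-- Let k' be a separably closed extension field of a separably closed field k and u : Spec k' -> Spec k
the canonical morphism. Then the inverse image functor u^* from etale sheaves of sets on Spec k to
etale sheaves of sets on Spec k' is an equivalence of categories. -/
theorem result (k k' : Type u) [Field k] [IsSepClosed k]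
    [Field k'] [IsSepClosed k'] [Algebra k k'] :
    (EtDesc.pullSh (Spec.map (CommRingCat.ofHom (algebraMap k k')))).IsEquivalence := by
  let f : Spec (CommRingCat.of k') ⟶ Spec (CommRingCat.of k) :=
    Spec.map (CommRingCat.ofHom (algebraMap k k'))
  -- global sections commute with direct image
  let e : EtDesc.pushSh f ⋙ Groth.Agent.H69.EtSepClosedPt.Γ k ≅
      Groth.Agent.H69.EtSepClosedPt.Γ k' :=
    NatIso.ofComponents (fun F => F.obj.mapIso (EtCore.bcTopIso f).op.symm) (fun {F G} φ => by
      simp only [Functor.comp_map, Functor.mapIso_hom, Iso.symm_hom]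
      exact (φ.hom.naturality _).symm)
  have h1 : (Groth.Agent.H69.EtSepClosedPt.Γ k).IsEquivalence :=
    Groth.Agent.H69.EtSepClosedPt.isEquivalence_Γ k
  have h2 : (Groth.Agent.H69.EtSepClosedPt.Γ k').IsEquivalence :=
    Groth.Agent.H69.EtSepClosedPt.isEquivalence_Γ k'
  have h3 : (EtDesc.pushSh f ⋙ Groth.Agent.H69.EtSepClosedPt.Γ k).IsEquivalence :=
    Functor.isEquivalence_of_iso e.symm
  have h4 : (EtDesc.pushSh f).IsEquivalence :=
    Functor.isEquivalence_of_comp_right _ (Groth.Agent.H69.EtSepClosedPt.Γ k)
  exact (EtDesc.adjSh f).isEquivalence_left_of_isEquivalence_right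

end Groth.Agent.S5592
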