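import Groth.Statements.S5603
import Groth.Agent.H28.PCohDer2

set_option autoImplicit false
universe w v u
open CategoryTheory CategoryTheory.Limits
open PCoh

namespace Groth.Agent.S5603

/-- Punctual site: let C be an abelian category and C₀ a strictly full additive subcategory,
quasi-stable under kernels of epimorphisms and quasi-liftable. If F ∈ D(C) is acyclic in degrees >
n, then F is n-pseudo-coherent (isomorphic to a strictly n-pseudo-coherent complex) if and only if
H^n(F) is of C₀-finite type. -/
theorem result {C : Type u} [Category.{v} C] [Abelian C] [HasDerivedCategory.{w} C]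
    (P : ObjectProperty C) [P.IsClosedUnderIsomorphisms] [P.ContainsZero] (hsum : ∀ X Y : C, P X → P Y → P (X ⨯ Y))
    (hqs : PCoh.IsQuasiStableUnderKernels P) (hql : PCoh.IsQuasiLiftable P)
    (n : ℤ) (F : DerivedCategory C) (hac : ∀ i : ℤ, n < i → IsZero ((DerivedCategory.homologyFunctor C i).obj F)) :
    (∃ E : CochainComplex C ℤ, PCoh.IsStrictPC P n E ∧ Nonempty (DerivedCategory.Q.obj E ≅ F)) ↔ PCoh.IsOfFiniteType P ((DerivedCategory.homologyFunctor C n).obj F) := by
  constructor
  · rintro ⟨E, hE, ⟨e⟩⟩
    have hiso : ∀ i : ℤ, E.homology i ≅ (DerivedCategory.homologyFunctor C i).obj F := fun i =>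
      (Groth.Agent.H28.PCohDer.homologyQIso E i).symm ≪≫
        (DerivedCategory.homologyFunctor C i).mapIso e
    refine Groth.Agent.H28.PCohCore.isOfFiniteType_of_iso P (hiso n) ?_
    apply Groth.Agent.H28.PCohCore.isOfFiniteType_homology P hqs n E hE
    intro i hi
    rw [HomologicalComplex.exactAt_iff_isZero_homology]
    exact IsZero.of_iso (hac i hi) (hiso i)
  · intro hft
    let F₁ := DerivedCategory.Q.objPreimage F
    let φ : DerivedCategory.Q.obj F₁ ≅ F := DerivedCategory.Q.objObjPreimageIso F
    have hiso : ∀ i : ℤ, F₁.homology i ≅ (DerivedCategory.homologyFunctor C i).obj F := fun i =>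
      (Groth.Agent.H28.PCohDer.homologyQIso F₁ i).symm ≪≫
        (DerivedCategory.homologyFunctor C i).mapIso φ
    obtain ⟨E', u', hE', hu'⟩ :=
      Groth.Agent.H28.PCohDer.exists_strictPC_of_finiteType_homology P hql n F₁
        (fun i hi => IsZero.of_iso (hac i hi) (hiso i))
        (Groth.Agent.H28.PCohCore.isOfFiniteType_of_iso P (hiso n).symm hft)
    have := Groth.Agent.H28.PCohDer.isIso_Q_map_of_quasiIso u' hu'
    exact ⟨E', hE', ⟨asIso (DerivedCategory.Q.map u') ≪≫ φ⟩⟩

end Groth.Agent.S5603
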