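import Groth.Statements.S5609
import Groth.Agent.H28.StrictPerf

set_option autoImplicit false
universe w v u
open CategoryTheory CategoryTheory.Limits
open PCoh

namespace Groth.Agent.S5609

open CategoryTheory.Pretriangulated in
/-- Punctual site: stability of perfect complexes under cones: let C be an abelian category and C₀ a
strictly full additive subcategory which is liftable (every epimorphism onto an object of C₀ splits)
and stable under kernels of epimorphisms. If E ⟶ F ⟶ G ⟶ E⟦1⟧ is a distinguished triangle of D(C)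
with E and F perfect relative to C₀ (isomorphic to bounded complexes with terms in C₀), then G is
perfect relative to C₀. -/
theorem result {C : Type u} [Category.{v} C] [Abelian C] [HasDerivedCategory.{w} C]
    (P : ObjectProperty C) [P.IsClosedUnderIsomorphisms] [P.ContainsZero] (hsum : ∀ X Y : C, P X → P Y → P (X ⨯ Y))
    (hlift : ∀ (E F : C) (u : E ⟶ F), Epi u → P F → IsSplitEpi u)
    (hst : ∀ (E F : C) (u : E ⟶ F), Epi u → P E → P F → P (kernel u))
    (T : Triangle (DerivedCategory C)) (hT : T ∈ distinguishedTriangles)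
    (h₁ : (∃ (E : CochainComplex C ℤ) (a b : ℤ), (∀ i : ℤ, i < a ∨ b < i → IsZero (E.X i)) ∧ (∀ i : ℤ, P (E.X i)) ∧ Nonempty (DerivedCategory.Q.obj E ≅ T.obj₁)))
    (h₂ : (∃ (E : CochainComplex C ℤ) (a b : ℤ), (∀ i : ℤ, i < a ∨ b < i → IsZero (E.X i)) ∧ (∀ i : ℤ, P (E.X i)) ∧ Nonempty (DerivedCategory.Q.obj E ≅ T.obj₂))) :
    (∃ (E : CochainComplex C ℤ) (a b : ℤ), (∀ i : ℤ, i < a ∨ b < i → IsZero (E.X i)) ∧ (∀ i : ℤ, P (E.X i)) ∧ Nonempty (DerivedCategory.Q.obj E ≅ T.obj₃)) := by
  obtain ⟨E₁, a₁, b₁, hv₁, hP₁, ⟨e₁⟩⟩ := h₁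
  obtain ⟨E₂, a₂, b₂, hv₂, hP₂, ⟨e₂⟩⟩ := h₂
  have : E₁.IsKProjective := Groth.Agent.H28.StrictPerf.isKProjective_of_bounded P hlift E₁ hP₁ b₁
    (fun i hi => hv₁ i (Or.inr hi))
  obtain ⟨f, ⟨e₃⟩⟩ := Groth.Agent.H35.exists_mappingCone_iso T hT E₁ E₂ e₁ e₂
  refine ⟨CochainComplex.mappingCone f, min (a₁ - 1) a₂, max (b₁ - 1) b₂, ?_, ?_, ⟨e₃⟩⟩
  · intro i hi
    apply Groth.Agent.H28.StrictPerf.isZero_mappingCone
    · apply hv₁
      rcases hi with hi | hi
      · left
        have := min_le_left (a₁ - 1) a₂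
        omega
      · right
        have := le_max_left (b₁ - 1) b₂
        omega
    · apply hv₂
      rcases hi with hi | hi
      · left
        have := min_le_right (a₁ - 1) a₂
        omega
      · right
        have := le_max_right (b₁ - 1) b₂
        omega
  · intro i
    exact Groth.Agent.H28.StrictPerf.prop_mappingCone P hsum f i (hP₁ _) (hP₂ _)

end Groth.Agent.S5609
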