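import Groth.Statements.S5612
import Groth.Agent.H35.TorAmpBounded
import Groth.Agent.H35.TorDimAmp
import Groth.Agent.H35.TorAmpGlDim
import Groth.Agent.H35.PerfectPC

set_option autoImplicit false
universe u
open CategoryTheory CategoryTheory.Limits
attribute [local instance] HasDerivedCategory.standard
open DRing

namespace Groth.Agent.S5612

/-- Let A be a commutative ring all of whose modules have finite tor dimension (for instance A of finite
global dimension) and K ∈ D(A). (i) K has finite tor dimension if and only if K has bounded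
cohomology. (ii) K is perfect if and only if K has bounded cohomology and is pseudo-coherent. -/
theorem result {A : Type u} [CommRing A]
    (hA : ∀ (M : Type u) [AddCommGroup M] [Module A M], DRing.HasFiniteTorDim A M) (K : Dual.D A) :
    (DRing.HasFiniteTorDimCx A K ↔ ∃ a b : ℤ, ∀ i : ℤ, i < a ∨ b < i → Subsingleton (Dual.HD A K i)) ∧
      (DRing.IsPerfect A K ↔
        (∃ a b : ℤ, ∀ i : ℤ, i < a ∨ b < i → Subsingleton (Dual.HD A K i)) ∧ DRing.IsPseudoCoherent' A K) := by
  classical
  have key : DRing.HasFiniteTorDimCx A K ↔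
      ∃ a b : ℤ, ∀ i : ℤ, i < a ∨ b < i → Subsingleton (Dual.HD A K i) := by
    constructor
    · rintro ⟨a, b, h⟩
      refine ⟨a, b, fun i hi => ?_⟩
      exact ModuleCat.subsingleton_of_isZero
        (Groth.Agent.H35.KF.isZero_homology_of_hasTorAmplitudeIn K a b h i hi)
    · rintro ⟨c, d, hcd⟩
      have hch : ∀ i : ℤ, ∃ n : ℕ, DRing.HasTorDimLE A n (Dual.HD A K i) := fun i => hA _
      choose n hn using hch
      let N : ℕ := (Finset.Icc c d).sup n
      refine ⟨c - N, d, ?_⟩
      refine Groth.Agent.H35.KF.hasTorAmplitudeIn_of_bounded_homology (c - N) d K ⟨c, d, hcd⟩ ?_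
      intro i
      by_cases hi : i < c ∨ d < i
      · have := hcd i hi
        refine Groth.Agent.H35.KF.hasTorAmplitudeIn_of_isZero _ ?_ _ _
        exact (DerivedCategory.singleFunctor (ModuleCat.{u} A) 0).map_isZero
          (ModuleCat.isZero_of_subsingleton _)
      · have hi' : c ≤ i ∧ i ≤ d := by omega
        have hle : n i ≤ N := Finset.le_sup (f := n) (Finset.mem_Icc.mpr hi')
        have h1 : DRing.HasTorDimLE A N (Dual.HD A K i) := by
          intro M _ _ p hp
          exact hn i M p (lt_of_le_of_lt hle hp)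
        have h2 := (Groth.Agent.H35.KF.hasTorDimLE_iff_hasTorAmplitudeIn
          (Dual.HD A K i) N).mp h1
        refine Groth.Agent.H35.KF.hasTorAmplitudeIn_mono _ _ _ _ _ ?_ ?_ h2 <;> omega
  refine ⟨key, ?_⟩
  rw [Groth.Agent.H35.KF.isPerfect_iff_isPseudoCoherent'_and_hasFiniteTorDimCx, key]
  exact and_comm

end Groth.Agent.S5612
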