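import Groth.Statements.S5613
import Groth.Agent.H28.KZeroTri
import Mathlib.CategoryTheory.Limits.Preserves.Shapes.Products
import Mathlib.CategoryTheory.Adjunction.Limits

set_option autoImplicit false
universe v u
open CategoryTheory CategoryTheory.Limits CategoryTheory.Pretriangulated
open KZero

namespace Groth.Agent.S5613

/-- Let C be a pretriangulated category, L an object of C and n an integer such that the coproduct ∐_{i
≥ 0} L⟦2ni⟧ exists in C. Then cl(L) = 0 in K₀(C). -/
theorem result {C : Type u} [Category.{v} C] [Preadditive C] [HasZeroObject C]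
    [HasShift C ℤ] [∀ n : ℤ, (shiftFunctor C n).Additive] [Pretriangulated C]
    (L : C) (n : ℤ) [HasCoproduct (fun i : ℕ => (shiftFunctor C (2 * n * (i : ℤ))).obj L)] :
    KZero.clTri L = 0 := by
  classical
  set f : ℕ → C := fun i => (shiftFunctor C (2 * n * (i : ℤ))).obj L with hf
  set T : C ⥤ C := shiftFunctor C (2 * n) with hTdef
  set X : C := ∐ f with hX
  have hT : IsColimit (Cofan.mk (T.obj X) (fun i => T.map (Sigma.ι f i))) :=
    (isColimitMapCoconeCofanMkEquiv T f (Sigma.ι f))
      (isColimitOfPreserves T (coproductIsCoproduct f))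
  let e : ∀ i : ℕ, f (i + 1) ≅ T.obj (f i) := fun i =>
    (shiftFunctorAdd' C (2 * n * (i : ℤ)) (2 * n) (2 * n * ((i + 1 : ℕ) : ℤ))
      (by push_cast; ring)).app L
  let inj : ∀ i : ℕ, f i ⟶ f 0 ⊞ T.obj X := fun i =>
    match i with
    | 0 => biprod.inl
    | (i + 1) => (e i).hom ≫ T.map (Sigma.ι f i) ≫ biprod.inr
  let c : Cofan f := Cofan.mk (f 0 ⊞ T.obj X) inj
  have hc : IsColimit c := by
    refine Cofan.IsColimit.mk c
      (fun s => biprod.desc (s.inj 0)
        (hT.desc (Cofan.mk s.pt fun i => (e i).inv ≫ s.inj (i + 1)))) ?_ ?_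
    · intro s j
      cases j with
      | zero =>
        change biprod.inl ≫ _ = _
        simp
      | succ i =>
        change ((e i).hom ≫ T.map (Sigma.ι f i) ≫ biprod.inr) ≫ _ = _
        simp only [Category.assoc, biprod.inr_desc]
        have h1 := hT.fac (Cofan.mk s.pt fun i => (e i).inv ≫ s.inj (i + 1)) ⟨i⟩
        simp only [Cofan.mk_pt, Cofan.mk_ι_app] at h1
        rw [h1]
        simp
    · intro s m hm
      apply biprod.hom_ext'
      · rw [biprod.inl_desc]
        exact hm 0
      · rw [biprod.inr_desc]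
        apply hT.hom_ext
        rintro ⟨i⟩
        have h1 := hT.fac (Cofan.mk s.pt fun i => (e i).inv ≫ s.inj (i + 1)) ⟨i⟩
        simp only [Cofan.mk_pt, Cofan.mk_ι_app] at h1 ⊢
        rw [h1]
        have h2 := hm (i + 1)
        change ((e i).hom ≫ T.map (Sigma.ι f i) ≫ biprod.inr) ≫ m = _ at h2
        rw [← h2]
        simp
        rfl
  have iso : X ≅ f 0 ⊞ T.obj X := (coproductIsCoproduct f).coconePointUniqueUpToIso hc
  have h1 := Groth.Agent.H28.clTri_iso iso
  rw [Groth.Agent.H28.clTri_biprod] at h1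
  have h2 : KZero.clTri (T.obj X) = KZero.clTri X := Groth.Agent.H28.clTri_shift_two_mul X n
  have h3 : KZero.clTri (f 0) = KZero.clTri L := by
    change KZero.clTri ((shiftFunctor C (2 * n * ((0 : ℕ) : ℤ))).obj L) = _
    have h0 : 2 * n * ((0 : ℕ) : ℤ) = 2 * 0 := by simp
    rw [h0]
    exact Groth.Agent.H28.clTri_shift_two_mul L 0
  rw [h2, h3] at h1
  exact add_eq_right.mp h1.symm

end Groth.Agent.S5613
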