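import Groth.Statements.S5614
-- import your own Groth.Agent.* helpers here

set_option autoImplicit false
universe v u
open CategoryTheory CategoryTheory.Limits CategoryTheory.Pretriangulated
open KZero

namespace Groth.Agent.S5614

/-- Let C be a pretriangulated category and S a dense set of objects, meaning that every set of objects
which contains S and which contains the third vertex of a distinguished triangle as soon as it
contains the other two is all of C. Then K₀(C) is generated by the classes of the objects of S. -/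
theorem result {C : Type u} [Category.{v} C] [Preadditive C] [HasZeroObject C]
    [HasShift C ℤ] [∀ n : ℤ, (shiftFunctor C n).Additive] [Pretriangulated C]
    (S : Set C)
    (hdense : ∀ T : Set C, S ⊆ T →
      (∀ tr : Triangle C, tr ∈ distinguishedTriangles →
        (tr.obj₁ ∈ T → tr.obj₂ ∈ T → tr.obj₃ ∈ T) ∧ (tr.obj₁ ∈ T → tr.obj₃ ∈ T → tr.obj₂ ∈ T) ∧
          (tr.obj₂ ∈ T → tr.obj₃ ∈ T → tr.obj₁ ∈ T)) → T = Set.univ) :
    AddSubgroup.closure (KZero.clTri '' S) = (⊤ : AddSubgroup (KZero.K0tri C)) := by
  classical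
  set H : AddSubgroup (KZero.K0tri C) := AddSubgroup.closure (KZero.clTri '' S) with hH
  have hrel : ∀ tr : Triangle C, tr ∈ distinguishedTriangles →
      KZero.clTri tr.obj₂ = KZero.clTri tr.obj₁ + KZero.clTri tr.obj₃ := by
    intro X hX
    have hmem : (FreeAbelianGroup.of (⟨X.obj₂, trivial⟩ : Subtype (⊤ : ObjectProperty C)) -
        FreeAbelianGroup.of ⟨X.obj₁, trivial⟩ - FreeAbelianGroup.of ⟨X.obj₃, trivial⟩) ∈
        KZero.relTr (⊤ : ObjectProperty C) :=
      AddSubgroup.subset_closure ⟨X, trivial, trivial, trivial, hX, rfl⟩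
    have h0 : ((FreeAbelianGroup.of (⟨X.obj₂, trivial⟩ : Subtype (⊤ : ObjectProperty C)) -
        FreeAbelianGroup.of ⟨X.obj₁, trivial⟩ - FreeAbelianGroup.of ⟨X.obj₃, trivial⟩ :
        FreeAbelianGroup (Subtype (⊤ : ObjectProperty C))) : KZero.K0tri C) = 0 :=
      (QuotientAddGroup.eq_zero_iff _).mpr hmem
    have h1 : KZero.clTri X.obj₂ - KZero.clTri X.obj₁ - KZero.clTri X.obj₃ = 0 := by
      simpa [KZero.clTri] using h0
    rw [sub_sub, sub_eq_zero] at h1
    exact h1
  have hT : {X : C | KZero.clTri X ∈ H} = Set.univ := by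
    apply hdense
    · intro X hX
      exact AddSubgroup.subset_closure ⟨X, hX, rfl⟩
    · intro X hX
      have h := hrel X hX
      refine ⟨?_, ?_, ?_⟩
      · intro h1 h2
        have h3 : KZero.clTri X.obj₃ = KZero.clTri X.obj₂ - KZero.clTri X.obj₁ := by rw [h]; abel
        simp only [Set.mem_ofPred_eq] at h1 h2 ⊢
        rw [h3]
        exact H.sub_mem h2 h1
      · intro h1 h3
        simp only [Set.mem_ofPred_eq] at h1 h3 ⊢
        rw [h]
        exact H.add_mem h1 h3
      · intro h2 h3
        have h1 : KZero.clTri X.obj₁ = KZero.clTri X.obj₂ - KZero.clTri X.obj₃ := by rw [h]; abel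
        simp only [Set.mem_ofPred_eq] at h2 h3 ⊢
        rw [h1]
        exact H.sub_mem h2 h3
  rw [eq_top_iff]
  intro x hx
  clear hx
  induction x using QuotientAddGroup.induction_on with
  | H y =>
    induction y using FreeAbelianGroup.induction_on with
    | zero => exact H.zero_mem
    | of X =>
      have : X.1 ∈ {X : C | KZero.clTri X ∈ H} := by rw [hT]; trivial
      exact this
    | neg X hX =>
      have : ((-FreeAbelianGroup.of X : FreeAbelianGroup (Subtype (⊤ : ObjectProperty C))) : KZero.K0tri C) =
          -((FreeAbelianGroup.of X : FreeAbelianGroup (Subtype (⊤ : ObjectProperty C))) : KZero.K0tri C) := rfl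
      rw [this]
      exact H.neg_mem hX
    | add a b ha hb =>
      have : ((a + b : FreeAbelianGroup (Subtype (⊤ : ObjectProperty C))) : KZero.K0tri C) =
          (a : KZero.K0tri C) + (b : KZero.K0tri C) := rfl
      rw [this]
      exact H.add_mem ha hb

end Groth.Agent.S5614
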