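import Groth.Statements.S5615
-- import your own Groth.Agent.* helpers here

set_option autoImplicit false
universe v u
open CategoryTheory CategoryTheory.Limits
open KZero

namespace Groth.Agent.S5615

/-- Let A be an abelian category and S a dense set of objects, meaning that every set of objects which
contains S and which contains the third term of a short exact sequence as soon as it contains the
other two is all of A. Then K₀(A) is generated by the classes of the objects of S. -/
theorem result {A : Type u} [Category.{v} A] [Abelian A] (S : Set A)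
    (hdense : ∀ T : Set A, S ⊆ T →
      (∀ X : ShortComplex A, X.ShortExact →
        (X.X₁ ∈ T → X.X₂ ∈ T → X.X₃ ∈ T) ∧ (X.X₁ ∈ T → X.X₃ ∈ T → X.X₂ ∈ T) ∧
          (X.X₂ ∈ T → X.X₃ ∈ T → X.X₁ ∈ T)) → T = Set.univ) :
    AddSubgroup.closure (KZero.cl '' S) = (⊤ : AddSubgroup (KZero.K0 A)) := by
  classical
  set H : AddSubgroup (KZero.K0 A) := AddSubgroup.closure (KZero.cl '' S) with hH
  have hrel : ∀ X : ShortComplex A, X.ShortExact → KZero.cl X.X₂ = KZero.cl X.X₁ + KZero.cl X.X₃ := by
    intro X hX
    have hmem : FreeAbelianGroup.of X.X₂ - FreeAbelianGroup.of X.X₁ - FreeAbelianGroup.of X.X₃ ∈ KZero.relAb A :=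
      AddSubgroup.subset_closure ⟨X, hX, rfl⟩
    have h0 : ((FreeAbelianGroup.of X.X₂ - FreeAbelianGroup.of X.X₁ - FreeAbelianGroup.of X.X₃ :
        FreeAbelianGroup A) : KZero.K0 A) = 0 := (QuotientAddGroup.eq_zero_iff _).mpr hmem
    have h1 : KZero.cl X.X₂ - KZero.cl X.X₁ - KZero.cl X.X₃ = 0 := by
      simpa [KZero.cl] using h0
    have h2 : KZero.cl X.X₂ = KZero.cl X.X₁ + KZero.cl X.X₃ := by
      rw [sub_sub, sub_eq_zero] at h1
      exact h1
    exact h2
  have hT : {X : A | KZero.cl X ∈ H} = Set.univ := by
    apply hdense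
    · intro X hX
      exact AddSubgroup.subset_closure ⟨X, hX, rfl⟩
    · intro X hX
      have h := hrel X hX
      refine ⟨?_, ?_, ?_⟩
      · intro h1 h2
        have h3 : KZero.cl X.X₃ = KZero.cl X.X₂ - KZero.cl X.X₁ := by rw [h]; abel
        simp only [Set.mem_ofPred_eq] at h1 h2 ⊢
        rw [h3]
        exact H.sub_mem h2 h1
      · intro h1 h3
        simp only [Set.mem_ofPred_eq] at h1 h3 ⊢
        rw [h]
        exact H.add_mem h1 h3
      · intro h2 h3
        have h1 : KZero.cl X.X₁ = KZero.cl X.X₂ - KZero.cl X.X₃ := by rw [h]; abel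
        simp only [Set.mem_ofPred_eq] at h2 h3 ⊢
        rw [h1]
        exact H.sub_mem h2 h3
  rw [eq_top_iff]
  intro x hx
  clear hx
  induction x using QuotientAddGroup.induction_on with
  | H y =>
    induction y using FreeAbelianGroup.induction_on with
    | zero => exact H.zero_mem
    | of X =>
      have : X ∈ {X : A | KZero.cl X ∈ H} := by rw [hT]; trivial
      exact this
    | neg X hX =>
      have : ((-FreeAbelianGroup.of X : FreeAbelianGroup A) : KZero.K0 A) = -((FreeAbelianGroup.of X : FreeAbelianGroup A) : KZero.K0 A) := rfl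
      rw [this]
      exact H.neg_mem hX
    | add a b ha hb =>
      have : ((a + b : FreeAbelianGroup A) : KZero.K0 A) = (a : KZero.K0 A) + (b : KZero.K0 A) := rfl
      rw [this]
      exact H.add_mem ha hb

end Groth.Agent.S5615
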