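import Groth.Statements.S5616
import Groth.Agent.H33.ExtEfface

set_option autoImplicit false
universe w w' v v' u u'
open CategoryTheory CategoryTheory.Limits
open CohDer

namespace Groth.Agent.S5616

/-- Let φ : A ⥤ B be an exact functor of abelian categories and M an object of A. The following are
equivalent: (i) for every L in A and every n, the map Ext^n_A(L, M) → Ext^n_B(φ L, φ M) induced by φ
is bijective; (ii) for every L the map Hom_A(L, M) → Hom_B(φ L, φ M) is bijective, and for every L,
every n ≥ 1 and every x ∈ Ext^n_B(φ L, φ M) there is an epimorphism L' ⟶ L of A such that x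
precomposed with its image under φ vanishes. -/
theorem result
    {A : Type u} [Category.{v} A] [Abelian A] [HasExt.{w} A]
    {B : Type u'} [Category.{v'} B] [Abelian B] [HasExt.{w'} B]
    (φ : A ⥤ B) [φ.Additive] [PreservesFiniteLimits φ] [PreservesFiniteColimits φ] (M : A) :
    (∀ (L : A) (n : ℕ), Function.Bijective (fun f : Abelian.Ext.{w} L M n => Abelian.Ext.mapExactFunctor φ f)) ↔
      ((∀ L : A, Function.Bijective (fun f : L ⟶ M => φ.map f)) ∧
        ∀ (L : A) (n : ℕ), 1 ≤ n → ∀ x : Abelian.Ext.{w'} (φ.obj L) (φ.obj M) n,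
          ∃ (L' : A) (p : L' ⟶ L), Epi p ∧ (Abelian.Ext.mk₀ (φ.map p)).comp x (zero_add n) = 0) := by
  constructor
  · intro h
    refine ⟨fun L => ?_, fun L n hn x => ?_⟩
    · have h0 := h L 0
      constructor
      · intro f g hfg
        have : (Abelian.Ext.mk₀ f).mapExactFunctor φ = (Abelian.Ext.mk₀ g).mapExactFunctor φ := by
          rw [Abelian.Ext.mapExactFunctor_mk₀, Abelian.Ext.mapExactFunctor_mk₀]
          exact congrArg _ hfg
        exact (Abelian.Ext.mk₀_bijective L M).1 (h0.1 this)
      · intro g
        obtain ⟨e, he⟩ := h0.2 (Abelian.Ext.mk₀ g)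
        obtain ⟨f, rfl⟩ := (Abelian.Ext.mk₀_bijective L M).2 e
        refine ⟨f, ?_⟩
        have he' : (Abelian.Ext.mk₀ f).mapExactFunctor φ = Abelian.Ext.mk₀ g := he
        rw [Abelian.Ext.mapExactFunctor_mk₀] at he'
        exact (Abelian.Ext.mk₀_bijective _ _).1 he'
    · obtain ⟨y, hy⟩ := (h L n).2 x
      have hy' : y.mapExactFunctor φ = x := hy
      obtain ⟨L', p, hp, hpy⟩ := Groth.Agent.H33.ExtEfface.exists_epi_comp_eq_zero hn y
      refine ⟨L', p, hp, ?_⟩
      rw [← hy', ← Abelian.Ext.mapExactFunctor_mk₀, ← Abelian.Ext.mapExactFunctor_comp, hpy,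
        Abelian.Ext.mapExactFunctor_zero]
  · rintro ⟨h0, heff⟩
    intro L n
    induction n generalizing L with
    | zero =>
      constructor
      · intro e e' hee'
        obtain ⟨f, rfl⟩ := (Abelian.Ext.mk₀_bijective L M).2 e
        obtain ⟨f', rfl⟩ := (Abelian.Ext.mk₀_bijective L M).2 e'
        have h1 : (Abelian.Ext.mk₀ f).mapExactFunctor φ = (Abelian.Ext.mk₀ f').mapExactFunctor φ :=
          hee'
        rw [Abelian.Ext.mapExactFunctor_mk₀, Abelian.Ext.mapExactFunctor_mk₀] at h1
        have h2 := (Abelian.Ext.mk₀_bijective _ _).1 h1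
        rw [(h0 L).1 h2]
      · intro x
        obtain ⟨g, rfl⟩ := (Abelian.Ext.mk₀_bijective _ _).2 x
        obtain ⟨f, hf⟩ := (h0 L).2 g
        have hf' : φ.map f = g := hf
        refine ⟨Abelian.Ext.mk₀ f, ?_⟩
        show (Abelian.Ext.mk₀ f).mapExactFunctor φ = _
        rw [Abelian.Ext.mapExactFunctor_mk₀, hf']
    | succ n ih =>
      constructor
      · -- injectivity
        have hinj : Function.Injective (φ.mapExtAddHom L M (n + 1)) := by
          rw [injective_iff_map_eq_zero]
          intro y hy
          have hy' : y.mapExactFunctor φ = 0 := hy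
          obtain ⟨L', p, hp, hpy⟩ :=
            Groth.Agent.H33.ExtEfface.exists_epi_comp_eq_zero (by lia) y
          let S := ShortComplex.mk (kernel.ι p) p (kernel.condition p)
          have hS : S.ShortExact := { exact := ShortComplex.exact_kernel p }
          obtain ⟨z, hz⟩ := Abelian.Ext.contravariant_sequence_exact₃ hS M y hpy
            (add_comm 1 n)
          have h1 : (hS.map_of_exact φ).extClass.comp (z.mapExactFunctor φ) (add_comm 1 n) = 0 := by
            have e1 := Abelian.Ext.mapExactFunctor_extClass φ hS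
            have e2 := Abelian.Ext.mapExactFunctor_comp φ hS.extClass z (add_comm 1 n)
            rw [hz, hy'] at e2
            exact (congrArg (fun t : Abelian.Ext (S.map φ).X₃ (S.map φ).X₁ 1 =>
              t.comp (z.mapExactFunctor φ) (add_comm 1 n)) e1).symm.trans e2.symm
          obtain ⟨w, hw⟩ := Abelian.Ext.contravariant_sequence_exact₁ (hS.map_of_exact φ) _
            (z.mapExactFunctor φ) (add_comm 1 n) h1
          obtain ⟨w', hw'⟩ := (ih L').2 w
          have hw'' : w'.mapExactFunctor φ = w := hw'
          have h2 : ((Abelian.Ext.mk₀ S.f).comp w' (zero_add n)).mapExactFunctor φ =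
              z.mapExactFunctor φ := by
            rw [Abelian.Ext.mapExactFunctor_comp, Abelian.Ext.mapExactFunctor_mk₀, hw'']
            exact hw
          have h3 : (Abelian.Ext.mk₀ S.f).comp w' (zero_add n) = z := (ih _).1 h2
          rw [← hz, ← h3]
          exact hS.extClass_comp_assoc w'
        exact hinj
      · -- surjectivity
        intro x
        obtain ⟨L', p, hp, hpx⟩ := heff L (n + 1) (by lia) x
        let S := ShortComplex.mk (kernel.ι p) p (kernel.condition p)
        have hS : S.ShortExact := { exact := ShortComplex.exact_kernel p }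
        obtain ⟨z, hz⟩ := Abelian.Ext.contravariant_sequence_exact₃ (hS.map_of_exact φ) _ x hpx
          (add_comm 1 n)
        obtain ⟨z', hz'⟩ := (ih _).2 z
        have hz'' : z'.mapExactFunctor φ = z := hz'
        refine ⟨hS.extClass.comp z' (add_comm 1 n), ?_⟩
        show (hS.extClass.comp z' (add_comm 1 n)).mapExactFunctor φ = x
        have e1 := Abelian.Ext.mapExactFunctor_extClass φ hS
        have e2 := Abelian.Ext.mapExactFunctor_comp φ hS.extClass z' (add_comm 1 n)
        rw [hz''] at e2
        exact e2.trans ((congrArg (fun t : Abelian.Ext (S.map φ).X₃ (S.map φ).X₁ 1 =>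
          t.comp z (add_comm 1 n)) e1).trans hz)

end Groth.Agent.S5616
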