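import Groth.Statements.S5617
import Groth.Agent.H28.PCohDer2

set_option autoImplicit false
universe w v u
open CategoryTheory CategoryTheory.Limits
open PCoh

namespace Groth.Agent.S5617

/-- First assertion (punctual site): let C be an abelian category and C₀ a strictly full additive
subcategory, quasi-stable under kernels of epimorphisms and quasi-liftable, and n < m. If F ∈ D(C)
is n-pseudo-coherent and acyclic in degrees ≥ m, then F is isomorphic in D(C) to a strictly
n-pseudo-coherent complex E with E^i = 0 for i ≥ m. -/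
theorem result {C : Type u} [Category.{v} C] [Abelian C] [HasDerivedCategory.{w} C]
    (P : ObjectProperty C) [P.IsClosedUnderIsomorphisms] [P.ContainsZero] (hsum : ∀ X Y : C, P X → P Y → P (X ⨯ Y))
    (hqs : PCoh.IsQuasiStableUnderKernels P) (hql : PCoh.IsQuasiLiftable P)
    (n m : ℤ) (hnm : n < m) (F : DerivedCategory C) (hF : (∃ E : CochainComplex C ℤ, PCoh.IsStrictPC P n E ∧ Nonempty (DerivedCategory.Q.obj E ≅ F)))
    (hac : ∀ i : ℤ, m ≤ i → IsZero ((DerivedCategory.homologyFunctor C i).obj F)) :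
    ∃ E : CochainComplex C ℤ, PCoh.IsStrictPC P n E ∧ (∀ i : ℤ, m ≤ i → IsZero (E.X i)) ∧
      Nonempty (DerivedCategory.Q.obj E ≅ F) := by
  obtain ⟨E₀, hE₀, ⟨e⟩⟩ := hF
  have hiso₀ : ∀ i : ℤ, E₀.homology i ≅ (DerivedCategory.homologyFunctor C i).obj F := fun i =>
    (Groth.Agent.H28.PCohDer.homologyQIso E₀ i).symm ≪≫
      (DerivedCategory.homologyFunctor C i).mapIso e
  obtain ⟨F', w, hb, hP, hz, hiso, hepi⟩ :=
    Groth.Agent.H28.PCohDer.approxB_of_quasiIso P hql hsum hqs hnm.le hE₀ (𝟙 E₀) inferInstance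
      (fun i hi => IsZero.of_iso (hac i hi) (hiso₀ i))
  obtain ⟨E', v, u', -, hu', -, hisov⟩ :=
    Groth.Agent.H28.PCohCore.exists_quasiIso_of_nQuasiIso n F' E₀ w hiso hepi
  have hzE' : ∀ i : ℤ, m ≤ i → IsZero (E'.X i) := by
    intro i hi
    have := hisov i (by omega)
    exact IsZero.of_iso (hb i hi) (asIso (v.f i)).symm
  have := Groth.Agent.H28.PCohDer.isIso_Q_map_of_quasiIso u' hu'
  refine ⟨E', ⟨⟨m, fun i hi => hzE' i hi.le⟩, fun i hi => ?_⟩, hzE',
    ⟨asIso (DerivedCategory.Q.map u') ≪≫ e⟩⟩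
  have := hisov i hi
  exact P.prop_of_iso (asIso (v.f i)) (hP i)

end Groth.Agent.S5617
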