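import Groth.Statements.S5621
import Groth.Agent.H28.StrictPerf

set_option autoImplicit false
universe w v u
open CategoryTheory CategoryTheory.Limits
open PCoh

namespace Groth.Agent.S5621

/-- Let C be an abelian category and C₀ a strictly full additive subcategory, liftable and stable under
kernels of epimorphisms. Let a ≤ b and let F be a complex with F^i = 0 for i outside [a, b], of
perfect amplitude in [a, b] (isomorphic in D(C) to a strictly perfect complex vanishing outside [a,
b]), and with F^i in C₀ for i > a. Then F^a lies in C₀. -/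
theorem result {C : Type u} [Category.{v} C] [Abelian C] [HasDerivedCategory.{w} C]
    (P : ObjectProperty C) [P.IsClosedUnderIsomorphisms] [P.ContainsZero] (hsum : ∀ X Y : C, P X → P Y → P (X ⨯ Y))
    (hlift : ∀ (E F : C) (u : E ⟶ F), Epi u → P F → IsSplitEpi u)
    (hst : ∀ (E F : C) (u : E ⟶ F), Epi u → P E → P F → P (kernel u))
    (a b : ℤ) (hab : a ≤ b) (F : CochainComplex C ℤ)
    (hvan : ∀ i : ℤ, i < a ∨ b < i → IsZero (F.X i)) (hP : ∀ i : ℤ, a < i → P (F.X i))
    (hamp : (∃ E : CochainComplex C ℤ, (∀ i : ℤ, P (E.X i)) ∧ (∀ i : ℤ, i < a ∨ b < i → IsZero (E.X i)) ∧ Nonempty (DerivedCategory.Q.obj E ≅ DerivedCategory.Q.obj F))) :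
    P (F.X a) := by
  obtain ⟨E, hPE, hvE, ⟨e⟩⟩ := hamp
  have : E.IsKProjective := Groth.Agent.H28.StrictPerf.isKProjective_of_bounded P hlift E hPE b
    (fun i hi => hvE i (Or.inr hi))
  obtain ⟨φ, hφ⟩ := Groth.Agent.H35.Q_map_surjective_of_isKProjective (K := E) F e.hom
  have hqi : QuasiIso φ := by
    rw [← DerivedCategory.isIso_Q_map_iff_quasiIso, hφ]
    infer_instance
  have hK : ∀ i : ℤ, (CochainComplex.mappingCone φ).ExactAt i :=
    (Groth.Agent.H73.quasiIso_iff_acyclic_mappingCone φ).mp hqi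
  set K := CochainComplex.mappingCone φ with hKdef
  have hKb : ∀ i : ℤ, b < i → IsZero (K.X i) := fun i hi =>
    Groth.Agent.H28.StrictPerf.isZero_mappingCone φ i (hvE _ (Or.inr (by omega)))
      (hvan _ (Or.inr hi))
  have hKP : ∀ i : ℤ, a + 1 ≤ i → P (K.X i) := fun i hi =>
    Groth.Agent.H28.StrictPerf.prop_mappingCone P hsum φ i (hPE _) (hP _ (by omega))
  have hZ1 : P (K.cycles (a + 1)) :=
    Groth.Agent.H28.StrictPerf.prop_cycles_of_exact P K hst b hKb (a + 1) (fun i _ => hK i) hKP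
      (a + 1) le_rfl
  -- the cycles in degree `a`
  have hKa1 : P (K.X (a - 1)) :=
    Groth.Agent.H28.StrictPerf.prop_mappingCone P hsum φ (a - 1) (hPE _)
      (P.prop_of_isZero (hvan _ (Or.inl (by omega))))
  have hKa2 : IsZero (K.X (a - 1 - 1)) :=
    Groth.Agent.H28.StrictPerf.isZero_mappingCone φ _ (hvE _ (Or.inl (by omega)))
      (hvan _ (Or.inl (by omega)))
  have hmono : Mono (K.toCycles (a - 1) a) := by
    have h1 : Mono (K.d (a - 1) a) :=
      Groth.Agent.H28.StrictPerf.mono_d_of_exactAt K (a - 1) a (by omega) (hK _) hKa2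
    have h2 : K.toCycles (a - 1) a ≫ K.iCycles a = K.d (a - 1) a := K.toCycles_i _ _
    rw [← h2] at h1
    exact mono_of_mono _ (K.iCycles a)
  have hepi : Epi (K.toCycles (a - 1) a) :=
    Groth.Agent.H28.StrictPerf.epi_toCycles_of_exactAt K (a - 1) a (by omega) (hK _)
  have hiso : IsIso (K.toCycles (a - 1) a) := isIso_of_mono_of_epi _
  have hZ0 : P (K.cycles a) := P.prop_of_iso (asIso (K.toCycles (a - 1) a)) hKa1
  have hepi' : Epi (K.toCycles a (a + 1)) :=
    Groth.Agent.H28.StrictPerf.epi_toCycles_of_exactAt K a (a + 1) rfl (hK _)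
  have hKa : P (K.X a) :=
    Groth.Agent.H28.StrictPerf.prop_of_epi_of_kernel P hsum hlift (K.toCycles a (a + 1))
      (P.prop_of_iso (Groth.Agent.H28.StrictPerf.kernelToCyclesIso K a (a + 1) rfl).symm hZ0) hZ1
  have hbi : P (E.X (a + 1) ⊞ F.X a) :=
    P.prop_of_iso (Groth.Agent.H35.mappingConeXIso φ a) hKa
  exact Groth.Agent.H28.StrictPerf.prop_of_biprod_left P hst hbi (hPE _)

end Groth.Agent.S5621
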