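import Groth.Statements.S5624
import Mathlib.CategoryTheory.Abelian.Refinements
import Mathlib.Algebra.Homology.ShortComplex.Exact
import Mathlib.CategoryTheory.Abelian.Basic

set_option autoImplicit false
universe v u
open CategoryTheory CategoryTheory.Limits
open PCoh

namespace Groth.Agent.S5624

/-- Punctual site: let C be an abelian category and C₀ a strictly full additive subcategory,
quasi-liftable in C, and let 0 → F → G → H → 0 be a short exact sequence. If F and H are precoherent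
relative to C₀ then G is precoherent; if F and H are of C₀-finite type then G is of C₀-finite type. -/
theorem result {C : Type u} [Category.{v} C] [Abelian C]
    (P : ObjectProperty C) [P.IsClosedUnderIsomorphisms] [P.ContainsZero] (hsum : ∀ X Y : C, P X → P Y → P (X ⨯ Y))
    (hql : PCoh.IsQuasiLiftable P)
    (S : ShortComplex C) (hS : S.ShortExact) :
    ((∀ (E : C) (u : E ⟶ S.X₁), P E → PCoh.IsOfFiniteType P (kernel u)) → (∀ (E : C) (u : E ⟶ S.X₃), P E → PCoh.IsOfFiniteType P (kernel u)) →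
        (∀ (E : C) (u : E ⟶ S.X₂), P E → PCoh.IsOfFiniteType P (kernel u))) ∧
      (PCoh.IsOfFiniteType P S.X₁ → PCoh.IsOfFiniteType P S.X₃ → PCoh.IsOfFiniteType P S.X₂) := by
  have hex : S.Exact := hS.exact
  have hmono : Mono S.f := hS.mono_f
  have hepi : Epi S.g := hS.epi_g
  constructor
  · -- precoherence
    intro h1 h3 E u hE
    obtain ⟨E', ρ, hE', hρ⟩ := h3 E (u ≫ S.g) hE
    have hk : (kernel.ι (u ≫ S.g) ≫ u) ≫ S.g = 0 := by
      rw [Category.assoc, kernel.condition]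
    set t : kernel (u ≫ S.g) ⟶ S.X₁ := hex.lift (kernel.ι (u ≫ S.g) ≫ u) hk with ht
    have htf : t ≫ S.f = kernel.ι (u ≫ S.g) ≫ u := hex.lift_f _ hk
    obtain ⟨E'', σ, hE'', hσ⟩ := h1 E' (ρ ≫ t) hE'
    have hτ0 : (kernel.ι (ρ ≫ t) ≫ ρ ≫ kernel.ι (u ≫ S.g)) ≫ u = 0 := by
      have : kernel.ι (ρ ≫ t) ≫ (ρ ≫ t) = 0 := kernel.condition _
      calc (kernel.ι (ρ ≫ t) ≫ ρ ≫ kernel.ι (u ≫ S.g)) ≫ u
          = kernel.ι (ρ ≫ t) ≫ ρ ≫ (kernel.ι (u ≫ S.g) ≫ u) := by simp only [Category.assoc]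
        _ = (kernel.ι (ρ ≫ t) ≫ (ρ ≫ t)) ≫ S.f := by rw [← htf]; simp only [Category.assoc]
        _ = 0 := by rw [this, zero_comp]
    set τ : kernel (ρ ≫ t) ⟶ kernel u := kernel.lift u _ hτ0 with hτ
    have hτι : τ ≫ kernel.ι u = kernel.ι (ρ ≫ t) ≫ ρ ≫ kernel.ι (u ≫ S.g) := kernel.lift_ι _ _ _
    have hτe : Epi τ := by
      rw [epi_iff_surjective_up_to_refinements]
      intro T y
      have hy0 : (y ≫ kernel.ι u) ≫ (u ≫ S.g) = 0 := by
        rw [Category.assoc, ← Category.assoc (kernel.ι u), kernel.condition, zero_comp, comp_zero]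
      set y' : T ⟶ kernel (u ≫ S.g) := kernel.lift _ (y ≫ kernel.ι u) hy0 with hy'
      have hy'ι : y' ≫ kernel.ι (u ≫ S.g) = y ≫ kernel.ι u := kernel.lift_ι _ _ _
      obtain ⟨T', p, hp, a, ha⟩ := surjective_up_to_refinements_of_epi ρ y'
      have hy't : y' ≫ t = 0 := by
        rw [← cancel_mono S.f, Category.assoc, htf, ← Category.assoc, hy'ι, Category.assoc,
          kernel.condition, comp_zero, zero_comp]
      have ha0 : a ≫ (ρ ≫ t) = 0 := by
        rw [← Category.assoc, ← ha, Category.assoc, hy't, comp_zero]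
      refine ⟨T', p, hp, kernel.lift _ a ha0, ?_⟩
      rw [← cancel_mono (kernel.ι u)]
      calc (p ≫ y) ≫ kernel.ι u = p ≫ (y' ≫ kernel.ι (u ≫ S.g)) := by rw [hy'ι, Category.assoc]
        _ = (a ≫ ρ) ≫ kernel.ι (u ≫ S.g) := by rw [← Category.assoc, ha]
        _ = (kernel.lift _ a ha0 ≫ kernel.ι (ρ ≫ t)) ≫ ρ ≫ kernel.ι (u ≫ S.g) := by
            rw [kernel.lift_ι, Category.assoc]
        _ = (kernel.lift _ a ha0 ≫ τ) ≫ kernel.ι u := by
            rw [Category.assoc, ← hτι, Category.assoc]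
    exact ⟨E'', σ ≫ τ, hE'', epi_comp σ τ⟩
  · -- finite type
    rintro ⟨E₁, π₁, hE₁, hπ₁⟩ ⟨E₃, π₃, hE₃, hπ₃⟩
    have hq₂ : Epi (pullback.snd S.g π₃) := inferInstance
    obtain ⟨F', v, hF', hv⟩ := hql (pullback S.g π₃) E₃ (pullback.snd S.g π₃) hq₂ hE₃
    refine ⟨E₁ ⨯ F', prod.fst ≫ π₁ ≫ S.f + prod.snd ≫ v ≫ pullback.fst S.g π₃,
      hsum _ _ hE₁ hF', ?_⟩
    rw [epi_iff_surjective_up_to_refinements]
    intro T y
    have hepi3 : Epi ((v ≫ pullback.snd S.g π₃) ≫ π₃) := epi_comp _ _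
    obtain ⟨T', p, hp, a, ha⟩ := surjective_up_to_refinements_of_epi
      ((v ≫ pullback.snd S.g π₃) ≫ π₃) (y ≫ S.g)
    have hcond : pullback.fst S.g π₃ ≫ S.g = pullback.snd S.g π₃ ≫ π₃ := pullback.condition
    have hz0 : (p ≫ y - a ≫ v ≫ pullback.fst S.g π₃) ≫ S.g = 0 := by
      rw [Preadditive.sub_comp, Category.assoc, ha, sub_eq_zero]
      simp only [Category.assoc, hcond]
    set z : T' ⟶ S.X₁ := hex.lift _ hz0 with hz
    have hzf : z ≫ S.f = p ≫ y - a ≫ v ≫ pullback.fst S.g π₃ := hex.lift_f _ hz0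
    obtain ⟨T'', p', hp', b, hb⟩ := surjective_up_to_refinements_of_epi π₁ z
    refine ⟨T'', p' ≫ p, epi_comp p' p, prod.lift b (p' ≫ a), ?_⟩
    have h1 : prod.lift b (p' ≫ a) ≫ (prod.fst ≫ π₁ ≫ S.f + prod.snd ≫ v ≫ pullback.fst S.g π₃)
        = (b ≫ π₁) ≫ S.f + (p' ≫ a) ≫ v ≫ pullback.fst S.g π₃ := by
      rw [Preadditive.comp_add, ← Category.assoc, prod.lift_fst,
        ← Category.assoc (prod.lift b (p' ≫ a)), prod.lift_snd, Category.assoc b]
    rw [h1, ← hb, Category.assoc p' z, hzf, Preadditive.comp_sub]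
    simp only [Category.assoc]
    abel

end Groth.Agent.S5624
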