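import Groth.Statements.S5642
import Groth.Agent.H67.K0Len3

set_option autoImplicit false
universe u
open CategoryTheory CategoryTheory.Limits AlgebraicGeometry
open Classical
open SGA6

namespace Groth.Agent.S5642

/-- Let X be a Noetherian scheme, K the Grothendieck group of coherent O_X-modules and Filt_m ⊆ K the
subgroup generated by the classes of coherent modules whose support has dimension ≤ m. Let F be
coherent with dim Supp(F) ≤ n. Then for the points x of X whose closure Z(x) has dimension n the
stalk F_x has finite length, nonzero for only finitely many such x, and [F] ≡ Σ_x length(F_x)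
[O_{Z(x)}] modulo Filt_{n-1}, where O_{Z(x)} is the structure sheaf of the reduced closed subscheme
Z(x) viewed as an O_X-module. -/
theorem result (X : Scheme.{u}) [IsNoetherian X] (n : ℕ) (F : X.Modules) (hF : Coh.IsCoh F)
    (hsupp : topologicalKrullDim ↥(CohB1.support F) ≤ n) :
    KZero.clSub (fun M : X.Modules => Coh.IsCoh M) F -
        (finsum fun x : ↥X => if topologicalKrullDim ↥(closure ({x} : Set ↥X)) = n then
          (Module.length (X.presheaf.stalk x) (F.presheaf.stalk x)).toNat • KZero.clSub (fun M : X.Modules => Coh.IsCoh M) (Cyc.closureStructureSheaf x) else 0) ∈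
      AddSubgroup.closure {c : KZero.K0sub (fun M : X.Modules => Coh.IsCoh M) |
        ∃ G : X.Modules, Coh.IsCoh G ∧ topologicalKrullDim ↥(CohB1.support G) < n ∧ c = KZero.clSub (fun M : X.Modules => Coh.IsCoh M) G} := by
  open Groth.Agent.H67.K0Len in
  haveI : F.IsQuasicoherent := hF.1
  haveI : SheafOfModules.IsFiniteType (R := X.ringCatSheaf) F := hF.2
  have hAc : IsClosed (CohB1.support F) := Groth.Agent.H71.QCoh.isClosed_support F
  have hfin := finite_topPts hAc hsupp
  obtain ⟨-, hD⟩ := main n (CohB1.support F) hAc hsupp hfin.toFinset
    (fun x => hfin.mem_toFinset) F hF subset_rfl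
  have hsum : (finsum fun x : ↥X => if topologicalKrullDim ↥(closure ({x} : Set ↥X)) = n then
      (Module.length (X.presheaf.stalk x) (F.presheaf.stalk x)).toNat •
        KZero.clSub (fun M : X.Modules => Coh.IsCoh M) (Cyc.closureStructureSheaf x) else 0) =
      ∑ x ∈ hfin.toFinset, (len x F).toNat •
        KZero.clSub (PC X) (Cyc.closureStructureSheaf x) := by
    rw [finsum_eq_sum_of_support_subset]
    · refine Finset.sum_congr rfl (fun x hx => ?_)
      rw [if_pos (hfin.mem_toFinset.mp hx).2]
    · intro x hx
      rw [Function.mem_support] at hx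
      rw [Finset.mem_coe, hfin.mem_toFinset]
      by_cases hdim : topologicalKrullDim ↥(closure ({x} : Set ↥X)) = n
      · refine ⟨?_, hdim⟩
        by_contra hxs
        apply hx
        rw [if_pos hdim]
        have h0 : Module.length (X.presheaf.stalk x) (F.presheaf.stalk x) = 0 :=
          length_stalk_eq_zero_of_notMem hxs
        rw [h0]
        simp
      · exact absurd (if_neg hdim) hx
  rw [hsum]
  exact hD

end Groth.Agent.S5642
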