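import Groth.Statements.S5643
import Groth.Agent.Lead.K0Dev

set_option autoImplicit false
universe u
open CategoryTheory CategoryTheory.Limits AlgebraicGeometry
open Classical
open SGA6

namespace Groth.Agent.S5643

/-- Let X be a Noetherian scheme and K the Grothendieck group of coherent O_X-modules. For every n, the
subgroup of K generated by the classes of coherent modules whose support has dimension ≤ n coincides
with the subgroup generated by the classes [O_Z] of the structure sheaves (as O_X-modules) of the
integral closed subschemes Z ⊆ X of dimension ≤ n, Z running over the reduced closures of points of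
X. -/
theorem result (X : Scheme.{u}) [IsNoetherian X] (n : ℕ) :
    AddSubgroup.closure {c : KZero.K0sub (fun M : X.Modules => Coh.IsCoh M) |
        ∃ G : X.Modules, Coh.IsCoh G ∧ topologicalKrullDim ↥(CohB1.support G) ≤ n ∧ c = KZero.clSub (fun M : X.Modules => Coh.IsCoh M) G} =
      AddSubgroup.closure {c : KZero.K0sub (fun M : X.Modules => Coh.IsCoh M) |
        ∃ x : ↥X, topologicalKrullDim ↥(closure ({x} : Set ↥X)) ≤ n ∧ c = KZero.clSub (fun M : X.Modules => Coh.IsCoh M) (Cyc.closureStructureSheaf x)} := by
  classical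
  apply le_antisymm
  · rw [AddSubgroup.closure_le]
    rintro c ⟨G, hG, hdim, rfl⟩
    haveI : G.IsQuasicoherent := hG.1
    haveI : SheafOfModules.IsFiniteType (R := X.ringCatSheaf) G := hG.2
    let T : TopologicalSpace.Closeds X :=
      ⟨CohB1.support G, Groth.Agent.H71.QCoh.isClosed_support G⟩
    refine Groth.Agent.Lead.K0Dev.clSub_mem (fun M : X.Modules => Coh.IsCoh M) (fun M h => h)
      (fun M hM => Groth.Agent.S0026.isCoh_zero M hM)
      (fun S _ c1 c2 c3 => ⟨fun _ => ⟨c1, c3⟩, fun _ => c2⟩) _ T ?_ G hG subset_rfl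
    intro Z hZ hZirr hZT y hy
    have hle : topologicalKrullDim ↥(closure ({y} : Set ↥X)) ≤ n := by
      have hsub : closure ({y} : Set ↥X) ⊆ CohB1.support G := by rw [hy]; exact hZT
      exact (Topology.IsInducing.topologicalKrullDim_le
        (Topology.IsEmbedding.inclusion hsub).isInducing).trans hdim
    refine ⟨Cyc.closureStructureSheaf y, ?_, AddSubgroup.subset_closure ⟨y, hle, rfl⟩, ?_, ?_⟩
    · exact Groth.Agent.Lead.K0Dev.isCoh_pushO _
    · rw [Groth.Agent.Lead.K0Dev.closureStructureSheaf_eq, Groth.Agent.Lead.K0Dev.support_pushO]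
      exact hy.le
    · exact Groth.Agent.Lead.K0Dev.length_pushO ⟨closure {y}, isClosed_closure⟩
        isIrreducible_singleton.closure y rfl
  · rw [AddSubgroup.closure_le]
    rintro c ⟨x, hdim, rfl⟩
    refine AddSubgroup.subset_closure ⟨Cyc.closureStructureSheaf x,
      Groth.Agent.Lead.K0Dev.isCoh_pushO _, ?_, rfl⟩
    rw [Groth.Agent.Lead.K0Dev.closureStructureSheaf_eq, Groth.Agent.Lead.K0Dev.support_pushO]
    exact hdim

end Groth.Agent.S5643
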