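import Groth.Statements.S5656
import Groth.Agent.H28.PolyMapQ

set_option autoImplicit false
universe u
open W4sga6xxiii

namespace Groth.Agent.S5656

/-- Let G be an abelian group and G' ⊆ G a subgroup which is divisible by some prime number p (every
element of G' is p times an element of G') and such that G/G' is a torsion group. Then every
polynomial map f : G → ℚ (admitting binomial expansions f(Σ n_i x_i) = Σ_k Π_i C(n_i, k_i) y_k along
every finite sequence x) which takes only integer values is constant. -/
theorem result {G : Type u} [AddCommGroup G] (G' : AddSubgroup G)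
    (p : ℕ) (hp : p.Prime) (hdiv : ∀ x ∈ G', ∃ y ∈ G', p • y = x) (htor : ∀ x : G, ∃ n : ℤ, n ≠ 0 ∧ n • x ∈ G')
    (f : G → ℚ) (hf : W4sga6xxiii.IsPolyMap f) (hint : ∀ x, ∃ z : ℤ, f x = z) (x : G) : f x = f 0 := by
  classical
  have hp0 : (p : ℚ) ≠ 0 := Nat.cast_ne_zero.mpr hp.ne_zero
  -- Step A: divisibility by all powers of p
  have hdivpow : ∀ e : ℕ, ∀ x ∈ G', ∃ z ∈ G', (p ^ e) • z = x := by
    intro e
    induction e with
    | zero => intro x hx; exact ⟨x, hx, by simp⟩
    | succ e ih =>
      intro x hx
      obtain ⟨y, hy, rfl⟩ := hdiv x hx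
      obtain ⟨z, hz, rfl⟩ := ih y hy
      exact ⟨z, hz, by rw [pow_succ, mul_comm, mul_smul]⟩
  -- Step B: f is constant on G'
  have hG' : ∀ x ∈ G', f x = f 0 := by
    intro x hx
    obtain ⟨Q, hQ⟩ := Groth.Agent.H28.exists_poly_of_isPolyMap hf x
    have hdeg : Q.natDegree = 0 := by
      by_contra hd
      have hQint : ∀ n : ℤ, ∃ z : ℤ, Q.eval (n : ℚ) = z := fun n => by rw [← hQ]; exact hint _
      obtain ⟨A, hA⟩ := Groth.Agent.H28.exists_int_factorial_mul_leadingCoeff Q hQint
      have hdvd : ∀ e : ℕ, (p : ℤ) ^ e ∣ A := by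
        intro e
        obtain ⟨z, hz, hzx⟩ := hdivpow e x hx
        obtain ⟨R, hR⟩ := Groth.Agent.H28.exists_poly_of_isPolyMap hf z
        have hcomp : Q = R.comp (Polynomial.C ((p : ℚ) ^ e) * Polynomial.X) := by
          apply Polynomial.eq_of_infinite_eval_eq
          apply Set.Infinite.mono (s := Set.range (Int.cast : ℤ → ℚ))
          · rintro _ ⟨n, rfl⟩
            simp only [Set.mem_ofPred_eq, Polynomial.eval_comp, Polynomial.eval_mul,
              Polynomial.eval_C, Polynomial.eval_X]
            rw [← hQ, ← hzx]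
            have h1 : n • (p ^ e) • z = (((p ^ e : ℕ) : ℤ) * n) • z := by
              rw [mul_comm, mul_smul, natCast_zsmul]
            rw [h1, hR]
            push_cast
            rfl
          · exact Set.infinite_range_of_injective Int.cast_injective
        have hRint : ∀ n : ℤ, ∃ w : ℤ, R.eval (n : ℚ) = w := fun n => by rw [← hR]; exact hint _
        obtain ⟨B, hB⟩ := Groth.Agent.H28.exists_int_factorial_mul_leadingCoeff R hRint
        have hnd : (Polynomial.C ((p : ℚ) ^ e) * Polynomial.X).natDegree = 1 :=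
          Polynomial.natDegree_C_mul_X _ (pow_ne_zero _ hp0)
        have hdR : Q.natDegree = R.natDegree := by
          conv_lhs => rw [hcomp]
          rw [Polynomial.natDegree_comp, hnd, mul_one]
        have hlc : Q.leadingCoeff = R.leadingCoeff * ((p : ℚ) ^ e) ^ R.natDegree := by
          conv_lhs => rw [hcomp]
          rw [Polynomial.leadingCoeff_comp (by rw [hnd]; exact one_ne_zero),
            Polynomial.leadingCoeff_C_mul_X]
        have h2 : (A : ℚ) = B * ((p : ℚ) ^ e) ^ R.natDegree := by
          rw [← hA, ← hB, hlc, hdR]; ring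
        have hAB : A = B * ((p : ℤ) ^ e) ^ R.natDegree := by exact_mod_cast h2
        rw [hAB]
        exact Dvd.dvd.mul_left (dvd_pow_self _ (hdR ▸ hd)) _
      have hA0 : A = 0 := by
        by_contra hne
        have h1 := hdvd A.natAbs
        have h2 : (p : ℤ) ^ A.natAbs ≤ |A| :=
          Int.le_of_dvd (abs_pos.mpr hne) ((dvd_abs _ _).mpr h1)
        have h3 : A.natAbs < p ^ A.natAbs := Nat.lt_pow_self hp.one_lt
        have h4 : |A| = (A.natAbs : ℤ) := Int.abs_eq_natAbs A
        rw [h4] at h2
        have h5 : p ^ A.natAbs ≤ A.natAbs := by exact_mod_cast h2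
        omega
      rw [hA0] at hA
      have hfac : (Q.natDegree.factorial : ℚ) ≠ 0 := by exact_mod_cast Nat.factorial_ne_zero _
      have hlc0 : Q.leadingCoeff = 0 := by
        have hA' : (Q.natDegree.factorial : ℚ) * Q.leadingCoeff = 0 := by
          rw [hA]; norm_num
        rcases mul_eq_zero.mp hA' with h | h
        · exact absurd h hfac
        · exact h
      rw [Polynomial.leadingCoeff_eq_zero] at hlc0
      rw [hlc0] at hd
      simp at hd
    have h1 := hQ 1
    have h0 := hQ 0
    rw [Polynomial.eq_C_of_natDegree_eq_zero hdeg] at h1 h0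
    simp only [one_smul, zero_smul, Polynomial.eval_C] at h1 h0
    rw [h1, h0]
  -- Step C: general x
  obtain ⟨Nn, hN0, hNx⟩ := htor x
  obtain ⟨Q, hQ⟩ := Groth.Agent.H28.exists_poly_of_isPolyMap hf x
  have hQC : Q = Polynomial.C (f 0) := by
    apply Polynomial.eq_of_infinite_eval_eq
    apply Set.Infinite.mono (s := Set.range (fun n : ℤ => ((Nn * n : ℤ) : ℚ)))
    · rintro _ ⟨n, rfl⟩
      simp only [Set.mem_ofPred_eq, Polynomial.eval_C]
      rw [← hQ]
      have h1 : (Nn * n) • x = n • (Nn • x) := by rw [mul_comm, mul_smul]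
      rw [h1]
      exact hG' _ (G'.zsmul_mem hNx n)
    · apply Set.infinite_range_of_injective
      intro a b h
      have h' : Nn * a = Nn * b := by
        have h'' : ((Nn * a : ℤ) : ℚ) = ((Nn * b : ℤ) : ℚ) := h
        exact_mod_cast h''
      exact mul_left_cancel₀ hN0 h'
  have h1 := hQ 1
  rw [one_smul, hQC] at h1
  simpa using h1

end Groth.Agent.S5656
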