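import Groth.Statements.S5657
import Groth.Agent.H28.UnitBinom
import Mathlib.Algebra.BigOperators.Ring.Finset
import Mathlib.Algebra.Group.TypeTags.Finite
import Mathlib.Algebra.BigOperators.GroupWithZero.Action

set_option autoImplicit false
universe u
open TensorProduct
open W4sga6xxiii

namespace Groth.Agent.S5657

/-- Let A be a commutative ring, I an ideal of A with I^{m+1} = 0, and P ⊆ Aˣ the subgroup of units of
the form 1 + y with y ∈ I. Then the map P → A ⊗_ℤ ℚ, x ↦ x ⊗ 1, is a polynomial map of degree ≤ m on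
the abelian group P (written additively): along every finite sequence x_1, …, x_r in P one has
x_1^{n_1}⋯x_r^{n_r} ⊗ 1 = Σ_k Π_i C(n_i, k_i) y_k with y_k = 0 whenever k_1 + ⋯ + k_r > m. -/
theorem result (A : Type u) [CommRing A] (I : Ideal A) (m : ℕ) (hI : I ^ (m + 1) = ⊥)
    (P : Subgroup Aˣ) (hP : ∀ u : Aˣ, u ∈ P ↔ (u : A) - 1 ∈ I) :
    W4sga6xxiii.IsPolyMapLE (fun u : Additive P => (((Additive.toMul u : P) : Aˣ) : A) ⊗ₜ[ℤ] (1 : ℚ)) m := by
  classical
  intro r x
  set u : Fin r → Aˣ := fun i => ((Additive.toMul (x i) : P) : Aˣ) with hu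
  set t : Fin r → A := fun i => (u i : A) - 1 with ht
  have htI : ∀ i, t i ∈ I := fun i => (hP (u i)).mp (Additive.toMul (x i) : P).2
  have htpow : ∀ i, t i ^ (m + 1) = 0 := by
    intro i
    have h1 : t i ^ (m + 1) ∈ I ^ (m + 1) := Ideal.pow_mem_pow (htI i) _
    rw [hI] at h1
    exact (Submodule.mem_bot A).mp h1
  refine ⟨fun k => (∏ i, t i ^ (k i : ℕ)) ⊗ₜ[ℤ] (1 : ℚ), ?_, ?_⟩
  · intro k hk
    have h1 : (∏ i, t i ^ (k i : ℕ)) ∈ I ^ (∑ i, (k i : ℕ)) := by
      rw [← Finset.prod_pow_eq_pow_sum]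
      exact Ideal.prod_mem_prod fun i _ => Ideal.pow_mem_pow (htI i) _
    have h2 : I ^ (∑ i, (k i : ℕ)) ≤ I ^ (m + 1) := Ideal.pow_le_pow_right (by omega)
    have h3 := h2 h1
    rw [hI] at h3
    change (∏ i, t i ^ (k i : ℕ)) ⊗ₜ[ℤ] (1 : ℚ) = 0
    rw [(Submodule.mem_bot A).mp h3, TensorProduct.zero_tmul]
  · intro n
    have h1 : (((Additive.toMul (∑ i, n i • x i) : P) : Aˣ) : A) =
        ∏ i, ((u i ^ n i : Aˣ) : A) := by
      rw [toMul_sum]
      simp only [toMul_zsmul]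
      rw [← SubgroupClass.coe_subtype, map_prod, Units.coe_prod]
      refine Finset.prod_congr rfl fun i _ => ?_
      rw [SubgroupClass.coe_subtype, SubgroupClass.coe_zpow]
    have h2 : ∀ i, ((u i ^ n i : Aˣ) : A) =
        ∑ j : Fin (m + 1), Ring.choose (n i) (j : ℕ) • t i ^ (j : ℕ) := by
      intro i
      rw [Groth.Agent.H28.unit_zpow_eq_binomSeries m (u i) (htpow i) (n i)]
      unfold Groth.Agent.H28.binomSeries
      rw [Finset.sum_range]
    have h3 : ∏ i, ((u i ^ n i : Aˣ) : A) =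
        ∑ k : Fin r → Fin (m + 1), (∏ i, Ring.choose (n i) (k i : ℕ)) • ∏ i, t i ^ (k i : ℕ) := by
      simp only [h2]
      rw [Finset.prod_univ_sum, Fintype.piFinset_univ]
      refine Finset.sum_congr rfl fun k _ => ?_
      simp only [zsmul_eq_mul]
      rw [Finset.prod_mul_distrib]
      push_cast
      rfl
    change (((Additive.toMul (∑ i, n i • x i) : P) : Aˣ) : A) ⊗ₜ[ℤ] (1 : ℚ) = _
    rw [h1, h3, TensorProduct.sum_tmul]
    refine Finset.sum_congr rfl fun k _ => ?_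
    rw [TensorProduct.smul_tmul']

end Groth.Agent.S5657
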