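import Groth.Statements.S5666
import Groth.Agent.H28.ExtKilled

set_option autoImplicit false
universe u
open CategoryTheory
open Dual

namespace Groth.Agent.S5666

/-- All degrees, for a module killed by `J`: let `A` be a commutative ring, `xs = (x_1, …, x_p)` a
sequence in `A` such that each `x_i` is a non-zero-divisor on `A/(x_1, …, x_{i-1})`, `J` the ideal
generated by the `x_i`, and `M` an `A`-module with `JM = 0`. Then for every `i`, `Ext^i_A(A/J, M)`
is isomorphic as an `A`-module to `M^(p choose i)` (so it vanishes for `i > p`). (Existence of an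
`A`-linear isomorphism only; the published one is `Ext^i_A(A/J, M) ≅ Hom_A(Λ^i(J/J^2), M)` with
`J/J^2` free of rank `p` over `A/J`.) -/
theorem result (A : Type u) [CommRing A] (xs : List A) (hreg : RingTheory.Sequence.IsWeaklyRegular A xs) (M : Type u) [AddCommGroup M] [Module A M] (hJM : Ideal.ofList xs • (⊤ : Submodule A M) = ⊥) (i : ℕ) : Nonempty (Abelian.Ext (ModuleCat.of A (A ⧸ Ideal.ofList xs)) (ModuleCat.of A M) i ≃ₗ[A] (Fin (xs.length.choose i) → M)) := by
  classical
  have hI : (Ideal.ofList xs • ⊤ : Submodule A A) = Ideal.ofList xs := by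
    rw [smul_eq_mul, Ideal.mul_top]
  have hM : Groth.Agent.H28.Killed (Groth.Agent.H28.IQ A xs) M := by
    intro a ha m
    have ha' : a ∈ Ideal.ofList xs := by rw [← hI]; exact ha
    have h1 : a • m ∈ (Ideal.ofList xs • (⊤ : Submodule A M)) :=
      Submodule.smul_mem_smul ha' Submodule.mem_top
    rw [hJM] at h1
    exact (Submodule.mem_bot A).mp h1
  obtain ⟨ι, hι, hcard, u, hu⟩ := Groth.Agent.H28.univ_aux A xs hreg i
  let e1 : (ι → M) ≃ₗ[A] Abelian.Ext (Groth.Agent.H28.XQ (Groth.Agent.H28.IQ A xs)) (ModuleCat.of A M) i :=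
    LinearEquiv.ofBijective (Groth.Agent.H28.Phi u hM) (hu M hM)
  let eq : (A ⧸ Ideal.ofList xs) ≃ₗ[A] Groth.Agent.H28.Bq A xs :=
    Submodule.quotEquivOfEq _ _ hI.symm
  let e2 := Groth.Agent.H28.extLinearEquivOfIso eq.toModuleIso (ModuleCat.of A M) i
  let e3 : (ι → M) ≃ₗ[A] (Fin (xs.length.choose i) → M) :=
    LinearEquiv.funCongrLeft A M (Fintype.equivFinOfCardEq hcard).symm
  exact ⟨e2.trans (e1.symm.trans e3)⟩

end Groth.Agent.S5666
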