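import Groth.Statements.S5672
import Groth.Agent.S5671
import Groth.Agent.H29.ExtPres

set_option autoImplicit false
universe u
open CategoryTheory
open Dual

namespace Groth.Agent.S5672

open Groth.Agent.H29.ExtPres in
theorem vanishing (A : Type u) [CommRing A] [IsRegularLocalRing A] (p : ℕ) (J : Ideal A)
    (hJ : ringKrullDim (A ⧸ J) + p ≤ ringKrullDim A) :
    Vanishing (ModuleCat.of A A) J p := by
  intro N _ _ _ hN i hi
  refine Groth.Agent.S5671.result A N p ?_ i hi
  rw [Module.supportDim_eq_ringKrullDim_quotient_annihilator]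
  have hle : J ≤ Module.annihilator A N := by
    intro a ha
    rw [Module.mem_annihilator]
    exact fun n => smul_eq_zero_of_killed hN ha n
  have h1 : ringKrullDim (A ⧸ Module.annihilator A N) ≤ ringKrullDim (A ⧸ J) :=
    ringKrullDim_le_of_surjective (Ideal.Quotient.factor hle)
      (Ideal.Quotient.factor_surjective hle)
  calc ringKrullDim (A ⧸ Module.annihilator A N) + p ≤ ringKrullDim (A ⧸ J) + p := by gcongr
    _ ≤ ringKrullDim A := hJ

/-- Let `A` be a regular local ring of dimension `n`, `J` an ideal with `dim(A/J) ≤ n - p`, and `M` a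
finite `A`-module with `JM = 0`. For `ξ ∈ Ext^p_A(M, A)` and an `A`-linear `u : A/J → M` write `u^*ξ
∈ Ext^p_A(A/J, A)` for the pullback. Then `ξ ↦ (u ↦ u^*ξ)` is injective, and every `A`-linear map
`Hom_A(A/J, M) → Ext^p_A(A/J, A)` is of the form `u ↦ u^*ξ` for some `ξ`. Since `Hom_A(A/J, M) = M`
here, this says that the canonical map `Ext^p_A(M, A) → Hom_A(M, Ext^p_A(A/J, A))` is bijective. -/
theorem result (A : Type u) [CommRing A] [IsRegularLocalRing A] (p : ℕ) (J : Ideal A) (hJ : ringKrullDim (A ⧸ J) + p ≤ ringKrullDim A) (M : Type u) [AddCommGroup M] [Module A M] [Module.Finite A M] (hJM : J • (⊤ : Submodule A M) = ⊥) : Function.Injective (fun ξ : Abelian.Ext (ModuleCat.of A M) (ModuleCat.of A A) p => fun u : (A ⧸ J) →ₗ[A] M => (Abelian.Ext.mk₀ (ModuleCat.ofHom u)).comp ξ (zero_add p)) ∧ ∀ g : ((A ⧸ J) →ₗ[A] M) →ₗ[A] Abelian.Ext (ModuleCat.of A (A ⧸ J)) (ModuleCat.of A A) p, ∃ ξ : Abelian.Ext (ModuleCat.of A M) (ModuleCat.of A A) p, ∀ u : (A ⧸ J) →ₗ[A] M, g u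 = (Abelian.Ext.mk₀ (ModuleCat.ofHom u)).comp ξ (zero_add p) := by
  have hV := vanishing A p J hJ
  refine ⟨?_, ?_⟩
  · intro ξ ξ' h
    rw [← sub_eq_zero]
    refine Groth.Agent.H29.ExtPres.eval_injective hV hJM (ξ - ξ') fun u => ?_
    have h1 := congrFun h u
    simp only at h1
    change (Abelian.Ext.mk₀ (ModuleCat.ofHom u)).comp (ξ - ξ') (zero_add p) = 0
    rw [sub_eq_add_neg, Abelian.Ext.comp_add, Abelian.Ext.comp_neg, h1, add_neg_cancel]
  · intro g
    exact Groth.Agent.H29.ExtPres.eval_surjective hV hJM g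

end Groth.Agent.S5672
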