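import Groth.Statements.S5675
import Mathlib
import Groth.Agent.H66.ExtPowRank
import Groth.Agent.H66.DetSplitProj
import Groth.Agent.H66.SmoothQuotTheta
import Groth.Agent.H66.ExtInvQuot
-- import your own Groth.Agent.* helpers here

set_option autoImplicit false
universe u
open CategoryTheory
open Dual

namespace Groth.Agent.S5675

/-- Let `k` be a perfect field, `A` a regular affine `k`-algebra of dimension `n` — here: `A` finitely
generated and smooth over `k` with `Ω_{A/k}` of rank `n` at every prime — and `xs = (x_1, …, x_p)`,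
`p ≤ n`, a sequence with each `x_i` a non-zero-divisor on `A/(x_1, …, x_{i-1})`, generating an ideal
`J` such that `A/J` is again a regular (smooth) affine `k`-algebra. Write `Ω^m` for `m`-th exterior
powers of Kähler differentials. Then `Ext^p_A(Ω^(n-p)(A/J), Ω^n(A))` is isomorphic to `A/J` as an
`A`-module. (Existence of an `A`-linear isomorphism only; the published one is canonical and
compatible with localisation, its unit being the fundamental class of `J` in `A`.) -/
theorem result (k : Type u) [Field k] [PerfectField k] (A : Type u) [CommRing A] [Algebra k A] [Algebra.FiniteType k A] [Algebra.Smooth k A] (n : ℕ) (hn : ∀ q : PrimeSpectrum A, Module.rankAtStalk (Ω[A⁄k]) q = n) (xs : List A) (hreg : RingTheory.Sequence.IsWeaklyRegular A xs) (J : Ideal A) (hJ : Ideal.ofList xs = J) [Algebra.Smooth k (A ⧸ J)] (p : ℕ) (hp : xs.length = p) (hpn : p ≤ n) : Nonempty (Abelian.Ext (ModuleCat.of A ↥((⋀[A ⧸ J]^(n - p) (Ω[(A ⧸ J)⁄k])).restrictScalars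 A)) (ModuleCat.of A ↥(⋀[A]^n (Ω[A⁄k]))) p ≃ₗ[A] (A ⧸ J)) := by
  subst hJ
  subst hp
  classical
  haveI : IsNoetherianRing A := Algebra.FiniteType.isNoetherianRing k A
  have hsurj : Function.Surjective (algebraMap A (A ⧸ Ideal.ofList xs)) :=
    Ideal.Quotient.mk_surjective
  -- `Y` is invertible
  haveI : Module.Invertible A (⋀[A]^n (Ω[A⁄k])) :=
    Groth.Agent.H66.ExtPowRank.invertible_extPow n hn
  -- the split conormal sequence
  obtain ⟨θ⟩ := Groth.Agent.H66.SmoothQuotTheta.nonempty_theta k A xs hreg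
  have hrank : ∀ q : PrimeSpectrum (A ⧸ Ideal.ofList xs),
      Module.rankAtStalk (TensorProduct A (A ⧸ Ideal.ofList xs) Ω[A⁄k]) q = n := fun q => by
    rw [Module.rankAtStalk_baseChange, hn]
  obtain ⟨eDet⟩ := Groth.Agent.H66.DetSplitProj.nonempty_extPow_equiv' hpn θ hrank
  -- the comparison isomorphism
  let e0 : ↥((⋀[A ⧸ Ideal.ofList xs]^(n - xs.length) (Ω[(A ⧸ Ideal.ofList xs)⁄k])).restrictScalars A)
      ≃ₗ[A] ↥(⋀[A ⧸ Ideal.ofList xs]^(n - xs.length) (Ω[(A ⧸ Ideal.ofList xs)⁄k])) :=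
    (Submodule.restrictScalarsEquiv A (A ⧸ Ideal.ofList xs) _ _).restrictScalars A
  let e1 : ↥(⋀[A ⧸ Ideal.ofList xs]^(n - xs.length) (Ω[(A ⧸ Ideal.ofList xs)⁄k])) ≃ₗ[A]
      TensorProduct A (A ⧸ Ideal.ofList xs) ↥(⋀[A]^n (Ω[A⁄k])) :=
    (eDet ≪≫ₗ (Groth.Agent.H66.ExtPowRank.powBCEquiv (R := A) (M := Ω[A⁄k])
      (A ⧸ Ideal.ofList xs) n).symm).restrictScalars A
  let e2 := TensorProduct.quotTensorEquivQuotSMul (↥(⋀[A]^n (Ω[A⁄k]))) (Ideal.ofList xs)
  haveI : Module.Finite A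
      ↥((⋀[A ⧸ Ideal.ofList xs]^(n - xs.length) (Ω[(A ⧸ Ideal.ofList xs)⁄k])).restrictScalars A) := by
    haveI : Module.Finite A ↥(⋀[A ⧸ Ideal.ofList xs]^(n - xs.length) (Ω[(A ⧸ Ideal.ofList xs)⁄k])) :=
      Module.Finite.trans (A ⧸ Ideal.ofList xs) _
    exact Module.Finite.equiv e0.symm
  have hN : Ideal.ofList xs • (⊤ : Submodule A
      ↥((⋀[A ⧸ Ideal.ofList xs]^(n - xs.length) (Ω[(A ⧸ Ideal.ofList xs)⁄k])).restrictScalars A)) = ⊥ := by
    refine Groth.Agent.H29.ExtPres.killed_of_forall fun a ha x => ?_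
    apply e0.injective
    rw [map_smul, map_zero, ← algebraMap_smul (A ⧸ Ideal.ofList xs) a (e0 x)]
    have : algebraMap A (A ⧸ Ideal.ofList xs) a = 0 :=
      Ideal.Quotient.eq_zero_iff_mem.mpr ha
    rw [this, zero_smul]
  exact Groth.Agent.H66.ExtInvQuot.nonempty_ext_equiv xs hreg _ _ hN (e0 ≪≫ₗ e1 ≪≫ₗ e2)

end Groth.Agent.S5675
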