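import Groth.Statements.S5690
import Groth.Agent.H40.GQ.Coeq
import Groth.Agent.H40.GQ.CoversOfClosed

set_option autoImplicit false
universe u
open CategoryTheory CategoryTheory.Limits AlgebraicGeometry
open FGA

namespace Groth.Agent.S5690

/-- Let (U, R, s, t, c) be a groupoid scheme over a scheme S whose source morphism s : R ⟶ U is finite
locally free (finite, flat and locally of finite presentation), and suppose every equivalence class
t(s⁻¹(x)), x a point of U, is contained in some affine open of U. Then there are a scheme Y and a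
morphism q : U ⟶ Y with s ≫ q = t ≫ q which is a coequalizer of s and t in the category of schemes,
affine, integral and surjective, whose fibres are the equivalence classes; and if (t, s) : R ⟶ U ×_S
U is a monomorphism then q is moreover finite, flat and locally of finite presentation and (t, s) :
R ⟶ U ×_Y U is an isomorphism. Only the sufficiency of the affine-class condition is stated (the
published statement is an equivalence: the quotient with these properties exists if and only if
every class lies in an affine open). -/
theorem result {S : Scheme.{u}} (G : Grpd.GroupoidScheme S)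
    [IsFinite G.s] [Flat G.s] [LocallyOfFinitePresentation G.s]
    (haff : ∀ x : ↥G.U, ∃ V : G.U.Opens, IsAffineOpen V ∧ G.t.base '' (G.s.base ⁻¹' {x}) ⊆ (V : Set ↥G.U)) :
    ∃ (Y : Scheme.{u}) (q : G.U ⟶ Y) (w : G.s ≫ q = G.t ≫ q),
      Nonempty (IsColimit (Cofork.ofπ q w)) ∧ IsAffineHom q ∧ IsIntegralHom q ∧ Surjective q ∧
      (∀ x x' : ↥G.U, q.base x = q.base x' ↔ ∃ r : ↥G.R, G.s.base r = x ∧ G.t.base r = x') ∧
      (Mono G.j → IsFinite q ∧ Flat q ∧ LocallyOfFinitePresentation q ∧
        IsIso (pullback.lift G.t G.s w.symm : G.R ⟶ pullback q q)) := by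
  have hcov : Groth.Agent.H40.GQ.Covers G := Groth.Agent.H40.GQ.covers_of_orbits G (fun x => by
    obtain ⟨V, hV, hx⟩ := haff x
    exact ⟨V, hV, fun r hr => hx ⟨r, hr, rfl⟩⟩)
  have hcolim : IsColimit (Cofork.ofπ (Groth.Agent.H40.GQ.quotP hcov)
      (Groth.Agent.H40.GQ.t_quotP hcov).symm) :=
    Cofork.IsColimit.mk _
      (fun c => Groth.Agent.H40.GQ.quotDesc hcov c.π c.condition.symm)
      (fun c => Groth.Agent.H40.GQ.quotP_quotDesc hcov c.π c.condition.symm)
      (fun c m hm => Groth.Agent.H40.GQ.quotDesc_unique hcov c.π c.condition.symm m hm)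
  refine ⟨Groth.Agent.H40.GQ.quotY G, Groth.Agent.H40.GQ.quotP hcov,
    (Groth.Agent.H40.GQ.t_quotP hcov).symm, ⟨hcolim⟩, inferInstance, inferInstance,
    inferInstance, ?_, ?_⟩
  · intro x y
    exact Groth.Agent.H40.GQ.quotP_eq_iff hcov x y
  · intro hmono
    haveI := hmono
    refine ⟨inferInstance, inferInstance, inferInstance, ?_⟩
    have hpb := Groth.Agent.H40.GQ.isPullback_quotP hcov
    have : pullback.lift G.t G.s (Groth.Agent.H40.GQ.t_quotP hcov).symm.symm =
        hpb.isoPullback.hom := by
      apply pullback.hom_ext
      · rw [pullback.lift_fst, hpb.isoPullback_hom_fst]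
      · rw [pullback.lift_snd, hpb.isoPullback_hom_snd]
    rw [this]
    infer_instance

end Groth.Agent.S5690
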