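import Groth.Statements.S5720
import Groth.Agent.H88.SplitLocal
import Groth.Agent.H88.SplitData
import Groth.Agent.H88.ZariskiInner

set_option autoImplicit false
universe u v
open TensorProduct
open Dix

namespace Groth.Agent.S5720

/-- (ii) ⇒ (iii), over an affine base X = Spec R. Let A be an Azumaya algebra over the commutative ring
R and p a prime ideal of R. Then there exist f ∈ R with f ∉ p, a finite étale and faithfully flat
R_f-algebra R' (a finite étale surjective cover of the neighbourhood D(f) of p) and an integer r ≥ 1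
such that R' ⊗_R A is isomorphic as an R'-algebra to the matrix algebra M_r(R'). (Existence of the
isomorphism only.) -/
theorem result (R : Type u) [CommRing R] (A : Type u) [Ring A] [Algebra R A] [IsAzumaya R A] (p : Ideal R) [p.IsPrime] : ∃ f : R, f ∉ p ∧ ∃ (R' : Type u) (_ : CommRing R') (_ : Algebra R R') (_ : Algebra (Localization.Away f) R') (_ : IsScalarTower R (Localization.Away f) R'), Module.Finite (Localization.Away f) R' ∧ Algebra.Etale (Localization.Away f) R' ∧ Module.FaithfullyFlat (Localization.Away f) R' ∧ ∃ r : ℕ, 1 ≤ r ∧ Nonempty ((R' ⊗[R] A) ≃ₐ[R'] Matrix (Fin r) (Fin r) R') := by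
  classical
  obtain ⟨r, hr, P, x₀, y, hPm, hPdeg, hρ, hroot, hψS⟩ :=
    Groth.Agent.H88.SplitLocal.exists_local_data R A p
  obtain ⟨t, ht⟩ := (IsLocalizedModule.eq_zero_iff p.primeCompl
    (TensorProduct.mk R (Localization.AtPrime p) A 1)).mp hroot
  let v : Fin r × Fin r → A := fun ji => y ji.1 * x₀ ^ (ji.2 : ℕ)
  have hfp : Module.FinitePresentation R A := Module.finitePresentation_of_projective R A
  obtain ⟨g, hg, hgb⟩ := exists_bijective_map_powers p.primeCompl
    (Finsupp.mapRange.linearMap (Algebra.linearMap R (Localization.AtPrime p)))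
    (TensorProduct.mk R (Localization.AtPrime p) A 1)
    (Finsupp.linearCombination R v) (by
      rw [IsLocalizedModule.map_linearCombination, LinearMap.coe_restrictScalars]
      exact hψS)
  set ρ := Polynomial.resultant P (Polynomial.derivative P) r (r - 1) with hρdef
  have hfmem : (t : R) * ρ * g ∈ p.primeCompl :=
    p.primeCompl.mul_mem (p.primeCompl.mul_mem t.2 hρ) hg
  refine ⟨(t : R) * ρ * g, hfmem, ?_⟩
  set f := (t : R) * ρ * g with hf
  have hfu : IsUnit (algebraMap R (Localization.Away f) f) :=
    IsLocalization.Away.algebraMap_isUnit f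
  have htu : IsUnit (algebraMap R (Localization.Away f) (t : R)) :=
    isUnit_of_dvd_unit (map_dvd _ ⟨ρ * g, by rw [hf]; ring⟩) hfu
  have hρu : IsUnit (algebraMap R (Localization.Away f) ρ) :=
    isUnit_of_dvd_unit (map_dvd _ ⟨(t : R) * g, by rw [hf]; ring⟩) hfu
  have hntT : Nontrivial (Localization.Away f) := by
    have hfS : IsUnit (algebraMap R (Localization.AtPrime p) f) :=
      IsLocalization.map_units (Localization.AtPrime p) (⟨f, hfmem⟩ : p.primeCompl)
    exact (IsLocalization.Away.lift (S := Localization.Away f) f hfS).domain_nontrivial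
  have hAzT : IsAzumaya (Localization.Away f) (Localization.Away f ⊗[R] A) :=
    Groth.Agent.S19588.result R (Localization.Away f) A
  set PT : Polynomial (Localization.Away f) :=
    P.map (algebraMap R (Localization.Away f)) with hPT
  have hPTm : PT.Monic := hPm.map _
  have hPTdeg : PT.natDegree = r := by rw [hPT, hPm.natDegree_map, hPdeg]
  have hresT : IsUnit (Polynomial.resultant PT (Polynomial.derivative PT) r (r - 1)) := by
    rw [hPT, Polynomial.derivative_map, Polynomial.resultant_map_map]
    exact hρu
  have hrootT : Polynomial.aeval ((1 : Localization.Away f) ⊗ₜ[R] x₀) PT = 0 := by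
    rw [hPT, Polynomial.aeval_map_algebraMap]
    have h1 : Polynomial.aeval ((1 : Localization.Away f) ⊗ₜ[R] x₀) P =
        (1 : Localization.Away f) ⊗ₜ[R] (Polynomial.aeval x₀ P) :=
      Polynomial.aeval_algHom_apply
        (Algebra.TensorProduct.includeRight : A →ₐ[R] Localization.Away f ⊗[R] A) x₀ P
    rw [h1]
    exact Groth.Agent.H88.ZariskiInner.tmul_eq_zero_of_smul_eq_zero (t : R) htu 1 _ ht
  have hψT : Function.Bijective (Fintype.linearCombination (Localization.Away f)
      (fun ji : Fin r × Fin r => ((1 : Localization.Away f) ⊗ₜ[R] y ji.1) *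
        ((1 : Localization.Away f) ⊗ₜ[R] x₀) ^ (ji.2 : ℕ))) := by
    have h1 := hgb f (Dvd.intro_left ((t : R) * ρ) rfl)
    rw [← IsLocalizedModule.map_bijective_iff_localizedModuleMap_bijective
      (Finsupp.mapRange.linearMap (Algebra.linearMap R (Localization.Away f)))
      (TensorProduct.mk R (Localization.Away f) A 1),
      IsLocalizedModule.map_linearCombination, LinearMap.coe_restrictScalars] at h1
    have h2 : (fun ji : Fin r × Fin r => ((1 : Localization.Away f) ⊗ₜ[R] y ji.1) *
        ((1 : Localization.Away f) ⊗ₜ[R] x₀) ^ (ji.2 : ℕ)) =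
        (TensorProduct.mk R (Localization.Away f) A 1) ∘ v := by
      funext ji
      simp only [v, Function.comp_apply, TensorProduct.mk_apply]
      rw [Algebra.TensorProduct.tmul_pow, one_pow, Algebra.TensorProduct.tmul_mul_tmul, one_mul]
    rw [h2, ← Finsupp.linearCombination_eq_fintype_linearCombination]
    exact h1.comp (LinearEquiv.bijective _)
  obtain ⟨hfin, hEt, hff, ⟨e⟩⟩ := Groth.Agent.H88.SplitData.split_of_data (Localization.Away f)
    (Localization.Away f ⊗[R] A) r hr PT hPTm hPTdeg hresT _ hrootT
    (fun j => (1 : Localization.Away f) ⊗ₜ[R] y j) hψT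
  refine ⟨AdjoinRoot PT, inferInstance, inferInstance, inferInstance, inferInstance,
    hfin, hEt, hff, r, hr, ?_⟩
  let c : (AdjoinRoot PT ⊗[R] A) ≃ₐ[AdjoinRoot PT]
      AdjoinRoot PT ⊗[Localization.Away f] (Localization.Away f ⊗[R] A) :=
    AlgEquiv.ofLinearEquiv
      (TensorProduct.AlgebraTensorModule.cancelBaseChange R (Localization.Away f)
        (AdjoinRoot PT) (AdjoinRoot PT) A).symm
      (by simp [Algebra.TensorProduct.one_def])
      (LinearMap.map_mul_of_map_mul_tmul (fun _ _ _ _ ↦ by simp))
  exact ⟨c.trans e⟩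

end Groth.Agent.S5720
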