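import Groth.Statements.S5725
import Groth.Agent.H41.CanonMap
import Groth.Agent.S5732

set_option autoImplicit false
universe u
open CategoryTheory CategoryTheory.Limits AlgebraicGeometry TopologicalSpace Opposite
open scoped HomogeneousIdeal
open EGA2

namespace Groth.Agent.S5725

/-- Let q : X → Y be a quasi-compact morphism and L an invertible O_X-module. If L is very ample
relative to q (isomorphic to i^*O_{P(E)}(1) for a Y-immersion i : X → P(E) into the projective
bundle of a quasi-coherent O_Y-module E), then the canonical morphism q^*(q_*L) → L, the counit of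
the adjunction between inverse and direct image, is an epimorphism. (The published statement also
records that q_*L is quasi-coherent, which holds because q is then quasi-compact and separated, and
lists a further property, that the morphism into the projective bundle of q_*L attached to this
epimorphism is an immersion; with that property the converse holds. Those parts are not stated
here.) -/
theorem result {X Y : Scheme.{u}} (q : X ⟶ Y) [QuasiCompact q] (L : X.Modules)
    (hL : PicF.IsInvertible L) (h : RelProj.IsRelVeryAmple q L) :
    Epi ((Scheme.Modules.pullbackPushforwardAdjunction q).counit.app L) := by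
  obtain ⟨E, hE, 𝒮, j, hj, P, p, chart, hP, O1, lam, hO1, i, himm, hi, ⟨e⟩⟩ := h
  have h01 : ((1 : ℕ) : ℤ) = ((0 : ℕ) : ℤ) + 1 := by simp
  have hepi := Groth.Agent.S5732.result E hE 𝒮 j hj p chart hP O1 lam hO1
    (Groth.Agent.H41.CanonMap.phi 𝒮 p chart hP 1 O1 lam hO1 1 h01 E j hj.2)
    (Groth.Agent.H41.CanonMap.phi_val 𝒮 p chart hP 1 O1 lam hO1 1 h01 E j hj.2)
  set a := ((Scheme.Modules.pullbackPushforwardAdjunction p).homEquiv E O1).symm
    (Groth.Agent.H41.CanonMap.phi 𝒮 p chart hP 1 O1 lam hO1 1 h01 E j hj.2) with ha
  haveI : Epi a := hepi
  -- an epimorphism `q^* E ⟶ L`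
  let t : (Scheme.Modules.pullback q).obj E ⟶ L :=
    (Scheme.Modules.pullbackCongr hi).inv.app E ≫ (Scheme.Modules.pullbackComp i p).inv.app E ≫
      (Scheme.Modules.pullback i).map a ≫ e.inv
  haveI : Epi ((Scheme.Modules.pullback i).map a) := inferInstance
  haveI : Epi t := by
    dsimp only [t]
    infer_instance
  set adj := Scheme.Modules.pullbackPushforwardAdjunction q with hadj
  have ht : t = (Scheme.Modules.pullback q).map (adj.homEquiv E L t) ≫ adj.counit.app L := by
    have h1 := adj.homEquiv_counit (X := E) (Y := L) (g := adj.homEquiv E L t)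
    rw [Equiv.symm_apply_apply] at h1
    exact h1
  have : Epi ((Scheme.Modules.pullback q).map (adj.homEquiv E L t) ≫ adj.counit.app L) := by
    rw [← ht]
    infer_instance
  exact epi_of_epi ((Scheme.Modules.pullback q).map (adj.homEquiv E L t)) _

end Groth.Agent.S5725
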