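import Groth.Statements.S5736
import Groth.Agent.S1309
import Groth.Agent.H87.ThickAffG
import Groth.Agent.H19.FormalBC

set_option autoImplicit false
universe u
open FCompl

namespace Groth.Agent.S5736


open AlgebraicGeometry CategoryTheory in
/-- For formal schemes presented as adic systems of thickenings, in which a finite morphism is an adic
one whose smallest level is finite; the content is that every level is then finite. Let (Y_n) be a
locally Noetherian adic formal system and f : (X_n) → (Y_n) a morphism of systems all of whose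
squares X_n → X_(n+1), Y_n → Y_(n+1) are cartesian. If X_0 → Y_0 is a finite morphism of schemes,
then X_n → Y_n is finite for every n. -/
theorem result {𝔛 𝔜 : FSch.Sys.{u}} (f : 𝔛 ⟶ 𝔜)
    (h𝔜 : 𝔜.IsLocNoethFormal) (hf : FSch.IsAdicHom f) [IsFinite ((f : FSch.Hom 𝔛 𝔜).app 0)] (n : ℕ) :
    IsFinite ((f : FSch.Hom 𝔛 𝔜).app n) := by
  obtain ⟨hF, hA, hN⟩ := h𝔜
  have hF' := Groth.Agent.H19.FormalBC.isFormal_of_isAdicHom f hF hf
  induction n with
  | zero => infer_instance
  | succ n ih =>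
    have h1 : IsClosedImmersion (𝔜.ι n) := (hF n).1
    have h2 : IsClosedImmersion (𝔛.ι n) := (hF' n).1
    have h3 : Surjective (𝔛.ι n) := ⟨(hF' n).2⟩
    have hnil : IsNilpotent (𝔜.ι n).ker := by
      refine ⟨2, ?_⟩
      have hp := Groth.Agent.H19.FormalNoeth.ker_toX_pow 𝔜 hF hA (n + 1)
      have e : (n + 1) * 2 = (n + 1 + 1) + n := by ring
      rw [hA n, ← pow_mul, e, pow_add, hp]
      exact Scheme.IdealSheafData.bot_mul _
    have hS : MoreMor.IsFiniteOrderThickening (𝔜.ι n) := ⟨⟨h1, ⟨(hF n).2⟩⟩, hnil⟩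
    have hloft : LocallyOfFiniteType ((f : FSch.Hom 𝔛 𝔜).app (n + 1)) :=
      (Groth.Agent.S1309.result (𝔛.ι n) (𝔜.ι n) ((f : FSch.Hom 𝔛 𝔜).app n)
        ((f : FSch.Hom 𝔛 𝔜).app (n + 1)) hS (hf n)).mp inferInstance
    have hint : IsIntegralHom ((f : FSch.Hom 𝔛 𝔜).app (n + 1)) :=
      (Groth.Agent.H87.ThickAff.isIntegralHom_iff_of_thickening (𝔛.ι n) (𝔜.ι n)
        ((f : FSch.Hom 𝔛 𝔜).app n) ((f : FSch.Hom 𝔛 𝔜).app (n + 1)) (hf n).w).mp inferInstance
    exact (IsFinite.iff_isIntegralHom_and_locallyOfFiniteType _).mpr ⟨hint, hloft⟩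

end Groth.Agent.S5736
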