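import Groth.Statements.S5738
import Groth.Agent.S1309
import Groth.Agent.H19.FormalBC
import Groth.Agent.H29.ThickSep

set_option autoImplicit false
universe u
open FCompl

namespace Groth.Agent.S5738


open AlgebraicGeometry CategoryTheory in
/-- For formal schemes presented as adic systems of thickenings: a proper morphism of locally Noetherian
formal schemes is an adic one whose smallest level is proper, and the content is that every level is
then proper. Let (X_n) and (S_n) be locally Noetherian adic formal systems and f : (X_n) → (S_n) a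
morphism of systems all of whose squares X_n → X_(n+1), S_n → S_(n+1) are cartesian. If X_0 → S_0 is
proper, then X_n → S_n is proper for every n. -/
theorem result {𝔛 𝔖 : FSch.Sys.{u}} (f : 𝔛 ⟶ 𝔖)
    (h𝔛 : 𝔛.IsLocNoethFormal) (h𝔖 : 𝔖.IsLocNoethFormal) (hf : FSch.IsAdicHom f)
    [IsProper ((f : FSch.Hom 𝔛 𝔖).app 0)] (n : ℕ) :
    IsProper ((f : FSch.Hom 𝔛 𝔖).app n) := by
  obtain ⟨hF, hA, hN⟩ := h𝔖
  have hF' := h𝔛.1
  induction n with
  | zero => infer_instance
  | succ n ih =>
    have h1 : IsClosedImmersion (𝔖.ι n) := (hF n).1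
    have h2 : IsClosedImmersion (𝔛.ι n) := (hF' n).1
    have h3 : Surjective (𝔛.ι n) := ⟨(hF' n).2⟩
    have hnil : IsNilpotent (𝔖.ι n).ker := by
      refine ⟨2, ?_⟩
      have hp := Groth.Agent.H19.FormalNoeth.ker_toX_pow 𝔖 hF hA (n + 1)
      have e : (n + 1) * 2 = (n + 1 + 1) + n := by ring
      rw [hA n, ← pow_mul, e, pow_add, hp]
      exact Scheme.IdealSheafData.bot_mul _
    have hS : MoreMor.IsFiniteOrderThickening (𝔖.ι n) := ⟨⟨h1, ⟨(hF n).2⟩⟩, hnil⟩
    have hloft : LocallyOfFiniteType ((f : FSch.Hom 𝔛 𝔖).app (n + 1)) :=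
      (Groth.Agent.S1309.result (𝔛.ι n) (𝔖.ι n) ((f : FSch.Hom 𝔛 𝔖).app n)
        ((f : FSch.Hom 𝔛 𝔖).app (n + 1)) hS (hf n)).mp inferInstance
    have hcomp : IsProper (𝔛.ι n ≫ (f : FSch.Hom 𝔛 𝔖).app (n + 1)) := by
      rw [(hf n).w]
      infer_instance
    have hsep : IsSeparated ((f : FSch.Hom 𝔛 𝔖).app (n + 1)) :=
      Groth.Agent.H29.ThickSep.isSeparated_of_comp_thickening (𝔛.ι n) _
    have huc : UniversallyClosed ((f : FSch.Hom 𝔛 𝔖).app (n + 1)) :=
      UniversallyClosed.of_comp_surjective (𝔛.ι n) _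
    exact { toIsSeparated := hsep, toUniversallyClosed := huc, toLocallyOfFiniteType := hloft }

end Groth.Agent.S5738
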