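import Groth.Statements.S5744
import Groth.Agent.Lead.Coh.CechShRes
import Groth.Agent.Lead.Coh.AcyclicEmbed
import Groth.Agent.H12.AffHomCrit

set_option autoImplicit false
universe u
open Coherent

namespace Groth.Agent.S5744

open AlgebraicGeometry in
/-- a finite nonempty intersection of affine opens is affine when binary intersections are -/
theorem isAffineOpen_iInf_fin {X : Scheme.{u}}
    (hd : ∀ V W : X.Opens, IsAffineOpen V → IsAffineOpen W → IsAffineOpen (V ⊓ W)) :
    ∀ (n : ℕ) (W : Fin (n + 1) → X.Opens), (∀ a, IsAffineOpen (W a)) → IsAffineOpen (⨅ a, W a)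
  | 0, W, h => by
    have h0 : (⨅ a, W a) = W 0 :=
      le_antisymm (iInf_le _ 0) (le_iInf (fun a => by
        have ha : a = 0 := Fin.ext (by omega)
        rw [ha]))
    rw [h0]
    exact h 0
  | n + 1, W, h => by
    have h0 : (⨅ a, W a) = W 0 ⊓ ⨅ a : Fin (n + 1), W a.succ :=
      le_antisymm (le_inf (iInf_le _ 0) (le_iInf fun a => iInf_le _ a.succ))
        (le_iInf (Fin.cases inf_le_left (fun a => inf_le_right.trans (iInf_le _ a))))
    rw [h0]
    exact hd _ _ (h 0) (isAffineOpen_iInf_fin hd n _ (fun a => h a.succ))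

open AlgebraicGeometry CategoryTheory CategoryTheory.Limits in
/-- a finite product of quasi-coherent modules is quasi-coherent -/
theorem isQuasicoherent_pi {X : Scheme.{u}} {T : Type u} [Finite T] (M : T → X.Modules)
    (hM : ∀ t, (M t).IsQuasicoherent) : (∏ᶜ M).IsQuasicoherent := by
  classical
  obtain ⟨n, ⟨e⟩⟩ := Finite.exists_equiv_fin T
  let f : Fin n → X.Modules := M ∘ e.symm
  have hf : ∀ k, (f k).IsQuasicoherent := fun k => hM (e.symm k)
  haveI : HasBiproduct f := HasBiproduct.of_hasProduct f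
  have h1 : (⨁ f).IsQuasicoherent :=
    Groth.Agent.H12.AffHomCrit.isQuasicoherent_of_finite_decomp f (biproduct.ι f) (biproduct.π f)
      biproduct.total
  have h2 : (∏ᶜ f).IsQuasicoherent :=
    Groth.Agent.H12.QCohAbelian.isQuasicoherent_of_iso (biproduct.isoProduct f)
  exact Groth.Agent.H12.QCohAbelian.isQuasicoherent_of_iso (Pi.reindex e.symm M)

open AlgebraicGeometry CategoryTheory in
/-- For the Čech complex of sheaves indexed by all ordered tuples with products as terms; over a finite
index type these terms are finite direct sums. Let X be a separated scheme, (U_i)_{i ∈ ι} a finite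
family of affine opens covering X, and F a quasi-coherent O_X-module. Then for every p the degree-p
term of the Čech complex of sheaves 𝔠(𝒰, F), the product over ordered (p+1)-tuples of the direct
images (j_{i_0…i_p})_*(F|_{U_{i_0…i_p}}), is a quasi-coherent O_X-module. -/
theorem result {X : Scheme.{u}} [X.IsSeparated] {ι : Type u}
    [Finite ι] (𝒰 : ι → X.Opens) (h𝒰 : ∀ i, IsAffineOpen (𝒰 i)) (hcov : ⨆ i, 𝒰 i = ⊤)
    (F : X.Modules) [Coh.IsQCoh F] (p : ℕ) :
    Coh.IsQCoh (((CechOX.cechSh 𝒰).obj F).X p) := by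
  have hd : ∀ V W : X.Opens, IsAffineOpen V → IsAffineOpen W → IsAffineOpen (V ⊓ W) :=
    fun V W hV hW => hV.inf hW
  change SheafOfModules.IsQuasicoherent
    (∏ᶜ fun σ : Fin (p + 1) → ι => (CechOX.pushRestr (Groth.Agent.Lead.Cech.cechOpen 𝒰 σ)).obj F)
  refine isQuasicoherent_pi _ (fun σ => ?_)
  have hσ : IsAffineOpen (Groth.Agent.Lead.Cech.cechOpen 𝒰 σ) := by
    rw [Groth.Agent.Lead.Cech.cechOpen_eq_iInf]
    exact isAffineOpen_iInf_fin hd p _ (fun a => h𝒰 (σ a))
  exact Groth.Agent.Lead.AcyclicEmbed.isQuasicoherent_star hd F hσ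

end Groth.Agent.S5744
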