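import Groth.Statements.S5747
import Groth.Agent.H77.TwistFT
import Groth.Agent.H77.RelQC
import Groth.Agent.H77.RestrictFT
import Groth.Agent.H77.RelTildeGlue

set_option autoImplicit false
universe u
open CategoryTheory CategoryTheory.Limits AlgebraicGeometry Opposite TopologicalSpace
open scoped HomogeneousIdeal
noncomputable section
open Coherent

namespace Groth.Agent.S5747

/-- Let Y be a Noetherian scheme, 𝒮 a quasi-coherent positively graded O_Y-algebra of finite type
(generators of any positive degrees), p : X = Proj(𝒮) → Y its relative homogeneous spectrum with its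
charts over the affine opens, and n any integer. Then the homogeneous component O_X(n), given
through its chartwise identifications with the twisting modules O(n) on the Proj 𝒮(U), is a coherent
O_X-module (quasi-coherent of finite type; X is locally Noetherian). -/
theorem result {Y X : Scheme.{u}} [AlgebraicGeometry.IsNoetherian Y]
    (𝒮 : RelProj.QCGrAlg Y)
    (hft : ∀ (U : Y.Opens) (hU : IsAffineOpen U), (𝒮.str.app (op U)).hom.FiniteType)
    (p : X ⟶ Y)
    (chart : ∀ (U : Y.Opens) (hU : IsAffineOpen U), (((p ⁻¹ᵁ U : X.Opens) : Scheme.{u}) ≅ Proj (𝒮.deg U hU)))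
    (hP : RelProj.IsRelProj 𝒮 p chart) (n : ℤ) (L : X.Modules)
    (lam : ∀ (U : Y.Opens) (hU : IsAffineOpen U),
      L ⟶ (Scheme.Modules.pushforward (RelProj.emb p chart U hU)).obj (GrTwist.twist (𝒮.deg U hU) n))
    (hL : RelProj.IsRelTwist 𝒮 p chart n L lam) : Coh.IsCoh L := by
  haveI hLq : L.IsQuasicoherent :=
    Groth.Agent.H77.RelQC.relTwist_isQuasicoherent 𝒮 p chart n L lam hL
  refine ⟨hLq, ?_⟩
  refine Groth.Agent.H77.RestrictFT.isFiniteType_of_isOpenCover L _
    (Groth.Agent.H77.RelQC.isOpenCover_preimage_affine p) (fun U => ?_)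
  obtain ⟨U, hU⟩ := U
  obtain ⟨ι, _, x, δ, hx, hgen⟩ := Groth.Agent.H77.TwistFT.exists_gen_of_finiteType (𝒮.deg U hU)
    (𝒮.str.app (op U)).hom (fun r => 𝒮.str_mem U hU r) (hft U hU)
  have := Groth.Agent.H77.TwistQC.twist_isQuasicoherent (𝒮.deg U hU) n
  have hTft := Groth.Agent.H77.TwistFT.twist_isFiniteType (𝒮.deg U hU) x δ hx hgen n
  exact Groth.Agent.H77.RestrictFT.isFiniteType_restrict_ι (RelProj.emb p chart U hU) hTft
    (lam U hU)
    (fun W hW => hL.bijective U hU W
      (by rwa [Groth.Agent.H77.RelTildeGlue.opensRange_emb] at hW))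
    (p ⁻¹ᵁ U) (chart U hU) (Groth.Agent.H77.RelQC.chart_hom_emb 𝒮 p chart U hU)

end Groth.Agent.S5747
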