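import Groth.Statements.S5750
import Groth.Agent.H86.Serre.ClosedTwist

set_option autoImplicit false
universe u
open Coherent Groth.Agent.H86

namespace Groth.Agent.S5750

open AlgebraicGeometry CategoryTheory in
/-- Let A be an Artinian local ring, i : X → P^r_A a closed immersion compatible with the structure
morphisms to Spec A, F a coherent O_X-module and F(n) = F ⊗ i^* O(n). If a polynomial P over ℚ
satisfies P(n) = χ_A(F(n)) = Σ_{j ≤ r} (-1)^j length_A H^j(X, F(n)) for every integer n (the Hilbert
polynomial of F), then the leading coefficient of P is non-negative. -/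
theorem result (A : Type u) [CommRing A]
    [IsArtinianRing A] [IsLocalRing A] (r : ℕ) (X : Scheme.{u}) [X.Over (Spec (CommRingCat.of A))]
    (i : X ⟶ CohB1.ProjSpace r A) [IsClosedImmersion i]
    (hi : i ≫ CohB1.ProjSpace.toSpec r A = X ↘ Spec (CommRingCat.of A)) (F : X.Modules) (hF : Coh.IsCoh F)
    (P : Polynomial ℚ)
    (hP : ∀ n : ℤ, ((Finset.range (r + 1)).sum fun j => (-1 : ℚ) ^ j *
        ((Module.length A (Coh.HH X (CohB1.tensorMod F
          ((Scheme.Modules.pullback i).obj (Twist.twistProjSpace r A n))) j)).toNat : ℚ)) = P.eval (n : ℚ)) :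
    0 ≤ P.leadingCoeff := by
  obtain ⟨m₀, hm₀⟩ := Groth.Agent.H86.Serre.serre_vanishing_closed r A i F hF
  -- for large `n`, `P(n)` is a length, hence non-negative
  have hpos : ∀ n : ℤ, m₀ ≤ n → 0 ≤ P.eval (n : ℚ) := by
    intro n hn
    rw [← hP n, Finset.sum_range_succ']
    have hz : ∀ j ∈ Finset.range r, (-1 : ℚ) ^ (j + 1) *
        ((Module.length A (Coh.HH X (CohB1.tensorMod F
          ((Scheme.Modules.pullback i).obj (Twist.twistProjSpace r A n))) (j + 1))).toNat : ℚ) = 0 := by
      intro j _
      haveI := hm₀ n hn (j + 1) (Nat.succ_pos j)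
      rw [Module.length_eq_zero]
      simp
    rw [Finset.sum_eq_zero hz]
    simp
  by_contra hneg
  push Not at hneg
  by_cases hdeg : 0 < P.degree
  · have ht := Polynomial.tendsto_atBot_of_leadingCoeff_nonpos P hdeg hneg.le
    have ht2 : Filter.Tendsto (fun n : ℤ => P.eval (n : ℚ)) Filter.atTop Filter.atBot :=
      ht.comp tendsto_intCast_atTop_atTop
    have h1 := (ht2.eventually (Filter.eventually_lt_atBot (0 : ℚ))).and
      (Filter.eventually_ge_atTop m₀)
    obtain ⟨n, hn1, hn2⟩ := h1.exists
    exact absurd (hpos n hn2) (not_le.2 hn1)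
  · have hdeg' : P.degree ≤ 0 := not_lt.1 hdeg
    have hC := Polynomial.eq_C_of_degree_le_zero hdeg'
    have h2 := hpos m₀ le_rfl
    rw [hC, Polynomial.eval_C] at h2
    rw [hC, Polynomial.leadingCoeff_C] at hneg
    exact absurd h2 (not_le.2 hneg)

end Groth.Agent.S5750
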