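import Groth.Statements.S5752
import Groth.Agent.H9.Depth
import Mathlib.RingTheory.Regular.RegularSequence
import Mathlib.RingTheory.Nakayama

set_option autoImplicit false
universe u
open EGA41

namespace Groth.Agent.S5752


/-- Let A be a Noetherian local ring with maximal ideal m and M a finitely generated A-module. Then M
has depth 0 if and only if m is an associated prime of M, i.e. if and only if M contains a copy of
the residue field. (For M = 0 the depth is ⊤ and there are no associated primes.) -/
theorem result (A : Type u) [CommRing A] [IsLocalRing A]
    [IsNoetherianRing A] (M : Type u) [AddCommGroup M] [Module A M] [Module.Finite A M] :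
    LocCoh.depth A M = 0 ↔ IsLocalRing.maximalIdeal A ∈ associatedPrimes A M := by
  classical
  constructor
  · intro h0
    by_contra hm
    have h1 := Groth.Agent.H9.one_le_depth_of_maximalIdeal_notMem_associatedPrimes hm
    rw [h0] at h1
    exact absurd h1 (by decide)
  · intro hm
    have hass : IsAssociatedPrime (IsLocalRing.maximalIdeal A) M := hm
    obtain ⟨_, x, hx⟩ := isAssociatedPrime_iff.1 hass
    have hx0 : x ≠ 0 := by
      rintro rfl
      have : (1 : A) ∈ (⊥ : Submodule A M).colon {(0 : M)} := by
        rw [Submodule.mem_colon_singleton, smul_zero]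
        exact Submodule.zero_mem _
      rw [← hx] at this
      exact (IsLocalRing.maximalIdeal.isMaximal A).ne_top
        ((Ideal.eq_top_iff_one _).2 this)
    have hnt : Nontrivial M := ⟨⟨x, 0, hx0⟩⟩
    have hne : IsLocalRing.maximalIdeal A • (⊤ : Submodule A M) ≠ ⊤ := by
      intro h
      exact Submodule.top_ne_ideal_smul_of_le_jacobson_annihilator
        (IsLocalRing.maximalIdeal_le_jacobson _) h.symm
    unfold LocCoh.depth LocCoh.idealDepth
    rw [if_neg hne]
    apply le_antisymm _ zero_le
    apply iSup₂_le
    rintro rs ⟨hreg, hmem⟩
    cases rs with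
    | nil => simp
    | cons r rs =>
      exfalso
      have hr : r ∈ IsLocalRing.maximalIdeal A := hmem r (List.mem_cons_self)
      rw [hx, Submodule.mem_colon_singleton, Submodule.mem_bot] at hr
      have hreg1 : IsSMulRegular M r := ((RingTheory.Sequence.isWeaklyRegular_cons_iff M r rs).1 hreg).1
      exact hx0 (hreg1 (by change r • x = r • 0; rw [hr, smul_zero]))

end Groth.Agent.S5752
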