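import Groth.Statements.S5753
import Groth.Agent.H9.Depth
import Mathlib.RingTheory.LocalRing.ResidueField.Basic

set_option autoImplicit false
universe u
open EGA41

namespace Groth.Agent.S5753


/-- Let A be a Noetherian local ring with maximal ideal m and residue field k, and N a finitely
generated A-module. Then no element of m is N-regular (multiplication by it injective) if and only
if Hom_A(k, N) is nonzero. Applied to N = M/(x_1 M + ... + x_n M) for an M-regular sequence (x_i) in
m, this says that the sequence cannot be extended by an element of m if and only if Hom_A(k, M/(x_1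
M + ... + x_n M)) ≠ 0. (The published statement allows an arbitrary module; for the direct sum N of
the quotients of a two-dimensional regular local ring by all its height-one primes no element of m
is N-regular while Hom_A(k, N) = 0, and the published proof uses finiteness of the set of associated
primes, so N is taken finitely generated here.) -/
theorem result (A : Type u) [CommRing A]
    [IsLocalRing A] [IsNoetherianRing A] (N : Type u) [AddCommGroup N] [Module A N] [Module.Finite A N] :
    (∀ x ∈ IsLocalRing.maximalIdeal A, ¬ IsSMulRegular N x) ↔
      Nontrivial (IsLocalRing.ResidueField A →ₗ[A] N) := by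
  constructor
  · intro h
    have hm : IsLocalRing.maximalIdeal A ∈ associatedPrimes A N := by
      by_contra hm
      obtain ⟨r, hr, hreg⟩ :=
        Groth.Agent.H9.exists_isSMulRegular_mem_of_notMem_associatedPrimes _ hm
      exact h r hr hreg
    obtain ⟨_, x, hx⟩ := isAssociatedPrime_iff.1 hm
    have hx0 : x ≠ 0 := by
      rintro rfl
      have : (1 : A) ∈ (⊥ : Submodule A N).colon {(0 : N)} := by
        rw [Submodule.mem_colon_singleton, smul_zero]
        exact Submodule.zero_mem _
      rw [← hx] at this
      exact (IsLocalRing.maximalIdeal.isMaximal A).ne_top
        ((Ideal.eq_top_iff_one _).2 this)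
    have hle : IsLocalRing.maximalIdeal A ≤ LinearMap.ker (LinearMap.toSpanSingleton A N x) := by
      intro r hr
      rw [hx, Submodule.mem_colon_singleton, Submodule.mem_bot] at hr
      rw [LinearMap.mem_ker, LinearMap.toSpanSingleton_apply]
      exact hr
    let f : IsLocalRing.ResidueField A →ₗ[A] N :=
      Submodule.liftQ (IsLocalRing.maximalIdeal A) (LinearMap.toSpanSingleton A N x) hle
    have hf : f (IsLocalRing.residue A 1) = x := by
      change (LinearMap.toSpanSingleton A N x) 1 = x
      rw [LinearMap.toSpanSingleton_apply, one_smul]
    refine ⟨⟨f, 0, fun h0 => hx0 ?_⟩⟩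
    rw [← hf, h0, LinearMap.zero_apply]
  · rintro ⟨f, g, hfg⟩ r hr hreg
    have hne : f - g ≠ 0 := sub_ne_zero.2 hfg
    have h1 : (f - g) (IsLocalRing.residue A 1) ≠ 0 := by
      intro h0
      apply hne
      ext y
      obtain ⟨a, rfl⟩ := IsLocalRing.residue_surjective y
      have : IsLocalRing.residue A a = a • IsLocalRing.residue A 1 := by
        rw [Algebra.smul_def, map_one, mul_one]
        rfl
      rw [this, map_smul, h0, smul_zero, LinearMap.zero_apply]
    apply h1
    apply hreg
    change r • (f - g) (IsLocalRing.residue A 1) = r • 0
    rw [smul_zero, ← map_smul]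
    have : r • IsLocalRing.residue A 1 = 0 := by
      rw [Algebra.smul_def, map_one, mul_one]
      exact (IsLocalRing.residue_eq_zero_iff r).2 hr
    rw [this, map_zero]

end Groth.Agent.S5753
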