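import Groth.Statements.S5754
import Mathlib.RingTheory.Ideal.AssociatedPrime.Localization
import Mathlib.RingTheory.Support
import Mathlib.Algebra.Module.Torsion.Basic
import Mathlib.RingTheory.QuotSMulTop

set_option autoImplicit false
universe u
open EGA41

namespace Groth.Agent.S5754


/-- Let A be a Noetherian ring, M a finitely generated A-module and t an element of A which is
M-regular. For every associated prime p of M, every prime ideal minimal among those containing p +
tA is an associated prime of M/tM. -/
theorem result (A : Type u) [CommRing A]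
    [IsNoetherianRing A] (M : Type u) [AddCommGroup M] [Module A M] [Module.Finite A M] (t : A)
    (ht : IsSMulRegular M t) (p : Ideal A) (hp : p ∈ associatedPrimes A M) (q : Ideal A)
    (hq : q ∈ (p ⊔ Ideal.span {t}).minimalPrimes) : q ∈ associatedPrimes A (QuotSMulTop t M) := by
  classical
  obtain ⟨_, x₀, hx₀⟩ := isAssociatedPrime_iff.1 hp
  let N : Submodule A M := Submodule.torsionBySet A M (p : Set A)
  have hN : ∀ x : M, x ∈ N ↔ ∀ a ∈ p, a • x = 0 := fun x => by
    rw [Submodule.mem_torsionBySet_iff]
    exact ⟨fun h a ha => h ⟨a, ha⟩, fun h a => h a.1 a.2⟩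
  have hx₀N : x₀ ∈ N := (hN x₀).2 (fun a ha => by
    rw [hx₀, Submodule.mem_colon_singleton, Submodule.mem_bot] at ha
    exact ha)
  have hann : Module.annihilator A N = p := by
    apply le_antisymm
    · intro a ha
      have h1 := Module.mem_annihilator.1 ha ⟨x₀, hx₀N⟩
      have h2 : a • x₀ = 0 := congrArg Subtype.val h1
      rw [hx₀, Submodule.mem_colon_singleton, Submodule.mem_bot]
      exact h2
    · intro a ha
      rw [Module.mem_annihilator]
      intro n
      exact Subtype.ext ((hN n.1).1 n.2 a ha)
  have hinj : Function.Injective (QuotSMulTop.map t N.subtype) := by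
    rw [injective_iff_map_eq_zero]
    intro y hy
    obtain ⟨n, rfl⟩ := Submodule.Quotient.mk_surjective _ y
    change QuotSMulTop.map t N.subtype (Submodule.Quotient.mk n) = 0 at hy
    rw [QuotSMulTop.map_apply_mk, Submodule.Quotient.mk_eq_zero,
      Submodule.mem_smul_pointwise_iff_exists] at hy
    obtain ⟨m, -, hm⟩ := hy
    have hmN : m ∈ N := (hN m).2 (fun a ha => by
      apply ht
      change t • a • m = t • 0
      rw [smul_zero, smul_comm, hm]
      exact (hN _).1 n.2 a ha)
    rw [Submodule.Quotient.mk_eq_zero, Submodule.mem_smul_pointwise_iff_exists]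
    exact ⟨⟨m, hmN⟩, trivial, Subtype.ext hm⟩
  apply associatedPrimes.subset_of_injective hinj
  apply Module.associatedPrimes.minimalPrimes_annihilator_subset_associatedPrimes A
    (QuotSMulTop t N)
  have hiff : ∀ q' : Ideal A, q'.IsPrime →
      (Module.annihilator A (QuotSMulTop t N) ≤ q' ↔ p ⊔ Ideal.span {t} ≤ q') := by
    intro q' hq'
    have h1 := Module.mem_support_iff_of_finite (R := A) (M := QuotSMulTop t N)
      (p := ⟨q', hq'⟩)
    have h2 := Module.mem_support_iff_of_finite (R := A) (M := N) (p := ⟨q', hq'⟩)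
    rw [Module.support_quotSMulTop, Set.mem_inter_iff, h2, hann,
      PrimeSpectrum.mem_zeroLocus, Set.singleton_subset_iff] at h1
    rw [← h1, sup_le_iff, Ideal.span_singleton_le_iff_mem]
    rfl
  refine ⟨⟨hq.1.1, (hiff q hq.1.1).2 hq.1.2⟩, fun q' hq' hle => ?_⟩
  exact hq.2 ⟨hq'.1, (hiff q' hq'.1).1 hq'.2⟩ hle

end Groth.Agent.S5754
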