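import Groth.Statements.S5755
import Groth.Agent.S5752

set_option autoImplicit false
universe u
open EGA41

namespace Groth.Agent.S5755


/-- A reduced Noetherian local ring A has depth 0 if and only if A is a field. -/
theorem result (A : Type u) [CommRing A] [IsLocalRing A]
    [IsNoetherianRing A] [IsReduced A] : LocCoh.depth A A = 0 ↔ IsField A := by
  rw [Groth.Agent.S5752.result A A, IsLocalRing.isField_iff_maximalIdeal_eq]
  constructor
  · intro hm
    obtain ⟨_, x, hx⟩ := isAssociatedPrime_iff.1 hm
    have hx0 : x ≠ 0 := by
      rintro rfl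
      have : (1 : A) ∈ (⊥ : Submodule A A).colon {(0 : A)} := by
        rw [Submodule.mem_colon_singleton, smul_zero]
        exact Submodule.zero_mem _
      rw [← hx] at this
      exact (IsLocalRing.maximalIdeal.isMaximal A).ne_top
        ((Ideal.eq_top_iff_one _).2 this)
    by_cases hxm : x ∈ IsLocalRing.maximalIdeal A
    · exfalso
      have h2 := hxm
      rw [hx, Submodule.mem_colon_singleton, Submodule.mem_bot, smul_eq_mul] at h2
      have hnil : IsNilpotent x := ⟨2, by rw [pow_two]; exact h2⟩
      exact hx0 hnil.eq_zero
    · have hu : IsUnit x := by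
        by_contra hnu
        exact hxm ((IsLocalRing.mem_maximalIdeal x).2 hnu)
      rw [eq_bot_iff]
      intro r hr
      rw [hx, Submodule.mem_colon_singleton, Submodule.mem_bot, smul_eq_mul] at hr
      rw [Ideal.mem_bot]
      exact (hu.mul_left_eq_zero).1 hr
  · intro hm
    have hass : IsAssociatedPrime (IsLocalRing.maximalIdeal A) A := by
      rw [isAssociatedPrime_iff]
      refine ⟨(IsLocalRing.maximalIdeal.isMaximal A).isPrime, 1, ?_⟩
      ext r
      rw [hm, Submodule.mem_colon_singleton, Submodule.mem_bot, smul_eq_mul, mul_one,
        Ideal.mem_bot]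
    exact hass

end Groth.Agent.S5755
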