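import Groth.Statements.S5760
import Groth.Agent.H29.CM2

set_option autoImplicit false
universe u
open EGA41

namespace Groth.Agent.S5760

open Groth.Agent.H29.CML Groth.Agent.H29.DimL Groth.Agent.H15 RingTheory.Sequence IsLocalRing

/-- Let A be a Noetherian local ring, M a nonzero finitely generated Cohen-Macaulay A-module, p a prime
ideal in the support of M and r the integer dim(M) - dim(M/pM). Then there exists an M-regular
sequence x_1, ..., x_r of elements of p; for every such sequence, dim(M/(x_1 M + ... + x_r M)) =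
dim(M/pM) = dim(A/p), and p is a minimal element of the set of associated primes of M/(x_1 M + ... +
x_r M). -/
theorem result (A : Type u) [CommRing A]
    [IsLocalRing A] [IsNoetherianRing A] (M : Type u) [AddCommGroup M] [Module A M] [Module.Finite A M]
    (hM : LocCoh.IsCohenMacaulayModule A M) (p : PrimeSpectrum A) (hp : p ∈ Module.support A M) (r : ℕ)
    (hr : Module.supportDim A (M ⧸ (p.asIdeal • (⊤ : Submodule A M))) + r = Module.supportDim A M) :
    (∃ xs : List A, xs.length = r ∧ (∀ x ∈ xs, x ∈ p.asIdeal) ∧ RingTheory.Sequence.IsWeaklyRegular M xs) ∧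
      ∀ xs : List A, xs.length = r → (∀ x ∈ xs, x ∈ p.asIdeal) → RingTheory.Sequence.IsWeaklyRegular M xs →
        Module.supportDim A (M ⧸ (Ideal.ofList xs • (⊤ : Submodule A M))) =
            Module.supportDim A (M ⧸ (p.asIdeal • (⊤ : Submodule A M))) ∧
          Module.supportDim A (M ⧸ (p.asIdeal • (⊤ : Submodule A M))) = ringKrullDim (A ⧸ p.asIdeal) ∧
          p.asIdeal ∈ associatedPrimes A (M ⧸ (Ideal.ofList xs • (⊤ : Submodule A M))) ∧
          ∀ q ∈ associatedPrimes A (M ⧸ (Ideal.ofList xs • (⊤ : Submodule A M))), q ≤ p.asIdeal → q = p.asIdeal := by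
  have hMnt := nontrivial_of_isCM M hM
  obtain ⟨n, hn⟩ := exists_nat_supportDim_eq (A := A) M
  obtain ⟨hcm, hadd, xs0, hlen0, hmem0, hreg0⟩ := isCM_localization_aux n M hM hn p hp
  have hquot := supportDim_quotient_smul_top_eq M p hp
  have hle := ringKrullDim_quotient_le_supportDim M p hp
  have : Nontrivial (A ⧸ p.asIdeal) := Ideal.Quotient.nontrivial_iff.mpr p.2.ne_top
  obtain ⟨a, ha⟩ := exists_nat_eq (ringKrullDim (A ⧸ p.asIdeal))
    (ne_bot_of_le_ne_bot (by simp) ringKrullDim_nonneg_of_nontrivial)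
    (ne_top_of_le_ne_top (by rw [hn]; exact (WithBot.coe_lt_coe.mpr (ENat.natCast_lt_top n)).ne) hle)
  have hMp : Nontrivial (LocalizedModule p.asIdeal.primeCompl M) :=
    Module.mem_support_iff.mp hp
  obtain ⟨k, hk⟩ := exists_nat_supportDim_eq (A := Localization.AtPrime p.asIdeal)
    (LocalizedModule p.asIdeal.primeCompl M)
  rw [hquot, ha] at hr
  rw [hquot, ha, hk, hn] at hadd
  rw [hn] at hr
  have hr' : a + r = n := by exact_mod_cast hr
  have hadd' : n = a + k := by exact_mod_cast hadd
  have hkr : k = r := by omega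
  subst hkr
  refine ⟨⟨xs0, ?_, hmem0, hreg0⟩, ?_⟩
  · rw [hk] at hlen0
    exact_mod_cast hlen0
  intro xs hlen hmem hreg
  have hmemm : ∀ x ∈ xs, x ∈ maximalIdeal A := fun x hx =>
    IsLocalRing.le_maximalIdeal p.2.ne_top (hmem x hx)
  have hreg' : IsRegular M xs :=
    isRegular_of_isWeaklyRegular_of_mem (maximalIdeal A) M (smul_top_ne_top M) hreg hmemm
  have hdim := Module.supportDim_add_length_eq_supportDim_of_isRegular xs hreg'
  have hM'' := isCM_quotient_of_isWeaklyRegular xs M hM hmemm hreg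
  have hM''nt := nontrivial_of_isCM _ hM''
  obtain ⟨b, hb⟩ := exists_nat_supportDim_eq (A := A) (M ⧸ (Ideal.ofList xs • (⊤ : Submodule A M)))
  rw [hb, hn, hlen] at hdim
  have hdim' : b + k = n := by exact_mod_cast hdim
  have hba : b = a := by omega
  subst hba
  have hp'' : p ∈ Module.support A (M ⧸ (Ideal.ofList xs • (⊤ : Submodule A M))) := by
    rw [Module.support_quotient]
    refine ⟨hp, ?_⟩
    rw [PrimeSpectrum.mem_zeroLocus, Ideal.ofList, SetLike.coe_subset_coe, Ideal.span_le]
    exact fun x hx => hmem x hx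
  have hmin : ∀ q : PrimeSpectrum A,
      q ∈ Module.support A (M ⧸ (Ideal.ofList xs • (⊤ : Submodule A M))) → q ≤ p → q = p :=
    fun q hq hqp => eq_of_le_of_ringKrullDim_eq _ p b hb ha q hq hqp
  refine ⟨?_, ?_, ?_, ?_⟩
  · rw [hb, hquot, ha]
  · rw [hquot]
  · apply Module.associatedPrimes.minimalPrimes_annihilator_subset_associatedPrimes
    rw [Module.support_eq_zeroLocus] at hp''
    refine ⟨⟨p.2, hp''⟩, ?_⟩
    rintro q ⟨hqprime, hqann⟩ hqp
    have hq : (⟨q, hqprime⟩ : PrimeSpectrum A) ∈
        Module.support A (M ⧸ (Ideal.ofList xs • (⊤ : Submodule A M))) := by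
      rw [Module.support_eq_zeroLocus]
      exact hqann
    have := hmin ⟨q, hqprime⟩ hq hqp
    rw [← this]
  · intro q hq hqp
    have hqs := mem_support_of_mem_associatedPrimes _ q hq
    have := hmin ⟨q, hq.isPrime⟩ hqs hqp
    rw [← this]

end Groth.Agent.S5760
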