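import Groth.Statements.S5763
import Mathlib.RingTheory.Ideal.HasGoingUp

set_option autoImplicit false
universe u
open EGA41

namespace Groth.Agent.S5763


/-- Let ρ : A → B be a ring homomorphism making B an integral A-algebra. Then dim(B) ≤ dim(A), and if ρ
is injective then dim(B) = dim(A) (Krull dimensions). -/
theorem result (A B : Type u) [CommRing A] [CommRing B] [Algebra A B]
    [Algebra.IsIntegral A B] :
    ringKrullDim B ≤ ringKrullDim A ∧
      (Function.Injective (algebraMap A B) → ringKrullDim B = ringKrullDim A) := by
  constructor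
  · refine Order.krullDim_le_of_strictMono (PrimeSpectrum.comap (algebraMap A B)) ?_
    intro P Q hPQ
    exact Ideal.IsIntegral.comap_lt_comap (R := A) hPQ
  · intro hinj
    refine le_antisymm ?_ ?_
    · refine Order.krullDim_le_of_strictMono (PrimeSpectrum.comap (algebraMap A B)) ?_
      intro P Q hPQ
      exact Ideal.IsIntegral.comap_lt_comap (R := A) hPQ
    · unfold ringKrullDim Order.krullDim
      refine iSup_le fun l => ?_
      obtain ⟨Q, -, hQ, hQc⟩ := Ideal.exists_ideal_over_prime_of_isIntegral
        (S := B) l.head.asIdeal (⊥ : Ideal B) (by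
          rw [← RingHom.ker_eq_comap_bot, (RingHom.injective_iff_ker_eq_bot _).mp hinj]
          exact bot_le)
      haveI : Q.IsPrime := hQ
      haveI : Q.LiesOver l.head.asIdeal := ⟨hQc.symm⟩
      obtain ⟨L, hL, -, -⟩ := Ideal.exists_ltSeries_of_hasGoingUp (S := B) l Q
      rw [← hL]
      exact le_iSup (fun p : LTSeries (PrimeSpectrum B) => (p.length : WithBot ℕ∞)) L

end Groth.Agent.S5763
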