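import Groth.Statements.S5764
import Mathlib.RingTheory.IntegralClosure.GoingDown
import Mathlib.RingTheory.Ideal.GoingUp
import Mathlib.RingTheory.Ideal.GoingDown
import Mathlib.RingTheory.Ideal.Height
import Mathlib.RingTheory.Localization.AtPrime.Basic

set_option autoImplicit false
universe u
open EGA41

namespace Groth.Agent.S5764

open Ideal

/-- Let B be an integral domain, A a local subring of B which is integrally closed (in its field of
fractions), and suppose B is integral over A. Then dim(B_n) = dim(A) for every maximal ideal n of B. -/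
theorem result (A B : Type u) [CommRing A]
    [CommRing B] [IsDomain B] [Algebra A B] (hinj : Function.Injective (algebraMap A B)) [IsDomain A]
    [IsLocalRing A] [IsIntegrallyClosed A] [Algebra.IsIntegral A B] (n : Ideal B) [n.IsMaximal] :
    ringKrullDim (Localization.AtPrime n) = ringKrullDim A := by
  have hfs : FaithfulSMul A B := (faithfulSMul_iff_algebraMap_injective A B).mpr hinj
  have hn : n.comap (algebraMap A B) = IsLocalRing.maximalIdeal A :=
    IsLocalRing.eq_maximalIdeal (Ideal.isMaximal_comap_of_isIntegral_of_isMaximal n)
  rw [IsLocalization.AtPrime.ringKrullDim_eq_height n,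
    ← IsLocalRing.maximalIdeal_height_eq_ringKrullDim]
  congr 1
  let N : PrimeSpectrum B := ⟨n, inferInstance⟩
  let Mx : PrimeSpectrum A := ⟨IsLocalRing.maximalIdeal A, inferInstance⟩
  have hcomap : PrimeSpectrum.comap (algebraMap A B) N = Mx := PrimeSpectrum.ext hn
  have e1 : n.height = Order.height N := PrimeSpectrum.height_eq_orderHeight N
  have e2 : (IsLocalRing.maximalIdeal A).height = Order.height Mx :=
    PrimeSpectrum.height_eq_orderHeight Mx
  rw [e1, e2]
  apply le_antisymm
  · rw [← hcomap]
    refine Order.height_le_height_apply_of_strictMono _ ?_ N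
    intro p q hpq
    have h : p.asIdeal < q.asIdeal := hpq
    exact IsIntegral.comap_lt_comap (R := A) h
  · rw [Order.height_le_iff]
    intro l hl
    have hlo : n.LiesOver (IsLocalRing.maximalIdeal A) := ⟨hn.symm⟩
    have hl' : l.last.asIdeal ≤ IsLocalRing.maximalIdeal A := hl
    obtain ⟨Q, hQn, hQp, hQlo⟩ := Ideal.exists_ideal_le_liesOver_of_le
      (p := l.last.asIdeal) (q := IsLocalRing.maximalIdeal A) n hl'
    obtain ⟨L, hlen, hlast, -⟩ := Ideal.exists_ltSeries_of_hasGoingDown l Q
    rw [← hlen]
    refine Order.length_le_height ?_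
    rw [hlast]
    exact hQn

end Groth.Agent.S5764
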