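import Groth.Statements.S5767
import Groth.Agent.H29.DimL

set_option autoImplicit false
universe u
open EGA41

namespace Groth.Agent.S5767

open Groth.Agent.H29.DimL

theorem add_one_le_of_lt' {a b : WithBot ℕ∞} (n : ℕ) (hb : b ≤ n) (h : a < b) : a + 1 ≤ b := by
  induction a with
  | bot => simp
  | coe a =>
    induction b with
    | bot => exact absurd h (by simp)
    | coe b =>
      have hb' : b ≤ (n : ℕ∞) := by exact_mod_cast hb
      have h' : a < b := by exact_mod_cast h
      have : a + 1 ≤ b := Order.add_one_le_of_lt h'
      exact_mod_cast this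

theorem lt_add_one' {a : WithBot ℕ∞} (n : ℕ) (ha : a ≤ n) (h0 : a ≠ ⊥) : a < a + 1 := by
  induction a with
  | bot => exact absurd rfl h0
  | coe a =>
    have ha' : a ≤ (n : ℕ∞) := by exact_mod_cast ha
    have hat : a ≠ ⊤ := ne_top_of_le_ne_top (ENat.natCast_ne_top n) ha'
    have : a < a + 1 := ENat.lt_add_one_iff hat |>.mpr le_rfl
    exact_mod_cast this

/-- Let A be a semi-local Noetherian ring, M a finitely generated A-module and x an element of the
Jacobson radical of A. One always has dim(M/xM) ≥ dim(M) - 1; equality dim(M/xM) = dim(M) - 1 holds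
if and only if x belongs to none of the prime ideals p of Supp(M) with dim(A/p) = dim(M). Stated as:
dim(M/xM) + 1 = dim(M) iff x avoids those primes. -/
theorem result (A : Type u) [CommRing A] [IsNoetherianRing A]
    [Finite (MaximalSpectrum A)] (M : Type u) [AddCommGroup M] [Module A M] [Module.Finite A M] (x : A)
    (hx : x ∈ Ring.jacobson A) :
    Module.supportDim A (QuotSMulTop x M) + 1 = Module.supportDim A M ↔
      ∀ p : PrimeSpectrum A, p ∈ Module.support A M →
        ringKrullDim (A ⧸ p.asIdeal) = Module.supportDim A M → x ∉ p.asIdeal := by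
  obtain ⟨n, hn⟩ := exists_nat_supportDim_le (A := A) M
  have hx' : x ∈ (Module.annihilator A M).jacobson := by
    rw [← Ideal.jacobson_bot] at hx
    exact Ideal.jacobson_mono bot_le hx
  have hle := Module.supportDim_le_supportDim_quotSMulTop_succ_of_mem_jacobson (M := M) hx'
  have hsub : Module.support A (QuotSMulTop x M) = Module.support A M ∩ PrimeSpectrum.zeroLocus {x} :=
    Module.support_quotSMulTop x
  constructor
  · intro heq p hp hdim hxp
    have hp' : p ∈ Module.support A (QuotSMulTop x M) := by
      rw [hsub]
      exact ⟨hp, by simpa using hxp⟩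
    have h1 := ringKrullDim_quotient_le_supportDim (QuotSMulTop x M) p hp'
    rw [hdim, ← heq] at h1
    have hne : Module.supportDim A (QuotSMulTop x M) ≠ ⊥ := by
      rw [Module.supportDim_ne_bot_iff_nontrivial, ← Module.nonempty_support_iff (R := A)]
      exact ⟨p, hp'⟩
    have hQn : Module.supportDim A (QuotSMulTop x M) ≤ n :=
      (Module.supportDim_le_of_surjective _ (Submodule.mkQ_surjective _)).trans hn
    exact absurd h1 (not_le.mpr (lt_add_one' n hQn hne))
  · intro h
    refine le_antisymm ?_ hle
    by_cases hQ : Subsingleton (QuotSMulTop x M)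
    · rw [Module.supportDim_eq_bot_of_subsingleton]
      simp
    · rw [not_subsingleton_iff_nontrivial] at hQ
      have hQn : Module.supportDim A (QuotSMulTop x M) ≤ n :=
        (Module.supportDim_le_of_surjective _ (Submodule.mkQ_surjective _)).trans hn
      obtain ⟨q, hq, hqd⟩ := exists_mem_support_ringKrullDim_eq (QuotSMulTop x M) n hQn
      rw [hsub] at hq
      have hxq : x ∈ q.asIdeal := by simpa using hq.2
      have h1 := ringKrullDim_quotient_le_supportDim M q hq.1
      have h2 : ringKrullDim (A ⧸ q.asIdeal) ≠ Module.supportDim A M := fun he => h q hq.1 he hxq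
      rw [← hqd]
      exact add_one_le_of_lt' n hn (lt_of_le_of_ne h1 h2)

end Groth.Agent.S5767
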