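import Groth.Statements.S5768
import Groth.Agent.H29.DimL3

set_option autoImplicit false
universe u
open EGA41

namespace Groth.Agent.S5768

open Groth.Agent.H29.DimL

/-- Let A be a semi-local Noetherian ring with Jacobson radical r, M a nonzero finitely generated
A-module and x_1, ..., x_k elements of r. One always has dim(M/(x_1 M + ... + x_k M)) ≥ dim(M) - k,
and equality holds if and only if there exist further elements of r which together with the x_i form
a system of parameters for M (dim(M) elements of r modulo which M has finite length). -/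
theorem result (A : Type u) [CommRing A]
    [IsNoetherianRing A] [Finite (MaximalSpectrum A)] (M : Type u) [AddCommGroup M] [Module A M]
    [Module.Finite A M] [Nontrivial M] (xs : List A) (hxs : ∀ x ∈ xs, x ∈ Ring.jacobson A) :
    Module.supportDim A (M ⧸ (Ideal.ofList xs • (⊤ : Submodule A M))) + xs.length = Module.supportDim A M ↔
      ∃ ys : List A, (∀ y ∈ ys, y ∈ Ring.jacobson A) ∧
        ((xs ++ ys).length : WithBot ℕ∞) = Module.supportDim A M ∧
        IsFiniteLength A (M ⧸ (Ideal.ofList (xs ++ ys) • (⊤ : Submodule A M))) := by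
  obtain ⟨hnt, hG⟩ := supportDim_le_supportDim_quotient_add_length M xs hxs
  obtain ⟨n, hn⟩ := exists_nat_supportDim_le (A := A) M
  obtain ⟨d, hd⟩ := exists_nat_eq (Module.supportDim A M)
    (Module.supportDim_ne_bot_of_nontrivial A _)
    (ne_top_of_le_ne_top (WithBot.coe_lt_coe.mpr (ENat.natCast_lt_top n)).ne hn)
  obtain ⟨n', hn'⟩ := exists_nat_supportDim_le (A := A)
    (M ⧸ (Ideal.ofList xs • ⊤ : Submodule A M))
  obtain ⟨d', hd'⟩ := exists_nat_eq
    (Module.supportDim A (M ⧸ (Ideal.ofList xs • ⊤ : Submodule A M)))
    (Module.supportDim_ne_bot_of_nontrivial A _)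
    (ne_top_of_le_ne_top (WithBot.coe_lt_coe.mpr (ENat.natCast_lt_top n')).ne hn')
  rw [hd, hd'] at hG ⊢
  have hG' : d ≤ d' + xs.length := by exact_mod_cast hG
  constructor
  · intro heq
    have heq' : d' + xs.length = d := by exact_mod_cast heq
    obtain ⟨ys, hys, hysj, hfl⟩ := exists_list_parameters d' _ hd'.le
    have hfl' : IsFiniteLength A (M ⧸ (Ideal.ofList (xs ++ ys) • ⊤ : Submodule A M)) := by
      rw [Ideal.ofList_append]
      exact (quotQuotSMulEquiv M (Ideal.ofList xs) (Ideal.ofList ys)).isFiniteLength hfl
    have h2 := supportDim_le_length_of_isFiniteLength M (xs ++ ys) (by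
      intro x hx
      rcases List.mem_append.mp hx with h | h
      · exact hxs x h
      · exact hysj x h) hfl'
    rw [hd] at h2
    have h2' : d ≤ (xs ++ ys).length := by exact_mod_cast h2
    rw [List.length_append] at h2'
    refine ⟨ys, hysj, ?_, hfl'⟩
    rw [List.length_append]
    have : xs.length + ys.length = d := by omega
    exact_mod_cast this
  · rintro ⟨ys, hysj, hlen, hfl⟩
    have hlen' : (xs ++ ys).length = d := by exact_mod_cast hlen
    rw [List.length_append] at hlen'
    have hfl' : IsFiniteLength A ((M ⧸ (Ideal.ofList xs • ⊤ : Submodule A M)) ⧸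
        (Ideal.ofList ys • ⊤ : Submodule A (M ⧸ (Ideal.ofList xs • ⊤ : Submodule A M)))) := by
      rw [Ideal.ofList_append] at hfl
      exact (quotQuotSMulEquiv M (Ideal.ofList xs) (Ideal.ofList ys)).symm.isFiniteLength hfl
    have h2 := supportDim_le_length_of_isFiniteLength _ ys hysj hfl'
    rw [hd'] at h2
    have h2' : d' ≤ ys.length := by exact_mod_cast h2
    have : d' + xs.length = d := by omega
    exact_mod_cast this

end Groth.Agent.S5768
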