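import Groth.Statements.S5801

set_option autoImplicit false
universe u
open scoped Pointwise
open EGA41

namespace Groth.Agent.S5801

theorem regular_imp {A : Type u} [CommRing A] {M : Type u} [AddCommGroup M] [Module A M] (f : A)
    (hf : IsSMulRegular M f) (k : ℕ) (x : M)
    (h : f ^ k • x ∈ f ^ (k + 1) • (⊤ : Submodule A M)) : x ∈ f • (⊤ : Submodule A M) := by
  rw [Submodule.mem_smul_pointwise_iff_exists] at h ⊢
  obtain ⟨y, -, hy⟩ := h
  refine ⟨y, trivial, ?_⟩
  have hk : IsSMulRegular M (f ^ k) := hf.pow k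
  apply hk
  simp only
  rw [← hy, pow_succ, mul_smul]

theorem mem_pow_of_smul_eq_zero {A : Type u} [CommRing A] {M : Type u} [AddCommGroup M] [Module A M]
    (f : A)
    (h : ∀ (k : ℕ) (x : M), f ^ k • x ∈ f ^ (k + 1) • (⊤ : Submodule A M) →
      x ∈ f • (⊤ : Submodule A M)) (x : M) (hx : f • x = 0) (k : ℕ) :
    x ∈ f ^ k • (⊤ : Submodule A M) := by
  induction k with
  | zero => simp
  | succ k ih =>
    rw [Submodule.mem_smul_pointwise_iff_exists] at ih
    obtain ⟨y, -, hy⟩ := ih
    have h1 : f ^ (k + 1) • y ∈ f ^ (k + 1 + 1) • (⊤ : Submodule A M) := by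
      have : f ^ (k + 1) • y = 0 := by
        rw [pow_succ', mul_smul, hy, hx]
      rw [this]; exact Submodule.zero_mem _
    have h2 := h (k + 1) y h1
    rw [Submodule.mem_smul_pointwise_iff_exists] at h2 ⊢
    obtain ⟨z, -, hz⟩ := h2
    refine ⟨z, trivial, ?_⟩
    rw [pow_succ, mul_smul, hz, hy]

theorem regular_of_sep {A : Type u} [CommRing A] {M : Type u} [AddCommGroup M] [Module A M] (f : A)
    (hsep : (⨅ k : ℕ, f ^ k • (⊤ : Submodule A M)) = ⊥)
    (h : ∀ (k : ℕ) (x : M), f ^ k • x ∈ f ^ (k + 1) • (⊤ : Submodule A M) →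
      x ∈ f • (⊤ : Submodule A M)) : IsSMulRegular M f := by
  rw [isSMulRegular_iff_right_eq_zero_of_smul]
  intro x hx
  have : x ∈ (⨅ k : ℕ, f ^ k • (⊤ : Submodule A M)) := by
    rw [Submodule.mem_iInf]; exact mem_pow_of_smul_eq_zero f h x hx
  rw [hsep] at this
  simpa using this


/-- Let A be a ring, M an A-module and f ∈ A, and consider the canonical surjection (M/fM)[T] → gr(M)
for the (f)-adic filtration, whose injectivity says: for all k ≥ 0 and x ∈ M, f^k x ∈ f^(k+1) M
implies x ∈ fM. If f is M-regular this map is bijective; conversely, if it is bijective and M is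
separated for the (f)-adic topology (the intersection of the f^k M is zero), then f is M-regular. -/
theorem result (A : Type u) [CommRing A] (M : Type u)
    [AddCommGroup M] [Module A M] (f : A) :
    (IsSMulRegular M f →
        ∀ (k : ℕ) (x : M), f ^ k • x ∈ f ^ (k + 1) • (⊤ : Submodule A M) → x ∈ f • (⊤ : Submodule A M)) ∧
      ((⨅ k : ℕ, f ^ k • (⊤ : Submodule A M)) = ⊥ →
        (∀ (k : ℕ) (x : M), f ^ k • x ∈ f ^ (k + 1) • (⊤ : Submodule A M) → x ∈ f • (⊤ : Submodule A M)) →
          IsSMulRegular M f) := by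
  exact ⟨fun hf k x h => regular_imp f hf k x h, fun hsep h => regular_of_sep f hsep h⟩

end Groth.Agent.S5801
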