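import Groth.Statements.S5772
import Groth.Agent.S5801
import Mathlib.RingTheory.Filtration

set_option autoImplicit false
universe u
open scoped Pointwise
open EGA41

namespace Groth.Agent.S5772


/-- Let A be a Noetherian ring, M a finitely generated A-module and f an element of A. Then f is
M-regular (multiplication by f on M is injective) if and only if f is M-quasi-regular, i.e. the
canonical surjection (M/fM)[T] → gr(M) for the (f)-adic filtration is bijective, which amounts to:
for every k ≥ 0 and x ∈ M, f^k x ∈ f^(k+1) M implies x ∈ fM. -/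
theorem result (A : Type u) [CommRing A] [IsNoetherianRing A] (M : Type u)
    [AddCommGroup M] [Module A M] [Module.Finite A M] (f : A) :
    IsSMulRegular M f ↔
      ∀ (k : ℕ) (x : M), f ^ k • x ∈ f ^ (k + 1) • (⊤ : Submodule A M) → x ∈ f • (⊤ : Submodule A M) := by
  constructor
  · intro hf k x h
    exact Groth.Agent.S5801.regular_imp f hf k x h
  · intro h
    rw [isSMulRegular_iff_right_eq_zero_of_smul]
    intro x hx
    have hmem : x ∈ (⨅ i : ℕ, (Ideal.span {f}) ^ i • ⊤ : Submodule A M) := by
      rw [Submodule.mem_iInf]
      intro k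
      rw [Ideal.span_singleton_pow, Submodule.ideal_span_singleton_smul]
      exact Groth.Agent.S5801.mem_pow_of_smul_eq_zero f h x hx k
    obtain ⟨⟨r, hr⟩, hrx⟩ := (Ideal.mem_iInf_smul_pow_eq_bot_iff (Ideal.span {f}) x).mp hmem
    obtain ⟨a, rfl⟩ := Ideal.mem_span_singleton'.mp hr
    simp only at hrx
    rw [← hrx, mul_smul, hx, smul_zero]

end Groth.Agent.S5772
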