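import Groth.Statements.S5778
import Groth.Agent.S8163
import Groth.Agent.H17.HS.Limit

set_option autoImplicit false
universe u
open EGA41

namespace Groth.Agent.S5778

/-- Let A be a Noetherian local ring with maximal ideal m, residue field k, and let r be the dimension
of the k-vector space m/m². Then A is regular if and only if the canonical surjection of graded
k-algebras from the symmetric algebra of m/m² onto the associated graded ring of A for the m-adic
filtration is bijective. Since that surjection is bijective exactly when source and target have the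
same length in every degree, the condition is expressed here as: length_A(A/m^(s+1)) equals the
binomial coefficient C(s+r, r) for every s ≥ 0. -/
theorem result (A : Type u) [CommRing A] [IsLocalRing A]
    [IsNoetherianRing A] :
    IsRegularLocalRing A ↔
      ∀ s : ℕ, Module.length A (A ⧸ IsLocalRing.maximalIdeal A ^ (s + 1)) =
        ((s + Module.finrank (IsLocalRing.ResidueField A) (IsLocalRing.CotangentSpace A)).choose s : ℕ∞) := by
  classical
  set r := Module.finrank (IsLocalRing.ResidueField A) (IsLocalRing.CotangentSpace A) with hr
  constructor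
  · intro hreg s
    have hd : ringKrullDim A = (r : WithBot ℕ∞) :=
      ((IsRegularLocalRing.iff_finrank_cotangentSpace A).1 hreg).symm
    have h := Groth.Agent.S8163.result A r hd (s + 1) (Nat.le_add_left 1 s)
    rw [h]
    have e1 : s + 1 + r - 1 = s + r := by omega
    rw [e1, Nat.choose_symm_add]
  · intro h
    have := Groth.Agent.H17.HS.finite_maximalSpectrum_of_isLocalRing A
    -- the dimension is a natural number
    have hle : ringKrullDim A ≤ (r : WithBot ℕ∞) := by
      have := ringKrullDim_le_spanFinrank_maximalIdeal A
      rwa [IsLocalRing.spanFinrank_maximalIdeal_eq_finrank_cotangentSpace] at this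
    obtain ⟨d, hd⟩ : ∃ d : ℕ, ringKrullDim A = (d : WithBot ℕ∞) := by
      have h0 : (0 : WithBot ℕ∞) ≤ ringKrullDim A := ringKrullDim_nonneg_of_nontrivial
      obtain ⟨a, ha⟩ := WithBot.ne_bot_iff_exists.1 (ne_of_gt (lt_of_lt_of_le (WithBot.bot_lt_coe 0) h0))
      rw [← ha] at hle
      have hle' : a ≤ (r : ℕ∞) := by exact_mod_cast hle
      have hne : a ≠ ⊤ := ne_top_of_le_ne_top (ENat.natCast_ne_top r) hle'
      lift a to ℕ using hne
      exact ⟨a, ha.symm⟩
    -- the explicit Samuel polynomial
    set P : Polynomial ℚ := Polynomial.C ((r.factorial : ℚ)⁻¹) * ascPochhammer ℚ r with hP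
    have hfac : (r.factorial : ℚ) ≠ 0 := by exact_mod_cast r.factorial_ne_zero
    have hPdeg : P.natDegree = r := by
      rw [hP, Polynomial.natDegree_C_mul (inv_ne_zero hfac), ascPochhammer_natDegree]
    have hPs : Groth.Agent.H17.HS.IsSamuelPoly A A P := by
      refine ⟨1, fun n hn => ?_⟩
      obtain ⟨s, rfl⟩ : ∃ s, n = s + 1 := ⟨n - 1, by omega⟩
      have hlen : Module.length A (A ⧸ (Ring.jacobson A ^ (s + 1) • ⊤ : Submodule A A)) =
          ((s + r).choose s : ℕ∞) := by
        rw [← h s, Groth.Agent.H17.HS.jacobson_eq_maximalIdeal_of_isLocalRing]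
        refine (Submodule.quotEquivOfEq _ _ ?_).length_eq
        rw [smul_eq_mul, Ideal.mul_top]
      have hsam : Groth.Agent.H17.HS.samuel A A (s + 1) = (s + r).choose s := by
        unfold Groth.Agent.H17.HS.samuel
        rw [hlen]
        rfl
      rw [hsam, hP, Polynomial.eval_mul, Polynomial.eval_C]
      have := ascPochhammer_nat_eq_natCast_ascFactorial ℚ (s + 1) r
      rw [this, Nat.ascFactorial_eq_factorial_mul_choose']
      have e1 : s + 1 + r - 1 = s + r := by omega
      rw [e1, ← Nat.choose_symm_add]
      push_cast
      field_simp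
    have hsd : Module.supportDim A A = (d : WithBot ℕ∞) := by
      rw [Module.supportDim_self_eq_ringKrullDim, hd]
    have hdeg := Groth.Agent.H17.HS.natDegree_eq_of_supportDim_eq A P hPs d hsd
    rw [IsRegularLocalRing.iff_finrank_cotangentSpace, hd, ← hr, ← hPdeg, hdeg]

end Groth.Agent.S5778
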