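import Groth.Statements.S5779
import Groth.Agent.H46.RegularSeqIndep
import Groth.Agent.Lead.RegularGlDim
import Groth.Agent.H29.DimL3

set_option autoImplicit false
universe u
open EGA41

namespace Groth.Agent.S5779

open IsLocalRing RingTheory.Sequence Groth.Agent.Lead.RLR

theorem indepModSq_of_linearIndependent (A : Type u) [CommRing A] [IsLocalRing A] (r : ℕ)
    (x : Fin r → maximalIdeal A)
    (h : LinearIndependent (ResidueField A) (fun i => (maximalIdeal A).toCotangent (x i))) :
    Groth.Agent.H46.IndepModSq (fun i => (x i : A)) := by
  intro c hc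
  rw [Fintype.linearIndependent_iff] at h
  have h1 : ∑ i, residue A (c i) • (maximalIdeal A).toCotangent (x i) = 0 := by
    have h2 : (maximalIdeal A).toCotangent (∑ i, c i • x i) = 0 := by
      rw [Ideal.toCotangent_eq_zero]
      simpa [Submodule.coe_sum] using hc
    rw [map_sum] at h2
    rw [← h2]
    refine Finset.sum_congr rfl fun i _ => ?_
    rw [map_smul]
    rfl
  intro j
  have := h _ h1 j
  exact (residue_eq_zero_iff _).mp this

theorem regular_of_quotient (A : Type u) [CommRing A] [IsLocalRing A] [IsNoetherianRing A] (r : ℕ)
    (x : Fin r → maximalIdeal A)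
    (hdim : ringKrullDim (A ⧸ Ideal.span (Set.range fun i => (x i : A))) + r = ringKrullDim A)
    (hreg : IsRegularLocalRing (A ⧸ Ideal.span (Set.range fun i => (x i : A)))) :
    IsRegularLocalRing A ∧
      LinearIndependent (ResidueField A) (fun i => (maximalIdeal A).toCotangent (x i)) := by
  classical
  set J := Ideal.span (Set.range fun i => (x i : A)) with hJ
  obtain ⟨d', hd', -⟩ := exists_ringKrullDim_eq (A ⧸ J)
  obtain ⟨ybar, hybar⟩ := exists_fin_span_eq (A ⧸ J) d' hd'
  choose y hy using fun j => Ideal.Quotient.mk_surjective (ybar j)
  have hs : Ideal.span ((Ideal.Quotient.mk J) '' (Set.range y)) = maximalIdeal (A ⧸ J) := by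
    rw [← hybar, ← Set.range_comp]
    congr 2
    funext j
    exact hy j
  have hm := maximalIdeal_eq_span_sup A J (Set.range y) hs
  have hymem : ∀ j, y j ∈ maximalIdeal A := fun j => by
    rw [hm]
    exact Ideal.mem_sup_left (Ideal.subset_span ⟨j, rfl⟩)
  let z : Fin (r + d') → maximalIdeal A := Fin.append x (fun j => ⟨y j, hymem j⟩)
  have hzspan : Ideal.span (Set.range fun i => (z i : A)) = maximalIdeal A := by
    refine Eq.trans ?_ hm.symm
    rw [hJ, sup_comm, ← Ideal.span_union]
    congr 1
    ext a
    simp only [Set.mem_range, Set.mem_union]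
    constructor
    · rintro ⟨i, rfl⟩
      refine Fin.addCases (fun i => ?_) (fun j => ?_) i
      · left
        exact ⟨i, by simp [z]⟩
      · right
        exact ⟨j, by simp [z]⟩
    · rintro (⟨i, rfl⟩ | ⟨j, rfl⟩)
      · exact ⟨Fin.castAdd d' i, by simp [z]⟩
      · exact ⟨Fin.natAdd r j, by simp [z]⟩
  have hdA : ringKrullDim A = ((d' + r : ℕ) : WithBot ℕ∞) := by
    rw [← hdim, hd']
    rfl
  have hle : ((maximalIdeal A).spanFinrank : WithBot ℕ∞) ≤ ringKrullDim A := by
    rw [hdA, ← hzspan]
    have h1 : (Ideal.span (Set.range fun i => (z i : A))).spanFinrank ≤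
        (Set.range fun i => (z i : A)).ncard :=
      Submodule.spanFinrank_span_le_ncard_of_finite (R := A)
        (Set.finite_range fun i => (z i : A))
    have h2 : (Set.range fun i => (z i : A)).ncard ≤ r + d' := by
      have := Set.ncard_image_le (f := fun i => (z i : A)) (Set.finite_univ (α := Fin (r + d')))
      rw [Set.image_univ, Set.ncard_univ, Nat.card_eq_fintype_card, Fintype.card_fin] at this
      exact this
    have : (Ideal.span (Set.range fun i => (z i : A))).spanFinrank ≤ d' + r := by
      have := h1.trans h2
      omega
    exact_mod_cast this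
  have hregA : IsRegularLocalRing A := IsRegularLocalRing.of_spanFinrank_maximalIdeal_le A hle
  refine ⟨hregA, ?_⟩
  have hfin : Module.finrank (ResidueField A) (CotangentSpace A) = r + d' := by
    have := (IsRegularLocalRing.iff_finrank_cotangentSpace A).mp hregA
    rw [hdA] at this
    have h' : Module.finrank (ResidueField A) (CotangentSpace A) = d' + r := by exact_mod_cast this
    omega
  have hspanz : Submodule.span A (Set.range z) = ⊤ := by
    apply Submodule.map_injective_of_injective (Submodule.injective_subtype (maximalIdeal A))
    rw [Submodule.map_span, Submodule.map_top, Submodule.range_subtype, ← Set.range_comp]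
    exact hzspan
  have hspan : ⊤ ≤ Submodule.span (ResidueField A)
      (Set.range fun i => (maximalIdeal A).toCotangent (z i)) := by
    rw [Set.range_comp' , CotangentSpace.span_image_eq_top_iff.mpr hspanz]
  have hli : LinearIndependent (ResidueField A) (fun i => (maximalIdeal A).toCotangent (z i)) :=
    linearIndependent_of_top_le_span_of_card_eq_finrank hspan (by rw [Fintype.card_fin, hfin])
  have := hli.comp (Fin.castAdd d') (Fin.castAdd_injective r d')
  convert this using 2
  simp [z]

/-- Let A be a Noetherian local ring with maximal ideal m and residue field k, (x_i)_{1 ≤ i ≤ r}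
elements of m and J = x_1 A + ... + x_r A. Then A is regular with the classes of the x_i in m/m²
linearly independent over k (equivalently: the x_i are part of a regular system of parameters) if
and only if the x_i are part of a system of parameters of A (dim(A/J) = dim(A) - r) and A/J is
regular. When these conditions hold, J is a prime ideal. -/
theorem result (A : Type u) [CommRing A] [IsLocalRing A]
    [IsNoetherianRing A] (r : ℕ) (x : Fin r → IsLocalRing.maximalIdeal A) :
    ((IsRegularLocalRing A ∧
        LinearIndependent (IsLocalRing.ResidueField A)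
          (fun i => (IsLocalRing.maximalIdeal A).toCotangent (x i))) ↔
      (ringKrullDim (A ⧸ Ideal.span (Set.range fun i => (x i : A))) + r = ringKrullDim A ∧
        IsRegularLocalRing (A ⧸ Ideal.span (Set.range fun i => (x i : A))))) ∧
    (IsRegularLocalRing (A ⧸ Ideal.span (Set.range fun i => (x i : A))) →
      ringKrullDim (A ⧸ Ideal.span (Set.range fun i => (x i : A))) + r = ringKrullDim A →
        (Ideal.span (Set.range fun i => (x i : A))).IsPrime) := by
  refine ⟨⟨?_, ?_⟩, ?_⟩
  · rintro ⟨hreg, hli⟩
    have hind := indepModSq_of_linearIndependent A r x hli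
    obtain ⟨h1, h2⟩ := Groth.Agent.H46.regular_of_indepModSq r A (fun i => (x i : A))
      (fun i => (x i).2) hind
    refine ⟨?_, h1⟩
    have h3 := Module.supportDim_add_length_eq_supportDim_of_isRegular (List.ofFn fun i => (x i : A)) h2
    rw [Module.supportDim_self_eq_ringKrullDim, List.length_ofFn,
      Groth.Agent.H29.DimL.ofList_ofFn] at h3
    rw [← h3]
    congr 1
    have : (Ideal.span (Set.range fun i => (x i : A)) • ⊤ : Submodule A A) =
        Ideal.span (Set.range fun i => (x i : A)) := by simp
    rw [this, Module.supportDim_quotient_eq_ringKrullDim]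
  · rintro ⟨hdim, hreg⟩
    exact regular_of_quotient A r x hdim hreg
  · intro hreg _
    have := Groth.Agent.Lead.RLR.isDomain (A ⧸ Ideal.span (Set.range fun i => (x i : A)))
    exact (Ideal.Quotient.isDomain_iff_prime _).mp this

end Groth.Agent.S5779
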