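import Groth.Statements.S5780
import Mathlib.RingTheory.Ideal.AssociatedPrime.Finiteness
import Mathlib.RingTheory.Nakayama

set_option autoImplicit false
universe u
open EGA41

namespace Groth.Agent.S5780


/-- Let A be a Noetherian local ring with maximal ideal m. If every element of m which is not in m² is a
zero divisor in A, then there is a nonzero c in A with c m = 0, i.e. m is an associated prime of A. -/
theorem result (A : Type u) [CommRing A]
    [IsLocalRing A] [IsNoetherianRing A]
    (h : ∀ a ∈ IsLocalRing.maximalIdeal A, a ∉ IsLocalRing.maximalIdeal A ^ 2 → ¬ IsSMulRegular A a) :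
    IsLocalRing.maximalIdeal A ∈ associatedPrimes A A := by
  classical
  have hfin : (associatedPrimes A A).Finite := associatedPrimes.finite A A
  set m := IsLocalRing.maximalIdeal A with hm
  have hsub : (m : Set A) ⊆ ⋃ p ∈ ((insert (m ^ 2) hfin.toFinset : Finset (Ideal A)) : Set (Ideal A)),
      ((id p : Ideal A) : Set A) := by
    intro r hr
    by_cases hr2 : r ∈ m ^ 2
    · simp only [Finset.coe_insert, Set.mem_insert_iff, id, Set.iUnion_iUnion_eq_or_left,
        Set.mem_union]
      exact Or.inl hr2
    · have h1 := h r hr hr2
      have h2 : r ∈ ⋃ p ∈ associatedPrimes A A, (p : Set A) := by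
        rw [biUnion_associatedPrimes_eq_zero_divisors]
        rw [isSMulRegular_iff_right_eq_zero_of_smul] at h1
        push Not at h1
        obtain ⟨x, hx1, hx2⟩ := h1
        exact ⟨x, hx2, hx1⟩
      simp only [Set.mem_iUnion] at h2
      obtain ⟨p, hp, hrp⟩ := h2
      simp only [Finset.coe_insert, Set.mem_insert_iff, id, Set.iUnion_iUnion_eq_or_left,
        Set.mem_union, Set.mem_iUnion]
      exact Or.inr ⟨p, by simpa using hp, hrp⟩
  rw [Ideal.subset_union_prime (f := id) (m ^ 2) (m ^ 2) (fun p hp hne _ => by
    have : p ∈ associatedPrimes A A := by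
      rcases Finset.mem_insert.mp hp with h | h
      · exact absurd h hne
      · simpa using h
    exact this.isPrime)] at hsub
  obtain ⟨p, hp, hIp⟩ := hsub
  rcases Finset.mem_insert.mp hp with h | h
  · subst h
    have hbot : m = ⊥ := by
      apply Submodule.eq_bot_of_le_smul_of_le_jacobson_bot m m (IsNoetherian.noetherian m)
      · rw [smul_eq_mul, ← pow_two]; exact hIp
      · exact IsLocalRing.maximalIdeal_le_jacobson _
    rw [AssociatedPrimes.mem_iff, isAssociatedPrime_iff]
    refine ⟨inferInstance, 1, ?_⟩
    rw [hbot]
    ext a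
    simp [Submodule.mem_colon_singleton]
  · have hp' : p ∈ associatedPrimes A A := by simpa using h
    have := (IsLocalRing.maximalIdeal.isMaximal A).eq_of_le hp'.isPrime.ne_top hIp
    rw [hm, this]
    exact hp'

end Groth.Agent.S5780
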