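import Groth.Statements.S5781
import Mathlib.RingTheory.Ideal.Cotangent
import Mathlib.LinearAlgebra.Isomorphisms
import Mathlib.RingTheory.QuotSMulTop

set_option autoImplicit false
universe u
open EGA41

namespace Groth.Agent.S5781

open Pointwise
open IsLocalRing Pointwise in
theorem exists_compl (A : Type u) [CommRing A] [IsLocalRing A]
    (a : A) (ha : a ∈ maximalIdeal A) (ha2 : a ∉ maximalIdeal A ^ 2) :
    ∃ b : Submodule A ↥(maximalIdeal A),
      (⊤ : Submodule A ↥(maximalIdeal A)) ≤ Submodule.span A {(⟨a, ha⟩ : ↥(maximalIdeal A))} ⊔ b ∧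
      ∀ y ∈ b, y ∈ Submodule.span A {(⟨a, ha⟩ : ↥(maximalIdeal A))} →
        y ∈ (a • (⊤ : Submodule A ↥(maximalIdeal A))) := by
  classical
  set m := maximalIdeal A with hm
  let abar : CotangentSpace A := m.toCotangent ⟨a, ha⟩
  have habar : abar ≠ 0 := by
    intro h0
    exact ha2 ((m.toCotangent_eq_zero ⟨a, ha⟩).mp h0)
  obtain ⟨W, hW⟩ := Submodule.exists_isCompl (Submodule.span (ResidueField A) {abar})
  refine ⟨(W.restrictScalars A).comap m.toCotangent, ?_, ?_⟩
  · rintro x -
    have hx : m.toCotangent x ∈ Submodule.span (ResidueField A) {abar} ⊔ W := by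
      rw [hW.sup_eq_top]; exact Submodule.mem_top
    obtain ⟨y, hy, w, hw, hyw⟩ := Submodule.mem_sup.mp hx
    obtain ⟨cbar, rfl⟩ := Submodule.mem_span_singleton.mp hy
    obtain ⟨c, rfl⟩ := residue_surjective cbar
    rw [Submodule.mem_sup]
    refine ⟨c • ⟨a, ha⟩, Submodule.smul_mem _ _ (Submodule.mem_span_singleton_self _),
      x - c • ⟨a, ha⟩, ?_, by abel⟩
    rw [Submodule.mem_comap, Submodule.restrictScalars_mem, map_sub, map_smul, ← hyw]
    have : residue A c • abar = c • abar := by
      rw [← ResidueField.algebraMap_eq, algebraMap_smul]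
    rw [this, add_sub_cancel_left]
    exact hw
  · intro y hyb hya
    obtain ⟨c, rfl⟩ := Submodule.mem_span_singleton.mp hya
    rw [Submodule.mem_comap, Submodule.restrictScalars_mem, map_smul] at hyb
    have h1 : c • abar ∈ Submodule.span (ResidueField A) {abar} := by
      have : residue A c • abar = c • abar := by
        rw [← ResidueField.algebraMap_eq, algebraMap_smul]
      rw [← this]
      exact Submodule.smul_mem _ _ (Submodule.mem_span_singleton_self _)
    have h2 : c • abar = 0 := by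
      have := hW.inf_eq_bot
      have h3 : c • abar ∈ Submodule.span (ResidueField A) {abar} ⊓ W := ⟨h1, hyb⟩
      rw [this] at h3
      simpa using h3
    have h4 : residue A c • abar = 0 := by
      rw [← ResidueField.algebraMap_eq, algebraMap_smul]; exact h2
    have h5 : residue A c = 0 := (smul_eq_zero.mp h4).resolve_right habar
    have hc : c ∈ m := (residue_eq_zero_iff c).mp h5
    have : c • (⟨a, ha⟩ : ↥m) = a • (⟨c, hc⟩ : ↥m) := by
      ext
      simp [mul_comm]
    rw [this]
    exact Submodule.smul_mem_pointwise_smul _ _ _ Submodule.mem_top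

/-- Suppose A is a Noetherian local ring whose maximal ideal is m, and take a ∈ m with a ∉ m². Then the
quotient m/am contains a direct summand isomorphic to m/Aa: concretely, one can find A-linear maps f
: m/Aa → m/am and g : m/am → m/Aa such that g ∘ f is the identity. -/
theorem result (A : Type u) [CommRing A] [IsLocalRing A]
    [IsNoetherianRing A] (a : A) (ha : a ∈ IsLocalRing.maximalIdeal A) (ha2 : a ∉ IsLocalRing.maximalIdeal A ^ 2) :
    ∃ (f : (↥(IsLocalRing.maximalIdeal A) ⧸ Submodule.span A {(⟨a, ha⟩ : ↥(IsLocalRing.maximalIdeal A))}) →ₗ[A]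
          QuotSMulTop a ↥(IsLocalRing.maximalIdeal A))
      (g : QuotSMulTop a ↥(IsLocalRing.maximalIdeal A) →ₗ[A]
          (↥(IsLocalRing.maximalIdeal A) ⧸ Submodule.span A {(⟨a, ha⟩ : ↥(IsLocalRing.maximalIdeal A))})),
      g.comp f = LinearMap.id := by
  classical
  obtain ⟨b, hb1, hb2⟩ := exists_compl A a ha ha2
  let j : ↥b →ₗ[A] (↥(IsLocalRing.maximalIdeal A) ⧸
      Submodule.span A {(⟨a, ha⟩ : ↥(IsLocalRing.maximalIdeal A))}) :=
    (Submodule.span A {(⟨a, ha⟩ : ↥(IsLocalRing.maximalIdeal A))}).mkQ.comp b.subtype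
  let h : ↥b →ₗ[A] QuotSMulTop a ↥(IsLocalRing.maximalIdeal A) :=
    (Submodule.mkQ _).comp b.subtype
  have hj : Function.Surjective j := by
    intro z
    obtain ⟨x, rfl⟩ := Submodule.mkQ_surjective _ z
    have hx : x ∈ Submodule.span A {(⟨a, ha⟩ : ↥(IsLocalRing.maximalIdeal A))} ⊔ b :=
      hb1 Submodule.mem_top
    obtain ⟨y, hy, w, hw, rfl⟩ := Submodule.mem_sup.mp hx
    refine ⟨⟨w, hw⟩, ?_⟩
    change Submodule.mkQ _ w = Submodule.mkQ _ (y + w)
    rw [map_add, Submodule.mkQ_apply, Submodule.mkQ_apply,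
      (Submodule.Quotient.mk_eq_zero _).mpr hy, zero_add]
  have hle : LinearMap.ker j ≤ LinearMap.ker h := by
    intro y hy
    rw [LinearMap.mem_ker] at hy ⊢
    have hy' : (y : ↥(IsLocalRing.maximalIdeal A)) ∈
        Submodule.span A {(⟨a, ha⟩ : ↥(IsLocalRing.maximalIdeal A))} :=
      (Submodule.Quotient.mk_eq_zero _).mp hy
    exact (Submodule.Quotient.mk_eq_zero _).mpr (hb2 y.1 y.2 hy')
  have hag : a • (⊤ : Submodule A ↥(IsLocalRing.maximalIdeal A)) ≤
      Submodule.span A {(⟨a, ha⟩ : ↥(IsLocalRing.maximalIdeal A))} := by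
    intro y hy
    obtain ⟨z, -, rfl⟩ := hy
    have : a • z = (z : A) • (⟨a, ha⟩ : ↥(IsLocalRing.maximalIdeal A)) := by
      ext
      simp [mul_comm]
    change a • z ∈ _
    rw [this]
    exact Submodule.smul_mem _ _ (Submodule.mem_span_singleton_self _)
  refine ⟨((LinearMap.ker j).liftQ h hle).comp (j.quotKerEquivOfSurjective hj).symm.toLinearMap,
    Submodule.mapQ _ _ LinearMap.id (by simpa using hag), ?_⟩
  apply LinearMap.ext
  intro z
  obtain ⟨y, rfl⟩ := hj z
  simp only [LinearMap.coe_comp, LinearEquiv.coe_coe, Function.comp_apply, LinearMap.id_coe, id_eq]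
  rw [LinearMap.quotKerEquivOfSurjective_symm_apply, Submodule.liftQ_apply]
  rfl

end Groth.Agent.S5781
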