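import Groth.Statements.S5782
import Groth.Agent.H29.PdQuot

set_option autoImplicit false
universe u
open CategoryTheory
open EGA41

namespace Groth.Agent.S5782

open Groth.Agent.H29 CategoryTheory

/-- Let A be a Noetherian local ring with maximal ideal m, E a finitely generated A-module of finite
projective dimension, and a ∈ m an element which is A-regular and E-regular. Then E/aE, as a module
over A/aA, has finite projective dimension at most the projective dimension of E over A. -/
theorem result (A : Type u) [CommRing A] [IsLocalRing A]
    [IsNoetherianRing A] (E : Type u) [AddCommGroup E] [Module A E] [Module.Finite A E]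
    (hfin : projectiveDimension (ModuleCat.of A E) ≠ ⊤) (a : A) (ha : a ∈ IsLocalRing.maximalIdeal A)
    (hA : IsSMulRegular A a) (hE : IsSMulRegular E a) :
    projectiveDimension (ModuleCat.of (A ⧸ Ideal.span {a}) (E ⧸ (Ideal.span {a} • (⊤ : Submodule A E)))) ≤
      projectiveDimension (ModuleCat.of A E) := by
  let e : (TensorProduct A (A ⧸ Ideal.span {a}) E) ≃ₗ[A ⧸ Ideal.span {a}]
      (E ⧸ (Ideal.span {a} • (⊤ : Submodule A E))) :=
    (TensorProduct.quotTensorEquivQuotSMul E (Ideal.span {a})).extendScalarsOfSurjective
      Ideal.Quotient.mk_surjective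
  rw [← ModuleCat.projectiveDimension_eq_of_linearEquiv
    (M := ModuleCat.of (A ⧸ Ideal.span {a}) (TensorProduct A (A ⧸ Ideal.span {a}) E))
    (N := ModuleCat.of (A ⧸ Ideal.span {a}) (E ⧸ (Ideal.span {a} • (⊤ : Submodule A E)))) e]
  generalize hd : projectiveDimension (ModuleCat.of A E) = d at hfin ⊢
  induction d with
  | bot =>
    rw [projectiveDimension_eq_bot_iff, ModuleCat.isZero_iff_subsingleton] at hd
    have : Subsingleton E := hd
    rw [le_bot_iff, projectiveDimension_eq_bot_iff, ModuleCat.isZero_iff_subsingleton]
    change Subsingleton (TensorProduct A (A ⧸ Ideal.span {a}) E)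
    infer_instance
  | coe d =>
    induction d with
    | top => exact absurd rfl hfin
    | coe n =>
      have h1 : HasProjectiveDimensionLE (ModuleCat.of A E) n := by
        rw [← projectiveDimension_le_iff, hd]
        rfl
      have h2 := PdQuot.hasProjectiveDimensionLT_baseChange_quotient a hA n E hE h1
      exact (projectiveDimension_le_iff _ n).mpr h2

end Groth.Agent.S5782
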