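import Groth.Statements.S5783
import Groth.Agent.H29.RegFree

set_option autoImplicit false
universe u
open EGA41

namespace Groth.Agent.S5783

open IsLocalRing Groth.Agent.H29 Groth.Agent.Lead.RLR

/-- Let A be a regular local ring, B a local ring and ρ : A → B a local homomorphism making B a finitely
generated A-module. Then B is a free A-module if and only if B is a Cohen-Macaulay ring and ρ is
injective (the latter being equivalent to dim(B) = dim(A)). -/
theorem result (A B : Type u) [CommRing A] [CommRing B]
    [IsRegularLocalRing A] [IsLocalRing B] [Algebra A B] [IsLocalHom (algebraMap A B)] [Module.Finite A B] :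
    Module.Free A B ↔ LocCoh.IsCohenMacaulayLocalRing B ∧ Function.Injective (algebraMap A B) := by
  obtain ⟨d, hd, -⟩ := exists_ringKrullDim_eq A
  have hN : IsNoetherianRing B := IsNoetherianRing.of_finite A B
  have hdA := RegFree.depth_eq_of_regular A d hd
  have hAB := DepthAB.depth_eq (A := A) (B := B) B
  have hdimAB := Groth.Agent.S5766.result A B B
  have hdimB : ∀ _ : Function.Injective (algebraMap A B), Module.supportDim B B = d := by
    intro hinj
    rw [← hdimAB, Module.supportDim_eq_ringKrullDim_quotient_annihilator]
    have hf : FaithfulSMul A B := (faithfulSMul_iff_algebraMap_injective A B).mpr hinj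
    have hann : Module.annihilator A B = ⊥ := Module.annihilator_eq_bot.mpr hf
    rw [hann, ← hd]
    exact ringKrullDim_eq_of_ringEquiv (RingEquiv.quotientBot A)
  constructor
  · intro hfree
    have hinj : Function.Injective (algebraMap A B) := FaithfulSMul.algebraMap_injective A B
    refine ⟨?_, hinj⟩
    have h1 := RegFree.depth_of_free A B
    refine @LocCoh.IsCohenMacaulayLocalRing.mk B _ hN ‹IsLocalRing B› ?_
    rw [hdimB hinj, ← hAB, h1, hdA]
    rfl
  · rintro ⟨hCM, hinj⟩
    have h1 := hCM.supportDim_eq_depth
    rw [hdimB hinj] at h1
    have h2 : LocCoh.depth B B = d := by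
      have : ((d : ℕ∞) : WithBot ℕ∞) = ((LocCoh.depth B B : ℕ∞) : WithBot ℕ∞) := h1
      exact (WithBot.coe_injective this).symm
    rw [← hAB] at h2
    exact RegFree.free_of_depth_eq_dim d A hd B h2

end Groth.Agent.S5783
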