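import Groth.Statements.S5787
import Groth.Agent.H26.ExtRegular

set_option autoImplicit false
universe u
open CategoryTheory
open EGA41

namespace Groth.Agent.S5787

open CategoryTheory Abelian RingTheory.Sequence

theorem mem_ann (A : Type u) [CommRing A] [IsLocalRing A] (y : A)
    (hy : y ∈ IsLocalRing.maximalIdeal A) :
    y ∈ Module.annihilator A (ModuleCat.of A (IsLocalRing.ResidueField A)) := by
  rw [Module.mem_annihilator]
  intro c
  obtain ⟨a, rfl⟩ := IsLocalRing.residue_surjective c
  change y • IsLocalRing.residue A a = 0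
  rw [Algebra.smul_def, IsLocalRing.ResidueField.algebraMap_eq, ← map_mul]
  exact (IsLocalRing.residue_eq_zero_iff _).mpr (Ideal.mul_mem_right _ _ hy)

theorem key (A : Type u) [CommRing A] [IsLocalRing A] (xs : List A) :
    (∀ x ∈ xs, x ∈ IsLocalRing.maximalIdeal A) →
    ∀ (M : Type u) [AddCommGroup M] [Module A M], IsWeaklyRegular M xs →
    Nonempty ((IsLocalRing.ResidueField A →ₗ[A] (M ⧸ (Ideal.ofList xs • (⊤ : Submodule A M)))) ≃+
      Ext (ModuleCat.of A (IsLocalRing.ResidueField A)) (ModuleCat.of A M) xs.length) := by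
  induction xs with
  | nil =>
    intro _ M _ _ _
    have e1 : (M ⧸ (Ideal.ofList ([] : List A) • ⊤ : Submodule A M)) ≃ₗ[A] M :=
      Submodule.quotEquivOfEqBot _ (by simp)
    exact ⟨(LinearEquiv.congrRight e1).toAddEquiv.trans
      ((ModuleCat.homAddEquiv (M := ModuleCat.of A (IsLocalRing.ResidueField A))
        (N := ModuleCat.of A M)).symm.trans Ext.addEquiv₀.symm)⟩
  | cons x xs ih =>
    intro hxs M _ _ hreg
    rw [isWeaklyRegular_cons_iff] at hreg
    obtain ⟨e⟩ := ih (fun y hy => hxs y (List.mem_cons_of_mem _ hy)) (QuotSMulTop x M) hreg.2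
    let e0 := (LinearEquiv.congrRight (M := IsLocalRing.ResidueField A)
      (Submodule.quotOfListConsSMulTopEquivQuotSMulTopInner M x xs)).toAddEquiv
    let S := (ModuleCat.of A M).smulShortComplex x
    have hS : S.ShortExact :=
      IsSMulRegular.smulShortComplex_shortExact (M := ModuleCat.of A M) hreg.1
    let δ : Ext (ModuleCat.of A (IsLocalRing.ResidueField A)) S.X₃ xs.length →+
        Ext (ModuleCat.of A (IsLocalRing.ResidueField A)) S.X₁ (xs.length + 1) :=
      hS.extClass.postcomp (ModuleCat.of A (IsLocalRing.ResidueField A)) rfl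
    have hann : ∀ y ∈ x :: xs, ∃ k : ℕ, y ^ k ∈
        Module.annihilator A (ModuleCat.of A (IsLocalRing.ResidueField A)) := by
      intro y hy
      refine ⟨1, ?_⟩
      rw [pow_one]
      exact mem_ann A y (hxs y hy)
    have hsub : Subsingleton (Ext (ModuleCat.of A (IsLocalRing.ResidueField A)) S.X₂ xs.length) :=
      Groth.Agent.H26.subsingleton_ext_of_isWeaklyRegular _ (ModuleCat.of A M) (x :: xs) hann
        ((isWeaklyRegular_cons_iff M x xs).mpr hreg) xs.length (by simp)
    have hbij : Function.Bijective δ := by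
      constructor
      · rw [injective_iff_map_eq_zero]
        intro y hy
        obtain ⟨x₂, hx₂⟩ := Ext.covariant_sequence_exact₃ _ hS y rfl hy
        rw [← hx₂, Subsingleton.elim x₂ 0, Ext.zero_comp]
      · intro z
        have hx1 : x ∈ Module.annihilator A (ModuleCat.of A (IsLocalRing.ResidueField A)) :=
          mem_ann A x (hxs x List.mem_cons_self)
        have h0 := Ext.postcomp_smul_id_eq_zero_of_mem_annihilator (M := ModuleCat.of A M)
          (N := ModuleCat.of A (IsLocalRing.ResidueField A)) hx1 (xs.length + 1)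
        have hz : z.comp (Ext.mk₀ S.f) (add_zero _) = 0 := by
          have := congrArg (fun φ => (ConcreteCategory.hom φ) z) h0
          simp at this
          exact this
        exact Ext.covariant_sequence_exact₁ _ hS z hz rfl
    exact ⟨e0.trans (e.trans (AddEquiv.ofBijective δ hbij))⟩

/-- Let A be a Noetherian local ring with maximal ideal m and residue field k, M an A-module and
(x_i)_{1 ≤ i ≤ n} an M-regular sequence of elements of m. Then Hom_A(k, M/(x_1 M + ... + x_n M)) and
Ext^n_A(k, M) are isomorphic (existence of an isomorphism; stated for the underlying abelian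
groups). -/
theorem result (A : Type u) [CommRing A] [IsLocalRing A]
    [IsNoetherianRing A] (M : Type u) [AddCommGroup M] [Module A M] (xs : List A)
    (hxs : ∀ x ∈ xs, x ∈ IsLocalRing.maximalIdeal A) (hreg : RingTheory.Sequence.IsWeaklyRegular M xs) :
    Nonempty ((IsLocalRing.ResidueField A →ₗ[A] (M ⧸ (Ideal.ofList xs • (⊤ : Submodule A M)))) ≃+
      Abelian.Ext (ModuleCat.of A (IsLocalRing.ResidueField A)) (ModuleCat.of A M) xs.length) := by
  exact key A xs hxs M hreg

end Groth.Agent.S5787
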