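import Groth.Statements.S5789
import Mathlib.RingTheory.Regular.ProjectiveDimension

set_option autoImplicit false
universe u
open CategoryTheory
open EGA41

namespace Groth.Agent.S5789

open CategoryTheory Abelian

theorem ext_subsingleton_of_iso {A : Type u} [CommRing A] (X : ModuleCat.{u} A) {C C' : ModuleCat.{u} A}
    (e : C ≅ C') (n : ℕ) [Subsingleton (Ext X C' n)] : Subsingleton (Ext X C n) := by
  refine ⟨fun x y => ?_⟩
  have h : ∀ z : Ext X C n, z = 0 := by
    intro z
    have h1 : (z.comp (Ext.mk₀ e.hom) (add_zero n)).comp (Ext.mk₀ e.inv) (add_zero n) = z := by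
      rw [Ext.comp_assoc_of_third_deg_zero, Ext.mk₀_comp_mk₀, e.hom_inv_id, Ext.comp_mk₀_id]
    rw [← h1, Subsingleton.elim (z.comp (Ext.mk₀ e.hom) (add_zero n)) 0, Ext.zero_comp]
  rw [h x, h y]

theorem ext_subsingleton_of_subsingleton {A : Type u} [CommRing A] (X : ModuleCat.{u} A)
    (L : Type u) [AddCommGroup L] [Module A L] [Subsingleton L] (n : ℕ) :
    Subsingleton (Ext X (ModuleCat.of A L) n) := by
  refine ⟨fun x y => ?_⟩
  have h : ∀ z : Ext X (ModuleCat.of A L) n, z = 0 := by
    intro z
    have h0 : 𝟙 (ModuleCat.of A L) = 0 := by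
      ext a
      exact Subsingleton.elim _ _
    rw [← Ext.comp_mk₀_id z, h0, Ext.mk₀_zero, Ext.comp_zero]
  rw [h x, h y]

theorem ext_subsingleton_of_cyclic {A : Type u} [CommRing A] (X : ModuleCat.{u} A) (n : ℕ)
    (h : ∀ I : Ideal A, Subsingleton (Ext X (ModuleCat.of A (A ⧸ I)) n)) :
    ∀ (k : ℕ) (L : Type u) [AddCommGroup L] [Module A L] (s : Finset L), s.card ≤ k →
      Submodule.span A (s : Set L) = ⊤ → Subsingleton (Ext X (ModuleCat.of A L) n) := by
  classical
  intro k
  induction k with
  | zero =>
    intro L _ _ s hs hspan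
    have : s = ∅ := Finset.card_eq_zero.mp (Nat.le_zero.mp hs)
    subst this
    have hL : Subsingleton L := by
      refine ⟨fun a b => ?_⟩
      have ha : ∀ c : L, c = 0 := by
        intro c
        have hc : c ∈ Submodule.span A ((∅ : Finset L) : Set L) := hspan ▸ Submodule.mem_top
        simpa using hc
      rw [ha a, ha b]
    exact ext_subsingleton_of_subsingleton X L n
  | succ k ih =>
    intro L _ _ s hs hspan
    by_cases hse : s = ∅
    · subst hse
      have hL : Subsingleton L := by
        refine ⟨fun a b => ?_⟩
        have ha : ∀ c : L, c = 0 := by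
          intro c
          have hc : c ∈ Submodule.span A ((∅ : Finset L) : Set L) := hspan ▸ Submodule.mem_top
          simpa using hc
        rw [ha a, ha b]
      exact ext_subsingleton_of_subsingleton X L n
    · obtain ⟨x, hx⟩ := Finset.nonempty_iff_ne_empty.mpr hse
      set N : Submodule A L := Submodule.span A {x} with hN
      let S := (N.mkQ).shortComplexKer
      have hS : S.ShortExact := LinearMap.shortExact_shortComplexKer N.mkQ_surjective
      have h3 : Subsingleton (Ext X S.X₃ n) := by
        apply ih (L ⧸ N) ((s.erase x).image N.mkQ)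
        · exact Finset.card_image_le.trans (by rw [Finset.card_erase_of_mem hx]; omega)
        · rw [Finset.coe_image, ← Submodule.map_span, eq_top_iff]
          rintro y -
          obtain ⟨y, rfl⟩ := N.mkQ_surjective y
          have hy : y ∈ Submodule.span A (s : Set L) := hspan ▸ Submodule.mem_top
          have hs' : (s : Set L) = insert x ((s.erase x : Finset L) : Set L) := by
            rw [← Finset.coe_insert, Finset.insert_erase hx]
          rw [hs', Submodule.span_insert] at hy
          obtain ⟨a, ha, b, hb, rfl⟩ := Submodule.mem_sup.mp hy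
          rw [map_add]
          have : N.mkQ a = 0 := by simpa [hN] using ha
          rw [this, zero_add]
          exact Submodule.mem_map_of_mem hb
      have h1 : Subsingleton (Ext X S.X₁ n) := by
        let c : LinearMap.ker N.mkQ := ⟨x, by simp [hN, Submodule.mem_span_singleton_self]⟩
        have hc : Function.Surjective (LinearMap.toSpanSingleton A (LinearMap.ker N.mkQ) c) := by
          rintro ⟨y, hy⟩
          have hy' : y ∈ N := by simpa using hy
          obtain ⟨a, rfl⟩ := Submodule.mem_span_singleton.mp hy'
          exact ⟨a, by ext; simp [c]⟩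
        let e := LinearMap.quotKerEquivOfSurjective _ hc
        have := h (LinearMap.ker (LinearMap.toSpanSingleton A (LinearMap.ker N.mkQ) c))
        exact ext_subsingleton_of_iso X e.symm.toModuleIso n
      refine ⟨fun y z => ?_⟩
      have key : ∀ w : Ext X (ModuleCat.of A L) n, w = 0 := by
        intro w
        obtain ⟨w1, hw1⟩ := Ext.covariant_sequence_exact₂ X hS w (Subsingleton.elim _ _)
        rw [← hw1, Subsingleton.elim w1 0, Ext.zero_comp]
      rw [key y, key z]

/-- Let A be a Noetherian ring, M a finitely generated A-module and n ≥ 0. Then M has projective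
dimension at most n if and only if Ext^(n+1)_A(M, N) = 0 for every monogenous A-module N, i.e. every
N = A/I with I an ideal. -/
theorem result (A : Type u) [CommRing A] [IsNoetherianRing A]
    (M : Type u) [AddCommGroup M] [Module A M] [Module.Finite A M] (n : ℕ) :
    HasProjectiveDimensionLT (ModuleCat.of A M) (n + 1) ↔
      ∀ I : Ideal A, Subsingleton (Abelian.Ext (ModuleCat.of A M) (ModuleCat.of A (A ⧸ I)) (n + 1)) := by
  constructor
  · intro h I
    exact HasProjectiveDimensionLT.subsingleton (ModuleCat.of A M) (n + 1) (n + 1) le_rfl _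
  · intro h
    apply ModuleCat.hasProjectiveDimensionLT_of_forall_finite
    intro L hL
    obtain ⟨s, hs⟩ := hL.fg_top
    exact ext_subsingleton_of_cyclic (ModuleCat.of A M) (n + 1) h s.card L s le_rfl hs

end Groth.Agent.S5789
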