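import Groth.Statements.S5792
import Groth.Agent.H29.TopDim

set_option autoImplicit false
universe u
open TopDim

namespace Groth.Agent.S5792


/-- For every topological space X one has dim(X) = sup_{x ∈ X} dim_x(X), the supremum of the local
combinatorial dimensions. -/
theorem result (X : Type u) [TopologicalSpace X] :
    topologicalKrullDim X = ⨆ x : X, FlatMor.localDim X x := by
  refine le_antisymm ?_ (iSup_le fun x => Groth.Agent.H29.localDim_le_dim x)
  refine Groth.Agent.H29.topologicalKrullDim_le_of_forall_chain fun l => ?_
  obtain ⟨x, hx⟩ := l.head.isIrreducible.nonempty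
  exact le_trans (Groth.Agent.H29.length_le_localDim l x hx)
    (le_iSup (fun x => FlatMor.localDim X x) x)

end Groth.Agent.S5792
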