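import Groth.Statements.S5795
import Groth.Agent.H29.TopDim2

set_option autoImplicit false
universe u
open TopDim

namespace Groth.Agent.S5795

theorem le_zero_of_lt_one {a : WithBot ℕ∞} (h : a < 1) : a ≤ 0 := by
  induction a with
  | bot => exact bot_le
  | coe n =>
    have h1 : n < 1 := by exact_mod_cast h
    have h2 : n = 0 := Order.lt_one_iff.mp h1
    rw [h2]; rfl


/-- Let X be a Noetherian Kolmogoroff space and x a point of X. Then x is isolated in X if and only if
dim_x(X) = 0. -/
theorem result (X : Type u) [TopologicalSpace X]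
    [TopologicalSpace.NoetherianSpace X] [T0Space X] (x : X) :
    IsOpen ({x} : Set X) ↔ FlatMor.localDim X x = 0 := by
  constructor
  · intro hopen
    refine le_antisymm ?_ ?_
    · refine le_trans (Groth.Agent.H29.localDim_le_dim_of_mem x ⟨{x}, hopen⟩ rfl) ?_
      haveI : Subsingleton (({x} : Set X)) := (Set.subsingleton_singleton).coe_sort
      exact topologicalKrullDim_zero_of_discreteTopology _
    · refine le_iInf fun U => ?_
      haveI : Nonempty (U.1 : Set X) := ⟨⟨x, U.2⟩⟩
      exact Groth.Agent.H29.topologicalKrullDim_nonneg_of_nonempty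
  · intro h
    have h1 : FlatMor.localDim X x < 1 := by rw [h]; exact zero_lt_one
    simp only [FlatMor.localDim] at h1
    obtain ⟨U, hU⟩ := iInf_lt_iff.mp h1
    have hU0 : topologicalKrullDim (U.1 : Set X) ≤ 0 := le_zero_of_lt_one hU
    obtain ⟨-, hd⟩ := Groth.Agent.H29.finite_discrete_of_dim_zero (X := (U.1 : Set X)) hU0
    have hop : IsOpen ({⟨x, U.2⟩} : Set (U.1 : Set X)) := isOpen_discrete _
    have := U.1.2.isOpenMap_subtype_val _ hop
    simpa using this

end Groth.Agent.S5795
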