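import Groth.Statements.S5796
import Groth.Agent.H29.TopDim

set_option autoImplicit false
universe u
open TopDim

namespace Groth.Agent.S5796


/-- For any topological space X, the function x ↦ dim_x(X) is upper semicontinuous on X. -/
theorem result (X : Type u) [TopologicalSpace X] :
    UpperSemicontinuous fun x : X => FlatMor.localDim X x := by
  intro x y hxy
  simp only [FlatMor.localDim] at hxy
  obtain ⟨U, hU⟩ := iInf_lt_iff.mp hxy
  have hmem : (U.1 : Set X) ∈ nhds x := U.1.2.mem_nhds U.2
  filter_upwards [hmem] with x' hx'
  exact lt_of_le_of_lt (Groth.Agent.H29.localDim_le_dim_of_mem x' U.1 hx') hU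

end Groth.Agent.S5796
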