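import Groth.Statements.S5798
import Groth.Agent.H29.TopDim

set_option autoImplicit false
universe u
open TopDim

namespace Groth.Agent.S5798


/-- If (U_i) is an open covering of a topological space X, then dim(X) = sup_i dim(U_i). -/
theorem result (X : Type u) [TopologicalSpace X] (ι : Type u)
    (U : ι → TopologicalSpace.Opens X) (hcov : ⨆ i, U i = ⊤) :
    topologicalKrullDim X = ⨆ i, topologicalKrullDim (U i) := by
  refine le_antisymm ?_ (iSup_le fun i => topologicalKrullDim_subspace_le X _)
  refine Groth.Agent.H29.topologicalKrullDim_le_of_forall_chain fun l => ?_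
  obtain ⟨x, hx⟩ := l.head.isIrreducible.nonempty
  have hxU : x ∈ (⨆ i, U i : TopologicalSpace.Opens X) := by rw [hcov]; trivial
  obtain ⟨i, hi⟩ := TopologicalSpace.Opens.mem_iSup.mp hxU
  exact le_trans (Groth.Agent.H29.length_le_dim_open (U i : Set X) (U i).2 l ⟨x, hx, hi⟩)
    (le_iSup (fun i => topologicalKrullDim (U i)) i)

end Groth.Agent.S5798
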