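import Groth.Statements.S5799
import Groth.Agent.H29.TopDim

set_option autoImplicit false
universe u
open TopDim

namespace Groth.Agent.S5799


/-- If (X_i) is a locally finite covering of a topological space X by closed subsets, then dim(X) =
sup_i dim(X_i). -/
theorem result (X : Type u) [TopologicalSpace X]
    (ι : Type u) (Y : ι → Set X) (hY : ∀ i, IsClosed (Y i)) (hlf : LocallyFinite Y) (hcov : ⋃ i, Y i = Set.univ) :
    topologicalKrullDim X = ⨆ i, topologicalKrullDim (Y i) := by
  classical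
  refine le_antisymm ?_ (iSup_le fun i => topologicalKrullDim_subspace_le X (Y i))
  refine Groth.Agent.H29.topologicalKrullDim_le_of_forall_chain fun l => ?_
  obtain ⟨x, hx⟩ := l.head.isIrreducible.nonempty
  obtain ⟨W, hW, hfin⟩ := hlf x
  obtain ⟨U, hUW, hUo, hxU⟩ := mem_nhds_iff.mp hW
  have hxl : x ∈ (l.last : Set X) := (l.head_le_last : l.head ≤ l.last) hx
  have hsub1 : (l.last : Set X) ⊆ closure ((l.last : Set X) ∩ U) :=
    subset_closure_inter_of_isPreirreducible_of_isOpen l.last.isIrreducible.isPreirreducible hUo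
      ⟨x, hxl, hxU⟩
  have hcl : IsClosed (⋃ i ∈ hfin.toFinset, Y i) :=
    Set.Finite.isClosed_biUnion (Finset.finite_toSet _) (fun i _ => hY i)
  have hsub2 : (l.last : Set X) ∩ U ⊆ ⋃ i ∈ hfin.toFinset, Y i := by
    intro z hz
    have : z ∈ ⋃ i, Y i := by rw [hcov]; trivial
    obtain ⟨i, hi⟩ := Set.mem_iUnion.mp this
    refine Set.mem_biUnion (x := i) ?_ hi
    rw [Finset.mem_coe, Set.Finite.mem_toFinset]
    exact ⟨z, hi, hUW hz.2⟩
  have hsub3 : (l.last : Set X) ⊆ ⋃ i ∈ hfin.toFinset, Y i :=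
    subset_trans hsub1 (closure_minimal hsub2 hcl)
  obtain ⟨z, hz, hlz⟩ := isIrreducible_iff_sUnion_isClosed.mp l.last.isIrreducible
    (hfin.toFinset.image Y) (by
      intro z hz
      obtain ⟨i, -, rfl⟩ := Finset.mem_image.mp hz
      exact hY i) (by
      intro w hw
      obtain ⟨i, hi, hwi⟩ := Set.mem_iUnion₂.mp (hsub3 hw)
      exact Set.mem_sUnion.mpr ⟨Y i, by
        rw [Finset.mem_coe]; exact Finset.mem_image_of_mem Y hi, hwi⟩)
  obtain ⟨i, -, rfl⟩ := Finset.mem_image.mp hz
  exact le_trans (Groth.Agent.H29.length_le_dim_of_last_subset (Y i) l hlz)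
    (le_iSup (fun i => topologicalKrullDim (Y i)) i)

end Groth.Agent.S5799
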