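import Groth.Statements.S5800
import Groth.Agent.H29.TopDim2

set_option autoImplicit false
universe u
open TopDim

namespace Groth.Agent.S5800

theorem exists_eq_iInf {ι : Sort*} [Nonempty ι] (f : ι → WithBot ℕ∞) : ∃ i, f i = ⨅ i, f i :=
  csInf_mem (Set.range_nonempty f)

theorem dim_le_of_map {A B : Type*} [TopologicalSpace A] [TopologicalSpace B]
    {Z : Type*} [TopologicalSpace Z] (g : A → B) (a : A → Z) (b : B → Z)
    (ha : Topology.IsInducing a) (hb : Topology.IsInducing b) (hab : b ∘ g = a) :
    topologicalKrullDim A ≤ topologicalKrullDim B := by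
  have hg : Continuous g := by
    rw [hb.continuous_iff, hab]; exact ha.continuous
  have : Topology.IsInducing g :=
    Topology.IsInducing.of_comp hg hb.continuous (by rw [hab]; exact ha)
  exact this.topologicalKrullDim_le


/-- Let X be a topological space, x a point of X and (Y_i) a finite family of closed subsets each
containing x whose union is X. Then dim_x(X) = sup_i dim_x(Y_i). (The published statement lets the
Y_i be closed subsets of a neighbourhood U of x covering U; this row is the case U = X.) -/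
theorem result (X : Type u) [TopologicalSpace X] (x : X)
    (ι : Type u) [Finite ι] (Y : ι → Set X) (hY : ∀ i, IsClosed (Y i)) (hx : ∀ i, x ∈ Y i)
    (hcov : ⋃ i, Y i = Set.univ) :
    FlatMor.localDim X x = ⨆ i, FlatMor.localDim (Y i) ⟨x, hx i⟩ := by
  classical
  have hιne : Nonempty ι := by
    have : x ∈ ⋃ i, Y i := by rw [hcov]; trivial
    obtain ⟨i, -⟩ := Set.mem_iUnion.mp this
    exact ⟨i⟩
  refine le_antisymm ?_ ?_
  · -- choose for each i an open nbhd of x in Y i realizing the local dimension
    have hch : ∀ i, ∃ W : Set X, IsOpen W ∧ x ∈ W ∧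
        topologicalKrullDim ((Subtype.val : Y i → X) ⁻¹' W) =
          FlatMor.localDim (Y i) ⟨x, hx i⟩ := by
      intro i
      haveI : Nonempty {U : TopologicalSpace.Opens (Y i) // (⟨x, hx i⟩ : Y i) ∈ U} :=
        ⟨⟨⊤, trivial⟩⟩
      obtain ⟨U, hU⟩ := exists_eq_iInf
        (fun U : {U : TopologicalSpace.Opens (Y i) // (⟨x, hx i⟩ : Y i) ∈ U} =>
          topologicalKrullDim (U.1 : Set (Y i)))
      obtain ⟨⟨Uc, hUo⟩, hxU⟩ := U
      obtain ⟨W, hW, hWU⟩ := isOpen_induced_iff.mp hUo
      subst hWU
      exact ⟨W, hW, hxU, hU⟩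
    choose W hWo hxW hW using hch
    let S0 : Set X := ⋂ i, W i
    have hS0 : IsOpen S0 := isOpen_iInter_of_finite hWo
    have hxS0 : x ∈ S0 := Set.mem_iInter.mpr hxW
    refine le_trans (Groth.Agent.H29.localDim_le_dim_of_mem x ⟨S0, hS0⟩ hxS0) ?_
    -- cover S0 by the closed subsets Y i ∩ S0
    have hcov' : ⋃ i, (Subtype.val : S0 → X) ⁻¹' (Y i) = Set.univ := by
      rw [← Set.preimage_iUnion, hcov, Set.preimage_univ]
    have key := Groth.Agent.H29.topologicalKrullDim_eq_iSup_of_finite_closed_cover
      (X := S0) (fun i => (Subtype.val : S0 → X) ⁻¹' (Y i))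
      (fun i => (hY i).preimage continuous_subtype_val) hcov'
    change topologicalKrullDim S0 ≤ _
    rw [key]
    refine iSup_le fun i => le_trans ?_ (le_iSup (fun i => FlatMor.localDim (Y i) ⟨x, hx i⟩) i)
    rw [← hW i]
    exact dim_le_of_map
      (g := fun w => ⟨⟨w.1.1, w.2⟩, Set.mem_iInter.mp w.1.2 i⟩)
      (a := fun w => w.1.1) (b := fun v => v.1.1)
      (Topology.IsInducing.subtypeVal.comp Topology.IsInducing.subtypeVal)
      (Topology.IsInducing.subtypeVal.comp Topology.IsInducing.subtypeVal) rfl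
  · refine iSup_le fun i => le_iInf fun U => ?_
    let V : TopologicalSpace.Opens (Y i) :=
      ⟨(Subtype.val : Y i → X) ⁻¹' (U.1 : Set X), U.1.2.preimage continuous_subtype_val⟩
    have hxV : (⟨x, hx i⟩ : Y i) ∈ V := U.2
    refine le_trans (Groth.Agent.H29.localDim_le_dim_of_mem (⟨x, hx i⟩ : Y i) V hxV) ?_
    exact dim_le_of_map
      (g := fun v => ⟨v.1.1, v.2⟩)
      (a := fun v => v.1.1) (b := fun u => u.1)
      (Topology.IsInducing.subtypeVal.comp Topology.IsInducing.subtypeVal)
      Topology.IsInducing.subtypeVal rfl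

end Groth.Agent.S5800
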