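import Groth.Statements.S5806
import Mathlib.RingTheory.Flat.Equalizer
import Mathlib.RingTheory.Flat.Stability

set_option autoImplicit false
universe u
open EGA41

namespace Groth.Agent.S5806

open Pointwise TensorProduct

open TensorProduct in
/-- Let A be a ring, B a commutative A-algebra, (f_i)_{1 ≤ i ≤ n} elements of B and M a B-module.
Suppose (f_i) is M-regular and each of the A-modules M/(f_1 M + ... + f_i M), 0 ≤ i ≤ n, is flat.
Then for every ring homomorphism A → A', writing M' = M ⊗_A A' and f'_i = f_i ⊗ 1, the sequence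
(f'_i) is M'-regular and the A'-modules M'/(f'_1 M' + ... + f'_{i-1} M') are flat: concretely,
identifying M'/(f'_1 M' + ... + f'_{i-1} M') with A' ⊗_A (M/(f_1 M + ... + f_{i-1} M)),
multiplication by f_i on the latter is injective and the latter is A'-flat, for 1 ≤ i ≤ n. (The
published hypothesis lists only the flatness of M/(f_1 M + ... + f_{i-1} M) for 1 ≤ i ≤ n, omitting
M/(f_1 M + ... + f_n M); with that omission the case n = 1, A = B = k[t], M = k[t], f_1 = t, A' =
k[t]/(t) fails, since t acts as zero on k ⊗_A M = k, and the published proof uses the flatness of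
M/(f_1 M + ... + f_i M) for every i ≤ n; so flatness of all these quotients is assumed here.) -/
theorem result (A B : Type u) [CommRing A]
    [CommRing B] [Algebra A B] (M : Type u) [AddCommGroup M] [Module B M] [Module A M] [IsScalarTower A B M]
    (fs : List B) (hreg : RingTheory.Sequence.IsWeaklyRegular M fs)
    (hflat : ∀ i : ℕ, i ≤ fs.length → Module.Flat A (M ⧸ (Ideal.ofList (fs.take i) • (⊤ : Submodule B M))))
    (A' : Type u) [CommRing A'] [Algebra A A'] (i : Fin fs.length) :
    Function.Injective (LinearMap.lTensor A'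
        (((LinearMap.lsmul B (M ⧸ (Ideal.ofList (fs.take i) • (⊤ : Submodule B M)))) (fs.get i)).restrictScalars A)) ∧
      Module.Flat A' (A' ⊗[A] (M ⧸ (Ideal.ofList (fs.take i) • (⊤ : Submodule B M)))) := by
  have hi : (i : ℕ) < fs.length := i.2
  have hF1 : Module.Flat A (M ⧸ (Ideal.ofList (fs.take (i + 1)) • (⊤ : Submodule B M))) :=
    hflat (i + 1) hi
  have hF0 : Module.Flat A (M ⧸ (Ideal.ofList (fs.take i) • (⊤ : Submodule B M))) :=
    hflat i hi.le
  refine ⟨?_, inferInstance⟩
  have hreg' := (RingTheory.Sequence.isWeaklyRegular_iff M fs).mp hreg i hi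
  have hN1 : Ideal.ofList (fs.take (i + 1)) • (⊤ : Submodule B M) =
      Ideal.ofList (fs.take i) • (⊤ : Submodule B M) ⊔ fs[(i : ℕ)] • (⊤ : Submodule B M) := by
    rw [List.take_succ_eq_append_getElem hi, Ideal.ofList_append, Submodule.sup_smul,
      Ideal.ofList_singleton, Submodule.ideal_span_singleton_smul]
  generalize Ideal.ofList (fs.take (i + 1)) • (⊤ : Submodule B M) = N1 at hN1 hF1 ⊢
  generalize hN0 : Ideal.ofList (fs.take i) • (⊤ : Submodule B M) = N0 at hN1 hF0 hreg' ⊢
  have hle : N0 ≤ N1 := hN1 ▸ le_sup_left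
  let q : (M ⧸ N0) →ₗ[B] (M ⧸ N1) := Submodule.mapQ _ _ LinearMap.id (by simpa using hle)
  have hq : Function.Surjective (q.restrictScalars A) := by
    intro z
    obtain ⟨m, rfl⟩ := N1.mkQ_surjective z
    exact ⟨N0.mkQ m, rfl⟩
  refine LinearMap.lTensor_injective_of_exact_of_flat (q.restrictScalars A) hq _ ?_ ?_ A'
  · intro x y hxy
    exact hreg' hxy
  · intro y
    constructor
    · intro hy
      obtain ⟨z, rfl⟩ := N0.mkQ_surjective y
      have hz : z ∈ N1 := by
        have : (Submodule.Quotient.mk z : M ⧸ N1) = 0 := hy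
        exact (Submodule.Quotient.mk_eq_zero _).mp this
      rw [hN1] at hz
      obtain ⟨u, hu, w, hw, rfl⟩ := Submodule.mem_sup.mp hz
      obtain ⟨v, -, rfl⟩ := hw
      refine ⟨N0.mkQ v, ?_⟩
      change fs[(i : ℕ)] • N0.mkQ v = N0.mkQ (u + fs[(i : ℕ)] • v)
      rw [map_add, Submodule.mkQ_apply, Submodule.mkQ_apply, Submodule.mkQ_apply,
        (Submodule.Quotient.mk_eq_zero _).mpr hu, zero_add, Submodule.Quotient.mk_smul]
    · rintro ⟨v, rfl⟩
      obtain ⟨v, rfl⟩ := N0.mkQ_surjective v
      change q (fs[(i : ℕ)] • N0.mkQ v) = 0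
      rw [map_smul]
      change fs[(i : ℕ)] • (Submodule.Quotient.mk v : M ⧸ N1) = 0
      rw [← Submodule.Quotient.mk_smul, Submodule.Quotient.mk_eq_zero, hN1]
      exact Submodule.mem_sup_right (Submodule.smul_mem_pointwise_smul _ _ _ Submodule.mem_top)

end Groth.Agent.S5806
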