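import Groth.Statements.S5810
import Groth.Agent.S2938
import Groth.Agent.H20.ComplNoeth2
import Groth.Agent.H15.Depth
import Mathlib.RingTheory.AdicCompletion.AsTensorProduct
import Mathlib.RingTheory.AdicCompletion.LocalRing
import Mathlib.RingTheory.Flat.FaithfullyFlat.Algebra

set_option autoImplicit false
universe u
open EGA41

namespace Groth.Agent.S5810

open IsLocalRing

/-- Let A be a Noetherian local ring with maximal ideal m and M a finitely generated A-module; write Â
and M̂ for the m-adic completions. Then prof_A(M) = prof_Â(M̂). -/
theorem result (A : Type u) [CommRing A] [IsLocalRing A] [IsNoetherianRing A] (M : Type u)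
    [AddCommGroup M] [Module A M] [Module.Finite A M] :
    LocCoh.depth (AdicCompletion (IsLocalRing.maximalIdeal A) A) (AdicCompletion (IsLocalRing.maximalIdeal A) M) =
      LocCoh.depth A M := by
  have hN : IsNoetherianRing (AdicCompletion (maximalIdeal A) A) :=
    Groth.Agent.H20.isNoetherianRing_adicCompletion _
  have hff : Module.FaithfullyFlat A (AdicCompletion (maximalIdeal A) A) :=
    Module.FaithfullyFlat.of_flat_of_isLocalHom
  have h := (Groth.Agent.S2938.result A (AdicCompletion (maximalIdeal A) A) (maximalIdeal A) M).2 hff
  unfold LocCoh.depth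
  rw [AdicCompletion.maximalIdeal_eq_map, ← h]
  exact Groth.Agent.H15.idealDepth_congr
    (AdicCompletion.ofTensorProductEquivOfFiniteNoetherian (maximalIdeal A) M).symm _

end Groth.Agent.S5810
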