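import Groth.Statements.S5811
import Groth.Agent.H29.ComplDim2

set_option autoImplicit false
universe u
open EGA41

namespace Groth.Agent.S5811


/-- Let A be a semi-local Noetherian ring (finitely many maximal ideals) with Jacobson radical r, M a
finitely generated A-module, and write Â and M̂ for the r-adic completions of A and M. Then
dim_Â(M̂) = dim_A(M), the dimension of a module being the Krull dimension of its support. (For M = 0
both sides are ⊥.) -/
theorem result (A : Type u) [CommRing A] [IsNoetherianRing A]
    [Finite (MaximalSpectrum A)] (M : Type u) [AddCommGroup M] [Module A M] [Module.Finite A M] :
    Module.supportDim (AdicCompletion (Ring.jacobson A) A) (AdicCompletion (Ring.jacobson A) M) =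
      Module.supportDim A M := by
  exact Groth.Agent.H29.ComplDim.supportDim_adicCompletion_eq A M

end Groth.Agent.S5811
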