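import Groth.Statements.S5816
import Groth.Agent.H29.Exal3

set_option autoImplicit false
universe u
open EGA41

namespace Groth.Agent.S5816

open Groth.Agent.H29.ExalL

theorem ker_sq_zero {A B L : Type u} [CommRing A] [CommRing B] [Algebra A B] [AddCommGroup L]
    [Module B L] (X : Exal.Ext A B L) :
    ∀ x ∈ RingHom.ker X.proj, ∀ y ∈ RingHom.ker X.proj, x * y = 0 := by
  intro x hx y hy
  obtain ⟨z, rfl⟩ := (X.isExtension.exact x).1 hx
  obtain ⟨z', rfl⟩ := (X.isExtension.exact y).1 hy
  exact incl_mul_incl X z z'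

section Fwd
variable {Λ A B : Type u} [CommRing Λ] [CommRing A] [CommRing B] [Algebra Λ A] [Algebra Λ B]
  [Algebra A B] [IsScalarTower Λ A B]

theorem fwd (hrel : EGA41.IsFormallySmoothRel Λ A B) (L : Type u) [AddCommGroup L] [Module B L]
    (X : Exal.Ext A B L) (htriv : X.IsTrivialOver Λ) : X.IsTrivial := by
  obtain ⟨s, hs⟩ := htriv
  letI algΛ : Algebra Λ X.E := ((algebraMap A X.E).comp (algebraMap Λ A)).toAlgebra
  haveI : IsScalarTower Λ A X.E := IsScalarTower.of_algebraMap_eq (fun _ => rfl)
  have hJ : (RingHom.ker X.proj) ^ 2 = ⊥ := by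
    rw [eq_bot_iff, pow_two, Ideal.mul_le]
    intro x hx y hy
    rw [Ideal.mem_bot]
    exact ker_sq_zero X x hx y hy
  let e := Ideal.quotientKerAlgEquivOfSurjective X.isExtension.proj_surjective
  let s' : B →ₐ[Λ] X.E := s
  have hs' : ∀ b, X.proj (s' b) = b := hs
  obtain ⟨v, hv⟩ := hrel X.E (RingHom.ker X.proj) hJ e.symm.toAlgHom ⟨s', by
    ext b
    apply e.injective
    change e (Ideal.Quotient.mk _ (s' b)) = e (e.symm b)
    rw [AlgEquiv.apply_symm_apply, Ideal.quotientKerAlgEquivOfSurjective_mk, hs']⟩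
  refine ⟨v, fun b => ?_⟩
  have h1 := congrArg (fun g => e (g b)) hv
  change e (Ideal.Quotient.mk _ (v b)) = e (e.symm b) at h1
  rw [AlgEquiv.apply_symm_apply, Ideal.quotientKerAlgEquivOfSurjective_mk] at h1
  exact h1

end Fwd


/-- Discrete case. For ring maps Λ → A → B, B is formally smooth over A relative to Λ (square-zero test
ideals) if and only if every A-extension of B by a B-module L which is Λ-trivial is A-trivial. Λ, A,
B are taken in one universe and L ranges over it. (The published statement is for topological rings;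
this row is its discrete case.) -/
theorem result (Λ A B : Type u) [CommRing Λ]
    [CommRing A] [CommRing B] [Algebra Λ A] [Algebra Λ B] [Algebra A B] [IsScalarTower Λ A B] :
    EGA41.IsFormallySmoothRel Λ A B ↔
      ∀ (L : Type u) [AddCommGroup L] [Module B L] (X : Exal.Ext A B L),
        X.IsTrivialOver Λ → X.IsTrivial := by
  constructor
  · intro hrel L _ _ X htriv
    exact fwd hrel L X htriv
  · intro h C _ _ _ _ J hJ u₀ hu
    obtain ⟨u, hu⟩ := hu
    let E' : Subalgebra A (C × B) :=
      AlgHom.equalizer ((Ideal.Quotient.mkₐ A J).comp (AlgHom.fst A C B)) (u₀.comp (AlgHom.snd A C B))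
    have hmem : ∀ x : C × B, x ∈ E' ↔ Ideal.Quotient.mk J x.1 = u₀ x.2 := fun x => by
      rw [AlgHom.mem_equalizer]; rfl
    let p' : E' →ₐ[A] B := (AlgHom.snd A C B).comp E'.val
    have hp : Function.Surjective p' := fun b => by
      obtain ⟨c, hc⟩ := Ideal.Quotient.mk_surjective (u₀ b)
      exact ⟨⟨(c, b), (hmem _).2 hc⟩, rfl⟩
    have hker : ∀ x : E', x ∈ RingHom.ker p' → x.1.2 = 0 ∧ x.1.1 ∈ J := fun x hx => by
      have h2 : x.1.2 = 0 := hx
      refine ⟨h2, ?_⟩
      have h3 := (hmem x.1).1 x.2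
      rw [h2, map_zero] at h3
      exact Ideal.Quotient.eq_zero_iff_mem.mp h3
    have hsq : ∀ x ∈ RingHom.ker p', ∀ y ∈ RingHom.ker p', x * y = 0 := by
      intro x hx y hy
      obtain ⟨hx2, hx1⟩ := hker x hx
      obtain ⟨hy2, hy1⟩ := hker y hy
      apply Subtype.ext
      apply Prod.ext
      · change x.1.1 * y.1.1 = 0
        have : x.1.1 * y.1.1 ∈ J ^ 2 := by rw [pow_two]; exact Ideal.mul_mem_mul hx1 hy1
        rw [hJ] at this
        exact this
      · change x.1.2 * y.1.2 = 0
        rw [hx2, zero_mul]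
    have hu' : ∀ b : B, Ideal.Quotient.mk J (u b) = u₀ b := fun b => congrArg (fun g => g b) hu
    letI := kerModule p' hp hsq
    have htriv : (extOfSurj p' hp hsq).IsTrivialOver Λ := by
      let s₀ : B →+* E' := (u.toRingHom.prod (RingHom.id B)).codRestrict E'
        (fun b => (hmem _).2 (hu' b))
      let s₁ : B →+* ((extOfSurj p' hp hsq).restrictBase Λ).E := s₀
      refine ⟨{ s₁ with commutes' := fun l => ?_ }, fun b => rfl⟩
      apply Subtype.ext
      apply Prod.ext
      · change u (algebraMap Λ B l) = algebraMap A C (algebraMap Λ A l)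
        rw [u.commutes, ← IsScalarTower.algebraMap_apply]
      · change algebraMap Λ B l = algebraMap A B (algebraMap Λ A l)
        rw [← IsScalarTower.algebraMap_apply]
    obtain ⟨t, ht⟩ := h (RingHom.ker p') (extOfSurj p' hp hsq) htriv
    have ht' : ∀ b : B, (t b : E').1.2 = b := ht
    refine ⟨(AlgHom.fst A C B).comp (E'.val.comp t), ?_⟩
    ext b
    change Ideal.Quotient.mk J (t b : E').1.1 = u₀ b
    rw [(hmem _).1 (t b : E').2, ht']

end Groth.Agent.S5816
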