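import Groth.Statements.S5819
import Groth.Agent.H29.Exal

set_option autoImplicit false
universe u v
open EGA41

namespace Groth.Agent.S5819

open Groth.Agent.H29.ExalL

variable {A : Type u} {B C L : Type v} [CommRing A]
    [CommRing B] [CommRing C] [Algebra A B] [Algebra B C] [Algebra A C] [IsScalarTower A B C]
    [AddCommGroup L] [Module C L] [Module B L] [IsScalarTower B C L]

/-- `Y.E` made a `B`-algebra through a lift `u : B → Y.E` of `B → C` -/
noncomputable def extOfLift (Y : Exal.Ext A C L) (u : B →ₐ[A] Y.E)
    (hu : ∀ b, Y.proj (u b) = algebraMap B C b) : Exal.Ext B C L :=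
  letI : Algebra B Y.E := u.toRingHom.toAlgebra
  { E := Y.E
    proj :=
      { toFun := fun x => Y.proj x
        map_one' := map_one Y.proj
        map_mul' := map_mul Y.proj
        map_zero' := map_zero Y.proj
        map_add' := map_add Y.proj
        commutes' := fun b => hu b }
    incl := Y.incl
    isExtension :=
      { proj_surjective := Y.isExtension.proj_surjective
        incl_injective := Y.isExtension.incl_injective
        exact := Y.isExtension.exact
        mul_incl := Y.isExtension.mul_incl } }


/-- Commutative rings, exactness at Exalcom_A(C, L) on underlying pointed sets. For ring maps A → B → C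
and a C-module L, an A-extension Y of C by L pulls back to a trivial A-extension of B if and only if
Y is equivalent to some B-extension of C by L viewed as an A-extension. -/
theorem result {A : Type u} {B C L : Type v} [CommRing A]
    [CommRing B] [CommRing C] [Algebra A B] [Algebra B C] [Algebra A C] [IsScalarTower A B C]
    [AddCommGroup L] [Module C L] [Module B L] [IsScalarTower B C L]
    (Y : Exal.Ext A C L) :
    (Y.pullback B).IsTrivial ↔
      ∃ X : Exal.Ext B C L, Nonempty ((X.restrictBase A).Equiv Y) := by
  constructor
  · rintro ⟨s, hs⟩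
    have hmem : ∀ b : B, Y.proj (s b).1.1 = algebraMap B C (s b).1.2 := by
      intro b
      have h2 : (s b).1 ∈ Y.fiberProd B := (s b).2
      unfold Exal.Ext.fiberProd at h2
      rw [AlgHom.mem_equalizer] at h2
      exact h2
    have hsnd : ∀ b : B, (s b).1.2 = b := hs
    let u : B →ₐ[A] Y.E := (AlgHom.fst A Y.E B).comp ((Y.fiberProd B).val.comp s)
    have hu : ∀ b, Y.proj (u b) = algebraMap B C b := by
      intro b
      change Y.proj (s b).1.1 = _
      rw [hmem, hsnd]
    refine ⟨extOfLift Y u hu, ⟨⟨{ (RingEquiv.refl Y.E) with commutes' := fun a => ?_ },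
      fun x => rfl, fun z => rfl⟩⟩⟩
    change u (algebraMap A B a) = algebraMap A Y.E a
    exact u.commutes a
  · rintro ⟨X, ⟨e⟩⟩
    have hcomm : ∀ a : A, e.toAlgEquiv (algebraMap B X.E (algebraMap A B a)) = algebraMap A Y.E a :=
      fun a => e.toAlgEquiv.commutes a
    let u : B →ₐ[A] Y.E :=
      { toFun := fun b => e.toAlgEquiv (algebraMap B X.E b)
        map_one' := by rw [map_one]; exact map_one e.toAlgEquiv
        map_mul' := fun b b' => by rw [map_mul]; exact map_mul e.toAlgEquiv _ _
        map_zero' := by rw [map_zero]; exact map_zero e.toAlgEquiv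
        map_add' := fun b b' => by rw [map_add]; exact map_add e.toAlgEquiv _ _
        commutes' := hcomm }
    have hu : ∀ b, Y.proj (u b) = algebraMap B C b := by
      intro b
      change Y.proj (e.toAlgEquiv (algebraMap B X.E b)) = _
      rw [e.proj_apply]
      exact X.proj.commutes b
    refine ⟨AlgHom.codRestrict (AlgHom.prod u (AlgHom.id A B)) _ (fun b => ?_), fun b => rfl⟩
    simp only [Exal.Ext.fiberProd, AlgHom.mem_equalizer]
    simpa using hu b

end Groth.Agent.S5819
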