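import Groth.Statements.S5821
import Groth.Agent.H29.CharHom

set_option autoImplicit false
universe u v
open EGA41

namespace Groth.Agent.S5821

open Groth.Agent.H29.CharHomL TensorProduct KaehlerDifferential in
theorem key {A : Type u} {B : Type v} [CommRing A] [CommRing B] [Algebra A B]
    (K : Ideal B) (x : B) (hx : x ∈ K) :
    (Exal.Ext.infinitesimal K).baseChangeToMiddle A ((1 : B ⧸ K) ⊗ₜ[B] D A B x) =
      (Exal.Ext.infinitesimal K).deltaL A (K.toCotangent ⟨x, hx⟩) := by
  rw [bcm_tmul, KaehlerDifferential.map_D]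
  change _ = (1 : B ⧸ K) ⊗ₜ[(Exal.Ext.infinitesimal K).CharCarrier A]
    D A ((Exal.Ext.infinitesimal K).CharCarrier A)
      (K.cotangentToQuotientSquare (K.toCotangent ⟨x, hx⟩))
  rw [Ideal.toCotangent_to_quotient_square]
  rfl

/-- For a ring map A → B, an ideal K of B, C = B ⧸ K and the B-extension E = B ⧸ K² of C by K/K², if E
is A-trivial then its characteristic homomorphism Υ_{C/B/A} → K/K² is bijective (stated for every
C-linear χ satisfying the defining square, of which there is exactly one). -/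
theorem result {A : Type u} {B : Type v} [CommRing A] [CommRing B] [Algebra A B]
    (K : Ideal B) (hK : (Exal.Ext.infinitesimal K).IsTrivialOver A)
    (χ : ↥(EGA41.imperfection A B (B ⧸ K)) →ₗ[B ⧸ K] K.Cotangent)
    (hχ : (Exal.Ext.infinitesimal K).IsCharHom A χ) :
    Function.Bijective χ := by
  have hinj := Groth.Agent.H29.CharHomL.deltaL_injective A _ hK
  constructor
  · rw [injective_iff_map_eq_zero]
    intro z hz
    obtain ⟨w, hw⟩ :=
      (KaehlerDifferential.exact_kerCotangentToTensor_mapBaseChange A B (B ⧸ K)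
        Ideal.Quotient.mk_surjective z.1).1 z.2
    obtain ⟨⟨y, hy⟩, rfl⟩ := Ideal.toCotangent_surjective _ w
    rw [KaehlerDifferential.kerCotangentToTensor_toCotangent] at hw
    have hx : y ∈ K := Ideal.Quotient.eq_zero_iff_mem.1 (RingHom.mem_ker.1 hy)
    have h1 := hχ z
    rw [hz, map_zero, ← hw, key K y hx] at h1
    have h2 : K.toCotangent ⟨y, hx⟩ = 0 := hinj (by rw [map_zero]; exact h1.symm)
    rw [Ideal.toCotangent_eq_zero] at h2
    have h3 : y ∈ RingHom.ker (algebraMap B (B ⧸ K)) ^ 2 := by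
      rw [Ideal.Quotient.algebraMap_eq, Ideal.mk_ker]
      exact h2
    have h4 : Ideal.toCotangent _ ⟨y, hy⟩ = 0 := (Ideal.toCotangent_eq_zero _ ⟨y, hy⟩).2 h3
    apply Subtype.ext
    rw [Submodule.coe_zero, ← hw]
    change KaehlerDifferential.kerCotangentToTensor A B (B ⧸ K) (Ideal.toCotangent _ ⟨y, hy⟩) = 0
    rw [h4, map_zero]
  · intro k
    obtain ⟨⟨x, hx⟩, rfl⟩ := K.toCotangent_surjective k
    have hmem : (1 : B ⧸ K) ⊗ₜ[B] KaehlerDifferential.D A B x ∈ EGA41.imperfection A B (B ⧸ K) := by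
      change KaehlerDifferential.mapBaseChange A B (B ⧸ K) _ = 0
      rw [KaehlerDifferential.mapBaseChange_tmul, KaehlerDifferential.map_D, one_smul,
        Ideal.Quotient.algebraMap_eq, Ideal.Quotient.eq_zero_iff_mem.2 hx, map_zero]
    refine ⟨⟨_, hmem⟩, ?_⟩
    apply hinj
    rw [hχ, key K x hx]

end Groth.Agent.S5821
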