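import Groth.Statements.S5822
import Groth.Agent.H29.CharHom4
import Mathlib.Algebra.Module.Injective

set_option autoImplicit false
universe u v
open scoped TensorProduct
open EGA41

namespace Groth.Agent.S5822

theorem exists_factor_range {R M N Q : Type*} [CommRing R] [AddCommGroup M] [AddCommGroup N]
    [AddCommGroup Q] [Module R M] [Module R N] [Module R Q] (f : M →ₗ[R] N) (δ : M →ₗ[R] Q)
    (h : ∀ t, f t = 0 → δ t = 0) :
    ∃ ψ : LinearMap.range f →ₗ[R] Q, ∀ (t : M) (ht : f t ∈ LinearMap.range f), ψ ⟨f t, ht⟩ = δ t := by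
  refine ⟨((LinearMap.ker f).liftQ δ (fun t ht => h t ht)).comp
    (f.quotKerEquivRange.symm : LinearMap.range f →ₗ[R] M ⧸ LinearMap.ker f), fun t ht => ?_⟩
  rw [LinearMap.comp_apply, LinearEquiv.coe_coe, LinearMap.quotKerEquivRange_symm_apply_image]
  rfl

/-- Injectivity. For ring maps A → B → C and a C-module L, assume (i) L is an injective C-module, or
(ii) Υ_{C/B/A} is a direct summand of C ⊗_B Ω_{B/A} and Ω_{C/A} → Ω_{C/B} has a right inverse. Then
two A-trivial B-extensions of C by L with a common characteristic homomorphism are equivalent: the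
map from classes of A-trivial extensions to Hom_C(Υ_{C/B/A}, L) is injective. -/
theorem result {A : Type u} {B C L : Type v} [CommRing A] [CommRing B] [CommRing C]
    [Algebra A B] [Algebra B C] [Algebra A C] [IsScalarTower A B C] [AddCommGroup L] [Module C L]
    (h : Module.Injective C L ∨
      ((∃ r : C ⊗[B] Ω[B⁄A] →ₗ[C] ↥(EGA41.imperfection A B C), ∀ z : ↥(EGA41.imperfection A B C), r z = z) ∧
        ∃ s : Ω[C⁄B] →ₗ[C] Ω[C⁄A], ∀ ω : Ω[C⁄B], KaehlerDifferential.map A B C C (s ω) = ω))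
    (X Y : Exal.Ext B C L) (hX : X.IsTrivialOver A) (hY : Y.IsTrivialOver A)
    (χ : ↥(EGA41.imperfection A B C) →ₗ[C] L) (hXχ : X.IsCharHom A χ) (hYχ : Y.IsCharHom A χ) :
    Nonempty (X.Equiv Y) := by
  obtain ⟨gX, hgX⟩ := Groth.Agent.H29.CharHomL.exists_section A X hX
  obtain ⟨gY, hgY⟩ := Groth.Agent.H29.CharHomL.exists_section A Y hY
  have hθX := (Groth.Agent.H29.CharHomL.isCharHom_iff A X gX hgX χ).1 hXχ
  have hθY := (Groth.Agent.H29.CharHomL.isCharHom_iff A Y gY hgY χ).1 hYχ
  let δ : C ⊗[B] Ω[B⁄A] →ₗ[C] L :=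
    Groth.Agent.H29.CharHomL.theta A Y gY hgY - Groth.Agent.H29.CharHomL.theta A X gX hgX
  have hδ : ∀ t, KaehlerDifferential.mapBaseChange A B C t = 0 → δ t = 0 := fun t ht => by
    have h1 := hθX ⟨t, ht⟩
    have h2 := hθY ⟨t, ht⟩
    change Groth.Agent.H29.CharHomL.theta A Y gY hgY t -
      Groth.Agent.H29.CharHomL.theta A X gX hgX t = 0
    rw [← h1, ← h2, sub_self]
  obtain ⟨ψ, hψ⟩ := exists_factor_range (KaehlerDifferential.mapBaseChange A B C) δ hδ
  have hφ : ∃ φ : Ω[C⁄A] →ₗ[C] L, ∀ t, φ (KaehlerDifferential.mapBaseChange A B C t) = δ t := by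
    rcases h with hinj | ⟨_, ⟨s, hs⟩⟩
    · obtain ⟨φ, hφ⟩ := Module.Injective.extension_property C L
        (↥(LinearMap.range (KaehlerDifferential.mapBaseChange A B C))) (Ω[C⁄A])
        (LinearMap.range (KaehlerDifferential.mapBaseChange A B C)).subtype
        Subtype.val_injective ψ
      refine ⟨φ, fun t => ?_⟩
      have := LinearMap.congr_fun hφ ⟨_, LinearMap.mem_range_self _ t⟩
      rw [← hψ t (LinearMap.mem_range_self _ t), ← this]
      rfl
    · have hmem : ∀ ω : Ω[C⁄A], ω - s (KaehlerDifferential.map A B C C ω) ∈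
          LinearMap.range (KaehlerDifferential.mapBaseChange A B C) := fun ω => by
        rw [KaehlerDifferential.range_mapBaseChange, LinearMap.mem_ker, map_sub, hs, sub_self]
      let π : Ω[C⁄A] →ₗ[C] LinearMap.range (KaehlerDifferential.mapBaseChange A B C) :=
        (LinearMap.id - s.comp (KaehlerDifferential.map A B C C)).codRestrict _ hmem
      refine ⟨ψ.comp π, fun t => ?_⟩
      rw [LinearMap.comp_apply, ← hψ t (LinearMap.mem_range_self _ t)]
      congr 1
      apply Subtype.ext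
      change KaehlerDifferential.mapBaseChange A B C t -
        s (KaehlerDifferential.map A B C C (KaehlerDifferential.mapBaseChange A B C t)) = _
      rw [(KaehlerDifferential.exact_mapBaseChange_map A B C _).2 ⟨t, rfl⟩, map_zero, sub_zero]
  obtain ⟨φ, hφ⟩ := hφ
  refine ⟨Groth.Agent.H29.CharHomL.equivOfThetaEq A X gX hgX Y
    (Groth.Agent.H29.CharHomL.modSection A Y gY hgY φ)
    (Groth.Agent.H29.CharHomL.modSection_comp A Y gY hgY φ) (fun b => ?_)⟩
  rw [← Groth.Agent.H29.CharHomL.kap_algebraMap, ← Groth.Agent.H29.CharHomL.kap_algebraMap,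
    Groth.Agent.H29.CharHomL.kap_modSection, Groth.Agent.H29.CharHomL.kap_algebraMap,
    Groth.Agent.H29.CharHomL.kap_algebraMap, ← IsScalarTower.algebraMap_apply]
  have h3 : φ (KaehlerDifferential.D A C (algebraMap B C b)) =
      δ ((1 : C) ⊗ₜ[B] KaehlerDifferential.D A B b) := by
    rw [← hφ, KaehlerDifferential.mapBaseChange_tmul, one_smul, KaehlerDifferential.map_D]
  rw [h3]
  change _ = _ - (Groth.Agent.H29.CharHomL.theta A Y gY hgY _ -
      Groth.Agent.H29.CharHomL.theta A X gX hgX _)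
  abel

end Groth.Agent.S5822
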