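import Groth.Statements.S5823
import Groth.Agent.H29.CharHom3
import Mathlib.Algebra.Module.Injective

set_option autoImplicit false
universe u v
open scoped TensorProduct
open EGA41

namespace Groth.Agent.S5823


/-- Surjectivity. For ring maps A → B → C and a C-module L, assume (i) L is an injective C-module, or
(ii) Υ_{C/B/A} is a direct summand of C ⊗_B Ω_{B/A} and Ω_{C/A} → Ω_{C/B} has a right inverse. Then
every C-linear map Υ_{C/B/A} → L is the characteristic homomorphism of an A-trivial B-extension of C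
by L. -/
theorem result {A : Type u} {B C L : Type v} [CommRing A] [CommRing B] [CommRing C]
    [Algebra A B] [Algebra B C] [Algebra A C] [IsScalarTower A B C] [AddCommGroup L] [Module C L]
    (h : Module.Injective C L ∨
      ((∃ r : C ⊗[B] Ω[B⁄A] →ₗ[C] ↥(EGA41.imperfection A B C), ∀ z : ↥(EGA41.imperfection A B C), r z = z) ∧
        ∃ s : Ω[C⁄B] →ₗ[C] Ω[C⁄A], ∀ ω : Ω[C⁄B], KaehlerDifferential.map A B C C (s ω) = ω))
    (χ : ↥(EGA41.imperfection A B C) →ₗ[C] L) :
    ∃ X : Exal.Ext B C L, X.IsTrivialOver A ∧ X.IsCharHom A χ := by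
  have hext : ∃ χ' : C ⊗[B] Ω[B⁄A] →ₗ[C] L,
      ∀ z : ↥(EGA41.imperfection A B C), χ' z = χ z := by
    rcases h with hinj | ⟨⟨r, hr⟩, _⟩
    · obtain ⟨χ', hχ'⟩ := Module.Injective.extension_property C L
        (↥(EGA41.imperfection A B C)) (C ⊗[B] Ω[B⁄A])
        (EGA41.imperfection A B C).subtype Subtype.val_injective χ
      exact ⟨χ', fun z => LinearMap.congr_fun hχ' z⟩
    · exact ⟨χ.comp r, fun z => by rw [LinearMap.comp_apply, hr]⟩
  obtain ⟨χ', hχ'⟩ := hext
  let _ : Module B L := Module.compHom L (algebraMap B C)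
  have : IsScalarTower B C L := ⟨fun b c z => by
    change (b • c) • z = algebraMap B C b • c • z
    rw [Algebra.smul_def, mul_smul]⟩
  let _ : Module A L := Module.compHom L (algebraMap A C)
  have : IsScalarTower A B L := ⟨fun a b z => by
    change algebraMap B C (a • b) • z = algebraMap A C a • algebraMap B C b • z
    rw [Algebra.smul_def, map_mul, ← IsScalarTower.algebraMap_apply, mul_smul]⟩
  let ι : Ω[B⁄A] →ₗ[B] L := (χ'.restrictScalars B).comp (TensorProduct.mk B C Ω[B⁄A] 1)
  let D₀ : Derivation A B L := ι.compDer (KaehlerDifferential.D A B)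
  refine ⟨Exal.Ext.ofDerivation (C := C) D₀,
    Groth.Agent.H29.CharHomL.isTrivialOver_ofDerivation A D₀, ?_⟩
  rw [Groth.Agent.H29.CharHomL.isCharHom_iff A _ (Groth.Agent.H29.CharHomL.secDer A D₀)
    (Groth.Agent.H29.CharHomL.secDer_comp A D₀)]
  intro z
  rw [← hχ' z]
  refine Groth.Agent.H29.CharHomL.addHom_ext_tmul_D A χ'.toAddMonoidHom
    (Groth.Agent.H29.CharHomL.theta A _ (Groth.Agent.H29.CharHomL.secDer A D₀)
      (Groth.Agent.H29.CharHomL.secDer_comp A D₀)).toAddMonoidHom (fun c b => ?_) z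
  change χ' (c ⊗ₜ[B] KaehlerDifferential.D A B b) = Groth.Agent.H29.CharHomL.theta A _ _ _ _
  rw [Groth.Agent.H29.CharHomL.theta_ofDerivation]
  change _ = c • χ' ((1 : C) ⊗ₜ[B] KaehlerDifferential.D A B b)
  rw [← map_smul, TensorProduct.smul_tmul', smul_eq_mul, mul_one]

end Groth.Agent.S5823
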