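import Groth.Statements.S5824
import Groth.Agent.S5822
import Groth.Agent.S5823
import Mathlib.RingTheory.Smooth.Basic
import Mathlib.Algebra.Module.Projective

set_option autoImplicit false
universe u v
open EGA41

namespace Groth.Agent.S5824

open TensorProduct

/-- For ring maps A → B → C with C formally smooth over A (discrete topologies) and Ω_{C/B} a projective
C-module, and a C-module L, the characteristic homomorphism is a bijection from the classes of all
B-extensions of C by L (each of which is A-trivial) onto Hom_C(Υ_{C/B/A}, L): injectivity on classes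
and surjectivity. -/
theorem result {A : Type u} {B C L : Type v} [CommRing A] [CommRing B] [CommRing C]
    [Algebra A B] [Algebra B C] [Algebra A C] [IsScalarTower A B C] [AddCommGroup L] [Module C L]
    [Algebra.FormallySmooth A C] [Module.Projective C Ω[C⁄B]] :
    (∀ (X Y : Exal.Ext B C L) (χ : ↥(EGA41.imperfection A B C) →ₗ[C] L),
        X.IsCharHom A χ → Y.IsCharHom A χ → Nonempty (X.Equiv Y)) ∧
      ∀ χ : ↥(EGA41.imperfection A B C) →ₗ[C] L, ∃ X : Exal.Ext B C L, X.IsCharHom A χ := by
  have htriv : ∀ X : Exal.Ext B C L, X.IsTrivialOver A := fun X => by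
    have hp := (X.restrictBase A).isExtension.proj_surjective
    have hnil : IsNilpotent (RingHom.ker ((X.restrictBase A).proj : (X.restrictBase A).E →+* C)) := by
      refine ⟨2, ?_⟩
      rw [Ideal.zero_eq_bot, eq_bot_iff, pow_two, Ideal.mul_le]
      intro x hx y hy
      obtain ⟨z, rfl⟩ := ((X.restrictBase A).isExtension.exact x).1 hx
      obtain ⟨z', rfl⟩ := ((X.restrictBase A).isExtension.exact y).1 hy
      rw [Ideal.mem_bot]
      exact Groth.Agent.H29.ExalL.incl_mul_incl _ z z'
    exact ⟨Algebra.FormallySmooth.liftOfSurjective (AlgHom.id A C) _ hp hnil,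
      fun c => Algebra.FormallySmooth.liftOfSurjective_apply _ _ hp hnil c⟩
  obtain ⟨s, hs⟩ : ∃ s : Ω[C⁄B] →ₗ[C] Ω[C⁄A],
      ∀ ω, KaehlerDifferential.map A B C C (s ω) = ω := by
    obtain ⟨s, hs⟩ := Module.projective_lifting_property (KaehlerDifferential.map A B C C)
      LinearMap.id (KaehlerDifferential.map_surjective A B C)
    exact ⟨s, fun ω => LinearMap.congr_fun hs ω⟩
  have hr : ∃ r : C ⊗[B] Ω[B⁄A] →ₗ[C] ↥(EGA41.imperfection A B C),
      ∀ z : ↥(EGA41.imperfection A B C), r z = z := by
    let f := KaehlerDifferential.mapBaseChange A B C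
    have hmem : ∀ ω : Ω[C⁄A], ω - s (KaehlerDifferential.map A B C C ω) ∈ LinearMap.range f :=
      fun ω => by
        rw [KaehlerDifferential.range_mapBaseChange, LinearMap.mem_ker, map_sub, hs, sub_self]
    let π : Ω[C⁄A] →ₗ[C] LinearMap.range f :=
      (LinearMap.id - s.comp (KaehlerDifferential.map A B C C)).codRestrict _ hmem
    have hπ : π.comp (LinearMap.range f).subtype = LinearMap.id := by
      ext ⟨ω, hω⟩
      rw [KaehlerDifferential.range_mapBaseChange, LinearMap.mem_ker] at hω
      change ω - s (KaehlerDifferential.map A B C C ω) = ω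
      rw [hω, map_zero, sub_zero]
    have : Module.Projective C (LinearMap.range f) :=
      Module.Projective.of_split (LinearMap.range f).subtype π hπ
    obtain ⟨j, hj⟩ := Module.projective_lifting_property f.rangeRestrict LinearMap.id
      f.surjective_rangeRestrict
    have hj' : ∀ y, f (j y) = y.1 := fun y =>
      congrArg Subtype.val (LinearMap.congr_fun hj y)
    have hmem2 : ∀ t, ((LinearMap.id - j.comp f.rangeRestrict :
        C ⊗[B] Ω[B⁄A] →ₗ[C] C ⊗[B] Ω[B⁄A])) t ∈ EGA41.imperfection A B C :=
      fun t => by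
        change f (t - j (f.rangeRestrict t)) = 0
        rw [map_sub, hj']
        exact sub_self _
    refine ⟨(LinearMap.id - j.comp f.rangeRestrict).codRestrict (EGA41.imperfection A B C)
      hmem2, fun z => ?_⟩
    apply Subtype.ext
    change z.1 - j (f.rangeRestrict z.1) = z.1
    have hz : f.rangeRestrict z.1 = 0 := Subtype.ext z.2
    rw [hz, map_zero, sub_zero]
  have hyp : Module.Injective C L ∨
      ((∃ r : C ⊗[B] Ω[B⁄A] →ₗ[C] ↥(EGA41.imperfection A B C),
          ∀ z : ↥(EGA41.imperfection A B C), r z = z) ∧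
        ∃ s : Ω[C⁄B] →ₗ[C] Ω[C⁄A], ∀ ω : Ω[C⁄B], KaehlerDifferential.map A B C C (s ω) = ω) :=
    Or.inr ⟨hr, s, hs⟩
  exact ⟨fun X Y χ hX hY => Groth.Agent.S5822.result hyp X Y (htriv X) (htriv Y) χ hX hY,
    fun χ => by
      obtain ⟨X, _, hX⟩ := Groth.Agent.S5823.result hyp χ
      exact ⟨X, hX⟩⟩

end Groth.Agent.S5824
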