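import Groth.Statements.S5825
import Groth.Agent.H29.TopModL
import Mathlib.Tactic.Abel

set_option autoImplicit false
universe u v w
open EGA41

namespace Groth.Agent.S5825

open Groth.Agent.H29.TopModL

/-- Let A be a topological ring, M, N topological A-modules with the topologies deduced from that of A,
and u : M → N a continuous linear map with dense image (a formal epimorphism). Then u is a formal
bimorphism (dense image and inducing) if and only if, for every open ideal J of A, the induced map
M/JM → N/JN is bijective (injectivity and surjectivity are written out elementwise). -/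
theorem result {A : Type u} {M : Type v} {N : Type w} [CommRing A]
    [TopologicalSpace A] [AddCommGroup M] [Module A M] [TopologicalSpace M] [AddCommGroup N] [Module A N]
    [TopologicalSpace N] (hM : TopMod.IsDeduced A M) (hN : TopMod.IsDeduced A N) (u : M →L[A] N)
    (hu : DenseRange u) :
    IsDenseInducing u ↔
      ∀ J : Ideal A, IsOpen (J : Set A) →
        (∀ x : M, u x ∈ (J • ⊤ : Submodule A N) → x ∈ (J • ⊤ : Submodule A M)) ∧
          ∀ y : N, ∃ x : M, y - u x ∈ (J • ⊤ : Submodule A N) := by
  have hMg := hM.1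
  have hNg := hN.1
  have hdense : ∀ J : Ideal A, IsOpen (J : Set A) →
      ∀ y : N, ∃ x : M, y - u x ∈ (J • ⊤ : Submodule A N) := by
    intro J hJ y
    have hs : {n : N | y - n ∈ (J • ⊤ : Submodule A N)} ∈ nhds y := by
      have hc : ContinuousAt (fun n : N => y - n) y :=
        (continuous_const.sub continuous_id).continuousAt
      apply hc.preimage_mem_nhds
      rw [sub_self]
      exact smul_top_mem_nhds hN J hJ
    obtain ⟨x, hx⟩ := hu.mem_nhds hs
    exact ⟨x, hx⟩
  have happrox : ∀ J J' : Ideal A, IsOpen (J' : Set A) →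
      ∀ n ∈ (J • ⊤ : Submodule A N), ∃ m ∈ (J • ⊤ : Submodule A M),
        n - u m ∈ (J' • ⊤ : Submodule A N) := by
    intro J J' hJ' n hn
    refine Submodule.smul_induction_on hn (fun j hj n' _ => ?_) (fun a b ha hb => ?_)
    · obtain ⟨m', hm'⟩ := hdense J' hJ' n'
      refine ⟨j • m', Submodule.smul_mem_smul hj trivial, ?_⟩
      rw [map_smul, ← smul_sub]
      exact Submodule.smul_mem _ _ hm'
    · obtain ⟨ma, hma, ha'⟩ := ha
      obtain ⟨mb, hmb, hb'⟩ := hb
      refine ⟨ma + mb, add_mem hma hmb, ?_⟩
      rw [map_add]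
      have h3 := add_mem ha' hb'
      have h4 : a + b - (u ma + u mb) = a - u ma + (b - u mb) := by abel
      rw [h4]
      exact h3
  constructor
  · intro hind J hJ
    refine ⟨fun x hx => ?_, hdense J hJ⟩
    have h1 : ((J • ⊤ : Submodule A M) : Set M) ∈ nhds (0 : M) := smul_top_mem_nhds hM J hJ
    rw [IsTopologicalAddGroup.isInducing_iff_nhds_zero.1 hind.toIsInducing, Filter.mem_comap] at h1
    obtain ⟨V, hV, hVsub⟩ := h1
    obtain ⟨J', hJ', hJ'V⟩ := hN.2.mem_iff.1 hV
    obtain ⟨m, hm, hm'⟩ := happrox J J' hJ' (u x) hx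
    have h2 : x - m ∈ (J • ⊤ : Submodule A M) := hVsub (by
      change u (x - m) ∈ V
      rw [map_sub]
      exact hJ'V hm')
    have h3 := add_mem h2 hm
    rwa [sub_add_cancel] at h3
  · intro h
    refine ⟨IsTopologicalAddGroup.isInducing_iff_nhds_zero.2 ?_, hu⟩
    apply le_antisymm
    · rw [← Filter.map_le_iff_le_comap]
      have h1 := u.continuous.tendsto 0
      rwa [map_zero] at h1
    · intro S hS
      obtain ⟨J, hJ, hJS⟩ := hM.2.mem_iff.1 hS
      rw [Filter.mem_comap]
      exact ⟨_, smul_top_mem_nhds hN J hJ, fun x hx => hJS ((h J hJ).1 x hx)⟩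

end Groth.Agent.S5825
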