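import Groth.Statements.S5826
import Groth.Agent.H29.TopModL

set_option autoImplicit false
universe u v w
open EGA41

namespace Groth.Agent.S5826

open Groth.Agent.H29.TopModL

/-- Let A be a topological ring, M, N topological A-modules with the topologies deduced from that of A,
u : M → N a continuous linear map. Then u is formally left invertible if and only if, for every open
ideal J of A, the induced map M/JM → N/JN is left invertible, i.e. some linear map N → M/JM composes
with u to the projection M → M/JM. -/
theorem result {A : Type u} {M : Type v} {N : Type w}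
    [CommRing A] [TopologicalSpace A] [AddCommGroup M] [Module A M] [TopologicalSpace M] [AddCommGroup N]
    [Module A N] [TopologicalSpace N] (hM : TopMod.IsDeduced A M) (hN : TopMod.IsDeduced A N)
    (u : M →L[A] N) :
    TopMod.IsFormallyLeftInvertible u ↔
      ∀ J : Ideal A, IsOpen (J : Set A) →
        ∃ w : N →ₗ[A] M ⧸ (J • ⊤ : Submodule A M), ∀ x : M, w (u x) = Submodule.Quotient.mk x := by
  constructor
  · intro h J hJ
    have hcont : Continuous (DQ.mkL A M J) :=
      continuous_of_kills hM J hJ (DQ.mkL A M J) (DQ.mkL_eq_zero A M J)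
    obtain ⟨w, hw⟩ := h (DQ A M J) ⟨DQ.mkL A M J, hcont⟩
    exact ⟨w.toLinearMap, hw⟩
  · intro h E _ _ _ _ v
    obtain ⟨J, hJ, hJv⟩ := exists_kills hM v
    obtain ⟨w₀, hw₀⟩ := h J hJ
    let vbar : M ⧸ (J • ⊤ : Submodule A M) →ₗ[A] E :=
      Submodule.liftQ _ v.toLinearMap (fun x hx => hJv x hx)
    have hwcont : Continuous (vbar.comp w₀) :=
      continuous_of_kills hN J hJ (vbar.comp w₀) (fun n hn => by
        rw [LinearMap.comp_apply, map_smul_top_quotient J w₀ n hn, map_zero])
    refine ⟨⟨vbar.comp w₀, hwcont⟩, fun x => ?_⟩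
    change vbar (w₀ (u x)) = v x
    rw [hw₀]
    rfl

end Groth.Agent.S5826
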