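import Groth.Statements.S5828
import Groth.Agent.H29.Exal
import Mathlib.Tactic.LinearCombination
import Mathlib.Tactic.Ring

set_option autoImplicit false
universe u v
open EGA41

namespace Groth.Agent.S5828

open Groth.Agent.H29.ExalL

variable {A : Type u} {C L : Type v} [CommRing A] [CommRing C] [Algebra A C]
    [AddCommGroup L] [Module C L] [Module A L] [IsScalarTower A C L]

/-- the algebra endomorphism `x ↦ x + i (D (p x))` -/
noncomputable def shear (X : Exal.Ext A C L) (D : Derivation A C L) : X.E →ₐ[A] X.E where
  toFun x := x + X.incl (D (X.proj x))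
  map_one' := by
    rw [map_one, Derivation.map_one_eq_zero, map_zero, add_zero]
  map_mul' x y := by
    rw [map_mul, Derivation.leibniz, map_add, add_mul, mul_add, mul_add, incl_mul_incl, add_zero,
      X.isExtension.mul_incl, mul_incl']
    abel
  map_zero' := by
    rw [map_zero, map_zero, map_zero, add_zero]
  map_add' x y := by
    rw [map_add, map_add, map_add]
    abel
  commutes' a := by
    rw [AlgHom.commutes, Derivation.map_algebraMap, map_zero, add_zero]

theorem shear_apply (X : Exal.Ext A C L) (D : Derivation A C L) (x : X.E) :
    shear X D x = x + X.incl (D (X.proj x)) := rfl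

theorem proj_shear (X : Exal.Ext A C L) (D : Derivation A C L) (x : X.E) :
    X.proj (shear X D x) = X.proj x := by
  rw [shear_apply, map_add, proj_incl, add_zero]

theorem shear_neg_shear (X : Exal.Ext A C L) (D : Derivation A C L) (x : X.E) :
    shear X (-D) (shear X D x) = x := by
  rw [shear_apply, proj_shear, shear_apply, Derivation.neg_apply, map_neg]
  abel

noncomputable def shearEquiv (X : Exal.Ext A C L) (D : Derivation A C L) : X.E ≃ₐ[A] X.E :=
  AlgEquiv.ofAlgHom (shear X D) (shear X (-D))
    (by
      ext x
      have := shear_neg_shear X (-D) x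
      rw [neg_neg] at this
      exact this)
    (by
      ext x
      exact shear_neg_shear X D x)

theorem exists_equiv_of_derivation (X : Exal.Ext A C L) (D : Derivation A C L) :
    ∃ e : X.Equiv X, ∀ x : X.E, e.toAlgEquiv x = x + X.incl (D (X.proj x)) := by
  refine ⟨⟨shearEquiv X D, fun x => proj_shear X D x, fun z => ?_⟩, fun x => rfl⟩
  change shear X D (X.incl z) = X.incl z
  rw [shear_apply, proj_incl, map_zero, map_zero, add_zero]

theorem proj_diff (X : Exal.Ext A C L) (e : X.Equiv X) (x : X.E) :
    X.proj (e.toAlgEquiv x - x) = 0 := by
  rw [map_sub, e.proj_apply, sub_self]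

/-- the function underlying the derivation attached to a self-equivalence -/
noncomputable def derFun (X : Exal.Ext A C L) (e : X.Equiv X) (c : C) : L :=
  X.kerLift (e.toAlgEquiv (Function.surjInv X.isExtension.proj_surjective c) -
    Function.surjInv X.isExtension.proj_surjective c) (proj_diff X e _)

theorem incl_derFun (X : Exal.Ext A C L) (e : X.Equiv X) (x : X.E) :
    X.incl (derFun X e (X.proj x)) = e.toAlgEquiv x - x := by
  unfold derFun
  rw [X.incl_kerLift]
  set y := Function.surjInv X.isExtension.proj_surjective (X.proj x) with hy
  have hyx : X.proj y = X.proj x := Function.surjInv_eq X.isExtension.proj_surjective (X.proj x)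
  obtain ⟨z, hz⟩ := exists_incl_of_proj_eq X hyx
  have : y = x + X.incl z := by rw [hz]; abel
  rw [this, map_add, e.apply_incl]
  abel

theorem incl_derFun' (X : Exal.Ext A C L) (e : X.Equiv X) (x : X.E) (c : C) (h : X.proj x = c) :
    X.incl (derFun X e c) = e.toAlgEquiv x - x := by
  subst h; exact incl_derFun X e x

noncomputable def derOf (X : Exal.Ext A C L) (e : X.Equiv X) : Derivation A C L where
  toFun := derFun X e
  map_add' c c' := by
    apply X.isExtension.incl_injective
    obtain ⟨x, rfl⟩ := X.isExtension.proj_surjective c
    obtain ⟨x', rfl⟩ := X.isExtension.proj_surjective c'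
    rw [← map_add X.proj, incl_derFun, map_add X.incl, incl_derFun, incl_derFun, map_add]
    abel
  map_smul' a c := by
    apply X.isExtension.incl_injective
    obtain ⟨x, rfl⟩ := X.isExtension.proj_surjective c
    rw [← map_smul, incl_derFun, RingHom.id_apply, incl_smul, incl_derFun, map_smul, smul_sub]
  map_one_eq_zero' := by
    apply X.isExtension.incl_injective
    change X.incl (derFun X e 1) = X.incl 0
    rw [incl_derFun' X e 1 1 (map_one _), map_one, sub_self, map_zero]
  leibniz' c c' := by
    apply X.isExtension.incl_injective
    obtain ⟨x, rfl⟩ := X.isExtension.proj_surjective c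
    obtain ⟨x', rfl⟩ := X.isExtension.proj_surjective c'
    change X.incl (derFun X e (X.proj x * X.proj x')) =
      X.incl (X.proj x • derFun X e (X.proj x') + X.proj x' • derFun X e (X.proj x))
    rw [← map_mul, incl_derFun, map_add, ← X.isExtension.mul_incl, ← X.isExtension.mul_incl,
      incl_derFun, incl_derFun, map_mul]
    have h1 : e.toAlgEquiv x = x + X.incl (derFun X e (X.proj x)) := by rw [incl_derFun]; abel
    have h2 : e.toAlgEquiv x' = x' + X.incl (derFun X e (X.proj x')) := by rw [incl_derFun]; abel
    have h3 : (e.toAlgEquiv x - x) * (e.toAlgEquiv x' - x') = 0 := by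
      rw [← incl_derFun, ← incl_derFun, incl_mul_incl]
    linear_combination h3

theorem derOf_apply (X : Exal.Ext A C L) (e : X.Equiv X) (c : C) : derOf X e c = derFun X e c := rfl


/-- Commutative case. For an A-extension X of C by a C-module L, with middle ring E, projection p and
inclusion i, the A-derivations D : C → L and the self-equivalences of X correspond under D ↦ (x ↦ x
+ i (D (p x))): every derivation defines a self-equivalence with this formula, and every
self-equivalence is of this form for exactly one derivation. (Bijection of sets; the published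
statement also records compatibility with the group laws.) -/
theorem result {A : Type u} {C L : Type v} [CommRing A] [CommRing C] [Algebra A C]
    [AddCommGroup L] [Module C L] [Module A L] [IsScalarTower A C L] (X : Exal.Ext A C L) :
    (∀ D : Derivation A C L, ∃ e : X.Equiv X, ∀ x : X.E, e.toAlgEquiv x = x + X.incl (D (X.proj x))) ∧
      ∀ e : X.Equiv X, ∃! D : Derivation A C L, ∀ x : X.E, e.toAlgEquiv x = x + X.incl (D (X.proj x)) := by
  refine ⟨fun D => exists_equiv_of_derivation X D, fun e => ⟨derOf X e, fun x => ?_, fun D' hD' => ?_⟩⟩
  · rw [derOf_apply, incl_derFun]; abel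
  · ext c
    obtain ⟨x, rfl⟩ := X.isExtension.proj_surjective c
    apply X.isExtension.incl_injective
    rw [derOf_apply, incl_derFun, hD' x]
    abel

end Groth.Agent.S5828
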