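import Groth.Statements.S5829
import Mathlib.Topology.Algebra.Group.Basic
import Mathlib.Topology.Algebra.Ring.Basic

set_option autoImplicit false
universe u v w
open EGA41

namespace Groth.Agent.S5829


/-- Commutative case. Let B be a topological A-algebra in which the square of every open ideal is open,
and L a discrete B-module killed by an open ideal of B. Then every A-derivation B → L is continuous:
the submodule of continuous derivations is everything. (The topology of A is irrelevant and is not
assumed.) -/
theorem result {A : Type u} {B : Type v} {L : Type w} [CommRing A] [CommRing B]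
    [Algebra A B] [AddCommGroup L] [Module A L] [Module B L] [IsScalarTower A B L] [TopologicalSpace B]
    [IsTopologicalRing B] [TopologicalSpace L] [DiscreteTopology L] [ContinuousAdd L] [ContinuousConstSMul B L]
    (hsq : ∀ I : Ideal B, IsOpen (I : Set B) → IsOpen ((I ^ 2 : Ideal B) : Set B))
    (K : Ideal B) (hK : IsOpen (K : Set B)) (hKL : ∀ x ∈ K, ∀ z : L, x • z = 0) :
    TopMod.DerCont A B L = ⊤ := by
  rw [eq_top_iff]
  intro D _
  change Continuous D
  have hK2 : ∀ x ∈ K ^ 2, D x = 0 := by
    intro x hx
    rw [pow_two] at hx
    refine Submodule.mul_induction_on hx (fun a ha b hb => ?_) (fun a b ha hb => ?_)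
    · rw [Derivation.leibniz, hKL a ha, hKL b hb, add_zero]
    · rw [map_add, ha, hb, add_zero]
  have hopen : IsOpen ((K ^ 2 : Ideal B) : Set B) := hsq K hK
  rw [continuous_iff_continuousAt]
  intro b
  rw [ContinuousAt, nhds_discrete L]
  rw [Filter.tendsto_pure]
  have hmem : (fun y => b + y) '' ((K ^ 2 : Ideal B) : Set B) ∈ nhds b := by
    have h1 : IsOpen ((fun y => b + y) '' ((K ^ 2 : Ideal B) : Set B)) :=
      (Homeomorph.addLeft b).isOpenMap _ hopen
    exact h1.mem_nhds ⟨0, (K ^ 2).zero_mem, add_zero b⟩
  refine Filter.mem_of_superset hmem ?_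
  rintro _ ⟨y, hy, rfl⟩
  change D (b + y) = D b
  rw [map_add, hK2 y hy, add_zero]

end Groth.Agent.S5829
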