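import Groth.Statements.S5830
import Mathlib.Tactic.Abel
import Mathlib.Tactic.Ring

set_option autoImplicit false
universe u v
open EGA41

namespace Groth.Agent.S5830

set_option linter.unusedSectionVars false
section
variable {A : Type u} {B : Type v} [CommRing A] [CommRing B]
    [Algebra A B] {L : Type v} [AddCommGroup L] [Module B L] [Module A L]
    [IsScalarTower A B L]

/-- the underlying type of the Hochschild extension -/
@[nolint unusedArguments]
def HExt (_f : B →ₗ[A] B →ₗ[A] L) : Type v := B × L

variable (f : B →ₗ[A] B →ₗ[A] L)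

instance : AddCommGroup (HExt f) := inferInstanceAs (AddCommGroup (B × L))
instance : Module A (HExt f) := inferInstanceAs (Module A (B × L))

/-- first projection -/
def HExt.p (x : HExt f) : B := Prod.fst (α := B) (β := L) x
/-- second projection -/
def HExt.q (x : HExt f) : L := Prod.snd (α := B) (β := L) x
/-- constructor -/
def HExt.mk (b : B) (z : L) : HExt f := ((b, z) : B × L)

theorem HExt.ext' {x y : HExt f} (h1 : x.p = y.p) (h2 : x.q = y.q) : x = y :=
  Prod.ext (α := B) (β := L) h1 h2

instance : Mul (HExt f) := ⟨fun x y => HExt.mk f (x.p * y.p) (x.p • y.q + y.p • x.q + f x.p y.p)⟩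
instance : One (HExt f) := ⟨HExt.mk f (1 : B) (- f 1 1)⟩

theorem p_mul (x y : HExt f) : (x * y).p = x.p * y.p := rfl
theorem q_mul (x y : HExt f) : (x * y).q = x.p • y.q + y.p • x.q + f x.p y.p := rfl
theorem p_one : (1 : HExt f).p = 1 := rfl
theorem q_one : (1 : HExt f).q = - f 1 1 := rfl
theorem p_zero : (0 : HExt f).p = 0 := rfl
theorem q_zero : (0 : HExt f).q = 0 := rfl
theorem p_add (x y : HExt f) : (x + y).p = x.p + y.p := rfl
theorem q_add (x y : HExt f) : (x + y).q = x.q + y.q := rfl
theorem p_smul (a : A) (x : HExt f) : (a • x).p = a • x.p := rfl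
theorem q_smul (a : A) (x : HExt f) : (a • x).q = a • x.q := rfl
theorem p_mk (b : B) (z : L) : (HExt.mk f b z).p = b := rfl
theorem q_mk (b : B) (z : L) : (HExt.mk f b z).q = z := rfl

theorem f_one (hcoc : ∀ x y z : B, f (x * y) z + z • f x y = x • f y z + f x (y * z)) (z : B) :
    f 1 z = z • f 1 1 := by
  have := hcoc 1 1 z
  rw [one_mul, one_mul, one_smul] at this
  have h2 : z • f 1 1 = f 1 z := add_left_cancel this
  exact h2.symm

theorem h_mul_comm (hsymm : ∀ x y : B, f x y = f y x) (a b : HExt f) : a * b = b * a := by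
  apply HExt.ext'
  · rw [p_mul, p_mul, mul_comm]
  · rw [q_mul, q_mul, hsymm a.p b.p]
    abel

theorem h_mul_assoc (hcoc : ∀ x y z : B, f (x * y) z + z • f x y = x • f y z + f x (y * z))
    (a b c : HExt f) : a * b * c = a * (b * c) := by
  apply HExt.ext'
  · simp only [p_mul, mul_assoc]
  · simp only [p_mul, q_mul, smul_add, mul_smul]
    have key : f (a.p * b.p) c.p = a.p • f b.p c.p + f a.p (b.p * c.p) - c.p • f a.p b.p :=
      eq_sub_of_add_eq (hcoc a.p b.p c.p)
    rw [key, smul_comm c.p a.p b.q, smul_comm c.p b.p a.q]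
    abel

theorem h_one_mul (hcoc : ∀ x y z : B, f (x * y) z + z • f x y = x • f y z + f x (y * z))
    (a : HExt f) : 1 * a = a := by
  apply HExt.ext'
  · rw [p_mul, p_one, one_mul]
  · rw [q_mul, p_one, q_one, one_smul, f_one f hcoc a.p, smul_neg]
    abel

theorem h_left_distrib (a b c : HExt f) : a * (b + c) = a * b + a * c := by
  apply HExt.ext'
  · simp only [p_mul, p_add, mul_add]
  · simp only [q_mul, p_add, q_add, smul_add, add_smul, map_add]
    abel

/-- the commutative ring structure -/
@[reducible] noncomputable def hCommRing (hsymm : ∀ x y : B, f x y = f y x)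
    (hcoc : ∀ x y z : B, f (x * y) z + z • f x y = x • f y z + f x (y * z)) : CommRing (HExt f) :=
  { (inferInstance : AddCommGroup (HExt f)) with
    mul := (· * ·)
    one := 1
    mul_assoc := h_mul_assoc f hcoc
    one_mul := h_one_mul f hcoc
    mul_one := fun a => by rw [h_mul_comm f hsymm, h_one_mul f hcoc]
    left_distrib := h_left_distrib f
    right_distrib := fun a b c => by
      rw [h_mul_comm f hsymm, h_left_distrib, h_mul_comm f hsymm a, h_mul_comm f hsymm b]
    zero_mul := fun a => by
      apply HExt.ext'
      · rw [p_mul, p_zero, zero_mul]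
      · rw [q_mul, p_zero, q_zero, zero_smul, smul_zero, map_zero, LinearMap.zero_apply,
          add_zero, add_zero]
    mul_zero := fun a => by
      apply HExt.ext'
      · rw [p_mul, p_zero, mul_zero]
      · rw [q_mul, p_zero, q_zero, zero_smul, smul_zero, map_zero, add_zero, add_zero]
    mul_comm := h_mul_comm f hsymm }

end


/-- Discrete case. If B is a formally smooth A-algebra then, for every B-module L, every A-bilinear
symmetric Hochschild 2-cocycle f : B × B → L (f(xy, z) + z f(x, y) = x f(y, z) + f(x, yz)) is a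
Hochschild 2-coboundary: f(x, y) = x g(y) − g(xy) + y g(x) for some A-linear g : B → L. (The
published statement is for topological algebras and open ideals; this row is its discrete case.) -/
theorem result {A : Type u} {B : Type v} [CommRing A] [CommRing B]
    [Algebra A B] [Algebra.FormallySmooth A B] {L : Type v} [AddCommGroup L] [Module B L] [Module A L]
    [IsScalarTower A B L] (f : B →ₗ[A] B →ₗ[A] L) (hsymm : ∀ x y : B, f x y = f y x)
    (hcoc : ∀ x y z : B, f (x * y) z + z • f x y = x • f y z + f x (y * z)) :
    ∃ g : B →ₗ[A] L, ∀ x y : B, f x y = x • g y - g (x * y) + y • g x := by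
  let _ := hCommRing f hsymm hcoc
  let _ : Algebra A (HExt f) := Algebra.ofModule
    (fun a x y => by
      apply HExt.ext'
      · rw [p_mul, p_smul, p_smul, p_mul, smul_mul_assoc]
      · rw [q_mul, q_smul, q_smul, p_smul, q_mul, smul_add, smul_add, map_smul,
          LinearMap.smul_apply, smul_assoc a x.p y.q, smul_comm y.p a x.q])
    (fun a x y => by
      apply HExt.ext'
      · rw [p_mul, p_smul, p_smul, p_mul, mul_smul_comm]
      · rw [q_mul, q_smul, q_smul, p_smul, q_mul, smul_add, smul_add, map_smul,
          smul_comm x.p a y.q, smul_assoc a y.p x.q])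
  let p : HExt f →ₐ[A] B :=
    { toFun := fun x => x.p
      map_one' := rfl
      map_mul' := fun x y => rfl
      map_zero' := rfl
      map_add' := fun x y => rfl
      commutes' := fun a => by
        rw [Algebra.algebraMap_eq_smul_one, Algebra.algebraMap_eq_smul_one]
        rfl }
  have hp : Function.Surjective p := fun b => ⟨HExt.mk f b 0, rfl⟩
  have hnil : IsNilpotent (RingHom.ker (p : HExt f →+* B)) := by
    refine ⟨2, ?_⟩
    rw [Ideal.zero_eq_bot, eq_bot_iff, pow_two, Ideal.mul_le]
    intro x hx y hy
    rw [Ideal.mem_bot]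
    have hx1 : x.p = 0 := hx
    have hy1 : y.p = 0 := hy
    apply HExt.ext'
    · rw [p_mul, hx1, zero_mul]; rfl
    · rw [q_mul, hx1, hy1, zero_smul, zero_smul, map_zero, add_zero,
        add_zero]; rfl
  let s := Algebra.FormallySmooth.liftOfSurjective (AlgHom.id A B) p hp hnil
  have hs : ∀ b, (s b).p = b := fun b =>
    Algebra.FormallySmooth.liftOfSurjective_apply (AlgHom.id A B) p hp hnil b
  refine ⟨{ toFun := fun b => - (s b).q
            map_add' := fun x y => by rw [map_add, q_add, neg_add]
            map_smul' := fun a x => by rw [map_smul, q_smul, smul_neg]; rfl }, fun x y => ?_⟩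
  have h1 : (s (x * y)).q = x • (s y).q + y • (s x).q + f x y := by
    rw [map_mul, q_mul, hs, hs]
  simp only [LinearMap.coe_mk, AddHom.coe_mk]
  rw [h1]
  simp only [smul_neg]
  abel

end Groth.Agent.S5830
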