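import Groth.Statements.S5831
import Groth.Agent.S5815
import Groth.Agent.H29.Exal
import Mathlib.Tactic.LinearCombination
import Mathlib.Tactic.Ring

set_option autoImplicit false
universe u
open EGA41

namespace Groth.Agent.S5831

open Groth.Agent.H29.ExalL

section
variable {A B L : Type u} [CommRing A] [CommRing B] [Algebra A B] [AddCommGroup L] [Module B L]
  [Module A L] [IsScalarTower A B L]
variable (X : Exal.Ext A B L) (σ : B →ₗ[A] X.E)

theorem proj_c (hσ : ∀ b, X.proj (σ b) = b) (x y : B) : X.proj (σ x * σ y - σ (x * y)) = 0 := by
  rw [map_sub, map_mul, hσ, hσ, hσ, sub_self]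

/-- the Hochschild cocycle of a linear section -/
noncomputable def cocycle (hσ : ∀ b, X.proj (σ b) = b) : B →ₗ[A] B →ₗ[A] L :=
  LinearMap.mk₂ A (fun x y => X.kerLift _ (proj_c X σ hσ x y))
    (fun x x' y => by
      apply X.isExtension.incl_injective
      rw [map_add X.incl, X.incl_kerLift _ (proj_c X σ hσ _ _), X.incl_kerLift _ (proj_c X σ hσ _ _),
        X.incl_kerLift _ (proj_c X σ hσ _ _)]
      simp only [map_add, add_mul]
      abel)
    (fun a x y => by
      apply X.isExtension.incl_injective
      rw [incl_smul, X.incl_kerLift _ (proj_c X σ hσ _ _), X.incl_kerLift _ (proj_c X σ hσ _ _)]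
      simp only [map_smul, smul_mul_assoc, smul_sub])
    (fun x y y' => by
      apply X.isExtension.incl_injective
      rw [map_add X.incl, X.incl_kerLift _ (proj_c X σ hσ _ _), X.incl_kerLift _ (proj_c X σ hσ _ _),
        X.incl_kerLift _ (proj_c X σ hσ _ _)]
      simp only [map_add, mul_add]
      abel)
    (fun a x y => by
      apply X.isExtension.incl_injective
      rw [incl_smul, X.incl_kerLift _ (proj_c X σ hσ _ _), X.incl_kerLift _ (proj_c X σ hσ _ _)]
      simp only [map_smul, mul_smul_comm, smul_sub])

theorem incl_cocycle (hσ : ∀ b, X.proj (σ b) = b) (x y : B) :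
    X.incl (cocycle X σ hσ x y) = σ x * σ y - σ (x * y) := X.incl_kerLift _ (proj_c X σ hσ x y)

theorem incl_smul_sigma (hσ : ∀ b, X.proj (σ b) = b) (b : B) (z : L) :
    X.incl (b • z) = σ b * X.incl z := incl_smul_of_proj X (σ b) b (hσ b) z

theorem isTrivial_of_section (hσ : ∀ b, X.proj (σ b) = b)
    (h : ∀ (f : B →ₗ[A] B →ₗ[A] L), (∀ x y : B, f x y = f y x) →
        (∀ x y z : B, f (x * y) z + z • f x y = x • f y z + f x (y * z)) →
          ∃ g : B →ₗ[A] L, ∀ x y : B, f x y = x • g y - g (x * y) + y • g x) :
    X.IsTrivial := by
  obtain ⟨g, hg⟩ := h (cocycle X σ hσ)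
    (fun x y => by
      apply X.isExtension.incl_injective
      rw [incl_cocycle, incl_cocycle, mul_comm (σ x), mul_comm x])
    (fun x y z => by
      apply X.isExtension.incl_injective
      rw [map_add X.incl, map_add X.incl, incl_smul_sigma X σ hσ, incl_smul_sigma X σ hσ,
        incl_cocycle, incl_cocycle, incl_cocycle, incl_cocycle, mul_assoc x y z]
      ring)
  -- the multiplicative section
  let s : B → X.E := fun b => σ b - X.incl (g b)
  have hs_add : ∀ x y, s (x + y) = s x + s y := fun x y => by
    simp only [s, map_add]; abel
  have hs_mul : ∀ x y, s (x * y) = s x * s y := fun x y => by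
    have h1 := congrArg X.incl (hg x y)
    rw [incl_cocycle, map_add X.incl, map_sub X.incl, incl_smul_sigma X σ hσ,
      incl_smul_sigma X σ hσ] at h1
    have h2 := incl_mul_incl X (g x) (g y)
    simp only [s]
    linear_combination (-1 : X.E) * h1 - h2
  have hs_proj : ∀ x, X.proj (s x) = x := fun x => by
    simp only [s]
    rw [map_sub, hσ, proj_incl, sub_zero]
  have hs_one : s 1 = 1 := by
    have hidem : s 1 * s 1 = s 1 := by rw [← hs_mul, mul_one]
    obtain ⟨z, hz⟩ := exists_incl_of_proj_eq X (x := (1 : X.E)) (y := s 1) (by rw [map_one, hs_proj])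
    have h3 : (1 - s 1) * (1 - s 1) = 0 := by rw [← hz, incl_mul_incl]
    have h4 : (1 - s 1) * (1 - s 1) = 1 - s 1 := by linear_combination hidem
    rw [h3] at h4
    exact (sub_eq_zero.mp h4.symm).symm
  have hs_smul : ∀ (a : A) x, s (a • x) = a • s x := fun a x => by
    simp only [s]
    rw [map_smul, map_smul, incl_smul, smul_sub]
  refine ⟨{ toFun := s
            map_one' := hs_one
            map_mul' := hs_mul
            map_zero' := by
              have := hs_smul 0 0
              rw [zero_smul, zero_smul] at this
              exact this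
            map_add' := hs_add
            commutes' := fun a => by
              rw [Algebra.algebraMap_eq_smul_one, hs_smul, hs_one, ← Algebra.algebraMap_eq_smul_one] },
    hs_proj⟩

end


/-- Discrete case. Let B be an A-algebra which is a projective A-module (A and B in one universe). If
for every B-module L in that universe every A-bilinear symmetric Hochschild 2-cocycle B × B → L is a
coboundary, then B is formally smooth over A. (The published statement assumes B formally projective
as a topological A-module; for discrete rings this is projectivity.) -/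
theorem result {A B : Type u} [CommRing A]
    [CommRing B] [Algebra A B] [Module.Projective A B]
    (h : ∀ (L : Type u) [AddCommGroup L] [Module B L] [Module A L] [IsScalarTower A B L]
      (f : B →ₗ[A] B →ₗ[A] L), (∀ x y : B, f x y = f y x) →
        (∀ x y z : B, f (x * y) z + z • f x y = x • f y z + f x (y * z)) →
          ∃ g : B →ₗ[A] L, ∀ x y : B, f x y = x • g y - g (x * y) + y • g x) :
    Algebra.FormallySmooth A B := by
  rw [Groth.Agent.S5815.result A B]
  intro L _ _ X
  letI : Module A L := Module.compHom L (algebraMap A B)
  haveI : IsScalarTower A B L := IsScalarTower.of_algebraMap_smul (fun _ _ => rfl)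
  obtain ⟨σ, hσ⟩ := Module.projective_lifting_property X.proj.toLinearMap (LinearMap.id : B →ₗ[A] B)
    X.isExtension.proj_surjective
  exact isTrivial_of_section X σ (fun b => congrArg (fun f => f b) hσ) (h L)

end Groth.Agent.S5831
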