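import Groth.Statements.S5832
import Groth.Agent.H29.Exal
import Mathlib.Tactic.LinearCombination
import Mathlib.Tactic.Ring

set_option autoImplicit false
universe u u' v
open EGA41

namespace Groth.Agent.S5832

open Groth.Agent.H29.ExalL
attribute [local instance] Exal.opModule Exal.isCentralScalar_opModule

section
variable {A : Type u'} {B L : Type v} [CommRing A] [CommRing B] [Algebra A B]
    [AddCommGroup L] [Module B L]
variable (Y : Exal.Ext A B L) (s : B →+* Y.E)

theorem proj_sub (hs : ∀ b, Y.proj (s b) = b) (y : Y.E) : Y.proj (y - s (Y.proj y)) = 0 := by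
  rw [map_sub, hs, sub_self]

/-- the `L`-component of `y` with respect to the section `s` -/
noncomputable def comp2 (hs : ∀ b, Y.proj (s b) = b) (y : Y.E) : L :=
  Y.kerLift _ (proj_sub Y s hs y)

theorem incl_comp2 (hs : ∀ b, Y.proj (s b) = b) (y : Y.E) :
    Y.incl (comp2 Y s hs y) = y - s (Y.proj y) := Y.incl_kerLift _ _

theorem decomp (hs : ∀ b, Y.proj (s b) = b) (y : Y.E) :
    y = s (Y.proj y) + Y.incl (comp2 Y s hs y) := by
  rw [incl_comp2]; abel

variable (C : Type v) [CommRing C] [Algebra B C] [Algebra A C] [IsScalarTower A B C]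
  [Module C L] [IsScalarTower B C L]

/-- the ring hom `Y.E → C ⊕ L` -/
noncomputable def theta (hs : ∀ b, Y.proj (s b) = b) : Y.E →+* TrivSqZeroExt C L where
  toFun y := TrivSqZeroExt.inl (algebraMap B C (Y.proj y)) + TrivSqZeroExt.inr (comp2 Y s hs y)
  map_one' := by
    have : comp2 Y s hs 1 = 0 := by
      apply Y.isExtension.incl_injective
      rw [incl_comp2, map_one, map_one, sub_self, map_zero]
    rw [this, map_one, map_one, TrivSqZeroExt.inr_zero, add_zero, TrivSqZeroExt.inl_one]
  map_mul' y y' := by
    have : comp2 Y s hs (y * y') =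
        algebraMap B C (Y.proj y) • comp2 Y s hs y' + algebraMap B C (Y.proj y') • comp2 Y s hs y := by
      apply Y.isExtension.incl_injective
      rw [map_add Y.incl, algebraMap_smul, algebraMap_smul,
        incl_smul_of_proj Y (s (Y.proj y)) _ (hs _), incl_smul_of_proj Y (s (Y.proj y')) _ (hs _),
        incl_comp2, incl_comp2, incl_comp2, map_mul, map_mul]
      have h3 : (y - s (Y.proj y)) * (y' - s (Y.proj y')) = 0 := by
        rw [← incl_comp2 Y s hs, ← incl_comp2 Y s hs, incl_mul_incl]
      linear_combination h3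
    apply TrivSqZeroExt.ext
    · simp
    · simp only [TrivSqZeroExt.snd_add, TrivSqZeroExt.snd_inl, TrivSqZeroExt.snd_inr, zero_add,
        TrivSqZeroExt.snd_mul, TrivSqZeroExt.fst_add, TrivSqZeroExt.fst_inl, TrivSqZeroExt.fst_inr,
        add_zero, op_smul_eq_smul]
      exact this
  map_zero' := by
    have : comp2 Y s hs 0 = 0 := by
      apply Y.isExtension.incl_injective
      rw [incl_comp2, map_zero, map_zero, sub_self, map_zero]
    rw [this, map_zero, map_zero, TrivSqZeroExt.inr_zero, add_zero, TrivSqZeroExt.inl_zero]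
  map_add' y y' := by
    have : comp2 Y s hs (y + y') = comp2 Y s hs y + comp2 Y s hs y' := by
      apply Y.isExtension.incl_injective
      rw [map_add Y.incl, incl_comp2, incl_comp2, incl_comp2, map_add, map_add]
      abel
    rw [this, map_add, map_add, TrivSqZeroExt.inl_add, TrivSqZeroExt.inr_add]
    abel

theorem theta_apply (hs : ∀ b, Y.proj (s b) = b) (y : Y.E) :
    theta Y s C hs y =
      TrivSqZeroExt.inl (algebraMap B C (Y.proj y)) + TrivSqZeroExt.inr (comp2 Y s hs y) :=
  rfl

theorem theta_s (hs : ∀ b, Y.proj (s b) = b) (b : B) :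
    theta Y s C hs (s b) = TrivSqZeroExt.inl (algebraMap B C b) := by
  have : comp2 Y s hs (s b) = 0 := by
    apply Y.isExtension.incl_injective
    rw [incl_comp2, hs, sub_self, map_zero]
  rw [theta_apply, this, hs, TrivSqZeroExt.inr_zero, add_zero]

theorem theta_incl (hs : ∀ b, Y.proj (s b) = b) (z : L) :
    theta Y s C hs (Y.incl z) = TrivSqZeroExt.inr z := by
  have : comp2 Y s hs (Y.incl z) = z := by
    apply Y.isExtension.incl_injective
    rw [incl_comp2, proj_incl, map_zero, sub_zero]
  rw [theta_apply, this, proj_incl, map_zero, TrivSqZeroExt.inl_zero, zero_add]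

/-- the carrier `C ⊕ L` with the `A`-algebra structure through `theta` -/
@[nolint unusedArguments]
def XCarrier (_hs : ∀ b, Y.proj (s b) = b) : Type v := TrivSqZeroExt C L

instance (hs : ∀ b, Y.proj (s b) = b) : CommRing (XCarrier Y s C hs) :=
  inferInstanceAs (CommRing (TrivSqZeroExt C L))

noncomputable instance (hs : ∀ b, Y.proj (s b) = b) : Algebra A (XCarrier Y s C hs) :=
  (((theta Y s C hs).comp (algebraMap A Y.E)) : A →+* XCarrier Y s C hs).toAlgebra

/-- the extension of `C` by `L` -/
noncomputable def XExt (hs : ∀ b, Y.proj (s b) = b) : Exal.Ext A C L where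
  E := XCarrier Y s C hs
  proj :=
    { toFun := fun x => TrivSqZeroExt.fst x
      map_one' := TrivSqZeroExt.fst_one
      map_mul' := TrivSqZeroExt.fst_mul
      map_zero' := TrivSqZeroExt.fst_zero
      map_add' := TrivSqZeroExt.fst_add
      commutes' := fun a => by
        change TrivSqZeroExt.fst (theta Y s C hs (algebraMap A Y.E a)) = _
        rw [theta_apply, TrivSqZeroExt.fst_add, TrivSqZeroExt.fst_inl,
          TrivSqZeroExt.fst_inr, add_zero, AlgHom.commutes, ← IsScalarTower.algebraMap_apply] }
  incl := (TrivSqZeroExt.inrHom C L).toAddMonoidHom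
  isExtension :=
    { proj_surjective := fun c => ⟨TrivSqZeroExt.inl c, rfl⟩
      incl_injective := TrivSqZeroExt.inr_injective
      exact := fun x => by
        constructor
        · intro hx
          exact ⟨TrivSqZeroExt.snd x, TrivSqZeroExt.ext hx.symm rfl⟩
        · rintro ⟨z, rfl⟩
          rfl
      mul_incl := fun x z => by
        refine TrivSqZeroExt.ext ?_ ?_
        · change TrivSqZeroExt.fst x * 0 = 0
          exact mul_zero _
        · change TrivSqZeroExt.fst x • z + MulOpposite.op (0 : C) • TrivSqZeroExt.snd x = TrivSqZeroExt.fst x • z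
          rw [MulOpposite.op_zero, zero_smul, add_zero] }

/-- identity ring isomorphism onto `TrivSqZeroExt` -/
noncomputable def xT (hs : ∀ b, Y.proj (s b) = b) : (XExt Y s C hs).E ≃+* TrivSqZeroExt C L := RingEquiv.refl _

theorem xT_algebraMap (hs : ∀ b, Y.proj (s b) = b) (a : A) :
    xT Y s C hs (algebraMap A (XExt Y s C hs).E a) = theta Y s C hs (algebraMap A Y.E a) := rfl

theorem XExt_proj (hs : ∀ b, Y.proj (s b) = b) (x : (XExt Y s C hs).E) :
    (XExt Y s C hs).proj x = TrivSqZeroExt.fst (xT Y s C hs x) := rfl

theorem xT_incl (hs : ∀ b, Y.proj (s b) = b) (z : L) :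
    xT Y s C hs ((XExt Y s C hs).incl z) = TrivSqZeroExt.inr z := rfl

end


/-- Surjectivity at the end of the sequence. For ring maps Λ → A → B → C and a C-module L, every
Λ-trivial A-extension of B by L is equivalent to the inverse image along B → C of a Λ-trivial
A-extension of C by L. (Exactness at the other places is that of the six-term derivation-extension
sequence restricted to Λ-trivial classes.) -/
theorem result {Λ : Type u} {A : Type u'} {B C L : Type v}
    [CommRing Λ] [CommRing A] [CommRing B] [CommRing C] [Algebra Λ A] [Algebra Λ B] [Algebra Λ C]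
    [Algebra A B] [Algebra B C] [Algebra A C] [IsScalarTower Λ A B] [IsScalarTower Λ A C] [IsScalarTower A B C]
    [AddCommGroup L] [Module C L] [Module B L] [IsScalarTower B C L]
    (Y : Exal.Ext A B L) (hY : Y.IsTrivialOver Λ) :
    ∃ X : Exal.Ext A C L, X.IsTrivialOver Λ ∧ Nonempty ((X.pullback B).Equiv Y) := by
  obtain ⟨sΛ, hsΛ⟩ := hY
  let s : B →+* Y.E := sΛ.toRingHom
  have hs : ∀ b, Y.proj (s b) = b := hsΛ
  have hscomm : ∀ l : Λ, s (algebraMap Λ B l) = algebraMap A Y.E (algebraMap Λ A l) :=
    fun l => sΛ.commutes l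
  let X := XExt Y s C hs
  let e := xT Y s C hs
  refine ⟨X, ?_, ?_⟩
  · -- triviality over Λ
    let t₀ : C →+* X.E := (e.symm : TrivSqZeroExt C L →+* X.E).comp (TrivSqZeroExt.inlHom C L)
    let t₁ : C →+* (X.restrictBase Λ).E := t₀
    refine ⟨{ t₁ with commutes' := fun l => ?_ }, fun c => rfl⟩
    apply e.injective
    change e (e.symm (TrivSqZeroExt.inl (algebraMap Λ C l))) =
      theta Y s C hs (algebraMap A Y.E (algebraMap Λ A l))
    rw [RingEquiv.apply_symm_apply, ← hscomm, theta_s, IsScalarTower.algebraMap_apply Λ A B,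
      ← IsScalarTower.algebraMap_apply A B C, ← IsScalarTower.algebraMap_apply Λ A C]
  · -- the pullback is equivalent to Y
    have hmemF : ∀ x : X.E × B, x ∈ X.fiberProd B ↔ X.proj x.1 = algebraMap B C x.2 := fun x => by
      unfold Exal.Ext.fiberProd
      rw [AlgHom.mem_equalizer]; rfl
    let g₀ : Y.E →ₐ[A] X.E :=
      { (e.symm : TrivSqZeroExt C L →+* X.E).comp (theta Y s C hs) with
        commutes' := fun a => rfl }
    have hg₀ : ∀ y, e (g₀ y) = theta Y s C hs y := fun y => rfl
    let g : Y.E →ₐ[A] (X.pullback B).E :=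
      AlgHom.codRestrict (AlgHom.prod g₀ Y.proj) (X.fiberProd B) (fun y => by
        rw [hmemF]
        change TrivSqZeroExt.fst (theta Y s C hs y) = algebraMap B C (Y.proj y)
        rw [theta_apply]; simp)
    have hg1 : ∀ y, e (g y).1.1 = theta Y s C hs y := fun y => rfl
    have hg2 : ∀ y, (g y).1.2 = Y.proj y := fun y => rfl
    have hbij : Function.Bijective g := by
      constructor
      · rw [injective_iff_map_eq_zero]
        intro y hy
        have h1 : theta Y s C hs y = 0 := by rw [← hg1, hy]; rfl
        have h2 : Y.proj y = 0 := by rw [← hg2, hy]; rfl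
        have h3 : comp2 Y s hs y = 0 := by
          have := congrArg TrivSqZeroExt.snd h1
          rw [theta_apply] at this
          simpa using this
        rw [decomp Y s hs y, h2, h3, map_zero, map_zero, add_zero]
      · rintro ⟨⟨x, b⟩, hx⟩
        have hx' : TrivSqZeroExt.fst (e x) = algebraMap B C b := (hmemF _).1 hx
        refine ⟨s b + Y.incl (TrivSqZeroExt.snd (e x)), ?_⟩
        apply Subtype.ext
        apply Prod.ext
        · apply e.injective
          change theta Y s C hs _ = e x
          rw [map_add, theta_s, theta_incl, ← hx']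
          exact TrivSqZeroExt.inl_fst_add_inr_snd_eq _
        · change Y.proj _ = b
          rw [map_add, hs, proj_incl, add_zero]
    refine ⟨Exal.Ext.Equiv.symm ⟨AlgEquiv.ofBijective g hbij, fun y => rfl, fun z => ?_⟩⟩
    apply Subtype.ext
    apply Prod.ext
    · apply e.injective
      change theta Y s C hs (Y.incl z) = TrivSqZeroExt.inr z
      rw [theta_incl]
    · change Y.proj (Y.incl z) = 0
      rw [proj_incl]

end Groth.Agent.S5832
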