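import Groth.Statements.S5833
import Groth.Agent.H29.CharHom6
import Mathlib.LinearAlgebra.TensorProduct.RightExactness

set_option autoImplicit false
universe u v
open scoped TensorProduct
open EGA41

namespace Groth.Agent.S5833

open Groth.Agent.H29.CharHomL KaehlerDifferential

/-- Let Λ → A → B be ring maps, K an ideal of B, C = B ⧸ K, and suppose E = B ⧸ K², as an extension of C
by K/K², is Λ-trivial. Let χ : Υ_{C/A/Λ} → K/K² be the characteristic homomorphism of E as an
A-extension, relative to Λ → A. Then: (a) the kernel of χ consists of the elements of Υ_{C/A/Λ} ⊆ C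
⊗_A Ω_{A/Λ} whose image in C ⊗_B Ω_{B/Λ} is zero (that image map is written as the base change to C
of B ⊗_A Ω_{A/Λ} → Ω_{B/Λ}, through the canonical identification C ⊗_B (B ⊗_A Ω_{A/Λ}) = C ⊗_A
Ω_{A/Λ}); (b) the image of χ is the kernel of the conormal map K/K² → C ⊗_B Ω_{B/A}, x ↦ 1 ⊗ dx.
This is the exact sequence 0 → Υ^C_{B/A/Λ} → Υ_{C/A/Λ} → K/K² → C ⊗_B Ω_{B/A} → Ω_{C/A} → 0 up to
its last two (conormal-sequence) terms. -/
theorem result {Λ : Type u} {A B : Type v} [CommRing Λ]
    [CommRing A] [CommRing B] [Algebra Λ A] [Algebra Λ B] [Algebra A B] [IsScalarTower Λ A B] (K : Ideal B)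
    (htriv : ((Exal.Ext.infinitesimal K).restrictBase A).IsTrivialOver Λ)
    (χ : ↥(EGA41.imperfection Λ A (B ⧸ K)) →ₗ[B ⧸ K] K.Cotangent)
    (hχ : ((Exal.Ext.infinitesimal K).restrictBase A).IsCharHom Λ χ) :
    (∀ z : ↥(EGA41.imperfection Λ A (B ⧸ K)),
        χ z = 0 ↔
          ((KaehlerDifferential.mapBaseChange Λ A B).baseChange (B ⧸ K))
              ((TensorProduct.AlgebraTensorModule.cancelBaseChange A B (B ⧸ K) (B ⧸ K) Ω[A⁄Λ]).symm
                (z : (B ⧸ K) ⊗[A] Ω[A⁄Λ])) = 0) ∧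
      ∀ (x : B) (hx : x ∈ K),
        K.toCotangent ⟨x, hx⟩ ∈ LinearMap.range χ ↔
          (1 : B ⧸ K) ⊗ₜ[B] KaehlerDifferential.D A B x = (0 : (B ⧸ K) ⊗[B] Ω[B⁄A]) := by
  have hinj := deltaL_injective Λ _ htriv
  have hβ := betaK_injective Λ (A := A) K
  constructor
  · intro z
    change χ z = 0 ↔ alphaK Λ K z.1 = 0
    constructor
    · intro h0
      apply hβ
      rw [← bcm_eq_beta_alpha, ← hχ z, h0, map_zero, map_zero]
    · intro h0
      apply hinj
      rw [hχ z, bcm_eq_beta_alpha, h0, map_zero, map_zero]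
  · intro x hx
    constructor
    · rintro ⟨z, hz⟩
      have h1 : (1 : B ⧸ K) ⊗ₜ[B] D Λ B x = alphaK Λ K z.1 := by
        apply hβ
        rw [← deltaL_eq_beta Λ K x hx, ← hz, hχ z, bcm_eq_beta_alpha]
      have h2 := congrArg ((KaehlerDifferential.map Λ A B B).baseChange (B ⧸ K)) h1
      rw [LinearMap.baseChange_tmul, KaehlerDifferential.map_D] at h2
      have h3 : (KaehlerDifferential.map Λ A B B).comp (KaehlerDifferential.mapBaseChange Λ A B)
          = 0 := (KaehlerDifferential.exact_mapBaseChange_map Λ A B).linearMap_comp_eq_zero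
      have h4 : ((KaehlerDifferential.map Λ A B B).baseChange (B ⧸ K)) (alphaK Λ K z.1) = 0 := by
        unfold alphaK
        rw [← LinearMap.comp_apply, ← LinearMap.baseChange_comp, h3, LinearMap.baseChange_zero,
          LinearMap.zero_apply]
      rw [h4] at h2
      exact h2
    · intro h0
      have hex := lTensor_exact (B ⧸ K) (KaehlerDifferential.exact_mapBaseChange_map Λ A B)
        (KaehlerDifferential.map_surjective Λ A B)
      obtain ⟨t, ht⟩ := (hex ((1 : B ⧸ K) ⊗ₜ[B] D Λ B x)).1 (by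
        rw [LinearMap.lTensor_tmul, KaehlerDifferential.map_D]
        exact h0)
      have hα : alphaK Λ K
          (TensorProduct.AlgebraTensorModule.cancelBaseChange A B (B ⧸ K) (B ⧸ K) Ω[A⁄Λ] t) =
            (1 : B ⧸ K) ⊗ₜ[B] D Λ B x := by
        unfold alphaK
        rw [LinearEquiv.symm_apply_apply, ← ht, LinearMap.baseChange_eq_ltensor]
      have hz0 : TensorProduct.AlgebraTensorModule.cancelBaseChange A B (B ⧸ K) (B ⧸ K) Ω[A⁄Λ] t ∈
          EGA41.imperfection Λ A (B ⧸ K) := by
        change KaehlerDifferential.mapBaseChange Λ A (B ⧸ K) _ = 0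
        rw [← mapBaseChange_alphaK, hα, KaehlerDifferential.mapBaseChange_tmul,
          KaehlerDifferential.map_D, one_smul, Ideal.Quotient.algebraMap_eq,
          Ideal.Quotient.eq_zero_iff_mem.2 hx, map_zero]
      refine ⟨⟨_, hz0⟩, ?_⟩
      apply hinj
      rw [hχ, bcm_eq_beta_alpha, hα, deltaL_eq_beta]

end Groth.Agent.S5833
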