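import Groth.Statements.S5834
import Groth.Agent.S5833
import Mathlib.RingTheory.Smooth.Basic
import Mathlib.RingTheory.Kaehler.JacobiZariski
import Mathlib.Algebra.Exact.Basic

set_option autoImplicit false
universe u v
open EGA41

namespace Groth.Agent.S5834

open TensorProduct

/-- Let Λ → A → B be ring maps with B formally smooth over A, K an ideal of B, C = B ⧸ K, and suppose E
= B ⧸ K², as an extension of C by K/K², is Λ-trivial. Then the characteristic homomorphism χ :
Υ_{C/A/Λ} → K/K² of E as an A-extension relative to Λ → A is injective (so that, with the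
description of its image as the kernel of K/K² → C ⊗_B Ω_{B/A}, the sequence 0 → Υ_{C/A/Λ} → K/K² →
C ⊗_B Ω_{B/A} → Ω_{C/A} → 0 is exact). -/
theorem result {Λ : Type u} {A B : Type v} [CommRing Λ]
    [CommRing A] [CommRing B] [Algebra Λ A] [Algebra Λ B] [Algebra A B] [IsScalarTower Λ A B]
    [Algebra.FormallySmooth A B] (K : Ideal B)
    (htriv : ((Exal.Ext.infinitesimal K).restrictBase A).IsTrivialOver Λ)
    (χ : ↥(EGA41.imperfection Λ A (B ⧸ K)) →ₗ[B ⧸ K] K.Cotangent)
    (hχ : ((Exal.Ext.infinitesimal K).restrictBase A).IsCharHom Λ χ) :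
    Function.Injective χ := by
  have h33 := (Groth.Agent.S5833.result K htriv χ hχ).1
  have hfinj : Function.Injective (KaehlerDifferential.mapBaseChange Λ A B) := by
    rw [injective_iff_map_eq_zero]
    intro y hy
    obtain ⟨h, rfl⟩ := (Algebra.H1Cotangent.exact_δ_mapBaseChange Λ A B y).1 hy
    rw [Subsingleton.elim h 0, map_zero]
  obtain ⟨l, hl⟩ := Module.projective_lifting_property (KaehlerDifferential.map Λ A B B)
    LinearMap.id (KaehlerDifferential.map_surjective Λ A B)
  obtain ⟨_, ρ, hρ⟩ := ((KaehlerDifferential.exact_mapBaseChange_map Λ A B).split_tfae'.out 0 1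
    rfl rfl).1 ⟨hfinj, l, hl⟩
  have hbinj : Function.Injective
      ((KaehlerDifferential.mapBaseChange Λ A B).baseChange (B ⧸ K)) := by
    apply Function.LeftInverse.injective (g := ρ.baseChange (B ⧸ K))
    intro t
    rw [← LinearMap.comp_apply, ← LinearMap.baseChange_comp, hρ, LinearMap.baseChange_id,
      LinearMap.id_apply]
  rw [injective_iff_map_eq_zero]
  intro z hz
  have h0 := (h33 z).1 hz
  have h1 : (TensorProduct.AlgebraTensorModule.cancelBaseChange A B (B ⧸ K) (B ⧸ K) Ω[A⁄Λ]).symm
      (z : (B ⧸ K) ⊗[A] Ω[A⁄Λ]) = 0 := hbinj (by rw [h0, map_zero])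
  apply Subtype.ext
  exact (LinearEquiv.map_eq_zero_iff _).1 h1

end Groth.Agent.S5834
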