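import Groth.Statements.S5835
import Groth.Agent.H47.FSField
import Groth.Agent.H13.PBasis
import Mathlib.RingTheory.Kaehler.JacobiZariski
import Mathlib.LinearAlgebra.TensorProduct.RightExactness
-- import your own Groth.Agent.* helpers here

set_option autoImplicit false
universe v w
open scoped TensorProduct
open EGA41

namespace Groth.Agent.S5835

/-- For fields k₀ ⊆ k ⊆ K ⊆ L, the map of imperfection modules Υ_{L/K/k₀} → Υ_{L/K/k} induced by
Ω_{K/k₀} → Ω_{K/k} is injective (k is k₀-admissible for the extension L of K) in each of the
following cases: L is separable over k; L is separable over K; k lies in k₀(K^p), p the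
characteristic exponent. Separable means geometrically reduced (not necessarily algebraic). -/
theorem result {k : Type v} {k₀ K L : Type w}
    [Field k₀] [Field k] [Field K] [Field L] [Algebra k₀ k] [Algebra k₀ K] [Algebra k₀ L] [Algebra k K]
    [Algebra k L] [Algebra K L] [IsScalarTower k₀ k K] [IsScalarTower k₀ k L] [IsScalarTower k₀ K L]
    [IsScalarTower k K L] (p : ℕ) [ExpChar K p]
    (h : Algebra.IsGeometricallyReduced k L ∨ Algebra.IsGeometricallyReduced K L ∨
      ∀ x : k, algebraMap k K x ∈ EGA41.pPowerSubalgebra p k₀ K) :
    ∀ z : L ⊗[K] Ω[K⁄k₀], z ∈ EGA41.imperfection k₀ K L →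
      (KaehlerDifferential.map k₀ k K K).baseChange L z = 0 → z = 0 := by
  intro z hz1 hz2
  have hz1' : KaehlerDifferential.mapBaseChange k₀ K L z = 0 := hz1
  -- case: `L` formally smooth over `K`
  have caseK : Algebra.FormallySmooth K L → z = 0 := by
    intro hKL
    have hex := Algebra.H1Cotangent.exact_δ_mapBaseChange k₀ K L
    obtain ⟨w, rfl⟩ := (hex z).mp hz1'
    rw [Subsingleton.elim w 0, map_zero]
  rcases h with h | h | h
  · -- `L` separable over `k`
    haveI : Algebra.FormallySmooth k L :=
      Groth.Agent.H47.formallySmooth_of_isGeometricallyReduced_field
    have hGinj : Function.Injective (KaehlerDifferential.mapBaseChange k₀ k L) := by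
      have hex := Algebra.H1Cotangent.exact_δ_mapBaseChange k₀ k L
      rw [injective_iff_map_eq_zero]
      intro y hy
      obtain ⟨w, rfl⟩ := (hex y).mp hy
      rw [Subsingleton.elim w 0, map_zero]
    have hex1 : Function.Exact (LinearMap.lTensor L (KaehlerDifferential.mapBaseChange k₀ k K))
        (LinearMap.lTensor L (KaehlerDifferential.map k₀ k K K)) :=
      lTensor_exact L (KaehlerDifferential.exact_mapBaseChange_map k₀ k K)
        (KaehlerDifferential.map_surjective k₀ k K)
    have hz2' : LinearMap.lTensor L (KaehlerDifferential.map k₀ k K K) z = 0 := by
      rw [← LinearMap.baseChange_eq_ltensor]; exact hz2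
    obtain ⟨w, rfl⟩ := (hex1 z).mp hz2'
    -- the composite is `mapBaseChange k₀ k L` up to the cancellation isomorphism
    have hcomp : ∀ w : L ⊗[K] (K ⊗[k] Ω[k⁄k₀]),
        KaehlerDifferential.mapBaseChange k₀ K L
          (LinearMap.lTensor L (KaehlerDifferential.mapBaseChange k₀ k K) w) =
        KaehlerDifferential.mapBaseChange k₀ k L
          (TensorProduct.AlgebraTensorModule.cancelBaseChange k K L L Ω[k⁄k₀] w) := by
      intro w
      induction w using TensorProduct.induction_on with
      | zero => simp
      | add a b ha hb => simp only [map_add, ha, hb]
      | tmul l t =>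
        induction t using TensorProduct.induction_on with
        | zero => simp
        | add a b ha hb =>
          simp only [TensorProduct.tmul_add, map_add, ha, hb]
        | tmul c ω =>
          simp only [LinearMap.lTensor_tmul, KaehlerDifferential.mapBaseChange_tmul,
            TensorProduct.AlgebraTensorModule.cancelBaseChange_tmul, map_smul]
          rw [smul_assoc c l, smul_comm l c]
          congr 2
          obtain ⟨x, rfl⟩ := KaehlerDifferential.linearCombination_surjective _ _ ω
          induction x using Finsupp.induction_linear with
          | zero => simp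
          | add a b ha hb => simp only [map_add, ha, hb]
          | single a b =>
            simp [KaehlerDifferential.map_D, ← IsScalarTower.algebraMap_apply]
    have h0 := hcomp w
    rw [hz1', eq_comm] at h0
    have hw : TensorProduct.AlgebraTensorModule.cancelBaseChange k K L L Ω[k⁄k₀] w = 0 :=
      hGinj (h0.trans (map_zero _).symm)
    rw [LinearEquiv.map_eq_zero_iff] at hw
    rw [hw, map_zero]
  · exact caseK (Groth.Agent.H47.formallySmooth_of_isGeometricallyReduced_field)
  · rcases ‹ExpChar K p› with _ | ⟨hp⟩
    · -- characteristic zero: every extension is formally smooth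
      haveI : PerfectField K := PerfectField.ofCharZero
      exact caseK Groth.Agent.H47.formallySmooth_of_perfectField_field
    · haveI : Fact p.Prime := ⟨hp⟩
      -- `Ω[K⁄k₀] → Ω[K⁄k]` is injective
      have hinj : Function.Injective (KaehlerDifferential.map k₀ k K K) := by
        rw [injective_iff_map_eq_zero]
        intro ω hω
        obtain ⟨t, rfl⟩ := (KaehlerDifferential.exact_mapBaseChange_map k₀ k K ω).mp hω
        have hzero : ∀ t : K ⊗[k] Ω[k⁄k₀], KaehlerDifferential.mapBaseChange k₀ k K t = 0 := by
          intro t
          induction t using TensorProduct.induction_on with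
          | zero => simp
          | add a b ha hb => rw [map_add, ha, hb, add_zero]
          | tmul c ω' =>
            rw [KaehlerDifferential.mapBaseChange_tmul]
            obtain ⟨x, rfl⟩ := KaehlerDifferential.linearCombination_surjective _ _ ω'
            induction x using Finsupp.induction_linear with
            | zero => simp
            | add a b ha hb =>
              rw [map_add, map_add, smul_add, ha, hb, add_zero]
            | single a b =>
              simp only [Finsupp.linearCombination_single, map_smul, KaehlerDifferential.map_D]
              rw [Groth.Agent.H13.PB.D_eq_zero_of_mem_pPower p _ (h a), smul_zero, smul_zero]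
        exact hzero t
      have hinjL : Function.Injective (LinearMap.lTensor L (KaehlerDifferential.map k₀ k K K)) :=
        Module.Flat.lTensor_preserves_injective_linearMap _ hinj
      apply hinjL
      rw [map_zero, ← LinearMap.baseChange_eq_ltensor]
      exact hz2

end Groth.Agent.S5835
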