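import Groth.Statements.S5836
import Groth.Agent.H29.Kaehler
import Mathlib.LinearAlgebra.Dimension.RankNullity
import Mathlib.LinearAlgebra.Dimension.DivisionRing

set_option autoImplicit false
universe u u' u'' w
open scoped TensorProduct
open EGA41

namespace Groth.Agent.S5836

theorem rank_helper {L : Type u} {M N : Type w} [Field L] [AddCommGroup M] [AddCommGroup N] [Module L M]
    [Module L N] (V U : Submodule L M) (W : Submodule L N) (g : M →ₗ[L] N)
    (h : ∀ x ∈ V, g x ∈ W) (hf : ∀ w ∈ W, ∃ z ∈ V, g z = w) (hU : U = V ⊓ LinearMap.ker g) :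
    Module.rank L V = Module.rank L W + Module.rank L U := by
  have hsurj : Function.Surjective (g.restrict h) := fun ⟨w, hw⟩ => by
    obtain ⟨z, hz, hzw⟩ := hf w hw
    exact ⟨⟨z, hz⟩, Subtype.ext hzw⟩
  have hUV : U ≤ V := hU ▸ inf_le_left
  have hker : LinearMap.ker (g.restrict h) = Submodule.comap V.subtype U := by
    ext ⟨x, hx⟩
    rw [LinearMap.mem_ker, Submodule.mem_comap, hU]
    constructor
    · intro h0
      exact ⟨hx, congrArg Subtype.val h0⟩
    · intro h0
      exact Subtype.ext h0.2
  rw [LinearMap.rank_eq_of_surjective hsurj, hker, (Submodule.comapSubtypeEquivOfLe hUV).rank_eq]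
open Groth.Agent.H29.KaehlerL

/-- For fields k ⊆ k' ⊆ k'' ⊆ K ⊆ L put Δ(L/K, a/b) = ker(Υ_{L/K/b} → Υ_{L/K/a}) ⊆ L ⊗_K Ω_{K/b}. Then 0
→ Δ(L/K, k'/k) → Δ(L/K, k''/k) → Δ(L/K, k''/k') → 0 is exact: stated as the surjectivity of the map
induced by L ⊗_K Ω_{K/k} → L ⊗_K Ω_{K/k'} (exactness on the left and in the middle hold by
construction), together with the resulting identity of ranks d(L/K, k''/k) = d(L/K, k''/k') + d(L/K,
k'/k). -/
theorem result {k : Type u} {k' : Type u'} {k'' : Type u''} {K L : Type w}
    [Field k] [Field k'] [Field k''] [Field K] [Field L]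
    [Algebra k k'] [Algebra k k''] [Algebra k' k''] [IsScalarTower k k' k'']
    [Algebra k K] [Algebra k' K] [Algebra k'' K] [IsScalarTower k k' K] [IsScalarTower k' k'' K]
    [IsScalarTower k k'' K] [Algebra K L] [Algebra k L] [Algebra k' L] [Algebra k'' L]
    [IsScalarTower k K L] [IsScalarTower k' K L] [IsScalarTower k'' K L] :
    (∀ w : L ⊗[K] Ω[K⁄k'], w ∈ EGA41.imperfection k' K L →
        (KaehlerDifferential.map k' k'' K K).baseChange L w = 0 →
          ∃ z : L ⊗[K] Ω[K⁄k], z ∈ EGA41.imperfection k K L ∧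
            (KaehlerDifferential.map k k'' K K).baseChange L z = 0 ∧
              (KaehlerDifferential.map k k' K K).baseChange L z = w) ∧
      Module.rank L ↥(EGA41.imperfection k K L ⊓
            LinearMap.ker ((KaehlerDifferential.map k k'' K K).baseChange L)) =
        Module.rank L ↥(EGA41.imperfection k' K L ⊓
              LinearMap.ker ((KaehlerDifferential.map k' k'' K K).baseChange L)) +
          Module.rank L ↥(EGA41.imperfection k K L ⊓
              LinearMap.ker ((KaehlerDifferential.map k k' K K).baseChange L)) := by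
  have : IsScalarTower k k' L := IsScalarTower.of_algebraMap_eq (fun x => by
    rw [IsScalarTower.algebraMap_apply k K L, IsScalarTower.algebraMap_apply k k' K,
      ← IsScalarTower.algebraMap_apply k' K L])
  have part1 : ∀ w : L ⊗[K] Ω[K⁄k'], w ∈ EGA41.imperfection k' K L →
      (KaehlerDifferential.map k' k'' K K).baseChange L w = 0 →
        ∃ z : L ⊗[K] Ω[K⁄k], z ∈ EGA41.imperfection k K L ∧
          (KaehlerDifferential.map k k'' K K).baseChange L z = 0 ∧
            (KaehlerDifferential.map k k' K K).baseChange L z = w := by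
    intro w hw hw2
    obtain ⟨z, hz1, hz2⟩ := exists_lift_ker k k' w hw
    refine ⟨z, hz1, ?_, hz2⟩
    rw [← phi_phi k k' k'', hz2, hw2]
  refine ⟨part1, ?_⟩
  have hVW : ∀ x ∈ EGA41.imperfection k K L ⊓
        LinearMap.ker ((KaehlerDifferential.map k k'' K K).baseChange L),
      (KaehlerDifferential.map k k' K K).baseChange L x ∈ EGA41.imperfection k' K L ⊓
        LinearMap.ker ((KaehlerDifferential.map k' k'' K K).baseChange L) := fun x hx => by
    refine ⟨?_, ?_⟩
    · change KaehlerDifferential.mapBaseChange k' K L _ = 0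
      have h1 : KaehlerDifferential.mapBaseChange k K L x = 0 := hx.1
      rw [mapBaseChange_phi, h1, map_zero]
    · change _ = 0
      rw [phi_phi]
      exact hx.2
  refine rank_helper _ _ _ ((KaehlerDifferential.map k k' K K).baseChange L) hVW
    (fun w hw => ?_) ?_
  · obtain ⟨z, hz1, hz2, hz3⟩ := part1 w hw.1 hw.2
    exact ⟨z, ⟨hz1, hz2⟩, hz3⟩
  · apply le_antisymm
    · intro x hx
      refine ⟨⟨hx.1, ?_⟩, hx.2⟩
      change _ = 0
      have h2 : (KaehlerDifferential.map k k' K K).baseChange L x = 0 := hx.2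
      rw [← phi_phi k k' k'', h2, map_zero]
    · intro x hx
      exact ⟨hx.1.1, hx.2⟩

end Groth.Agent.S5836
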