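import Groth.Statements.S5838
import Groth.Agent.H29.TopModL3
import Groth.Agent.S5826

set_option autoImplicit false
universe u v w
open EGA41

namespace Groth.Agent.S5838

open Groth.Agent.H29.TopModL

/-- Let A be a topological ring with a countable decreasing fundamental system (𝔍_n) of open ideals, M
and N topological A-modules with the topologies deduced from that of A, M Hausdorff and complete,
and u : M → N a continuous linear map such that for every n the cokernel of M/𝔍_n M → N/𝔍_n N is a
projective (A/𝔍_n)-module. Then u is formally left invertible if and only if it has a linear left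
inverse. (The published statement adds that u is then a topological isomorphism onto a topological
direct factor.) -/
theorem result {A : Type u} {M : Type v} {N : Type w}
    [CommRing A] [TopologicalSpace A] [AddCommGroup M] [Module A M] [UniformSpace M] [IsUniformAddGroup M]
    [CompleteSpace M] [T2Space M] [AddCommGroup N] [Module A N] [TopologicalSpace N]
    (𝔍 : ℕ → Ideal A) (h𝔍open : ∀ n, IsOpen (𝔍 n : Set A)) (h𝔍anti : Antitone 𝔍)
    (h𝔍basis : (nhds (0 : A)).HasBasis (fun _ : ℕ => True) (fun n => (𝔍 n : Set A)))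
    (hM : TopMod.IsDeduced A M) (hN : TopMod.IsDeduced A N) (u : M →L[A] N)
    (hcoker : ∀ n, Module.Projective (A ⧸ 𝔍 n)
      ((N ⧸ LinearMap.range u.toLinearMap) ⧸ (𝔍 n • (⊤ : Submodule A (N ⧸ LinearMap.range u.toLinearMap))))) :
    TopMod.IsFormallyLeftInvertible u ↔ ∃ w : N →ₗ[A] M, ∀ x : M, w (u x) = x := by
  constructor
  · intro hfl
    have hall := (Groth.Agent.S5826.result hM hN u).1 hfl
    have h0 : Nonempty (LInv 𝔍 u.toLinearMap 0) := by
      obtain ⟨w, hw⟩ := hall (𝔍 0) (h𝔍open 0)
      exact ⟨⟨w, hw⟩⟩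
    have hstep : ∀ (n : ℕ) (w : LInv 𝔍 u.toLinearMap n), ∃ w' : LInv 𝔍 u.toLinearMap (n + 1),
        ∀ y : N, trans 𝔍 h𝔍anti M n (w'.1 y) = w.1 y := by
      intro n w
      obtain ⟨w', hw'⟩ := hall (𝔍 (n + 1)) (h𝔍open (n + 1))
      have := hcoker (n + 1)
      obtain ⟨w'', h1, h2⟩ := exists_step_coker (𝔍 (n + 1)) (𝔍 n) (h𝔍anti (Nat.le_succ n))
        u.toLinearMap w.1 w.2 w' hw'
      exact ⟨⟨w'', h1⟩, h2⟩
    exact exists_global_leftInverse 𝔍 h𝔍open h𝔍anti h𝔍basis hM u.toLinearMap h0 hstep
  · rintro ⟨w, hw⟩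
    rw [Groth.Agent.S5826.result hM hN u]
    intro J hJ
    refine ⟨(Submodule.mkQ _).comp w, fun x => ?_⟩
    rw [LinearMap.comp_apply, hw]
    rfl

end Groth.Agent.S5838
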