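import Groth.Statements.S5839
import Groth.Agent.H29.TopModL3
import Groth.Agent.S5826
import Groth.Agent.S5827

set_option autoImplicit false
universe u v w
open EGA41

namespace Groth.Agent.S5839

open Groth.Agent.H29.TopModL

/-- Let A be preadmissible with ideal of definition 𝔏, the topologies of M and N deduced from that of A,
N/JN projective over A/J for every open ideal J; assuming moreover a countable decreasing
fundamental system of open ideals and M Hausdorff and complete, u : M → N has a linear left inverse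
if and only if the induced map M/𝔏M → N/𝔏N has one (both being equivalent to formal left
invertibility). -/
theorem result {A : Type u} {M : Type v} {N : Type w}
    [CommRing A] [TopologicalSpace A] [AddCommGroup M] [Module A M] [UniformSpace M] [IsUniformAddGroup M]
    [CompleteSpace M] [T2Space M] [AddCommGroup N] [Module A N] [TopologicalSpace N]
    (𝔍 : ℕ → Ideal A) (h𝔍open : ∀ n, IsOpen (𝔍 n : Set A)) (h𝔍anti : Antitone 𝔍)
    (h𝔍basis : (nhds (0 : A)).HasBasis (fun _ : ℕ => True) (fun n => (𝔍 n : Set A)))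
    (hM : TopMod.IsDeduced A M) (hN : TopMod.IsDeduced A N) (u : M →L[A] N)
    (hA : LinTop.IsPreadmissible A) (𝔏 : Ideal A) (h𝔏 : LinTop.IsIdealOfDefinition A 𝔏)
    (hproj : ∀ J : Ideal A, IsOpen (J : Set A) → Module.Projective (A ⧸ J) (N ⧸ (J • (⊤ : Submodule A N)))) :
    (∃ w : N →ₗ[A] M, ∀ x : M, w (u x) = x) ↔
      ∃ w₀ : N →ₗ[A] M ⧸ (𝔏 • ⊤ : Submodule A M), ∀ x : M, w₀ (u x) = Submodule.Quotient.mk x := by
  constructor
  · rintro ⟨w, hw⟩
    refine ⟨(Submodule.mkQ _).comp w, fun x => ?_⟩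
    rw [LinearMap.comp_apply, hw]
    rfl
  · intro hw₀
    have hfl := (Groth.Agent.S5827.result hA 𝔏 h𝔏 hM hN hproj u).2 hw₀
    have hall := (Groth.Agent.S5826.result hM hN u).1 hfl
    have h0 : Nonempty (LInv 𝔍 u.toLinearMap 0) := by
      obtain ⟨w, hw⟩ := hall (𝔍 0) (h𝔍open 0)
      exact ⟨⟨w, hw⟩⟩
    have hstep : ∀ (n : ℕ) (w : LInv 𝔍 u.toLinearMap n), ∃ w' : LInv 𝔍 u.toLinearMap (n + 1),
        ∀ y : N, trans 𝔍 h𝔍anti M n (w'.1 y) = w.1 y := by
      intro n w
      obtain ⟨w', hw'⟩ := hall (𝔍 (n + 1)) (h𝔍open (n + 1))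
      have := hproj (𝔍 (n + 1)) (h𝔍open (n + 1))
      obtain ⟨w'', h1, h2⟩ := exists_step_proj (𝔍 (n + 1)) (𝔍 n) (h𝔍anti (Nat.le_succ n))
        u.toLinearMap w.1 w.2 w' hw'
      exact ⟨⟨w'', h1⟩, h2⟩
    exact exists_global_leftInverse 𝔍 h𝔍open h𝔍anti h𝔍basis hM u.toLinearMap h0 hstep

end Groth.Agent.S5839
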