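import Groth.Statements.S5853
import Groth.Agent.H7.ZFlatBC

set_option autoImplicit false
universe u
open ZClos

namespace Groth.Agent.S5853

open CategoryTheory CategoryTheory.Limits AlgebraicGeometry in
/-- Let f : X' → X be a flat morphism of locally Noetherian schemes, Z a subset of X stable under
specialization, Z' = f⁻¹(Z) (again stable under specialization) and F a quasi-coherent O_X-module.
Then the inverse image f^*(H⁰_{X/Z}(F)) is isomorphic to H⁰_{X'/Z'}(f^* F). (The published statement
asserts that the canonical base-change map is an isomorphism; this row asserts only that an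
isomorphism of O_{X'}-modules exists.) -/
theorem result {X X' : Scheme.{u}} [IsLocallyNoetherian X] [IsLocallyNoetherian X'] (f : X' ⟶ X) [Flat f]
    (Z : Set X) (hZ : StableUnderSpecialization Z) (F : X.Modules) (hF : Coh.IsQCoh F) :
    Nonempty ((Scheme.Modules.pullback f).obj ((ZClos.H0 Z).obj F) ≅
      (ZClos.H0 (f.base ⁻¹' Z)).obj ((Scheme.Modules.pullback f).obj F)) := by
  have hq : Coh.IsQCoh ((ZClos.H0 Z).obj F) := Groth.Agent.S5841.result X Z hZ F hF
  have hq' : ((ZClos.H0 Z).obj F).IsQuasicoherent := hq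
  have hZ' : StableUnderSpecialization (f.base ⁻¹' Z) := hZ.preimage f.continuous
  have hG : ZClos.IsZClosed Z ((ZClos.H0 Z).obj F) := Groth.Agent.H7.ZClosSec.isZClosed_H0 Z F
  have hG' : ZClos.IsZClosed (f.base ⁻¹' Z)
      ((Scheme.Modules.pullback f).obj ((ZClos.H0 Z).obj F)) :=
    Groth.Agent.H7.ZFlatBC.isZClosed_pullback f Z _ hZ hG
  have hu : ∀ x' : X', x' ∉ f.base ⁻¹' Z → Function.Bijective
      ((Groth.Agent.H7.ZClosBase.stalkF x').map
        ((Scheme.Modules.pullback f).map (ZClos.rhoApp Z F))) := fun x' hx' =>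
    Groth.Agent.H7.ZFlatBC.bijective_stalk_pullback_map f _ x'
      (Groth.Agent.H7.ZClosMain.isZClosedAt_of_not_mem Z F (f.base x') hx')
  obtain ⟨v, hv, -⟩ := Groth.Agent.H7.ZClosSec.existsUnique_fac_rhoApp (f.base ⁻¹' Z)
    ((Scheme.Modules.pullback f).obj F) _ hG' ((Scheme.Modules.pullback f).map (ZClos.rhoApp Z F))
  have hiso : IsIso v := Groth.Agent.H7.ZClosIso.isIso_of_fac_rhoApp (f.base ⁻¹' Z) hZ' _ _ hG'
    ((Scheme.Modules.pullback f).map (ZClos.rhoApp Z F)) hu v hv
  exact ⟨(asIso v).symm⟩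

end Groth.Agent.S5853
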