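import Groth.Statements.S5854
import Groth.Agent.S5853
import Groth.Agent.H44.FpqcChart
import Groth.Agent.H44.PullbackFT
import Groth.Agent.H12.CohOpen

set_option autoImplicit false
universe u
open ZClos

namespace Groth.Agent.S5854

open CategoryTheory CategoryTheory.Limits AlgebraicGeometry in
/-- Let f : X' → X be a flat morphism of locally Noetherian schemes, Z a subset of X stable under
specialization, Z' = f⁻¹(Z) and F a quasi-coherent O_X-module. If H⁰_{X/Z}(F) is coherent then
H⁰_{X'/Z'}(f^* F) is coherent; the converse holds when f is moreover surjective (faithfully flat)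
and quasi-compact. -/
theorem result {X X' : Scheme.{u}} [IsLocallyNoetherian X] [IsLocallyNoetherian X'] (f : X' ⟶ X) [Flat f]
    (Z : Set X) (hZ : StableUnderSpecialization Z) (F : X.Modules) (hF : Coh.IsQCoh F) :
    (Coh.IsCoh ((ZClos.H0 Z).obj F) →
      Coh.IsCoh ((ZClos.H0 (f.base ⁻¹' Z)).obj ((Scheme.Modules.pullback f).obj F))) ∧
    (Surjective f → QuasiCompact f →
      Coh.IsCoh ((ZClos.H0 (f.base ⁻¹' Z)).obj ((Scheme.Modules.pullback f).obj F)) →
        Coh.IsCoh ((ZClos.H0 Z).obj F)) := by
  obtain ⟨e⟩ := Groth.Agent.S5853.result f Z hZ F hF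
  have hq : ((ZClos.H0 Z).obj F).IsQuasicoherent := Groth.Agent.S5841.result X Z hZ F hF
  have hZ' : StableUnderSpecialization (f.base ⁻¹' Z) := hZ.preimage f.continuous
  have hF0 : F.IsQuasicoherent := hF
  have hpF : ((Scheme.Modules.pullback f).obj F).IsQuasicoherent := inferInstance
  have hq' : ((ZClos.H0 (f.base ⁻¹' Z)).obj ((Scheme.Modules.pullback f).obj F)).IsQuasicoherent :=
    Groth.Agent.S5841.result X' (f.base ⁻¹' Z) hZ' _ hpF
  have hpq : ((Scheme.Modules.pullback f).obj ((ZClos.H0 Z).obj F)).IsQuasicoherent :=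
    inferInstance
  constructor
  · intro hc
    have hft : SheafOfModules.IsFiniteType (R := X.ringCatSheaf) ((ZClos.H0 Z).obj F) := hc.2
    have h1 : SheafOfModules.IsFiniteType (R := X'.ringCatSheaf)
        ((Scheme.Modules.pullback f).obj ((ZClos.H0 Z).obj F)) :=
      Groth.Agent.H44.isFiniteType_pullback f _
    exact ⟨hq', Groth.Agent.H12.CohOpen.isFiniteType_of_iso e.symm h1⟩
  · intro hs hqc hc'
    have h1 : SheafOfModules.IsFiniteType (R := X'.ringCatSheaf)
        ((Scheme.Modules.pullback f).obj ((ZClos.H0 Z).obj F)) :=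
      Groth.Agent.H12.CohOpen.isFiniteType_of_iso e hc'.2
    exact ⟨hq, Groth.Agent.H44.isFiniteType_of_pullback_fpqc f _⟩

end Groth.Agent.S5854
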