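import Groth.Statements.S5862

set_option autoImplicit false
universe u
open RadPt

namespace Groth.Agent.S5862

lemma pi_of_comp_top {F E K : Type*} [Field F] [Field E] [Field K] {f : F →+* E} {g : E →+* K}
    (h : (g.comp f).IsPurelyInseparable) : g.IsPurelyInseparable := by
  algebraize [f, g, g.comp f]
  exact IsPurelyInseparable.tower_top F E K

lemma pi_of_comp_bot {F E K : Type*} [Field F] [Field E] [Field K] {f : F →+* E} {g : E →+* K}
    (h : (g.comp f).IsPurelyInseparable) : f.IsPurelyInseparable := by
  algebraize [f, g, g.comp f]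
  exact IsPurelyInseparable.tower_bot F E K

open CategoryTheory AlgebraicGeometry in
lemma key {X Y Z : Scheme.{u}} (f : X ⟶ Y) (g : Y ⟶ Z) (x : X) :
    ((f ≫ g).residueFieldMap x).hom.IsPurelyInseparable ↔
      ((f.residueFieldMap x).hom.comp (g.residueFieldMap (f x)).hom).IsPurelyInseparable := by
  have : ((f ≫ g).residueFieldMap x).hom =
      (f.residueFieldMap x).hom.comp (g.residueFieldMap (f x)).hom := by
    rw [Scheme.residueFieldMap_comp]; rfl
  exact (congrArg RingHom.IsPurelyInseparable this).to_iff

open CategoryTheory AlgebraicGeometry in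
/-- Let f : X → Y and g : Y → Z be morphisms of schemes and y a point of Y. If f is radicial at y (fibre
with at most one point, purely inseparable residue field extension) and g is radicial at g(y), then
g ∘ f is radicial at g(y). Conversely, if f is surjective and g ∘ f is radicial at g(y), then f is
radicial at y and g is radicial at g(y). -/
theorem result {X Y Z : Scheme.{u}} (f : X ⟶ Y) (g : Y ⟶ Z) (y : Y) :
    (RadPt.IsRadicialAt f y → RadPt.IsRadicialAt g (g y) → RadPt.IsRadicialAt (f ≫ g) (g y)) ∧
      (Surjective f → RadPt.IsRadicialAt (f ≫ g) (g y) →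
        RadPt.IsRadicialAt f y ∧ RadPt.IsRadicialAt g (g y)) := by
  refine ⟨fun hf hg => ⟨?_, ?_⟩, fun hs hfg => ⟨⟨?_, ?_⟩, ⟨?_, ?_⟩⟩⟩
  · intro x x' hx hx'
    have h1 : f x = y := hg.1 _ _ (by simpa using hx) rfl
    have h2 : f x' = y := hg.1 _ _ (by simpa using hx') rfl
    exact hf.1 _ _ h1 h2
  · intro x hx
    have h1 : f x = y := hg.1 _ _ (by simpa using hx) rfl
    rw [key]
    exact (hg.2 (f x) (by rw [h1])).comp (hf.2 x h1)
  · intro x x' hx hx'
    exact hfg.1 _ _ (by simp [hx]) (by simp [hx'])
  · intro x hx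
    have := hfg.2 x (by simp [hx])
    rw [key] at this
    exact pi_of_comp_top this
  · intro y' y'' hy' hy''
    obtain ⟨x', rfl⟩ := hs.surj y'
    obtain ⟨x'', rfl⟩ := hs.surj y''
    rw [hfg.1 x' x'' (by simpa using hy') (by simpa using hy'')]
  · intro y' hy'
    obtain ⟨x', rfl⟩ := hs.surj y'
    have := hfg.2 x' (by simpa using hy')
    rw [key] at this
    exact pi_of_comp_bot this

end Groth.Agent.S5862
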