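import Groth.Statements.S5872
import Groth.Agent.H99.AssEmbBridge
import Groth.Agent.H99.GenericNhd

set_option autoImplicit false
universe u
open CategoryTheory AlgebraicGeometry
open Cons9

namespace Groth.Agent.S5872

/-- Let S be an integral Noetherian scheme with generic point η, f : X ⟶ S a morphism of finite type and
F a coherent O_X-module; for s in S let F_s be the pullback of F to the scheme-theoretic fibre X_s.
If F_η has no embedded associated point, then there is an open neighbourhood U of η such that for
every s in U the module F_s has no embedded associated point. -/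
theorem result {X S : Scheme.{u}} [IsIntegral S] [IsNoetherian S]
    (f : X ⟶ S) [LocallyOfFiniteType f] [QuasiCompact f]
    (F : X.Modules) [Coh.IsQCoh F] (hF : CohB1.IsFP F)
    (hη : AssSch.NoEmbedded ((Scheme.Modules.pullback (f.fiberι (genericPoint S))).obj F)) :
    ∃ U : S.Opens, genericPoint S ∈ U ∧
      ∀ s ∈ U, AssSch.NoEmbedded ((Scheme.Modules.pullback (f.fiberι s)).obj F) := by
  have hFc : Coh.IsCoh F := Groth.Agent.H99.FibrePropGenM.isCoh_of_isFP F hF
  haveI : LocallyOfFinitePresentation f :=
    Groth.Agent.H70.RegLocus.locallyOfFinitePresentation_of_isLocallyNoetherian f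
  have hlc : Topology.IsLocallyConstructible
      {s : S | AssSch.NoEmbedded ((Scheme.Modules.pullback (f.fiberι s)).obj F)} := by
    rw [Groth.Agent.H99.AssEmbBridge.setOf_noEmbedded_eq f F hFc]
    refine Groth.Agent.H17.isLocallyConstructible_compl ?_
    exact f.isLocallyConstructible_image
      (Groth.Agent.H99.AssEmb.isLCM_embThrough f inferInstance F inferInstance hF)
  obtain ⟨U, hU, hηU, hUE⟩ := Groth.Agent.H99.GenericNhd.exists_isOpen_subset (genericPoint S)
    (fun x => genericPoint_specializes x) _ hlc hη
  exact ⟨⟨U, hU⟩, hηU, fun s hs => hUE hs⟩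

end Groth.Agent.S5872
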