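import Groth.Statements.S5886
import Mathlib
import Groth.Agent.H17.ConsPropLib

set_option autoImplicit false
universe u
open CategoryTheory AlgebraicGeometry
open ConsProp

namespace Groth.Agent.S5886

/-- The property of an algebraic k-scheme X of being finite over k is a constructible property of
algebraic schemes (invariant under extension of the base field; over an integral Noetherian base,
for a family of finite type, the set of points with finite fibre or its complement contains a
nonempty open subset). -/
theorem result :
    ConsProp.IsCons (fun Y T g => AlgebraicGeometry.IsFinite g) := by
  open AlgebraicGeometry CategoryTheory Limits Groth.Agent.H17 in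
  refine ⟨?_, ?_⟩
  · intro Y Y' T T' g g' e h _ _ _ _ _ _ hY
    have hqc' : QuasiCompact g' := MorphismProperty.of_isPullback (P := @QuasiCompact) hY inferInstance
    change IsFinite g ↔ IsFinite g'
    rw [isFinite_iff_locallyQuasiFinite_of_onePoint g, isFinite_iff_locallyQuasiFinite_of_onePoint g']
    exact locallyQuasiFinite_iff_of_surjective hY (fpqc_of_onePoint h).1.1
  · intro X S u _ _ _ _
    have : IsLocallyNoetherian X := LocallyOfFiniteType.isLocallyNoetherian u
    have h1 := isLocallyConstructible_setOf_fiber_locallyQuasiFinite u
    have heq : ConsProp.locus (fun Y T g => IsFinite g) u =
        {s : S | LocallyQuasiFinite (u.fiberToSpecResidueField s)} := by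
      ext s
      have hqc : QuasiCompact (u.fiberToSpecResidueField s) := inferInstance
      exact isFinite_iff_locallyQuasiFinite_of_onePoint (u.fiberToSpecResidueField s)
    rw [heq]
    exact interior_nonempty_or_of_isLocallyConstructible h1

end Groth.Agent.S5886
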