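import Groth.Statements.S5887
import Mathlib
import Groth.Agent.H17.ConsPropLib

set_option autoImplicit false
universe u
open CategoryTheory AlgebraicGeometry
open ConsProp

namespace Groth.Agent.S5887

/-- The property of an algebraic k-scheme X of being radicial over k (structure morphism universally
injective) is a constructible property of algebraic schemes. -/
theorem result :
    ConsProp.IsCons (fun Y T g => AlgebraicGeometry.UniversallyInjective g) := by
  open AlgebraicGeometry CategoryTheory Limits Groth.Agent.H17 in
  refine ⟨?_, ?_⟩
  · intro Y Y' T T' g g' e h _ _ _ _ _ _ hY
    exact universallyInjective_iff_of_fpqc hY (fpqc_of_onePoint h)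
  · intro X S u _ _ _ _
    have : IsLocallyNoetherian X := LocallyOfFiniteType.isLocallyNoetherian u
    have h1 := isLocallyConstructible_setOf_fiber_universallyInjective u
    exact interior_nonempty_or_of_isLocallyConstructible h1

end Groth.Agent.S5887
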