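import Groth.Statements.S5889
import Mathlib
import Groth.Agent.H17.ConsPropLib

set_option autoImplicit false
universe u
open CategoryTheory AlgebraicGeometry
open ConsProp

namespace Groth.Agent.S5889

/-- Being quasi-finite (locally of finite type, quasi-compact, with discrete fibres) is a constructible
property of morphisms of algebraic schemes. -/
theorem result :
    ConsProp.IsConsMor
      (fun X Y T f g => AlgebraicGeometry.LocallyOfFiniteType f ∧ AlgebraicGeometry.QuasiCompact f ∧
        AlgebraicGeometry.LocallyQuasiFinite f) := by
  open AlgebraicGeometry CategoryTheory Limits Groth.Agent.H17 in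
  refine ⟨?_, ?_⟩
  · intro X X' Y Y' T T' f g f' g' eX eY h _ _ _ _ _ _ _ _ hY hX
    have hQ := fpqc_of_isPullback_onePoint hY
    constructor
    · rintro ⟨h1, h2, h3⟩
      exact ⟨MorphismProperty.of_isPullback (P := @LocallyOfFiniteType) hX h1,
        MorphismProperty.of_isPullback (P := @QuasiCompact) hX h2,
        MorphismProperty.of_isPullback (P := @LocallyQuasiFinite) hX h3⟩
    · rintro ⟨h1, h2, h3⟩
      have h1' := (locallyOfFiniteType_iff_of_fpqc hX hQ).mpr h1
      exact ⟨h1', (quasiCompact_iff_of_fpqc hX hQ).mpr h2,
        (locallyQuasiFinite_iff_of_surjective hX hQ.1.1).mpr h3⟩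
  · intro X Y S f g _ _ _ _ _ _
    have : IsLocallyNoetherian Y := LocallyOfFiniteType.isLocallyNoetherian g
    have : IsLocallyNoetherian X := LocallyOfFiniteType.isLocallyNoetherian (f ≫ g)
    have hf1 : LocallyOfFiniteType f := locallyOfFiniteType_of_comp f g
    have hf2 : QuasiCompact f := QuasiCompact.of_comp f g
    have h1 := isLocallyConstructible_setOf_fibreMap_locallyQuasiFinite f g
    have heq : ConsProp.locusMor (fun X Y T f g => LocallyOfFiniteType f ∧ QuasiCompact f ∧
        LocallyQuasiFinite f) f g = {s : S | LocallyQuasiFinite (fibreMap f g s)} := by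
      ext s
      constructor
      · intro hs
        exact hs.2.2
      · intro hs
        have hpb := isPullback_fibreMap f g s
        exact ⟨MorphismProperty.of_isPullback (P := @LocallyOfFiniteType) hpb hf1,
          MorphismProperty.of_isPullback (P := @QuasiCompact) hpb hf2, hs⟩
    rw [heq]
    exact interior_nonempty_or_of_isLocallyConstructible h1

end Groth.Agent.S5889
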