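import Groth.Statements.S5890
import Mathlib
import Groth.Agent.H17.ConsPropLib

set_option autoImplicit false
universe u
open CategoryTheory AlgebraicGeometry
open ConsProp

namespace Groth.Agent.S5890

/-- Being radicial (universally injective) is a constructible property of morphisms of algebraic
schemes. -/
theorem result :
    ConsProp.IsConsMor (fun X Y T f g => AlgebraicGeometry.UniversallyInjective f) := by
  open AlgebraicGeometry CategoryTheory Limits Groth.Agent.H17 in
  refine ⟨?_, ?_⟩
  · intro X X' Y Y' T T' f g f' g' eX eY h _ _ _ _ _ _ _ _ hY hX
    exact universallyInjective_iff_of_fpqc hX (fpqc_of_isPullback_onePoint hY)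
  · intro X Y S f g _ _ _ _ _ _
    have : IsLocallyNoetherian Y := LocallyOfFiniteType.isLocallyNoetherian g
    have : IsLocallyNoetherian X := LocallyOfFiniteType.isLocallyNoetherian (f ≫ g)
    have h1 := isLocallyConstructible_setOf_fibreMap_universallyInjective f g
    exact interior_nonempty_or_of_isLocallyConstructible h1

end Groth.Agent.S5890
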