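import Groth.Statements.S5911
import Groth.Agent.H70.FlatAss.Separated
-- import your own Groth.Agent.* helpers here

set_option autoImplicit false
universe u
open TensorProduct
open EGA43

namespace Groth.Agent.S5911

/-- Let A be a Noetherian ring, J an ideal of A and M an A-module which is ideally separated for the
J-adic topology (for every ideal a of A the module a ⊗_A M is J-adically separated). Let (p_i) be a
finite family of prime ideals of A containing J, let J_n be the intersection of the symbolic powers
p_i^{(n)} (preimages in A of the n-th powers of the maximal ideals of the local rings A_{p_i}), and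
assume every power J^n contains some J_m. Then M is flat if and only if (A/J) ⊗_A M is flat over A/J
and M_{p_i} is flat over A_{p_i} for every i. -/
theorem result {A : Type u} [CommRing A] [IsNoetherianRing A]
    (J : Ideal A) (M : Type u) [AddCommGroup M] [Module A M]
    (hsep : ∀ a : Ideal A, IsHausdorff J (↥a ⊗[A] M))
    {r : ℕ} (p : Fin r → Ideal A) [∀ i, (p i).IsPrime] (hp : ∀ i, J ≤ p i)
    (htop : ∀ n : ℕ, ∃ m : ℕ,
      ⨅ i, Ideal.comap (algebraMap A (Localization.AtPrime (p i))) (IsLocalRing.maximalIdeal (Localization.AtPrime (p i)) ^ m) ≤ J ^ n) :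
    Module.Flat A M ↔
      Module.Flat (A ⧸ J) ((A ⧸ J) ⊗[A] M) ∧
        ∀ i, Module.Flat (Localization.AtPrime (p i)) (LocalizedModule (p i).primeCompl M) := by
  constructor
  · intro hflat
    exact ⟨inferInstance, fun i => inferInstance⟩
  · rintro ⟨h1, h2⟩
    apply Groth.Agent.H70.FlatAss.flat_of_flat_quotient_pow_of_isHausdorff J hsep
    intro n hn
    obtain ⟨m, hm⟩ := htop n
    set Q := ⨅ i, Ideal.comap (algebraMap A (Localization.AtPrime (p i)))
      (IsLocalRing.maximalIdeal (Localization.AtPrime (p i)) ^ m) with hQ
    have hQflat : Module.Flat (A ⧸ Q) ((A ⧸ Q) ⊗[A] M) := by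
      apply Groth.Agent.H70.FlatAss.flat_quotient_of_pow_le J (Set.range p) ?_ Q m ?_ ?_
      · rintro _ ⟨i, rfl⟩
        exact ⟨inferInstance, Module.Flat.trans A (Localization.AtPrime (p i)) _⟩
      · rw [hQ]
        apply le_iInf
        intro i a ha
        rw [Ideal.mem_comap]
        have h3 : a ∈ (p i) ^ m := Ideal.pow_right_mono (hp i) m ha
        have h4 := Ideal.mem_map_of_mem (algebraMap A (Localization.AtPrime (p i))) h3
        rw [Ideal.map_pow, Localization.AtPrime.map_eq_maximalIdeal] at h4
        exact h4
      · intro P hP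
        obtain ⟨i, hi⟩ := Groth.Agent.H70.FlatAss.exists_mem_associatedPrimes_of_iInf _ hP
        exact ⟨i, (Groth.Agent.H70.FlatAss.eq_of_mem_associatedPrimes_symbolicPower (p i) m hi).symm⟩
    exact Groth.Agent.H70.FlatAss.flat_of_map_eq_bot Q (A ⧸ J ^ n) (by
      rw [Ideal.Quotient.algebraMap_eq, Ideal.map_eq_bot_iff_le_ker, Ideal.mk_ker]
      exact hm)

end Groth.Agent.S5911
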