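import Groth.Statements.S5913
import Groth.Agent.H17.Jac.JacAlg

set_option autoImplicit false
set_option linter.style.haveILetI false
universe u
open CategoryTheory AlgebraicGeometry
open EGA43

namespace Groth.Agent.S5913

/-- In the locally Noetherian form: a locally Noetherian scheme X is Jacobson if and only if it has no
subscheme isomorphic to the spectrum of a semi-local integral domain of dimension 1, i.e. there is
no immersion Spec R ⟶ X with R an integral domain having finitely many maximal ideals and Krull
dimension 1. -/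
theorem result (X : Scheme.{u}) [IsLocallyNoetherian X] :
    JacobsonSpace X ↔
      ∀ (R : CommRingCat.{u}) [IsDomain R] (i : Spec R ⟶ X) [IsImmersion i],
        ¬ (Finite (MaximalSpectrum R) ∧ ringKrullDim R = 1) := by
  constructor
  · intro hJ R _ i _ ⟨hfin, hdim⟩
    haveI : JacobsonSpace ↥(i.coborderRange : Scheme.{u}) :=
      JacobsonSpace.of_isOpenEmbedding i.coborderRange.ι.isOpenEmbedding
    haveI : JacobsonSpace ↥(Spec R) :=
      JacobsonSpace.of_isClosedEmbedding i.liftCoborder.isClosedEmbedding
    haveI : JacobsonSpace (PrimeSpectrum R) := ‹JacobsonSpace ↥(Spec R)›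
    haveI : IsJacobsonRing R := PrimeSpectrum.isJacobsonRing_iff_jacobsonSpace.mpr inferInstance
    have hF := Groth.Agent.H17.Jac.isField_of_isJacobsonRing_of_finite (R := R)
    have : ringKrullDim R = 0 := ringKrullDim_eq_zero_of_isField hF
    rw [this] at hdim
    exact zero_ne_one hdim
  · intro h
    have hcov : TopologicalSpace.IsOpenCover (fun U : X.affineOpens => U.1) :=
      iSup_affineOpens_eq_top X
    rw [hcov.jacobsonSpace_iff]
    intro U
    by_contra hU
    have hA : ¬ IsJacobsonRing Γ(X, U.1) := by
      intro hJ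
      apply hU
      haveI : JacobsonSpace (PrimeSpectrum Γ(X, U.1)) := inferInstance
      haveI : JacobsonSpace ↥(Spec Γ(X, U.1)) := ‹JacobsonSpace (PrimeSpectrum Γ(X, U.1))›
      exact JacobsonSpace.of_isOpenEmbedding (f := U.2.isoSpec.hom.base)
        U.2.isoSpec.hom.homeomorph.isOpenEmbedding
    haveI : IsNoetherianRing Γ(X, U.1) := IsLocallyNoetherian.component_noetherian U
    obtain ⟨q, hq, hfin, hdim⟩ := Groth.Agent.H17.Jac.exists_prime_quotient_of_not_isJacobsonRing hA
    let R := CommRingCat.of (Γ(X, U.1) ⧸ q)
    haveI : IsDomain R := Ideal.Quotient.isDomain q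
    let i : Spec R ⟶ X := Spec.map (CommRingCat.ofHom (Ideal.Quotient.mk q)) ≫ U.2.fromSpec
    haveI : IsClosedImmersion (Spec.map (CommRingCat.ofHom (Ideal.Quotient.mk q))) :=
      IsClosedImmersion.spec_of_surjective _ Ideal.Quotient.mk_surjective
    haveI : IsOpenImmersion U.2.fromSpec := IsAffineOpen.isOpenImmersion_fromSpec U.2
    haveI : IsImmersion i := inferInstanceAs (IsImmersion
      (Spec.map (CommRingCat.ofHom (Ideal.Quotient.mk q)) ≫ U.2.fromSpec))
    exact h R i ⟨hfin, hdim⟩

end Groth.Agent.S5913
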