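import Groth.Statements.S5914
import Groth.Agent.H99.ProfMain

set_option autoImplicit false
universe u
open CategoryTheory AlgebraicGeometry
open EGA43

namespace Groth.Agent.S5914

/-- Let f : X ⟶ S be locally of finite presentation and F a quasi-coherent O_X-module of finite
presentation. For x in X with s = f x write F_s for the pullback of F to the fibre X_s and
prof*_x(F_s) = prof((F_s)_x) + dim cl_{X_s}{x} for its rectified depth at x (depth of the stalk of
F_s at x over the local ring of the fibre, which is +∞ for the zero stalk, plus the Krull dimension
of the closure of x in the fibre). Then the function x ↦ prof*_x(F_{f(x)}) is locally constructible: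
for every n in ℕ∞ the set of x with prof*_x(F_{f(x)}) = n is a locally constructible subset of X.
(The published statement calls the function constructible and takes its hypotheses from a
neighbouring result stated without a module; the hypotheses here, f locally of finite presentation
and F quasi-coherent of finite presentation, are the ones its proof uses, and local constructibility
of the level sets is what that proof establishes.) -/
theorem result {X S : Scheme.{u}} (f : X ⟶ S) [LocallyOfFinitePresentation f]
    (F : X.Modules) [Coh.IsQCoh F] (hF : CohB1.IsFP F) (n : ℕ∞) :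
    Topology.IsLocallyConstructible {x : X |
      ((CInt.fiberDepth f F x : ℕ∞) : WithBot ℕ∞) +
          topologicalKrullDim ↥(closure ({f.asFiber x} : Set ↥(f.fiber (f.base x)))) = ((n : ℕ∞) : WithBot ℕ∞)} := by
  have hFc : Coh.IsCoh F := Groth.Agent.H99.FibrePropGenM.isCoh_of_isFP F hF
  have hP := fun k => Groth.Agent.H99.ProfCons.isLocallyConstructible_profGE f F hF k
  have hS := Groth.Agent.H99.ProfCons.isLocallyConstructible_suppM f F hF
  induction n with
  | top =>
    convert Groth.Agent.H17.isLocallyConstructible_compl hS using 1
    ext x
    obtain ⟨v, hv, hvtop, -⟩ := Groth.Agent.H99.ProfMain.exists_prof_eq f F hFc x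
    simp only [Set.mem_ofPred_eq, Set.mem_compl_iff]
    change ((LocCoh.depth _ _ : ℕ∞) : WithBot ℕ∞) + _ = _ ↔ _
    rw [hv, ← hvtop]
    exact WithBot.coe_inj
  | coe m =>
    convert (hP m).inter (Groth.Agent.H17.isLocallyConstructible_compl (hP (m + 1))) using 1
    ext x
    obtain ⟨v, hv, -, hvk⟩ := Groth.Agent.H99.ProfMain.exists_prof_eq f F hFc x
    simp only [Set.mem_ofPred_eq, Set.mem_inter_iff, Set.mem_compl_iff]
    change ((LocCoh.depth _ _ : ℕ∞) : WithBot ℕ∞) + _ = _ ↔ _
    rw [hv, ← hvk m, ← hvk (m + 1), ← Groth.Agent.H99.ProfMain.enat_eq_natCast_iff]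
    exact WithBot.coe_inj

end Groth.Agent.S5914
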