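import Groth.Statements.S5918
import Groth.Agent.S4856
import Groth.Agent.H3.FlatOverPullbackComp

set_option autoImplicit false
universe u
open CategoryTheory AlgebraicGeometry
open EGA43

namespace Groth.Agent.S5918

open CategoryTheory.Limits in
/-- Let A be an Artinian local ring, f : X ⟶ Spec A locally of finite type, F a coherent O_X-module and
x a point of X. Let (g_i : Y_i ⟶ Spec A) be a family of A-schemes such that an element of A whose
image in every Γ(Y_i, O_{Y_i}) is zero is itself zero. If, for every i, the pullback of F to X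
×_{Spec A} Y_i is flat over Y_i at every point lying over x, then F is f-flat at x. -/
theorem result {A : Type u} [CommRing A]
    [IsArtinianRing A] [IsLocalRing A] {X : Scheme.{u}} (f : X ⟶ Spec (CommRingCat.of A))
    [LocallyOfFiniteType f] (F : X.Modules) (hF : Coh.IsCoh F) (x : X)
    {ι : Type u} (Y : ι → Scheme.{u}) (g : ∀ i, Y i ⟶ Spec (CommRingCat.of A))
    (hg : ∀ a : A, (∀ i, (g i).appTop ((Scheme.ΓSpecIso (CommRingCat.of A)).inv a) = 0) → a = 0)
    (hflat : ∀ (i : ι) (x' : ↥(pullback f (g i))), pullback.fst f (g i) x' = x →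
      FlatMod.IsFlatOverAt (pullback.snd f (g i)) ((Scheme.Modules.pullback (pullback.fst f (g i))).obj F) x') :
    FlatMod.IsFlatOverAt f F x := by
  classical
  haveI : F.IsQuasicoherent := hF.1
  let S := Spec (CommRingCat.of A)
  -- the family of local rings: stalks of the `Y i`
  let A' : (Σ i, ↥(Y i)) → Type u := fun p => ((Y p.1).presheaf.stalk p.2 : Type u)
  let φ : ∀ p : (Σ i, ↥(Y i)), CommRingCat.of A ⟶ (Y p.1).presheaf.stalk p.2 := fun p =>
    (Scheme.ΓSpecIso (CommRingCat.of A)).inv ≫ (g p.1).appTop ≫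
      (Y p.1).presheaf.germ ⊤ p.2 trivial
  have hφ : ∀ p : (Σ i, ↥(Y i)), Spec.map (φ p) = (Y p.1).fromSpecStalk p.2 ≫ g p.1 := by
    intro p
    have h1 : g p.1 = (Y p.1).toSpecΓ ≫ Spec.map (g p.1).appTop ≫
        Spec.map (Scheme.ΓSpecIso (CommRingCat.of A)).inv := by
      rw [← Category.assoc, ← Scheme.toSpecΓ_naturality, Category.assoc,
        toSpecΓ_SpecMap_ΓSpecIso_inv, Category.comp_id]
    conv_rhs => rw [h1]
    rw [Scheme.fromSpecStalk_toSpecΓ_assoc, ← Spec.map_comp, ← Spec.map_comp]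
    simp only [φ, Category.assoc]
  refine Groth.Agent.S4856.result f F hF x
    (fun p : (Σ i, ↥(Y i)) => ((Y p.1).presheaf.stalk p.2 : Type u)) (fun p => (φ p).hom) ?_ ?_
  · intro a ha
    refine hg a (fun i => ?_)
    apply TopCat.Presheaf.section_ext (Y i).sheaf ⊤ _ 0
    intro y hy
    change (Y i).presheaf.germ ⊤ y hy _ = (Y i).presheaf.germ ⊤ y hy 0
    rw [map_zero]
    exact ha ⟨i, y⟩
  · intro p x'' hx1 hx2
    refine Groth.Agent.H3.FlatOverPullbackComp.isFlatOverAt_pullback_of_comp f (g p.1)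
      ((Y p.1).fromSpecStalk p.2) _ ?_ F x'' (fun x' hx' => hflat p.1 x' (hx'.trans hx1))
    exact hφ p

end Groth.Agent.S5918
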