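import Groth.Statements.S5936
import Groth.Agent.H32.PdTor

set_option autoImplicit false
universe u
open TensorProduct CategoryTheory
open EGA43

namespace Groth.Agent.S5936

/-- Let A be a commutative ring, B a finitely presented A-algebra which is flat as an A-module, and M a
finitely presented B-module which is flat as an A-module. Then the projective dimension of M as a
B-module equals its Tor-dimension, the least n such that Tor_i^B(M, N) = 0 for every i > n and every
B-module N. (Both sides are valued in WithBot ℕ∞, with the zero module of dimension ⊥; Tor_i^B(M, −)
is the i-th left derived functor of M ⊗_B −. In general only Tor-dimension ≤ projective dimension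
holds.) -/
theorem result (A B M : Type u) [CommRing A] [CommRing B] [Algebra A B]
    [Algebra.FinitePresentation A B] [Module.Flat A B] [AddCommGroup M] [Module B M] [Module A M]
    [IsScalarTower A B M] [Module.FinitePresentation B M] [Module.Flat A M] :
    projectiveDimension (ModuleCat.of B M) =
      sInf {n : WithBot ℕ∞ | ∀ i : ℕ, n < i → ∀ N : ModuleCat.{u} B,
        Limits.IsZero (((Tor (ModuleCat.{u} B) i).obj (ModuleCat.of B M)).obj N)} := by
  unfold projectiveDimension
  congr 1
  ext n
  constructor
  · intro h i hi N
    exact Groth.Agent.H32.PdTor.isZero_tor_of_hasProjectiveDimensionLT i _ (h i hi) N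
  · intro h i hi
    match i, hi with
    | 0, hi =>
      exact (Groth.Agent.H32.PdTor.isZero_of_isZero_tor_zero _
        (h 0 hi _)).hasProjectiveDimensionLT_zero
    | (i + 1), hi =>
      refine Groth.Agent.H32.PdTor.hasProjectiveDimensionLT_of_isZero_tor A B i M ?_
      intro j hj N
      refine h j (lt_of_lt_of_le hi ?_) N
      exact_mod_cast hj

end Groth.Agent.S5936
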