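import Groth.Statements.S5939
-- import your own Groth.Agent.* helpers here

set_option autoImplicit false
universe u
open CategoryTheory AlgebraicGeometry
open Unram17

namespace Groth.Agent.S5939

theorem quasiCompact_of_comp_surj {X Y Z : Scheme.{u}} (f : X ⟶ Y) (g : Y ⟶ Z)
    [Surjective f] [QuasiCompact (f ≫ g)] : QuasiCompact g := by
  refine ⟨fun U hU hUc => ?_⟩
  have h1 : IsCompact ((f ≫ g) ⁻¹' U) := QuasiCompact.isCompact_preimage U hU hUc
  have h2 : f '' ((f ≫ g) ⁻¹' U) = g ⁻¹' U := by
    ext y
    constructor
    · rintro ⟨x, hx, rfl⟩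
      simpa using hx
    · intro hy
      obtain ⟨x, rfl⟩ := f.surjective y
      exact ⟨x, by simpa using hy, rfl⟩
  rw [← h2]
  exact h1.image f.continuous

/-- Let f : X ⟶ Y be faithfully flat, locally of finite presentation and quasi-compact, and let g : Y ⟶
Z be a morphism such that f ≫ g is of finite presentation (locally of finite presentation,
quasi-compact and quasi-separated). Then g is quasi-compact and quasi-separated; together with the
descent of local finite presentation along f this says that g is of finite presentation. This is the
case f quasi-compact. -/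
theorem result {X Y Z : Scheme.{u}} (f : X ⟶ Y) (g : Y ⟶ Z)
    [Surjective f] [Flat f] [LocallyOfFinitePresentation f] [QuasiCompact f]
    [LocallyOfFinitePresentation (f ≫ g)] [QuasiCompact (f ≫ g)] [QuasiSeparated (f ≫ g)] :
    QuasiCompact g ∧ QuasiSeparated g := by
  have hg : QuasiCompact g := quasiCompact_of_comp_surj f g
  refine ⟨hg, ?_⟩
  rw [quasiSeparated_iff]
  let h : Limits.pullback (f ≫ g) (f ≫ g) ⟶ Limits.pullback g g :=
    Limits.pullback.map (f ≫ g) (f ≫ g) g g f f (𝟙 Z) (by simp) (by simp)
  have hh : QuasiCompact h :=
    MorphismProperty.pullbackMap (P := @QuasiCompact) (f := f ≫ g) (g := f ≫ g) (f' := g) (g' := g)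
      (i₁ := f) (i₂ := f) inferInstance inferInstance rfl rfl
  have e : Limits.pullback.diagonal (f ≫ g) ≫ h = f ≫ Limits.pullback.diagonal g := by
    apply Limits.pullback.hom_ext
    · simp only [h, Category.assoc, Limits.pullback.lift_fst, Limits.pullback.diagonal_fst,
        Category.comp_id]
      rw [Limits.pullback.diagonal_fst_assoc]
    · simp only [h, Category.assoc, Limits.pullback.lift_snd, Limits.pullback.diagonal_snd,
        Category.comp_id]
      rw [Limits.pullback.diagonal_snd_assoc]
  have : QuasiCompact (f ≫ Limits.pullback.diagonal g) := by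
    rw [← e]
    infer_instance
  exact quasiCompact_of_comp_surj f (Limits.pullback.diagonal g)

end Groth.Agent.S5939
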