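import Groth.Statements.S5947
import Groth.Agent.H44.DerSpec

set_option autoImplicit false
universe u
open CategoryTheory AlgebraicGeometry TopologicalSpace
open Nrm16

namespace Groth.Agent.S5947

/-- Let A be a commutative ring, B an A-algebra and L a B-module; put S = Spec A, X = Spec B and let F
be the O_X-module associated with L. For an S-derivation D of O_X into F write Γ(D) : B → L for its
effect on global sections (global sections of O_X and of F being identified with B and L by the
canonical isomorphisms). Then D ↦ Γ(D) is a bijection from the set of S-derivations of O_X into F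
onto the set of A-derivations of B into L: every Γ(D) is an A-derivation, and every A-derivation of
B into L is Γ(D) for exactly one D. (The published statement asserts an isomorphism of B-modules; no
module structure is placed on sheaf derivations here, so this row states the bijection.) -/
theorem result (A B : Type u) [CommRing A] [CommRing B] [Algebra A B]
    (L : Type u) [AddCommGroup L] [Module B L] [Module A L] [IsScalarTower A B L] :
    (∀ D : OmegaSh.Der (Spec.map (CommRingCat.ofHom (algebraMap A B))) (tilde (ModuleCat.of (CommRingCat.of B) L)),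
      ∃ δ : Derivation A B L, ∀ t : B, D.app ⊤ ((Scheme.ΓSpecIso (CommRingCat.of B)).inv t) =
        (tilde.isoTop (ModuleCat.of (CommRingCat.of B) L)).hom (δ t)) ∧
    ∀ δ : Derivation A B L,
      ∃! D : OmegaSh.Der (Spec.map (CommRingCat.ofHom (algebraMap A B))) (tilde (ModuleCat.of (CommRingCat.of B) L)),
        ∀ t : B, D.app ⊤ ((Scheme.ΓSpecIso (CommRingCat.of B)).inv t) =
          (tilde.isoTop (ModuleCat.of (CommRingCat.of B) L)).hom (δ t) := by
  refine ⟨fun D => ?_, fun δ => ?_⟩
  · let δ₀ := Groth.Agent.H44.derSpecFun (CommRingCat.ofHom (algebraMap A B))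
      (ModuleCat.of (CommRingCat.of B) L) D
    have hmul : ∀ a b : B, δ₀ (a * b) = a • δ₀ b + b • δ₀ a :=
      Groth.Agent.H44.derSpecFun_mul (CommRingCat.ofHom (algebraMap A B))
        (ModuleCat.of (CommRingCat.of B) L) D
    have hzero : ∀ a : A, δ₀ (algebraMap A B a) = 0 :=
      Groth.Agent.H44.derSpecFun_map (CommRingCat.ofHom (algebraMap A B))
        (ModuleCat.of (CommRingCat.of B) L) D
    let δ : Derivation A B L :=
      { toFun := fun t => δ₀ t
        map_add' := fun a b => map_add δ₀ a b
        map_smul' := fun a b => by
          change δ₀ (a • b) = a • δ₀ b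
          rw [Algebra.smul_def, hmul, hzero, smul_zero, add_zero, algebraMap_smul]
        map_one_eq_zero' := by
          change δ₀ 1 = 0
          have := hzero 1
          rwa [map_one] at this
        leibniz' := fun a b => hmul a b }
    exact ⟨δ, fun t => Groth.Agent.H44.derSpecFun_spec (CommRingCat.ofHom (algebraMap A B))
      (ModuleCat.of (CommRingCat.of B) L) D t⟩
  · let δ₀ : B →+ L := (δ : B →ₗ[A] L).toAddMonoidHom
    obtain ⟨D, hD⟩ := Groth.Agent.H44.exists_der_of_derSpec (CommRingCat.ofHom (algebraMap A B))
      (ModuleCat.of (CommRingCat.of B) L) δ₀ (fun a b => δ.leibniz a b)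
      (fun a => δ.map_algebraMap a)
    refine ⟨D, hD, fun D' hD' => ?_⟩
    exact Groth.Agent.H44.der_ext_of_ΓSpecIso_inv (CommRingCat.ofHom (algebraMap A B))
      (ModuleCat.of (CommRingCat.of B) L) (fun t => (hD' t).trans (hD t).symm)

end Groth.Agent.S5947
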