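import Groth.Statements.S5950
import Groth.Agent.H38.NormUP8

set_option autoImplicit false
universe u
open CategoryTheory AlgebraicGeometry
open Unram17

namespace Groth.Agent.S5950

/-- Let X be an integral scheme which has a nonempty (hence dense) open subset at whose points the local
rings are integrally closed, let X' ⟶ X be its normalization, and let f : Y ⟶ X be a morphism of
schemes. Then there is an isomorphism Y ≅ X' over X if and only if: every local ring of Y is an
integrally closed domain, f is an integral morphism, and there is a dense open subset U of X whose
preimage is dense in Y and such that the restriction f⁻¹(U) ⟶ U of f is an isomorphism. (The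
published statement allows X reduced with locally finitely many irreducible components and a dense
normal open subset; this row states the case of an integral X. The quasi-compactness and
quasi-separatedness binders on the generic point always hold and only serve to form the
normalization.) -/
theorem result (X : Scheme.{u}) [IsIntegral X]
    [QuasiCompact (X.fromSpecStalk (genericPoint X))] [QuasiSeparated (X.fromSpecStalk (genericPoint X))]
    (hV : ∃ V : X.Opens, (V : Set ↥X).Nonempty ∧ ∀ x ∈ V, IsIntegrallyClosed (X.presheaf.stalk x))
    {Y : Scheme.{u}} (f : Y ⟶ X) :
    (∃ e : Y ≅ Curv2.normalization X, e.hom ≫ Curv2.normalizationι X = f) ↔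
      Pi1.IsNormalScheme Y ∧ IsIntegralHom f ∧
        ∃ U : X.Opens, Dense (U : Set ↥X) ∧ Dense ((f ⁻¹ᵁ U : Y.Opens) : Set ↥Y) ∧ IsIso (f ∣_ U) := by
  constructor
  · rintro ⟨e, he⟩
    obtain ⟨hY, hint, -⟩ := Groth.Agent.H38.NormUP.characterization_of_iso X f e he
    exact ⟨hY, hint, Groth.Agent.H38.NormUP.exists_dense_open_iso_of_iso X hV f e he⟩
  · rintro ⟨hY, hint, U, hU, hfU, hiso⟩
    obtain ⟨hirr, hfib, hst⟩ :=
      Groth.Agent.H38.NormUP.birational_of_dense_open_iso X f hY U hU hfU
    exact Groth.Agent.H38.NormUP.iso_of_characterization X f hY hfib hst

end Groth.Agent.S5950
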