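import Groth.Statements.S5951
import Groth.Agent.H19.FormalNoeth

set_option autoImplicit false
universe u
open CategoryTheory CategoryTheory.Limits AlgebraicGeometry TopologicalSpace Opposite
open Nrm16

namespace Groth.Agent.S5951


/-- Let f : Y ⟶ X be a closed immersion, v : X' ⟶ X a morphism and Y' a fibre product of Y and X' over
X, with projections u : Y' ⟶ Y and f' : Y' ⟶ X'. For each n let w be the morphism from the n-th
infinitesimal neighbourhood of f' to that of f compatible with the two inclusions and v (it is
unique, the inclusions being closed immersions). Then w and the inclusion of the neighbourhood of f'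
into X' exhibit that neighbourhood as the fibre product of the n-th infinitesimal neighbourhood of f
with X' over X. (The published statement allows f to be any immersion, or any morphism with
surjective comorphism when v is flat; this row states the case of a closed immersion.) -/
theorem result {Y X Y' X' : Scheme.{u}} (f : Y ⟶ X) [IsClosedImmersion f]
    (v : X' ⟶ X) (u : Y' ⟶ Y) (f' : Y' ⟶ X') (hsq : IsPullback u f' f v) (n : ℕ)
    (w : PrinPart.infNbhd f' n ⟶ PrinPart.infNbhd f n)
    (hw : w ≫ PrinPart.infNbhdι f n = PrinPart.infNbhdι f' n ≫ v) :
    IsPullback w (PrinPart.infNbhdι f' n) (PrinPart.infNbhdι f n) v := by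
  have hf' : IsClosedImmersion f' :=
    MorphismProperty.of_isPullback (P := @IsClosedImmersion) hsq ‹_›
  have e : f'.ker = f.ker.comap v :=
    Groth.Agent.H19.FormalNoeth.ker_eq_comap_of_isPullback hsq.flip
  have hcl : IsClosedImmersion (PrinPart.infNbhdι f' n) := by
    unfold PrinPart.infNbhdι; infer_instance
  have hcl2 : IsClosedImmersion (PrinPart.infNbhdι f n) := by
    unfold PrinPart.infNbhdι; infer_instance
  refine (isPullback_of_isClosedImmersion (PrinPart.infNbhdι f' n) (PrinPart.infNbhdι f n)
    w v hw.symm ?_).flip
  unfold PrinPart.infNbhdι
  rw [Scheme.IdealSheafData.ker_subschemeι, Scheme.IdealSheafData.ker_subschemeι,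
    Groth.Agent.H20.comap_pow, e]

end Groth.Agent.S5951
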