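import Groth.Statements.S5956
import Groth.Agent.H30.PrinPart

set_option autoImplicit false
universe u
open CategoryTheory CategoryTheory.Limits AlgebraicGeometry TopologicalSpace Opposite
open Nrm16

namespace Groth.Agent.S5956

/-- Let f : X ⟶ S be a morphism of schemes, F and G two O_X-modules and D : F ⟶ G a differential
operator of order at most n relative to S. Then D is a differential operator of order at most m for
every m ≥ n. -/
theorem result {X S : Scheme.{u}} (f : X ⟶ S) (F G : X.Modules) {n m : ℕ} (h : n ≤ m)
    (D : F.presheaf ⟶ G.presheaf) (hD : PrinPart.IsDiffOpLE f F G n D) :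
    PrinPart.IsDiffOpLE f F G m D := by
  obtain ⟨u, hu⟩ := hD
  obtain ⟨τ, hτ⟩ := Groth.Agent.H30.PP.exists_PMod_trans f h F
  refine ⟨τ ≫ u, fun U t => ?_⟩
  rw [hu, ← hτ]
  rfl

end Groth.Agent.S5956
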