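import Groth.Statements.S5975
import Groth.Agent.H44.CotangentExact

set_option autoImplicit false
universe u
open CategoryTheory CategoryTheory.Limits AlgebraicGeometry TopologicalSpace Opposite
open Nrm16

namespace Groth.Agent.S5975

/-- Let f : X ⟶ Y and g : Y ⟶ Z be morphisms of schemes. Let (Ω_{Y/Z}, d), (Ω_{X/Z}, d') and (Ω_{X/Y},
d'') be sheaves of differentials (universal derivations) and let c₁ : f^*Ω_{Y/Z} ⟶ Ω_{X/Z} and c₂ :
Ω_{X/Z} ⟶ Ω_{X/Y} be the canonical maps compatible with the derivations. Then c₂ is an epimorphism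
and the image of c₁ is the kernel of c₂: the sequence f^*Ω_{Y/Z} ⟶ Ω_{X/Z} ⟶ Ω_{X/Y} ⟶ 0 is exact. -/
theorem result {X Y Z : Scheme.{u}} (f : X ⟶ Y) (g : Y ⟶ Z)
    (ΩY : Y.Modules) (dY : OmegaSh.Der g ΩY) (hY : OmegaSh.IsUniversal dY)
    (ΩX : X.Modules) (dX : OmegaSh.Der (f ≫ g) ΩX) (hX : OmegaSh.IsUniversal dX)
    (ΩXY : X.Modules) (dXY : OmegaSh.Der f ΩXY) (hXY : OmegaSh.IsUniversal dXY)
    (c₁ : (Scheme.Modules.pullback f).obj ΩY ⟶ ΩX) (hc₁ : OmegaSh.IsDiffCompat f dY dX c₁)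
    (c₂ : (Scheme.Modules.pullback (𝟙 X)).obj ΩX ⟶ ΩXY) (hc₂ : OmegaSh.IsDiffCompat (𝟙 X) dX dXY c₂) :
    Epi c₂ ∧
      imageSubobject c₁ = kernelSubobject ((Scheme.Modules.pullbackId X).inv.app ΩX ≫ c₂) := by
  have hc₂' : ∀ (U : X.Opens) (s : Γ(X, U)),
      ((Scheme.Modules.pullbackId X).inv.app ΩX ≫ c₂).app U (dX.app U s) = dXY.app U s := by
    intro U s
    have h1 := hc₂ U s
    rw [Scheme.Modules.Hom.comp_app]
    change c₂.app U (((Scheme.Modules.pullbackId X).inv.app ΩX).app U (dX.app U s)) = _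
    rw [Groth.Agent.H44.pullbackId_inv_app_apply]
    exact h1
  obtain ⟨hepi, w, hex⟩ := Groth.Agent.H44.cotangent_exact dY hY dX hX dXY hXY c₁ hc₁
    ((Scheme.Modules.pullbackId X).inv.app ΩX ≫ c₂) hc₂'
  refine ⟨?_, ?_⟩
  · have h2 : c₂ = (Scheme.Modules.pullbackId X).hom.app ΩX ≫
        ((Scheme.Modules.pullbackId X).inv.app ΩX ≫ c₂) := by
      rw [Iso.hom_inv_id_app_assoc]
    rw [h2]
    exact epi_comp _ _
  · exact (ShortComplex.exact_iff_image_eq_kernel _).1 hex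

end Groth.Agent.S5975
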