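import Groth.Statements.S5985
import Mathlib
import Groth.Agent.H7.EtaleLocal

set_option autoImplicit false
universe u
open CategoryTheory AlgebraicGeometry
open Unram

namespace Groth.Agent.S5985

/-- Let f : X ⟶ Y be separated and locally of finite type, and y a point of Y whose fibre f⁻¹(y) is
finite (hence discrete). Then there are an étale morphism g : Y' ⟶ Y, a point y' of Y' with g(y') =
y inducing an isomorphism of residue fields κ(y) ≅ κ(y'), and two complementary open subschemes V, W
of X' = X ×_Y Y' such that V ⟶ Y' is finite and W contains no point of X' lying over y'. -/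
theorem result {X Y : Scheme.{u}} (f : X ⟶ Y)
    [LocallyOfFiniteType f] [IsSeparated f] (y : Y) (hfin : (f ⁻¹' {y}).Finite) :
    ∃ (Y' : Scheme.{u}) (g : Y' ⟶ Y) (y' : Y'), Etale g ∧ g y' = y ∧
      IsIso (g.residueFieldMap y') ∧
      ∃ (V W : (Limits.pullback f g).Opens), IsCompl V W ∧
        IsFinite (V.ι ≫ Limits.pullback.snd f g) ∧
        ∀ x : ↥(Limits.pullback f g), Limits.pullback.snd f g x = y' → x ∈ V := by
  classical
  have hfinι : Finite ↥(f ⁻¹' {y}) := hfin.to_subtype
  have hqf : ∀ i : ↥(f ⁻¹' {y}), f.QuasiFiniteAt i.1 := by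
    intro i
    apply Groth.Agent.H7.quasiFiniteAt_of_finite_fiber
    have : f i.1 = y := i.2
    rw [this]
    exact hfin
  obtain ⟨U, g, u, -, hget, hgu, hres, V, v, hV⟩ :=
    Groth.Agent.H7.exists_etale_nbhd_finite_parts f y (fun i : ↥(f ⁻¹' {y}) ↦ i.1)
      (fun i ↦ i.2) hqf
  have := Fintype.ofFinite ↥(f ⁻¹' {y})
  have hVfin : IsFinite ((Finset.univ.sup V).ι ≫ Limits.pullback.snd f g) :=
    Groth.Agent.H7.isFinite_finsetSup_ι_comp _ _ V (fun i ↦ (hV i).2.1)
  have hVcl : IsClosed ((Finset.univ.sup V : (Limits.pullback f g).Opens) :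
      Set ↥(Limits.pullback f g)) :=
    Groth.Agent.H7.isClosed_of_isFinite_ι_comp (Limits.pullback.snd f g) _ hVfin
  have hsurj : ∀ y' : U, y' = u → Function.Surjective (g.residueFieldMap y').hom := by
    rintro y' rfl
    exact hres.2
  refine ⟨U, g, u, hget, hgu, (ConcreteCategory.isIso_iff_bijective _).mpr hres,
    Finset.univ.sup V, ⟨(↑(Finset.univ.sup V))ᶜ, hVcl.isOpen_compl⟩, ?_, hVfin, ?_⟩
  · generalize Finset.univ.sup V = Vt at hVcl
    simp [isCompl_iff, disjoint_iff, codisjoint_iff, SetLike.ext'_iff]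
  · intro w hw
    have hfw : f (Limits.pullback.fst f g w) = y := by
      rw [← Scheme.Hom.comp_apply, Limits.pullback.condition, Scheme.Hom.comp_apply, hw, hgu]
    let i : ↥(f ⁻¹' {y}) := ⟨Limits.pullback.fst f g w, hfw⟩
    obtain ⟨h1, h2, h3, h4, h5⟩ := hV i
    have hwv : w = v i := Groth.Agent.H7.eq_of_fst_eq_of_snd_eq f g w (v i) h5.symm
      (hw.trans h3.symm) (hsurj _ h3)
    rw [hwv]
    exact (Finset.le_sup (f := V) (Finset.mem_univ i)) h1

end Groth.Agent.S5985
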