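import Groth.Statements.S5991
import Groth.Agent.H23.UFDiff

set_option autoImplicit false
universe u
open scoped TensorProduct
open EGA418

namespace Groth.Agent.S5991

/-- Let k be a field, R and S complete Noetherian local k-algebras such that the module of differentials
of the residue field of S over k is finite-dimensional, and let S be a finite R-algebra through a
k-algebra homomorphism R → S. Write m for the maximal ideal of S and complete m-adically. Then the
S-module Ω_{S/R} is m-adically complete (it is its own completion), and the sequence of completed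
modules (S ⊗_R Ω_{R/k})^ ⟶ (Ω_{S/k})^ ⟶ (Ω_{S/R})^ ⟶ 0, induced by the canonical maps S ⊗_R Ω_{R/k}
⟶ Ω_{S/k} ⟶ Ω_{S/R}, is exact: the second map is surjective and its kernel is the image of the
first. -/
theorem result (k R S : Type u) [Field k] [CommRing R] [IsNoetherianRing R]
    [IsLocalRing R] [Algebra k R] [IsAdicComplete (IsLocalRing.maximalIdeal R) R]
    [CommRing S] [IsNoetherianRing S] [IsLocalRing S] [Algebra k S]
    [IsAdicComplete (IsLocalRing.maximalIdeal S) S] [Algebra R S] [IsScalarTower k R S]
    [Module.Finite R S] [Module.Finite (IsLocalRing.ResidueField S) (Ω[IsLocalRing.ResidueField S⁄k])] :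
    IsAdicComplete (IsLocalRing.maximalIdeal S) (Ω[S⁄R]) ∧
      Function.Surjective (AdicCompletion.map (IsLocalRing.maximalIdeal S) (KaehlerDifferential.map k R S S)) ∧
      LinearMap.range (AdicCompletion.map (IsLocalRing.maximalIdeal S) (KaehlerDifferential.mapBaseChange k R S)) =
        LinearMap.ker (AdicCompletion.map (IsLocalRing.maximalIdeal S) (KaehlerDifferential.map k R S S)) := by
  have hfg : (IsLocalRing.maximalIdeal S).FG := (IsLocalRing.maximalIdeal S).fg_of_isNoetherianRing
  refine ⟨?_, ?_, ?_⟩
  · haveI : Module.Finite S (Ω[S⁄R]) := inferInstance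
    exact Groth.Agent.H89.isAdicComplete_of_finite_noeth (IsLocalRing.maximalIdeal S) _
  · exact AdicCompletion.map_surjective (IsLocalRing.maximalIdeal S) (KaehlerDifferential.map_surjective k R S)
  · apply le_antisymm
    · rintro _ ⟨x, rfl⟩
      rw [LinearMap.mem_ker, AdicCompletion.map_comp_apply]
      have h0 : KaehlerDifferential.map k R S S ∘ₗ KaehlerDifferential.mapBaseChange k R S = 0 := by
        refine LinearMap.ext fun t => ?_
        exact (KaehlerDifferential.exact_mapBaseChange_map k R S _).mpr ⟨t, rfl⟩
      rw [h0, AdicCompletion.map_zero]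
      rfl
    · intro x hx
      rw [LinearMap.mem_ker] at hx
      haveI hfinM : Module.Finite S (AdicCompletion (IsLocalRing.maximalIdeal S) (Ω[S⁄k])) :=
        Groth.Agent.H23.UFDiff.finite_complDiff Groth.Agent.H23.UFDiff.finite_tensor_residue
      let I : Submodule S (AdicCompletion (IsLocalRing.maximalIdeal S) (Ω[S⁄k])) :=
        (LinearMap.range (AdicCompletion.map (IsLocalRing.maximalIdeal S)
          (KaehlerDifferential.mapBaseChange k R S))).restrictScalars S
      haveI : IsHausdorff (IsLocalRing.maximalIdeal S) (AdicCompletion (IsLocalRing.maximalIdeal S) (Ω[S⁄k]) ⧸ I) :=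
        IsHausdorff.of_le_jacobson (IsLocalRing.maximalIdeal S) _
          (by rw [IsLocalRing.jacobson_eq_maximalIdeal ⊥ bot_ne_top])
      let φ : Ω[S⁄k] →ₗ[S] (AdicCompletion (IsLocalRing.maximalIdeal S) (Ω[S⁄k]) ⧸ I) :=
        I.mkQ ∘ₗ AdicCompletion.of (IsLocalRing.maximalIdeal S) (Ω[S⁄k])
      have hle : LinearMap.ker (KaehlerDifferential.map k R S S) ≤ LinearMap.ker φ := by
        intro ω hω
        obtain ⟨t, rfl⟩ := (KaehlerDifferential.exact_mapBaseChange_map k R S ω).mp hω
        show I.mkQ (AdicCompletion.of (IsLocalRing.maximalIdeal S) (Ω[S⁄k])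
          (KaehlerDifferential.mapBaseChange k R S t)) = 0
        rw [Submodule.mkQ_apply, Submodule.Quotient.mk_eq_zero]
        exact ⟨AdicCompletion.of (IsLocalRing.maximalIdeal S) _ t, AdicCompletion.map_of _ _ _⟩
      let e := (KaehlerDifferential.map k R S S).quotKerEquivOfSurjective
        (KaehlerDifferential.map_surjective k R S)
      let h₀ : Ω[S⁄R] →ₗ[S] (AdicCompletion (IsLocalRing.maximalIdeal S) (Ω[S⁄k]) ⧸ I) :=
        (LinearMap.ker (KaehlerDifferential.map k R S S)).liftQ φ hle ∘ₗ e.symm.toLinearMap
      have hcomp : h₀ ∘ₗ KaehlerDifferential.map k R S S =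
          I.mkQ ∘ₗ AdicCompletion.of (IsLocalRing.maximalIdeal S) (Ω[S⁄k]) := by
        refine LinearMap.ext fun ω => ?_
        have h1 : e.symm (KaehlerDifferential.map k R S S ω) =
            Submodule.Quotient.mk ω := by
          rw [LinearEquiv.symm_apply_eq]
          rfl
        show (LinearMap.ker (KaehlerDifferential.map k R S S)).liftQ φ hle
          (e.symm (KaehlerDifferential.map k R S S ω)) = _
        rw [h1]
        rfl
      have key : ∀ y : AdicCompletion (IsLocalRing.maximalIdeal S) (Ω[S⁄k]),
          AdicCompletion.map (IsLocalRing.maximalIdeal S)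
            (I.mkQ ∘ₗ AdicCompletion.of (IsLocalRing.maximalIdeal S) (Ω[S⁄k])) y =
          AdicCompletion.of (IsLocalRing.maximalIdeal S) _ (I.mkQ y) := by
        have h1 := Groth.Agent.H23.UFDiff.ext_of (IsLocalRing.maximalIdeal S) hfg
          ((AdicCompletion.map (IsLocalRing.maximalIdeal S)
            (I.mkQ ∘ₗ AdicCompletion.of (IsLocalRing.maximalIdeal S) (Ω[S⁄k]))).restrictScalars S)
          (AdicCompletion.of (IsLocalRing.maximalIdeal S) _ ∘ₗ I.mkQ)
          (fun y => by
            rw [LinearMap.restrictScalars_apply, AdicCompletion.map_of]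
            rfl)
        exact fun y => LinearMap.congr_fun h1 y
      have h2 : AdicCompletion.of (IsLocalRing.maximalIdeal S) _ (I.mkQ x) = 0 := by
        rw [← key, ← hcomp, ← AdicCompletion.map_comp_apply, hx, map_zero]
      have h3 : I.mkQ x = 0 := by
        apply AdicCompletion.of_injective (I := IsLocalRing.maximalIdeal S)
        rw [h2, map_zero]
      have h4 : x ∈ I := (Submodule.Quotient.mk_eq_zero I).mp h3
      exact h4

end Groth.Agent.S5991
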