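import Groth.Statements.S5995
import Mathlib
import Groth.Agent.H57.RatSecC

set_option autoImplicit false
universe u
open CategoryTheory AlgebraicGeometry
open Unram

namespace Groth.Agent.S5995

/-- Let Y be a reduced scheme whose irreducible components form a locally finite family and all of whose
local rings are geometrically unibranch, f : X ⟶ Y a separated, locally of finite type, formally
unramified morphism, and u : U ⟶ X a section of f over a dense open U of Y which cannot be extended:
whenever v is a section of f over an open V agreeing with u on U ∩ V, V is contained in U (so U is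
the domain of definition of the rational section defined by u). Then the image u(U) is an open and
closed subset of X. -/
theorem result {X Y : Scheme.{u}} [IsReduced Y]
    (hcomp : LocallyFinite (fun Z : ↥(irreducibleComponents ↥Y) => (Z : Set ↥Y)))
    (f : X ⟶ Y) [IsSeparated f] [LocallyOfFiniteType f] [FormallyUnramified f]
    (U : Y.Opens) (hU : Dense (U : Set ↥Y)) (u : (U : Scheme.{u}) ⟶ X) (hu : u ≫ f = U.ι)
    (hY : ∀ y : Y, CAlg2.IsGeomUnibranch (Y.presheaf.stalk y))
    (hmax : ∀ (V : Y.Opens) (v : (V : Scheme.{u}) ⟶ X), v ≫ f = V.ι →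
      Y.homOfLE (inf_le_left : U ⊓ V ≤ U) ≫ u = Y.homOfLE (inf_le_right : U ⊓ V ≤ V) ≫ v → V ≤ U) :
    IsOpen (Set.range u) ∧ IsClosed (Set.range u) := by
  constructor
  · -- a section of an unramified morphism is an open immersion
    have : MorphismProperty.HasOfPostcompProperty @IsOpenImmersion
        (@FormallyUnramified ⊓ @LocallyOfFiniteType) := by
      rw [MorphismProperty.hasOfPostcompProperty_iff_le_diagonal]
      rintro A B g ⟨hg1, hg2⟩
      have := hg1
      have := hg2
      exact inferInstanceAs (IsOpenImmersion (Limits.pullback.diagonal g))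
    have : IsOpenImmersion (u ≫ f) := by rw [hu]; infer_instance
    have : IsOpenImmersion u :=
      MorphismProperty.of_postcomp (W := @IsOpenImmersion)
        (W' := @FormallyUnramified ⊓ @LocallyOfFiniteType) u f ⟨inferInstance, inferInstance⟩
        inferInstance
    exact u.isOpenEmbedding.isOpen_range
  · -- the image is closed
    rw [← closure_subset_iff_isClosed]
    intro x hx
    obtain ⟨V, v, hyV, hv, hag⟩ :=
      Groth.Agent.H57.RatSec.exists_section hcomp f U hU u hu x (hY (f x)) hx
    have hfxU : f x ∈ U := hmax V v hv hag hyV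
    let XU : X.Opens := f ⁻¹ᵁ U
    let fU : (XU : Scheme.{u}) ⟶ (U : Scheme.{u}) := f ∣_ U
    have hfU : fU ≫ U.ι = XU.ι ≫ f := morphismRestrict_ι f U
    have hrange : Set.range u ⊆ Set.range XU.ι := by
      rintro _ ⟨t, rfl⟩
      rw [Scheme.Opens.range_ι]
      change f (u t) ∈ U
      rw [← Scheme.Hom.comp_apply, hu]
      exact t.2
    let u' : (U : Scheme.{u}) ⟶ (XU : Scheme.{u}) := IsOpenImmersion.lift XU.ι u hrange
    have hu'ι : u' ≫ XU.ι = u := IsOpenImmersion.lift_fac _ _ _
    have hu' : u' ≫ fU = 𝟙 _ := by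
      rw [← cancel_mono U.ι, Category.assoc, hfU, ← Category.assoc, hu'ι, hu, Category.id_comp]
    have : IsClosedImmersion (u' ≫ fU) := by rw [hu']; infer_instance
    have : IsClosedImmersion u' := IsClosedImmersion.of_comp u' fU
    have hcl : IsClosed (Set.range u') := u'.isClosedEmbedding.isClosed_range
    let x₁ : ↥(XU : Scheme.{u}) := ⟨x, hfxU⟩
    have hx₁ : x₁ ∈ closure (Set.range u') := by
      rw [mem_closure_iff]
      intro o ho hxo
      obtain ⟨o', ho', rfl⟩ := isOpen_induced_iff.mp ho
      obtain ⟨_, hz1, ⟨t, rfl⟩⟩ := mem_closure_iff.mp hx _ ho' hxo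
      refine ⟨u' t, ?_, ⟨t, rfl⟩⟩
      change XU.ι (u' t) ∈ o'
      rw [← Scheme.Hom.comp_apply, hu'ι]
      exact hz1
    rw [hcl.closure_eq] at hx₁
    obtain ⟨t, ht⟩ := hx₁
    refine ⟨t, ?_⟩
    rw [← hu'ι, Scheme.Hom.comp_apply, ht]
    rfl

end Groth.Agent.S5995
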