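import Groth.Statements.S5996
import Mathlib
import Groth.Agent.H57.RatSecC

set_option autoImplicit false
universe u
open CategoryTheory AlgebraicGeometry
open Unram

namespace Groth.Agent.S5996

/-- Let Y be a reduced scheme whose irreducible components form a locally finite family, f : X ⟶ Y a
separated, locally of finite type, formally unramified morphism such that f(T) is closed in Y for
every closed irreducible subset T of X, and u : U ⟶ X a section of f over a dense open U of Y. Then
for every point y of Y whose local ring is geometrically unibranch there are an open V ∋ y and a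
section v : V ⟶ X of f agreeing with u on U ∩ V: the rational section defined by u is defined at
every geometrically unibranch point. -/
theorem result {X Y : Scheme.{u}} [IsReduced Y]
    (hcomp : LocallyFinite (fun Z : ↥(irreducibleComponents ↥Y) => (Z : Set ↥Y)))
    (f : X ⟶ Y) [IsSeparated f] [LocallyOfFiniteType f] [FormallyUnramified f]
    (U : Y.Opens) (hU : Dense (U : Set ↥Y)) (u : (U : Scheme.{u}) ⟶ X) (hu : u ≫ f = U.ι)
    (hcl : ∀ T : Set ↥X, IsClosed T → IsIrreducible T → IsClosed (f '' T))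
    (y : Y) (hy : CAlg2.IsGeomUnibranch (Y.presheaf.stalk y)) :
    ∃ (V : Y.Opens) (v : (V : Scheme.{u}) ⟶ X), y ∈ V ∧ v ≫ f = V.ι ∧
      Y.homOfLE (inf_le_left : U ⊓ V ≤ U) ≫ u = Y.homOfLE (inf_le_right : U ⊓ V ≤ V) ≫ v := by
  have hprime : (nilradical (Y.presheaf.stalk y)).IsPrime :=
    (Ideal.Quotient.isDomain_iff_prime _).mp hy.1.1
  obtain ⟨Y₀, hyY₀, hint⟩ := Groth.Agent.H57.RatSec.exists_isIntegral_open_nhd Y hcomp y hprime
  -- the generic point of `Y₀`
  let η₀ : ↥(Y₀ : Scheme.{u}) := genericPoint ↥(Y₀ : Scheme.{u})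
  have hgen : IsGenericPoint η₀ (⊤ : Set ↥(Y₀ : Scheme.{u})) := genericPoint_spec _
  let η : Y := Y₀.ι η₀
  have hηU : η ∈ U := by
    obtain ⟨w, hwY₀, hwU⟩ := hU.inter_open_nonempty Y₀ Y₀.2 ⟨y, hyY₀⟩
    have h1 : η₀ ⤳ (⟨w, hwY₀⟩ : ↥(Y₀ : Scheme.{u})) := hgen.specializes (Set.mem_univ _)
    have h2 : η ⤳ w := h1.map Y₀.ι.continuous
    exact h2.mem_open U.2 hwU
  have hηy : η ⤳ y := by
    have h1 : η₀ ⤳ (⟨y, hyY₀⟩ : ↥(Y₀ : Scheme.{u})) := hgen.specializes (Set.mem_univ _)
    exact h1.map Y₀.ι.continuous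
  let ξ : X := u ⟨η, hηU⟩
  have hfξ : f ξ = η := by
    change (u ≫ f) ⟨η, hηU⟩ = η
    rw [hu]
    rfl
  have hT := hcl (closure {ξ}) isClosed_closure isIrreducible_singleton.closure
  have hyT : y ∈ f '' closure {ξ} := by
    have h1 : η ∈ f '' closure {ξ} := ⟨ξ, subset_closure rfl, hfξ⟩
    exact hT.closure_subset_iff.mpr (Set.singleton_subset_iff.mpr h1)
      (specializes_iff_mem_closure.mp hηy)
  obtain ⟨x, hxT, rfl⟩ := hyT
  have hx : x ∈ closure (Set.range u) :=
    closure_mono (Set.singleton_subset_iff.mpr (Set.mem_range_self _)) hxT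
  exact Groth.Agent.H57.RatSec.exists_section hcomp f U hU u hu x hy hx

end Groth.Agent.S5996
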