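import Groth.Statements.S5998
import Mathlib
import Groth.Agent.H23.Jacobian

set_option autoImplicit false
universe u
open SGA1

namespace Groth.Agent.S5998


section aux

open TensorProduct KaehlerDifferential

variable {R A : Type u} [CommRing R] [CommRing A] [Algebra R A] (k : Type u) [Field k] [Algebra A k]

/-- The functional on the fibre induced by a linear form on `Ω[A/R]`. -/
noncomputable def ψψ (ℓ : Ω[A⁄R] →ₗ[A] A) : k ⊗[A] Ω[A⁄R] →ₗ[k] k :=
  (AlgebraTensorModule.rid A k k).toLinearMap ∘ₗ ℓ.baseChange k

theorem ψψ_tmul (ℓ : Ω[A⁄R] →ₗ[A] A) (c : k) (ω : Ω[A⁄R]) :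
    ψψ (R := R) k ℓ (c ⊗ₜ ω) = algebraMap A k (ℓ ω) * c := by
  rw [ψψ, LinearMap.comp_apply, LinearMap.baseChange_tmul]
  simp [Algebra.smul_def]

theorem ψψ_sep [Module.Projective A Ω[A⁄R]] (z : k ⊗[A] Ω[A⁄R])
    (h : ∀ ℓ, ψψ (R := R) k ℓ z = 0) : z = 0 := by
  apply Groth.Agent.H23.Jacobian.eq_zero_of_forall_lTensor
  intro ℓ
  have := h ℓ
  rw [ψψ, LinearMap.comp_apply, LinearEquiv.coe_coe, LinearEquiv.map_eq_zero_iff] at this
  rw [← LinearMap.baseChange_eq_ltensor]
  exact this

end aux


open TensorProduct in
/-- Let R be a Noetherian ring, A a smooth R-algebra, I an ideal of A, P a prime ideal of A/I and q its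
preimage in A. Then A/I is smooth over R at P (that is, the local ring of A/I at P is formally
smooth over R) exactly when there are finitely many elements g_1, ..., g_p of I generating the ideal
I·A_q whose differentials dg_i have linearly independent images in κ(q) ⊗_A Ω_{A/R}. -/
theorem result
    (R A : Type u) [CommRing R] [CommRing A] [IsNoetherianRing R] [Algebra R A] [Algebra.Smooth R A]
    (I : Ideal A) (P : Ideal (A ⧸ I)) [P.IsPrime] :
    letI q : Ideal A := P.comap (Ideal.Quotient.mk I)
    Algebra.IsSmoothAt R P ↔ ∃ s : Finset A, (↑s : Set A) ⊆ (I : Set A) ∧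
      Ideal.map (algebraMap A (Localization.AtPrime q)) I =
        Ideal.span ((algebraMap A (Localization.AtPrime q)) '' (↑s : Set A)) ∧
      LinearIndependent q.ResidueField
        (fun g : ↥s => (1 : q.ResidueField) ⊗ₜ[A] KaehlerDifferential.D R A (g : A)) := by
  classical
  set q : Ideal A := Ideal.comap (Ideal.Quotient.mk I) P with hq
  have hAnoeth : IsNoetherianRing A := Algebra.FiniteType.isNoetherianRing R A
  have hfs : Algebra.FormallySmooth R A := inferInstance
  have hIq : I ≤ q := by
    intro x hx
    change Ideal.Quotient.mk I x ∈ P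
    rw [Ideal.Quotient.eq_zero_iff_mem.mpr hx]
    exact zero_mem _
  have hPeq : q.map (Ideal.Quotient.mk I) = P :=
    Ideal.map_comap_of_surjective _ Ideal.Quotient.mk_surjective P
  haveI hp : (q.map (Ideal.Quotient.mk I)).IsPrime := hPeq ▸ inferInstance
  have htr : ∀ (P' : Ideal (A ⧸ I)) [P'.IsPrime], P' = P →
      (Algebra.FormallySmooth R (Localization.AtPrime P') ↔
        Algebra.FormallySmooth R (Localization.AtPrime P)) := by
    rintro P' _ rfl; rfl
  have hmain := Groth.Agent.H23.Jacobian.main (A := R) I q hIq (IsNoetherian.noetherian I)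
  change Algebra.FormallySmooth R (Localization.AtPrime P) ↔ _
  rw [← htr _ hPeq, hmain]
  have hres : ∀ a : A, algebraMap A q.ResidueField a = 0 ↔ a ∈ q := fun a =>
    Ideal.algebraMap_residueField_eq_zero
  constructor
  · rintro ⟨m, f, D, hf, hgen, hdet⟩
    have hdet' : ((algebraMap A q.ResidueField).mapMatrix
        (Matrix.of fun i j => D j (f i))).det ≠ 0 := by
      rw [← RingHom.map_det, Ne, hres]
      exact hdet
    have hfinj : Function.Injective f := by
      intro i i' hii'
      by_contra hne
      apply hdet
      rw [Matrix.det_zero_of_row_eq hne]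
      · exact zero_mem _
      · ext j
        simp [hii']
    have hli : LinearIndependent q.ResidueField
        (fun i : Fin m => (1 : q.ResidueField) ⊗ₜ[A] KaehlerDifferential.D R A (f i)) := by
      rw [Fintype.linearIndependent_iff]
      intro c hc
      have hc0 : c = 0 := by
        apply Matrix.eq_zero_of_vecMul_eq_zero hdet'
        ext j
        have h1 := congrArg (ψψ (R := R) q.ResidueField (D j).liftKaehlerDifferential) hc
        rw [map_sum, map_zero] at h1
        rw [Pi.zero_apply, ← h1]
        simp only [Matrix.vecMul, dotProduct]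
        apply Finset.sum_congr rfl
        intro i _
        rw [map_smul, ψψ_tmul, mul_one, smul_eq_mul]
        simp
      intro i
      rw [hc0]; rfl
    refine ⟨Finset.univ.image f, ?_, ?_, ?_⟩
    · intro x hx
      rw [Finset.coe_image, Finset.coe_univ, Set.image_univ] at hx
      obtain ⟨i, rfl⟩ := hx
      exact hf i
    · rw [hgen, Finset.coe_image, Finset.coe_univ, Set.image_univ, ← Set.range_comp]
      rfl
    · let e : Fin m → ↥(Finset.univ.image f) := fun i =>
        ⟨f i, Finset.mem_image_of_mem f (Finset.mem_univ i)⟩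
      have he : Function.Bijective e := by
        constructor
        · intro i i' h
          exact hfinj (congrArg Subtype.val h)
        · rintro ⟨x, hx⟩
          obtain ⟨i, -, rfl⟩ := Finset.mem_image.mp hx
          exact ⟨i, rfl⟩
      rw [← linearIndependent_equiv (Equiv.ofBijective e he)]
      exact hli
  · rintro ⟨s, hsI, hgen, hli⟩
    let e := s.equivFin
    set f : Fin s.card → A := fun i => ((e.symm i : ↥s) : A) with hf
    have hfI : ∀ i, f i ∈ I := fun i => hsI (e.symm i).2
    have hrange : Set.range f = (↑s : Set A) := by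
      ext x
      constructor
      · rintro ⟨i, rfl⟩
        exact (e.symm i).2
      · intro hx
        exact ⟨e ⟨x, hx⟩, by simp [hf]⟩
    have hw : LinearIndependent q.ResidueField
        (fun i : Fin s.card => (1 : q.ResidueField) ⊗ₜ[A] KaehlerDifferential.D R A (f i)) :=
      hli.comp e.symm e.symm.injective
    obtain ⟨j, hj⟩ := Groth.Agent.H23.Jacobian.exists_det_ne_zero
      (ψψ (R := R) q.ResidueField) (ψψ_sep (R := R) q.ResidueField) _ hw
    refine ⟨s.card, f, fun b => (j b).compDer (KaehlerDifferential.D R A), hfI, ?_, ?_⟩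
    · rw [hgen, ← hrange, ← Set.range_comp]
      rfl
    · intro hmem
      apply hj
      have e2 : (Matrix.of fun a b => ψψ (R := R) q.ResidueField (j b)
          ((1 : q.ResidueField) ⊗ₜ[A] KaehlerDifferential.D R A (f a))) =
          (algebraMap A q.ResidueField).mapMatrix (Matrix.of fun i j' =>
            ((j j').compDer (KaehlerDifferential.D R A)) (f i)) := by
        ext a b
        simp only [Matrix.of_apply, RingHom.mapMatrix_apply, Matrix.map_apply]
        rw [ψψ_tmul, mul_one]
        rfl
      rw [e2, ← RingHom.map_det, hres]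
      exact hmem

end Groth.Agent.S5998
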