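import Groth.Statements.S6003
import Groth.Agent.H40.FpqcTors

set_option autoImplicit false
universe u
open CategoryTheory AlgebraicGeometry
open SGA1

namespace Groth.Agent.S6003

/-- Let G be an S-group scheme which is flat and quasi-compact over S and let G act on the S-scheme X.
Then X is a principal homogeneous bundle under G (a pseudo-torsor which acquires sections on the
members of some fpqc covering family of S) if and only if X is formally principal homogeneous (a
pseudo-torsor) and the structure morphism X → S is faithfully flat and quasi-compact. -/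
theorem result {S : Scheme.{u}}
    (G X : Over S) [GrpObj G] [Flat G.hom] [QuasiCompact G.hom] (a : AlgGrp.Action G X) :
    NonAbH1.IsTorsorFor Scheme.fpqcPrecoverage a ↔
      (NonAbH1.IsPseudoTorsorSch a ∧ Surjective X.hom ∧ Flat X.hom ∧ QuasiCompact X.hom) := by
  have hsurjG : Surjective G.hom := by
    refine ⟨fun x => ⟨(MonObj.one (X := G)).left x, ?_⟩⟩
    have hw : (MonObj.one (X := G)).left ≫ G.hom = 𝟙 S := Over.w (MonObj.one (X := G))
    rw [← Scheme.Hom.comp_apply, hw]
    rfl
  constructor
  · intro h
    refine ⟨h.1, ?_, ?_, ?_⟩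
    · exact Groth.Agent.H40.prop_hom_of_isTorsorFor_fpqc @Surjective inferInstance a h hsurjG
    · exact Groth.Agent.H40.prop_hom_of_isTorsorFor_fpqc @Flat Groth.Agent.H40.flat_descendsAlong a h
        inferInstance
    · exact Groth.Agent.H40.prop_hom_of_isTorsorFor_fpqc @QuasiCompact
        Groth.Agent.H40.quasiCompact_descendsAlong a h inferInstance
  · rintro ⟨h0, h1, h2, h3⟩
    refine ⟨h0, Presieve.singleton X.hom, Scheme.Hom.singleton_mem_fpqcPrecoverage X.hom, ?_⟩
    rintro S' f ⟨⟩
    exact ⟨𝟙 _, Category.id_comp _⟩

end Groth.Agent.S6003
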