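import Groth.Statements.S6009
import Groth.Agent.H40.ExactSeq
set_option backward.isDefEq.respectTransparency.types false

set_option autoImplicit false
universe u
open CategoryTheory AlgebraicGeometry MonoidalCategory CartesianMonoidalCategory MonObj GrpObj
open SGA1

namespace Groth.Agent.S6009

/-- Exactness of the cohomology sequence at H^1(S, G'): let u : G' → G and v : G → G'' be homomorphisms
of affine commutative S-groups forming a sequence 1 → G' → G → G'' → 1 which is exact for the fpqc
topology, and let Q be a principal homogeneous bundle under G' (fpqc torsor). Then the bundle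
deduced from Q by extension of the structure group along u is trivial, in the sense that Q admits a
u-equivariant S-morphism to G acting on itself by left translation, if and only if Q is the boundary
of some section f of G'' over S: there is a morphism i : Q → G making Q the inverse image of f under
v, with G' acting through right translation by inverses. -/
theorem result {S : Scheme.{u}}
    {G G' G'' : Over S} [GrpObj G] [GrpObj G'] [GrpObj G'']
    [IsCommMonObj G] [IsCommMonObj G'] [IsCommMonObj G'']
    [IsAffineHom G.hom] [IsAffineHom G'.hom] [IsAffineHom G''.hom]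
    (u : G' ⟶ G) (v : G ⟶ G'') (hex : NonAbH1.IsExactSeq Scheme.fpqcPrecoverage u v)
    (Q : NonAbH1.TorsorSch G' Scheme.fpqcPrecoverage) :
    NonAbH1.IsPushforwardAlongSch u Q.act (NonAbH1.trivialAction G) ↔
      ∃ (f : 𝟙_ (Over S) ⟶ G'') (i : Q.X ⟶ G), NonAbH1.IsPullbackTorsor u v f i Q.act := by
  obtain ⟨hu, hv, huv, hsq, hloc⟩ := hex
  haveI := hu
  haveI := hv
  constructor
  · rintro ⟨j, hj⟩
    have hpts : ∀ {T : Over S} (g' : T ⟶ G') (p : T ⟶ Q.X),
        H40.psmul Q.act g' p ≫ j⁻¹ = (p ≫ j⁻¹) * (g' ≫ u)⁻¹ := by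
      intro T g' p
      have h1 := H40.psmul_comp_of_semilinear u Q.act (NonAbH1.trivialAction G) j hj g' p
      rw [GrpObj.comp_inv, h1, H40.psmul_def]
      change (lift (g' ≫ u) (p ≫ j) ≫ μ[G])⁻¹ = _
      rw [← Hom.mul_def, _root_.mul_inv_rev, GrpObj.comp_inv]
    have hequiv : AlgGrp.Action.IsEquivariant Q.act (H40.rAct u) j⁻¹ := by
      apply H40.isEquivariant_of_psmul
      intro T g' p
      rw [hpts, H40.psmul_rAct]
    obtain ⟨⟨σ, hσ, -⟩, hpb⟩ := H40.section_of_reduction (H40.rAct u) v
      (H40.isPullback_rAct u v huv hsq) Q.act Q.isTorsor j⁻¹ hequiv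
    refine ⟨σ, j⁻¹, hu, hv, hpb σ hσ, ?_⟩
    intro T g' p
    have := hpts g' p
    rwa [H40.psmul_def, Category.assoc] at this
  · rintro ⟨f, i, -, -, hpb, hact⟩
    refine ⟨i⁻¹, ?_⟩
    apply H40.semilinear_of_psmul
    intro T g' p
    rw [H40.psmul_def, GrpObj.comp_inv, Category.assoc, hact, H40.psmul_def]
    change _ = lift (g' ≫ u) (p ≫ i⁻¹) ≫ μ[G]
    rw [← Hom.mul_def, _root_.mul_inv_rev, _root_.inv_inv, GrpObj.comp_inv]

end Groth.Agent.S6009
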