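import Groth.Statements.S6010
import Groth.Agent.H40.ExactSeqTors
set_option backward.isDefEq.respectTransparency.types false

set_option autoImplicit false
universe u
open CategoryTheory AlgebraicGeometry MonoidalCategory CartesianMonoidalCategory MonObj GrpObj
open SGA1

namespace Groth.Agent.S6010

/-- Exactness of the cohomology sequence at H^1(S, G): let u : G' → G and v : G → G'' be homomorphisms
of affine commutative S-groups forming a sequence 1 → G' → G → G'' → 1 which is exact for the fpqc
topology, and let P be a principal homogeneous bundle under G (fpqc torsor). Then the bundle deduced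
from P by extension of the structure group along v is trivial, in the sense that P admits a
v-equivariant S-morphism to G'' acting on itself by left translation, if and only if P comes from
G': there is a principal homogeneous bundle Q under G' with a u-equivariant S-morphism Q → P. -/
theorem result {S : Scheme.{u}}
    {G G' G'' : Over S} [GrpObj G] [GrpObj G'] [GrpObj G'']
    [IsCommMonObj G] [IsCommMonObj G'] [IsCommMonObj G'']
    [IsAffineHom G.hom] [IsAffineHom G'.hom] [IsAffineHom G''.hom]
    (u : G' ⟶ G) (v : G ⟶ G'') (hex : NonAbH1.IsExactSeq Scheme.fpqcPrecoverage u v)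
    (P : NonAbH1.TorsorSch G Scheme.fpqcPrecoverage) :
    NonAbH1.IsPushforwardAlongSch v P.act (NonAbH1.trivialAction G'') ↔
      ∃ Q : NonAbH1.TorsorSch G' Scheme.fpqcPrecoverage, NonAbH1.IsPushforwardAlongSch u Q.act P.act := by
  obtain ⟨hu, hv, huv, hsq, hloc⟩ := hex
  haveI := hu
  haveI := hv
  constructor
  · rintro ⟨t, ht⟩
    have ht' : ∀ {T : Over S} (g : T ⟶ G) (p : T ⟶ P.X),
        H40.psmul P.act g p ≫ t = (g ≫ v) * (p ≫ t) := by
      intro T g p
      rw [H40.psmul_comp_of_semilinear v P.act (NonAbH1.trivialAction G'') t ht,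
        H40.psmul_trivialAction]
    have hsq' := H40.isPullback_restrict_of_exact u v huv hsq P.act P.isTorsor.1 t ht'
    have hloc' := H40.isLocallyTrivialFor_semilinear v P.act t ht' P.isTorsor.2 hloc
    obtain ⟨E, aE, φ, hE, hequiv, -⟩ :=
      H40.exists_reduction_of_section (P.act.restrict u) t hsq' hloc' η[G'']
    refine ⟨⟨E, aE, hE⟩, φ, ?_⟩
    apply H40.semilinear_of_psmul
    intro T g' e
    rw [H40.psmul_comp_of_isEquivariant aE (P.act.restrict u) φ hequiv, H40.psmul_restrict]
  · rintro ⟨Q, w, hw⟩
    obtain ⟨t, ht⟩ := H40.exists_semilinear_of_reduction u v huv P.act P.isTorsor.1 Q.act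
      Q.isTorsor w (fun g' q => H40.psmul_comp_of_semilinear u Q.act P.act w hw g' q)
    refine ⟨t, ?_⟩
    apply H40.semilinear_of_psmul
    intro T g p
    rw [ht, H40.psmul_trivialAction]

end Groth.Agent.S6010
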