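import Groth.Statements.S6011
-- import your own Groth.Agent.* helpers here

set_option autoImplicit false
universe u
open CategoryTheory AlgebraicGeometry
open SGA1
open MonoidalCategory CartesianMonoidalCategory MonObj GrpObj

namespace Groth.Agent.S6011

/-- An S-scheme X with an action of the S-group G is trivial — equivariantly isomorphic over S to G
acting on itself by translation — if and only if it is formally principal homogeneous (a
pseudo-torsor) and admits a section over S. -/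
theorem result {S : Scheme.{u}}
    (G X : Over S) [GrpObj G] (a : AlgGrp.Action G X) :
    Nonempty (NonAbH1.EquivIso (NonAbH1.trivialAction G) a) ↔
      (NonAbH1.IsPseudoTorsorSch a ∧ NonAbH1.HasSectionOver X (𝟙 S)) := by
  constructor
  · rintro ⟨e⟩
    refine ⟨?_, ?_⟩
    · have h1 : IsIso (lift μ[G] (snd G G)) := NonAbH1.isPseudoTorsorSch_trivialAction G
      have hc : μ[G] ≫ e.iso.hom = (G ◁ e.iso.hom) ≫ a.act := e.comm
      have key : lift a.act (snd G X) =
          (G ◁ e.iso.inv) ≫ lift μ[G] (snd G G) ≫ (e.iso.hom ⊗ₘ e.iso.hom) := by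
        ext
        · simp only [lift_fst, Category.assoc, tensorHom_fst, lift_fst_assoc, hc]
          rw [← MonoidalCategory.whiskerLeft_comp_assoc]
          simp
        · simp
      unfold NonAbH1.IsPseudoTorsorSch
      rw [key]
      infer_instance
    · exact ⟨(η[G] ≫ e.iso.hom).left, Over.w (η[G] ≫ e.iso.hom)⟩
  · rintro ⟨hψ, s, hs⟩
    unfold NonAbH1.IsPseudoTorsorSch at hψ
    let ψ := lift a.act (snd G X)
    let o : 𝟙_ (Over S) ⟶ X := Over.homMk s hs
    let φ : G ⟶ X := lift (𝟙 G) (toUnit G ≫ o) ≫ a.act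
    let w : X ⟶ G ⊗ X := lift (𝟙 X) (toUnit X ≫ o) ≫ inv ψ
    have hw : w ≫ ψ = lift (𝟙 X) (toUnit X ≫ o) := by simp [w]
    have hw1 : w ≫ a.act = 𝟙 X := by
      have := congrArg (· ≫ fst X X) hw
      simpa [ψ] using this
    have hw2 : w ≫ snd G X = toUnit X ≫ o := by
      have := congrArg (· ≫ snd X X) hw
      simpa [ψ] using this
    let θ : X ⟶ G := w ≫ fst G X
    have h1 : φ ≫ θ = 𝟙 G := by
      have e1 : φ ≫ lift (𝟙 X) (toUnit X ≫ o) = lift (𝟙 G) (toUnit G ≫ o) ≫ ψ := by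
        ext <;> simp [φ, ψ]
      simp only [θ, w, Category.assoc]
      rw [reassoc_of% e1]
      simp
    have h2 : θ ≫ φ = 𝟙 X := by
      have : θ ≫ lift (𝟙 G) (toUnit G ≫ o) = w := by
        ext
        · simp [θ]
        · simp [hw2]
      simp only [φ]
      rw [reassoc_of% this, hw1]
    refine ⟨⟨⟨φ, θ, h1, h2⟩, ?_⟩⟩
    change μ[G] ≫ φ = (G ◁ φ) ≫ a.act
    have e2 : lift (𝟙 (G ⊗ G)) (toUnit (G ⊗ G) ≫ o) ≫ (α_ G G X).hom =
        G ◁ lift (𝟙 G) (toUnit G ≫ o) := by
      ext <;> simp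
    have e3 : μ[G] ≫ lift (𝟙 G) (toUnit G ≫ o) =
        lift (𝟙 (G ⊗ G)) (toUnit (G ⊗ G) ≫ o) ≫ (μ[G] ▷ X) := by
      ext <;> simp
    simp only [φ]
    rw [reassoc_of% e3, a.mul_act, reassoc_of% e2, MonoidalCategory.whiskerLeft_comp_assoc]

end Groth.Agent.S6011
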