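import Groth.Statements.S6012
import Groth.Agent.H30.FibClv

set_option autoImplicit false
set_option backward.isDefEq.respectTransparency false
set_option backward.isDefEq.respectTransparency.types false
open CategoryTheory
universe v₁ v₂ u₁ u₂
open FibCat FibCat.Cleavage

namespace Groth.Agent.S6012

/-- Let `K` be a cleavage of an arbitrary functor `p : 𝒳 ⥤ 𝒮` (one chosen cartesian lift of every base
morphism at every object over its target; `p` is not assumed fibred). Then `p` is a fibred category
(composites of cartesian morphisms are cartesian) if and only if, for all composable base morphisms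
`g : R ⟶ T` and `f : T ⟶ S`, the comparison natural transformation `c_{f,g}` from `g^* f^*` to
`(fg)^*` determined by `K` is an isomorphism. -/
theorem result (𝒮 : Type u₁) (𝒳 : Type u₂) [Category.{v₁} 𝒮] [Category.{v₂} 𝒳] (p : 𝒳 ⥤ 𝒮) (K : FibCat.Cleavage p) :
    p.IsFibered ↔ ∀ (R S T : 𝒮) (f : T ⟶ S) (g : R ⟶ T), IsIso (K.comp f g) := by
  constructor
  · intro hp R S T f g
    have : ∀ a : p.Fiber S, IsIso ((K.comp f g).app a) := by
      intro a
      have : p.IsCartesian (g ≫ f) (K.lift (K.obj_proj a.2 f) g ≫ K.lift a.2 f) :=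
        Functor.IsFibered.comp g f _ _
      refine ⟨Functor.Fiber.homMk p R (Functor.IsCartesian.map p (g ≫ f)
        (K.lift (K.obj_proj a.2 f) g ≫ K.lift a.2 f) (K.lift a.2 (g ≫ f))), ?_, ?_⟩
      · apply Functor.Fiber.hom_ext
        apply Functor.IsCartesian.ext p (g ≫ f) (K.lift (K.obj_proj a.2 f) g ≫ K.lift a.2 f)
        rw [Functor.map_comp, Category.assoc, Functor.Fiber.fiberInclusion_homMk,
          Functor.IsCartesian.fac, Groth.Agent.H30.comp_app_lift]
        simp
      · apply Functor.Fiber.hom_ext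
        apply Functor.IsCartesian.ext p (g ≫ f) (K.lift a.2 (g ≫ f))
        rw [Functor.map_comp, Category.assoc, Groth.Agent.H30.comp_app_lift,
          Functor.Fiber.fiberInclusion_homMk, Functor.IsCartesian.fac]
        simp
    exact NatIso.isIso_of_isIso_app _
  · intro h
    have := K.isPreFibered
    refine ⟨?_⟩
    intro R S T f g a b c φ ψ hφ hψ
    have hc : p.obj c = T := IsHomLift.codomain_eq p g ψ
    let θ := Functor.IsCartesian.domainUniqueUpToIso p g (K.lift hc g) ψ
    have hθ : θ.hom ≫ K.lift hc g = ψ := Functor.IsCartesian.fac p g (K.lift hc g) ψ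
    have hb' : p.obj (K.obj hc g) = S := K.obj_proj hc g
    have : p.IsCartesian f (φ ≫ θ.hom) := Functor.IsCartesian.of_comp_iso p f φ θ
    let θ' := Functor.IsCartesian.domainUniqueUpToIso p f (K.lift hb' f) (φ ≫ θ.hom)
    have hθ' : θ'.hom ≫ K.lift hb' f = φ ≫ θ.hom :=
      Functor.IsCartesian.fac p f (K.lift hb' f) (φ ≫ θ.hom)
    let cT : p.Fiber T := ⟨c, hc⟩
    have := h R T S g f
    let γ := Functor.Fiber.fiberInclusion.mapIso (asIso ((K.comp g f).app cT))
    have hγ : γ.hom ≫ K.lift hc (f ≫ g) = K.lift hb' f ≫ K.lift hc g :=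
      Groth.Agent.H30.comp_app_lift K g f cT
    have key : φ ≫ ψ = (θ' ≪≫ γ).hom ≫ K.lift hc (f ≫ g) := by
      rw [Iso.trans_hom, Category.assoc, hγ, ← Category.assoc, hθ', Category.assoc, hθ]
    rw [key]
    have : p.IsHomLift (𝟙 R) (θ' ≪≫ γ).hom := by
      rw [Iso.trans_hom]
      have h1 : p.IsHomLift (𝟙 R) θ'.hom := inferInstance
      have h2 : p.IsHomLift (𝟙 R) γ.hom :=
        inferInstanceAs (p.IsHomLift (𝟙 R) (Functor.Fiber.fiberInclusion.map ((K.comp g f).app cT)))
      have := IsHomLift.comp (p := p) (𝟙 R) (𝟙 R) θ'.hom γ.hom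
      simpa using this
    exact Functor.IsCartesian.of_iso_comp p (f ≫ g) (K.lift hc (f ≫ g)) (θ' ≪≫ γ)

end Groth.Agent.S6012
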