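import Groth.Statements.S6013
import Groth.Agent.H30.FibClv
import Groth.Agent.S6012

set_option autoImplicit false
set_option backward.isDefEq.respectTransparency false
set_option backward.isDefEq.respectTransparency.types false
open CategoryTheory
universe v₁ v₂ u₁ u₂
open FibCat FibCat.Cleavage

namespace Groth.Agent.S6013

/-- Let `p : 𝒳 ⥤ 𝒮` be a fibred category with a cleavage `K`, and let `f : T ⟶ S` be an isomorphism of
the base. Then the inverse-image functor `f^*` of `K`, from the fibre over `S` to the fibre over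
`T`, is an equivalence of categories. -/
theorem result (𝒮 : Type u₁) (𝒳 : Type u₂) [Category.{v₁} 𝒮] [Category.{v₂} 𝒳] (p : 𝒳 ⥤ 𝒮) [p.IsFibered] (K : FibCat.Cleavage p)
    (S T : 𝒮) (f : T ⟶ S) [IsIso f] : (K.inverseImage f).IsEquivalence := by
  have hiso := (Groth.Agent.S6012.result 𝒮 𝒳 p K).1 inferInstance
  have h1 := hiso S S T f (inv f)
  have h2 := hiso T T S (inv f) f
  let e1 : K.inverseImage f ⋙ K.inverseImage (inv f) ≅ 𝟭 (p.Fiber S) :=
    asIso (K.comp f (inv f)) ≪≫ K.inverseImageCongr (IsIso.inv_hom_id f) ≪≫ Groth.Agent.H30.idIso K S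
  let e2 : K.inverseImage (inv f) ⋙ K.inverseImage f ≅ 𝟭 (p.Fiber T) :=
    asIso (K.comp (inv f) f) ≪≫ K.inverseImageCongr (IsIso.hom_inv_id f) ≪≫ Groth.Agent.H30.idIso K T
  exact (CategoryTheory.Equivalence.mk (K.inverseImage f) (K.inverseImage (inv f)) e1.symm e2).isEquivalence_functor

end Groth.Agent.S6013
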