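import Groth.Statements.S6019
import Groth.Agent.H30.FibClv

set_option autoImplicit false
set_option backward.isDefEq.respectTransparency false
set_option backward.isDefEq.respectTransparency.types false
open CategoryTheory
universe v₁ v₂ u₁ u₂
open FibCat FibCat.Cleavage

namespace Groth.Agent.S6019

/-- A pre-fibred category admits a normalised cleavage: if every base morphism `R ⟶ p(a)` has a
cartesian morphism over it with target `a`, then one cartesian lift can be chosen for every base
morphism at every object over its target in such a way that the chosen lift of each identity `𝟙 S`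
at each object `a` over `S` is the identity of `a` (identities are transport morphisms). -/
theorem result (𝒮 : Type u₁) (𝒳 : Type u₂) [Category.{v₁} 𝒮] [Category.{v₂} 𝒳]
    (p : 𝒳 ⥤ 𝒮) [p.IsPreFibered] : ∃ K : FibCat.Cleavage p, K.IsNormalised := by
  classical
  let ch : ∀ {R S : 𝒮} {a : 𝒳} (ha : p.obj a = S) (f : R ⟶ S),
      Σ b : 𝒳, {φ : b ⟶ a // p.IsCartesian f φ} := fun {R S a} ha f =>
    if h : ∃ e : R = S, f = eqToHom e then
      ⟨a, 𝟙 a, by
        obtain ⟨e, rfl⟩ := h
        subst e
        simpa using Groth.Agent.H30.isCartesian_id (p := p) a ha⟩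
    else ⟨Functor.IsPreFibered.pullbackObj ha f, Functor.IsPreFibered.pullbackMap ha f, inferInstance⟩
  refine ⟨⟨fun ha f => (ch ha f).1, fun ha f => (ch ha f).2.1, fun ha f => (ch ha f).2.2⟩, ?_⟩
  intro S a ha
  have key : ∀ x : (Σ b : 𝒳, {φ : b ⟶ a // p.IsCartesian (𝟙 S) φ}),
      (∃ hc : p.IsCartesian (𝟙 S) (𝟙 a), x = ⟨a, 𝟙 a, hc⟩) → ∃ h : x.1 = a, x.2.1 = eqToHom h := by
    rintro x ⟨hc, rfl⟩
    exact ⟨rfl, rfl⟩
  apply key
  have hpos : ∃ e : S = S, (𝟙 S : S ⟶ S) = eqToHom e := ⟨rfl, rfl⟩
  exact ⟨Groth.Agent.H30.isCartesian_id (p := p) a ha, dif_pos hpos⟩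

end Groth.Agent.S6019
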