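import Groth.Statements.S6024

set_option autoImplicit false
universe u
open CategoryTheory CategoryTheory.Limits TopologicalSpace
open LocCohZ

namespace Groth.Agent.S6024

/-- Consider a topological space X carrying a sheaf of abelian groups F, and assume that H^1_Z(X, F)
vanishes for each closed subset Z of X (writing Z = X − U with U open). Under this assumption, F is
flasque. -/
theorem result {X : TopCat.{u}} (F : CohTop.Ab X)
    (h : ∀ U : Opens X, Subsingleton (LocCohZ.HZc F 1 U)) : TopCat.Sheaf.IsFlasque F := by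
  -- every section over `U` extends to `X`
  have key : ∀ (U : Opens X) (s : F.obj.obj (Opposite.op U)),
      ∃ t : F.obj.obj (Opposite.op ⊤), (F.obj.map (homOfLE (le_top : U ≤ ⊤)).op).hom t = s := by
    intro U s
    have := h U
    have hS := LocCohZ.zqSeq_shortExact (le_top : U ≤ ⊤)
    let φ := CohFree.ofSect (Opens.grothendieckTopology X) U F s
    obtain ⟨x₂, hx₂⟩ := Abelian.Ext.contravariant_sequence_exact₁ hS F (Abelian.Ext.mk₀ φ)
      (show 1 + 0 = 1 from rfl) (Subsingleton.elim (α := LocCohZ.HZc F 1 U) _ _)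
    obtain ⟨ψ, rfl⟩ := (Abelian.Ext.mk₀_bijective _ _).2 x₂
    rw [Abelian.Ext.mk₀_comp_mk₀] at hx₂
    have hx : (LocCohZ.zqSeq (le_top : U ≤ ⊤)).f ≫ ψ = φ := (Abelian.Ext.mk₀_bijective _ _).1 hx₂
    let ψ' : CohCx.freeSheaf (Opens.grothendieckTopology X) (⊤ : Opens X) ⟶ F := ψ
    have hx' : CohCx.freeSheafMap (Opens.grothendieckTopology X) (homOfLE (le_top : U ≤ ⊤)) ≫ ψ' = φ :=
      hx
    refine ⟨CohFree.evalGen (Opens.grothendieckTopology X) ⊤ F ψ', ?_⟩
    rw [← CohFree.evalGen_freeSheafMap_comp]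
    exact (congrArg (CohFree.evalGen _ U F) hx').trans (CohFree.evalGen_ofSect _ U F s)
  refine ⟨fun {W W'} i => ?_⟩
  rw [AddCommGrpCat.epi_iff_surjective]
  intro s
  obtain ⟨t, ht⟩ := key W'.unop s
  refine ⟨(F.obj.map (homOfLE (le_top : W.unop ≤ ⊤)).op).hom t, ?_⟩
  rw [← ht]
  change (F.obj.map (homOfLE (le_top : W.unop ≤ ⊤)).op ≫ F.obj.map i).hom t = _
  rw [← F.obj.map_comp]
  rfl

end Groth.Agent.S6024
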