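import Groth.Statements.S6041
import Groth.Agent.H40.QuotShDesc
set_option backward.isDefEq.respectTransparency.types false

set_option autoImplicit false
open CategoryTheory CategoryTheory.Limits AlgebraicGeometry MonoidalCategory
universe u
open GrpQ

namespace Groth.Agent.S6041

open CartesianMonoidalCategory in
/-- For schemes and the fppf topology, easy direction: let `s, t : R ⇉ U` be a pair of morphisms of
schemes over `S` (in the source an equivalence relation), `T` a scheme over `S` and `i : Z ⟶ U ×_S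
T` such that `Z ⟶ T` is flat, surjective and locally of finite presentation and any two points of
`Z` over the same point of `T` have `R`-related images in `U`. Then the composite `h_Z ⟶ h_U ⟶ U/R`
descends to exactly one section of the fppf quotient sheaf `U/R` over `T`. -/
theorem result {S : Scheme.{u}} {R U : Over S} (s t : R ⟶ U)
    (T Z : Over S) (i : Z ⟶ U ⊗ T)
    [Flat (i ≫ snd U T).left] [Surjective (i ≫ snd U T).left] [LocallyOfFinitePresentation (i ≫ snd U T).left]
    (hZZ : ∀ (T' : Over S) (z₁ z₂ : T' ⟶ Z), z₁ ≫ i ≫ snd U T = z₂ ≫ i ≫ snd U T →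
      ∃ r : T' ⟶ R, r ≫ s = z₁ ≫ i ≫ fst U T ∧ r ≫ t = z₂ ≫ i ≫ fst U T) :
    ∃! σ : QuotSh.rep Scheme.fppfPrecoverage T ⟶ QuotSh.quot Scheme.fppfPrecoverage s t,
      QuotSh.repMap Scheme.fppfPrecoverage (i ≫ fst U T) ≫ QuotSh.quotπ Scheme.fppfPrecoverage s t =
        QuotSh.repMap Scheme.fppfPrecoverage (i ≫ snd U T) ≫ σ := by
  have hk : IsKernelPair (i ≫ snd U T) (pullback.fst (i ≫ snd U T) (i ≫ snd U T))
      (pullback.snd (i ≫ snd U T) (i ≫ snd U T)) := IsPullback.of_hasPullback _ _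
  have hQ : QuotSh.IsQuotient Scheme.fppfPrecoverage (pullback.fst (i ≫ snd U T) (i ≫ snd U T))
      (pullback.snd (i ≫ snd U T) (i ≫ snd U T)) (i ≫ snd U T) :=
    Groth.Agent.H40.QuotShLoc.isQuotient_of_isKernelPair _ _ _ _ hk (fun T' y =>
      Groth.Agent.H40.QuotShLoc.liftSieve_mem_of_cover _ _
        (fun g => Scheme.Hom.singleton_mem_fppfPrecoverage _) y)
  obtain ⟨r, hr1, hr2⟩ := hZZ _ (pullback.fst (i ≫ snd U T) (i ≫ snd U T))
    (pullback.snd (i ≫ snd U T) (i ≫ snd U T)) pullback.condition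
  have hg : QuotSh.repMap Scheme.fppfPrecoverage (pullback.fst (i ≫ snd U T) (i ≫ snd U T)) ≫
      (QuotSh.repMap Scheme.fppfPrecoverage (i ≫ fst U T) ≫
        QuotSh.quotπ Scheme.fppfPrecoverage s t) =
      QuotSh.repMap Scheme.fppfPrecoverage (pullback.snd (i ≫ snd U T) (i ≫ snd U T)) ≫
      (QuotSh.repMap Scheme.fppfPrecoverage (i ≫ fst U T) ≫
        QuotSh.quotπ Scheme.fppfPrecoverage s t) := by
    rw [← Category.assoc, ← Category.assoc, ← Groth.Agent.H40.QuotShLoc.repMap_comp,
      ← Groth.Agent.H40.QuotShLoc.repMap_comp, ← hr1, ← hr2,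
      Groth.Agent.H40.QuotShLoc.repMap_comp, Groth.Agent.H40.QuotShLoc.repMap_comp,
      Category.assoc, Category.assoc, QuotSh.quot_condition]
  obtain ⟨σ, hσ, huniq⟩ := Groth.Agent.H40.QuotShLoc.existsUnique_desc_of_isQuotient _ _ _ hQ _ hg
  exact ⟨σ, hσ.symm, fun σ' hσ' => huniq σ' hσ'.symm⟩

end Groth.Agent.S6041
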