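import Groth.Statements.S6056
import Groth.Agent.H40.ThirdIso

set_option autoImplicit false
open CategoryTheory CategoryTheory.Limits AlgebraicGeometry MonoidalCategory
universe u
open RedSub

namespace Groth.Agent.S6056

open MonObj CartesianMonoidalCategory SemiCartesianMonoidalCategory in
/-- For group schemes and fppf quotients: let `K ⊆ G` be a subgroup scheme and `H ⊆ K` a subgroup scheme
normal in `K`; suppose `G/H` is represented by `q_H : G ⟶ Q_H` and `K/H` by a homomorphism `K ⟶ K'`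
of group schemes, and let `act : Q_H ×_S K' ⟶ Q_H` be the right action induced by the multiplication
of `G`. Then: (i) if `G/K` is represented by `q_K : G ⟶ Q_K`, the map `Q_H ⟶ Q_K` under `G` is an
fppf covering whose kernel pair is `Q_H ×_S K' ⇉ Q_H` (projection, action), i.e. `Q_K =
(G/H)/(K/H)`; (ii) conversely, if `p : Q_H ⟶ Y` is an fppf covering with that kernel pair, then `q_H
≫ p` represents `G/K`. -/
theorem result {S : Scheme.{u}} {H K G QH Kb : Over S}
    [hH : GrpObj H] [hK : GrpObj K] [hG : GrpObj G] [hKb : GrpObj Kb]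
    (h : H ⟶ K) (k : K ⟶ G) [Mono h] [Mono k] [IsMonHom h] [IsMonHom k]
    (hn : AlgGrp.IsNormalHom h)
    (qH : G ⟶ QH) (hqH : RedSub.IsQuotient (h ≫ k) qH)
    (qKb : K ⟶ Kb) [IsMonHom qKb] (hqKb : RedSub.IsQuotient h qKb)
    (act : QH ⊗ Kb ⟶ QH) (hact : (qH ⊗ₘ qKb) ≫ act = (G ◁ k) ≫ μ[G] ≫ qH) :
    (∀ (QK : Over S) (qK : G ⟶ QK), RedSub.IsQuotient k qK →
      ∀ qbar : QH ⟶ QK, qH ≫ qbar = qK →
        Surjective qbar.left ∧ Flat qbar.left ∧ LocallyOfFinitePresentation qbar.left ∧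
          IsPullback (fst QH Kb) act qbar qbar) ∧
    (∀ (Y : Over S) (p : QH ⟶ Y),
      Surjective p.left → Flat p.left → LocallyOfFinitePresentation p.left →
      IsPullback (fst QH Kb) act p p → RedSub.IsQuotient k (qH ≫ p)) := by
  obtain ⟨hH1, hH2, hH3, sqH⟩ := hqH
  obtain ⟨hK1, hK2, hK3, sqKb⟩ := hqKb
  have hcH : Groth.Agent.H40.IsCovFP qH := ⟨hH2, hH1, hH3⟩
  have hcKb : Groth.Agent.H40.IsCovFP qKb := ⟨hK2, hK1, hK3⟩
  refine ⟨?_, ?_⟩
  · intro QK qK hqK qbar hq
    obtain ⟨hQ1, hQ2, hQ3, sqK⟩ := hqK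
    have hcomp : qH.left ≫ qbar.left = qK.left := by
      rw [← Over.comp_left, hq]
    refine ⟨?_, ?_, ?_, ?_⟩
    · refine ⟨fun x => ?_⟩
      obtain ⟨g, rfl⟩ := hQ1.surj x
      exact ⟨qH.left g, by rw [← Scheme.Hom.comp_apply, hcomp]⟩
    · have : Flat (qH.left ≫ qbar.left) := by rw [hcomp]; exact hQ2
      exact Groth.Agent.H40.flat_of_flat_comp qH.left qbar.left
    · refine Groth.Agent.H53.locallyOfFinitePresentation_of_fppf_family qbar.left
        (fun _ : Unit => G.left) (fun _ => qH.left) (fun _ => hH2) (fun _ => hH3)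
        (fun _ => by rw [hcomp]; exact hQ3) (fun y => ⟨(), hH1.surj y⟩)
    · exact Groth.Agent.H40.isPullback_quot_quot h k qH hcH sqH qKb hcKb sqKb act hact qK sqK
        qbar hq
  · intro Y p hp1 hp2 hp3 sqp
    refine ⟨?_, ?_, ?_, ?_⟩
    · show Surjective (qH.left ≫ p.left)
      infer_instance
    · show Flat (qH.left ≫ p.left)
      infer_instance
    · show LocallyOfFinitePresentation (qH.left ≫ p.left)
      infer_instance
    · exact Groth.Agent.H40.isPullback_comp_quot h k qH hcH sqH qKb hcKb act hact p sqp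

end Groth.Agent.S6056
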