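import Groth.Statements.S6057
-- import your own Groth.Agent.* helpers here

set_option autoImplicit false
open CategoryTheory
universe v₁ u₁
open ShfCat

namespace Groth.Agent.S6057

theorem sep_of_sep {C : Type u₁} [Category.{v₁} C] (J : GrothendieckTopology C)
    {S : C} {F : Cᵒᵖ ⥤ Type v₁} (φ : F ⟶ yoneda.obj S) (hF : Presieve.IsSeparated J F) :
    Presieve.IsSeparated (J.over S) (ShfCat.relPsh φ) := by
  intro T R hR x t₁ t₂ h₁ h₂
  apply Subtype.ext
  refine (hF _ hR).ext ?_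
  intro Y g hg
  rw [Sieve.overEquiv_iff] at hg
  have e1 := congrArg Subtype.val (h₁ _ hg)
  have e2 := congrArg Subtype.val (h₂ _ hg)
  exact e1.trans e2.symm

theorem sep_of_sep' {C : Type u₁} [Category.{v₁} C] (J : GrothendieckTopology C)
    {S : C} (hS : Presieve.IsSheaf J (yoneda.obj S)) {F : Cᵒᵖ ⥤ Type v₁} (φ : F ⟶ yoneda.obj S)
    (hG : Presieve.IsSeparated (J.over S) (ShfCat.relPsh φ)) :
    Presieve.IsSeparated J F := by
  intro X R hR x t₁ t₂ h₁ h₂
  have hφ : φ.app (Opposite.op X) t₂ = φ.app (Opposite.op X) t₁ := by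
    refine (hS.isSeparated _ hR).ext ?_
    intro Y g hg
    rw [← NatTrans.naturality_apply φ g.op t₂, ← NatTrans.naturality_apply φ g.op t₁,
      h₁ g hg, h₂ g hg]
  let T : Over S := Over.mk (φ.app (Opposite.op X) t₁)
  let s₁ : (ShfCat.relPsh φ).obj (Opposite.op T) := ⟨t₁, rfl⟩
  let s₂ : (ShfCat.relPsh φ).obj (Opposite.op T) := ⟨t₂, hφ⟩
  have hR' : (Sieve.overEquiv T).symm R ∈ (J.over S) T := J.overEquiv_symm_mem_over T R hR
  have : s₁ = s₂ := by
    refine (hG _ hR').ext ?_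
    intro Y g' hg'
    apply Subtype.ext
    have hg : R g'.left := hg'
    exact (h₁ _ hg).trans (h₂ _ hg).symm
  exact congrArg Subtype.val this


theorem sheaf_of_sheaf {C : Type u₁} [Category.{v₁} C] (J : GrothendieckTopology C)
    {S : C} (hS : Presieve.IsSheaf J (yoneda.obj S)) {F : Cᵒᵖ ⥤ Type v₁} (φ : F ⟶ yoneda.obj S)
    (hF : Presieve.IsSheaf J F) :
    Presieve.IsSheaf (J.over S) (ShfCat.relPsh φ) := by
  intro T R hR
  rw [← Presieve.isSeparatedFor_and_exists_isAmalgamation_iff_isSheafFor]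
  refine ⟨sep_of_sep J φ hF.isSeparated R hR, ?_⟩
  intro x hx
  have hx' := (Presieve.compatible_iff_sieveCompatible x).1 hx
  have hR0 : Sieve.overEquiv T R ∈ J T.left := hR
  let y : Presieve.FamilyOfElements F (Sieve.overEquiv T R).arrows := fun Y g hg =>
    (x (Over.homMk g : Over.mk (g ≫ T.hom) ⟶ T) ((Sieve.overEquiv_iff _ _).1 hg)).1
  have hy : y.Compatible := by
    intro Y₁ Y₂ Z h₁ h₂ g₁ g₂ hg₁ hg₂ e
    let k₁ : Over.mk (h₁ ≫ g₁ ≫ T.hom) ⟶ Over.mk (g₁ ≫ T.hom) := Over.homMk h₁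
    let k₂ : Over.mk (h₁ ≫ g₁ ≫ T.hom) ⟶ Over.mk (g₂ ≫ T.hom) :=
      Over.homMk h₂ (by simp [reassoc_of% e])
    have ek : k₁ ≫ (Over.homMk g₁ : Over.mk (g₁ ≫ T.hom) ⟶ T) =
        k₂ ≫ (Over.homMk g₂ : Over.mk (g₂ ≫ T.hom) ⟶ T) := by
      ext
      simpa [k₁, k₂] using e
    have := hx k₁ k₂ ((Sieve.overEquiv_iff _ _).1 hg₁) ((Sieve.overEquiv_iff _ _).1 hg₂) ek
    exact congrArg Subtype.val this
  let t := (hF _ hR0).amalgamate y hy
  have ht : ∀ ⦃Y : C⦄ (g : Y ⟶ T.left) (hg : (Sieve.overEquiv T R).arrows g),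
      F.map g.op t = y g hg := fun Y g hg => (hF _ hR0).valid_glue hy g hg
  have hφt : φ.app (Opposite.op T.left) t = T.hom := by
    refine (hS.isSeparated _ hR0).ext ?_
    intro Y g hg
    rw [← NatTrans.naturality_apply φ g.op t, ht g hg]
    exact (x (Over.homMk g : Over.mk (g ≫ T.hom) ⟶ T) ((Sieve.overEquiv_iff _ _).1 hg)).2
  refine ⟨⟨t, hφt⟩, ?_⟩
  intro Y g' hg'
  apply Subtype.ext
  have hgl : (Sieve.overEquiv T R).arrows g'.left := by
    rw [Sieve.overEquiv_iff]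
    let e : Over.mk (g'.left ≫ T.hom) ⟶ Y := Over.homMk (𝟙 _) (by simp)
    have : (Over.homMk g'.left : Over.mk (g'.left ≫ T.hom) ⟶ T) = e ≫ g' := by
      ext; simp [e]
    rw [this]
    exact R.downward_closed hg' e
  change F.map g'.left.op t = (x g' hg').1
  rw [ht g'.left hgl]
  let e : Over.mk (g'.left ≫ T.hom) ⟶ Y := Over.homMk (𝟙 _) (by simp)
  have he : (Over.homMk g'.left : Over.mk (g'.left ≫ T.hom) ⟶ T) = e ≫ g' := by
    ext; simp [e]
  have h1 := hx' g' e hg'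
  have h2 : x (Over.homMk g'.left : Over.mk (g'.left ≫ T.hom) ⟶ T)
      ((Sieve.overEquiv_iff _ _).1 hgl) = x (e ≫ g') (R.downward_closed hg' e) := by
    congr 1
  change (x (Over.homMk g'.left : Over.mk (g'.left ≫ T.hom) ⟶ T) _).1 = _
  rw [h2, h1]
  change F.map (𝟙 Y.left).op (x g' hg').1 = _
  simp

theorem sheaf_of_sheaf' {C : Type u₁} [Category.{v₁} C] (J : GrothendieckTopology C)
    {S : C} (hS : Presieve.IsSheaf J (yoneda.obj S)) {F : Cᵒᵖ ⥤ Type v₁} (φ : F ⟶ yoneda.obj S)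
    (hG : Presieve.IsSheaf (J.over S) (ShfCat.relPsh φ)) :
    Presieve.IsSheaf J F := by
  intro X R hR
  rw [← Presieve.isSeparatedFor_and_exists_isAmalgamation_iff_isSheafFor]
  refine ⟨sep_of_sep' J hS φ hG.isSeparated R hR, ?_⟩
  intro x hx
  have hx' := (Presieve.compatible_iff_sieveCompatible x).1 hx
  let z : Presieve.FamilyOfElements (yoneda.obj S) R.arrows := fun Y g hg =>
    φ.app (Opposite.op Y) (x g hg)
  have hz : z.Compatible := by
    rw [Presieve.compatible_iff_sieveCompatible]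
    intro Y Z g k hg
    change φ.app _ (x (k ≫ g) _) = (yoneda.obj S).map k.op (φ.app _ (x g hg))
    rw [← NatTrans.naturality_apply φ k.op, hx' g k hg]
  let t₀ : X ⟶ S := (hS _ hR).amalgamate z hz
  have ht₀ : ∀ ⦃Y : C⦄ (g : Y ⟶ X) (hg : R g), g ≫ t₀ = φ.app (Opposite.op Y) (x g hg) :=
    fun Y g hg => (hS _ hR).valid_glue hz g hg
  let T : Over S := Over.mk t₀
  have hR' : (Sieve.overEquiv T).symm R ∈ (J.over S) T := J.overEquiv_symm_mem_over T R hR
  let x' : Presieve.FamilyOfElements (ShfCat.relPsh φ) ((Sieve.overEquiv T).symm R).arrows :=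
    fun Y g' hg' => ⟨x g'.left hg', by
      rw [← ht₀ g'.left hg']
      exact Over.w g'⟩
  have hx'' : x'.Compatible := by
    intro Y₁ Y₂ Z h₁ h₂ g₁ g₂ hg₁ hg₂ e
    apply Subtype.ext
    have e' : h₁.left ≫ g₁.left = h₂.left ≫ g₂.left := by
      have := congrArg CommaMorphism.left e
      simpa using this
    exact hx h₁.left h₂.left hg₁ hg₂ e'
  let s := (hG _ hR').amalgamate x' hx''
  refine ⟨s.1, ?_⟩
  intro Y g hg
  let g' : Over.mk (g ≫ t₀) ⟶ T := Over.homMk g
  have hg' : ((Sieve.overEquiv T).symm R).arrows g' := hg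
  have := (hG _ hR').valid_glue hx'' g' hg'
  exact congrArg Subtype.val this

/-- Let `S` be an object whose representable presheaf is a sheaf for `J` and `φ : F ⟶ h_S` a morphism of
presheaves of sets. The relative presheaf on `C/S` (sections of `F` over `T` lying over the given `T
⟶ S`) is separated (resp. a sheaf) for the induced topology on `C/S` if and only if `F` is separated
(resp. a sheaf). -/
theorem result {C : Type u₁} [Category.{v₁} C] (J : GrothendieckTopology C)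
    {S : C} (hS : Presieve.IsSheaf J (yoneda.obj S)) {F : Cᵒᵖ ⥤ Type v₁} (φ : F ⟶ yoneda.obj S) :
    (Presieve.IsSeparated (J.over S) (ShfCat.relPsh φ) ↔ Presieve.IsSeparated J F) ∧
    (Presieve.IsSheaf (J.over S) (ShfCat.relPsh φ) ↔ Presieve.IsSheaf J F) := by
  exact ⟨⟨fun h => sep_of_sep' J hS φ h, fun h => sep_of_sep J φ h⟩,
    ⟨fun h => sheaf_of_sheaf' J hS φ h, fun h => sheaf_of_sheaf J hS φ h⟩⟩

end Groth.Agent.S6057
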