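import Groth.Statements.S6058
import Groth.Agent.H15.MTTf5
import Groth.Agent.H15.MTIso6
import Groth.Agent.H15.MTSub4

set_option autoImplicit false
universe u
open TensorProduct SGA3b
open SGA3b

namespace Groth.Agent.S6058

/-- Let A be a Noetherian ring, separated and complete for the I-adic topology, and H = Spec C a
commutative affine A-group (C cocommutative) with C flat and of finite type over A, such that the
reduction H₀ = Spec ((A/I) ⊗ C) is an isotrivial (A/I)-group of multiplicative type and such that
for every n > 0 the kernel ₙH = Spec (C/Jₙ) of the n-th power map is finite over A (Jₙ the ideal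
generated by the image of the augmentation ideal under the n-th power endomorphism). Then H is an
isotrivial A-group of multiplicative type. (Affine group schemes over an affine base are taken in
Hopf-algebra form; base change is the tensor product.) -/
theorem result (A : Type u) [CommRing A] [IsNoetherianRing A] (I : Ideal A) [IsAdicComplete I A]
    (C : Type u) [CommRing C] [HopfAlgebra A C] [Coalgebra.IsCocomm A C] [Module.Flat A C] (hft : Algebra.FiniteType A C)
    (h0 : IsIsotrivial (A ⧸ I) ((A ⧸ I) ⊗[A] C))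
    (hfin : ∀ n : ℕ, 0 < n → Module.Finite A (C ⧸ torsionIdeal A C n)) :
    IsIsotrivial A C := by
  classical
  have hfl : ∀ (q : Ideal C) [q.IsPrime], Ideal.map (algebraMap A C) I ≤ q →
      Module.Flat A (Localization.AtPrime q) :=
    fun q _ _ => Module.Flat.trans A C (Localization.AtPrime q)
  obtain ⟨e, heidem, heI, hHopf, hiso⟩ :=
    Groth.Agent.H15.MTI.exists_clopen_subgroup A I C hft hfl h0
  haveI := hHopf
  have hJ : I ≤ (⊥ : Ideal A).jacobson := IsAdicComplete.le_jacobson_bot I
  have heI' : e ∈ (I • ⊤ : Submodule A C) := by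
    rw [Ideal.smul_top_eq_map]
    exact heI
  -- Step 1: `e` lies in all the torsion ideals
  have htors : ∀ m : ℕ, 0 < m → e ∈ torsionIdeal A C m := by
    intro m hm
    haveI := hfin m hm
    have hbot := Ideal.iInf_pow_smul_eq_bot_of_le_jacobson (M := C ⧸ torsionIdeal A C m) I hJ
    let q : C →ₗ[A] C ⧸ torsionIdeal A C m := (Ideal.Quotient.mkₐ A (torsionIdeal A C m)).toLinearMap
    have h1 : q e ∈ (⨅ i : ℕ, I ^ i • ⊤ : Submodule A (C ⧸ torsionIdeal A C m)) := by
      rw [Submodule.mem_iInf]
      intro i
      exact Groth.Agent.H26.map_mem_smul_top (I ^ i) q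
        (Groth.Agent.H15.MTI.idem_mem_pow_smul_top I heidem heI' i)
    rw [hbot, Submodule.mem_bot] at h1
    exact Ideal.Quotient.eq_zero_iff_mem.mp h1
  -- Step 2: `e = 0`
  have he0 : e = 0 := by
    by_contra hne
    obtain ⟨A', _, _, het, hfin', hff, M, _, ⟨E⟩⟩ := hiso
    obtain ⟨L, _, _, _, _, φ, hφ⟩ := Groth.Agent.H15.MTSub.exists_field_point (R := A) A' e heidem hne
    have hD1 : Groth.Agent.H15.MTC.HasDChart A (C ⧸ Ideal.span {e}) A' M :=
      Groth.Agent.H15.MTC.HasDChart.of_equiv E
    have hD2 : Groth.Agent.H15.MTC.HasDChart A (C ⧸ Ideal.span {e}) (AlgebraicClosure L) M :=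
      hD1.map (AlgebraicClosure L)
    have hD3 : Groth.Agent.H15.MTC.HasDChart (AlgebraicClosure L)
        ((AlgebraicClosure L) ⊗[A] (C ⧸ Ideal.span {e})) (AlgebraicClosure L) M :=
      hD2.baseChange (AlgebraicClosure L)
    obtain ⟨EΩ⟩ := hD3.nonempty_equiv
    haveI hftQ : Algebra.FiniteType A (C ⧸ Ideal.span {e}) :=
      hft.of_surjective (Ideal.Quotient.mkₐ A (Ideal.span {e})) (Ideal.Quotient.mkₐ_surjective A _)
    have hftΩ : Algebra.FiniteType (AlgebraicClosure L)
        ((AlgebraicClosure L) ⊗[A] (C ⧸ Ideal.span {e})) :=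
      Algebra.FiniteType.baseChange (AlgebraicClosure L)
    have hftM : Algebra.FiniteType (AlgebraicClosure L) (MonoidAlgebra (AlgebraicClosure L) M) :=
      hftΩ.equiv (EΩ : _ ≃ₐ[AlgebraicClosure L] _)
    haveI : Group.FG M := MonoidAlgebra.finiteType_iff_group_fg.mp hftM
    have hz := Groth.Agent.H15.MTT.point_apply_eq_zero hft e heidem EΩ htors
      ((IsScalarTower.toAlgHom A L (AlgebraicClosure L)).comp φ)
    rw [AlgHom.comp_apply, hφ, map_one] at hz
    exact one_ne_zero hz
  subst he0
  exact Groth.Agent.H15.MTI.isIsotrivial_of_quot_zero hiso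

end Groth.Agent.S6058
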