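import Groth.Statements.S6062
import Groth.Agent.H15.MTKer9

set_option autoImplicit false
universe u
open TensorProduct SGA3b
open SGA3b

namespace Groth.Agent.S6062

/-- Let G = Spec A be an R-group of multiplicative type, not necessarily of finite type, H = Spec C an
R-group of multiplicative type and of finite type, u : G ⟶ H a homomorphism given by the bialgebra
map φ : C → A, and J the ideal of the kernel of u (generated by the image under φ of the
augmentation ideal of C), a Hopf ideal (the instance hypothesis holds automatically for this J).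
Then Ker u = Spec (A/J) is of multiplicative type (with locally constant type). (The published
statement also asserts that the quotient of G by Ker u exists, is of multiplicative type and of
finite type and embeds in H, and that the quotient of H by it exists and is of multiplicative type
and of finite type; this row states only that the kernel is of multiplicative type. Affine group
schemes over an affine base are taken in Hopf-algebra form; base change is the tensor product.) -/
theorem result (R : Type u) [CommRing R] (A : Type u) [CommRing A] [HopfAlgebra R A] (hA : IsMultType R A)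
    (C : Type u) [CommRing C] [HopfAlgebra R C] (hC : IsMultType R C) (hCft : Algebra.FiniteType R C) (φ : C →ₐc[R] A)
    (J : Ideal A) [J.IsHopfIdeal R] (hJ : J = Ideal.map φ (RingHom.ker (Bialgebra.counitAlgHom R C))) :
    IsMultType R (A ⧸ J) := by
  classical
  obtain ⟨sA, hsA, hconstA⟩ := hA
  obtain ⟨sC, hsC, hconstC⟩ := hC
  have key : ∀ f ∈ sA, ∀ g ∈ sC, ∃ X : Set R, (∃ k : ℕ, (f * g) ^ k ∈ Ideal.span X) ∧
      ∀ x ∈ X, IsMultTypeConst (Localization.Away x) (Localization.Away x ⊗[R] (A ⧸ J)) :=
    fun f hf g hg => Groth.Agent.H15.MTQ.exists_cover_of_const f g (hconstA f hf) (hconstC g hg)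
      hCft φ J hJ
  choose X hX1 hX2 using key
  refine ⟨⋃ (f : R) (hf : f ∈ sA) (g : R) (hg : g ∈ sC), X f hf g hg, ?_, ?_⟩
  · set s : Set R := ⋃ (f : R) (hf : f ∈ sA) (g : R) (hg : g ∈ sC), X f hf g hg with hs
    have h1 : Ideal.span sA * Ideal.span sC ≤ (Ideal.span s).radical := by
      rw [Ideal.span_mul_span', Ideal.span_le]
      rintro _ ⟨f, hf, g, hg, rfl⟩
      obtain ⟨k, hk⟩ := hX1 f hf g hg
      refine ⟨k, Ideal.span_mono ?_ hk⟩
      intro x hx
      exact Set.mem_iUnion.mpr ⟨f, Set.mem_iUnion.mpr ⟨hf, Set.mem_iUnion.mpr ⟨g,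
        Set.mem_iUnion.mpr ⟨hg, hx⟩⟩⟩⟩
    rw [hsA, hsC, Ideal.top_mul, top_le_iff] at h1
    exact Ideal.radical_eq_top.mp h1
  · intro x hx
    obtain ⟨f, hx⟩ := Set.mem_iUnion.mp hx
    obtain ⟨hf, hx⟩ := Set.mem_iUnion.mp hx
    obtain ⟨g, hx⟩ := Set.mem_iUnion.mp hx
    obtain ⟨hg, hx⟩ := Set.mem_iUnion.mp hx
    exact hX2 f hf g hg x hx

end Groth.Agent.S6062
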