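import Groth.Statements.S6065
import Groth.Agent.H25.WeilDense

set_option autoImplicit false
open CategoryTheory MonoidalCategory CartesianMonoidalCategory MonObj GrpObj AlgebraicGeometry
universe u
open SGA3x

namespace Groth.Agent.S6065

open CategoryTheory.Limits in
/-- Let S be a locally Noetherian scheme, H a commutative S-group which is of finite type over S, and E
a nonempty set of integers n > 0 stable under multiplication, such that: a) for every n ∈ E the
kernel ₙH of the n-th power map of H (the pullback of the unit section along that map) is finite and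
flat over S; b) for every s ∈ S the family of fibres (ₙH)_s ⟶ H_s, n ∈ E, is schematically dense in
H_s (a section of the structure sheaf of H_s over an open subset whose pullback to every (ₙH)_s
vanishes is zero). Let Y be a closed subscheme of H. Then the functor on S-schemes whose value at S'
⟶ S is a point when H ×_S S' ⟶ H factors through Y and empty otherwise is representable by a closed
subscheme T of S; and if S is Noetherian there is n ∈ E such that, for every S' ⟶ S, H ×_S S' ⟶ H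
factors through Y if and only if ₙH ×_S S' ⟶ H does. -/
theorem result {S : Scheme.{u}} [IsLocallyNoetherian S]
    (H : Over S) [GrpObj H] [IsCommMonObj H] [LocallyOfFiniteType H.hom] [QuasiCompact H.hom]
    (E : Set ℕ) (hE : E.Nonempty) (hE0 : ∀ n ∈ E, 0 < n) (hEmul : ∀ m ∈ E, ∀ n ∈ E, m * n ∈ E)
    (ha : ∀ n ∈ E, IsFinite ((pullback.snd η[H].left (𝟙 H ^ n : H ⟶ H).left) ≫ H.hom) ∧ Flat ((pullback.snd η[H].left (𝟙 H ^ n : H ⟶ H).left) ≫ H.hom))
    (hb : ∀ (s : S) (V : (H.hom.fiber s).Opens) (t : Γ(H.hom.fiber s, V)),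
      (∀ n ∈ E, (MoreMor.fiberMap (pullback.snd η[H].left (𝟙 H ^ n : H ⟶ H).left) H.hom s).app V t = 0) → t = 0)
    (Y : Scheme.{u}) (y : Y ⟶ H.left) [IsClosedImmersion y] :
    (∃ (T : Scheme.{u}) (t : T ⟶ S), IsClosedImmersion t ∧
      ∀ (S' : Scheme.{u}) (g : S' ⟶ S), (∃ g' : S' ⟶ T, g' ≫ t = g) ↔
        ∃ l : pullback H.hom g ⟶ Y, l ≫ y = pullback.fst H.hom g) ∧
    (AlgebraicGeometry.IsNoetherian S → ∃ n ∈ E, ∀ (S' : Scheme.{u}) (g : S' ⟶ S),
      (∃ l : pullback H.hom g ⟶ Y, l ≫ y = pullback.fst H.hom g) ↔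
        ∃ l : pullback ((pullback.snd η[H].left (𝟙 H ^ n : H ⟶ H).left) ≫ H.hom) g ⟶ Y,
          l ≫ y = pullback.fst ((pullback.snd η[H].left (𝟙 H ^ n : H ⟶ H).left) ≫ H.hom) g ≫ (pullback.snd η[H].left (𝟙 H ^ n : H ⟶ H).left)) := by
  classical
  haveI hfin : ∀ i : ULift.{u} ↥E, IsFinite
      ((fun i : ULift.{u} ↥E => pullback.snd η[H].left (𝟙 H ^ (i.down.1) : H ⟶ H).left) i ≫ H.hom) :=
    fun i => (ha i.down.1 i.down.2).1
  haveI hfl : ∀ i : ULift.{u} ↥E, Flat
      ((fun i : ULift.{u} ↥E => pullback.snd η[H].left (𝟙 H ^ (i.down.1) : H ⟶ H).left) i ≫ H.hom) :=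
    fun i => (ha i.down.1 i.down.2).2
  have hfib : ∀ s : S, Groth.Agent.H25.SchDom.IsSchDomPB H.hom (S.fromSpecResidueField s)
      (fun i : ULift.{u} ↥E => pullback.snd η[H].left (𝟙 H ^ (i.down.1) : H ⟶ H).left) := by
    intro s V t ht
    apply hb s V t
    intro n hn
    have := ht ⟨⟨n, hn⟩⟩
    rw [Groth.Agent.H25.SchDom.fiberMap_eq_pullback_map]
    exact this
  obtain ⟨K, hK, hsup⟩ := Groth.Agent.H25.WeilDense.exists_ideal H.hom
    (fun i : ULift.{u} ↥E => pullback.snd η[H].left (𝟙 H ^ (i.down.1) : H ⟶ H).left) y hfib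
  refine ⟨⟨(⨆ i, K i).subscheme, (⨆ i, K i).subschemeι, inferInstance, fun S' g => ?_⟩,
    fun hN => ?_⟩
  · rw [Groth.Agent.H25.WeilDense.factors_iff_ker_le, Scheme.IdealSheafData.ker_subschemeι, hsup]
  · haveI := hN
    haveI : Nonempty (ULift.{u} ↥E) := ⟨⟨⟨hE.some, hE.some_mem⟩⟩⟩
    obtain ⟨i₀, hi₀⟩ := Groth.Agent.H25.WeilDense.exists_greatest_of_directed K (fun i j => by
      refine ⟨⟨⟨i.down.1 * j.down.1, hEmul _ i.down.2 _ j.down.2⟩⟩, ?_, ?_⟩
      · obtain ⟨φ, hφ⟩ := Groth.Agent.H25.WeilDense.exists_torsion_hom H i.down.1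
          (i.down.1 * j.down.1) (Dvd.intro _ rfl)
        exact Groth.Agent.H25.WeilDense.ker_le_of_hom H.hom _ y K hK
          (i := i) (k := ⟨⟨i.down.1 * j.down.1, hEmul _ i.down.2 _ j.down.2⟩⟩) φ hφ
      · obtain ⟨φ, hφ⟩ := Groth.Agent.H25.WeilDense.exists_torsion_hom H j.down.1
          (i.down.1 * j.down.1) (Dvd.intro_left _ rfl)
        exact Groth.Agent.H25.WeilDense.ker_le_of_hom H.hom _ y K hK
          (i := j) (k := ⟨⟨i.down.1 * j.down.1, hEmul _ i.down.2 _ j.down.2⟩⟩) φ hφ)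
    refine ⟨i₀.down.1, i₀.down.2, fun S' g => ?_⟩
    have h1 : ⨆ i, K i = K i₀ := le_antisymm (iSup_le hi₀) (le_iSup K i₀)
    rw [← hsup, h1]
    exact hK i₀ g

end Groth.Agent.S6065
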