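import Groth.Statements.S6082
import Groth.Agent.H3.CofreeCover
import Groth.Agent.H3.DualProjDim2
import Groth.Agent.H3.BidualComod

set_option autoImplicit false
universe u
open TensorProduct
open SGA3

namespace Groth.Agent.S6082

/-- Let R be a Noetherian regular ring of Krull dimension at most 2, C a (coassociative, counital)
R-coalgebra which is projective as an R-module, and F a right C-comodule which is finitely generated
as an R-module. Then F is a quotient of a C-comodule which is finitely generated and projective as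
an R-module: there are such a comodule V and a surjective R-linear map V → F compatible with the
coactions. -/
theorem result (R : Type u) [CommRing R] [IsRegularRing R]
    (hdim : ringKrullDim R ≤ 2) (C : Type u) [AddCommGroup C] [Module R C] [Coalgebra R C] [Module.Projective R C]
    (F : Type u) [AddCommGroup F] [Module R F] [HopfRep.Comod R C F] [Module.Finite R F] :
    ∃ (V : Type u) (_ : AddCommGroup V) (_ : Module R V) (_ : HopfRep.Comod R C V) (φ : V →ₗ[R] F),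
      Module.Finite R V ∧ Module.Projective R V ∧ Function.Surjective φ ∧ HopfRep.Comod.coact (k := R) (A := C) ∘ₗ φ = φ.rTensor C ∘ₗ HopfRep.Comod.coact (k := R) (A := C) (V := V) := by
  classical
  have hN : IsNoetherianRing R := inferInstance
  -- round 1: a torsionless cover of `F`
  obtain ⟨E₁, _, _, cE₁, m₁, lam₁, π₁, hfin₁, htl₁, hsurj₁, hhom₁⟩ :=
    Groth.Agent.H3.CofreeCover.exists_cover R C F
  -- round 2: a cover of the cover
  obtain ⟨E₂, _, _, cE₂, m₂, lam₂, π₂, hfin₂, htl₂, hsurj₂, hhom₂⟩ :=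
    Groth.Agent.H3.CofreeCover.exists_cover R C E₁
  have hfp : Module.FinitePresentation R E₂ := Module.finitePresentation_of_finite R E₂
  have hDfin : Module.Finite R (Module.Dual R E₂) := inferInstance
  have hDproj : Module.Projective R (Module.Dual R E₂) :=
    Groth.Agent.H3.DualProjDim2.projective_dual_of_regular_dim_le_two R hdim E₂
  obtain ⟨n, ⟨fr⟩⟩ := Groth.Agent.H3.DualFrame.exists_frame R E₂
  letI cV : HopfRep.Comod R C (Module.Dual R (Module.Dual R E₂)) :=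
    Groth.Agent.H3.BidualComod.ddComod (C := C) fr
  have hVfin : Module.Finite R (Module.Dual R (Module.Dual R E₂)) := inferInstance
  have hVproj : Module.Projective R (Module.Dual R (Module.Dual R E₂)) :=
    Groth.Agent.H3.DualProjDim2.projective_dual_of_regular_dim_le_two R hdim (Module.Dual R E₂)
  let Ψ : Module.Dual R (Module.Dual R E₂) →ₗ[R] E₁ :=
    π₂ ∘ₗ Groth.Agent.H3.BidualComod.extend lam₂
  have hΨθ : Ψ ∘ₗ Module.Dual.eval R E₂ = π₂ ∘ₗ lam₂ := by
    ext e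
    simp only [LinearMap.comp_apply, Ψ]
    rw [Groth.Agent.H3.BidualComod.extend_eval]
  have hθ : cV.coact ∘ₗ Module.Dual.eval R E₂ =
      (Module.Dual.eval R E₂).rTensor C ∘ₗ cE₂.coact :=
    Groth.Agent.H3.BidualComod.isComodHom_eval (C := C) fr
  have hΨhom : cE₁.coact ∘ₗ Ψ = Ψ.rTensor C ∘ₗ cV.coact := by
    have h0 : (cE₁.coact ∘ₗ Ψ - Ψ.rTensor C ∘ₗ cV.coact) ∘ₗ Module.Dual.eval R E₂ = 0 := by
      have e1 : (cE₁.coact ∘ₗ Ψ) ∘ₗ Module.Dual.eval R E₂ = cE₁.coact ∘ₗ (π₂ ∘ₗ lam₂) := by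
        rw [LinearMap.comp_assoc, hΨθ]
      have e2 : (Ψ.rTensor C ∘ₗ cV.coact) ∘ₗ Module.Dual.eval R E₂ =
          (π₂ ∘ₗ lam₂).rTensor C ∘ₗ cE₂.coact := by
        rw [LinearMap.comp_assoc, hθ, ← LinearMap.comp_assoc, ← LinearMap.rTensor_comp, hΨθ]
      rw [LinearMap.sub_comp, e1, e2, sub_eq_zero]
      exact hhom₂
    have h1 := Groth.Agent.H3.BidualComod.eq_zero_of_comp_eval_eq_zero fr htl₁ _ h0
    exact sub_eq_zero.mp h1
  have hΨsurj : Function.Surjective Ψ := by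
    intro x
    obtain ⟨e, he⟩ := hsurj₂ x
    refine ⟨Module.Dual.eval R E₂ e, ?_⟩
    rw [← he, ← hΨθ]
    rfl
  refine ⟨Module.Dual R (Module.Dual R E₂), inferInstance, inferInstance, cV,
    (π₁ ∘ₗ lam₁) ∘ₗ Ψ, hVfin, hVproj, ?_, ?_⟩
  · exact hsurj₁.comp hΨsurj
  · calc (HopfRep.Comod.coact (k := R) (A := C) (V := F)) ∘ₗ ((π₁ ∘ₗ lam₁) ∘ₗ Ψ)
        = ((HopfRep.Comod.coact (k := R) (A := C) (V := F)) ∘ₗ (π₁ ∘ₗ lam₁)) ∘ₗ Ψ :=
          (LinearMap.comp_assoc _ _ _).symm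
      _ = ((π₁ ∘ₗ lam₁).rTensor C ∘ₗ cE₁.coact) ∘ₗ Ψ := by rw [hhom₁]
      _ = (π₁ ∘ₗ lam₁).rTensor C ∘ₗ (cE₁.coact ∘ₗ Ψ) := LinearMap.comp_assoc _ _ _
      _ = (π₁ ∘ₗ lam₁).rTensor C ∘ₗ (Ψ.rTensor C ∘ₗ cV.coact) := by rw [hΨhom]
      _ = ((π₁ ∘ₗ lam₁).rTensor C ∘ₗ Ψ.rTensor C) ∘ₗ cV.coact :=
          (LinearMap.comp_assoc _ _ _).symm
      _ = ((π₁ ∘ₗ lam₁) ∘ₗ Ψ).rTensor C ∘ₗ cV.coact := by rw [← LinearMap.rTensor_comp]

end Groth.Agent.S6082
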