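import Groth.Statements.S6083
import Groth.Agent.H17.QF.KeyClaim
import Groth.Agent.H17.QF.OpenAtCrit
import Groth.Agent.H17.Val.ValSpec
import Groth.Agent.H17.FibreSurj

set_option autoImplicit false
universe u
open CategoryTheory CategoryTheory.Limits MonoidalCategory CartesianMonoidalCategory MonObj GrpObj AlgebraicGeometry
open SGA3

namespace Groth.Agent.S6083

/-- Let f : X → S be a morphism locally of finite presentation, s a point of S, x a point of the fibre
X_s = f⁻¹(s), n the local dimension of X_s at x, q : 𝔸^n_S → S the affine n-space over S and u : X →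
𝔸^n_S a locally quasi-finite morphism with u q = f. Suppose that f is universally open at the
generic point z of an irreducible component Z of X_s which contains x and has dimension n. Then u is
universally open at x. -/
theorem result (X S : Scheme.{u}) (f : X ⟶ S) [LocallyOfFinitePresentation f]
    (s : S) (x : X) (hxs : f.base x = s) (n : ℕ)
    (u : X ⟶ 𝔸(ULift.{u} (Fin n); S)) [LocallyQuasiFinite u] (hu : u ≫ (𝔸(ULift.{u} (Fin n); S) ↘ S) = f)
    (Z : Set ↥(f.base ⁻¹' {s})) (hZ : Z ∈ irreducibleComponents ↥(f.base ⁻¹' {s})) (hxZ : x ∈ (Subtype.val '' Z))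
    (z : X) (hz : z ∈ Subtype.val '' Z ∧ Subtype.val '' Z ⊆ closure {z}) (hopen : EGA43.IsUnivOpenAt f z)
    (hdimZ : topologicalKrullDim ↥Z = n) (hdimx : FlatMor.localDim ↥(f.base ⁻¹' {s}) ⟨x, hxs⟩ = n) :
    EGA43.IsUnivOpenAt u x := by
  classical
  -- basic facts on z
  have hzx : z ⤳ x := specializes_iff_mem_closure.mpr (hz.2 hxZ)
  have hzs : f.base z = s := by
    obtain ⟨⟨z₀, hz₀⟩, -, rfl⟩ := hz.1
    exact hz₀
  have hfz : f.base z = f.base x := hzs.trans hxs.symm
  have hZc : IsClosed Z := isClosed_of_mem_irreducibleComponents Z hZ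
  have hzmax : ∀ z' : X, f.base z' = f.base z → z' ⤳ z → z' = z := by
    intro z' hz'1 hz'2
    have hz's : f.base z' = s := hz'1.trans hzs
    obtain ⟨⟨z₀, hz₀⟩, hz₀Z, hz₀eq⟩ := hz.1
    have hz₀eq' : z₀ = z := hz₀eq
    subst hz₀eq'
    let ζ' : ↥(f.base ⁻¹' {s}) := ⟨z', hz's⟩
    let ζ : ↥(f.base ⁻¹' {s}) := ⟨z₀, hz₀⟩
    have h1 : ζ' ⤳ ζ := Topology.IsInducing.subtypeVal.specializes_iff.mp hz'2
    have hZsub : Z ⊆ closure {ζ'} := by
      intro t ht
      have h2 : t.1 ∈ closure ({z₀} : Set X) := hz.2 ⟨t, ht, rfl⟩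
      have h3 : z₀ ⤳ t.1 := specializes_iff_mem_closure.mpr h2
      have h4 : ζ ⤳ t := Topology.IsInducing.subtypeVal.specializes_iff.mp h3
      exact (h1.trans h4).mem_closure
    have h5 : closure {ζ'} ⊆ Z := hZ.2 isIrreducible_singleton.closure hZsub
    have h6 : ζ' ∈ Z := h5 (subset_closure rfl)
    have h7 : z' ∈ closure ({z₀} : Set X) := hz.2 ⟨ζ', h6, rfl⟩
    exact (hz'2.antisymm (specializes_iff_mem_closure.mpr h7)).eq
  have hdim : (n : WithBot ℕ∞) ≤ FlatMor.fibreDimAt f z := by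
    rw [← Groth.Agent.H17.QF.dim_irreducibleComponent_preimage_eq_fibreDimAt f s Z hZ z hz, hdimZ]
  have : LocallyOfFinitePresentation (u ≫ (𝔸(ULift.{u} (Fin n); S) ↘ S)) := by
    rw [hu]; infer_instance
  have : LocallyOfFinitePresentation u :=
    Groth.Agent.H17.locallyOfFinitePresentation_of_comp u (𝔸(ULift.{u} (Fin n); S) ↘ S)
  intro Y' g x' hx'
  apply Groth.Agent.H17.QF.isOpenAt_of_forall_generization_lift (pullback.snd u g) x'
  intro t' ht'
  obtain ⟨V, hV1, hV2, hV3, φ, hφc, hφη⟩ :=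
    Groth.Agent.H17.Val.exists_valuationRing_hom t' ((pullback.snd u g).base x') ht'
  have s1 : IsPullback (pullback.fst (pullback.snd u g) φ) (pullback.snd (pullback.snd u g) φ)
      (pullback.snd u g) φ := IsPullback.of_hasPullback _ _
  have s2 : IsPullback (pullback.fst u g) (pullback.snd u g) u g := IsPullback.of_hasPullback _ _
  have s3 := s1.paste_horiz s2
  obtain ⟨xP, hxP1, hxP2⟩ := Groth.Agent.H17.Val.exists_of_isPullback s1 x'
    (IsLocalRing.closedPoint V) hφc.symm
  obtain ⟨xP', hxP'1, hxP'2⟩ := Groth.Agent.H17.QF.exists_generization_over_generic f n u hu x z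
    hzx hfz hzmax hopen hdim (φ ≫ g) _ _ s3 xP (by
      rw [Scheme.Hom.comp_apply, hxP1]; exact hx')
  refine ⟨(pullback.fst (pullback.snd u g) φ).base xP', ?_, ?_⟩
  · rw [← hxP1]
    exact hxP'1.map (pullback.fst (pullback.snd u g) φ).continuous
  · have h1 := congrArg (fun k => k.base xP') s1.w
    simp only [Scheme.Hom.comp_apply] at h1
    rw [h1, hxP'2, ← hφη, genericPoint_eq_bot_of_affine]

end Groth.Agent.S6083
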