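import Groth.Statements.S6086
import Groth.Agent.H24.GrpLim.Transport
open Groth.Agent.H24.GrpLim

set_option autoImplicit false
universe u
open CategoryTheory CategoryTheory.Limits MonoidalCategory CartesianMonoidalCategory MonObj GrpObj AlgebraicGeometry
open SGA3

namespace Groth.Agent.S6086

/-- Let S be the limit of a cofiltered system (S_i) of quasi-compact quasi-separated schemes with affine
transition morphisms, j an index and G_j, H_j two S_j-group schemes of finite presentation over S_j;
for i over j write G_i, H_i for the base changes to S_i and G, H for the base changes to S. Then the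
canonical map colim_i Hom_{S_i-gr}(G_i, H_i) → Hom_{S-gr}(G, H) is bijective: (surjectivity) every
homomorphism u : G → H of S-group schemes is, up to the canonical identifications (G_i) ×_{S_i} S ≅
G and (H_i) ×_{S_i} S ≅ H, the base change of a homomorphism u_i : G_i → H_i for some index i over
j; (injectivity) two homomorphisms G_i → H_i whose base changes to S coincide already coincide after
base change to S_{i'} for some index i' over i. (The published setting takes all S_i affine over a
fixed quasi-compact quasi-separated S_0; this row allows any cofiltered system of quasi-compact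
quasi-separated schemes with affine transition morphisms.) -/
theorem result {I : Type u} [SmallCategory I] [IsCofiltered I]
    (D : I ⥤ Scheme.{u}) (c : Limits.Cone D) (hc : Limits.IsLimit c)
    [∀ (i i' : I) (f : i ⟶ i'), IsAffineHom (D.map f)] [∀ i, CompactSpace (D.obj i)] [∀ i, QuasiSeparatedSpace (D.obj i)]
    (j : I) (Gj Hj : Over (D.obj j)) [GrpObj Gj] [GrpObj Hj]
    [LocallyOfFinitePresentation Gj.hom] [QuasiCompact Gj.hom] [QuasiSeparated Gj.hom]
    [LocallyOfFinitePresentation Hj.hom] [QuasiCompact Hj.hom] [QuasiSeparated Hj.hom] :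
    (∀ (u : Red.bc (c.π.app j) Gj ⟶ Red.bc (c.π.app j) Hj), IsMonHom u →
      ∃ (i : I) (f : i ⟶ j) (ui : Red.bc (D.map f) Gj ⟶ Red.bc (D.map f) Hj), IsMonHom ui ∧
        (Over.pullback (c.π.app i)).map ui = (((Over.pullbackComp (c.π.app i) (D.map f)).app Gj).symm ≪≫ eqToIso (congrArg (fun g => Red.bc g Gj) (c.w f))).hom ≫ u ≫ (((Over.pullbackComp (c.π.app i) (D.map f)).app Hj).symm ≪≫ eqToIso (congrArg (fun g => Red.bc g Hj) (c.w f))).inv) ∧
    (∀ (i : I) (f : i ⟶ j) (u₁ u₂ : Red.bc (D.map f) Gj ⟶ Red.bc (D.map f) Hj), IsMonHom u₁ → IsMonHom u₂ →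
      (Over.pullback (c.π.app i)).map u₁ = (Over.pullback (c.π.app i)).map u₂ →
      ∃ (i' : I) (g : i' ⟶ i), (Over.pullback (D.map g)).map u₁ = (Over.pullback (D.map g)).map u₂) := by
  haveI : CompactSpace ↥Gj.left := QuasiCompact.compactSpace_of_compactSpace Gj.hom
  haveI : QuasiSeparatedSpace ↥Gj.left := quasiSeparatedSpace_of_quasiSeparated Gj.hom
  haveI : CompactSpace ↥Hj.left := QuasiCompact.compactSpace_of_compactSpace Hj.hom
  haveI : QuasiSeparatedSpace ↥Hj.left := quasiSeparatedSpace_of_quasiSeparated Hj.hom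
  refine ⟨?_, ?_⟩
  · intro u hu
    obtain ⟨i₁, f₁, u₁, hu₁⟩ := exists_map_eq_conj D c hc Gj Hj u
    -- the base change of `u₁` to the limit is a homomorphism
    haveI hmon : IsMonHom ((Over.pullback (c.π.app i₁)).map u₁) := by
      rw [hu₁]; infer_instance
    obtain ⟨h1, h2⟩ := map_eq_of_isMonHom_map (Over.pullback (c.π.app i₁)) u₁
    -- instances at stage `i₁`
    let G₁ := Red.bc (D.map f₁) Gj
    let H₁ := Red.bc (D.map f₁) Hj
    haveI : LocallyOfFinitePresentation G₁.hom :=
      MorphismProperty.pullback_snd (P := @LocallyOfFinitePresentation) _ _ inferInstance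
    haveI : QuasiCompact G₁.hom :=
      MorphismProperty.pullback_snd (P := @QuasiCompact) _ _ inferInstance
    haveI : QuasiSeparated G₁.hom :=
      MorphismProperty.pullback_snd (P := @QuasiSeparated) _ _ inferInstance
    haveI : LocallyOfFinitePresentation H₁.hom :=
      MorphismProperty.pullback_snd (P := @LocallyOfFinitePresentation) _ _ inferInstance
    haveI : QuasiCompact H₁.hom :=
      MorphismProperty.pullback_snd (P := @QuasiCompact) _ _ inferInstance
    haveI : QuasiSeparated H₁.hom :=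
      MorphismProperty.pullback_snd (P := @QuasiSeparated) _ _ inferInstance
    haveI : CompactSpace ↥H₁.left := QuasiCompact.compactSpace_of_compactSpace H₁.hom
    haveI : QuasiSeparatedSpace ↥H₁.left := quasiSeparatedSpace_of_quasiSeparated H₁.hom
    haveI : LocallyOfFinitePresentation (G₁ ⊗ G₁).hom := by
      rw [Over.tensorObj_hom]; infer_instance
    haveI : QuasiCompact (G₁ ⊗ G₁).hom := by
      rw [Over.tensorObj_hom]; infer_instance
    haveI : QuasiSeparated (G₁ ⊗ G₁).hom := by
      rw [Over.tensorObj_hom]; infer_instance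
    haveI : CompactSpace ↥(G₁ ⊗ G₁).left := QuasiCompact.compactSpace_of_compactSpace (G₁ ⊗ G₁).hom
    haveI : QuasiSeparatedSpace ↥(G₁ ⊗ G₁).left :=
      quasiSeparatedSpace_of_quasiSeparated (G₁ ⊗ G₁).hom
    haveI : CompactSpace ↥(𝟙_ (Over (D.obj i₁))).left :=
      inferInstanceAs (CompactSpace ↥(D.obj i₁))
    haveI : QuasiSeparatedSpace ↥(𝟙_ (Over (D.obj i₁))).left :=
      inferInstanceAs (QuasiSeparatedSpace ↥(D.obj i₁))
    haveI : LocallyOfFinitePresentation (𝟙_ (Over (D.obj i₁))).hom := by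
      rw [Over.tensorUnit_hom]
      have : IsOpenImmersion (𝟙 (D.obj i₁)) := inferInstance
      infer_instance
    obtain ⟨i₂, g₂, hg₂⟩ := exists_map_eq D c hc (𝟙_ (Over (D.obj i₁))) H₁ (η[G₁] ≫ u₁) η[H₁] h1
    obtain ⟨i₃, g₃, hg₃⟩ := exists_map_eq D c hc (G₁ ⊗ G₁) H₁ (μ[G₁] ≫ u₁) ((u₁ ⊗ₘ u₁) ≫ μ[H₁]) h2
    let k₀ := IsCofiltered.min i₂ i₃
    let m₂ : k₀ ⟶ i₂ := IsCofiltered.minToLeft i₂ i₃
    let m₃ : k₀ ⟶ i₃ := IsCofiltered.minToRight i₂ i₃
    let k := IsCofiltered.eq (m₂ ≫ g₂) (m₃ ≫ g₃)
    let e : k ⟶ k₀ := IsCofiltered.eqHom (m₂ ≫ g₂) (m₃ ≫ g₃)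
    have he : e ≫ m₂ ≫ g₂ = e ≫ m₃ ≫ g₃ := IsCofiltered.eq_condition _ _
    let g : k ⟶ i₁ := (e ≫ m₂) ≫ g₂
    have hg : g = (e ≫ m₃) ≫ g₃ := by simp only [g, Category.assoc, he]
    have hk1 := hg₂ k (e ≫ m₂)
    have hk2 := hg₃ k (e ≫ m₃)
    rw [← hg] at hk2
    haveI hmon' : IsMonHom ((Over.pullback (D.map g)).map u₁) :=
      isMonHom_map_of_map_eq (Over.pullback (D.map g)) u₁ hk1 hk2
    refine ⟨k, g ≫ f₁, transport D g f₁ u₁, ?_, map_transport D c g f₁ u u₁ hu₁⟩
    unfold transport
    infer_instance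
  · intro i f u₁ u₂ _ _ h
    let G₁ := Red.bc (D.map f) Gj
    let H₁ := Red.bc (D.map f) Hj
    haveI : LocallyOfFinitePresentation G₁.hom :=
      MorphismProperty.pullback_snd (P := @LocallyOfFinitePresentation) _ _ inferInstance
    haveI : QuasiCompact G₁.hom :=
      MorphismProperty.pullback_snd (P := @QuasiCompact) _ _ inferInstance
    haveI : QuasiSeparated G₁.hom :=
      MorphismProperty.pullback_snd (P := @QuasiSeparated) _ _ inferInstance
    haveI : LocallyOfFinitePresentation H₁.hom :=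
      MorphismProperty.pullback_snd (P := @LocallyOfFinitePresentation) _ _ inferInstance
    haveI : QuasiCompact H₁.hom :=
      MorphismProperty.pullback_snd (P := @QuasiCompact) _ _ inferInstance
    haveI : QuasiSeparated H₁.hom :=
      MorphismProperty.pullback_snd (P := @QuasiSeparated) _ _ inferInstance
    haveI : CompactSpace ↥G₁.left := QuasiCompact.compactSpace_of_compactSpace G₁.hom
    haveI : QuasiSeparatedSpace ↥G₁.left := quasiSeparatedSpace_of_quasiSeparated G₁.hom
    haveI : CompactSpace ↥H₁.left := QuasiCompact.compactSpace_of_compactSpace H₁.hom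
    haveI : QuasiSeparatedSpace ↥H₁.left := quasiSeparatedSpace_of_quasiSeparated H₁.hom
    obtain ⟨i', g, hg⟩ := exists_map_eq D c hc G₁ H₁ u₁ u₂ h
    refine ⟨i', g, ?_⟩
    have := hg i' (𝟙 i')
    rwa [Category.id_comp] at this

end Groth.Agent.S6086
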