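import Groth.Statements.S6120
import Groth.Agent.H31.LimitEqualizer

set_option autoImplicit false
open CategoryTheory CategoryTheory.Limits Opposite
universe w v₁ v₂ u₁ u₂
open SGA4

namespace Groth.Agent.S6120

/-- Let `I` be a category with a family of objects `i α` (`α : A`) such that every binary product `i α ⨯
i β` exists in `I` and every object of `I` admits a morphism to some `i α`. Let `F : Iᵒᵖ ⥤ C` be a
functor, and assume that `C` has equalizers and that the products `∏ F (i α)` and `∏ F (i α ⨯ i β)`
exist in `C`. Then the limit of `F` exists, the canonical map `lim F ⟶ ∏ F (i α)` is a monomorphism,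
and a map `t : T ⟶ ∏ F (i α)` factors through `lim F` exactly when its composites with the two maps
`∏ F (i α) ⇉ ∏ F (i α ⨯ i β)` induced by the two projections agree: `lim F` is the equalizer of that
pair. (The published statement assumes that `C` has all limits of the size of `A`; only equalizers
and the two products named are assumed here, which is what the equalizer construction uses.) -/
theorem result
    {I : Type u₁} [Category.{v₁} I] {C : Type u₂} [Category.{v₂} C] {A : Type w} (i : A → I)
    [∀ α β, HasBinaryProduct (i α) (i β)]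
    (hcov : ∀ j : I, ∃ α, Nonempty (j ⟶ i α))
    (F : Iᵒᵖ ⥤ C) [HasEqualizers C]
    [HasProduct (fun α => F.obj (op (i α)))]
    [HasProduct (fun p : A × A => F.obj (op (i p.1 ⨯ i p.2)))] :
    HasLimit F ∧ ∀ [HasLimit F],
      Mono (Pi.lift (fun α => limit.π F (op (i α)))) ∧
      ∀ (T : C) (t : T ⟶ ∏ᶜ (fun α => F.obj (op (i α)))),
        (∃ s : T ⟶ limit F, s ≫ Pi.lift (fun α => limit.π F (op (i α))) = t) ↔
        t ≫ Pi.lift (fun p : A × A =>
            Pi.π (fun α => F.obj (op (i α))) p.1 ≫ F.map (prod.fst : i p.1 ⨯ i p.2 ⟶ i p.1).op) =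
        t ≫ Pi.lift (fun p : A × A =>
            Pi.π (fun α => F.obj (op (i α))) p.2 ≫ F.map (prod.snd : i p.1 ⨯ i p.2 ⟶ i p.2).op) := by
  have hlim : HasLimit F := ⟨⟨⟨_, Groth.Agent.H31.LimitEqualizer.isLimitConeOf hcov⟩⟩⟩
  refine ⟨hlim, ?_⟩
  intro inst
  constructor
  · refine ⟨fun {T} x y hxy => ?_⟩
    apply limit.hom_ext
    intro j
    obtain ⟨α, ⟨f⟩⟩ := hcov j.unop
    have hj : limit.π F j = limit.π F (op (i α)) ≫ F.map f.op := (limit.w F f.op).symm
    have hx := congrArg (· ≫ Pi.π (fun α => F.obj (op (i α))) α) hxy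
    simp only [Category.assoc, Pi.lift_π] at hx
    rw [hj, reassoc_of% hx]
  · intro T t
    constructor
    · rintro ⟨s, rfl⟩
      rw [Category.assoc, Category.assoc]
      congr 1
      exact Groth.Agent.H31.LimitEqualizer.cone_lift_eq (limit.cone F)
    · intro ht
      refine ⟨limit.lift F (Groth.Agent.H31.LimitEqualizer.coneOf hcov t ht), ?_⟩
      apply Pi.hom_ext
      intro α
      rw [Category.assoc, Pi.lift_π, limit.lift_π,
        Groth.Agent.H31.LimitEqualizer.coneOf_π_app_i]

end Groth.Agent.S6120
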