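import Groth.Statements.S6121
import Groth.Agent.H31.Fibered

set_option autoImplicit false
open CategoryTheory
universe v₁ v₂ u₁ u₂
open SGA4

namespace Groth.Agent.S6121

/-- For a fibered functor `p : E ⥤ B` (every morphism of `B` has a cartesian lift with prescribed
codomain, and cartesian morphisms compose), `p` reflects isomorphisms if and only if every fibre
category of `p` (objects over `b`, morphisms lying over the identity of `b`) is a groupoid. -/
theorem result
    {B : Type u₁} [Category.{v₁} B] {E : Type u₂} [Category.{v₂} E] (p : E ⥤ B) [p.IsFibered] :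
    p.ReflectsIsomorphisms ↔ ∀ b : B, IsGroupoid (p.Fiber b) := by
  constructor
  · intro hp b
    refine ⟨fun {x y} φ => ?_⟩
    have h1 := φ.2
    have hiso : IsIso (p.map (Functor.Fiber.fiberInclusion.map φ)) := by
      rw [IsHomLift.fac' p (𝟙 b) (Functor.Fiber.fiberInclusion.map φ)]
      infer_instance
    have hφ : IsIso (Functor.Fiber.fiberInclusion.map φ) :=
      isIso_of_reflects_iso (Functor.Fiber.fiberInclusion.map φ) p
    have hlift : p.IsHomLift (𝟙 b) (asIso (Functor.Fiber.fiberInclusion.map φ)).hom := h1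
    have hinv : p.IsHomLift (𝟙 b) (asIso (Functor.Fiber.fiberInclusion.map φ)).inv :=
      IsHomLift.lift_id_inv p b (asIso (Functor.Fiber.fiberInclusion.map φ))
    refine ⟨⟨⟨(asIso (Functor.Fiber.fiberInclusion.map φ)).inv, hinv⟩, ?_, ?_⟩⟩
    · apply Functor.Fiber.hom_ext
      exact (asIso (Functor.Fiber.fiberInclusion.map φ)).hom_inv_id
    · apply Functor.Fiber.hom_ext
      exact (asIso (Functor.Fiber.fiberInclusion.map φ)).inv_hom_id
  · intro H
    refine ⟨fun {a c} φ hφ => ?_⟩
    obtain ⟨a', χ, hχ, hfac⟩ := Groth.Agent.H31.exists_fiber_factorization p φ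
    obtain ⟨α, hα, hαφ⟩ := hfac φ rfl
    have ha' : p.obj a' = p.obj a := IsHomLift.domain_eq p (p.map φ) χ
    let x : p.Fiber (p.obj a) := ⟨a, rfl⟩
    let y : p.Fiber (p.obj a) := ⟨a', ha'⟩
    let α' : x ⟶ y := ⟨α, hα⟩
    have hα' : IsIso α' := (H (p.obj a)).all_isIso α'
    have hαiso : IsIso α := by
      have : IsIso (Functor.Fiber.fiberInclusion.map α') := inferInstance
      exact this
    have hχiso : IsIso χ := Functor.IsStronglyCartesian.isIso_of_base_isIso p (p.map φ) χ
    rw [← hαφ]
    infer_instance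

end Groth.Agent.S6121
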