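import Groth.Statements.S6122
import Groth.Agent.H31.Fibered

set_option autoImplicit false
open CategoryTheory
universe v₁ v₂ u₁ u₂
open SGA4

namespace Groth.Agent.S6122

/-- For a fibered functor `p : E ⥤ B` (every morphism of `B` has a cartesian lift with prescribed
codomain, and cartesian morphisms compose), `p` is faithful if and only if every fibre category of
`p` (objects over `b`, morphisms lying over the identity of `b`) has at most one morphism between
any two objects. -/
theorem result
    {B : Type u₁} [Category.{v₁} B] {E : Type u₂} [Category.{v₂} E] (p : E ⥤ B) [p.IsFibered] :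
    p.Faithful ↔ ∀ (b : B) (x y : p.Fiber b), Subsingleton (x ⟶ y) := by
  constructor
  · intro hp b x y
    refine ⟨fun φ ψ => ?_⟩
    apply Functor.Fiber.hom_ext
    apply hp.map_injective
    have h1 := φ.2
    have h2 := ψ.2
    rw [IsHomLift.fac' p (𝟙 b) (Functor.Fiber.fiberInclusion.map φ),
      IsHomLift.fac' p (𝟙 b) (Functor.Fiber.fiberInclusion.map ψ)]
  · intro H
    refine ⟨fun {a c} φ ψ hφψ => ?_⟩
    obtain ⟨a', χ, hχ, hfac⟩ := Groth.Agent.H31.exists_fiber_factorization p φ
    obtain ⟨α, hα, hαφ⟩ := hfac φ rfl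
    obtain ⟨β, hβ, hβψ⟩ := hfac ψ hφψ.symm
    have ha' : p.obj a' = p.obj a := IsHomLift.domain_eq p (p.map φ) χ
    let x : p.Fiber (p.obj a) := ⟨a, rfl⟩
    let y : p.Fiber (p.obj a) := ⟨a', ha'⟩
    let α' : x ⟶ y := ⟨α, hα⟩
    let β' : x ⟶ y := ⟨β, hβ⟩
    have : α' = β' := (H (p.obj a) x y).elim α' β'
    have hαβ : α = β := congrArg Subtype.val this
    rw [← hαφ, ← hβψ, hαβ]

end Groth.Agent.S6122
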