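import Groth.Statements.S6123
import Groth.Agent.H31.ReflectIso

set_option autoImplicit false
open CategoryTheory CategoryTheory.Limits Opposite
universe w v₁ v₂ u₁ u₂
open SGA4

namespace Groth.Agent.S6123

/-- For a single functor. Let `E` have pullbacks and let `φ : E ⥤ F` preserve them. If every
monomorphism `u` of `E` with `φ u` invertible is invertible, then `φ` reflects all isomorphisms. -/
theorem result
    {E : Type u₁} [Category.{v₁} E] {F : Type u₂} [Category.{v₂} F] (φ : E ⥤ F)
    [HasPullbacks E] [PreservesLimitsOfShape WalkingCospan φ]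
    (h : ∀ ⦃X Y : E⦄ (u : X ⟶ Y), Mono u → IsIso (φ.map u) → IsIso u) :
    φ.ReflectsIsomorphisms := by
  refine ⟨fun {X Y} f hf => ?_⟩
  have := Groth.Agent.H31.isIso_of_forall_isIso_map_of_mono (κ := PUnit.{1})
    (E' := fun _ => F) (fun _ => φ) (fun X Y u hu hk => h u hu (hk PUnit.unit)) f (fun _ => hf)
  exact this

end Groth.Agent.S6123
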