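import Groth.Statements.S6124
import Groth.Agent.H31.ReflectIso

set_option autoImplicit false
open CategoryTheory CategoryTheory.Limits Opposite
universe w v₁ v₂ u₁ u₂
open SGA4

namespace Groth.Agent.S6124

/-- Let `E` have pullbacks, let `P` be a detecting family of objects of `E` (a morphism `f` is
invertible as soon as every map out of an object of `P` factors uniquely through `f`), and let `φ i
: E ⥤ E' i` be functors preserving pullbacks. Then the `φ i` jointly reflect isomorphisms if and
only if, for every `X` with `P X` and every subobject `X'` of `X` other than `⊤`, some `φ i` takes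
the inclusion `X' ⟶ X` to a morphism that is not invertible. -/
theorem result
    {E : Type u₁} [Category.{v₁} E] [HasPullbacks E] (P : ObjectProperty E) (hP : P.IsDetecting)
    {κ : Type w} {E' : κ → Type u₂} [∀ k, Category.{v₂} (E' k)] (φ : ∀ k, E ⥤ E' k)
    [∀ k, PreservesLimitsOfShape WalkingCospan (φ k)] :
    (∀ ⦃X Y : E⦄ (f : X ⟶ Y), (∀ k, IsIso ((φ k).map f)) → IsIso f) ↔
      ∀ (X : E), P X → ∀ (X' : Subobject X), X' ≠ ⊤ → ∃ k, ¬ IsIso ((φ k).map X'.arrow) := by
  constructor
  · intro H X _ X' hX'
    by_contra hcon
    push Not at hcon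
    exact hX' ((Subobject.isIso_arrow_iff_eq_top X').1 (H X'.arrow hcon))
  · intro H
    apply Groth.Agent.H31.isIso_of_forall_isIso_map_of_mono φ
    intro A B u hu huk
    apply hP
    intro G hG h
    have hpb : IsPullback (pullback.fst u h) (pullback.snd u h) u h := IsPullback.of_hasPullback u h
    have hk : ∀ k, IsIso ((φ k).map (pullback.snd u h)) := by
      intro k
      have := huk k
      exact (hpb.map (φ k)).isIso_snd_of_isIso
    have hk' : ∀ k, IsIso ((φ k).map (Subobject.mk (pullback.snd u h)).arrow) := by
      intro k
      have := hk k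
      rw [← Subobject.underlyingIso_hom_comp_eq_mk, Functor.map_comp]
      infer_instance
    have htop : Subobject.mk (pullback.snd u h) = ⊤ := by
      by_contra hne
      obtain ⟨k, hk''⟩ := H G hG _ hne
      exact hk'' (hk' k)
    have hiso : IsIso (pullback.snd u h) := (Subobject.isIso_iff_mk_eq_top _).2 htop
    refine ⟨inv (pullback.snd u h) ≫ pullback.fst u h, ?_, ?_⟩
    · show (inv (pullback.snd u h) ≫ pullback.fst u h) ≫ u = h
      rw [Category.assoc, pullback.condition, IsIso.inv_hom_id_assoc]
    · intro h' hh'
      rw [← cancel_mono u, hh', Category.assoc, pullback.condition, IsIso.inv_hom_id_assoc]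

end Groth.Agent.S6124
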