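import Groth.Statements.S6126
import Mathlib

set_option autoImplicit false
open CategoryTheory CategoryTheory.Limits
universe v₁ u₁
open SGA4

namespace Groth.Agent.S6126

/-- Let `E` be a category with `v₁`-small hom-sets admitting a separating family of objects `G t`
indexed by a `v₁`-small type, in which every object admits a monomorphism into an injective object.
Assume that each coproduct `G t ⨿ G t` exists and that every morphism out of `G t ⨿ G t` factors as
an effective epimorphism followed by a monomorphism. Then `E` admits a coseparating family of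
injective objects indexed by a `v₁`-small type. (The published statement moreover bounds the size of
this family in terms of the hom-sets `Hom (G t', G t ⨿ G t)`; only existence is stated here. The
published statement speaks of generating and cogenerating families; its proof uses and produces
joint faithfulness of maps out of, resp. into, the family, which is the sense taken here.) -/
theorem result
    {E : Type u₁} [Category.{v₁} E] {ι : Type v₁} (G : ι → E)
    (hG : (ObjectProperty.ofObj G).IsSeparating)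
    [EnoughInjectives E] [∀ t, HasBinaryCoproduct (G t) (G t)]
    (hfac : ∀ (t : ι) (X : E) (f : G t ⨿ G t ⟶ X),
      ∃ (Y : E) (e : G t ⨿ G t ⟶ Y) (m : Y ⟶ X), EffectiveEpi e ∧ Mono m ∧ e ≫ m = f) :
    ∃ (κ : Type v₁) (H : κ → E),
      (∀ k, Injective (H k)) ∧ (ObjectProperty.ofObj H).IsCoseparating := by
  classical
  -- kernel set of a map out of `G t ⨿ G t`
  let K : ∀ (t : ι) {Y : E} (_ : G t ⨿ G t ⟶ Y),
      Set (Σ t' : ι, (G t' ⟶ G t ⨿ G t) × (G t' ⟶ G t ⨿ G t)) :=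
    fun t {Y} e => {p | p.2.1 ≫ e = p.2.2 ≫ e}
  let Good : (Σ t : ι, Set (Σ t' : ι, (G t' ⟶ G t ⨿ G t) × (G t' ⟶ G t ⨿ G t))) → Prop :=
    fun x => ∃ (Y : E) (e : G x.1 ⨿ G x.1 ⟶ Y), EffectiveEpi e ∧ K x.1 e = x.2
  let Y₀ : {x // Good x} → E := fun x => x.2.choose
  let e₀ : ∀ x : {x // Good x}, G x.1.1 ⨿ G x.1.1 ⟶ Y₀ x := fun x => x.2.choose_spec.choose
  have he₀ : ∀ x : {x // Good x}, EffectiveEpi (e₀ x) ∧ K x.1.1 (e₀ x) = x.1.2 :=
    fun x => x.2.choose_spec.choose_spec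
  refine ⟨{x // Good x}, fun x => Injective.under (Y₀ x), fun k => inferInstance, ?_⟩
  intro X X' f g hfg
  by_contra hne
  have hex : ∃ t, ∃ h : G t ⟶ X, h ≫ f ≠ h ≫ g := by
    by_contra hcon
    push Not at hcon
    exact hne (hG f g (by rintro _ ⟨t⟩ h; exact hcon t h))
  obtain ⟨t, h, hh⟩ := hex
  obtain ⟨Y, e, m, heff, hm, hfac'⟩ := hfac t X' (coprod.desc (h ≫ f) (h ≫ g))
  let x : {x // Good x} := ⟨⟨t, K t e⟩, Y, e, heff, rfl⟩
  have heff₀ : EffectiveEpi (e₀ x) := (he₀ x).1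
  have hK : K t (e₀ x) = K t e := (he₀ x).2
  have hpairs : ∀ {Z : E} (g₁ g₂ : Z ⟶ G t ⨿ G t), g₁ ≫ e = g₂ ≫ e →
      g₁ ≫ e₀ x = g₂ ≫ e₀ x := by
    intro Z g₁ g₂ h12
    apply hG
    rintro _ ⟨t'⟩ k
    have hmem : (⟨t', (k ≫ g₁, k ≫ g₂)⟩ :
        Σ t' : ι, (G t' ⟶ G t ⨿ G t) × (G t' ⟶ G t ⨿ G t)) ∈ K t (e₀ x) := by
      rw [hK]
      show (k ≫ g₁) ≫ e = (k ≫ g₂) ≫ e
      rw [Category.assoc, Category.assoc, h12]
    have hmem' : (k ≫ g₁) ≫ e₀ x = (k ≫ g₂) ≫ e₀ x := hmem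
    simpa using hmem'
  have hpairs' : ∀ {Z : E} (g₁ g₂ : Z ⟶ G t ⨿ G t), g₁ ≫ e₀ x = g₂ ≫ e₀ x →
      g₁ ≫ e = g₂ ≫ e := by
    intro Z g₁ g₂ h12
    apply hG
    rintro _ ⟨t'⟩ k
    have hmem : (⟨t', (k ≫ g₁, k ≫ g₂)⟩ :
        Σ t' : ι, (G t' ⟶ G t ⨿ G t) × (G t' ⟶ G t ⨿ G t)) ∈ K t e := by
      rw [← hK]
      show (k ≫ g₁) ≫ e₀ x = (k ≫ g₂) ≫ e₀ x
      rw [Category.assoc, Category.assoc, h12]
    have hmem' : (k ≫ g₁) ≫ e = (k ≫ g₂) ≫ e := hmem
    simpa using hmem'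
  let d : Y ⟶ Y₀ x := EffectiveEpi.desc e (e₀ x) hpairs
  let d' : Y₀ x ⟶ Y := EffectiveEpi.desc (e₀ x) e hpairs'
  have hdd' : d ≫ d' = 𝟙 Y := by
    rw [← cancel_epi e]
    simp only [d, d', EffectiveEpi.fac_assoc, EffectiveEpi.fac, Category.comp_id]
  have hdmono : Mono d := by
    have : Mono (d ≫ d') := by rw [hdd']; infer_instance
    exact mono_of_mono d d'
  let j : Y ⟶ Injective.under (Y₀ x) := d ≫ Injective.ι (Y₀ x)
  have hjmono : Mono j := mono_comp _ _
  let φ : X' ⟶ Injective.under (Y₀ x) := Injective.factorThru j m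
  have hφ : m ≫ φ = j := Injective.comp_factorThru j m
  have hsep := hfg (Injective.under (Y₀ x))
    (ObjectProperty.ofObj_apply (fun x : {x // Good x} => Injective.under (Y₀ x)) x) φ
  apply hh
  have h1 : h ≫ f = coprod.inl ≫ e ≫ m := by rw [hfac']; exact (coprod.inl_desc _ _).symm
  have h2 : h ≫ g = coprod.inr ≫ e ≫ m := by rw [hfac']; exact (coprod.inr_desc _ _).symm
  have h3 : (coprod.inl : G t ⟶ G t ⨿ G t) ≫ e = coprod.inr ≫ e := by
    rw [← cancel_mono j, ← hφ]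
    calc (coprod.inl ≫ e) ≫ m ≫ φ = (h ≫ f) ≫ φ := by rw [h1]; simp
      _ = (h ≫ g) ≫ φ := by rw [Category.assoc, hsep, Category.assoc]
      _ = (coprod.inr ≫ e) ≫ m ≫ φ := by rw [h2]; simp
  rw [h1, h2, ← Category.assoc, h3, Category.assoc]

end Groth.Agent.S6126
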