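import Groth.Statements.S6128
import Mathlib

set_option autoImplicit false
open CategoryTheory
universe u
open SGA4

namespace Groth.Agent.S6128

/-- Let `u : C ⥤ C'` be a functor between small sites. If the right Kan extension along `u` of the
underlying presheaf of every sheaf of sets on `C` is a sheaf on `C'`, then `u` is cocontinuous: for
every object `Y` of `C` and every covering sieve `R` of `u Y`, the sieve of morphisms `g : Z ⟶ Y`
with `u g ∈ R` covers `Y`. -/
theorem result
    {C : Type u} [SmallCategory C] {C' : Type u} [SmallCategory C']
    (J : GrothendieckTopology C) (J' : GrothendieckTopology C') (u : C ⥤ C')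
    (h : ∀ G : Sheaf J (Type u), Presheaf.IsSheaf J' ((u.op.ran).obj G.obj)) :
    u.IsCocontinuous J J' := by
  refine ⟨fun {Y} R hR => ?_⟩
  let Ω : Sheaf J (Type u) :=
    ⟨(Functor.closedSieves J).toFunctor, (isSheaf_iff_isSheaf_of_type J _).mpr (classifier_isSheaf J)⟩
  have hΩ := (isSheaf_iff_isSheaf_of_type J' _).mp (h Ω)
  have hsep := (hΩ R hR).isSeparatedFor
  let adj := u.op.ranAdjunction (Type u)
  -- the two natural transformations
  let φ : u.op ⋙ yoneda.obj (u.obj Y) ⟶ (Functor.closedSieves J).toFunctor :=
    { app := fun Z => TypeCat.ofHom fun _ => ⟨J.close ⊤, J.close_isClosed _⟩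
      naturality := by
        intro Z Z' k
        ext f
        apply Subtype.ext
        show J.close ⊤ = Sieve.pullback k.unop (J.close ⊤)
        rw [← J.pullback_close, Sieve.pullback_top] }
  let ψ : u.op ⋙ yoneda.obj (u.obj Y) ⟶ (Functor.closedSieves J).toFunctor :=
    { app := fun Z => TypeCat.ofHom fun f =>
        ⟨J.close ((R.pullback f).functorPullback u), J.close_isClosed _⟩
      naturality := by
        intro Z Z' k
        ext f
        apply Subtype.ext
        show J.close ((R.pullback (u.map k.unop ≫ f)).functorPullback u) =
          Sieve.pullback k.unop (J.close ((R.pullback f).functorPullback u))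
        rw [← J.pullback_close]
        congr 1
        ext W l
        simp [Sieve.functorPullback_apply, Sieve.pullback_apply] }
  have key : φ = ψ := by
    apply (adj.homEquiv _ _).injective
    apply yonedaEquiv.injective
    refine hsep.ext fun X' f hf => ?_
    rw [yonedaEquiv_naturality, yonedaEquiv_naturality]
    congr 1
    rw [← adj.homEquiv_naturality_left, ← adj.homEquiv_naturality_left]
    congr 1
    ext Z k
    apply Subtype.ext
    show J.close ⊤ = J.close ((R.pullback (k ≫ f)).functorPullback u)
    rw [Sieve.pullback_eq_top_of_mem R (R.downward_closed hf k), Sieve.functorPullback_top]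
  have h1 : J.close ⊤ = J.close (R.functorPullback u) := by
    have := congrArg (fun α => ((α.app (Opposite.op Y)) (𝟙 (u.obj Y))).1) key
    have h2 : J.close ⊤ = J.close ((R.pullback (𝟙 (u.obj Y))).functorPullback u) := this
    rw [Sieve.pullback_id] at h2
    exact h2
  rw [← J.close_eq_top_iff_mem, ← h1]
  exact top_unique (J.le_close ⊤)

end Groth.Agent.S6128
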