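import Groth.Statements.S6129
import Mathlib
-- import your own Groth.Agent.* helpers here

set_option autoImplicit false
open CategoryTheory CategoryTheory.Limits
universe u
open SGA4

namespace Groth.Agent.S6129

open Opposite

variable {C : Type u} [SmallCategory C] {C' : Type u} [SmallCategory C'] (u : C ⥤ C')

/-- the colimit cocone -/
noncomputable abbrev cc (H : Cᵒᵖ ⥤ Type u) (X' : C'ᵒᵖ) :
    Cocone (CostructuredArrow.proj u.op X' ⋙ H) :=
  (Functor.LeftExtension.mk _ (u.op.lanUnit.app H)).coconeAt X'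

noncomputable def isCol (H : Cᵒᵖ ⥤ Type u) (X' : C'ᵒᵖ) : IsColimit (cc u H X') :=
  Functor.isPointwiseLeftKanExtensionLeftKanExtensionUnit u.op H X'

lemma cc_ι (H : Cᵒᵖ ⥤ Type u) (X' : C'ᵒᵖ) (g : CostructuredArrow u.op X') (h : H.obj g.left) :
    (cc u H X').ι.app g h = (u.op.lan.obj H).map g.hom ((u.op.lanUnit.app H).app g.left h) := rfl

open Classical in
/-- the invariant -/
noncomputable def inv (K : Cᵒᵖ ⥤ Type u) (X : C) (g : CostructuredArrow u.op (op (u.obj X)))
    (k : K.obj g.left) : Option (K.obj (op X)) :=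
  if h : ∃ g₀ : X ⟶ g.left.unop, u.map g₀ = g.hom.unop then some (K.map h.choose.op k) else none

lemma inv_eq [u.Faithful] (K : Cᵒᵖ ⥤ Type u) (X : C) (g : CostructuredArrow u.op (op (u.obj X)))
    (k : K.obj g.left) (g₀ : X ⟶ g.left.unop) (hg₀ : u.map g₀ = g.hom.unop) :
    inv u K X g k = some (K.map g₀.op k) := by
  have h : ∃ g₀ : X ⟶ g.left.unop, u.map g₀ = g.hom.unop := ⟨g₀, hg₀⟩
  have : h.choose = g₀ := u.map_injective (h.choose_spec.trans hg₀.symm)
  unfold inv
  rw [dif_pos h, this]

lemma inv_none (K : Cᵒᵖ ⥤ Type u) (X : C) (g : CostructuredArrow u.op (op (u.obj X)))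
    (k : K.obj g.left) (h : ¬ ∃ g₀ : X ⟶ g.left.unop, u.map g₀ = g.hom.unop) :
    inv u K X g k = none := by
  unfold inv
  rw [dif_neg h]

lemma exists_iff (hu : ∀ X : C, (Over.post (X := X) u).Full) (X : C)
    {g₁ g₂ : CostructuredArrow u.op (op (u.obj X))} (φ : g₁ ⟶ g₂) :
    (∃ g₀ : X ⟶ g₁.left.unop, u.map g₀ = g₁.hom.unop) ↔
      (∃ g₀ : X ⟶ g₂.left.unop, u.map g₀ = g₂.hom.unop) := by
  have hw : g₂.hom.unop ≫ u.map φ.left.unop = g₁.hom.unop := by
    have := CostructuredArrow.w φ
    have h2 := congrArg Quiver.Hom.unop this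
    simpa using h2
  constructor
  · rintro ⟨g₀, hg₀⟩
    have := hu g₁.left.unop
    let A : Over g₁.left.unop := Over.mk g₀
    let B : Over g₁.left.unop := Over.mk φ.left.unop
    let m : (Over.post u).obj A ⟶ (Over.post u).obj B :=
      Over.homMk g₂.hom.unop (by
        show g₂.hom.unop ≫ u.map φ.left.unop = u.map g₀
        rw [hw, hg₀])
    obtain ⟨m', hm'⟩ := (Over.post (X := g₁.left.unop) u).map_surjective m
    refine ⟨m'.left, ?_⟩
    have := congrArg CommaMorphism.left hm'
    exact this
  · rintro ⟨g₀, hg₀⟩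
    exact ⟨g₀ ≫ φ.left.unop, by rw [u.map_comp, hg₀, hw]⟩


/-- the invariant cocone -/
noncomputable def invCocone [u.Faithful] (hu : ∀ X : C, (Over.post (X := X) u).Full)
    (K : Cᵒᵖ ⥤ Type u) (X : C) :
    Cocone (CostructuredArrow.proj u.op (op (u.obj X)) ⋙ K) where
  pt := Option (K.obj (op X))
  ι :=
    { app := fun g => ↾fun k => inv u K X g k
      naturality := fun g₁ g₂ φ => by
        refine ConcreteCategory.hom_ext _ _ (fun k => ?_)
        show inv u K X g₂ (K.map φ.left k) = inv u K X g₁ k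
        have hw : g₂.hom.unop ≫ u.map φ.left.unop = g₁.hom.unop := by
          have := CostructuredArrow.w φ
          have h2 := congrArg Quiver.Hom.unop this
          simpa using h2
        by_cases h : ∃ g₀ : X ⟶ g₂.left.unop, u.map g₀ = g₂.hom.unop
        · obtain ⟨g₀, hg₀⟩ := h
          rw [inv_eq u K X g₂ _ g₀ hg₀,
            inv_eq u K X g₁ k (g₀ ≫ φ.left.unop) (by rw [u.map_comp, hg₀, hw])]
          congr 1
          have : (g₀ ≫ φ.left.unop).op = φ.left ≫ g₀.op := rfl
          rw [this, CategoryTheory.Functor.map_comp]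
          rfl
        · rw [inv_none u K X g₂ _ h, inv_none u K X g₁ k (fun h' => h ((exists_iff u hu X φ).1 h'))] }

/-- the retraction-like map -/
noncomputable def Ψ [u.Faithful] (hu : ∀ X : C, (Over.post (X := X) u).Full)
    (K : Cᵒᵖ ⥤ Type u) (X : C) :
    (u.op.lan.obj K).obj (op (u.obj X)) ⟶ Option (K.obj (op X)) :=
  (isCol u K (op (u.obj X))).desc (invCocone u hu K X)

lemma Ψ_ι [u.Faithful] (hu : ∀ X : C, (Over.post (X := X) u).Full)
    (K : Cᵒᵖ ⥤ Type u) (X : C) (g : CostructuredArrow u.op (op (u.obj X))) (k : K.obj g.left) :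
    Ψ u hu K X ((cc u K (op (u.obj X))).ι.app g k) = inv u K X g k :=
  ConcreteCategory.congr_hom ((isCol u K (op (u.obj X))).fac (invCocone u hu K X) g) k

lemma Ψ_unit [u.Faithful] (hu : ∀ X : C, (Over.post (X := X) u).Full)
    (K : Cᵒᵖ ⥤ Type u) (X : C) (k : K.obj (op X)) :
    Ψ u hu K X ((u.op.lanUnit.app K).app (op X) k) = some k := by
  have h1 := Ψ_ι u hu K X (CostructuredArrow.mk (Y := op X) (𝟙 (u.op.obj (op X)))) k
  rw [cc_ι] at h1
  have h2 : inv u K X (CostructuredArrow.mk (Y := op X) (𝟙 (u.op.obj (op X)))) k = some k := by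
    have := inv_eq u K X (CostructuredArrow.mk (Y := op X) (𝟙 (u.op.obj (op X)))) k (𝟙 X)
      (by simp)
    rw [this]
    simp
  rw [h2] at h1
  simpa using h1


lemma unit_injective [u.Faithful] (hu : ∀ X : C, (Over.post (X := X) u).Full)
    (K : Cᵒᵖ ⥤ Type u) (X : Cᵒᵖ) :
    Function.Injective ((u.op.lanUnit.app K).app X) := by
  intro a b hab
  have ha := Ψ_unit u hu K X.unop a
  have hb := Ψ_unit u hu K X.unop b
  have : (u.op.lanUnit.app K).app (op X.unop) a = (u.op.lanUnit.app K).app (op X.unop) b := hab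
  rw [this] at ha
  exact Option.some_injective _ (ha.symm.trans hb)

lemma unit_mono [u.Faithful] (hu : ∀ X : C, (Over.post (X := X) u).Full)
    (K : Cᵒᵖ ⥤ Type u) : Mono (u.op.lanUnit.app K) := by
  have : ∀ X, Mono ((u.op.lanUnit.app K).app X) := fun X =>
    (mono_iff_injective _).2 (unit_injective u hu K X)
  exact NatTrans.mono_of_mono_app _

lemma pb [u.Faithful] (hu : ∀ X : C, (Over.post (X := X) u).Full)
    (H K : Cᵒᵖ ⥤ Type u) (α : H ⟶ K) (X : Cᵒᵖ) :
    IsPullback ((u.op.lanUnit.app H).app X) (α.app X)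
      ((u.op.lan.map α).app (u.op.obj X)) ((u.op.lanUnit.app K).app X) := by
  have hnat : u.op.lanUnit.app H ≫ Functor.whiskerLeft u.op (u.op.lan.map α) =
      α ≫ u.op.lanUnit.app K := (u.op.lanUnit.naturality α).symm
  rw [Types.isPullback_iff]
  refine ⟨?_, ?_, ?_⟩
  · have := NatTrans.congr_app hnat X
    simpa using this
  · rintro a b ⟨h1, -⟩
    exact unit_injective u hu H X h1
  · intro z k hz
    obtain ⟨g, h₀, rfl⟩ := Types.jointly_surjective_of_isColimit (isCol u H (u.op.obj X)) z
    have hunit : ∀ (Y : Cᵒᵖ) (y : H.obj Y), (u.op.lan.map α).app (u.op.obj Y)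
        ((u.op.lanUnit.app H).app Y y) = (u.op.lanUnit.app K).app Y (α.app Y y) := fun Y y =>
      ConcreteCategory.congr_hom (NatTrans.congr_app hnat Y) y
    have h1 : (u.op.lan.map α).app (u.op.obj X) ((cc u H (u.op.obj X)).ι.app g h₀) =
        (cc u K (u.op.obj X)).ι.app g (α.app g.left h₀) := by
      rw [cc_ι, cc_ι, ← hunit]
      exact ConcreteCategory.congr_hom ((u.op.lan.map α).naturality g.hom) _
    rw [h1] at hz
    have h2 := congrArg (Ψ u hu K X.unop) hz
    have h3 : Ψ u hu K X.unop ((cc u K (u.op.obj X)).ι.app g (α.app g.left h₀)) =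
        inv u K X.unop g (α.app g.left h₀) := Ψ_ι u hu K X.unop g _
    have h4 : Ψ u hu K X.unop ((u.op.lanUnit.app K).app X k) = some k := Ψ_unit u hu K X.unop k
    rw [h3, h4] at h2
    by_cases hex : ∃ g₀ : X.unop ⟶ g.left.unop, u.map g₀ = g.hom.unop
    · obtain ⟨g₀, hg₀⟩ := hex
      rw [inv_eq u K X.unop g _ g₀ hg₀] at h2
      have h5 : K.map g₀.op (α.app g.left h₀) = k := Option.some_injective _ h2
      refine ⟨H.map g₀.op h₀, ?_, ?_⟩
      · rw [cc_ι]
        have hg : u.op.map g₀.op = g.hom := by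
          show (u.map g₀).op = g.hom
          rw [hg₀]; rfl
        rw [← hg]
        exact ConcreteCategory.congr_hom ((u.op.lanUnit.app H).naturality g₀.op) h₀
      · rw [← h5]
        exact ConcreteCategory.congr_hom (α.naturality g₀.op) h₀
    · rw [inv_none u K X.unop g _ hex] at h2
      exact absurd h2 (by simp)

/-- Let `u : C ⥤ C'` be a faithful functor between small categories such that for every object `X` of
`C` the induced functor on over-categories `C/X ⥤ C'/u X` is full and faithful. Then the left Kan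
extension functor `u_!` on presheaves of sets is faithful, the unit `H ⟶ u^* u_! H` of the
adjunction `u_! ⊣ u^*` is a monomorphism for every presheaf `H`, and for every morphism of
presheaves `α : H ⟶ K` the naturality square of the unit at `α` (with sides `α` and `u^* u_! α`) is
cartesian. (The published statement assumes only the condition on the slice functors, and its proof
uses that `u` is faithful; the slice condition alone does not suffice: for a nontrivial group viewed
as a one-object category mapping to the point every slice functor is an equivalence, while `u_!` is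
the orbit-set functor on `G`-sets, which is not faithful, and the unit `G ⟶ G/G` is not a
monomorphism. So `u` is taken faithful here.) -/
theorem result
    {C : Type u} [SmallCategory C] {C' : Type u} [SmallCategory C'] (u : C ⥤ C') [u.Faithful]
    (hu : ∀ X : C, (Over.post (X := X) u).Full ∧ (Over.post (X := X) u).Faithful) :
    (u.op.lan : (Cᵒᵖ ⥤ Type u) ⥤ (C'ᵒᵖ ⥤ Type u)).Faithful ∧
    (∀ H : Cᵒᵖ ⥤ Type u, Mono ((u.op.lanAdjunction (Type u)).unit.app H)) ∧
    ∀ (H K : Cᵒᵖ ⥤ Type u) (α : H ⟶ K),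
      IsPullback ((u.op.lanAdjunction (Type u)).unit.app H) α
        (((Functor.whiskeringLeft Cᵒᵖ C'ᵒᵖ (Type u)).obj u.op).map (u.op.lan.map α))
        ((u.op.lanAdjunction (Type u)).unit.app K) := by
  have hu' : ∀ X : C, (Over.post (X := X) u).Full := fun X => (hu X).1
  have hm : ∀ H : Cᵒᵖ ⥤ Type u, Mono ((u.op.lanAdjunction (Type u)).unit.app H) := by
    intro H
    rw [Functor.lanAdjunction_unit]
    exact unit_mono u hu' H
  refine ⟨?_, hm, ?_⟩
  · exact (u.op.lanAdjunction (Type u)).faithful_L_of_mono_unit_app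
  · intro H K α
    rw [Functor.lanAdjunction_unit]
    exact IsPullback.of_forall_isPullback_app (fun X => pb u hu' H K α X)

end Groth.Agent.S6129
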