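import Groth.Statements.S6131

set_option autoImplicit false
open CategoryTheory CategoryTheory.Limits
universe u
open SGA4

namespace Groth.Agent.S6131

/-- The subterminal presheaf `Y ↦ (⊥ ∈ J Y)`. -/
def botPresheaf {C : Type u} [SmallCategory C] (J : GrothendieckTopology C) : Cᵒᵖ ⥤ Type u where
  obj Y := ULift.{u} (PLift ((⊥ : Sieve Y.unop) ∈ J Y.unop))
  map {Y Z} f := TypeCat.ofHom fun h => ⟨⟨by
    have h1 := J.pullback_stable f.unop h.down.down
    have h2 : (Sieve.pullback f.unop (⊥ : Sieve Y.unop)) = ⊥ := by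
      ext W g
      simp
    rwa [h2] at h1⟩⟩
  map_id _ := rfl
  map_comp _ _ := rfl

theorem botPresheaf_isSheaf {C : Type u} [SmallCategory C] (J : GrothendieckTopology C) :
    Presieve.IsSheaf J (botPresheaf J) := by
  intro X S hS x hx
  have hbot : (⊥ : Sieve X) ∈ J X := by
    refine J.transitive hS ⊥ ?_
    intro Y f hf
    have h2 : (Sieve.pullback f (⊥ : Sieve X)) = ⊥ := by
      ext W g
      simp
    rw [h2]
    exact ((x f hf : ULift.{u} (PLift ((⊥ : Sieve Y) ∈ J Y)))).down.down
  refine ⟨(⟨⟨hbot⟩⟩ : ULift.{u} (PLift ((⊥ : Sieve X) ∈ J X))), ?_, ?_⟩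
  · intro Y f hf
    rfl
  · intro t _
    rfl

/-- For a small site `(C, J)` and an object `X` of `C`, the sheaf associated to the presheaf represented
by `X` is an initial object of the category of sheaves of sets if and only if the empty sieve covers
`X`. -/
theorem result
    {C : Type u} [SmallCategory C] (J : GrothendieckTopology C) (X : C) :
    Nonempty (IsInitial ((presheafToSheaf J (Type u)).obj (yoneda.obj X))) ↔ (⊥ : Sieve X) ∈ J X := by
  constructor
  · rintro ⟨hinit⟩
    let E : Sheaf J (Type u) :=
      ⟨botPresheaf J, (isSheaf_iff_isSheaf_of_type J _).mpr (botPresheaf_isSheaf J)⟩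
    let m := hinit.to E
    let m' : yoneda.obj X ⟶ botPresheaf J := (sheafificationAdjunction J (Type u)).homEquiv _ _ m
    exact ((yonedaEquiv m' : ULift.{u} (PLift ((⊥ : Sieve X) ∈ J X)))).down.down
  · intro hbot
    refine ⟨?_⟩
    have hU : ∀ F : Sheaf J (Type u),
        Unique ((presheafToSheaf J (Type u)).obj (yoneda.obj X) ⟶ F) := by
      intro F
      have hT : IsTerminal (F.1.obj (Opposite.op X)) := Sheaf.isTerminalOfBotCover F X hbot
      have hu : Unique (((sheafToPresheaf J (Type u)).obj F).obj (Opposite.op X)) := by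
        refine ⟨⟨hT.from PUnit PUnit.unit⟩, fun a => ?_⟩
        have := hT.hom_ext (TypeCat.ofHom fun _ : PUnit => a) (hT.from PUnit)
        exact congrArg (fun φ => φ PUnit.unit) this
      exact (((sheafificationAdjunction J (Type u)).homEquiv _ _).trans yonedaEquiv).unique
    exact IsInitial.ofUnique _

end Groth.Agent.S6131
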