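import Groth.Statements.S6132
import Mathlib
import Groth.Agent.H31.SheafifyCofan

set_option autoImplicit false
open CategoryTheory CategoryTheory.Limits
universe u
open SGA4

namespace Groth.Agent.S6132

/-- Let `(C, J)` be a small site, `X` an object and `s i : Y i ⟶ X` a family of morphisms all of whose
base changes exist in `C`. If the family is covering, every `s i` is a monomorphism, and for `i ≠ j`
the fibre product `Y i ×_X Y j` is covered by the empty sieve, then the associated sheaf of `X`,
with the maps induced by the `s i`, is a coproduct of the associated sheaves of the `Y i` in the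
category of sheaves of sets. -/
theorem result
    {C : Type u} [SmallCategory C] (J : GrothendieckTopology C) {X : C} {ι : Type u}
    (Y : ι → C) (s : ∀ i, Y i ⟶ X) [∀ (i : ι) (Z : C) (g : Z ⟶ X), HasPullback (s i) g]
    (hcov : Sieve.ofArrows Y s ∈ J X) (hmono : ∀ i, Mono (s i))
    (hdisj : ∀ i j, i ≠ j → (⊥ : Sieve (pullback (s i) (s j))) ∈ J (pullback (s i) (s j))) :
    Nonempty (IsColimit (Cofan.mk ((presheafToSheaf J (Type u)).obj (yoneda.obj X))
      (fun i => (presheafToSheaf J (Type u)).map (yoneda.map (s i))))) := by
  classical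
  apply Groth.Agent.H31.isColimit_sheafify_cofan_of_sections
  intro G x
  have hG : Presieve.IsSheaf J G.obj := (isSheaf_iff_isSheaf_of_type J _).mp G.property
  have hsf : Presieve.IsSheafFor G.obj (Presieve.ofArrows Y s) := by
    rw [Presieve.isSheafFor_iff_generate]
    exact hG _ hcov
  rw [Presieve.isSheafFor_arrows_iff] at hsf
  apply hsf x
  intro i j Z gi gj hcomm
  by_cases hij : i = j
  · subst hij
    have := hmono i
    rw [(cancel_mono (s i)).mp hcomm]
  · -- ⊥ covers Z
    have hZ : (⊥ : Sieve Z) ∈ J Z := by
      have h1 := J.pullback_stable (pullback.lift gi gj hcomm) (hdisj i j hij)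
      have h2 : Sieve.pullback (pullback.lift gi gj hcomm)
          (⊥ : Sieve (pullback (s i) (s j))) = ⊥ := by
        ext W g
        simp
      rwa [h2] at h1
    have hT := Sheaf.isTerminalOfBotCover G Z hZ
    have := hT.hom_ext (TypeCat.ofHom fun _ : PUnit.{u+1} => G.obj.map gi.op (x i))
      (TypeCat.ofHom fun _ : PUnit.{u+1} => G.obj.map gj.op (x j))
    exact congrArg (fun φ => φ PUnit.unit) this

end Groth.Agent.S6132
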