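import Groth.Statements.S6134
import Mathlib

set_option autoImplicit false
open CategoryTheory CategoryTheory.Limits
universe u
open SGA4

namespace Groth.Agent.S6134

/-- Transport of a colimit cofan along isomorphisms. -/
theorem isColimit_cofan_of_iso {D : Type*} [Category D] {ι : Type*} {A B : ι → D} {PA PB : D}
    (a : ∀ i, A i ⟶ PA) (b : ∀ i, B i ⟶ PB) (ei : ∀ i, A i ≅ B i) (e : PA ≅ PB)
    (w : ∀ i, a i ≫ e.hom = (ei i).hom ≫ b i)
    (hA : IsColimit (Cofan.mk PA a)) : Nonempty (IsColimit (Cofan.mk PB b)) := by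
  refine ⟨Cofan.IsColimit.mk _
    (fun s => e.inv ≫ hA.desc (Cofan.mk s.pt (fun i => (ei i).hom ≫ s.inj i))) ?_ ?_⟩
  · intro s i
    have h1 : b i = (ei i).inv ≫ a i ≫ e.hom := by rw [w, Iso.inv_hom_id_assoc]
    show b i ≫ _ = _
    rw [h1]
    simp only [Category.assoc, Iso.hom_inv_id_assoc]
    have := hA.fac (Cofan.mk s.pt (fun i => (ei i).hom ≫ s.inj i)) ⟨i⟩
    simp only [Cofan.mk_pt, Cofan.mk_ι_app] at this
    rw [this, Iso.inv_hom_id_assoc]
  · intro s m hm
    rw [Iso.eq_inv_comp]
    apply hA.hom_ext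
    rintro ⟨i⟩
    have := hA.fac (Cofan.mk s.pt (fun i => (ei i).hom ≫ s.inj i)) ⟨i⟩
    simp only [Cofan.mk_pt, Cofan.mk_ι_app] at this ⊢
    rw [this, ← Category.assoc, w, Category.assoc]
    congr 1
    exact hm i

/-- Let `C` be a small category with topologies `J ≤ J'` (every `J`-covering sieve is `J'`-covering),
`X` an object and `s i : Y i ⟶ X` a family of morphisms. If the associated `J`-sheaf of the presheaf
represented by `X`, with the maps induced by the `s i`, is a coproduct of the associated `J`-sheaves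
of the `Y i` (in sheaves of sets), then the same holds for `J'`. -/
theorem result
    {C : Type u} [SmallCategory C] {J J' : GrothendieckTopology C} (hJ : J ≤ J')
    {X : C} {ι : Type u} (Y : ι → C) (s : ∀ i, Y i ⟶ X)
    (h : Nonempty (IsColimit (Cofan.mk ((presheafToSheaf J (Type u)).obj (yoneda.obj X))
      (fun i => (presheafToSheaf J (Type u)).map (yoneda.map (s i)))))) :
    Nonempty (IsColimit (Cofan.mk ((presheafToSheaf J' (Type u)).obj (yoneda.obj X))
      (fun i => (presheafToSheaf J' (Type u)).map (yoneda.map (s i))))) := by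
  obtain ⟨h⟩ := h
  -- inclusion of J'-sheaves into J-sheaves
  let incl : Sheaf J' (Type u) ⥤ Sheaf J (Type u) :=
    ObjectProperty.lift _ (sheafToPresheaf J' (Type u)) (fun G => by
      rw [isSheaf_iff_isSheaf_of_type]
      exact Presieve.isSheaf_of_le _ hJ ((isSheaf_iff_isSheaf_of_type J' _).mp G.property))
  let Φ : Sheaf J (Type u) ⥤ Sheaf J' (Type u) :=
    sheafToPresheaf J (Type u) ⋙ presheafToSheaf J' (Type u)
  let adjΦ : Φ ⊣ incl :=
    (sheafificationAdjunction J' (Type u)).restrictFullyFaithful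
      (fullyFaithfulSheafToPresheaf J (Type u)) (Functor.FullyFaithful.id _)
      (Functor.rightUnitor _).symm (Iso.refl _)
  let adjComp : presheafToSheaf J (Type u) ⋙ Φ ⊣ incl ⋙ sheafToPresheaf J (Type u) :=
    (sheafificationAdjunction J (Type u)).comp adjΦ
  let θ : presheafToSheaf J (Type u) ⋙ Φ ≅ presheafToSheaf J' (Type u) :=
    adjComp.leftAdjointUniq (sheafificationAdjunction J' (Type u))
  have hΦ : PreservesColimitsOfSize.{u, u} Φ := adjΦ.leftAdjoint_preservesColimits
  have h1 : IsColimit (Cofan.mk (Φ.obj ((presheafToSheaf J (Type u)).obj (yoneda.obj X)))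
      (fun i => Φ.map ((presheafToSheaf J (Type u)).map (yoneda.map (s i))))) :=
    isColimitCofanMkObjOfIsColimit Φ _ _ h
  refine isColimit_cofan_of_iso _ _ (fun i => θ.app (yoneda.obj (Y i))) (θ.app (yoneda.obj X)) ?_ h1
  intro i
  exact θ.hom.naturality (yoneda.map (s i))

end Groth.Agent.S6134
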