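import Groth.Statements.S6135
import Mathlib
import Groth.Agent.H31.LanInd

set_option autoImplicit false
open CategoryTheory CategoryTheory.Limits
universe u
open SGA4

namespace Groth.Agent.S6135

/-- Faithful case. Let `u : C ⥤ C'` be a functor between small categories and `u_!` the left Kan
extension functor on presheaves of sets, whose restriction to ind-objects (presheaves that are small
filtered colimits of representables) is the induced functor `Ind C ⥤ Ind C'`. Then `u` is faithful
if and only if `u_!` is injective on morphisms between ind-representable presheaves. -/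
theorem result
    {C : Type u} [SmallCategory C] {C' : Type u} [SmallCategory C'] (u : C ⥤ C') :
    u.Faithful ↔ ∀ (F G : Cᵒᵖ ⥤ Type u), IsIndObject F → IsIndObject G →
      Function.Injective (fun φ : F ⟶ G => (u.op.lan : (Cᵒᵖ ⥤ Type u) ⥤ (C'ᵒᵖ ⥤ Type u)).map φ) := by
  constructor
  · intro hfaith F G hF hG
    exact Groth.Agent.H31.lan_injective_of_faithful u F G hF hG
  · intro h
    have e := Groth.Agent.H31.lanYonedaIso u
    have hfaith : (yoneda ⋙ (u.op.lan : (Cᵒᵖ ⥤ Type u) ⥤ (C'ᵒᵖ ⥤ Type u))).Faithful := by
      refine ⟨fun {X Y} f g hfg => ?_⟩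
      apply yoneda.map_injective
      exact (h _ _ (isIndObject_yoneda X) (isIndObject_yoneda Y)) hfg
    have hfaith' : (u ⋙ yoneda).Faithful := Functor.Faithful.of_iso e.symm
    exact Functor.Faithful.of_comp u yoneda

end Groth.Agent.S6135
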