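import Groth.Statements.S6136
import Mathlib
import Groth.Agent.H31.LanYoneda

set_option autoImplicit false
open CategoryTheory CategoryTheory.Limits
universe u
open SGA4

namespace Groth.Agent.S6136

/-- Fully faithful case. Let `u : C ⥤ C'` be a functor between small categories and `u_!` the left Kan
extension functor on presheaves of sets, whose restriction to ind-representable presheaves is the
induced functor `Ind C ⥤ Ind C'`. Then `u` is full and faithful if and only if `u_!` is bijective on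
morphisms between ind-representable presheaves. -/
theorem result
    {C : Type u} [SmallCategory C] {C' : Type u} [SmallCategory C'] (u : C ⥤ C') :
    (u.Full ∧ u.Faithful) ↔ ∀ (F G : Cᵒᵖ ⥤ Type u), IsIndObject F → IsIndObject G →
      Function.Bijective (fun φ : F ⟶ G => (u.op.lan : (Cᵒᵖ ⥤ Type u) ⥤ (C'ᵒᵖ ⥤ Type u)).map φ) := by
  constructor
  · rintro ⟨hfull, hfaith⟩ F G _ _
    have ff : (u.op.lan : (Cᵒᵖ ⥤ Type u) ⥤ (C'ᵒᵖ ⥤ Type u)).FullyFaithful :=
      (u.op.lanAdjunction (Type u)).fullyFaithfulLOfIsIsoUnit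
    exact ⟨fun _ _ h => ff.map_injective h, ff.map_surjective⟩
  · intro h
    have e := Groth.Agent.H31.lanYonedaIso u
    have hfull : (yoneda ⋙ (u.op.lan : (Cᵒᵖ ⥤ Type u) ⥤ (C'ᵒᵖ ⥤ Type u))).Full := by
      refine ⟨fun {X Y} g => ?_⟩
      obtain ⟨φ, hφ⟩ := (h _ _ (isIndObject_yoneda X) (isIndObject_yoneda Y)).2 g
      obtain ⟨f, rfl⟩ := yoneda.map_surjective φ
      exact ⟨f, hφ⟩
    have hfaith : (yoneda ⋙ (u.op.lan : (Cᵒᵖ ⥤ Type u) ⥤ (C'ᵒᵖ ⥤ Type u))).Faithful := by
      refine ⟨fun {X Y} f g hfg => ?_⟩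
      apply yoneda.map_injective
      exact (h _ _ (isIndObject_yoneda X) (isIndObject_yoneda Y)).1 hfg
    have hfull' : (u ⋙ yoneda).Full := Functor.Full.of_iso e.symm
    have hfaith' : (u ⋙ yoneda).Faithful := Functor.Faithful.of_iso e.symm
    exact ⟨Functor.Full.of_comp_faithful u yoneda, Functor.Faithful.of_comp u yoneda⟩

end Groth.Agent.S6136
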