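import Groth.Statements.S6137
import Mathlib

set_option autoImplicit false
open CategoryTheory CategoryTheory.Limits
universe v u
open SGA4

namespace Groth.Agent.S6137

/-- Let `C` be a category with `v`-small hom-sets admitting all `v`-small limits, and `F : C ⥤ Type v` a
functor. Then `F` is corepresentable if and only if it is pro-representable (viewed as a presheaf on
`Cᵒᵖ` it is an ind-object, i.e. a small filtered colimit of corepresentable functors) and preserves
all `v`-small limits. -/
theorem result
    {C : Type u} [Category.{v} C] [HasLimitsOfSize.{v, v} C] (F : C ⥤ Type v) :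
    F.IsCorepresentable ↔
      IsIndObject (unopUnop C ⋙ F) ∧ PreservesLimitsOfSize.{v, v} F := by
  constructor
  · intro hF
    refine ⟨?_, inferInstance⟩
    obtain ⟨X, ⟨e⟩⟩ := hF.has_corepresentation
    let η : yoneda.obj (Opposite.op X) ≅ unopUnop C ⋙ F :=
      NatIso.ofComponents
        (fun Z => Equiv.toIso ((opEquiv _ _).trans e.homEquiv))
        (by
          intro Z Z' f
          ext g
          exact e.homEquiv_comp f.unop.unop g.unop)
    exact IsIndObject.map η.hom (isIndObject_yoneda _)
  · rintro ⟨hind, hpres⟩
    obtain ⟨⟨P⟩⟩ := hind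
    rw [← Functor.Elements.hasInitial_iff_isCorepresentable]
    have hprod : HasProducts.{v} F.Elements := fun J => inferInstance
    have hweq : HasWideEqualizers.{v} F.Elements := fun J => inferInstance
    let B : P.I → F.Elements := fun i => ⟨(P.F.obj i).unop, yonedaEquiv (P.ι.app i)⟩
    have hB : ∀ E : F.Elements, ∃ i, Nonempty (B i ⟶ E) := by
      rintro ⟨Y, y⟩
      have hc := isColimitOfPreserves
        ((evaluation _ _).obj (Opposite.op (Opposite.op Y))) P.isColimit
      obtain ⟨i, g, hg⟩ := Types.jointly_surjective_of_isColimit hc y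
      refine ⟨i, ⟨⟨g.unop, ?_⟩⟩⟩
      have h1 := yonedaEquiv_naturality (F := unopUnop C ⋙ F) (P.ι.app i) (Y := Opposite.op Y) g
      rw [yonedaEquiv_comp, yonedaEquiv_yoneda_map] at h1
      exact h1.trans hg
    obtain ⟨T, hT⟩ := has_weakly_initial_of_weakly_initial_set_and_hasProducts hB
    exact hasInitial_of_weakly_initial_and_hasWideEqualizers hT

end Groth.Agent.S6137
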