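import Groth.Statements.S6138
import Mathlib

set_option autoImplicit false
open CategoryTheory CategoryTheory.Limits Opposite
universe v u
open SGA4

namespace Groth.Agent.S6138

/-- Let `C` have coequalizers and pullbacks, let `F` be a presheaf of sets on `C` taking coequalizers of
`C` to equalizers, and let `u ∈ F(X)`, viewed as a morphism `h_X ⟶ F`. Then this morphism is a
monomorphism (the map `v ↦ F(v)(u)` is injective on `Hom(Y, X)` for every `Y`) if and only if `u` is
minimal: whenever `u = F(p)(u')` for an effective epimorphism `p : X ⟶ X'` and some `u' ∈ F(X')`,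
`p` is an isomorphism. (Coequalizers are used for one implication and pullbacks for the other; both
are assumed here.) -/
theorem result
    {C : Type u} [Category.{v} C] [HasCoequalizers C] [HasPullbacks C]
    (F : Cᵒᵖ ⥤ Type v) [PreservesLimitsOfShape WalkingParallelPair F]
    {X : C} (u : F.obj (op X)) :
    (∀ (Y : C) (v v' : Y ⟶ X), F.map v.op u = F.map v'.op u → v = v') ↔
      ∀ (X' : C) (p : X ⟶ X') (u' : F.obj (op X')),
        EffectiveEpi p → F.map p.op u' = u → IsIso p := by
  constructor
  · intro hinj X' p u' hp hu
    have hmono : Mono p := by
      refine ⟨fun {Z} g h hgh => ?_⟩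
      -- use the kernel pair
      have h1 : (pullback.fst p p) = (pullback.snd p p) := by
        apply hinj
        rw [← hu]
        have e1 : F.map (pullback.fst p p).op (F.map p.op u') =
            F.map ((pullback.fst p p) ≫ p).op u' := by
          rw [op_comp, F.map_comp]; rfl
        have e2 : F.map (pullback.snd p p).op (F.map p.op u') =
            F.map ((pullback.snd p p) ≫ p).op u' := by
          rw [op_comp, F.map_comp]; rfl
        rw [e1, e2, pullback.condition]
      calc g = pullback.lift g h hgh ≫ pullback.fst p p := (pullback.lift_fst g h hgh).symm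
        _ = pullback.lift g h hgh ≫ pullback.snd p p := by rw [h1]
        _ = h := pullback.lift_snd g h hgh
    exact isIso_of_mono_of_strongEpi p
  · intro hmin Y v v' hvv'
    let p := coequalizer.π v v'
    have hcolim : IsColimit (Cofork.ofπ p (coequalizer.condition v v')) :=
      coequalizerIsCoequalizer v v'
    have w' : p.op ≫ v.op = p.op ≫ v'.op := by
      rw [← op_comp, ← op_comp, coequalizer.condition]
    have hlim : IsLimit (Fork.ofι p.op w') :=
      (Cofork.isColimitOfπEquivIsLimitOp p p (coequalizer.condition v v') w' rfl) hcolim
    have hlimF := isLimitForkMapOfIsLimit F w' hlim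
    obtain ⟨u', hu', -⟩ := Types.unique_of_type_equalizer _ _ hlimF u hvv'
    have hpeff : EffectiveEpi p := inferInstance
    have hiso : IsIso p := hmin _ p u' hpeff hu'
    have := coequalizer.condition v v'
    exact (cancel_mono p).mp this

end Groth.Agent.S6138
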