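import Groth.Statements.S6139

set_option autoImplicit false
open CategoryTheory CategoryTheory.Limits
universe v u
open SGA4

namespace Groth.Agent.S6139

theorem isSheafFor_bot_iff {C : Type u} [Category.{v} C] (P : Cᵒᵖ ⥤ Type v) (Y : C) :
    Presieve.IsSheafFor P ((⊥ : Sieve Y) : Presieve Y) ↔
      Nonempty (Unique (P.obj (Opposite.op Y))) := by
  constructor
  · intro h
    obtain ⟨t, _, ht⟩ := h (fun Z f hf => hf.elim) (by intro _ _ _ _ _ _ _ hf; exact hf.elim)
    exact ⟨⟨⟨t⟩, fun s => ht s (by intro Z f hf; exact hf.elim)⟩⟩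
  · rintro ⟨hu⟩ x hx
    exact ⟨hu.default, by intro Z f hf; exact hf.elim,
      fun s _ => hu.uniq s⟩

/-- For an object `X` of a category `C`, the empty sieve on `X` is covering for the canonical topology
of `C` (the finest topology for which every representable presheaf is a sheaf) if and only if `X` is
a strict initial object: `X` is initial and every morphism with target `X` is an isomorphism. (The
source phrases the first condition as: for some topology coarser than the canonical one the
associated sheaf of `h_X` is initial; that sheaf is initial exactly when the empty sieve covers `X`,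
and coverage by the empty sieve passes to the finer canonical topology.) -/
theorem result
    {C : Type u} [Category.{v} C] (X : C) :
    (⊥ : Sieve X) ∈ Sheaf.canonicalTopology C X ↔
      (Nonempty (IsInitial X) ∧ ∀ (Y : C) (f : Y ⟶ X), IsIso f) := by
  have key : (⊥ : Sieve X) ∈ Sheaf.canonicalTopology C X ↔
      ∀ (Z Y : C) (f : Y ⟶ X), Nonempty (Unique (Y ⟶ Z)) := by
    unfold Sheaf.canonicalTopology Sheaf.finestTopology
    rw [GrothendieckTopology.mem_sInf]
    constructor
    · intro h Z Y f
      have h1 := h (Sheaf.finestTopologySingle (yoneda.obj Z)) ⟨_, ⟨Z, rfl⟩, rfl⟩ Y f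
      have h2 : (Sieve.pullback f (⊥ : Sieve X)) = ⊥ := by
        ext W g
        simp
      rw [h2] at h1
      exact (isSheafFor_bot_iff (yoneda.obj Z) Y).mp h1
    · rintro h _ ⟨_, ⟨Z, rfl⟩, rfl⟩ Y f
      have h2 : (Sieve.pullback f (⊥ : Sieve X)) = ⊥ := by
        ext W g
        simp
      rw [h2]
      exact (isSheafFor_bot_iff (yoneda.obj Z) Y).mpr (h Z Y f)
  rw [key]
  constructor
  · intro h
    have hX : ∀ Z, Nonempty (Unique (X ⟶ Z)) := fun Z => h Z X (𝟙 X)
    have hI : IsInitial X := by
      have : ∀ Z, Unique (X ⟶ Z) := fun Z => (hX Z).some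
      exact IsInitial.ofUnique X
    refine ⟨⟨hI⟩, fun Y f => ?_⟩
    have hY : ∀ Z, Unique (Y ⟶ Z) := fun Z => (h Z Y f).some
    refine ⟨hI.to Y, ?_, hI.hom_ext _ _⟩
    exact ((hY Y).uniq _).trans ((hY Y).uniq _).symm
  · rintro ⟨⟨hI⟩, hiso⟩ Z Y f
    have := hiso Y f
    refine ⟨⟨⟨f ≫ hI.to Z⟩, fun g => ?_⟩⟩
    have : inv f ≫ g = hI.to Z := hI.hom_ext _ _
    show g = f ≫ hI.to Z
    rw [← this, IsIso.hom_inv_id_assoc]

end Groth.Agent.S6139
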