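import Groth.Statements.S6140
import Mathlib
import Groth.Prelude.Def_SGA4a
import Groth.Agent.S12108
-- import your own Groth.Agent.* helpers here

set_option autoImplicit false
open CategoryTheory CategoryTheory.Limits
universe u
open SGA4

open CategoryTheory CategoryTheory.Limits Opposite

namespace Groth.Agent.S6140

open Opposite
open Groth.Agent.S12108

section Q
variable {C : Type u} [SmallCategory C] {R X : C} (p₁ p₂ : R ⟶ X)

/-- the relation on `Hom(U, X)` induced by `R` -/
def Rel (U : C) (f f' : U ⟶ X) : Prop := ∃ r : U ⟶ R, r ≫ p₁ = f ∧ r ≫ p₂ = f'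

lemma Rel.comp {U V : C} (g : V ⟶ U) {f f' : U ⟶ X} (h : Rel p₁ p₂ U f f') :
    Rel p₁ p₂ V (g ≫ f) (g ≫ f') := by
  obtain ⟨r, h1, h2⟩ := h
  exact ⟨g ≫ r, by rw [Category.assoc, h1], by rw [Category.assoc, h2]⟩

/-- the presheaf quotient `h_X / h_R` -/
def Q : Cᵒᵖ ⥤ Type u where
  obj U := Quot (Rel p₁ p₂ U.unop)
  map {U V} g := ↾(Quot.map (fun f => g.unop ≫ f) (fun _ _ h => h.comp p₁ p₂ g.unop))
  map_id U := by
    refine ConcreteCategory.hom_ext _ _ (fun t => ?_)
    induction t using Quot.ind with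
    | mk f =>
      change Quot.mk _ (𝟙 _ ≫ f) = Quot.mk _ f
      rw [Category.id_comp]
  map_comp {U V W} g h := by
    refine ConcreteCategory.hom_ext _ _ (fun t => ?_)
    induction t using Quot.ind with
    | mk f =>
      change Quot.mk _ ((h.unop ≫ g.unop) ≫ f) = Quot.mk _ (h.unop ≫ g.unop ≫ f)
      rw [Category.assoc]

lemma Q_map_mk {U V : Cᵒᵖ} (g : U ⟶ V) (f : U.unop ⟶ X) :
    (Q p₁ p₂).map g (Quot.mk _ f) = Quot.mk _ (g.unop ≫ f) := rfl

/-- the projection `h_X → Q` -/
def qπ : yoneda.obj X ⟶ Q p₁ p₂ where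
  app U := ↾fun f => Quot.mk _ f
  naturality U V g := by
    refine ConcreteCategory.hom_ext _ _ (fun f => ?_)
    rfl

lemma qπ_app_apply (U : Cᵒᵖ) (f : U.unop ⟶ X) : (qπ p₁ p₂).app U f = Quot.mk _ f := rfl

lemma qπ_condition : yoneda.map p₁ ≫ qπ p₁ p₂ = yoneda.map p₂ ≫ qπ p₁ p₂ := by
  ext U r
  change Quot.mk _ (r ≫ p₁) = Quot.mk _ (r ≫ p₂)
  exact Quot.sound ⟨r, rfl, rfl⟩

/-- `Q` is the coequalizer in presheaves -/
def isColimitQ : IsColimit (Cofork.ofπ (qπ p₁ p₂) (qπ_condition p₁ p₂)) :=
  Cofork.IsColimit.mk _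
    (fun t => { app := fun U => ↾(Quot.lift (fun f => t.π.app U f) (by
                  rintro f f' ⟨r, rfl, rfl⟩
                  exact ConcreteCategory.congr_hom (NatTrans.congr_app t.condition U) r))
                naturality := by
                  intro U V g
                  refine ConcreteCategory.hom_ext _ _ (fun x => ?_)
                  induction x using Quot.ind with
                  | mk f => exact ConcreteCategory.congr_hom (t.π.naturality g) f })
    (by
      intro t
      ext U f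
      rfl)
    (by
      intro t m hm
      ext U x
      induction x using Quot.ind with
      | mk f => exact ConcreteCategory.congr_hom (NatTrans.congr_app hm U) f)

variable (c : Cofork p₁ p₂)

/-- the comparison `Q → h_{c.pt}` -/
def qdesc : Q p₁ p₂ ⟶ yoneda.obj c.pt where
  app U := ↾(Quot.lift (fun f => f ≫ c.π) (by
    rintro f f' ⟨r, rfl, rfl⟩
    change (r ≫ p₁) ≫ c.π = (r ≫ p₂) ≫ c.π
    rw [Category.assoc, Category.assoc, c.condition]))
  naturality U V g := by
    refine ConcreteCategory.hom_ext _ _ (fun x => ?_)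
    induction x using Quot.ind with
    | mk f =>
      change (g.unop ≫ f) ≫ c.π = g.unop ≫ f ≫ c.π
      rw [Category.assoc]

lemma qdesc_mk (U : Cᵒᵖ) (f : U.unop ⟶ X) : (qdesc p₁ p₂ c).app U (Quot.mk _ f) = f ≫ c.π := rfl

lemma qπ_qdesc : qπ p₁ p₂ ≫ qdesc p₁ p₂ c = yoneda.map c.π := by
  ext U f
  rfl

end Q


section RHS
variable {C : Type u} [SmallCategory C] (J : GrothendieckTopology C) {R X : C} (p₁ p₂ : R ⟶ X)
  (c : Cofork p₁ p₂)

lemma rhs_iff :
    Nonempty (IsColimit ((yoneda ⋙ presheafToSheaf J (Type u)).mapCocone c)) ↔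
      IsIso ((presheafToSheaf J (Type u)).map (qdesc p₁ p₂ c)) := by
  set a := presheafToSheaf J (Type u) with ha
  let ε := yoneda ⋙ a
  have hwε : ε.map p₁ ≫ ε.map c.π = ε.map p₂ ≫ ε.map c.π := by
    rw [← ε.map_comp, ← ε.map_comp, c.condition]
  have hwa : a.map (yoneda.map p₁) ≫ a.map (qπ p₁ p₂) =
      a.map (yoneda.map p₂) ≫ a.map (qπ p₁ p₂) := by
    rw [← a.map_comp, ← a.map_comp, qπ_condition]
  have e1 : Nonempty (IsColimit (ε.mapCocone c)) ↔
      Nonempty (IsColimit (ε.mapCocone (Cofork.ofπ c.π c.condition))) :=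
    (IsColimit.equivIsoColimit ((Cocone.functoriality _ ε).mapIso (Cofork.isoCoforkOfπ c))).nonempty_congr
  have e2 : Nonempty (IsColimit (ε.mapCocone (Cofork.ofπ c.π c.condition))) ↔
      Nonempty (IsColimit (Cofork.ofπ (ε.map c.π) hwε :
        Cofork (ε.map p₁) (ε.map p₂))) :=
    (isColimitMapCoconeCoforkEquiv ε c.condition).nonempty_congr
  have hQ' : IsColimit (Cofork.ofπ (a.map (qπ p₁ p₂))
      hwa :
        Cofork (a.map (yoneda.map p₁)) (a.map (yoneda.map p₂))) :=
    isColimitCoforkMapOfIsColimit a _ (isColimitQ p₁ p₂)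
  have hfac : a.map (qπ p₁ p₂) ≫ a.map (qdesc p₁ p₂ c) = ε.map c.π := by
    rw [← a.map_comp, qπ_qdesc]
    rfl
  change Nonempty (IsColimit (ε.mapCocone c)) ↔ _
  rw [e1, e2]
  constructor
  · rintro ⟨h⟩
    have hdesc : Cofork.IsColimit.desc hQ' (ε.map c.π)
        hwε = a.map (qdesc p₁ p₂ c) := by
      apply Cofork.IsColimit.hom_ext hQ'
      rw [Cofork.IsColimit.π_desc' hQ']
      exact hfac.symm
    rw [← hdesc]
    have h1 : a.map (qπ p₁ p₂) ≫ Cofork.IsColimit.desc hQ' (ε.map c.π) hwε = ε.map c.π :=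
      Cofork.IsColimit.π_desc' hQ' _ _
    have h2 : ε.map c.π ≫ Cofork.IsColimit.desc h (a.map (qπ p₁ p₂)) hwa = a.map (qπ p₁ p₂) :=
      Cofork.IsColimit.π_desc' h _ _
    refine ⟨⟨Cofork.IsColimit.desc h (a.map (qπ p₁ p₂)) hwa, ?_, ?_⟩⟩
    · apply Cofork.IsColimit.hom_ext hQ'
      change a.map (qπ p₁ p₂) ≫ (_ ≫ _) = a.map (qπ p₁ p₂) ≫ 𝟙 _
      rw [← Category.assoc, h1, h2, Category.comp_id]
    · apply Cofork.IsColimit.hom_ext h
      change ε.map c.π ≫ (_ ≫ _) = ε.map c.π ≫ 𝟙 _
      rw [← Category.assoc, h2, h1, Category.comp_id]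
  · intro hiso
    refine ⟨IsColimit.ofIsoColimit hQ' (Cofork.ext (asIso (a.map (qdesc p₁ p₂ c))) ?_)⟩
    exact hfac

end RHS

section loc
variable {C : Type u} [SmallCategory C] (J : GrothendieckTopology C) {R X : C} (p₁ p₂ : R ⟶ X)
  (c : Cofork p₁ p₂)

lemma locSurj_qdesc_iff :
    Presheaf.IsLocallySurjective J (qdesc p₁ p₂ c) ↔
      Sieve.generate (Presieve.singleton c.π) ∈ J c.pt := by
  rw [Sieve.generateSingleton_eq]
  constructor
  · intro h
    have := h.imageSieve_mem (U := c.pt) (𝟙 c.pt : c.pt ⟶ c.pt)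
    refine J.superset_covering ?_ this
    rintro V k ⟨x, hx⟩
    induction x using Quot.ind with
    | mk f =>
      have hx' : f ≫ c.π = k ≫ 𝟙 _ := hx
      rw [Category.comp_id] at hx'
      exact ⟨f, hx'⟩
  · intro h
    constructor
    intro U g
    refine J.superset_covering ?_ (J.pullback_stable (g : U ⟶ c.pt) h)
    rintro V k ⟨l, hl⟩
    exact ⟨Quot.mk _ l, hl⟩

variable [J.Subcanonical]

lemma locInj_qdesc_iff (hR : SGA4.IsEquivRel p₁ p₂) :
    Presheaf.IsLocallyInjective J (qdesc p₁ p₂ c) ↔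
      ∀ (U : C) (f f' : U ⟶ X), f ≫ c.π = f' ≫ c.π → Rel p₁ p₂ U f f' := by
  constructor
  · intro h U f f' hff'
    have hS := h.equalizerSieve_mem (X := op U) (Quot.mk _ f : (Q p₁ p₂).obj (op U))
      (Quot.mk _ f') hff'
    have hrel : ∀ ⦃V : C⦄ (g : V ⟶ U),
        (Presheaf.equalizerSieve (F := Q p₁ p₂) (X := op U) (Quot.mk _ f) (Quot.mk _ f')).arrows g →
          Rel p₁ p₂ V (g ≫ f) (g ≫ f') := by
      intro V g hg
      have hg' : Quot.mk (Rel p₁ p₂ V) (g ≫ f) = Quot.mk _ (g ≫ f') := hg
      exact ((hR V).2.eqvGen_iff).mp (Quot.eqvGen_exact hg')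
    have hshR : Presieve.IsSheaf J (yoneda.obj R) :=
      GrothendieckTopology.Subcanonical.isSheaf_of_isRepresentable _
    have hshX : Presieve.IsSheaf J (yoneda.obj X) :=
      GrothendieckTopology.Subcanonical.isSheaf_of_isRepresentable _
    let x : Presieve.FamilyOfElements (yoneda.obj R)
        (Presheaf.equalizerSieve (F := Q p₁ p₂) (X := op U) (Quot.mk _ f) (Quot.mk _ f')).arrows :=
      fun V g hg => (hrel g hg).choose
    have hx1 : ∀ ⦃V : C⦄ (g : V ⟶ U) (hg), (x g hg : V ⟶ R) ≫ p₁ = g ≫ f :=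
      fun V g hg => (hrel g hg).choose_spec.1
    have hx2 : ∀ ⦃V : C⦄ (g : V ⟶ U) (hg), (x g hg : V ⟶ R) ≫ p₂ = g ≫ f' :=
      fun V g hg => (hrel g hg).choose_spec.2
    have hxc : x.Compatible := by
      intro Y₁ Y₂ Z g₁ g₂ f₁ f₂ h₁ h₂ hcomm
      apply (hR Z).1
      change ((g₁ ≫ x f₁ h₁) ≫ p₁, (g₁ ≫ x f₁ h₁) ≫ p₂) = ((g₂ ≫ x f₂ h₂) ≫ p₁, (g₂ ≫ x f₂ h₂) ≫ p₂)
      rw [Category.assoc, Category.assoc, Category.assoc, Category.assoc, hx1 f₁ h₁, hx1 f₂ h₂,
        hx2 f₁ h₁, hx2 f₂ h₂,
        ← Category.assoc, ← Category.assoc, ← Category.assoc, ← Category.assoc, hcomm]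
    obtain ⟨r, hr, -⟩ := hshR _ hS x hxc
    refine ⟨r, ?_, ?_⟩
    · refine (hshX _ hS).isSeparatedFor.ext (fun V g hg => ?_)
      change g ≫ r ≫ p₁ = g ≫ f
      rw [← hx1 g hg, ← Category.assoc]
      congr 1
      exact hr g hg
    · refine (hshX _ hS).isSeparatedFor.ext (fun V g hg => ?_)
      change g ≫ r ≫ p₂ = g ≫ f'
      rw [← hx2 g hg, ← Category.assoc]
      congr 1
      exact hr g hg
  · intro h
    refine Presheaf.isLocallyInjective_of_injective J _ (fun U x y hxy => ?_)
    induction x using Quot.ind with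
    | mk f =>
      induction y using Quot.ind with
      | mk f' => exact Quot.sound (h _ f f' hxy)

end loc

section cov
variable {C : Type u} [SmallCategory C] [HasPullbacks C]

lemma pullback_generate_singleton {X B B' : C} (π : X ⟶ B) (g : B' ⟶ B) :
    (Sieve.generate (Presieve.singleton π)).pullback g =
      Sieve.generate (Presieve.singleton (pullback.snd π g)) := by
  rw [← Sieve.pullbackArrows_comm, Presieve.pullback_singleton]

lemma covering_iff_univEffEpi {X B : C} (π : X ⟶ B) :
    Sieve.generate (Presieve.singleton π) ∈ Sheaf.canonicalTopology C B ↔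
      ∀ (B' : C) (g : B' ⟶ B), EffectiveEpi (pullback.snd π g) := by
  constructor
  · intro h B' g
    have h' := (Sheaf.canonicalTopology C).pullback_stable g h
    rw [pullback_generate_singleton] at h'
    rw [← Sieve.effectiveEpimorphic_singleton,
      Presieve.EffectiveEpimorphic.iff_forall_isSheafFor_yoneda]
    intro T
    rw [Presieve.isSheafFor_iff_generate]
    exact Sheaf.isSheaf_yoneda_obj T _ h'
  · intro h
    apply Sheaf.mem_finestTopology_of_forall_isSheafFor
    rintro _ ⟨T, rfl⟩ B' g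
    rw [pullback_generate_singleton, ← Presieve.isSheafFor_iff_generate]
    have := (Sieve.effectiveEpimorphic_singleton (pullback.snd π g)).mpr (h B' g)
    rw [Presieve.EffectiveEpimorphic.iff_forall_isSheafFor_yoneda] at this
    exact this T

end cov

/-- Let `C` be a small category with pullbacks, `p₁ p₂ : R ⇉ X` an equivalence relation in `C` admitting
a coequalizer cofork `c`, and `ε` the canonical functor to sheaves of sets for the canonical
topology of `C`. Then the equivalence relation is effective and universal (`R` is the kernel pair of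
the quotient map, which is a coequalizer all of whose base changes are effective epimorphisms) if
and only if `ε` takes `c` to a coequalizer of `ε p₁, ε p₂`. (For a small category every topology has
a small topologically generating family, so both implications of the published statement apply. The
published statement asks only that the quotient map have all base changes; this row assumes that `C`
has all pullbacks.) -/
theorem result
    {C : Type u} [SmallCategory C] [HasPullbacks C] {R X : C} (p₁ p₂ : R ⟶ X)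
    (hR : SGA4.IsEquivRel p₁ p₂) (c : Cofork p₁ p₂) (hc : IsColimit c) :
    SGA4.IsEffectiveUniversalEquivRel p₁ p₂ ↔
      Nonempty (IsColimit ((yoneda ⋙ presheafToSheaf (Sheaf.canonicalTopology C) (Type u)).mapCocone c)) := by
  rw [rhs_iff, isIso_iff, locInj_qdesc_iff _ p₁ p₂ c hR, locSurj_qdesc_iff]
  constructor
  · rintro ⟨B, π, hpb, hpo, heff⟩
    have hB : IsColimit (Cofork.ofπ π hpo.w) :=
      Cofork.IsColimit.mk _ (fun t => hpo.desc t.π t.π t.condition)
        (fun t => hpo.inl_desc _ _ _)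
        (fun t m hm => hpo.hom_ext (by rw [hpo.inl_desc]; exact hm)
          (by rw [hpo.inr_desc]; exact hm))
    let e : c.pt ≅ B := hc.coconePointUniqueUpToIso hB
    have he : c.π ≫ e.hom = π :=
      IsColimit.comp_coconePointUniqueUpToIso_hom hc hB WalkingParallelPair.one
    refine ⟨?_, ?_⟩
    · intro U f f' hff'
      refine ⟨hpb.lift f f' ?_, hpb.lift_fst _ _ _, hpb.lift_snd _ _ _⟩
      rw [← he, ← Category.assoc, hff', Category.assoc]
    · have h1 := (covering_iff_univEffEpi π).mpr heff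
      have h2 := (Sheaf.canonicalTopology C).pullback_stable e.hom h1
      refine GrothendieckTopology.superset_covering _ ?_ h2
      rw [Sieve.generateSingleton_eq, Sieve.generateSingleton_eq]
      rintro V k ⟨l, hl⟩
      refine ⟨l, ?_⟩
      rw [← cancel_mono e.hom, Category.assoc, he]
      exact hl
  · rintro ⟨hrel, hcov⟩
    obtain ⟨δ, hδ1, hδ2⟩ := (hR X).2.refl (𝟙 X)
    refine ⟨c.pt, c.π, ?_, ?_, (covering_iff_univEffEpi c.π).mp hcov⟩
    · refine IsPullback.of_isLimit' ⟨c.condition⟩ (PullbackCone.IsLimit.mk _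
        (fun s => (hrel _ s.fst s.snd s.condition).choose)
        (fun s => (hrel _ s.fst s.snd s.condition).choose_spec.1)
        (fun s => (hrel _ s.fst s.snd s.condition).choose_spec.2) ?_)
      intro s m hm1 hm2
      apply (hR s.pt).1
      change (m ≫ p₁, m ≫ p₂) = (_ ≫ p₁, _ ≫ p₂)
      rw [hm1, hm2, (hrel _ s.fst s.snd s.condition).choose_spec.1,
        (hrel _ s.fst s.snd s.condition).choose_spec.2]
    · refine IsPushout.of_isColimit' ⟨c.condition⟩ (PushoutCocone.IsColimit.mk _
        (fun s => Cofork.IsColimit.desc hc s.inl ?_) ?_ ?_ ?_)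
      · have : s.inl = s.inr := by
          rw [← Category.id_comp s.inl, ← hδ1, Category.assoc, s.condition, ← Category.assoc, hδ2,
            Category.id_comp]
        rw [s.condition, this]
      · intro s
        exact Cofork.IsColimit.π_desc' hc _ _
      · intro s
        have : s.inl = s.inr := by
          rw [← Category.id_comp s.inl, ← hδ1, Category.assoc, s.condition, ← Category.assoc, hδ2,
            Category.id_comp]
        exact (Cofork.IsColimit.π_desc' hc _ _).trans this
      · intro s m hm1 _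
        apply Cofork.IsColimit.hom_ext hc
        rw [Cofork.IsColimit.π_desc' hc]
        exact hm1

end Groth.Agent.S6140
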