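import Groth.Statements.S6142
import Mathlib

set_option autoImplicit false
open CategoryTheory
universe u
open SGA4

namespace Groth.Agent.S6142

/-- Let `u : C ⥤ C'` be a continuous and cocontinuous functor between small sites whose topologies are
subcanonical. If the left adjoint `u_!` of the restriction functor `u^*` on sheaves of sets is full
and faithful, then `u` is full and faithful. -/
theorem result
    {C : Type u} [SmallCategory C] {C' : Type u} [SmallCategory C']
    (J : GrothendieckTopology C) (K : GrothendieckTopology C') [J.Subcanonical] [K.Subcanonical]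
    (u : C ⥤ C') [u.IsContinuous J K] [u.IsCocontinuous J K]
    (h : (u.sheafPullback (Type u) J K).Full ∧ (u.sheafPullback (Type u) J K).Faithful) :
    u.Full ∧ u.Faithful := by
  have e1 : u.sheafPullback (Type u) J K ≅
      sheafToPresheaf J (Type u) ⋙ u.op.lan ⋙ presheafToSheaf K (Type u) :=
    Functor.sheafPullbackConstruction.sheafPullbackIso u (Type u) J K
  have e4 : u ⋙ yoneda ≅ yoneda ⋙ u.op.lan :=
    (Functor.isoWhiskerLeft u (uliftYonedaIsoYoneda.{u}).symm) ≪≫
      Presheaf.compULiftYonedaIsoULiftYonedaCompLan.{u} u ≪≫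
      Functor.isoWhiskerRight (uliftYonedaIsoYoneda.{u}) u.op.lan
  have e : J.yoneda ⋙ u.sheafPullback (Type u) J K ≅ u ⋙ K.yoneda :=
    calc J.yoneda ⋙ u.sheafPullback (Type u) J K
        ≅ J.yoneda ⋙ (sheafToPresheaf J (Type u) ⋙ u.op.lan ⋙ presheafToSheaf K (Type u)) :=
          Functor.isoWhiskerLeft _ e1
      _ ≅ (yoneda ⋙ u.op.lan) ⋙ presheafToSheaf K (Type u) := Iso.refl _
      _ ≅ (u ⋙ yoneda) ⋙ presheafToSheaf K (Type u) := Functor.isoWhiskerRight e4.symm _
      _ ≅ (u ⋙ K.yoneda) ⋙ (sheafToPresheaf K (Type u) ⋙ presheafToSheaf K (Type u)) :=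
          Iso.refl _
      _ ≅ (u ⋙ K.yoneda) ⋙ 𝟭 _ :=
          Functor.isoWhiskerLeft _ (sheafificationNatIso K (Type u)).symm
      _ ≅ u ⋙ K.yoneda := Functor.rightUnitor _
  have := h.1
  have := h.2
  have hfull : (u ⋙ K.yoneda).Full := Functor.Full.of_iso e
  have hfaith : (u ⋙ K.yoneda).Faithful := Functor.Faithful.of_iso e
  exact ⟨Functor.Full.of_comp_faithful u K.yoneda, Functor.Faithful.of_comp u K.yoneda⟩

end Groth.Agent.S6142
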