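import Groth.Statements.S6143
import Mathlib
import Groth.Agent.S12108
-- import your own Groth.Agent.* helpers here

set_option autoImplicit false
open CategoryTheory CategoryTheory.Limits
universe u
open SGA4

open CategoryTheory CategoryTheory.Limits Opposite

namespace Groth.Agent.S6143

open Opposite
open Groth.Agent.S12108

section A
variable {C : Type u} [SmallCategory C] (J : GrothendieckTopology C) [J.Subcanonical]
variable {Z : C} {ι : Type u} (Y : ι → C) (s : ∀ i, Y i ⟶ Z)

lemma locInj_yoneda_map_iff_mono {A B : C} (f : A ⟶ B) :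
    Presheaf.IsLocallyInjective J (yoneda.map f) ↔ Mono f := by
  constructor
  · intro h
    constructor
    intro U a b hab
    have hS := h.equalizerSieve_mem (X := op U) (a : (yoneda.obj A).obj (op U)) b hab
    have hsh : Presieve.IsSheaf J (yoneda.obj A) :=
      GrothendieckTopology.Subcanonical.isSheaf_of_isRepresentable _
    exact (hsh _ hS).isSeparatedFor.ext (fun V g hg => hg)
  · intro h
    exact Presheaf.isLocallyInjective_of_injective J _ (fun U a b hab =>
      (cancel_mono f).mp hab)

/-- criterion in elementary terms -/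
lemma criterion :
    Nonempty (IsColimit (Cofan.mk ((presheafToSheaf J (Type u)).obj (yoneda.obj Z))
      (fun i => (presheafToSheaf J (Type u)).map (yoneda.map (s i))))) ↔
    (Sieve.ofArrows Y s ∈ J Z ∧ (∀ i, Mono (s i)) ∧
      ∀ i j, i ≠ j → ∀ (U : C) (f : U ⟶ Y i) (f' : U ⟶ Y j), f ≫ s i = f' ≫ s j → ⊥ ∈ J U) := by
  rw [← Groth.Agent.S12108.result J Y s]
  simp only [diag_iso_iff, initial_iff, locInj_yoneda_map_iff_mono]
  refine and_congr Iff.rfl (and_congr Iff.rfl ?_)
  constructor
  · intro h i j hij U f f' hff'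
    obtain ⟨z, -, -⟩ := Types.exists_of_isPullback
        (isPullback_app (yoneda.map (s i)) (yoneda.map (s j)) (op U)) f f' hff'
    exact h i j hij U z
  · intro h i j hij U z
    refine h i j hij U ((pullback.fst (yoneda.map (s i)) (yoneda.map (s j))).app _ z)
      ((pullback.snd (yoneda.map (s i)) (yoneda.map (s j))).app _ z) ?_
    exact ConcreteCategory.congr_hom (NatTrans.congr_app
        (pullback.condition (f := yoneda.map (s i)) (g := yoneda.map (s j))) (op U)) z

end A


section B
variable {C : Type u} [SmallCategory C] (J : GrothendieckTopology C) [J.Subcanonical]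

noncomputable def yonedaSheafIso : yoneda ⋙ presheafToSheaf J (Type u) ≅ J.yoneda :=
  Functor.isoWhiskerRight (J.yonedaCompSheafToPresheaf).symm (presheafToSheaf J (Type u)) ≪≫
    Functor.associator _ _ _ ≪≫
    Functor.isoWhiskerLeft J.yoneda (sheafificationNatIso J (Type u)).symm ≪≫
    Functor.rightUnitor _

instance : (yoneda ⋙ presheafToSheaf J (Type u)).Full :=
  Functor.Full.of_iso (yonedaSheafIso J).symm

instance : (yoneda ⋙ presheafToSheaf J (Type u)).Faithful :=
  Functor.Faithful.of_iso (yonedaSheafIso J).symm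

variable {Z : C} {ι : Type u} (Y : ι → C) (s : ∀ i, Y i ⟶ Z)

lemma isColimit_of_sheaf
    (h : Nonempty (IsColimit (Cofan.mk ((presheafToSheaf J (Type u)).obj (yoneda.obj Z))
      (fun i => (presheafToSheaf J (Type u)).map (yoneda.map (s i)))))) :
    Nonempty (IsColimit (Cofan.mk Z s)) := by
  obtain ⟨h⟩ := h
  have h' : IsColimit ((yoneda ⋙ presheafToSheaf J (Type u)).mapCocone (Cofan.mk Z s)) :=
    (isColimitMapCoconeCofanMkEquiv (yoneda ⋙ presheafToSheaf J (Type u)) _ _).symm h
  exact ⟨isColimitOfReflects (yoneda ⋙ presheafToSheaf J (Type u)) h'⟩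

end B

section Cc
variable {C : Type u} [SmallCategory C] {ι : Type u}

/-- transfer `IsColimit` from a `Cofan.mk` to a general cocone over a discrete diagram -/
def isColimitOfCofanMk {F' : Discrete ι ⥤ C} (c' : Cocone F')
    (h : IsColimit (Cofan.mk c'.pt (fun i => c'.ι.app ⟨i⟩))) : IsColimit c' where
  desc t := h.desc (Cofan.mk t.pt (fun i => t.ι.app ⟨i⟩))
  fac t := by
    rintro ⟨i⟩
    exact h.fac (Cofan.mk t.pt (fun i => t.ι.app ⟨i⟩)) ⟨i⟩
  uniq t m hm := by
    apply h.uniq (Cofan.mk t.pt (fun i => t.ι.app ⟨i⟩)) m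
    rintro ⟨i⟩
    exact hm ⟨i⟩

variable {X : C} (Y : ι → C) (s : ∀ i, Y i ⟶ X)
    [∀ (i : ι) (Z : C) (g : Z ⟶ X), HasPullback (s i) g]

/-- the pulled-back cofan is a colimit -/
lemma pullback_isColimit (hu : IsUniversalColimit (Cofan.mk X s)) {W : C} (g : W ⟶ X) :
    Nonempty (IsColimit (Cofan.mk W (fun i => pullback.snd (s i) g))) := by
  refine hu (Cofan.mk W (fun i => pullback.snd (s i) g))
    (Discrete.natTrans (fun i => pullback.fst (s i.as) g)) g ?_ (NatTrans.Equifibered.of_discrete _) ?_
  · ext ⟨i⟩
    simp [pullback.condition]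
  · rintro ⟨i⟩
    exact (IsPullback.of_hasPullback (s i) g).flip

lemma covering_of_universal (hu : IsUniversalColimit (Cofan.mk X s)) :
    Sieve.ofArrows Y s ∈ Sheaf.canonicalTopology C X := by
  apply Sheaf.mem_finestTopology_of_forall_isSheafFor
  rintro _ ⟨T, rfl⟩ W g
  obtain ⟨hc⟩ := pullback_isColimit Y s hu g
  intro x hx
  have hx' := hx.to_sieveCompatible
  have hmem : ∀ i, ((Sieve.ofArrows Y s).pullback g).arrows (pullback.snd (s i) g) := by
    intro i
    change (Sieve.ofArrows Y s).arrows (pullback.snd (s i) g ≫ g)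
    rw [← pullback.condition]
    exact Sieve.downward_closed _ (Sieve.ofArrows_mk _ _ i) _
  let t : W ⟶ T := Cofan.IsColimit.desc hc (fun i => (x (pullback.snd (s i) g) (hmem i) : _ ⟶ T))
  have ht : ∀ i, pullback.snd (s i) g ≫ t = x (pullback.snd (s i) g) (hmem i) :=
    fun i => Cofan.IsColimit.fac hc _ i
  refine ⟨t, ?_, ?_⟩
  · intro V k hk
    change k ≫ t = x k hk
    have h2 : ∀ (k' : V ⟶ W) (e : k' = k)
        (hk' : ((Sieve.ofArrows Y s).pullback g).arrows k'), x k' hk' = x k hk := by
      intro k' e hk'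
      subst e
      rfl
    obtain ⟨V', a, b, hb, hab⟩ := id hk
    cases hb with
    | mk i =>
      let l : V ⟶ pullback (s i) g := pullback.lift a k hab
      have hl : l ≫ pullback.snd (s i) g = k := pullback.lift_snd _ _ _
      have h1 := hx' (pullback.snd (s i) g) l (hmem i)
      rw [← h2 _ hl (((Sieve.ofArrows Y s).pullback g).downward_closed (hmem i) l), h1, ← hl,
        Category.assoc, ht]
      rfl
  · intro t' ht'
    apply Cofan.IsColimit.hom_ext hc
    intro i
    change pullback.snd (s i) g ≫ t' = pullback.snd (s i) g ≫ t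
    rw [ht i]
    exact ht' _ (hmem i)

end Cc

section Cd
variable {C : Type u} [SmallCategory C] {ι : Type u}

lemma bot_mem_canonical_of_forall_initial {U : C}
    (h : ∀ (W : C) (_ : W ⟶ U), Nonempty (IsInitial W)) : ⊥ ∈ Sheaf.canonicalTopology C U := by
  apply Sheaf.mem_finestTopology_of_forall_isSheafFor
  rintro _ ⟨T, rfl⟩ W k
  obtain ⟨hW⟩ := h W k
  intro x _
  refine ⟨hW.to T, ?_, ?_⟩
  · intro V l hl
    exact (hl : False).elim
  · intro t' _
    exact hW.hom_ext _ _

lemma isInitial_of_bot_mem {U : C} (h : ⊥ ∈ Sheaf.canonicalTopology C U) :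
    Nonempty (IsInitial U) := by
  have key : ∀ T : C, ∃! t : U ⟶ T, True := by
    intro T
    have hsh := Sheaf.isSheaf_yoneda_obj (C := C) T _ h
    let x : Presieve.FamilyOfElements (yoneda.obj T) (⊥ : Sieve U).arrows :=
      fun V l hl => (hl : False).elim
    have hx : x.Compatible := by
      intro Y₁ Y₂ Z g₁ g₂ f₁ f₂ h₁ h₂ _
      exact (h₁ : False).elim
    obtain ⟨t, _, ht2⟩ := hsh x hx
    refine ⟨t, trivial, fun t' _ => ht2 t' ?_⟩
    intro V l hl
    exact (hl : False).elim
  refine ⟨IsInitial.ofUniqueHom (fun T => (key T).choose) (fun T m => ?_)⟩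
  exact (key T).choose_spec.2 m trivial

lemma isIso_snd_of_factor {A B W : C} (m : A ⟶ B) [Mono m] (a : W ⟶ A) (w : W ⟶ B)
    (hw : w = a ≫ m) [HasPullback m w] : IsIso (pullback.snd m w) := by
  subst hw
  refine ⟨pullback.lift a (𝟙 W) (by simp), ?_, pullback.lift_snd _ _ _⟩
  apply pullback.hom_ext
  · rw [Category.assoc, pullback.lift_fst, Category.id_comp]
    rw [← cancel_mono m, Category.assoc, pullback.condition]
  · rw [Category.assoc, pullback.lift_snd, Category.id_comp, Category.comp_id]

variable {X : C} (Y : ι → C) (s : ∀ i, Y i ⟶ X)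
    [∀ (i : ι) (Z : C) (g : Z ⟶ X), HasPullback (s i) g]

lemma disjoint_of (hc : IsColimit (Cofan.mk X s)) [CoproductDisjoint Y]
    (hu : IsUniversalColimit (Cofan.mk X s)) (i j : ι) (hij : i ≠ j) (U : C)
    (f : U ⟶ Y i) (f' : U ⟶ Y j) (h : f ≫ s i = f' ≫ s j) :
    ⊥ ∈ Sheaf.canonicalTopology C U := by
  classical
  apply bot_mem_canonical_of_forall_initial
  intro W k
  haveI hmi : Mono (s i) := CoproductDisjoint.mono_inj hc i
  haveI hmj : Mono (s j) := CoproductDisjoint.mono_inj hc j
  let w : W ⟶ X := (k ≫ f) ≫ s i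
  have hw' : w = (k ≫ f') ≫ s j := by
    change (k ≫ f) ≫ s i = _
    rw [Category.assoc, h, Category.assoc]
  obtain ⟨hc'⟩ := pullback_isColimit Y s hu w
  haveI hσi : IsIso (pullback.snd (s i) w) := isIso_snd_of_factor (s i) (k ≫ f) w rfl
  haveI hσj : IsIso (pullback.snd (s j) w) := isIso_snd_of_factor (s j) (k ≫ f') w hw'
  -- the pairwise pullback is initial
  obtain ⟨hinit⟩ := CoproductDisjoint.nonempty_isInitial_of_ne hc hij
    (pullback.cone (s i) (s j)) (pullback.isLimit (s i) (s j))
  have hsub : ∀ T : C, ∀ a b : W ⟶ T, a = b := by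
    intro T a b
    let t : W ⟶ T := Cofan.IsColimit.desc hc'
      (fun l => if l = i then pullback.snd (s l) w ≫ a else pullback.snd (s l) w ≫ b)
    have ht : ∀ l, pullback.snd (s l) w ≫ t =
        if l = i then pullback.snd (s l) w ≫ a else pullback.snd (s l) w ≫ b :=
      fun l => Cofan.IsColimit.fac hc' _ l
    have h1 := ht i
    rw [if_pos rfl] at h1
    have h2 := ht j
    rw [if_neg (Ne.symm hij)] at h2
    rw [← (cancel_epi (pullback.snd (s i) w)).mp h1, (cancel_epi (pullback.snd (s j) w)).mp h2]
  let z : W ⟶ pullback (s i) (s j) := pullback.lift (k ≫ f) (k ≫ f') (by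
    rw [Category.assoc, h, Category.assoc])
  exact ⟨IsInitial.ofUniqueHom (fun T => z ≫ hinit.to T) (fun T m => hsub T _ _)⟩

end Cd

/-- Let `C` be a small category, `X` an object and `s i : Y i ⟶ X` a family of morphisms all of whose
base changes exist. Then the associated sheaf of `h_X` for the canonical topology, with the maps
induced by the `s i`, is a coproduct of the associated sheaves of the `h_{Y i}` (in sheaves of sets
for the canonical topology) if and only if `X` is a disjoint universal coproduct of the `Y i` in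
`C`: the cofan `(X, s)` is a colimit, the injections of a coproduct of the family are monomorphisms
with pairwise pullbacks initial, and the colimit is stable under base change. (The source asks for
the coproduct decomposition after sheafification for some topology coarser than the canonical one;
this is equivalent to asking it for the canonical topology itself.) -/
theorem result
    {C : Type u} [SmallCategory C] {X : C} {ι : Type u} (Y : ι → C) (s : ∀ i, Y i ⟶ X)
    [∀ (i : ι) (Z : C) (g : Z ⟶ X), HasPullback (s i) g] :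
    Nonempty (IsColimit (Cofan.mk
        ((presheafToSheaf (Sheaf.canonicalTopology C) (Type u)).obj (yoneda.obj X))
        (fun i => (presheafToSheaf (Sheaf.canonicalTopology C) (Type u)).map (yoneda.map (s i))))) ↔
      (Nonempty (IsColimit (Cofan.mk X s)) ∧ CoproductDisjoint Y ∧
        IsUniversalColimit (Cofan.mk X s)) := by
  constructor
  · intro h
    obtain ⟨hcov, hm, hd⟩ := (criterion (Sheaf.canonicalTopology C) Y s).mp h
    obtain ⟨hc⟩ := isColimit_of_sheaf (Sheaf.canonicalTopology C) Y s h
    refine ⟨⟨hc⟩, ?_, ?_⟩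
    · haveI : ∀ i, Mono ((Cofan.mk X s).inj i) := hm
      refine CoproductDisjoint.of_cofan hc (fun {i j} _ => pullback.cone (s i) (s j))
        (fun {i j} _ => pullback.isLimit (s i) (s j)) (fun {i j} hij => ?_)
      exact (isInitial_of_bot_mem (hd i j hij _ (pullback.fst (s i) (s j))
        (pullback.snd (s i) (s j)) pullback.condition)).some
    · intro F' c' α f hα _ hpb
      have hpb' : ∀ i : ι, IsPullback (c'.ι.app ⟨i⟩) (α.app ⟨i⟩) f (s i) := fun i => hpb ⟨i⟩
      have hmono' : ∀ i : ι, Mono (c'.ι.app ⟨i⟩) := by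
        intro i
        constructor
        intro V a b hab
        apply (hpb' i).hom_ext hab
        haveI := hm i
        rw [← cancel_mono (s i), Category.assoc, Category.assoc, ← (hpb' i).w,
          ← Category.assoc, hab, Category.assoc]
      have hcrit := (criterion (Sheaf.canonicalTopology C) (fun i => F'.obj ⟨i⟩)
        (fun i => c'.ι.app ⟨i⟩)).mpr ⟨?_, hmono', ?_⟩
      · obtain ⟨h1⟩ := isColimit_of_sheaf (Sheaf.canonicalTopology C) _ _ hcrit
        exact ⟨isColimitOfCofanMk c' h1⟩
      · refine GrothendieckTopology.superset_covering _ ?_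
          ((Sheaf.canonicalTopology C).pullback_stable f hcov)
        rintro V k ⟨V', a, b, hb, hab⟩
        cases hb with
        | mk i =>
          have : k = (hpb' i).lift k a hab.symm ≫ c'.ι.app ⟨i⟩ := ((hpb' i).lift_fst _ _ _).symm
          rw [this]
          exact Sieve.downward_closed _
            (Sieve.ofArrows_mk (fun i => F'.obj ⟨i⟩) (fun i => c'.ι.app ⟨i⟩) i) _
      · intro i j hij U f₁ f₂ h12
        refine hd i j hij U (f₁ ≫ α.app ⟨i⟩) (f₂ ≫ α.app ⟨j⟩) ?_
        rw [Category.assoc, Category.assoc, ← (hpb' i).w, ← (hpb' j).w, ← Category.assoc, h12,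
          Category.assoc]
  · rintro ⟨⟨hc⟩, hdis, hu⟩
    exact (criterion (Sheaf.canonicalTopology C) Y s).mpr
      ⟨covering_of_universal Y s hu, fun i => CoproductDisjoint.mono_inj hc i,
        fun i j hij U f f' h => disjoint_of Y s hc hu i j hij U f f' h⟩

end Groth.Agent.S6143
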