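import Groth.Statements.S6144
import Mathlib

set_option autoImplicit false
open CategoryTheory CategoryTheory.Limits
universe w v u
open SGA4

namespace Groth.Agent.S6144

/-- A non-class copy of `IsIso`, to keep local hypotheses out of instance search. -/
def IsIsoP {E : Type u} [Category.{v} E] {X Y : E} (f : X ⟶ Y) : Prop := IsIso f

theorem IsIsoP.isIso {E : Type u} [Category.{v} E] {X Y : E} {f : X ⟶ Y} (h : IsIsoP f) :
    IsIso f := h

theorem IsIsoP.of {E : Type u} [Category.{v} E] {X Y : E} {f : X ⟶ Y} (h : IsIso f) :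
    IsIsoP f := h

/-- Let `E` be a category with `v`-small hom-sets and pullbacks, admitting a detecting family of objects
indexed by a `v`-small type (maps out of the family jointly reflect isomorphisms). Then every
detecting family `Y : I → E`, indexed by an arbitrary type, contains a detecting subfamily indexed
by a `v`-small subset of `I`. -/
theorem result
    {E : Type u} [Category.{v} E] [HasPullbacks E] {κ : Type v} (G : κ → E)
    (hG : (ObjectProperty.ofObj G).IsDetecting) {I : Type w} (Y : I → E)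
    (hY : (ObjectProperty.ofObj Y).IsDetecting) :
    ∃ J : Set I, Small.{v} J ∧ (ObjectProperty.ofObj (fun j : J => Y j)).IsDetecting := by
  classical
  have detG : ∀ {X Z : E} (f : X ⟶ Z),
      (∀ k (h : G k ⟶ Z), ∃! h' : G k ⟶ X, h' ≫ f = h) → IsIsoP f := by
    intro X Z f hf
    apply IsIsoP.of
    apply hG f
    rintro _ ⟨k⟩ h
    exact hf k h
  have detY : ∀ {X Z : E} (f : X ⟶ Z),
      (∀ i (h : Y i ⟶ Z), ∃! h' : Y i ⟶ X, h' ≫ f = h) → IsIsoP f := by
    intro X Z f hf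
    apply IsIsoP.of
    apply hY f
    rintro _ ⟨k⟩ h
    exact hf k h
  have detG_mono : ∀ {X Z : E} (m : X ⟶ Z), Mono m →
      (∀ k (h : G k ⟶ Z), ∃ h' : G k ⟶ X, h' ≫ m = h) → IsIsoP m := by
    intro X Z m _ hm
    apply detG
    intro k h
    obtain ⟨h', hh'⟩ := hm k h
    exact ⟨h', hh', fun h'' hh'' => (cancel_mono m).mp (hh''.trans hh'.symm)⟩
  have detY_mono : ∀ {X Z : E} (m : X ⟶ Z), Mono m →
      (∀ i (h : Y i ⟶ Z), ∃ h' : Y i ⟶ X, h' ≫ m = h) → IsIsoP m := by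
    intro X Z m _ hm
    apply detY
    intro k h
    obtain ⟨h', hh'⟩ := hm k h
    exact ⟨h', hh', fun h'' hh'' => (cancel_mono m).mp (hh''.trans hh'.symm)⟩
  have lemA : ∀ {S₁ S₂ T : E} (m₁ : S₁ ⟶ T) (m₂ : S₂ ⟶ T), Mono m₁ → Mono m₂ →
      (∀ k (h : G k ⟶ T), (∃ h' : G k ⟶ S₁, h' ≫ m₁ = h) → ∃ h' : G k ⟶ S₂, h' ≫ m₂ = h) →
      ∀ {Z : E} (y : Z ⟶ T), (∃ y' : Z ⟶ S₁, y' ≫ m₁ = y) → ∃ y' : Z ⟶ S₂, y' ≫ m₂ = y := by
    intro S₁ S₂ T m₁ m₂ _ _ H Z y ⟨y', hy'⟩
    have : IsIso (pullback.fst m₁ m₂) := by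
      apply IsIsoP.isIso
      apply detG_mono _ inferInstance
      intro k h
      obtain ⟨h', hh'⟩ := H k (h ≫ m₁) ⟨h, rfl⟩
      exact ⟨pullback.lift h h' hh'.symm, pullback.lift_fst _ _ _⟩
    refine ⟨y' ≫ inv (pullback.fst m₁ m₂) ≫ pullback.snd m₁ m₂, ?_⟩
    rw [Category.assoc, Category.assoc, ← pullback.condition, IsIso.inv_hom_id_assoc, hy']
  -- the index type
  let imageSet : ∀ {S : E} (k : κ) (_ : S ⟶ G k), Set (Σ k' : κ, G k' ⟶ G k) :=
    fun {S} k m => {p | ∃ h' : G p.1 ⟶ S, h' ≫ m = p.2}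
  let Pred : (Σ k : κ, Set (Σ k' : κ, G k' ⟶ G k)) → I → Prop := fun x i =>
    ∃ (S : E) (m : S ⟶ G x.1), Mono m ∧ imageSet x.1 m = x.2 ∧
      ∃ y : Y i ⟶ G x.1, ¬ ∃ y' : Y i ⟶ S, y' ≫ m = y
  let sel : {x : (Σ k : κ, Set (Σ k' : κ, G k' ⟶ G k)) // ∃ i, Pred x i} → I :=
    fun x => x.2.choose
  refine ⟨Set.range sel, inferInstance, ?_⟩
  -- key property (**)
  have key2 : ∀ {S' : E} (k : κ) (m' : S' ⟶ G k), Mono m' →
      (∀ j ∈ Set.range sel, ∀ y : Y j ⟶ G k, ∃ y' : Y j ⟶ S', y' ≫ m' = y) → IsIsoP m' := by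
    intro S' k m' _ hm'
    by_contra hni
    have hex : ∃ i, ∃ y : Y i ⟶ G k, ¬ ∃ y' : Y i ⟶ S', y' ≫ m' = y := by
      by_contra hcon
      push Not at hcon
      exact hni (detY_mono m' inferInstance hcon)
    obtain ⟨i, y, hy⟩ := hex
    have hx : ∃ i, Pred ⟨k, imageSet k m'⟩ i := ⟨i, S', m', inferInstance, rfl, y, hy⟩
    obtain ⟨S₁, m₁, hm₁, himg, y₁, hy₁⟩ := hx.choose_spec
    have hj : sel ⟨⟨k, imageSet k m'⟩, hx⟩ ∈ Set.range sel := ⟨_, rfl⟩
    obtain ⟨y'', hy''⟩ := hm' _ hj y₁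
    apply hy₁
    refine lemA m' m₁ inferInstance hm₁ ?_ y₁ ⟨y'', hy''⟩
    intro k' h hh
    have : (⟨k', h⟩ : Σ k' : κ, G k' ⟶ G k) ∈ imageSet k m₁ := by
      rw [himg]
      exact hh
    exact this
  -- (*)
  have key1 : ∀ {S T : E} (m : S ⟶ T), Mono m →
      (∀ j ∈ Set.range sel, ∀ y : Y j ⟶ T, ∃ y' : Y j ⟶ S, y' ≫ m = y) → IsIsoP m := by
    intro S T m _ hm
    apply detG_mono _ inferInstance
    intro k g
    have : IsIso (pullback.snd m g) := by
      apply IsIsoP.isIso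
      apply key2 _ _ inferInstance
      intro j hj y
      obtain ⟨y'', hy''⟩ := hm j hj (y ≫ g)
      exact ⟨pullback.lift y'' y hy'', pullback.lift_snd _ _ _⟩
    refine ⟨inv (pullback.snd m g) ≫ pullback.fst m g, ?_⟩
    rw [Category.assoc, pullback.condition, IsIso.inv_hom_id_assoc]
  -- the subfamily is detecting
  intro A B f hf
  have hf' : ∀ j ∈ Set.range sel, ∀ h : Y j ⟶ B, ∃! h' : Y j ⟶ A, h' ≫ f = h := by
    intro j hj h
    exact hf (Y j) (ObjectProperty.ofObj_apply (fun j : Set.range sel => Y j) ⟨j, hj⟩) h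
  have hmono : Mono f := by
    have hδ : IsIso (pullback.diagonal f) := by
      apply IsIsoP.isIso
      apply key1 _ inferInstance
      intro j hj y
      have h12 : y ≫ pullback.fst f f = y ≫ pullback.snd f f := by
        obtain ⟨h', _, huniq⟩ := hf' j hj (y ≫ pullback.fst f f ≫ f)
        rw [huniq (y ≫ pullback.fst f f) (by simp),
          huniq (y ≫ pullback.snd f f) (by simp [pullback.condition])]
      refine ⟨y ≫ pullback.fst f f, ?_⟩
      apply pullback.hom_ext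
      · simp
      · simp [h12]
    have hfs : pullback.fst f f = pullback.snd f f := by
      rw [← cancel_epi (pullback.diagonal f)]
      simp
    refine ⟨fun {Z} a b hab => ?_⟩
    calc a = pullback.lift a b hab ≫ pullback.fst f f := (pullback.lift_fst _ _ _).symm
      _ = pullback.lift a b hab ≫ pullback.snd f f := by rw [hfs]
      _ = b := pullback.lift_snd _ _ _
  apply IsIsoP.isIso
  apply key1 _ hmono
  intro j hj y
  exact (hf' j hj y).exists

end Groth.Agent.S6144
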