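import Groth.Statements.S6160
import Mathlib
import Groth.Agent.H31.SheafOfModulesToSheaf

set_option autoImplicit false
universe u
open CategoryTheory
open ModSite

namespace Groth.Agent.S6160

open CategoryTheory.Limits in
/-- Ringed topos of sheaves on a small site; u : A -> B a morphism of sheaves of rings: the
restriction-of-scalars functor from B-Modules to A-Modules commutes with all u-small limits and
colimits and is conservative. -/
theorem result {C : Type u} [SmallCategory C]
    {J : GrothendieckTopology C} {A B : Sheaf J RingCat.{u}} (φ : A ⟶ B) :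
    PreservesLimitsOfSize.{u, u} (SheafOfModules.restrictScalars.{u} φ) ∧
    PreservesColimitsOfSize.{u, u} (SheafOfModules.restrictScalars.{u} φ) ∧
    (SheafOfModules.restrictScalars.{u} φ).ReflectsIsomorphisms := by
  have e : SheafOfModules.restrictScalars.{u} φ ⋙ SheafOfModules.toSheaf.{u} A ≅
      SheafOfModules.toSheaf.{u} B :=
    NatIso.ofComponents (fun M => Iso.refl _) (by intros; rfl)
  have hAl := Groth.Agent.H31.toSheaf_preservesLimits A
  have hBl := Groth.Agent.H31.toSheaf_preservesLimits B
  have hAc := Groth.Agent.H31.toSheaf_preservesColimits A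
  have hBc := Groth.Agent.H31.toSheaf_preservesColimits B
  have reflLim : ReflectsLimitsOfSize.{u, u} (SheafOfModules.toSheaf.{u} A) :=
    reflectsLimits_of_reflectsIsomorphisms
  have reflColim : ReflectsColimitsOfSize.{u, u} (SheafOfModules.toSheaf.{u} A) :=
    reflectsColimits_of_reflectsIsomorphisms
  refine ⟨?_, ?_, ?_⟩
  · have : PreservesLimitsOfSize.{u, u}
        (SheafOfModules.restrictScalars.{u} φ ⋙ SheafOfModules.toSheaf.{u} A) :=
      preservesLimits_of_natIso e.symm
    exact preservesLimits_of_reflects_of_preserves (SheafOfModules.restrictScalars.{u} φ)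
      (SheafOfModules.toSheaf.{u} A)
  · have : PreservesColimitsOfSize.{u, u}
        (SheafOfModules.restrictScalars.{u} φ ⋙ SheafOfModules.toSheaf.{u} A) :=
      preservesColimits_of_natIso e.symm
    exact preservesColimits_of_reflects_of_preserves (SheafOfModules.restrictScalars.{u} φ)
      (SheafOfModules.toSheaf.{u} A)
  · refine ⟨fun {M N} f hf => ?_⟩
    have h1 : IsIso ((SheafOfModules.restrictScalars.{u} φ ⋙ SheafOfModules.toSheaf.{u} A).map f) := by
      rw [Functor.comp_map]
      infer_instance
    rw [NatIso.isIso_map_iff e f] at h1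
    exact isIso_of_reflects_iso f (SheafOfModules.toSheaf.{u} B)

end Groth.Agent.S6160
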