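import Groth.Statements.S6167
import Groth.Agent.H45.FinFree.LocalFactor

set_option autoImplicit false
universe u
open CategoryTheory
open ModSite

namespace Groth.Agent.S6167

/-- Ringed site (C, O), small, with commutative structure sheaf: a morphism from an O-module of finite
presentation (Mathlib's notion: over some family of objects covering every object, a cokernel of a
map of finite free modules) to a flat O-module factors, locally on the site, through a finite free
module: for every object X there is a covering family (Y_i -> X) and for each i a factorisation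
F|Y_i -> (O|Y_i)^n -> H|Y_i of the restricted morphism. -/
theorem result {C : Type u} [SmallCategory C] {J : GrothendieckTopology C}
    (O : Sheaf J CommRingCat.{u}) (F H : ModSite.Mod O) [F.IsFinitePresentation] (hH : ModSite.IsFlat H)
    (φ : F ⟶ H) (X : C) :
    ∃ (ι : Type u) (Y : ι → C) (g : ∀ i, Y i ⟶ X), Sieve.ofArrows Y g ∈ J X ∧
      ∀ i, ∃ (n : ℕ) (a : (ModSite.restr O (Y i)).obj F ⟶ SheafOfModules.free (ULift.{u} (Fin n)))
        (b : SheafOfModules.free (ULift.{u} (Fin n)) ⟶ (ModSite.restr O (Y i)).obj H),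
        a ≫ b = (ModSite.restr O (Y i)).map φ := by
  obtain ⟨σ, hσ⟩ := SheafOfModules.IsFinitePresentation.exists_quasicoherentData F
  have key : ∀ i : σ.I, ∃ S ∈ J (σ.X i), ∀ ⦃V : C⦄ (g : V ⟶ σ.X i), S g →
      ∃ (n : ℕ) (a : (ModSite.restr O V).obj F ⟶ SheafOfModules.free (ULift.{u} (Fin n)))
        (b : SheafOfModules.free (ULift.{u} (Fin n)) ⟶ (ModSite.restr O V).obj H),
        a ≫ b = (ModSite.restr O V).map φ := fun i => by
    have h1 : (σ.presentation i).IsFinite := hσ.isFinite_presentation i
    exact @Groth.Agent.H45.FinFree.local_factor _ _ _ _ F H hH φ _ (σ.presentation i) h1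
  choose S hS hfac using key
  let T : Sieve X :=
    { arrows := fun Y h => ∃ (i : σ.I) (v : Y ⟶ σ.X i), (S i).arrows v
      downward_closed := by
        rintro Y Z h ⟨i, v, hv⟩ w
        exact ⟨i, w ≫ v, (S i).downward_closed hv w⟩ }
  have hT : T ∈ J X := by
    refine J.transitive (σ.coversTop X) T ?_
    rintro Y h ⟨i, ⟨v⟩⟩
    refine J.superset_covering ?_ (J.pullback_stable v (hS i))
    intro Z w hw
    exact ⟨i, w ≫ v, hw⟩
  refine ⟨Σ Y : C, {h : Y ⟶ X // T.arrows h}, fun j => j.1, fun j => j.2.1, ?_, ?_⟩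
  · refine J.superset_covering ?_ hT
    intro Y h hh
    exact ⟨Y, 𝟙 Y, h, Presieve.ofArrows.mk (⟨Y, h, hh⟩ : Σ Y : C, {h : Y ⟶ X // T.arrows h}),
      Category.id_comp h⟩
  · rintro ⟨Y, h, i, v, hv⟩
    exact hfac i v hv

end Groth.Agent.S6167
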