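import Groth.Statements.S6168
import Groth.Agent.H45.SheafTensor.Basic

set_option autoImplicit false
universe u
open CategoryTheory
open ModSite

namespace Groth.Agent.S6168

open CategoryTheory.MonoidalCategory in
/-- In the case where the presheaf of rings A' is already a sheaf O (small site, O commutative): for
presheaves of O-modules M', N' with associated sheaves of modules M, N, the sheaf of modules
associated to the presheaf X |-> M'(X) (x)_{O(X)} N'(X) is isomorphic to M (x)_O N. Existence of an
isomorphism only (the source's is canonical). -/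
theorem result {C : Type u} [SmallCategory C] {J : GrothendieckTopology C} (O : Sheaf J CommRingCat.{u})
    (M' N' : PresheafOfModules.{u} (O.obj ⋙ forget₂ CommRingCat.{u} RingCat.{u})) :
    Nonempty ((ModSite.sheafify O).obj (M' ⊗ N' : PresheafOfModules.{u} (O.obj ⋙ forget₂ CommRingCat.{u} RingCat.{u})) ≅
      ((ModSite.tensorBi O).obj ((ModSite.sheafify O).obj M')).obj ((ModSite.sheafify O).obj N')) := by
  have h1 : IsIso ((Groth.Agent.H45.shf O).map ((Groth.Agent.H45.shfAdj O).unit.app M' ▷ N')) :=
    Groth.Agent.H45.isIso_shf_map_whiskerRight ((Groth.Agent.H45.shfAdj O).unit.app M') N'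
  have h2 : IsIso ((Groth.Agent.H45.shf O).map (((Groth.Agent.H45.forg O).obj ((Groth.Agent.H45.shf O).obj M')) ◁ (Groth.Agent.H45.shfAdj O).unit.app N')) :=
    Groth.Agent.H45.isIso_shf_map_whiskerLeft ((Groth.Agent.H45.shfAdj O).unit.app N') _
  exact ⟨@asIso _ _ _ _ _ h1 ≪≫ @asIso _ _ _ _ _ h2⟩

end Groth.Agent.S6168
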