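import Groth.Statements.S6173
import Mathlib

set_option autoImplicit false
universe u
open CategoryTheory
open SGA4

namespace Groth.Agent.S6173

/-- Second assertion (topos of sheaves on a small site (C, J); E/X_i the induced topoi, modelled by the
sites (C/X_i, J/X_i); 'enough points' = a small conservative family of points, equivalently all
fibre functors together are conservative): if (X_i) is a family of objects covering the final object
and every E/X_i has enough points, then E has enough points. (The first assertion, that E/X inherits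
enough points from E, is Mathlib's instance.) -/
theorem result {C : Type u} [SmallCategory C] (J : GrothendieckTopology C) {ι : Type u}
    (X : ι → C) (hX : J.CoversTop X) (h : ∀ i, GrothendieckTopology.HasEnoughPoints.{u} (J.over (X i))) :
    GrothendieckTopology.HasEnoughPoints.{u} J := by
  classical
  choose P hPsmall hPcons using fun i => (h i).exists_objectProperty
  have hsm : ∀ i, ObjectProperty.Small.{u} (P i) := hPsmall
  let Q : ObjectProperty (GrothendieckTopology.Point.{u} J) :=
    ObjectProperty.ofObj (fun ψ : Σ i, (P i).FullSubcategory =>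
      ψ.2.obj.map (Over.forget (X ψ.1)) J)
  refine ⟨Q, inferInstance, ?_⟩
  apply ObjectProperty.IsConservativeFamilyOfPoints.mk'
  intro Z S hS
  refine J.transitive (hX Z) S ?_
  rintro V f ⟨i, ⟨p⟩⟩
  let Vp : Over (X i) := Over.mk p
  let T : Sieve Vp := (Sieve.overEquiv Vp).symm (S.pullback f)
  suffices hT : T ∈ (J.over (X i)) Vp by
    rw [GrothendieckTopology.mem_over_iff] at hT
    simp only [T, OrderIso.apply_symm_apply] at hT
    exact hT
  obtain ⟨κ, W, g, hTg⟩ := T.exists_eq_ofArrows
  rw [hTg, (hPcons i).jointly_reflect_ofArrows_mem_of_small]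
  intro Φ v
  have hΨ : Q (Φ.obj.map (Over.forget (X i)) J) :=
    ObjectProperty.ofObj_apply (fun ψ : Σ i, (P i).FullSubcategory =>
      ψ.2.obj.map (Over.forget (X ψ.1)) J) ⟨i, Φ⟩
  let U₀ : Φ.obj.fiber.Elements := Φ.obj.fiber.elementsMk Vp v
  let f' : (CategoryOfElements.π Φ.obj.fiber ⋙ Over.forget (X i)).obj U₀ ⟶ Z := f
  let x : (Φ.obj.map (Over.forget (X i)) J).fiber.obj Z :=
    GrothendieckTopology.Point.ofIsCofiltered.fiberMk
      (p := CategoryOfElements.π Φ.obj.fiber ⋙ Over.forget (X i)) (U := U₀) f'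
  obtain ⟨Y, g', hg', y, hy⟩ := hS ⟨_, hΨ⟩ x
  obtain ⟨U', b, rfl⟩ := GrothendieckTopology.Point.ofIsCofiltered.fiberMk_jointly_surjective y
  have hy' : GrothendieckTopology.Point.ofIsCofiltered.fiberMk.{u}
      (p := CategoryOfElements.π Φ.obj.fiber ⋙ Over.forget (X i)) (b ≫ g') =
      GrothendieckTopology.Point.ofIsCofiltered.fiberMk.{u}
      (p := CategoryOfElements.π Φ.obj.fiber ⋙ Over.forget (X i)) (U := U₀) f' := by
    rw [← GrothendieckTopology.Point.ofIsCofiltered.fiber_map_fiberMk]
    exact hy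
  have hcof : IsCofiltered Φ.obj.fiber.Elements := Φ.obj.isCofiltered
  let W₀ := IsCofiltered.min U' U₀
  let c₀ : W₀ ⟶ U' := IsCofiltered.minToLeft U' U₀
  let d₀ : W₀ ⟶ U₀ := IsCofiltered.minToRight U' U₀
  have h2 : GrothendieckTopology.Point.ofIsCofiltered.fiberMk.{u}
      (p := CategoryOfElements.π Φ.obj.fiber ⋙ Over.forget (X i))
      ((CategoryOfElements.π Φ.obj.fiber ⋙ Over.forget (X i)).map c₀ ≫ b ≫ g') =
      GrothendieckTopology.Point.ofIsCofiltered.fiberMk.{u}
      (p := CategoryOfElements.π Φ.obj.fiber ⋙ Over.forget (X i))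
      ((CategoryOfElements.π Φ.obj.fiber ⋙ Over.forget (X i)).map d₀ ≫ f') := by
    exact (GrothendieckTopology.Point.ofIsCofiltered.fiberMk_map_comp _ c₀ (b ≫ g')).trans
      (hy'.trans (GrothendieckTopology.Point.ofIsCofiltered.fiberMk_map_comp _ d₀ f').symm)
  obtain ⟨W₁, e, he⟩ := GrothendieckTopology.Point.ofIsCofiltered.exists_of_fiberMk_eq_fiberMk h2
  let d : W₁ ⟶ U₀ := e ≫ d₀
  have hdT : T d.1 := by
    rw [Sieve.overEquiv_symm_iff]
    show S (d.1.left ≫ f)
    have e1 : d.1.left ≫ f =
        ((CategoryOfElements.π Φ.obj.fiber ⋙ Over.forget (X i)).map e ≫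
          (CategoryOfElements.π Φ.obj.fiber ⋙ Over.forget (X i)).map c₀ ≫ b) ≫ g' := by
      simp only [Category.assoc]
      rw [he, ← Category.assoc, ← Functor.map_comp]
      rfl
    rw [e1]
    exact S.downward_closed hg' _
  rw [hTg] at hdT
  obtain ⟨_, c, _, ⟨k⟩, hck⟩ := hdT
  refine ⟨k, Φ.obj.fiber.map c W₁.2, ?_⟩
  have := d.2
  rw [← hck] at this
  simpa using this

end Groth.Agent.S6173
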