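import Groth.Statements.S6177
import Groth.Agent.H31.ClosedCompl
import Mathlib.CategoryTheory.Sites.CartesianClosed
import Mathlib.CategoryTheory.Monoidal.Closed.Cartesian
import Mathlib.CategoryTheory.Monoidal.Closed.FunctorToTypes
import Mathlib.CategoryTheory.Monoidal.Closed.Types

set_option autoImplicit false
universe u
open CategoryTheory
open SGA4

namespace Groth.Agent.S6177

open CategoryTheory.Limits in
/-- Topos of sheaves of sets on a small site; U an open, i.e. a subobject of the final object; X_CU the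
pushout of U <- U x X -> X along the two projections: (ii) <=> (iii): the canonical map X -> X_CU is
an isomorphism if and only if the projection U x X -> U is an isomorphism (X belongs to the closed
complement of U); and (i) => (iii): if X is isomorphic to Y_CU for some Y then X belongs to the
closed complement of U ((iii) => (i) with Y = X is then immediate from (ii)). -/
theorem result {C : Type u} [SmallCategory C] (J : GrothendieckTopology C)
    (U : Sheaf J (Type u)) (hU : SGA4.IsOpen U) (X : Sheaf J (Type u)) :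
    (SGA4.closedCompl U X ↔ IsIso (pushout.inr (prod.fst : U ⨯ X ⟶ U) (prod.snd : U ⨯ X ⟶ X))) ∧
    ((∃ Y : Sheaf J (Type u), Nonempty (X ≅ pushout (prod.fst : U ⨯ Y ⟶ U) (prod.snd : U ⨯ Y ⟶ Y))) →
      SGA4.closedCompl U X) := by
  have hsub : IsSubterminal U := by
    have : Mono (terminal.from U) := hU
    exact isSubterminal_of_mono_terminal_from
  have h0 : (MonoidalCategory.tensorLeft U).IsLeftAdjoint :=
    ⟨ihom U, ⟨ihom.adjunction U⟩⟩
  have hL : (prod.functor.obj U).IsLeftAdjoint :=
    @Functor.isLeftAdjoint_of_iso _ _ _ _ _ _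
      (CartesianMonoidalCategory.tensorLeftIsoProd U) h0
  have K : ∀ Y : Sheaf J (Type u),
      IsIso (prod.fst : U ⨯ pushout (prod.fst : U ⨯ Y ⟶ U) (prod.snd : U ⨯ Y ⟶ Y) ⟶ U) :=
    fun Y => Groth.Agent.H31.isIso_fst_prod_pushout hsub Y
  have inv : ∀ {X X' : Sheaf J (Type u)} (e : X ≅ X'),
      SGA4.closedCompl U X' → SGA4.closedCompl U X := by
    intro X X' e h
    have h' : IsIso (prod.fst : U ⨯ X' ⟶ U) := h
    have heq : (prod.fst : U ⨯ X ⟶ U) =
        (prod.mapIso (Iso.refl U) e).hom ≫ (prod.fst : U ⨯ X' ⟶ U) := by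
      simp
    show IsIso (prod.fst : U ⨯ X ⟶ U)
    rw [heq]
    infer_instance
  refine ⟨⟨?_, ?_⟩, ?_⟩
  · intro h
    have : IsIso (prod.fst : U ⨯ X ⟶ U) := h
    infer_instance
  · intro h
    exact inv (asIso (pushout.inr (prod.fst : U ⨯ X ⟶ U) (prod.snd : U ⨯ X ⟶ X))) (K X)
  · rintro ⟨Y, ⟨e⟩⟩
    exact inv e (K Y)

end Groth.Agent.S6177
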