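import Groth.Statements.S6225
import Groth.Agent.H33.PCPush.UnitLevel

set_option autoImplicit false
universe u
open CategoryTheory CategoryTheory.Limits AlgebraicGeometry
attribute [local instance] HasDerivedCategory.standard
open KSix

namespace Groth.Agent.S6225

/-- Last assertion: a morphism f : X ⟶ Y locally of finite type is (-1)-pseudo-coherent (O_X placed in
degree 0 is (-1)-pseudo-coherent relative to f, in chart form) if and only if f is locally of finite
presentation. -/
theorem result {X Y : Scheme.{u}} (f : X ⟶ Y) [LocallyOfFiniteType f] :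
    DerSch.IsNPseudoCoherent f (-1) ↔ LocallyOfFinitePresentation f := by
  unfold DerSch.IsNPseudoCoherent
  rw [Groth.Agent.H33.PCPush.isPseudoCoherentRel_iff_forall_chart]
  constructor
  · intro H
    refine ⟨fun {V} hV {U} hU h => ?_⟩
    obtain ⟨n, φ, hφ⟩ := Groth.Agent.H33.PCPush.exists_isChart_of_finiteType f U V h
      (LocallyOfFiniteType.finiteType_appLE f hV hU h)
    have hker := (Groth.Agent.H33.PCPush.chartPC_unit_negOne_iff U hU V φ hφ.1).1
      (H U hU V hV h n φ hφ)
    rw [← hφ.2]
    refine (RingHom.FinitePresentation.of_surjective φ hφ.1 hker).comp ?_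
    have h0 : (algebraMap Γ(Y, V) (MvPolynomial (Fin n) Γ(Y, V))).FinitePresentation :=
      RingHom.finitePresentation_algebraMap.2 inferInstance
    exact h0
  · intro H U hU V hV h n φ hφ
    rw [Groth.Agent.H33.PCPush.chartPC_unit_negOne_iff U hU V φ hφ.1]
    have hfp : (f.appLE V U h).hom.FinitePresentation :=
      LocallyOfFinitePresentation.finitePresentation_appLE f hV hU h
    let _ : Algebra Γ(Y, V) Γ(X, U) := (f.appLE V U h).hom.toAlgebra
    have : Algebra.FinitePresentation Γ(Y, V) Γ(X, U) := hfp
    let φ' : MvPolynomial (Fin n) Γ(Y, V) →ₐ[Γ(Y, V)] Γ(X, U) :=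
      { φ with commutes' := fun r => congrArg (fun g => g r) hφ.2 }
    exact Algebra.FinitePresentation.ker_fG_of_surjective φ' hφ.1

end Groth.Agent.S6225
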