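import Groth.Statements.S6239

set_option autoImplicit false
universe u
open CategoryTheory CategoryTheory.Limits AlgebraicGeometry
attribute [local instance] HasDerivedCategory.standard
open KSix

namespace Groth.Agent.S6239

theorem torAmp_mono {A : Type u} [CommRing A] {a b a' b' : ℤ} {K : Dual.D A}
    (h : DRing.HasTorAmplitudeIn A a b K) (ha : a' ≤ a) (hb : b ≤ b') :
    DRing.HasTorAmplitudeIn A a' b' K := by
  obtain ⟨E, hv, hfl, hiso⟩ := h
  refine ⟨E, fun i hi => hv i ?_, hfl, hiso⟩
  rcases hi with hi | hi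
  · left; omega
  · right; omega

/-- Let f : X ⟶ Y be a morphism with X quasi-compact and F a cochain complex of O_X-modules which is
perfect relative to f (pseudo-coherent relative to f in chart form, and locally on X of finite
stalkwise tor amplitude over the local rings of Y). Then F has finite perfect amplitude relative to
f: one interval [a, b] works at every point of X. -/
theorem result {X Y : Scheme.{u}} [CompactSpace X] (f : X ⟶ Y)
    (F : CochainComplex X.Modules ℤ) (hF : DerSch.IsPerfectRel f F) :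
    DerSch.HasFinitePerfAmplitudeRel f F := by
  obtain ⟨hpc, hloc⟩ := hF
  choose V a b hxV hV using hloc
  obtain ⟨t, ht⟩ := isCompact_univ.elim_finite_subcover (fun x => ((V x : X.Opens) : Set X))
    (fun x => (V x).2) (fun x _ => Set.mem_iUnion.2 ⟨x, hxV x⟩)
  obtain ⟨Bd, hBd⟩ := (t.image b).exists_le
  obtain ⟨Ad, hAd⟩ := (t.image (fun x => -a x)).exists_le
  refine ⟨-Ad, Bd, hpc, ?_⟩
  intro x
  obtain ⟨y, hy⟩ := Set.mem_iUnion.1 (ht (Set.mem_univ x))
  obtain ⟨hyt, hxy⟩ := Set.mem_iUnion.1 hy
  have h1 := hV y x hxy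
  refine torAmp_mono h1 ?_ ?_
  · have := hAd (-a y) (Finset.mem_image.2 ⟨y, hyt, rfl⟩)
    omega
  · exact hBd (b y) (Finset.mem_image.2 ⟨y, hyt, rfl⟩)

end Groth.Agent.S6239
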