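import Groth.Statements.S6263
import Mathlib

set_option autoImplicit false
universe u
open CAlg

namespace Groth.Agent.S6263

/-- For a ring map R → S and a finite S-module N which is flat as an R-module, generalizations lift
along the map from the support of N (a subset of Spec S) to Spec R: if p ≤ p' are primes of R and q'
is a prime of S in the support of N whose inverse image in R is p', then some prime q ≤ q' of S lies
in the support of N and has inverse image p. -/
theorem result {R S : Type u} [CommRing R] [CommRing S] [Algebra R S] (N : Type u) [AddCommGroup N] [Module S N] [Module R N] [IsScalarTower R S N] [Module.Finite S N] [Module.Flat R N] (p p' : Ideal R) [p.IsPrime] [p'.IsPrime] (hle : p ≤ p') (q' : PrimeSpectrum S) (hq' : q' ∈ Module.support S N) (hover : q'.asIdeal.under R = p') : ∃ q : PrimeSpectrum S, q ≤ q' ∧ q ∈ Module.support S N ∧ q.asIdeal.under R = p := by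
  classical
  set I : Ideal S := p.map (algebraMap R S) with hI
  have hq'Q : q' ∈ Module.support S (N ⧸ (I • (⊤ : Submodule S N))) := by
    rw [Module.support_quotient]
    refine ⟨hq', ?_⟩
    rw [PrimeSpectrum.mem_zeroLocus, SetLike.coe_subset_coe, Ideal.map_le_iff_le_comap]
    have : q'.asIdeal.comap (algebraMap R S) = p' := hover
    rw [this]
    exact hle
  obtain ⟨m, hm⟩ := Module.mem_support_iff_exists_annihilator.mp hq'Q
  have key : ((I • (⊤ : Submodule S N)).restrictScalars R) = p • (⊤ : Submodule R N) := by
    rw [Ideal.smul_restrictScalars]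
    simp
  have tf : ∀ r : R, r ∉ p → ∀ y : N ⧸ (I • (⊤ : Submodule S N)),
      (algebraMap R S r) • y = 0 → y = 0 := by
    intro r hr y hy
    obtain ⟨n, rfl⟩ := Submodule.Quotient.mk_surjective _ y
    rw [← Submodule.Quotient.mk_smul, Submodule.Quotient.mk_eq_zero] at hy
    rw [Submodule.Quotient.mk_eq_zero]
    have hy' : r • n ∈ p • (⊤ : Submodule R N) := by
      rw [← key]
      simpa [algebraMap_smul] using hy
    suffices n ∈ p • (⊤ : Submodule R N) by
      rw [← key] at this
      exact this
    let e := TensorProduct.tensorQuotEquivQuotSMul N p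
    have hinj : Function.Injective ((LinearMap.lsmul R (R ⧸ p) r).lTensor N) := by
      apply Module.Flat.lTensor_preserves_injective_linearMap
      intro a b hab
      obtain ⟨a, rfl⟩ := Ideal.Quotient.mk_surjective a
      obtain ⟨b, rfl⟩ := Ideal.Quotient.mk_surjective b
      have hab' : Ideal.Quotient.mk p (r * a) = Ideal.Quotient.mk p (r * b) := by
        simpa [Algebra.smul_def] using hab
      rw [Ideal.Quotient.eq, ← mul_sub] at hab'
      rw [Ideal.Quotient.eq]
      exact (Ideal.IsPrime.mem_or_mem inferInstance hab').resolve_left hr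
    have h1 : (LinearMap.lsmul R (R ⧸ p) r).lTensor N (n ⊗ₜ[R] (1 : R ⧸ p)) = 0 := by
      rw [LinearMap.lTensor_tmul, LinearMap.lsmul_apply, ← TensorProduct.smul_tmul]
      have h : (r • n) ⊗ₜ[R] (1 : R ⧸ p) = e.symm (Submodule.Quotient.mk (r • n)) := rfl
      rw [h, (Submodule.Quotient.mk_eq_zero _).mpr hy', map_zero]
    have h2 : n ⊗ₜ[R] (1 : R ⧸ p) = 0 := hinj (by rw [h1, map_zero])
    have h3 : e (n ⊗ₜ[R] (1 : R ⧸ p)) = 0 := by rw [h2, map_zero]
    have h4 : e (n ⊗ₜ[R] (1 : R ⧸ p)) = Submodule.Quotient.mk n := by
      have := TensorProduct.tensorQuotEquivQuotSMul_tmul_mk p n 1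
      simpa using this
    rw [h4, Submodule.Quotient.mk_eq_zero] at h3
    exact h3
  let T : Submonoid S := q'.asIdeal.primeCompl ⊔ (p.primeCompl.map (algebraMap R S))
  have hdisj : Disjoint ((Submodule.span S {m}).annihilator : Set S) T := by
    rw [Set.disjoint_left]
    intro t ht htT
    obtain ⟨s, hs, r', ⟨r, hr, rfl⟩, rfl⟩ := Submonoid.mem_sup.mp htT
    have h0 : (s * algebraMap R S r) • m = 0 := by
      rw [SetLike.mem_coe, Submodule.mem_annihilator_span_singleton] at ht
      exact ht
    have h1 : algebraMap R S r • (s • m) = 0 := by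
      rw [smul_smul, mul_comm]
      exact h0
    have h2 := tf r hr (s • m) h1
    exact hs (hm (by rw [Submodule.mem_annihilator_span_singleton]; exact h2))
  obtain ⟨q, hqprime, hle_q, hqdisj⟩ := Ideal.exists_le_prime_disjoint _ T hdisj
  refine ⟨⟨q, hqprime⟩, ?_, ?_, ?_⟩
  · intro x hx
    by_contra hx'
    exact Set.disjoint_left.mp hqdisj hx (Submonoid.mem_sup_left hx')
  · have : (⟨q, hqprime⟩ : PrimeSpectrum S) ∈
        Module.support S (N ⧸ (I • (⊤ : Submodule S N))) :=
      Module.mem_support_iff_exists_annihilator.mpr ⟨m, hle_q⟩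
    exact Module.support_subset_of_surjective _ (Submodule.mkQ_surjective _) this
  · apply le_antisymm
    · intro r hr
      by_contra hrp
      exact Set.disjoint_left.mp hqdisj hr (Submonoid.mem_sup_right ⟨r, hrp, rfl⟩)
    · intro r hr
      show algebraMap R S r ∈ q
      apply hle_q
      rw [Submodule.mem_annihilator_span_singleton]
      obtain ⟨n, rfl⟩ := Submodule.Quotient.mk_surjective _ m
      rw [← Submodule.Quotient.mk_smul, Submodule.Quotient.mk_eq_zero]
      exact Submodule.smul_mem_smul (Ideal.mem_map_of_mem _ hr) trivial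

end Groth.Agent.S6263
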