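import Groth.Statements.S6264
import Groth.Agent.H31.LocAtPrime

set_option autoImplicit false
universe u
open CAlg

namespace Groth.Agent.S6264

/-- Let R → S be a ring map with the going-up property and p a prime of R such that exactly one prime q
of S lies over p. Then the localization S_p of S at the image of R - p is a localization of S at q,
i.e. S_p = S_q. -/
theorem result {R S : Type u} [CommRing R] [CommRing S] [Algebra R S] [Algebra.HasGoingUp R S] (p : Ideal R) [p.IsPrime] (q : Ideal S) [q.IsPrime] [q.LiesOver p] (huniq : ∀ q' : Ideal S, q'.IsPrime → q'.under R = p → q' = q) : IsLocalization.AtPrime (Localization (Algebra.algebraMapSubmonoid S p.primeCompl)) q := by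
  apply Groth.Agent.H31.isLocalization_atPrime_of_forall_le p q
  intro q'' hq'' hle
  have : q''.LiesOver (q''.under R) := ⟨rfl⟩
  have : (q''.under R).IsPrime := Ideal.comap_isPrime _ _
  obtain ⟨Q, hQ, hQp, hQo⟩ := Ideal.exists_ideal_ge_liesOver_of_le (p := q''.under R) (q := p) q'' hle
  have : Q = q := huniq Q hQp (hQo.over).symm
  rw [← this]
  exact hQ

end Groth.Agent.S6264
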