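import Groth.Statements.S6265
import Groth.Agent.H31.LocAtPrime

set_option autoImplicit false
universe u
open CAlg

namespace Groth.Agent.S6265

/-- Let R → S be a ring map with the going-down property such that over every prime of R lies at most
one prime of S, and let p be a prime of R and q a prime of S above it. Then the localization S_p of
S at the image of R - p is a localization of S at q, i.e. S_p = S_q. -/
theorem result {R S : Type u} [CommRing R] [CommRing S] [Algebra R S] [Algebra.HasGoingDown R S] (hinj : ∀ q₁ q₂ : Ideal S, q₁.IsPrime → q₂.IsPrime → q₁.under R = q₂.under R → q₁ = q₂) (p : Ideal R) [p.IsPrime] (q : Ideal S) [q.IsPrime] [q.LiesOver p] : IsLocalization.AtPrime (Localization (Algebra.algebraMapSubmonoid S p.primeCompl)) q := by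
  apply Groth.Agent.H31.isLocalization_atPrime_of_forall_le p q
  intro q'' hq'' hle
  have : (q''.under R).IsPrime := Ideal.comap_isPrime _ _
  obtain ⟨P, hP, hPp, hPo⟩ := Ideal.exists_ideal_le_liesOver_of_le (p := q''.under R) (q := p) q hle
  have : P = q'' := hinj P q'' hPp hq'' (hPo.over).symm
  rw [← this]
  exact hP

end Groth.Agent.S6265
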