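import Groth.Statements.S6267
import Groth.Agent.H31.Pure

set_option autoImplicit false
universe u
open CAlg

namespace Groth.Agent.S6267

/-- Let R be a ring and f : M → M' a map of R-modules with M' flat. Then f is universally injective
exactly when, for each finitely generated ideal I of R, the induced map M ⊗ R/I → M' ⊗ R/I (that is,
M/IM → M'/IM') is injective. -/
theorem result {R : Type u} [CommRing R] {M M' : Type u} [AddCommGroup M] [Module R M] [AddCommGroup M'] [Module R M'] [Module.Flat R M'] (f : M →ₗ[R] M') : CAlgX.UniversallyInjective R f ↔ ∀ I : Ideal R, I.FG → Function.Injective (f.rTensor (R ⧸ I)) := by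
  constructor
  · intro h I _
    exact h (R ⧸ I)
  · intro H
    -- Step A: f is injective
    have hf : Function.Injective f := by
      rw [injective_iff_map_eq_zero]
      intro m hm
      have h0 := H ⊥ Submodule.fg_bot
      have h1 : (f.rTensor (R ⧸ (⊥ : Ideal R))) (m ⊗ₜ[R] (1 : R ⧸ (⊥ : Ideal R))) = 0 := by
        rw [LinearMap.rTensor_tmul, hm, TensorProduct.zero_tmul]
      have h2 : m ⊗ₜ[R] (1 : R ⧸ (⊥ : Ideal R)) = 0 := by
        apply h0
        rw [h1, map_zero]
      let e : (R ⧸ (⊥ : Ideal R)) ≃ₗ[R] R := Submodule.quotEquivOfEqBot (⊥ : Ideal R) rfl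
      have h3 := congrArg (fun z => TensorProduct.rid R M ((e.toLinearMap.lTensor M) z)) h2
      simp only [LinearMap.lTensor_tmul, map_zero] at h3
      have he : e (1 : R ⧸ (⊥ : Ideal R)) = 1 := by
        have : (1 : R ⧸ (⊥ : Ideal R)) = Submodule.Quotient.mk (1 : R) := rfl
        rw [this]
        exact Submodule.quotEquivOfEqBot_apply_mk (⊥ : Ideal R) rfl 1
      rw [LinearEquiv.coe_coe, he, TensorProduct.rid_tmul, one_smul] at h3
      exact h3
    -- Step B: the cokernel is flat
    let g : M' →ₗ[R] (M' ⧸ LinearMap.range f) := (LinearMap.range f).mkQ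
    have hg : Function.Surjective g := Submodule.mkQ_surjective _
    have hexact : Function.Exact f g := by
      intro x
      rw [Submodule.mkQ_apply, Submodule.Quotient.mk_eq_zero]
      rfl
    have : Module.Flat R (M' ⧸ LinearMap.range f) := by
      rw [Module.Flat.iff_lTensor_injective]
      intro I hI
      refine Groth.Agent.H31.lTensor_injective_of_chase f g hexact hg I.subtype I.mkQ
        (LinearMap.exact_subtype_mkQ I) (Submodule.mkQ_surjective I) ?_ (H I hI)
      exact Module.Flat.lTensor_preserves_injective_linearMap _ (Submodule.injective_subtype I)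
    -- Step C
    intro Q _ _
    exact Groth.Agent.H31.rTensor_injective_of_flat_coker f g hexact hg hf Q

end Groth.Agent.S6267
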