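import Groth.Statements.S6268

set_option autoImplicit false
universe u
open CAlg

namespace Groth.Agent.S6268

open TensorProduct in
theorem mk_one_injective {R S : Type u} [CommRing R] [CommRing S] [Algebra R S]
    (hS : CAlgX.UniversallyInjective R (Algebra.linearMap R S)) (Q : Type u) [AddCommGroup Q]
    [Module R Q] : Function.Injective (fun q : Q => (1 : S) ⊗ₜ[R] q) := by
  have h := hS Q
  have heq : (fun q : Q => (1 : S) ⊗ₜ[R] q) =
      ((Algebra.linearMap R S).rTensor Q) ∘ (TensorProduct.lid R Q).symm := by
    funext q
    simp
  rw [heq]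
  exact h.comp (TensorProduct.lid R Q).symm.injective

/-- Suppose the structure map R → S of an R-algebra S is universally injective as an R-linear map. Then
tensoring with S detects injectivity and surjectivity of R-linear maps (and hence reflects
isomorphisms): for an R-linear g : M → N, if S ⊗ g is injective then so is g, and if S ⊗ g is
surjective then so is g. -/
theorem result {R S : Type u} [CommRing R] [CommRing S] [Algebra R S] (hS : CAlgX.UniversallyInjective R (Algebra.linearMap R S)) {M N : Type u} [AddCommGroup M] [Module R M] [AddCommGroup N] [Module R N] (g : M →ₗ[R] N) : (Function.Injective (g.lTensor S) → Function.Injective g) ∧ (Function.Surjective (g.lTensor S) → Function.Surjective g) := by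
  constructor
  · intro hinj
    rw [injective_iff_map_eq_zero]
    intro m hm
    apply mk_one_injective hS M
    show (1 : S) ⊗ₜ[R] m = (1 : S) ⊗ₜ[R] (0 : M)
    rw [TensorProduct.tmul_zero]
    apply hinj
    rw [LinearMap.lTensor_tmul, hm, TensorProduct.tmul_zero, map_zero]
  · intro hsurj
    let C := N ⧸ LinearMap.range g
    let π : N →ₗ[R] C := (LinearMap.range g).mkQ
    have hπ : Function.Surjective π := Submodule.mkQ_surjective _
    have hzero : ∀ z : TensorProduct R S C, z = 0 := by
      intro z
      obtain ⟨y, rfl⟩ := LinearMap.lTensor_surjective S hπ z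
      obtain ⟨x, rfl⟩ := hsurj y
      rw [← LinearMap.comp_apply, ← LinearMap.lTensor_comp]
      have : π ∘ₗ g = 0 := by
        ext m
        show (LinearMap.range g).mkQ (g m) = 0
        rw [Submodule.mkQ_apply, Submodule.Quotient.mk_eq_zero]
        exact LinearMap.mem_range_self g m
      rw [this, LinearMap.lTensor_zero, LinearMap.zero_apply]
    have hC : ∀ c : C, c = 0 := by
      intro c
      apply mk_one_injective hS C
      show (1 : S) ⊗ₜ[R] c = (1 : S) ⊗ₜ[R] (0 : C)
      rw [hzero ((1 : S) ⊗ₜ[R] c), hzero ((1 : S) ⊗ₜ[R] (0 : C))]
    intro n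
    have := hC (π n)
    rw [Submodule.mkQ_apply, Submodule.Quotient.mk_eq_zero] at this
    exact this

end Groth.Agent.S6268
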