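import Groth.Statements.S6275
import Mathlib.RingTheory.Noetherian.Basic

set_option autoImplicit false
universe u
open CAlg

namespace Groth.Agent.S6275

/-- Let R be a Noetherian ring and p ⊆ R a prime. Then there is f ∈ R, f ∉ p, such that R_f → R_p is
injective; equivalently every x ∈ R mapping to zero in R_p maps to zero in R_f. (The cases of a
domain and of a reduced ring with finitely many minimal primes are not included here.) -/
theorem result {R : Type u} [CommRing R] [IsNoetherianRing R] (p : Ideal R) [p.IsPrime] : ∃ f : R, f ∉ p ∧ ∀ x : R, algebraMap R (Localization.AtPrime p) x = 0 → algebraMap R (Localization.Away f) x = 0 := by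
  classical
  let I : Ideal R := RingHom.ker (algebraMap R (Localization.AtPrime p))
  obtain ⟨T, hT⟩ := (IsNoetherian.noetherian I : I.FG)
  have hex : ∀ x : R, ∃ s : R, s ∉ p ∧ (x ∈ I → s * x = 0) := by
    intro x
    by_cases hx : x ∈ I
    · obtain ⟨s, hs⟩ := (IsLocalization.map_eq_zero_iff p.primeCompl (Localization.AtPrime p) x).1 hx
      exact ⟨s, s.2, fun _ => hs⟩
    · exact ⟨1, fun h => (Ideal.IsPrime.ne_top ‹_›) ((Ideal.eq_top_iff_one p).2 h), fun h => (hx h).elim⟩
  choose c hcp hc using hex
  refine ⟨∏ x ∈ T, c x, ?_, ?_⟩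
  · have : (∏ x ∈ T, c x) ∈ p.primeCompl := Submonoid.prod_mem _ (fun x _ => hcp x)
    exact this
  · intro x hx
    have hxI : x ∈ I := hx
    have key : ∀ y ∈ I, (∏ x ∈ T, c x) * y = 0 := by
      intro y hy
      rw [← hT] at hy
      induction hy using Submodule.span_induction with
      | mem z hz =>
        have hzI : z ∈ I := by rw [← hT]; exact Submodule.subset_span hz
        obtain ⟨d, hd⟩ := Finset.dvd_prod_of_mem c hz
        rw [hd, mul_comm (c z), mul_assoc, hc z hzI, mul_zero]
      | zero => simp
      | add y z _ _ hy hz => rw [mul_add, hy, hz, add_zero]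
      | smul r y _ hy => rw [smul_eq_mul, mul_left_comm, hy, mul_zero]
    rw [IsLocalization.map_eq_zero_iff (Submonoid.powers (∏ x ∈ T, c x))]
    exact ⟨⟨_, Submonoid.mem_powers _⟩, key x hxI⟩

end Groth.Agent.S6275
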