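import Groth.Statements.S6276
import Mathlib

set_option autoImplicit false
universe u
open scoped TensorProduct
open CAlg

namespace Groth.Agent.S6276

/-- Let k be a field, R a Noetherian k-algebra and K/k a finitely generated field extension. Then K ⊗ₖ R
is a Noetherian ring. -/
theorem result (k : Type u) [Field k] (R : Type u) [CommRing R] [Algebra k R] [IsNoetherianRing R] (K : Type u) [Field K] [Algebra k K] (hK : ∃ s : Finset K, IntermediateField.adjoin k (s : Set K) = ⊤) : IsNoetherianRing (K ⊗[k] R) := by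
  obtain ⟨s, hs⟩ := hK
  let B : Subalgebra k K := Algebra.adjoin k (s : Set K)
  have hBft : Algebra.FiniteType k B := by
    rw [← Subalgebra.fg_iff_finiteType]
    exact ⟨s, rfl⟩
  have hfrac : IsFractionRing B K := by
    refine IsFractionRing.of_field _ _ fun x => ?_
    have hx : x ∈ IntermediateField.adjoin k (s : Set K) := by rw [hs]; trivial
    obtain ⟨a, ha, b, hb, eq⟩ := IntermediateField.mem_adjoin_iff_div.mp hx
    exact ⟨⟨a, ha⟩, ⟨b, hb⟩, eq⟩
  have hN1 : IsNoetherianRing (R ⊗[k] B) := Algebra.FiniteType.isNoetherianRing R (R ⊗[k] B)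
  have hN2 : IsNoetherianRing (B ⊗[k] R) :=
    isNoetherianRing_of_ringEquiv _ (Algebra.TensorProduct.comm k R B).toRingEquiv
  let _ : Algebra (B ⊗[k] R) (K ⊗[k] R) :=
    (Algebra.TensorProduct.map (IsScalarTower.toAlgHom k B K) (AlgHom.id k R)).toRingHom.toAlgebra
  have hst : IsScalarTower B (B ⊗[k] R) (K ⊗[k] R) := by
    refine IsScalarTower.of_algebraMap_eq' (R := B) (S := B ⊗[k] R) (A := K ⊗[k] R) ?_
    ext x
    simp [RingHom.algebraMap_toAlgebra]
    rfl
  have hloc : IsLocalization (Algebra.algebraMapSubmonoid (B ⊗[k] R) (nonZeroDivisors B))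
      (K ⊗[k] R) := by
    refine @IsLocalization.tensorProduct_tensorProduct k R _ _ _ B _ _ (nonZeroDivisors B) K
      _ _ _ _ _ _ hst ?_
    ext x
    simp [RingHom.algebraMap_toAlgebra]
  exact IsLocalization.isNoetherianRing
    (Algebra.algebraMapSubmonoid (B ⊗[k] R) (nonZeroDivisors B)) (K ⊗[k] R) hN2

end Groth.Agent.S6276
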