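import Groth.Statements.S6278

set_option autoImplicit false
universe u
open CAlg

namespace Groth.Agent.S6278

theorem result (R : Type u) [CommRing R] (hR : EGA4.IsNormalRing R) : IsIntegrallyClosedIn R (FractionRing R) := by
  rw [isIntegrallyClosedIn_iff]
  refine ⟨IsLocalization.injective (FractionRing R) le_rfl, ?_⟩
  intro x hx
  obtain ⟨a, s, rfl⟩ := IsLocalization.exists_mk'_eq (nonZeroDivisors R) x
  set I : Ideal R := (Ideal.span {(s : R)}).colon {a} with hI
  have hmem : ∀ f : R, f ∈ I ↔ ∃ r, r * (s : R) = f * a := by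
    intro f
    rw [hI, Submodule.mem_colon_singleton, smul_eq_mul]
    exact Ideal.mem_span_singleton'
  have htop : I = ⊤ := by
    by_contra hne
    obtain ⟨m, hm, hIm⟩ := Ideal.exists_le_maximal I hne
    have : m.IsPrime := hm.isPrime
    obtain ⟨hdom, hic⟩ := hR m
    let Rm := Localization.AtPrime m
    let K := FractionRing Rm
    let g : R →+* K := (algebraMap Rm K).comp (algebraMap R Rm)
    have hinjK : Function.Injective (algebraMap Rm K) := IsFractionRing.injective Rm K
    have hg : ∀ t : nonZeroDivisors R, IsUnit (g t) := by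
      intro t
      rw [isUnit_iff_ne_zero]
      intro h0
      have h1 : algebraMap R Rm (t : R) = 0 := by
        apply hinjK
        rw [map_zero]; exact h0
      rw [IsLocalization.map_eq_zero_iff m.primeCompl] at h1
      obtain ⟨c, hc⟩ := h1
      have : (c : R) = 0 := by
        have := t.2
        rw [mem_nonZeroDivisors_iff] at this
        exact this.2 _ hc
      exact c.2 (this ▸ m.zero_mem)
    let φ : FractionRing R →+* K := IsLocalization.lift (M := nonZeroDivisors R) hg
    have hφ : ∀ r : R, φ (algebraMap R (FractionRing R) r) = g r := fun r => IsLocalization.lift_eq hg r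
    set x := IsLocalization.mk' (FractionRing R) a s with hxdef
    -- integrality of φ x over Rm
    have hint : IsIntegral Rm (φ x) := by
      obtain ⟨P, hP, hPx⟩ := hx
      refine ⟨P.map (algebraMap R Rm), hP.map _, ?_⟩
      rw [Polynomial.eval₂_map]
      have h2 := congrArg φ hPx
      rw [Polynomial.hom_eval₂, map_zero] at h2
      have h3 : φ.comp (algebraMap R (FractionRing R)) = g := RingHom.ext hφ
      rw [h3] at h2
      exact h2
    obtain ⟨z, hz⟩ := (IsIntegrallyClosed.isIntegral_iff (R := Rm) (K := K)).1 hint
    obtain ⟨b, t, rfl⟩ := IsLocalization.exists_mk'_eq m.primeCompl z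
    have h4 : φ x * g s = g a := by
      rw [← hφ, ← hφ, ← map_mul, hxdef, IsLocalization.mk'_spec]
    have h5 : IsLocalization.mk' Rm b t * algebraMap R Rm s = algebraMap R Rm a := by
      apply hinjK
      rw [map_mul, hz]
      exact h4
    have h6 : algebraMap R Rm (b * s) = algebraMap R Rm (a * t) := by
      have h8 := IsLocalization.mk'_spec Rm b t
      rw [map_mul, map_mul, ← h5, ← h8]
      ring
    obtain ⟨c, hc⟩ := (IsLocalization.eq_iff_exists m.primeCompl Rm).1 h6
    have h7 : (c : R) * t ∈ I := by
      rw [hmem]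
      refine ⟨c * b, ?_⟩
      calc (c : R) * b * s = c * (b * s) := by ring
        _ = c * (a * t) := hc
        _ = c * t * a := by ring
    exact (m.primeCompl.mul_mem c.2 t.2) (hIm h7)
  have h1 : (1 : R) ∈ I := by rw [htop]; trivial
  obtain ⟨r, hr⟩ := (hmem 1).1 h1
  refine ⟨r, ?_⟩
  rw [eq_comm, IsLocalization.mk'_eq_iff_eq_mul, ← map_mul, hr, one_mul]

end Groth.Agent.S6278
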