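import Groth.Statements.S6279
import Groth.Agent.H31.NormalRing

set_option autoImplicit false
universe u
open CAlg

namespace Groth.Agent.S6279

theorem result {ι : Type u} [Finite ι] (A : ι → Type u) [∀ i, CommRing (A i)] (hA : ∀ i, EGA4.IsNormalRing (A i)) : EGA4.IsNormalRing (∀ i, A i) := by
  classical
  intro p hp
  obtain ⟨i, q, hq⟩ := PrimeSpectrum.exists_comap_evalRingHom_eq (⟨p, hp⟩ : PrimeSpectrum (∀ i, A i))
  have hpq : p = q.asIdeal.comap (Pi.evalRingHom A i) := by
    have := congrArg PrimeSpectrum.asIdeal hq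
    exact this.symm
  subst hpq
  let _ : Algebra (∀ j, A j) (Localization.AtPrime q.asIdeal) :=
    ((algebraMap (A i) (Localization.AtPrime q.asIdeal)).comp (Pi.evalRingHom A i)).toAlgebra
  have hloc : IsLocalization.AtPrime (Localization.AtPrime q.asIdeal)
      (q.asIdeal.comap (Pi.evalRingHom A i)) :=
    Groth.Agent.H31.pi_isLocalization_atPrime A i q.asIdeal
  let e : Localization.AtPrime q.asIdeal ≃+*
      Localization.AtPrime (q.asIdeal.comap (Pi.evalRingHom A i)) :=
    (IsLocalization.algEquiv (q.asIdeal.comap (Pi.evalRingHom A i)).primeCompl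
      (Localization.AtPrime q.asIdeal)
      (Localization.AtPrime (q.asIdeal.comap (Pi.evalRingHom A i)))).toRingEquiv
  exact Groth.Agent.H31.isDomain_isIntegrallyClosed_of_ringEquiv e (hA i q.asIdeal)

end Groth.Agent.S6279
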