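import Groth.Statements.S6282
import Mathlib.LinearAlgebra.TensorProduct.Tower

set_option autoImplicit false
universe u
open CAlg

namespace Groth.Agent.S6282

open TensorProduct

section
variable {R S S' : Type u} [CommRing R] [CommRing S] [CommRing S'] [Algebra R S] [Algebra R S']
  [Algebra S S'] [IsScalarTower R S S'] (M : Type u) [AddCommGroup M] [Module S M] [Module R M]
  [IsScalarTower R S M]

theorem square {N N' : Type u} [AddCommGroup N] [Module R N] [AddCommGroup N'] [Module R N']
    (f : N →ₗ[R] N') (x : (S' ⊗[S] M) ⊗[R] N) :
    AlgebraTensorModule.assoc R S S' S' M N' (f.lTensor (S' ⊗[S] M) x) =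
      (AlgebraTensorModule.lTensor S M f).lTensor S' (AlgebraTensorModule.assoc R S S' S' M N x) := by
  induction x using TensorProduct.induction_on with
  | zero => simp
  | add x y hx hy => simp only [map_add, hx, hy]
  | tmul y n =>
    induction y using TensorProduct.induction_on with
    | zero => simp
    | add y z hy hz =>
      simp only [add_tmul, map_add, hy, hz]
    | tmul s m => rfl

theorem inj_iff {N N' : Type u} [AddCommGroup N] [Module R N] [AddCommGroup N'] [Module R N']
    (f : N →ₗ[R] N') :
    Function.Injective (f.lTensor (S' ⊗[S] M)) ↔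
      Function.Injective ((AlgebraTensorModule.lTensor S M f).lTensor S') := by
  have hsq : (AlgebraTensorModule.assoc R S S' S' M N') ∘ (f.lTensor (S' ⊗[S] M)) =
      ((AlgebraTensorModule.lTensor S M f).lTensor S') ∘ (AlgebraTensorModule.assoc R S S' S' M N) :=
    funext (square M f)
  constructor
  · intro h
    have h2 : Function.Injective ((AlgebraTensorModule.assoc R S S' S' M N') ∘
        (f.lTensor (S' ⊗[S] M))) :=
      (AlgebraTensorModule.assoc R S S' S' M N').injective.comp h
    rw [hsq] at h2
    intro a b hab
    obtain ⟨a', rfl⟩ := (AlgebraTensorModule.assoc R S S' S' M N).surjective a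
    obtain ⟨b', rfl⟩ := (AlgebraTensorModule.assoc R S S' S' M N).surjective b
    exact congrArg _ (h2 hab)
  · intro h
    have h2 : Function.Injective (((AlgebraTensorModule.lTensor S M f).lTensor S') ∘
        (AlgebraTensorModule.assoc R S S' S' M N)) :=
      h.comp (AlgebraTensorModule.assoc R S S' S' M N).injective
    rw [← hsq] at h2
    exact Function.Injective.of_comp h2

end

theorem result {R S S' : Type u} [CommRing R] [CommRing S] [CommRing S'] [Algebra R S] [Algebra R S'] [Algebra S S'] [IsScalarTower R S S'] (M : Type u) [AddCommGroup M] [Module S M] [Module R M] [IsScalarTower R S M] : ([Module.Flat S S'] → Module.Flat R M → Module.Flat R (S' ⊗[S] M)) ∧ ([Module.FaithfullyFlat S S'] → (Module.Flat R M ↔ Module.Flat R (S' ⊗[S] M))) := by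
  have part1 : ∀ [Module.Flat S S'], Module.Flat R M → Module.Flat R (S' ⊗[S] M) := by
    intro _ hM
    rw [Module.Flat.iff_lTensor_preserves_injective_linearMap]
    intro N N' _ _ _ _ f hf
    rw [inj_iff M f]
    apply Module.Flat.lTensor_preserves_injective_linearMap
    exact Module.Flat.lTensor_preserves_injective_linearMap (M := M) f hf
  refine ⟨part1, ?_⟩
  intro hff
  refine ⟨fun h => part1 h, fun h => ?_⟩
  rw [Module.Flat.iff_lTensor_preserves_injective_linearMap]
  intro N N' _ _ _ _ f hf
  have h1 : Function.Injective (f.lTensor (S' ⊗[S] M)) :=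
    Module.Flat.lTensor_preserves_injective_linearMap f hf
  rw [inj_iff M f, Module.FaithfullyFlat.lTensor_injective_iff_injective] at h1
  exact h1

end Groth.Agent.S6282
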