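import Groth.Statements.S6285
import Mathlib

set_option autoImplicit false
universe u
open CAlg

namespace Groth.Agent.S6285

/-- For a ring R and an R-module M of finite presentation, the support Supp(M) is closed in Spec(R), and
its complement in Spec(R) is quasi-compact. -/
theorem result (R : Type u) [CommRing R] (M : Type u) [AddCommGroup M] [Module R M] [Module.FinitePresentation R M] : IsClosed (Module.support R M) ∧ IsCompact (Module.support R M)ᶜ := by
  classical
  obtain ⟨n, m, f, g, hf, hfg⟩ := Module.FinitePresentation.exists_fin' R M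
  let a : Fin m → (Fin n → R) := fun j => g (Pi.single j 1)
  have hg : ∀ w : Fin m → R, g w = ∑ j, w j • a j := by
    intro w
    rw [LinearMap.pi_apply_eq_sum_univ g w]
    refine Finset.sum_congr rfl fun j _ => ?_
    congr 2
    ext k
    simp [Pi.single_apply, eq_comm]
  let d : (Fin n → Fin m) → R := fun σ => Matrix.det (Matrix.of fun i => a (σ i))
  have claim1 : ∀ σ (x : M), d σ • x = 0 := by
    intro σ x
    obtain ⟨v, rfl⟩ := hf x
    rw [← map_smul]
    rw [hfg]
    -- d σ • v ∈ range g
    set B : Matrix (Fin n) (Fin n) R := Matrix.transpose (Matrix.of fun i => a (σ i)) with hB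
    have hdet : B.det = d σ := by rw [hB, Matrix.det_transpose]
    set u : Fin n → R := B.adjugate.mulVec v with hu
    refine ⟨∑ k, u k • Pi.single (σ k) 1, ?_⟩
    rw [map_sum]
    have : d σ • v = B.mulVec u := by
      rw [hu, Matrix.mulVec_mulVec, Matrix.mul_adjugate, hdet, Matrix.smul_mulVec, Matrix.one_mulVec]
    rw [this]
    ext i
    simp only [map_smul, Finset.sum_apply, Pi.smul_apply, smul_eq_mul, Matrix.mulVec, dotProduct]
    refine Finset.sum_congr rfl fun k _ => ?_
    rw [mul_comm]
    rfl
  have claim2 : ∀ p : PrimeSpectrum R, (∀ σ, d σ ∈ p.asIdeal) → p ∈ Module.support R M := by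
    intro p hp
    by_contra hns
    rw [Module.mem_support_iff_of_finite, SetLike.not_le_iff_exists] at hns
    obtain ⟨r, hr, hrp⟩ := hns
    have hW : ∀ i : Fin n, ∃ w : Fin m → R, g w = r • Pi.single i 1 := by
      intro i
      have : f (r • Pi.single i 1) = 0 := by
        rw [map_smul]
        exact Module.mem_annihilator.mp hr _
      exact (hfg _).mp this
    choose W hW using hW
    have h1 : Matrix.det (Matrix.of fun i => g (W i)) = r ^ n := by
      have : (Matrix.of fun i => g (W i)) = Matrix.diagonal (fun _ : Fin n => r) := by
        ext i k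
        simp [hW, Matrix.diagonal_apply, Pi.single_apply, eq_comm]
      rw [this, Matrix.det_diagonal]
      simp
    have h2 : Matrix.det (Matrix.of fun i => g (W i)) ∈ p.asIdeal := by
      have : Matrix.det (Matrix.of fun i => g (W i)) =
          ∑ σ : Fin n → Fin m, (∏ i, W i (σ i)) * d σ := by
        have e1 : (Matrix.of fun i => g (W i)) = fun i => ∑ j, W i j • a j := by
          ext i k
          simp [hg]
        rw [e1]
        have := (Matrix.detRowAlternating (R := R) (n := Fin n)).toMultilinearMap.map_sum
          (fun i j => W i j • a j)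
        simp only [AlternatingMap.coe_multilinearMap] at this
        change Matrix.detRowAlternating (fun i => ∑ j, W i j • a j) = _
        rw [this]
        refine Finset.sum_congr rfl fun σ _ => ?_
        have := (Matrix.detRowAlternating (R := R) (n := Fin n)).toMultilinearMap.map_smul_univ
          (fun i => W i (σ i)) (fun i => a (σ i))
        simp only [AlternatingMap.coe_multilinearMap] at this
        rw [this, smul_eq_mul]
        rfl
      rw [this]
      exact Ideal.sum_mem _ fun σ _ => Ideal.mul_mem_left _ _ (hp σ)
    rw [h1] at h2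
    exact hrp (p.isPrime.mem_of_pow_mem n h2)
  have hsupp : Module.support R M = PrimeSpectrum.zeroLocus (Set.range d) := by
    ext p
    constructor
    · intro hp
      rw [Module.mem_support_iff_of_finite] at hp
      rintro _ ⟨σ, rfl⟩
      exact hp (Module.mem_annihilator.mpr (claim1 σ))
    · intro hp
      exact claim2 p (fun σ => hp ⟨σ, rfl⟩)
  rw [hsupp]
  refine ⟨PrimeSpectrum.isClosed_zeroLocus _, ?_⟩
  have := (PrimeSpectrum.isCompact_isOpen_iff
    (s := (PrimeSpectrum.zeroLocus (Set.range d))ᶜ)).mpr ⟨Finset.univ.image d, by simp⟩
  exact this.1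

end Groth.Agent.S6285
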