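import Groth.Statements.S6286
import Mathlib

set_option autoImplicit false
universe u
open scoped TensorProduct
open CAlg

namespace Groth.Agent.S6286

/-- Let k be a field, R and S k-algebras, S' ⊆ S a k-subalgebra and f ∈ R ⊗ₖ S', with image f again in R
⊗ₖ S. Then the images in Spec(R) of Spec((R ⊗ₖ S)_f) and of Spec((R ⊗ₖ S')_f) coincide: a prime p of
R is the contraction of a prime of R ⊗ₖ S not containing f if and only if it is the contraction of a
prime of R ⊗ₖ S' not containing f. -/
theorem result (k : Type u) [Field k] (R S : Type u) [CommRing R] [Algebra k R] [CommRing S] [Algebra k S] (S' : Subalgebra k S) (f : R ⊗[k] S') (p : PrimeSpectrum R) : (∃ q : PrimeSpectrum (R ⊗[k] S), Algebra.TensorProduct.map (AlgHom.id k R) S'.val f ∉ q.asIdeal ∧ q.asIdeal.comap (algebraMap R (R ⊗[k] S)) = p.asIdeal) ↔ (∃ q' : PrimeSpectrum (R ⊗[k] S'), f ∉ q'.asIdeal ∧ q'.asIdeal.comap (algebraMap R (R ⊗[k] S')) = p.asIdeal) := by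
  classical
  set φ : R ⊗[k] S' →ₐ[k] R ⊗[k] S := Algebra.TensorProduct.map (AlgHom.id k R) S'.val with hφ
  have hφalg : ∀ r : R, φ (algebraMap R (R ⊗[k] S') r) = algebraMap R (R ⊗[k] S) r := by
    intro r
    simp [hφ, Algebra.TensorProduct.algebraMap_apply]
  constructor
  · rintro ⟨q, hfq, hq⟩
    refine ⟨⟨q.asIdeal.comap φ.toRingHom, inferInstance⟩, ?_, ?_⟩
    · simpa using hfq
    · rw [← hq]
      ext r
      simp only [Ideal.mem_comap]
      rw [← hφalg r]
      rfl
  · rintro ⟨q', hfq', hq'⟩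
    -- the quotient maps
    let mk : R →ₐ[k] R ⧸ p.asIdeal := Ideal.Quotient.mkₐ k p.asIdeal
    have hmk : Function.Surjective mk := Ideal.Quotient.mkₐ_surjective k p.asIdeal
    let π : R ⊗[k] S →ₐ[k] (R ⧸ p.asIdeal) ⊗[k] S :=
      Algebra.TensorProduct.map mk (AlgHom.id k S)
    let π' : R ⊗[k] S' →ₐ[k] (R ⧸ p.asIdeal) ⊗[k] S' :=
      Algebra.TensorProduct.map mk (AlgHom.id k S')
    let ψ : (R ⧸ p.asIdeal) ⊗[k] S' →ₐ[k] (R ⧸ p.asIdeal) ⊗[k] S :=
      Algebra.TensorProduct.map (AlgHom.id k _) S'.val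
    have hψ : Function.Injective ψ := by
      have : Function.Injective (S'.val.toLinearMap.lTensor (R ⧸ p.asIdeal)) :=
        Module.Flat.lTensor_preserves_injective_linearMap _ Subtype.val_injective
      exact this
    have hsq : ∀ x, π (φ x) = ψ (π' x) := by
      intro x
      have : (π.comp φ) = (ψ.comp π') := by
        apply Algebra.TensorProduct.ext'
        intro a b
        simp [π, φ, ψ, π']
      exact DFunLike.congr_fun this x
    have hkerπ : RingHom.ker π = p.asIdeal.map (algebraMap R (R ⊗[k] S)) := by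
      have := Algebra.TensorProduct.rTensor_ker (R := k) (S := k) (C := S) mk hmk
      rw [show RingHom.ker mk = p.asIdeal from Ideal.Quotient.mkₐ_ker k p.asIdeal] at this
      exact this
    have hkerπ' : RingHom.ker π' = p.asIdeal.map (algebraMap R (R ⊗[k] S')) := by
      have := Algebra.TensorProduct.rTensor_ker (R := k) (S := k) (C := S') mk hmk
      rw [show RingHom.ker mk = p.asIdeal from Ideal.Quotient.mkₐ_ker k p.asIdeal] at this
      exact this
    have hpq' : p.asIdeal.map (algebraMap R (R ⊗[k] S')) ≤ q'.asIdeal := by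
      rw [Ideal.map_le_iff_le_comap, hq']
    let T : Submonoid (R ⊗[k] S) :=
      Submonoid.powers (φ f) ⊔ (p.asIdeal.primeCompl.map (algebraMap R (R ⊗[k] S)))
    have hdisj : Disjoint ((p.asIdeal.map (algebraMap R (R ⊗[k] S)) : Ideal _) : Set (R ⊗[k] S)) T := by
      rw [Set.disjoint_left]
      intro t ht htT
      obtain ⟨_, ⟨n, rfl⟩, _, ⟨s, hs, rfl⟩, rfl⟩ := Submonoid.mem_sup.mp htT
      rw [SetLike.mem_coe, ← hkerπ, RingHom.mem_ker] at ht
      have e1 : φ f ^ n * algebraMap R (R ⊗[k] S) s = φ (f ^ n * algebraMap R (R ⊗[k] S') s) := by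
        rw [map_mul, map_pow, hφalg]
      rw [e1, hsq] at ht
      have h0 : π' (f ^ n * algebraMap R (R ⊗[k] S') s) = 0 := hψ (by rw [ht, map_zero])
      have h1 : f ^ n * algebraMap R (R ⊗[k] S') s ∈ q'.asIdeal := by
        apply hpq'
        rw [← hkerπ', RingHom.mem_ker]
        exact h0
      rcases q'.isPrime.mem_or_mem h1 with h | h
      · exact hfq' (q'.isPrime.mem_of_pow_mem n h)
      · have : s ∈ q'.asIdeal.comap (algebraMap R (R ⊗[k] S')) := h
        rw [hq'] at this
        exact hs this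
    obtain ⟨q, hqprime, hle_q, hqdisj⟩ := Ideal.exists_le_prime_disjoint _ T hdisj
    refine ⟨⟨q, hqprime⟩, ?_, ?_⟩
    · intro h
      exact Set.disjoint_left.mp hqdisj h (Submonoid.mem_sup_left (Submonoid.mem_powers _))
    · apply le_antisymm
      · intro r hr
        by_contra hrp
        exact Set.disjoint_left.mp hqdisj hr (Submonoid.mem_sup_right ⟨r, hrp, rfl⟩)
      · rw [← Ideal.map_le_iff_le_comap]
        exact hle_q

end Groth.Agent.S6286
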