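import Groth.Statements.S6287
import Groth.Agent.H31.DirectLimit

set_option autoImplicit false
universe u
open CAlg

namespace Groth.Agent.S6287

theorem result {ι : Type u} [Preorder ι] [Nonempty ι] [IsDirected ι (· ≤ ·)] (G : ι → Type u) [∀ i, CommRing (G i)] [∀ i, IsDomain (G i)] [∀ i, ValuationRing (G i)] (f : ∀ i j, i ≤ j → G i →+* G j) [DirectedSystem G fun i j h => f i j h] : ∃ _ : IsDomain (Ring.DirectLimit G fun i j h => f i j h), ValuationRing (Ring.DirectLimit G fun i j h => f i j h) := by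
  have hd := Groth.Agent.H31.directLimit_isDomain G f
  refine ⟨hd, ?_⟩
  refine @ValuationRing.mk _ _ _ ⟨?_⟩
  intro x y
  obtain ⟨i, a, b, rfl, rfl⟩ := Groth.Agent.H31.directLimit_exists_of₂ G f x y
  obtain ⟨c, hc | hc⟩ := ValuationRing.cond a b
  · exact ⟨Ring.DirectLimit.of G _ i c, Or.inl (by rw [← map_mul, hc])⟩
  · exact ⟨Ring.DirectLimit.of G _ i c, Or.inr (by rw [← map_mul, hc])⟩

end Groth.Agent.S6287
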