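import Groth.Statements.S6288
import Mathlib.RingTheory.Valuation.LocalSubring
import Mathlib.RingTheory.IntegralClosure.IntegrallyClosed
import Mathlib.RingTheory.Algebraic.Integral

set_option autoImplicit false
universe u
open CAlg

namespace Groth.Agent.S6288

theorem result (K L : Type u) [Field K] [Field L] [Algebra K L] [Algebra.IsAlgebraic K L] (B : ValuationSubring L) (hB : B ≠ ⊤) : B.comap (algebraMap K L) ≠ ⊤ := by
  intro h
  apply hB
  rw [eq_top_iff]
  intro x _
  have hK : ∀ a : K, algebraMap K L a ∈ B := by
    intro a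
    have : a ∈ B.comap (algebraMap K L) := by rw [h]; trivial
    exact this
  have hx : IsIntegral K x := (Algebra.IsAlgebraic.isAlgebraic x).isIntegral
  obtain ⟨p, hp, hpx⟩ := hx
  -- lift p to B[X]
  let φ : K →+* B := (algebraMap K L).codRestrict B.toSubring hK
  have hint : IsIntegral B x := by
    refine ⟨p.map φ, hp.map φ, ?_⟩
    rw [Polynomial.eval₂_map]
    have : (algebraMap B L).comp φ = algebraMap K L := by
      ext a; rfl
    rw [this]; exact hpx
  obtain ⟨y, hy⟩ := (IsIntegrallyClosed.isIntegral_iff (R := B) (K := L)).1 hint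
  rw [← hy]
  exact y.2

end Groth.Agent.S6288
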