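import Groth.Statements.S6289

set_option autoImplicit false
universe u
open CAlg

namespace Groth.Agent.S6289

theorem result (A' : Type u) [CommRing A'] [IsDomain A'] [ValuationRing A'] (A : ValuationSubring (IsLocalRing.ResidueField A')) : ValuationRing (A.toSubring.comap (IsLocalRing.residue A')) := by
  -- key: for c in A', either c or (if c is a unit) its inverse lies in C
  have key : ∀ a b : A', IsLocalRing.residue A' a ∈ A → IsLocalRing.residue A' b ∈ A → ∀ c : A', a * c = b →
      ∃ d : A', IsLocalRing.residue A' d ∈ A ∧ (a * d = b ∨ b * d = a) := by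
    intro a b ha hb c hc
    by_cases hu : IsUnit c
    · rcases A.mem_or_inv_mem (IsLocalRing.residue A' c) with h | h
      · exact ⟨c, h, Or.inl hc⟩
      · obtain ⟨u, rfl⟩ := hu
        refine ⟨((u⁻¹ : A'ˣ) : A'), ?_, Or.inr ?_⟩
        · have : IsLocalRing.residue A' ((u⁻¹ : A'ˣ) : A') = (IsLocalRing.residue A' (u : A'))⁻¹ := by
            rw [eq_comm, inv_eq_iff_eq_inv, ← map_units_inv]
            simp
          rw [this]; exact h
        · rw [← hc, mul_assoc, Units.mul_inv, mul_one]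
    · refine ⟨c, ?_, Or.inl hc⟩
      have : IsLocalRing.residue A' c = 0 := by
        rw [IsLocalRing.residue_eq_zero_iff]
        exact (IsLocalRing.mem_maximalIdeal c).2 hu
      rw [this]; exact A.zero_mem
  refine @ValuationRing.mk _ _ _ ⟨?_⟩
  rintro ⟨a, ha⟩ ⟨b, hb⟩
  have ha' : IsLocalRing.residue A' a ∈ A := ha
  have hb' : IsLocalRing.residue A' b ∈ A := hb
  obtain ⟨c, hc | hc⟩ := ValuationRing.cond a b
  · obtain ⟨d, hd, h | h⟩ := key a b ha' hb' c hc
    · exact ⟨⟨d, hd⟩, Or.inl (Subtype.ext h)⟩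
    · exact ⟨⟨d, hd⟩, Or.inr (Subtype.ext h)⟩
  · obtain ⟨d, hd, h | h⟩ := key b a hb' ha' c hc
    · exact ⟨⟨d, hd⟩, Or.inr (Subtype.ext h)⟩
    · exact ⟨⟨d, hd⟩, Or.inl (Subtype.ext h)⟩

end Groth.Agent.S6289
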