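import Groth.Statements.S6290
import Mathlib.RingTheory.Filtration

set_option autoImplicit false
universe u
open CAlg

namespace Groth.Agent.S6290

theorem result {R : Type u} [CommRing R] [IsNoetherianRing R] (I : Ideal R) (M : Type u) [AddCommGroup M] [Module R M] [Module.Finite R M] (p : Ideal R) [p.IsPrime] (hIp : I ≤ p) : ∃ f : R, f ∉ p ∧ ∀ x ∈ (⨅ n : ℕ, I ^ n • (⊤ : Submodule R M)), ∃ k : ℕ, f ^ k • x = 0 := by
  set N : Submodule R M := ⨅ n : ℕ, I ^ n • (⊤ : Submodule R M) with hN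
  have hle : N ≤ I • N := by
    intro x hx
    obtain ⟨r, hr⟩ := (I.mem_iInf_smul_pow_eq_bot_iff x).mp hx
    rw [← hr]
    exact Submodule.smul_mem_smul r.2 hx
  obtain ⟨r, hrI, hr⟩ :=
    Submodule.exists_mem_and_smul_eq_self_of_fg_of_le_smul I N (IsNoetherian.noetherian N) hle
  refine ⟨1 - r, ?_, ?_⟩
  · intro h
    have h1 : (1 : R) ∈ p := by
      have := p.add_mem h (hIp hrI)
      simpa using this
    exact (Ideal.IsPrime.ne_top ‹_›) ((Ideal.eq_top_iff_one p).2 h1)
  · intro x hx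
    refine ⟨1, ?_⟩
    rw [pow_one, sub_smul, one_smul, hr x hx, sub_self]

end Groth.Agent.S6290
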