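import Groth.Statements.S6295
import Mathlib

set_option autoImplicit false
universe u
open CAlg

namespace Groth.Agent.S6295

/-- Let R be a reduced ring. Then every localization R_p at a minimal prime p is a field and the map R →
∏_{p minimal} R_p is injective (so R is a subring of a product of fields); moreover the set of
zerodivisors of R is the union of the minimal primes. -/
theorem result (R : Type u) [CommRing R] [IsReduced R] : (∀ p : PrimeSpectrum R, p.asIdeal ∈ minimalPrimes R → IsField (Localization.AtPrime p.asIdeal)) ∧ Function.Injective (algebraMap R (∀ p : {p : PrimeSpectrum R // p.asIdeal ∈ minimalPrimes R}, Localization.AtPrime p.1.asIdeal)) ∧ (∀ x : R, x ∉ nonZeroDivisors R ↔ ∃ p ∈ minimalPrimes R, x ∈ p) := by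
  have hexists : ∀ x : R, x ≠ 0 → ∃ p ∈ minimalPrimes R, x ∉ p := by
    intro x hx
    by_contra hcon
    push Not at hcon
    have h1 : x ∈ sInf (minimalPrimes R) := by
      rw [Ideal.mem_sInf]
      intro p hp
      exact hcon p hp
    have h2 : sInf (minimalPrimes R) = (⊥ : Ideal R).radical := Ideal.sInf_minimalPrimes
    rw [h2] at h1
    have h3 : IsNilpotent x := by
      obtain ⟨n, hn⟩ := h1
      exact ⟨n, hn⟩
    exact hx (IsReduced.eq_zero x h3)
  refine ⟨?_, ?_, ?_⟩
  · intro p hp
    have := hp.1.1
    have : Ring.KrullDimLE 0 (Localization.AtPrime p.asIdeal) :=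
      Ring.KrullDimLE.of_isLocalization p.asIdeal hp _
    exact Ring.KrullDimLE.isField_of_isReduced
  · rw [injective_iff_map_eq_zero]
    intro x hx
    by_contra hne
    obtain ⟨p, hp, hxp⟩ := hexists x hne
    have := hp.1.1
    have h1 := congrFun hx ⟨⟨p, hp.1.1⟩, hp⟩
    simp only [Pi.algebraMap_apply, Pi.zero_apply] at h1
    rw [IsLocalization.map_eq_zero_iff p.primeCompl] at h1
    obtain ⟨s, hs⟩ := h1
    have : (s : R) * x ∈ p := by rw [hs]; exact p.zero_mem
    rcases hp.1.1.mem_or_mem this with h | h
    · exact s.2 h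
    · exact hxp h
  · intro x
    rw [mem_nonZeroDivisors_iff_right]
    constructor
    · intro h
      push Not at h
      obtain ⟨y, hy, hy0⟩ := h
      obtain ⟨p, hp, hyp⟩ := hexists y hy0
      refine ⟨p, hp, ?_⟩
      have : y * x ∈ p := by rw [hy]; exact p.zero_mem
      exact (hp.1.1.mem_or_mem this).resolve_left hyp
    · rintro ⟨p, hp, hxp⟩ h
      have h1 := Ideal.disjoint_nonZeroDivisors_of_mem_minimalPrimes hp
      have h2 : x ∈ nonZeroDivisors R := by
        rw [mem_nonZeroDivisors_iff_right]; exact h
      exact Set.disjoint_left.1 h1 hxp h2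

end Groth.Agent.S6295
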