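import Groth.Statements.S6298
import Mathlib

set_option autoImplicit false
universe u
open CAlg

namespace Groth.Agent.S6298

theorem aux {R : Type u} [CommRing R] (x : R) (I : Ideal R) :
    ∀ (n : ℕ) (s : Finset (Ideal R)), s.card = n → (∀ P ∈ s, P.IsPrime) →
      (∀ P ∈ s, ∃ y ∈ I, x + y ∉ P) → ∃ y ∈ I, ∀ P ∈ s, x + y ∉ P := by
  classical
  intro n
  induction n with
  | zero =>
    intro s hs _ _
    rw [Finset.card_eq_zero] at hs
    subst hs
    exact ⟨0, I.zero_mem, by simp⟩
  | succ n ih =>
    intro s hs hprime h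
    by_cases hcomp : ∃ Q ∈ s, ∃ P ∈ s, Q ≠ P ∧ Q ≤ P
    · obtain ⟨Q, hQ, P, hP, hne, hle⟩ := hcomp
      have hcard : (s.erase Q).card = n := by rw [Finset.card_erase_of_mem hQ, hs]; rfl
      obtain ⟨y, hyI, hy⟩ := ih (s.erase Q) hcard
        (fun P hP => hprime P (Finset.mem_of_mem_erase hP))
        (fun P hP => h P (Finset.mem_of_mem_erase hP))
      refine ⟨y, hyI, fun P' hP' => ?_⟩
      by_cases hPQ : P' = Q
      · subst hPQ
        intro hmem
        exact hy P (Finset.mem_erase.mpr ⟨hne.symm, hP⟩) (hle hmem)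
      · exact hy P' (Finset.mem_erase.mpr ⟨hPQ, hP'⟩)
    · push Not at hcomp
      have hne : s.Nonempty := by
        rw [← Finset.card_pos, hs]; exact Nat.succ_pos n
      obtain ⟨P, hP⟩ := hne
      have hcard : (s.erase P).card = n := by rw [Finset.card_erase_of_mem hP, hs]; rfl
      obtain ⟨y₀, hy₀I, hy₀⟩ := ih (s.erase P) hcard
        (fun P hP => hprime P (Finset.mem_of_mem_erase hP))
        (fun P hP => h P (Finset.mem_of_mem_erase hP))
      by_cases hxP : x + y₀ ∉ P
      · refine ⟨y₀, hy₀I, fun P' hP' => ?_⟩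
        by_cases hPP : P' = P
        · subst hPP; exact hxP
        · exact hy₀ P' (Finset.mem_erase.mpr ⟨hPP, hP'⟩)
      · push Not at hxP
        have hPprime := hprime P hP
        obtain ⟨y₁, hy₁I, hy₁⟩ := h P hP
        have hd : y₁ - y₀ ∉ P := by
          intro hmem
          apply hy₁
          have : x + y₁ = (x + y₀) + (y₁ - y₀) := by ring
          rw [this]; exact P.add_mem hxP hmem
        have hq : ∀ Q ∈ s.erase P, ∃ q ∈ Q, q ∉ P := by
          intro Q hQ
          have hQs := Finset.mem_of_mem_erase hQ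
          have hQne := Finset.ne_of_mem_erase hQ
          have := hcomp Q hQs P hP hQne
          exact Set.not_subset.mp this
        choose! q hqQ hqP using hq
        let z := (y₁ - y₀) * ∏ Q ∈ s.erase P, q Q
        have hzI : z ∈ I := I.mul_mem_right _ (I.sub_mem hy₁I hy₀I)
        have hzP : z ∉ P := by
          intro hz
          rcases hPprime.mem_or_mem hz with h1 | h1
          · exact hd h1
          · rw [hPprime.prod_mem_iff] at h1
            obtain ⟨Q, hQ, hqQP⟩ := h1
            exact hqP Q hQ hqQP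
        have hzQ : ∀ Q ∈ s.erase P, z ∈ Q := by
          intro Q hQ
          apply Q.mul_mem_left
          exact Ideal.prod_mem Q hQ (hqQ Q hQ)
        refine ⟨y₀ + z, I.add_mem hy₀I hzI, fun P' hP' => ?_⟩
        have e : x + (y₀ + z) = (x + y₀) + z := by ring
        rw [e]
        by_cases hPP : P' = P
        · subst hPP
          intro hmem
          exact hzP ((P'.add_mem_iff_right hxP).mp hmem)
        · have hP'e : P' ∈ s.erase P := Finset.mem_erase.mpr ⟨hPP, hP'⟩
          intro hmem
          exact hy₀ P' hP'e ((P'.add_mem_iff_left (hzQ P' hP'e)).mp hmem)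

/-- Let R be a ring, x ∈ R, I ⊆ R an ideal and p₁, …, p_r prime ideals such that for each i the coset x
+ I is not contained in p_i. Then there is y ∈ I with x + y ∉ p_i for all i. -/
theorem result {R : Type u} [CommRing R] (x : R) (I : Ideal R) {r : ℕ} (p : Fin r → Ideal R) [∀ i, (p i).IsPrime] (h : ∀ i, ∃ y ∈ I, x + y ∉ p i) : ∃ y ∈ I, ∀ i, x + y ∉ p i := by
  classical
  obtain ⟨y, hy, hy'⟩ := aux x I _ (Finset.univ.image p) rfl
    (by
      intro P hP
      obtain ⟨i, -, rfl⟩ := Finset.mem_image.mp hP
      infer_instance)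
    (by
      intro P hP
      obtain ⟨i, -, rfl⟩ := Finset.mem_image.mp hP
      exact h i)
  exact ⟨y, hy, fun i => hy' (p i) (Finset.mem_image_of_mem p (Finset.mem_univ i))⟩

end Groth.Agent.S6298
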