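import Groth.Statements.S6301
import Mathlib

set_option autoImplicit false
universe u
open CAlg

namespace Groth.Agent.S6301

/-- An R-module M is flat exactly when, for every finitely presented R-module P and every surjective
R-module map N → M, the induced map Hom_R(P, N) → Hom_R(P, M) is surjective (modules P, N taken in
the same universe). -/
theorem result {R : Type u} [CommRing R] (M : Type u) [AddCommGroup M] [Module R M] : Module.Flat R M ↔ ∀ (P : Type u) [AddCommGroup P] [Module R P], Module.FinitePresentation R P → ∀ (N : Type u) [AddCommGroup N] [Module R N] (g : N →ₗ[R] M), Function.Surjective g → ∀ h : P →ₗ[R] M, ∃ h' : P →ₗ[R] N, g.comp h' = h := by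
  constructor
  · intro hM P _ _ hP N _ _ g hg h
    obtain ⟨k, h₂, h₃, rfl⟩ := Module.Flat.exists_factorization_of_finitePresentation h
    obtain ⟨l, hl⟩ := Module.projective_lifting_property g h₃ hg
    exact ⟨l ∘ₗ h₂, by rw [← LinearMap.comp_assoc, hl]⟩
  · intro H
    classical
    rw [Module.Flat.iff_forall_isTrivialRelation]
    intro l f x hfx
    let K : Submodule R (Fin l → R) := Submodule.span R {f}
    have hP : Module.FinitePresentation R ((Fin l → R) ⧸ K) := by
      apply Module.finitePresentation_of_surjective K.mkQ K.mkQ_surjective
      rw [Submodule.ker_mkQ]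
      exact Submodule.fg_span_singleton f
    have hK : K ≤ LinearMap.ker (Fintype.linearCombination R x) := by
      rw [Submodule.span_le]
      rintro _ rfl
      rw [SetLike.mem_coe, LinearMap.mem_ker, Fintype.linearCombination_apply]
      exact hfx
    let h : ((Fin l → R) ⧸ K) →ₗ[R] M := K.liftQ (Fintype.linearCombination R x) hK
    obtain ⟨h', hh'⟩ := H ((Fin l → R) ⧸ K) hP (M →₀ R)
      (Finsupp.linearCombination R (_root_.id : M → M))
      (Finsupp.linearCombination_id_surjective R M) h
    let n : Fin l → (M →₀ R) := fun i => h' (K.mkQ (Pi.single i 1))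
    let s : Finset M := Finset.univ.biUnion (fun i => (n i).support)
    let e : Fin s.card ≃ s := s.equivFin.symm
    refine ⟨s.card, fun i j => n i (e j), fun j => (e j : M), ?_, ?_⟩
    · intro i
      have h1 : x i = Finsupp.linearCombination R (_root_.id : M → M) (n i) := by
        have := LinearMap.congr_fun hh' (K.mkQ (Pi.single i 1))
        rw [LinearMap.comp_apply] at this
        rw [this]
        simp [h, Fintype.linearCombination_apply, Pi.single_apply]
      rw [h1, Finsupp.linearCombination_apply, Finsupp.sum]
      have hsub : (n i).support ⊆ s := by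
        intro m hm
        exact Finset.mem_biUnion.2 ⟨i, Finset.mem_univ _, hm⟩
      rw [Finset.sum_subset hsub (fun m _ hm => by
        rw [Finsupp.notMem_support_iff.1 hm, zero_smul])]
      rw [← Finset.sum_coe_sort s (fun m => (n i) m • (_root_.id m : M))]
      exact (Equiv.sum_comp e (fun m : s => (n i) (m : M) • (m : M))).symm
    · intro j
      have h2 : ∑ i, f i • n i = 0 := by
        have h3 : ∑ i, f i • n i = h' (K.mkQ (∑ i, f i • Pi.single i 1)) := by
          simp only [map_sum, map_smul, n]
        have h4 : (∑ i, f i • (Pi.single i 1 : Fin l → R)) = f := by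
          ext t
          simp [Finset.sum_apply, Pi.single_apply]
        rw [h3, h4]
        have : K.mkQ f = 0 := by
          rw [Submodule.mkQ_apply, Submodule.Quotient.mk_eq_zero]
          exact Submodule.mem_span_singleton_self f
        rw [this, map_zero]
      have := DFunLike.congr_fun h2 (e j : M)
      simpa [Finsupp.finsetSum_apply] using this

end Groth.Agent.S6301
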