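import Groth.Statements.S6303
import Mathlib

set_option autoImplicit false
universe u
open CAlg

namespace Groth.Agent.S6303

/-- Let R be a ring, I, J ⊆ R ideals and M a flat R-module. Then IM ∩ JM = (I ∩ J)M. -/
theorem result {R : Type u} [CommRing R] (I J : Ideal R) (M : Type u) [AddCommGroup M] [Module R M] [Module.Flat R M] : (I • (⊤ : Submodule R M)) ⊓ (J • ⊤) = (I ⊓ J) • (⊤ : Submodule R M) := by
  apply le_antisymm
  · rintro x ⟨hxI, hxJ⟩
    rw [SetLike.mem_coe, ← Submodule.map_range_rTensor_subtype_lid] at hxI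
    obtain ⟨_, ⟨t, rfl⟩, rfl⟩ := hxI
    let f : ↥(I ⊓ J) →ₗ[R] I := Submodule.inclusion inf_le_left
    let g : I →ₗ[R] R ⧸ J := J.mkQ ∘ₗ I.subtype
    have hfg : Function.Exact f g := by
      intro y
      constructor
      · intro hy
        have hyJ : (y : R) ∈ J := by
          have : Ideal.Quotient.mk J (y : R) = 0 := hy
          rwa [Ideal.Quotient.eq_zero_iff_mem] at this
        exact ⟨⟨y, ⟨y.2, hyJ⟩⟩, Subtype.ext rfl⟩
      · rintro ⟨z, rfl⟩
        have : (z : R) ∈ J := z.2.2
        change Ideal.Quotient.mk J (z : R) = 0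
        rwa [Ideal.Quotient.eq_zero_iff_mem]
    have hex := Module.Flat.rTensor_exact M hfg
    have hgt : g.rTensor M t = 0 := by
      apply (TensorProduct.quotTensorEquivQuotSMul M J).injective
      rw [map_zero]
      have hcomp : (TensorProduct.quotTensorEquivQuotSMul M J).toLinearMap ∘ₗ g.rTensor M =
          (J • ⊤ : Submodule R M).mkQ ∘ₗ (TensorProduct.lid R M).toLinearMap ∘ₗ I.subtype.rTensor M := by
        ext i m
        simp [g]
      have h2 := LinearMap.congr_fun hcomp t
      simp only [LinearMap.coe_comp, LinearEquiv.coe_coe, Function.comp_apply] at h2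
      rw [h2]
      simpa [Submodule.Quotient.mk_eq_zero] using hxJ
    obtain ⟨s, hs⟩ := (hex t).1 hgt
    rw [← Submodule.map_range_rTensor_subtype_lid]
    refine ⟨_, ⟨s, rfl⟩, ?_⟩
    rw [← hs, ← LinearMap.comp_apply (I.subtype.rTensor M), ← LinearMap.rTensor_comp]
    rfl
  · exact le_inf (Submodule.smul_mono_left inf_le_left) (Submodule.smul_mono_left inf_le_right)

end Groth.Agent.S6303
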