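import Groth.Statements.S6307
import Mathlib

set_option autoImplicit false
universe u
open CAlg

namespace Groth.Agent.S6307

/-- Let R be a ring, J ⊆ R a principal ideal and I ⊆ J an ideal. Then I = J · (I : J). -/
theorem result {R : Type u} [CommRing R] (I J : Ideal R) (hJ : J.IsPrincipal) (hIJ : I ≤ J) : I = J * I.colon J := by
  obtain ⟨a, rfl⟩ := hJ
  apply le_antisymm
  · intro x hx
    obtain ⟨c, rfl⟩ := Submodule.mem_span_singleton.mp (hIJ hx)
    have hc : c ∈ I.colon (Submodule.span R {a} : Ideal R) := by
      rw [Submodule.mem_colon]
      intro y hy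
      obtain ⟨d, rfl⟩ := Submodule.mem_span_singleton.mp hy
      have : c • d • a = d • (c • a) := by simp only [smul_eq_mul]; ring
      rw [this]
      exact I.smul_mem d hx
    have : c • a = a * c := by simp [mul_comm]
    rw [this]
    exact Ideal.mul_mem_mul (Submodule.mem_span_singleton_self a) hc
  · rw [Ideal.mul_le]
    intro r hr s hs
    rw [Submodule.mem_colon] at hs
    have := hs r hr
    simpa [mul_comm] using this

end Groth.Agent.S6307
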