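import Groth.Statements.S6311
import Groth.Agent.H17.K0.Basic

set_option autoImplicit false
universe u
open CategoryTheory
open CAlg

namespace Groth.Agent.S6311

/-- Let R be a local ring. Then K₀(R), the Grothendieck group of the category of finite projective
R-modules, is isomorphic to ℤ via the rank; precisely, there is an isomorphism K₀(R) ≅ ℤ of abelian
groups sending the class [R] to 1 (such an isomorphism is then unique, K₀(R) being generated by
[R]). -/
theorem result (R : Type u) [CommRing R] [IsLocalRing R] : ∃ e : KZero.K0sub (fun M : ModuleCat.{u} R => Module.Finite R M ∧ Module.Projective R M) ≃+ ℤ, e (KZero.clSub (fun M : ModuleCat.{u} R => Module.Finite R M ∧ Module.Projective R M) (ModuleCat.of R R)) = 1 := by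
  classical
  set P : ObjectProperty (ModuleCat.{u} R) :=
    fun M : ModuleCat.{u} R => Module.Finite R M ∧ Module.Projective R M with hPdef
  -- free-ness
  have hfree : ∀ (M : ModuleCat.{u} R), P M → Module.Free R M := by
    rintro M ⟨h1, h2⟩
    exact Module.free_of_flat_of_isLocalRing
  -- the rank homomorphism
  let φ : KZero.K0sub P →+ ℤ := Groth.Agent.H17.K0.lift P
    (fun X => (Module.finrank R X.1 : ℤ)) (by
      intro S h₁ h₂ h₃ hS
      have := h₁.1; have := h₂.1; have := h₃.1
      have := h₃.2
      have := hfree _ h₁; have := hfree _ h₃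
      obtain ⟨s, hs⟩ := Module.projective_lifting_property S.g.hom LinearMap.id
        hS.moduleCat_surjective_g
      have hex : Function.Exact S.f.hom S.g.hom :=
        (ShortComplex.ShortExact.moduleCat_exact_iff_function_exact S).1 hS.exact
      let e := (hex.splitSurjectiveEquiv hS.moduleCat_injective_f ⟨s, hs⟩).1
      change (Module.finrank R S.X₂ : ℤ) = (Module.finrank R S.X₁ : ℤ) + (Module.finrank R S.X₃ : ℤ)
      rw [e.finrank_eq, Module.finrank_prod]
      push_cast
      rfl)
  have hφ : ∀ (M : ModuleCat.{u} R) (hM : P M), φ (KZero.clSub P M) = (Module.finrank R M : ℤ) :=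
    fun M hM => Groth.Agent.H17.K0.lift_clSub P _ _ hM
  have hPpi : ∀ n : ℕ, P (ModuleCat.of R (Fin n → R)) := fun n => ⟨inferInstance, inferInstance⟩
  have hPR : P (ModuleCat.of R R) := ⟨inferInstance, inferInstance⟩
  have hP0 : P (ModuleCat.of R PUnit.{u + 1}) := ⟨inferInstance, inferInstance⟩
  -- classes of standard free modules
  have hpi : ∀ n : ℕ, KZero.clSub P (ModuleCat.of R (Fin n → R)) =
      (n : ℤ) • KZero.clSub P (ModuleCat.of R R) := by
    intro n
    induction n with
    | zero =>
      rw [Groth.Agent.H17.K0.clSub_module_subsingleton P (hPpi 0)]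
      simp
    | succ n ih =>
      have := Groth.Agent.H17.K0.clSub_module_exact P
        (LinearMap.single R (fun _ : Fin (n + 1) => R) 0)
        (LinearMap.pi (fun i : Fin n => LinearMap.proj (R := R) (φ := fun _ : Fin (n + 1) => R) i.succ))
        (fun a b hab => by
          have := congrFun hab 0
          simpa using this)
        (by
          intro v
          refine ⟨Fin.cons 0 v, ?_⟩
          ext i
          simp)
        (by
          intro v
          constructor
          · intro hv
            refine ⟨v 0, ?_⟩
            ext i
            refine Fin.cases ?_ (fun j => ?_) i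
            · simp
            · have := congrFun hv j
              simp only [LinearMap.pi_apply, LinearMap.proj_apply, Pi.zero_apply] at this
              rw [this]
              simp [Fin.succ_ne_zero]
          · rintro ⟨r, rfl⟩
            ext j
            simp [Fin.succ_ne_zero])
        hPR (hPpi (n + 1)) (hPpi n)
      rw [this, ih]
      push_cast
      rw [add_smul, one_smul, add_comm]
  -- every class is a multiple of `[R]`
  have hmul : ∀ x : KZero.K0sub P, x = φ x • KZero.clSub P (ModuleCat.of R R) := by
    intro x
    induction x using Groth.Agent.H17.K0.induction_on P with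
    | h0 => simp
    | hcl X hX =>
      have := hX.1
      have := hfree X hX
      rw [hφ X hX]
      have e : X ≃ₗ[R] (Fin (Module.finrank R X) → R) :=
        (Module.finBasis R X).equivFun
      have h1 : KZero.clSub P X = KZero.clSub P (ModuleCat.of R X) := rfl
      rw [h1, Groth.Agent.H17.K0.clSub_module_equiv P e hX (hPpi _) hP0, hpi]
    | hneg x hx =>
      rw [map_neg, neg_smul, ← hx]
    | hadd x y hx hy =>
      rw [map_add, add_smul, ← hx, ← hy]
  have hφR : φ (KZero.clSub P (ModuleCat.of R R)) = 1 := by
    rw [hφ _ hPR]
    change ((Module.finrank R R : ℕ) : ℤ) = 1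
    rw [Module.finrank_self]
    rfl
  refine ⟨AddEquiv.ofBijective φ ⟨?_, ?_⟩, hφR⟩
  · intro x y hxy
    rw [hmul x, hmul y, hxy]
  · intro k
    refine ⟨k • KZero.clSub P (ModuleCat.of R R), ?_⟩
    rw [map_zsmul, hφR]
    simp

end Groth.Agent.S6311
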