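import Groth.Statements.S6312

set_option autoImplicit false
universe u
open CAlg

namespace Groth.Agent.S6312

/-- Let R be a ring, M an R-module and S ⊆ R a multiplicative subset. Then length_{S⁻¹R}(S⁻¹M) ≤
length_R(M). -/
theorem result {R : Type u} [CommRing R] (S : Submonoid R) (M : Type u) [AddCommGroup M] [Module R M] : Module.length (Localization S) (LocalizedModule S M) ≤ Module.length R M := by
  classical
  let g : Submodule (Localization S) (LocalizedModule S M) → Submodule R M :=
    fun N => (N.restrictScalars R).comap (LocalizedModule.mkLinearMap S M)
  have hmono : ∀ N N' : Submodule (Localization S) (LocalizedModule S M), g N ≤ g N' ↔ N ≤ N' := by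
    intro N N'
    constructor
    · intro h x hx
      induction x using LocalizedModule.induction_on with
      | h m s =>
        have h1 : LocalizedModule.mk m (1 : S) ∈ N := by
          have : LocalizedModule.mk m (1 : S) = (algebraMap R (Localization S) s) • LocalizedModule.mk m s := by
            rw [algebraMap_smul, LocalizedModule.smul'_mk]
            exact (LocalizedModule.mk_cancel s m).symm
          rw [this]
          exact N.smul_mem _ hx
        have h2 : m ∈ g N := h1
        have h3 : LocalizedModule.mk m (1 : S) ∈ N' := h h2
        have : LocalizedModule.mk m s = (Localization.mk 1 s) • LocalizedModule.mk m (1 : S) := by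
          rw [LocalizedModule.mk_smul_mk]
          simp
        rw [this]
        exact N'.smul_mem _ h3
    · intro h x hx
      exact h hx
  have hstrict : StrictMono g := by
    intro N N' hlt
    refine lt_of_le_of_ne ((hmono N N').2 hlt.le) ?_
    intro heq
    have : N' ≤ N := (hmono N' N).1 heq.ge
    exact absurd (le_antisymm hlt.le this) hlt.ne
  have := Order.krullDim_le_of_strictMono g hstrict
  rw [← Module.coe_length, ← Module.coe_length] at this
  exact_mod_cast this

end Groth.Agent.S6312
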