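import Groth.Statements.S6313
import Groth.Agent.H9.TorLES
import Mathlib.RingTheory.Flat.Tensor

set_option autoImplicit false
universe u
open CategoryTheory
open CAlg

namespace Groth.Agent.S6313

/-- For a ring R and an R-module M, flatness of M over R is equivalent to the vanishing of Tor₁ᴿ(M, R/I)
for every finitely generated ideal I ⊆ R. -/
theorem result (R : Type u) [CommRing R] (M : Type u) [AddCommGroup M] [Module R M] : Module.Flat R M ↔ ∀ I : Ideal R, I.FG → Limits.IsZero (((CategoryTheory.Tor (ModuleCat.{u} R) 1).obj (ModuleCat.of R M)).obj (ModuleCat.of R (R ⧸ I))) := by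
  constructor
  · intro hM I _
    exact Groth.Agent.H9.isZero_tor_succ_of_flat_left (ModuleCat.of R M) _ 0
  · intro h
    rw [Module.Flat.iff_lTensor_injective]
    intro I hI
    let S : ShortComplex (ModuleCat.{u} R) :=
      ShortComplex.mk (ModuleCat.ofHom I.subtype) (ModuleCat.ofHom (Submodule.mkQ I))
        (by ext x; simpa using (Submodule.Quotient.mk_eq_zero I).2 x.2)
    have hS : S.ShortExact :=
      ModuleCat.shortComplex_shortExact S (LinearMap.exact_subtype_mkQ I)
        I.injective_subtype (Submodule.mkQ_surjective I)
    have hP : CategoryTheory.Projective S.X₂ :=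
      inferInstanceAs (CategoryTheory.Projective (ModuleCat.of R R))
    have hz := h I hI
    have h0 : ((CategoryTheory.Tor (ModuleCat.{u} R) 1).map (𝟙 (ModuleCat.of R M))).app S.X₃ = 0 :=
      hz.eq_of_src _ _
    rw [injective_iff_map_eq_zero]
    intro t ht
    have key := Groth.Agent.H9.whiskerRight_apply_eq_zero_of_tor_map_eq_zero hS
      (𝟙 (ModuleCat.of R M)) h0 t ht
    simpa using key

end Groth.Agent.S6313
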