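import Groth.Statements.S6315
import Groth.Agent.H9.TorLES
import Mathlib.RingTheory.Noetherian.Basic
import Mathlib.LinearAlgebra.TensorProduct.Finiteness

set_option autoImplicit false
universe u
open CategoryTheory
open CAlg

namespace Groth.Agent.S6315

/-- Let R be a Noetherian ring and M, N finite R-modules. Then Tor_pᴿ(M, N) is a finite R-module for all
p. -/
theorem result (R : Type u) [CommRing R] [IsNoetherianRing R] (M N : Type u) [AddCommGroup M] [Module R M] [AddCommGroup N] [Module R N] [Module.Finite R M] [Module.Finite R N] (p : ℕ) : Module.Finite R (((CategoryTheory.Tor (ModuleCat.{u} R) p).obj (ModuleCat.of R M)).obj (ModuleCat.of R N)) := by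
  induction p generalizing M with
  | zero =>
    have e := Groth.Agent.H9.torZeroIso (ModuleCat.of R M) (ModuleCat.of R N)
    have : Module.Finite R (TensorProduct R M N) := inferInstance
    exact Module.Finite.equiv (e.toLinearEquiv.symm : TensorProduct R M N ≃ₗ[R] _)
  | succ p ih =>
    obtain ⟨n, f, hf⟩ := Module.Finite.exists_fin' R M
    let S := f.shortComplexKer
    have hS : S.ShortExact := LinearMap.shortExact_shortComplexKer hf
    have hF : Module.Flat R S.X₂ := inferInstanceAs (Module.Flat R (Fin n → R))
    obtain ⟨g, hg⟩ := Groth.Agent.H9.exists_mono_tor_succ hS (ModuleCat.of R N) p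
    have hfin : Module.Finite R (LinearMap.ker f) := inferInstance
    have h1 := ih (LinearMap.ker f)
    have : IsNoetherian R (((CategoryTheory.Tor (ModuleCat.{u} R) p).obj (ModuleCat.of R (LinearMap.ker f))).obj (ModuleCat.of R N)) :=
      isNoetherian_of_isNoetherianRing_of_finite R _
    exact Module.Finite.of_injective g.hom ((ModuleCat.mono_iff_injective g).1 hg)

end Groth.Agent.S6315
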