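import Groth.Statements.S6331
import Mathlib

set_option autoImplicit false
universe u
open CAlg

namespace Groth.Agent.S6331

open Polynomial in
theorem root_unique_aux {S : Type u} [CommRing S] (n : ℕ) (hn : IsUnit ((n : ℕ) : S)) (c : S)
    (hc : IsNilpotent (1 - c)) :
    ∃! r : S, IsNilpotent (1 - r) ∧ r ^ n = c := by
  have h1 : IsNilpotent (aeval (1 : S) (X ^ n - C c : S[X])) := by
    simpa using hc
  have h2 : IsUnit (aeval (1 : S) (derivative (X ^ n - C c : S[X]))) := by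
    simpa [derivative_X_pow] using hn
  obtain ⟨r, ⟨hr1, hr2⟩, hr3⟩ :=
    Polynomial.existsUnique_nilpotent_sub_and_aeval_eq_zero (P := (X ^ n - C c : S[X])) h1 h2
  refine ⟨r, ⟨hr1, ?_⟩, ?_⟩
  · simpa [sub_eq_zero] using hr2
  · rintro r' ⟨h3, h4⟩
    apply hr3
    refine ⟨h3, ?_⟩
    simp [h4]

/-- Let R be a ring, I ⊆ R an ideal all of whose elements are nilpotent, and n ≥ 1 an integer whose
image in R/I is invertible. Then (1) raising to the n-th power is a bijection of the subset 1 + I of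
R onto itself: for every y ∈ I there is exactly one x ∈ I with (1 + x)ⁿ = 1 + y; (2) a unit u of R
has an n-th root in R exactly when the residue class of u has an n-th root in R/I. -/
theorem result {R : Type u} [CommRing R] (I : Ideal R) (hI : ∀ x ∈ I, IsNilpotent x) (n : ℕ) (hn : 1 ≤ n) (hinv : IsUnit ((n : ℕ) : R ⧸ I)) : (∀ y ∈ I, ∃! x : R, x ∈ I ∧ (1 + x) ^ n = 1 + y) ∧ (∀ u : Rˣ, (∃ v : R, v ^ n = (u : R)) ↔ ∃ w : R ⧸ I, w ^ n = Ideal.Quotient.mk I (u : R)) := by
  have hunit : ∀ a : R, IsUnit (Ideal.Quotient.mk I a) → IsUnit a := by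
    intro a ha
    obtain ⟨b', hb'⟩ := ha.exists_right_inv
    obtain ⟨b, rfl⟩ := Ideal.Quotient.mk_surjective b'
    have h1 : a * b - 1 ∈ I := by
      rw [← Ideal.Quotient.eq_zero_iff_mem, map_sub, map_mul, hb', map_one, sub_self]
    have h2 : IsUnit (a * b) := by
      have := (hI _ h1).isUnit_add_one
      simpa using this
    exact isUnit_of_mul_isUnit_left h2
  have hn_unit : IsUnit ((n : ℕ) : R) := hunit _ (by simpa using hinv)
  have part1 : ∀ y ∈ I, ∃! x : R, x ∈ I ∧ (1 + x) ^ n = 1 + y := by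
    intro y hy
    obtain ⟨r, ⟨hr1, hr2⟩, hr3⟩ := root_unique_aux (S := R) n hn_unit (1 + y)
      (by simpa using (hI y hy).neg)
    -- r ≡ 1 mod I
    have hrI : r - 1 ∈ I := by
      obtain ⟨r', _, hr'⟩ := root_unique_aux (S := R ⧸ I) n hinv 1 (by simp)
      have e1 : Ideal.Quotient.mk I r = r' := by
        apply hr'
        refine ⟨?_, ?_⟩
        · have := hr1.map (Ideal.Quotient.mk I)
          simpa using this
        · rw [← map_pow, hr2, map_add, map_one, Ideal.Quotient.eq_zero_iff_mem.2 hy, add_zero]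
      have e2 : (1 : R ⧸ I) = r' := by
        apply hr'
        simp
      rw [← Ideal.Quotient.eq_zero_iff_mem, map_sub, map_one, e1, ← e2, sub_self]
    refine ⟨r - 1, ⟨hrI, by rw [add_sub_cancel]; exact hr2⟩, ?_⟩
    rintro x' ⟨hx'I, hx'⟩
    have : 1 + x' = r := by
      apply hr3
      refine ⟨?_, hx'⟩
      have : (1 : R) - (1 + x') = -x' := by ring
      rw [this]
      exact (hI x' hx'I).neg
    rw [← this]; ring
  refine ⟨part1, ?_⟩
  intro u
  constructor
  · rintro ⟨v, hv⟩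
    exact ⟨Ideal.Quotient.mk I v, by rw [← map_pow, hv]⟩
  · rintro ⟨w, hw⟩
    obtain ⟨v₀, rfl⟩ := Ideal.Quotient.mk_surjective w
    have hv₀n : IsUnit (v₀ ^ n) := by
      apply hunit
      rw [map_pow, hw]
      exact u.isUnit.map _
    have hv₀ : IsUnit v₀ := by
      have hn0 : n ≠ 0 := by omega
      exact (isUnit_pow_iff hn0).1 hv₀n
    obtain ⟨v, rfl⟩ := hv₀
    -- y := u * v⁻¹ ^ n - 1 ∈ I
    have hy : (u : R) * ((v⁻¹ : Rˣ) : R) ^ n - 1 ∈ I := by
      rw [← Ideal.Quotient.eq_zero_iff_mem, map_sub, map_mul, map_one, ← hw, map_pow, ← mul_pow,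
        ← map_mul, Units.mul_inv, map_one, one_pow, sub_self]
    obtain ⟨x, ⟨_, hx⟩, _⟩ := part1 _ hy
    refine ⟨(v : R) * (1 + x), ?_⟩
    rw [mul_pow, hx, add_sub_cancel, mul_comm (u : R), ← mul_assoc, ← mul_pow, Units.mul_inv, one_pow,
      one_mul]

end Groth.Agent.S6331
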