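import Groth.Statements.S6333
import Mathlib

set_option autoImplicit false
universe u
open Fields

namespace Groth.Agent.S6333

open IntermediateField in
/-- Key lemma: a `k`-linearly independent family of elements algebraic over `k` stays linearly
independent over the subalgebra generated by an algebraically independent family. -/
theorem linearIndependent_adjoin {k K : Type u} [Field k] [Field K] [Algebra k K]
    (s : Finset K) (hs : AlgebraicIndependent k ((↑) : s → K))
    {ι : Type u} (b : ι → algebraicClosure k K) (hb : LinearIndependent k b) :
    LinearIndependent (Algebra.adjoin k (s : Set K)) (fun i => (b i : K)) := by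
  classical
  have hL : AlgebraicIndependent (algebraicClosure k K) ((↑) : s → K) :=
    hs.extendScalars (algebraicClosure k K)
  have hinj := algebraicIndependent_iff_injective_aeval.mp hL
  rw [linearIndependent_iff']
  intro t g hg i hi
  -- choose polynomial representatives
  have hrange : ∀ j, ∃ p : MvPolynomial s k, MvPolynomial.aeval ((↑) : s → K) p = (g j : K) := by
    intro j
    have hmem : (g j : K) ∈ Algebra.adjoin k (Set.range ((↑) : s → K)) := by
      have : Set.range ((↑) : s → K) = (s : Set K) := by simp
      rw [this]; exact (g j).2
    rw [Algebra.adjoin_range_eq_range_aeval] at hmem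
    exact hmem
  choose p hp using hrange
  -- the polynomial with coefficients in L
  set Q : MvPolynomial s (algebraicClosure k K) :=
    ∑ j ∈ t, MvPolynomial.C (b j) * MvPolynomial.map (algebraMap k (algebraicClosure k K)) (p j)
    with hQ
  have hQ0 : MvPolynomial.aeval ((↑) : s → K) Q = 0 := by
    rw [hQ, map_sum]
    have h2 : ∑ j ∈ t, (g j : K) * (b j : K) = 0 := by
      have := hg
      simpa [Subalgebra.smul_def] using this
    rw [← h2]
    refine Finset.sum_congr rfl fun j _ => ?_
    rw [map_mul, MvPolynomial.aeval_C, ← hp j, mul_comm]
    congr 1
    rw [MvPolynomial.aeval_def, MvPolynomial.aeval_def, MvPolynomial.eval₂_map]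
    congr 1
  have hQz : Q = 0 := hinj (by rw [hQ0, map_zero])
  -- extract coefficients
  have hcoef : ∀ m, ∀ j ∈ t, MvPolynomial.coeff m (p j) = 0 := by
    intro m
    have h3 : MvPolynomial.coeff m Q = 0 := by rw [hQz]; simp
    rw [hQ, MvPolynomial.coeff_sum] at h3
    have h4 : ∑ j ∈ t, (MvPolynomial.coeff m (p j)) • b j = 0 := by
      rw [← h3]
      refine Finset.sum_congr rfl fun j _ => ?_
      rw [MvPolynomial.coeff_C_mul, MvPolynomial.coeff_map, Algebra.smul_def, mul_comm]
    exact linearIndependent_iff'.mp hb t (fun j => MvPolynomial.coeff m (p j)) h4
  have hpi : p i = 0 := by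
    ext m; simpa using hcoef m i hi
  apply Subtype.ext
  rw [← hp i, hpi, map_zero]; rfl

open IntermediateField IntermediateField.algebraAdjoinAdjoin in
/-- For a finitely generated field extension K/k, the algebraic closure of k inside K is a finite
extension of k. -/
theorem result {k K : Type u} [Field k] [Field K] [Algebra k K]
    (hfg : (⊤ : IntermediateField k K).FG) :
    FiniteDimensional k (algebraicClosure k K) := by
  classical
  have : Algebra.EssFiniteType k K := IntermediateField.fg_top_iff.mp hfg
  obtain ⟨s, hs⟩ := exists_finset_isTranscendenceBasis k K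
  have hfin : Module.Finite (adjoin k (s : Set K)) K := by
    apply +allowSynthFailures Algebra.finite_of_essFiniteType_of_isAlgebraic
    · exact .of_comp k _ _
    · have hrange : Set.range ((↑) : s → K) = (s : Set K) := by simp
      have h := hs.isAlgebraic_field
      rw [hrange] at h
      exact h
  let b := Module.Basis.ofVectorSpace k (algebraicClosure k K)
  have hb : LinearIndependent k b := b.linearIndependent
  have h1 := linearIndependent_adjoin s hs.1 b hb
  have h2 : LinearIndependent (adjoin k (s : Set K)) (fun i => (b i : K)) :=
    (LinearIndependent.iff_fractionRing (Algebra.adjoin k (s : Set K)) (adjoin k (s : Set K))).mp h1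
  have : Finite (Module.Basis.ofVectorSpaceIndex k (algebraicClosure k K)) := h2.finite
  exact Module.Finite.of_basis b

end Groth.Agent.S6333
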