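import Groth.Statements.S6335
import Mathlib

set_option autoImplicit false
universe u
open Fields

namespace Groth.Agent.S6335

/-- Let K be a field of characteristic p > 0, L/K a separable algebraic extension and a an element of L.
If a is a root of a polynomial P over K which is separable (pairwise distinct roots in an algebraic
closure) and all of whose coefficients are p-th powers in K, then a is a p-th power in L. (Part (1),
the case where P is the minimal polynomial of a, is a special case.) -/
theorem result {K L : Type u} [Field K] [Field L] [Algebra K L]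
    (p : ℕ) [Fact p.Prime] [CharP K p] [Algebra.IsSeparable K L] (a : L) (P : Polynomial K)
    (hroot : Polynomial.aeval a P = 0) (hsep : P.Separable) (hcoeff : ∀ i : ℕ, ∃ b : K, b ^ p = P.coeff i) :
    ∃ c : L, c ^ p = a := by
  classical
  -- Q with P = Q.map frobenius
  choose b hb using hcoeff
  let Q : Polynomial K := ∑ i ∈ P.support, Polynomial.monomial i (b i)
  have hQP : Q.map (frobenius K p) = P := by
    ext i
    simp only [Q, Polynomial.coeff_map, Polynomial.finsetSum_coeff, Polynomial.coeff_monomial]
    rw [Finset.sum_ite_eq']
    split_ifs with hi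
    · rw [frobenius_def, hb]
    · rw [map_zero]
      exact (Polynomial.notMem_support_iff.1 hi).symm
  have hQsep : Q.Separable := by
    rw [← Polynomial.separable_map (frobenius K p), hQP]; exact hsep
  let Ω := AlgebraicClosure L
  have : CharP L p := charP_of_injective_algebraMap (algebraMap K L).injective p
  have : CharP Ω p := charP_of_injective_algebraMap (algebraMap L Ω).injective p
  let ι : K →+* Ω := algebraMap K Ω
  let a' : Ω := algebraMap L Ω a
  let β : Ω := (frobeniusEquiv Ω p).symm a'
  have hβ : β ^ p = a' := by
    exact frobenius_apply_frobeniusEquiv_symm Ω p a'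
  -- Q(β)^p = P(a') = 0
  have hroot : Polynomial.eval β (Q.map ι) = 0 := by
    have h1 : (Polynomial.eval β (Q.map ι)) ^ p = Polynomial.eval (β ^ p) (P.map ι) := by
      have h2 : (Q.map ι).map (frobenius Ω p) = P.map ι := by
        rw [← hQP, Polynomial.map_map, Polynomial.map_map]
        congr 1
        ext x
        simp [ι, frobenius_def]
      rw [← h2, ← frobenius_def, ← frobenius_def, ← Polynomial.eval₂_hom, Polynomial.eval₂_eq_eval_map]
    have h3 : Polynomial.eval (β ^ p) (P.map ι) = 0 := by
      rw [hβ]
      have : Polynomial.eval a' (P.map ι) = algebraMap L Ω (Polynomial.aeval a P) := by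
        rw [Polynomial.eval_map, ← Polynomial.aeval_def, Polynomial.aeval_algebraMap_apply]
      rw [this, hroot, map_zero]
    rw [h3] at h1
    exact pow_eq_zero_iff (Nat.Prime.ne_zero Fact.out) |>.1 h1
  have hβsepK : IsSeparable K β := by
    have h1 : Polynomial.aeval β Q = 0 := by
      rw [Polynomial.aeval_def, Polynomial.eval₂_eq_eval_map]; exact hroot
    exact hQsep.of_dvd (minpoly.dvd K β h1)
  have hβsepL : IsSeparable L β := IsSeparable.tower_top L hβsepK
  have h4 := IntermediateField.adjoin_simple_eq_adjoin_pow_expChar_of_isSeparable L Ω hβsepL p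
  rw [hβ] at h4
  have h5 : IntermediateField.adjoin L {a'} = ⊥ := by
    rw [IntermediateField.adjoin_simple_eq_bot_iff, IntermediateField.mem_bot]
    exact ⟨a, rfl⟩
  rw [h5, IntermediateField.adjoin_simple_eq_bot_iff, IntermediateField.mem_bot] at h4
  obtain ⟨c, hc⟩ := h4
  refine ⟨c, (algebraMap L Ω).injective ?_⟩
  rw [map_pow, hc, hβ]

end Groth.Agent.S6335
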