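import Groth.Statements.S6341
import Groth.Agent.H32.MLDirLim

set_option autoImplicit false
universe u
open CAlg

namespace Groth.Agent.S6341

/-- The colimit of a directed system of Mittag-Leffler modules with universally injective transition
maps is Mittag-Leffler. -/
theorem result (R : Type u) [CommRing R] {ι : Type u}
    [Preorder ι] [IsDirected ι (· ≤ ·)] [DecidableEq ι] (G : ι → Type u) [∀ i, AddCommGroup (G i)]
    [∀ i, Module R (G i)] (f : ∀ i j, i ≤ j → G i →ₗ[R] G j) [DirectedSystem G fun i j h => f i j h]
    (hf : ∀ i j (h : i ≤ j), CAlgX.UniversallyInjective R (f i j h))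
    (hG : ∀ i, CAlg.IsMittagLeffler R (G i)) :
    CAlg.IsMittagLeffler R (Module.DirectLimit G f) := by
  rcases isEmpty_or_nonempty ι with hι | hι
  · -- the colimit over an empty index set is trivial
    have hsub : Subsingleton (Module.DirectLimit G f) := by
      refine ⟨fun a b => ?_⟩
      have key : ∀ c : Module.DirectLimit G f, c = 0 := by
        intro c
        induction c using Quotient.inductionOn' with
        | h c =>
          have : c = 0 := by
            ext i
            exact (hι.false i).elim
          rw [this]
          rfl
      rw [key a, key b]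
    exact Groth.Agent.H32.isMittagLeffler_of_subsingleton R
  · intro A Q _ _
    rw [injective_iff_map_eq_zero]
    intro z hz
    obtain ⟨i, zi, rfl⟩ := Groth.Agent.H32.exists_of_rTensor_eq G f z
    have h1 : TensorProduct.piRightHom R R (G i) Q zi = 0 := by
      funext α
      rw [Pi.zero_apply]
      have h2 : (Module.DirectLimit.of R ι G f i).rTensor (Q α)
          (TensorProduct.piRightHom R R _ Q zi α) = 0 := by
        have := congrFun hz α
        rw [← Groth.Agent.H32.piRightHom_natural_apply, Groth.Agent.H32.piRTensor_apply] at this
        exact this
      obtain ⟨k, hik, hk⟩ := Groth.Agent.H32.exists_rTensor_eq_zero_of_of_eq_zero G f _ h2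
      exact hf i k hik (Q α) (hk.trans (map_zero _).symm)
    have h3 : zi = 0 := hG i A Q (h1.trans (map_zero _).symm)
    rw [h3, map_zero]

end Groth.Agent.S6341
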