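import Groth.Statements.S6344
import Groth.Agent.H32.MLTower

set_option autoImplicit false
universe u
open CAlg

namespace Groth.Agent.S6344

/-- Let R → S be a finite and finitely presented ring map and M an S-module. If M is Mittag-Leffler over
S then M is Mittag-Leffler over R. -/
theorem result (R S : Type u) [CommRing R] [CommRing S]
    [Algebra R S] [Module.Finite R S] [Algebra.FinitePresentation R S]
    (M : Type u) [AddCommGroup M] [Module S M] [Module R M] [IsScalarTower R S M]
    (hM : CAlg.IsMittagLeffler S M) : CAlg.IsMittagLeffler R M := by
  have : Module.FinitePresentation R S := Module.FinitePresentation.of_finite_of_finitePresentation R S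
  exact Groth.Agent.H32.isMittagLeffler_of_finitePresentation_tower R S M hM

end Groth.Agent.S6344
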