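import Groth.Statements.S6345
import Groth.Agent.H32.MLTower

set_option autoImplicit false
universe u
open CAlg

namespace Groth.Agent.S6345

open TensorProduct in
theorem compat_inst (R : Type u) [CommRing R] (I : Ideal R) (M N : Type u) [AddCommGroup M]
    [Module (R ⧸ I) M] [Module R M] [IsScalarTower R (R ⧸ I) M] [AddCommGroup N]
    [Module (R ⧸ I) N] [Module R N] [IsScalarTower R (R ⧸ I) N] :
    TensorProduct.CompatibleSMul R (R ⧸ I) M N where
  smul_tmul a m n := by
    obtain ⟨r, rfl⟩ := Ideal.Quotient.mk_surjective a
    have h1 : (Ideal.Quotient.mk I r) • m = r • m := by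
      rw [← algebraMap_smul (R ⧸ I) r m]; rfl
    have h2 : (Ideal.Quotient.mk I r) • n = r • n := by
      rw [← algebraMap_smul (R ⧸ I) r n]; rfl
    rw [h1, h2, TensorProduct.smul_tmul]

/-- Let I be a finitely generated ideal of a commutative ring R and M an R/I-module. Then M is
Mittag-Leffler over R if and only if it is Mittag-Leffler over R/I. -/
theorem result (R : Type u) [CommRing R] (I : Ideal R) (hI : I.FG)
    (M : Type u) [AddCommGroup M] [Module (R ⧸ I) M] [Module R M] [IsScalarTower R (R ⧸ I) M] :
    CAlg.IsMittagLeffler R M ↔ CAlg.IsMittagLeffler (R ⧸ I) M := by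
  constructor
  · intro hM ι Q _ _
    let _ : ∀ i, Module R (Q i) := fun i => Module.compHom (Q i) (algebraMap R (R ⧸ I))
    have : ∀ i, IsScalarTower R (R ⧸ I) (Q i) := fun i =>
      IsScalarTower.of_algebraMap_smul (fun r x => rfl)
    have hc : ∀ i, TensorProduct.CompatibleSMul R (R ⧸ I) M (Q i) := fun i => compat_inst R I M (Q i)
    have hc' : TensorProduct.CompatibleSMul R (R ⧸ I) M (∀ i, Q i) := compat_inst R I M (∀ i, Q i)
    let e := TensorProduct.equivOfCompatibleSMul R (R ⧸ I) R M (∀ i, Q i)
    let e' := fun i => TensorProduct.equivOfCompatibleSMul R (R ⧸ I) R M (Q i)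
    have hsq : ∀ x : TensorProduct (R ⧸ I) M (∀ i, Q i),
        TensorProduct.piRightHom R R M Q (e x) =
          fun i => e' i (TensorProduct.piRightHom (R ⧸ I) (R ⧸ I) M Q x i) := by
      intro x
      induction x using TensorProduct.induction_on with
      | zero => funext i; simp
      | tmul m q => funext i; rfl
      | add x y hx hy =>
        funext i
        have hx' := congrFun hx i
        have hy' := congrFun hy i
        simp only [map_add, Pi.add_apply] at hx' hy' ⊢
        rw [hx', hy']
    intro x y hxy
    apply e.injective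
    apply hM ι Q
    rw [hsq, hsq, hxy]
  · intro hM
    have : Module.FinitePresentation R (R ⧸ I) := by
      apply Module.finitePresentation_of_surjective I.mkQ I.mkQ_surjective
      rw [Submodule.ker_mkQ]
      exact hI
    exact Groth.Agent.H32.isMittagLeffler_of_finitePresentation_tower R (R ⧸ I) M hM

end Groth.Agent.S6345
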