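import Groth.Statements.S6359
import Groth.Agent.H32.Dominate

set_option autoImplicit false
universe u
open CAlg

namespace Groth.Agent.S6359

open TensorProduct Groth.Agent.H32 in
theorem injective_of_univ {R : Type u} [CommRing R] {A B : Type u}
    [AddCommGroup A] [Module R A] [AddCommGroup B] [Module R B] (ι : A →ₗ[R] B)
    (h : CAlgX.UniversallyInjective R ι) : Function.Injective ι := by
  intro a b hab
  have h1 : ι.rTensor R (a ⊗ₜ[R] (1 : R)) = ι.rTensor R (b ⊗ₜ[R] (1 : R)) := by
    simp [hab]
  have h2 := h R h1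
  have h3 := congrArg (TensorProduct.rid R A) h2
  simpa using h3

/-- Let f : M → N and g : M → M' be maps of R-modules such that the cokernel of f is finitely presented.
Then g dominates f (for every module Q the kernel of f ⊗ id_Q is contained in the kernel of g ⊗
id_Q) if and only if g factors through f. -/
theorem result (R : Type u) [CommRing R] {M N M' : Type u}
    [AddCommGroup M] [Module R M] [AddCommGroup N] [Module R N] [AddCommGroup M'] [Module R M']
    (f : M →ₗ[R] N) (g : M →ₗ[R] M') [Module.FinitePresentation R (N ⧸ LinearMap.range f)] :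
    (∀ (Q : Type u) [AddCommGroup Q] [Module R Q], LinearMap.ker (f.rTensor Q) ≤ LinearMap.ker (g.rTensor Q)) ↔
      ∃ h : N →ₗ[R] M', g = h ∘ₗ f := by
  constructor
  · intro hdom
    have hι : CAlgX.UniversallyInjective R (Groth.Agent.H32.pushoutInl f g) :=
      (Groth.Agent.H32.dominates_iff_pushoutInl_injective f g).1 hdom
    have hιinj := injective_of_univ _ hι
    -- the projection to the cokernel of f
    let π' : Groth.Agent.H32.Pushout f g →ₗ[R] (N ⧸ LinearMap.range f) :=
      (LinearMap.range (g.prod (-f))).liftQ ((LinearMap.range f).mkQ ∘ₗ LinearMap.snd R M' N) (by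
        rintro _ ⟨x, rfl⟩
        rw [LinearMap.mem_ker, LinearMap.comp_apply, LinearMap.snd_apply, Submodule.mkQ_apply,
          Submodule.Quotient.mk_eq_zero]
        exact ⟨-x, by simp⟩)
    have hπ'mk : ∀ (a : M') (n : N), π' (Submodule.Quotient.mk (a, n)) = Submodule.Quotient.mk n := by
      intro a n
      rfl
    have hexact : Function.Exact (Groth.Agent.H32.pushoutInl f g) π' := by
      intro z
      constructor
      · intro hz
        obtain ⟨⟨a, n⟩, rfl⟩ := Submodule.Quotient.mk_surjective _ z
        rw [hπ'mk, Submodule.Quotient.mk_eq_zero] at hz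
        obtain ⟨x, rfl⟩ := hz
        refine ⟨a + g x, ?_⟩
        simp only [LinearMap.comp_apply, Submodule.mkQ_apply, LinearMap.inl_apply]
        rw [Submodule.Quotient.eq]
        refine ⟨x, ?_⟩
        simp
      · rintro ⟨a, rfl⟩
        simp only [LinearMap.comp_apply, Submodule.mkQ_apply, LinearMap.inl_apply]
        rw [hπ'mk]
        simp
    have hsurj : Function.Surjective π' := by
      intro y
      obtain ⟨n, rfl⟩ := Submodule.Quotient.mk_surjective _ y
      exact ⟨Submodule.Quotient.mk (0, n), hπ'mk 0 n⟩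
    obtain ⟨s, hs⟩ := Groth.Agent.H32.exists_lift_of_universallyInjective
      (Groth.Agent.H32.pushoutInl f g) π' hexact hsurj hι LinearMap.id
    obtain ⟨-, r, hr⟩ := ((hexact.split_tfae').out 0 1 rfl rfl).1 ⟨hιinj, s, hs⟩
    refine ⟨r ∘ₗ Groth.Agent.H32.pushoutInr f g, ?_⟩
    rw [LinearMap.comp_assoc, ← Groth.Agent.H32.pushout_comm, ← LinearMap.comp_assoc, hr,
      LinearMap.id_comp]
  · rintro ⟨h, rfl⟩ Q _ _ x hx
    rw [LinearMap.mem_ker] at hx ⊢
    rw [LinearMap.rTensor_comp, LinearMap.comp_apply, hx, map_zero]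

end Groth.Agent.S6359
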