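import Groth.Statements.S6362
-- import your own Groth.Agent.* helpers here

set_option autoImplicit false
universe u
open scoped TensorProduct
open Fields

namespace Groth.Agent.S6362

/-- Let K/F be a finite separable extension and L/F an extension with L algebraically closed. Then the
L-algebra map K ⊗_F L → ∏_σ L, indexed by the F-algebra maps σ : K → L and sending a ⊗ b to (σ(a)
b)_σ, is an isomorphism; stated as bijectivity of that map. -/
theorem result {F K L : Type u} [Field F] [Field K] [Field L]
    [Algebra F K] [Algebra F L] [FiniteDimensional F K] [Algebra.IsSeparable F K] [IsAlgClosed L] :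
    Function.Bijective (fun x : K ⊗[F] L => fun σ : K →ₐ[F] L =>
      Algebra.TensorProduct.lift σ (AlgHom.id F L) (fun a b => Commute.all (σ a) b) x) := by
  classical
  set n := Module.finrank F K with hn
  let b : Module.Basis (Fin n) F K := Module.finBasis F K
  have hcard : Fintype.card (K →ₐ[F] L) = n := AlgHom.card F K L
  let ε : (K →ₐ[F] L) ≃ Fin n := Fintype.equivFinOfCardEq hcard
  let M : Matrix (Fin n) (Fin n) L := fun j i => (ε.symm j) (b i)
  -- rows are linearly independent (independence of characters)
  let ψ : (K →ₗ[F] L) →ₗ[L] (Fin n → L) :=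
    { toFun := fun f i => f (b i)
      map_add' := fun f g => by ext i; simp
      map_smul' := fun c f => by ext i; simp }
  have hψ : LinearMap.ker ψ = ⊥ := by
    rw [LinearMap.ker_eq_bot']
    intro f hf
    apply b.ext
    intro i
    have := congrFun hf i
    simpa [ψ] using this
  have hrows : LinearIndependent L M.row := by
    have h1 := (linearIndependent_algHom_toLinearMap F K L).map' ψ hψ
    have h2 := h1.comp ε.symm ε.symm.injective
    have hrow : M.row = (⇑ψ ∘ AlgHom.toLinearMap) ∘ ⇑ε.symm := by
      ext j i; rfl
    rw [hrow]
    exact h2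
  have hM : IsUnit M := Matrix.linearIndependent_rows_iff_isUnit.1 hrows
  let e := TensorProduct.equivFinsuppOfBasisLeft (N := L) b
  have key : ∀ (c : Fin n →₀ L) (σ : K →ₐ[F] L),
      Algebra.TensorProduct.lift σ (AlgHom.id F L) (fun a b => Commute.all (σ a) b) (e.symm c)
        = M.mulVec c (ε σ) := by
    intro c σ
    rw [TensorProduct.equivFinsuppOfBasisLeft_symm_apply, Finsupp.sum_fintype _ _ (by simp),
      map_sum]
    simp only [Matrix.mulVec, dotProduct, M, Equiv.symm_apply_apply]
    refine Finset.sum_congr rfl fun i _ => ?_
    exact (Algebra.TensorProduct.lift_tmul _ _ _ _ _).trans (by simp)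
  constructor
  · intro x y hxy
    obtain ⟨c, rfl⟩ := e.symm.surjective x
    obtain ⟨d, rfl⟩ := e.symm.surjective y
    have h : M.mulVec c = M.mulVec d := by
      ext j
      have := congrFun hxy (ε.symm j)
      simp only [key] at this
      simpa using this
    have := Matrix.mulVec_injective_iff_isUnit.2 hM h
    congr 1
    exact DFunLike.coe_injective this
  · intro g
    obtain ⟨v, hv⟩ := Matrix.mulVec_surjective_iff_isUnit.2 hM (g ∘ ε.symm)
    refine ⟨e.symm (Finsupp.equivFunOnFinite.symm v), ?_⟩
    ext σ
    simp only [key]
    have : ((Finsupp.equivFunOnFinite.symm v : Fin n →₀ L) : Fin n → L) = v := by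
      ext i; simp
    rw [this, hv]
    simp

end Groth.Agent.S6362
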