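import Groth.Statements.S6363
import Mathlib.FieldTheory.Normal.Closure
import Mathlib.RingTheory.PiTensorProduct
import Mathlib.FieldTheory.SeparableDegree

set_option autoImplicit false
universe u
open scoped TensorProduct
open Fields

namespace Groth.Agent.S6363

/-- For a finite field extension L/K and a normal closure M of L/K, some K-algebra homomorphism from the
n-fold tensor power L ⊗_K ⋯ ⊗_K L to M is surjective, where n = [L : K]_s is the separable degree
(so n ≤ [L : K]). -/
theorem result {K L M : Type u} [Field K] [Field L] [Field M]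
    [Algebra K L] [Algebra K M] [Algebra L M] [IsScalarTower K L M] [FiniteDimensional K L]
    [IsNormalClosure K L M] :
    ∃ f : (⨂[K] _ : Fin (Field.finSepDegree K L), L) →ₐ[K] M, Function.Surjective f := by
  classical
  have hnorm : Normal K M := IsNormalClosure.normal (K := L)
  have halgM : Algebra.IsAlgebraic K M := inferInstance
  obtain ⟨hsplits, htop⟩ := (Algebra.IsAlgebraic.isNormalClosure_iff (F := K) (K := L) (L := M)).1 inferInstance
  have hcard : Field.finSepDegree K L = Nat.card (L →ₐ[K] M) :=
    Field.finSepDegree_eq_of_adjoin_splits K L M (IntermediateField.adjoin_univ K L)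
      (fun s _ => ⟨Algebra.IsIntegral.isIntegral s, hsplits s⟩)
  have hfin : Finite (L →ₐ[K] M) := inferInstance
  let e : (L →ₐ[K] M) ≃ Fin (Field.finSepDegree K L) :=
    (Finite.equivFin _).trans (finCongr hcard.symm)
  -- the multilinear map
  let μ : MultilinearMap K (fun _ : Fin (Field.finSepDegree K L) => L) M :=
    (MultilinearMap.mkPiAlgebra K (Fin (Field.finSepDegree K L)) M).compLinearMap
      (fun i => (e.symm i).toLinearMap)
  have hμ : ∀ x, μ x = ∏ i, (e.symm i) (x i) := fun x => by
    simp [μ]
  let f : (⨂[K] _ : Fin (Field.finSepDegree K L), L) →ₐ[K] M :=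
    PiTensorProduct.liftAlgHom μ (by simp [hμ]) (fun x y => by
      simp only [hμ, Pi.mul_apply, map_mul, Finset.prod_mul_distrib])
  refine ⟨f, ?_⟩
  have hfσ : ∀ (σ : L →ₐ[K] M) (x : L), σ x ∈ f.range := by
    intro σ x
    refine ⟨PiTensorProduct.singleAlgHom (e σ) x, ?_⟩
    change f (PiTensorProduct.tprod K _) = _
    simp only [f, PiTensorProduct.liftAlgHom_apply, PiTensorProduct.lift.tprod, hμ]
    rw [Finset.prod_eq_single (e σ)]
    · simp
    · intro j _ hj
      simp [MonoidHom.mulSingle_apply, Pi.mulSingle_eq_of_ne hj]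
    · intro h; exact absurd (Finset.mem_univ _) h
  let E : IntermediateField K M :=
    Subalgebra.toIntermediateField' f.range (Subalgebra.isField_of_algebraic _)
  have hE : E = ⊤ := by
    rw [eq_top_iff, ← htop, normalClosure_def, iSup_le_iff]
    rintro σ _ ⟨x, rfl⟩
    exact hfσ σ x
  intro m
  have : m ∈ E := hE ▸ IntermediateField.mem_top
  exact this

end Groth.Agent.S6363
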