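import Groth.Statements.S6364
import Mathlib

set_option autoImplicit false
universe u
open Fields

namespace Groth.Agent.S6364

open Matrix Polynomial in
theorem charmatrix_blockDiagonal {R : Type*} [CommRing R] {n o : Type*} [Fintype n] [DecidableEq n]
    [Fintype o] [DecidableEq o] (M : o → Matrix n n R) :
    charmatrix (blockDiagonal M) = blockDiagonal (fun k => charmatrix (M k)) := by
  ext ⟨i, k⟩ ⟨j, k'⟩
  simp only [charmatrix_apply, blockDiagonal_apply, diagonal_apply, Prod.mk.injEq]
  by_cases hk : k = k'
  · subst hk
    by_cases hi : i = j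
    · subst hi; simp
    · simp [hi]
  · simp [hk]

open Matrix Polynomial in
theorem charpoly_blockDiagonal {R : Type*} [CommRing R] {n o : Type*} [Fintype n] [DecidableEq n]
    [Fintype o] [DecidableEq o] (M : o → Matrix n n R) :
    (blockDiagonal M).charpoly = ∏ k, (M k).charpoly := by
  simp only [Matrix.charpoly, charmatrix_blockDiagonal, det_blockDiagonal]

open IntermediateField in
theorem result {K L : Type u} [Field K] [Field L] [Algebra K L] [FiniteDimensional K L]
    (a : L) :
    (Algebra.lmul K L a).charpoly = minpoly K a ^ Module.finrank K⟮a⟯ L ∧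
      Module.finrank K⟮a⟯ L * (minpoly K a).natDegree = Module.finrank K L := by
  classical
  have hint : IsIntegral K a := Algebra.IsIntegral.isIntegral a
  constructor
  · let pb := IntermediateField.adjoin.powerBasis hint
    let c := Module.Free.chooseBasis K⟮a⟯ L
    have h1 : (Algebra.lmul K L a).charpoly =
        (Algebra.leftMulMatrix (pb.basis.smulTower c) a).charpoly := by
      rw [Algebra.leftMulMatrix_apply, LinearMap.charpoly_toMatrix]
    have ha : algebraMap K⟮a⟯ L (AdjoinSimple.gen K a) = a := by
      simp
    have h3 : Algebra.leftMulMatrix (pb.basis.smulTower c) a =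
        Algebra.leftMulMatrix (pb.basis.smulTower c) (algebraMap K⟮a⟯ L (AdjoinSimple.gen K a)) :=
      congrArg _ ha.symm
    rw [h1, h3, Algebra.smulTower_leftMulMatrix_algebraMap, charpoly_blockDiagonal]
    have h2 : (Algebra.leftMulMatrix pb.basis (AdjoinSimple.gen K a)).charpoly = minpoly K a := by
      have := charpoly_leftMulMatrix pb
      rw [IntermediateField.adjoin.powerBasis_gen] at this
      rw [this, IntermediateField.minpoly_gen]
    simp only [h2, Finset.prod_const, Finset.card_univ]
    congr 1
    exact (Module.finrank_eq_card_chooseBasisIndex K⟮a⟯ L).symm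
  · rw [← IntermediateField.adjoin.finrank hint, mul_comm]
    exact Module.finrank_mul_finrank K K⟮a⟯ L

end Groth.Agent.S6364
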