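import Groth.Statements.S6365
import Mathlib

set_option autoImplicit false
universe u
open Fields

namespace Groth.Agent.S6365

theorem result {K L : Type u} [Field K] [Field L] [Algebra K L]
    [FiniteDimensional K L] (V : Type u) [AddCommGroup V] [Module L V] [Module K V] [IsScalarTower K L V]
    [FiniteDimensional L V] (φ : V →ₗ[L] V) :
    LinearMap.trace K V (φ.restrictScalars K) = Algebra.trace K L (LinearMap.trace L V φ) := by
  classical
  let b := Module.Free.chooseBasis K L
  let c := Module.Free.chooseBasis L V
  rw [LinearMap.trace_eq_matrix_trace K (b.smulTower c), LinearMap.trace_eq_matrix_trace L c,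
    Algebra.trace_eq_matrix_trace b]
  simp only [Matrix.trace, Matrix.diag]
  rw [← Finset.univ_product_univ, Finset.sum_product, Finset.sum_comm, map_sum]
  simp only [Matrix.sum_apply]
  rw [Finset.sum_comm]
  refine Finset.sum_congr rfl fun i _ => Finset.sum_congr rfl fun j _ => ?_
  simp only [LinearMap.toMatrix_apply, Module.Basis.smulTower_apply, Module.Basis.smulTower_repr,
    LinearMap.restrictScalars_apply, Algebra.leftMulMatrix_eq_repr_mul]
  rw [LinearMap.map_smul_of_tower, map_smul, Finsupp.smul_apply, smul_eq_mul]
  rw [mul_comm]

end Groth.Agent.S6365
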