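import Groth.Statements.S6368
import Mathlib

set_option autoImplicit false
universe u
open scoped TensorProduct
open CAlg

namespace Groth.Agent.S6368

/-- Let R → S be faithfully flat and M an R-module. If the S-module S ⊗_R M is countably generated then
M is countably generated. -/
theorem result (R S : Type u) [CommRing R] [CommRing S] [Algebra R S]
    [Module.FaithfullyFlat R S] (M : Type u) [AddCommGroup M] [Module R M]
    (h : CAlg.IsCountablyGenerated S (S ⊗[R] M)) : CAlg.IsCountablyGenerated R M := by
  classical
  obtain ⟨s, hs, hspan⟩ := h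
  choose F hF using fun t : S ⊗[R] M => TensorProduct.exists_finset t
  let T : Set M := ⋃ t ∈ s, (fun p : S × M => p.2) '' (F t : Set (S × M))
  have hT : T.Countable := by
    apply Set.Countable.biUnion hs
    intro t _
    exact ((F t).finite_toSet.image _).countable
  refine ⟨T, hT, ?_⟩
  let N : Submodule R M := Submodule.span R T
  have hsurj : Function.Surjective (N.subtype.lTensor S) := by
    rw [← LinearMap.baseChange_eq_ltensor (A := S), ← LinearMap.range_eq_top, eq_top_iff, ← hspan,
      Submodule.span_le]
    intro t ht
    rw [hF t]
    apply Submodule.sum_mem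
    intro p hp
    have hpN : p.2 ∈ N := by
      apply Submodule.subset_span
      exact Set.mem_biUnion ht ⟨p, hp, rfl⟩
    exact ⟨p.1 ⊗ₜ[R] ⟨p.2, hpN⟩, by simp⟩
  have h2 : Function.Surjective N.subtype :=
    (Module.FaithfullyFlat.lTensor_surjective_iff_surjective R S N.subtype).1 hsurj
  rw [eq_top_iff]
  intro x _
  obtain ⟨y, rfl⟩ := h2 x
  exact y.2

end Groth.Agent.S6368
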