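import Groth.Statements.S6370
import Groth.Agent.H38.KAFinExt
import Mathlib.RingTheory.DedekindDomain.Factorization

set_option autoImplicit false
universe u
open CAlg

namespace Groth.Agent.S6370

/-- For a one-dimensional Noetherian domain A with fraction field K, a finite field extension L of K
(separable or not) and B the integral closure of A in L: B is a Dedekind domain, Spec B → Spec A is
surjective and has finite fibres, and at every maximal ideal Q of B the residue field B/Q is finite
over A/(Q ∩ A). -/
theorem result (A K L B : Type u) [CommRing A] [IsDomain A]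
    [IsNoetherianRing A] (hdim : ringKrullDim A = 1) [Field K] [Algebra A K] [IsFractionRing A K]
    [Field L] [Algebra K L] [FiniteDimensional K L] [Algebra A L] [IsScalarTower A K L]
    [CommRing B] [IsDomain B] [Algebra A B] [Algebra B L] [IsScalarTower A B L] [IsIntegralClosure B A L] :
    IsDedekindDomain B ∧ Function.Surjective (PrimeSpectrum.comap (algebraMap A B)) ∧
      (∀ p : PrimeSpectrum A, (PrimeSpectrum.comap (algebraMap A B) ⁻¹' {p}).Finite) ∧
      ∀ Q : Ideal B, Q.IsMaximal → Module.Finite (A ⧸ Q.comap (algebraMap A B)) (B ⧸ Q) := by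
  have hd : Ring.KrullDimLE 1 A := Ring.krullDimLE_iff.mpr (le_of_eq hdim)
  have hd1 : Ring.DimensionLEOne A := Groth.Agent.H9.KA.dimensionLEOne
  have hint : Algebra.IsIntegral A B := IsIntegralClosure.isIntegral_algebra A L
  have hfrac : IsFractionRing B L := IsIntegralClosure.isFractionRing_of_finite_extension A K L B
  have hAL : Function.Injective (algebraMap A L) := by
    rw [IsScalarTower.algebraMap_eq A K L]
    exact (algebraMap K L).injective.comp (IsFractionRing.injective A K)
  have hAB : Function.Injective (algebraMap A B) := by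
    intro x y hxy
    apply hAL
    rw [IsScalarTower.algebraMap_apply A B L, IsScalarTower.algebraMap_apply A B L, hxy]
  have hfaith : FaithfulSMul A B := (faithfulSMul_iff_algebraMap_injective A B).mpr hAB
  let e : B ≃ₐ[A] integralClosure A L := IsIntegralClosure.equiv A B L (integralClosure A L)
  have hN : IsNoetherianRing (integralClosure A L) :=
    Groth.Agent.H38.isNoetherianRing_subalgebra_of_finite_ext A K L _
  have hNB : IsNoetherianRing B := isNoetherianRing_of_ringEquiv _ e.symm.toRingEquiv
  have hDim : Ring.DimensionLEOne B := Ring.DimensionLEOne.of_isIntegral A B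
  have hDed : IsDedekindDomain B := by
    refine (isDedekindDomain_iff B L).mpr ⟨inferInstance, hNB, hDim, fun {x} hx => ?_⟩
    have hx' : IsIntegral A x := isIntegral_trans x hx
    exact IsIntegralClosure.isIntegral_iff.mp hx'
  have hnotfield : ¬ IsField A := by
    intro hf
    have := ringKrullDim_eq_zero_of_isField hf
    rw [hdim] at this
    exact one_ne_zero this
  refine ⟨hDed, Algebra.IsIntegral.comap_surjective A B, ?_, ?_⟩
  · intro p
    by_cases hp : p.asIdeal = ⊥
    · refine Set.Finite.subset (Set.finite_singleton (⊥ : PrimeSpectrum B)) ?_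
      intro Q hQ
      have h1 : Q.asIdeal.comap (algebraMap A B) = ⊥ := by
        rw [← hp]
        exact congrArg PrimeSpectrum.asIdeal hQ
      have h2 : Q.asIdeal = ⊥ := Ideal.eq_bot_of_comap_eq_bot h1
      exact PrimeSpectrum.ext h2
    · obtain ⟨a, hap, ha0⟩ := Submodule.exists_mem_ne_zero_of_ne_bot hp
      have hI : Ideal.span {algebraMap A B a} ≠ (0 : Ideal B) := by
        intro h
        rw [Ideal.zero_eq_bot, Ideal.span_singleton_eq_bot] at h
        exact ha0 (hAB (h.trans (map_zero _).symm))
      have hfin := Ideal.finite_factors hI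
      refine Set.Finite.subset (hfin.image fun v => ⟨v.asIdeal, v.isPrime⟩) ?_
      intro Q hQ
      have h1 : Q.asIdeal.comap (algebraMap A B) = p.asIdeal :=
        congrArg PrimeSpectrum.asIdeal hQ
      have haQ : algebraMap A B a ∈ Q.asIdeal := by
        have : a ∈ Q.asIdeal.comap (algebraMap A B) := h1 ▸ hap
        exact this
      have hQ0 : Q.asIdeal ≠ ⊥ := by
        intro h
        rw [h] at haQ
        exact ha0 (hAB ((Ideal.mem_bot.mp haQ).trans (map_zero _).symm))
      refine ⟨⟨Q.asIdeal, Q.isPrime, hQ0⟩, ?_, rfl⟩
      change Q.asIdeal ∣ Ideal.span {algebraMap A B a}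
      rw [Ideal.dvd_iff_le, Ideal.span_singleton_le_iff_mem]
      exact haQ
  · intro Q hQ
    have hQ0 : Q ≠ ⊥ := by
      intro h
      subst h
      have hBf : IsField B :=
        MulEquiv.isField ((Ideal.Quotient.maximal_ideal_iff_isField_quotient _).mp hQ)
          (RingEquiv.quotientBot B).symm.toMulEquiv
      exact hnotfield (isField_of_isIntegral_of_isField hAB hBf)
    have hq0 : Q.comap (algebraMap A B) ≠ ⊥ := fun h => hQ0 (Ideal.eq_bot_of_comap_eq_bot h)
    obtain ⟨a, haq, ha0⟩ := Submodule.exists_mem_ne_zero_of_ne_bot hq0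
    have haQ : algebraMap A B a ∈ Q := haq
    have hfinq := Groth.Agent.H38.finite_quotient_of_finite_ext A K L (integralClosure A L) a ha0
    let J : Ideal (integralClosure A L) := Ideal.span {algebraMap A (integralClosure A L) a}
    let g0 : integralClosure A L →ₐ[A] B ⧸ Q := (Ideal.Quotient.mkₐ A Q).comp e.symm.toAlgHom
    have hg0 : ∀ x ∈ J, g0 x = 0 := by
      intro x hx
      have hJ : J ≤ RingHom.ker g0.toRingHom := by
        rw [Ideal.span_le, Set.singleton_subset_iff]
        change g0 (algebraMap A (integralClosure A L) a) = 0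
        rw [g0.commutes]
        change Ideal.Quotient.mk Q (algebraMap A B a) = 0
        exact Ideal.Quotient.eq_zero_iff_mem.mpr haQ
      exact hJ hx
    let g : (integralClosure A L ⧸ J) →ₐ[A] B ⧸ Q := Ideal.Quotient.liftₐ J g0 hg0
    have hg : Function.Surjective g := by
      intro y
      obtain ⟨b, rfl⟩ := Ideal.Quotient.mk_surjective y
      refine ⟨Ideal.Quotient.mk J (e b), ?_⟩
      change g0 (e b) = _
      change Ideal.Quotient.mk Q (e.symm (e b)) = _
      rw [e.symm_apply_apply]
    have h1 : Module.Finite A (B ⧸ Q) := Module.Finite.of_surjective g.toLinearMap hg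
    exact Module.Finite.of_restrictScalars_finite A _ _

end Groth.Agent.S6370
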