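import Groth.Statements.S6371
import Mathlib
import Groth.Agent.H32.Epi

set_option autoImplicit false
universe u
open CAlg

namespace Groth.Agent.S6371

open TensorProduct Groth.Agent.H32

/-- A ring map R → S is an epimorphism of rings if and only if for every prime p of R the localized map
R_p → S_p is an epimorphism, where S_p is S localized at the image of R ∖ p. -/
theorem result (R S : Type u) [CommRing R] [CommRing S] [Algebra R S] :
    Algebra.IsEpi R S ↔ ∀ (p : Ideal R) [p.IsPrime],
      Algebra.IsEpi (Localization.AtPrime p) (Localization (Algebra.algebraMapSubmonoid S p.primeCompl)) := by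
  constructor
  · intro h p _
    apply isEpi_of_forall_ringHom_eq
    intro f g e
    apply IsLocalization.ringHom_ext (Algebra.algebraMapSubmonoid S p.primeCompl)
    apply ringHom_eq_of_isEpi (R := R)
    have key : (algebraMap S (Localization (Algebra.algebraMapSubmonoid S p.primeCompl))).comp
        (algebraMap R S) =
        (algebraMap (Localization.AtPrime p)
          (Localization (Algebra.algebraMapSubmonoid S p.primeCompl))).comp
          (algebraMap R (Localization.AtPrime p)) := by
      rw [← IsScalarTower.algebraMap_eq, ← IsScalarTower.algebraMap_eq]
    rw [RingHom.comp_assoc, RingHom.comp_assoc, key, ← RingHom.comp_assoc, ← RingHom.comp_assoc, e]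
  · intro h
    apply isEpi_of_forall_ringHom_eq
    intro f g e
    refine RingHom.ext fun s => ?_
    by_contra hne
    let φ : R →+* S ⊗[R] S := f.comp (algebraMap R S)
    let I : Ideal R :=
      { carrier := {r | φ r * (f s - g s) = 0}
        add_mem' := by
          intro a b ha hb
          simp only [Set.mem_ofPred_eq] at ha hb ⊢
          rw [map_add, add_mul, ha, hb, add_zero]
        zero_mem' := by simp
        smul_mem' := by
          intro c a ha
          simp only [Set.mem_ofPred_eq, smul_eq_mul] at ha ⊢
          rw [map_mul, mul_assoc, ha, mul_zero] }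
    have hI : I ≠ ⊤ := by
      intro htop
      have h1 : (1 : R) ∈ I := by rw [htop]; trivial
      have h2 : φ 1 * (f s - g s) = 0 := h1
      rw [map_one, one_mul, sub_eq_zero] at h2
      exact hne h2
    obtain ⟨p, hp, hIp⟩ := I.exists_le_maximal hI
    have := hp.isPrime
    have hep := h p
    let M : Submonoid (S ⊗[R] S) := p.primeCompl.map φ
    have hf : Algebra.algebraMapSubmonoid S p.primeCompl ≤ M.comap f := by
      rintro _ ⟨r, hr, rfl⟩
      exact ⟨r, hr, rfl⟩
    have hg : Algebra.algebraMapSubmonoid S p.primeCompl ≤ M.comap g := by
      rintro _ ⟨r, hr, rfl⟩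
      exact ⟨r, hr, RingHom.congr_fun e r⟩
    let fp : Localization (Algebra.algebraMapSubmonoid S p.primeCompl) →+* Localization M :=
      IsLocalization.map (Localization M) f hf
    let gp : Localization (Algebra.algebraMapSubmonoid S p.primeCompl) →+* Localization M :=
      IsLocalization.map (Localization M) g hg
    have hfg : fp = gp := by
      apply ringHom_eq_of_isEpi (R := Localization.AtPrime p)
      apply IsLocalization.ringHom_ext p.primeCompl
      have key : (algebraMap (Localization.AtPrime p)
          (Localization (Algebra.algebraMapSubmonoid S p.primeCompl))).comp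
          (algebraMap R (Localization.AtPrime p)) =
          (algebraMap S (Localization (Algebra.algebraMapSubmonoid S p.primeCompl))).comp
          (algebraMap R S) := by
        rw [← IsScalarTower.algebraMap_eq, ← IsScalarTower.algebraMap_eq]
      rw [RingHom.comp_assoc, RingHom.comp_assoc, key, ← RingHom.comp_assoc, ← RingHom.comp_assoc]
      simp only [fp, gp, IsLocalization.map_comp]
      rw [RingHom.comp_assoc, RingHom.comp_assoc, e]
    have h3 : algebraMap (S ⊗[R] S) (Localization M) (f s) =
        algebraMap (S ⊗[R] S) (Localization M) (g s) := by
      have := RingHom.congr_fun hfg (algebraMap S _ s)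
      simpa only [fp, gp, IsLocalization.map_eq] using this
    obtain ⟨⟨c, r, hr, rfl⟩, hc⟩ := (IsLocalization.eq_iff_exists M (Localization M)).1 h3
    have hrI : r ∈ I := by
      change φ r * (f s - g s) = 0
      rw [mul_sub, sub_eq_zero]
      exact hc
    exact hr (hIp hrI)

end Groth.Agent.S6371
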