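import Groth.Statements.S6372
import Mathlib

set_option autoImplicit false
universe u
open CAlg

namespace Groth.Agent.S6372

open TensorProduct

/-- A faithfully flat epimorphism of rings is an isomorphism: if R → S is faithfully flat and an
epimorphism in the category of rings then it is bijective. -/
theorem result (R S : Type u) [CommRing R] [CommRing S] [Algebra R S]
    [Module.FaithfullyFlat R S] [Algebra.IsEpi R S] : Function.Bijective (algebraMap R S) := by
  have hb : Function.Bijective ((Algebra.linearMap R S).lTensor S) := by
    -- mult ∘ lTensor = rid-like iso
    let μ : S ⊗[R] S →ₗ[R] S := TensorProduct.lift (LinearMap.mul R S)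
    have hμ : Function.Injective μ := Algebra.IsEpi.injective_lift_mul
    have hcomp : μ ∘ₗ (Algebra.linearMap R S).lTensor S = (TensorProduct.rid R S).toLinearMap := by
      ext s
      simp [μ]
    have hinj : Function.Injective ((Algebra.linearMap R S).lTensor S) := by
      have : Function.Injective (μ ∘ₗ (Algebra.linearMap R S).lTensor S) := by
        rw [hcomp]; exact (TensorProduct.rid R S).injective
      exact Function.Injective.of_comp this
    have hsurj : Function.Surjective ((Algebra.linearMap R S).lTensor S) := by
      intro y
      obtain ⟨z, hz⟩ := (TensorProduct.rid R S).surjective (μ y)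
      refine ⟨z, hμ ?_⟩
      rw [← hz]
      exact LinearMap.congr_fun hcomp z
    exact ⟨hinj, hsurj⟩
  exact (Module.FaithfullyFlat.lTensor_bijective_iff_bijective R S (Algebra.linearMap R S)).1 hb

end Groth.Agent.S6372
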