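import Groth.Statements.S6374
import Mathlib
import Groth.Agent.S6373
import Groth.Agent.H32.Epi

set_option autoImplicit false
universe u
open CAlg

namespace Groth.Agent.S6374

/-- For an epimorphism of rings R → S, the induced map Spec S → Spec R is injective and induces trivial
residue field extensions; stated in the form the proof gives: for every prime p of R the fibre ring
S ⊗_R κ(p) is either zero or κ(p) → S ⊗_R κ(p) is bijective, together with injectivity of Spec S →
Spec R. -/
theorem result (R S : Type u) [CommRing R] [CommRing S] [Algebra R S]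
    [Algebra.IsEpi R S] :
    Function.Injective (PrimeSpectrum.comap (algebraMap R S)) ∧
      ∀ (p : Ideal R) [p.IsPrime],
        Subsingleton (p.Fiber S) ∨ Function.Bijective (algebraMap p.ResidueField (p.Fiber S)) := by
  have hfib : ∀ (p : Ideal R) [p.IsPrime],
      Subsingleton (p.Fiber S) ∨ Function.Bijective (algebraMap p.ResidueField (p.Fiber S)) := by
    intro p _
    have : Algebra.IsEpi p.ResidueField (p.Fiber S) :=
      Groth.Agent.H32.isEpi_baseChange R S p.ResidueField
    exact Groth.Agent.S6373.result p.ResidueField (p.Fiber S)
  refine ⟨?_, fun p _ => hfib p⟩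
  intro q q' h
  let p : PrimeSpectrum R := PrimeSpectrum.comap (algebraMap R S) q
  have hsub : Subsingleton (PrimeSpectrum (p.asIdeal.Fiber S)) := by
    rcases hfib p.asIdeal with h | h
    · infer_instance
    · let e : p.asIdeal.ResidueField ≃+* p.asIdeal.Fiber S := RingEquiv.ofBijective _ h
      exact (PrimeSpectrum.comapEquiv e).symm.subsingleton
  have hsub2 : Subsingleton (PrimeSpectrum.comap (algebraMap R S) ⁻¹' {p}) :=
    (PrimeSpectrum.preimageEquivFiber R S p).subsingleton
  have := Subsingleton.elim (⟨q, rfl⟩ : PrimeSpectrum.comap (algebraMap R S) ⁻¹' {p}) ⟨q', h.symm⟩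
  exact congrArg Subtype.val this

end Groth.Agent.S6374
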