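import Groth.Statements.S6376
import Mathlib

set_option autoImplicit false
universe u
open CAlg

namespace Groth.Agent.S6376

open TensorProduct

/-- A ring map R → S is an epimorphism if and only if for all S-modules N₁, N₂ every R-linear map N₁ →
N₂ is S-linear, i.e. restriction of scalars from S-modules to R-modules is fully faithful. -/
theorem result (R S : Type u) [CommRing R] [CommRing S] [Algebra R S] :
    Algebra.IsEpi R S ↔
      ∀ (N₁ N₂ : Type u) [AddCommGroup N₁] [Module S N₁] [Module R N₁] [IsScalarTower R S N₁]
        [AddCommGroup N₂] [Module S N₂] [Module R N₂] [IsScalarTower R S N₂] (φ : N₁ →ₗ[R] N₂),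
        ∀ (s : S) (x : N₁), φ (s • x) = s • φ x := by
  constructor
  · intro h N₁ N₂ _ _ _ _ _ _ _ _ φ s x
    have key : ∀ y : S ⊗[R] N₁,
        TensorProduct.lid' R S N₂ (φ.lTensor S y) = φ (TensorProduct.lid' R S N₁ y) := by
      intro y
      induction y using TensorProduct.induction_on with
      | zero => simp
      | tmul a m =>
        simp only [LinearMap.lTensor_tmul, TensorProduct.lid'_apply_tmul]
        have h1 : (1 : S) ⊗ₜ[R] (a • m) = a ⊗ₜ[R] m := by
          apply (TensorProduct.lid' R S N₁).injective
          simp
        have h2 := congrArg (fun z => TensorProduct.lid' R S N₂ (φ.lTensor S z)) h1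
        simp only [LinearMap.lTensor_tmul, TensorProduct.lid'_apply_tmul, one_smul] at h2
        exact h2.symm
      | add a b ha hb => simp [map_add, ha, hb]
    have := key (s ⊗ₜ[R] x)
    simp only [LinearMap.lTensor_tmul, TensorProduct.lid'_apply_tmul] at this
    exact this.symm
  · intro h
    rw [Algebra.isEpi_iff_forall_one_tmul_eq]
    intro a
    let φ : S →ₗ[R] S ⊗[R] S :=
      { toFun := fun b => (1 : S) ⊗ₜ[R] b
        map_add' := fun b c => TensorProduct.tmul_add _ _ _
        map_smul' := fun r b => TensorProduct.tmul_smul _ _ _ }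
    have := h S (S ⊗[R] S) φ a 1
    simp only [φ, LinearMap.coe_mk, AddHom.coe_mk, smul_eq_mul, mul_one] at this
    rw [this, TensorProduct.smul_tmul', smul_eq_mul, mul_one]

end Groth.Agent.S6376
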