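import Groth.Statements.S6378
import Groth.Agent.H9.TorLES
import Mathlib.RingTheory.SimpleModule.Basic

set_option autoImplicit false
universe u
open CategoryTheory
open CAlg

namespace Groth.Agent.S6378

/-- Let (R, m, κ) be a local ring and M an R-module with Tor_1^R(κ, M) = 0. Then Tor_1^R(N, M) = 0 for
every finite length R-module N. -/
theorem result (R : Type u) [CommRing R] [IsLocalRing R]
    (M : Type u) [AddCommGroup M] [Module R M]
    (h : Limits.IsZero (((CategoryTheory.Tor (ModuleCat.{u} R) 1).obj (ModuleCat.of R (IsLocalRing.ResidueField R))).obj (ModuleCat.of R M)))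
    (N : Type u) [AddCommGroup N] [Module R N] (hN : IsFiniteLength R N) :
    Limits.IsZero (((CategoryTheory.Tor (ModuleCat.{u} R) 1).obj (ModuleCat.of R N)).obj (ModuleCat.of R M)) := by
  induction hN with
  | of_subsingleton =>
    exact Groth.Agent.H9.isZero_tor_succ_of_flat_left (ModuleCat.of R _) (ModuleCat.of R M) 0
  | @of_simple_quotient N _ _ N' _ _ ih =>
    let S : ShortComplex (ModuleCat.{u} R) :=
      ShortComplex.mk (ModuleCat.ofHom N'.subtype) (ModuleCat.ofHom N'.mkQ) (by ext x; simp)
    have hS : S.ShortExact :=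
      ModuleCat.shortComplex_shortExact S (LinearMap.exact_subtype_mkQ N')
        N'.injective_subtype (Submodule.mkQ_surjective N')
    obtain ⟨I, hI, ⟨e⟩⟩ := isSimpleModule_iff_quot_maximal.1 (inferInstance : IsSimpleModule R (N ⧸ N'))
    have hI' : I = IsLocalRing.maximalIdeal R := IsLocalRing.eq_maximalIdeal hI
    subst hI'
    let e' : (N ⧸ N') ≃ₗ[R] IsLocalRing.ResidueField R := e
    have h₃ : Limits.IsZero (((CategoryTheory.Tor (ModuleCat.{u} R) 1).obj S.X₃).obj (ModuleCat.of R M)) :=
      Limits.IsZero.of_iso h (Groth.Agent.H9.torMapIso e'.toModuleIso _ 1)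
    exact Groth.Agent.H9.isZero_tor_of_shortExact hS (ModuleCat.of R M) 1 ih h₃

end Groth.Agent.S6378
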