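import Groth.Statements.S6382
import Groth.Agent.H9.FlatTensorTower
import Groth.Agent.H2.LocalCrit

set_option autoImplicit false
universe u
open CAlg

namespace Groth.Agent.S6382

/-- Consider a commutative square of local rings and local homomorphisms R → S, R → R', S → S', R' → S',
and a finite S-module M. Assume the maps R → R' and S → S' are flat, M is flat over R, the maximal
ideal of R generates the maximal ideal of R', and R', S' are Noetherian. Then M' = M ⊗_S S' (any
base change of M along S → S') is flat over R'. -/
theorem result (R S R' S' : Type u) [CommRing R] [CommRing S]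
    [CommRing R'] [CommRing S'] [IsLocalRing R] [IsLocalRing S] [IsLocalRing R'] [IsLocalRing S']
    [Algebra R S] [Algebra R R'] [Algebra S S'] [Algebra R' S'] [Algebra R S']
    [IsScalarTower R S S'] [IsScalarTower R R' S']
    [IsLocalHom (algebraMap R S)] [IsLocalHom (algebraMap R R')] [IsLocalHom (algebraMap S S')]
    [IsLocalHom (algebraMap R' S')] [Module.Flat R R'] [Module.Flat S S']
    [IsNoetherianRing R'] [IsNoetherianRing S']
    (hm : (IsLocalRing.maximalIdeal R).map (algebraMap R R') = IsLocalRing.maximalIdeal R')
    (M : Type u) [AddCommGroup M] [Module S M] [Module R M] [IsScalarTower R S M] [Module.Finite S M]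
    [Module.Flat R M]
    (M' : Type u) [AddCommGroup M'] [Module S' M'] [Module S M'] [IsScalarTower S S' M'] [Module R' M']
    [IsScalarTower R' S' M'] (j : M →ₗ[S] M') (hj : IsBaseChange S' j) :
    Module.Flat R' M' := by
  let _ : Module R M' := Module.compHom M' (algebraMap R S')
  have tRS' : IsScalarTower R S' M' := IsScalarTower.of_algebraMap_smul fun _ _ => rfl
  have tRS : IsScalarTower R S M' := by
    refine IsScalarTower.of_algebraMap_smul fun r m => ?_
    change algebraMap R S r • m = algebraMap R S' r • m
    rw [IsScalarTower.algebraMap_apply R S S', algebraMap_smul S' (algebraMap R S r) m]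
  have tRR' : IsScalarTower R R' M' := by
    refine IsScalarTower.of_algebraMap_smul fun r m => ?_
    change algebraMap R R' r • m = algebraMap R S' r • m
    rw [IsScalarTower.algebraMap_apply R R' S', algebraMap_smul S' (algebraMap R R' r) m]
  have hT0 : Module.Flat R (TensorProduct S S' M) := Groth.Agent.H9.flat_tensor_tower
  have hflatR : Module.Flat R M' :=
    Module.Flat.of_linearEquiv (hj.equiv.restrictScalars R).symm
  have hfin : Module.Finite S' M' := Module.Finite.equiv hj.equiv
  have hT := Groth.Agent.H2.rTensor_map_injective_of_flat (R := R) (S := R') (M := M')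
    (IsLocalRing.maximalIdeal R)
  rw [hm] at hT
  have hI : (IsLocalRing.maximalIdeal R').map (algebraMap R' S') ≤ Ideal.jacobson ⊥ := by
    rw [IsLocalRing.jacobson_eq_maximalIdeal ⊥ bot_ne_top]
    have h02 : IsLocalHom (algebraMap R' S') ↔
        (IsLocalRing.maximalIdeal R').map (algebraMap R' S') ≤ IsLocalRing.maximalIdeal S' :=
      (IsLocalRing.local_hom_TFAE (algebraMap R' S')).out 0 2
    exact h02.1 inferInstance
  let _ : Field (R' ⧸ IsLocalRing.maximalIdeal R') := Ideal.Quotient.field _
  exact Groth.Agent.H2.flat_of_rTensor_injective_of_flat_quotient (R := R') (S := S') (M := M')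
    (IsLocalRing.maximalIdeal R') hI hT

end Groth.Agent.S6382
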