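import Groth.Statements.S6385
import Mathlib
import Groth.Agent.H54.Dim
-- import your own Groth.Agent.* helpers here

set_option autoImplicit false
universe u
open CAlg

namespace Groth.Agent.S6385

/-- Let k be a field, S a finite type k-algebra, q a prime of S and x the corresponding point of X =
Spec S. Then there is g ∈ S, g ∉ q, such that dim S_g equals dim_x X — the minimum of dim S_{g'}
over all g' ∉ q — and, writing d for this dimension, a finite injective k-algebra map from the
polynomial ring k[y_1, ..., y_d] to S_g. -/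
theorem result (k S : Type u) [Field k] [CommRing S] [Algebra k S]
    [Algebra.FiniteType k S] (q : Ideal S) [q.IsPrime] :
    ∃ (g : S) (d : ℕ), g ∉ q ∧ ringKrullDim (Localization.Away g) = d ∧
      (∀ g' : S, g' ∉ q → ringKrullDim (Localization.Away g) ≤ ringKrullDim (Localization.Away g')) ∧
      ∃ φ : MvPolynomial (Fin d) k →ₐ[k] Localization.Away g, Function.Injective φ ∧ φ.toRingHom.Finite := by
  classical
  -- the set of dimensions of the principal open neighbourhoods
  let T : Set (WithBot ℕ∞) := {x | ∃ g' : S, g' ∉ q ∧ x = ringKrullDim (Localization.Away g')}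
  have hT : T.Nonempty := ⟨_, 1, fun h => (Ideal.IsPrime.ne_top inferInstance)
    ((Ideal.eq_top_iff_one q).mpr h), rfl⟩
  obtain ⟨m, ⟨g, hg, rfl⟩, hmin⟩ := WellFounded.has_min (wellFounded_lt (α := WithBot ℕ∞)) T hT
  have hnil : ¬ IsNilpotent g := fun ⟨n, hn⟩ =>
    hg (Ideal.IsPrime.mem_of_pow_mem inferInstance n (hn ▸ q.zero_mem))
  have hnt : Nontrivial (Localization.Away g) := by
    by_contra hcon
    rw [not_nontrivial_iff_subsingleton] at hcon
    have h01 : algebraMap S (Localization.Away g) 0 = algebraMap S (Localization.Away g) 1 :=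
      Subsingleton.elim _ _
    obtain ⟨⟨_, n, rfl⟩, hc⟩ := (IsLocalization.eq_iff_exists (Submonoid.powers g) _).mp h01
    exact hnil ⟨n, by simpa using hc.symm⟩
  have hft : Algebra.FiniteType k (Localization.Away g) :=
    Algebra.FiniteType.trans (S := S) inferInstance
      (IsLocalization.finiteType_of_monoid_fg (Submonoid.powers g) (Localization.Away g))
  obtain ⟨d, φ, hφinj, hφfin⟩ := exists_finite_inj_algHom_of_fg k (Localization.Away g)
  have hdim : ringKrullDim (Localization.Away g) = d := by
    rw [← Groth.Agent.H54.ringKrullDim_eq_of_ringHom_isIntegral_of_injective φ.toRingHom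
      hφfin.to_isIntegral hφinj, Groth.Agent.H54.ringKrullDim_mvPolynomial_fin_field]
  refine ⟨g, d, hg, hdim, ?_, φ, hφinj, hφfin⟩
  intro g' hg'
  exact not_lt.mp (hmin _ ⟨g', hg', rfl⟩)

end Groth.Agent.S6385
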