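import Groth.Statements.S6387
import Groth.Agent.H9.FlatComplex
import Mathlib.Algebra.Homology.ShortComplex.ModuleCat
import Mathlib.Algebra.Category.ModuleCat.Monoidal.Basic
import Mathlib.Algebra.Category.ModuleCat.Kernels

set_option autoImplicit false
universe u
open CategoryTheory
open CAlg

namespace Groth.Agent.S6387

/-- Let R and S be Noetherian local rings, R → S a local ring map, and m the maximal ideal of R. Take a
bounded complex F_e → … → F_1 → F_0 of finitely generated S-modules, zero to the left of F_e (a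
chain complex C with C_j = 0 for j > e) such that every F_j is flat over R and the complex 0 →
F_e/mF_e → … → F_0/mF_0 (C tensored over S with S/mS) is exact at F_e, …, F_1. Then 0 → F_e → … →
F_0 is exact at F_e, …, F_1 and the cokernel of F_1 → F_0 (the homology of C in degree 0) is flat
over R. -/
theorem result {R S : Type u} [CommRing R] [CommRing S]
    [IsLocalRing R] [IsLocalRing S] [IsNoetherianRing R] [IsNoetherianRing S] [Algebra R S]
    [IsLocalHom (algebraMap R S)] (C : ChainComplex (ModuleCat.{u} S) ℕ) (e : ℕ)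
    (hzero : ∀ j, e < j → Limits.IsZero (C.X j)) (hfin : ∀ j, Module.Finite S (C.X j))
    (hflat : ∀ j, Module.Flat R ((ModuleCat.restrictScalars (algebraMap R S)).obj (C.X j)))
    (hex : ∀ j, 1 ≤ j → j ≤ e →
      (((MonoidalCategory.tensorLeft
          (ModuleCat.of S (S ⧸ (IsLocalRing.maximalIdeal R).map (algebraMap R S)))).mapHomologicalComplex
          (ComplexShape.down ℕ)).obj C).ExactAt j) :
    (∀ j, 1 ≤ j → j ≤ e → C.ExactAt j) ∧
      Module.Flat R ((ModuleCat.restrictScalars (algebraMap R S)).obj (C.homology 0)) := by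
  letI modR : ∀ j, Module R (C.X j) := fun j => Module.compHom (C.X j) (algebraMap R S)
  have tower : ∀ j, IsScalarTower R S (C.X j) :=
    fun j => IsScalarTower.of_algebraMap_smul fun _ _ => rfl
  have hflat' : ∀ j, Module.Flat R (C.X j) := hflat
  have hdd : ∀ i (z : C.X (i + 2)), (C.d (i + 1) i).hom ((C.d (i + 2) (i + 1)).hom z) = 0 := by
    intro i z
    have h := C.d_comp_d (i + 2) (i + 1) i
    have h2 := congrArg (fun f => f.hom z) h
    exact h2
  let I : Ideal S := (IsLocalRing.maximalIdeal R).map (algebraMap R S)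
  have hex' : ∀ i, i + 1 ≤ e → ∀ x : C.X (i + 1),
      (C.d (i + 1) i).hom x ∈ I • (⊤ : Submodule S (C.X i)) →
      ∃ z : C.X (i + 2), x - (C.d (i + 2) (i + 1)).hom z ∈ I • (⊤ : Submodule S (C.X (i + 1))) := by
    intro i hi x hx
    have hE := hex (i + 1) (by omega) hi
    rw [HomologicalComplex.exactAt_iff' _ (i + 2) (i + 1) i (by simp) (by simp),
      ShortComplex.moduleCat_exact_iff_ker_sub_range] at hE
    have hy : (TensorProduct.tmul S (1 : S ⧸ I) x) ∈
        LinearMap.ker (LinearMap.lTensor (S ⧸ I) (C.d (i + 1) i).hom) := by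
      rw [LinearMap.mem_ker, LinearMap.lTensor_tmul,
        Groth.Agent.H2.one_tmul_eq_zero_iff_mem_smul_top]
      exact hx
    obtain ⟨w, hw⟩ := hE hy
    obtain ⟨z, rfl⟩ := Groth.Agent.H2.exists_one_tmul_eq I w
    refine ⟨z, ?_⟩
    rw [← Groth.Agent.H2.one_tmul_eq_zero_iff_mem_smul_top, TensorProduct.tmul_sub, sub_eq_zero]
    exact hw.symm
  have hstep : ∀ i, i + 1 ≤ e →
      (∀ x : C.X (i + 1), (C.d (i + 1) i).hom x = 0 → ∃ z, (C.d (i + 2) (i + 1)).hom z = x) ∧
        Module.Flat R (C.X i ⧸ LinearMap.range (C.d (i + 1) i).hom) := by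
    intro i hi
    have := hfin (i + 1)
    have := hflat' i
    exact Groth.Agent.H9.flat_complex_step (R := R) (S := S) (C.d (i + 2) (i + 1)).hom
      (C.d (i + 1) i).hom (hdd i) (hex' i hi)
  refine ⟨?_, ?_⟩
  · intro j hj1 hje
    obtain ⟨i, rfl⟩ : ∃ i, j = i + 1 := ⟨j - 1, by omega⟩
    rw [HomologicalComplex.exactAt_iff' _ (i + 2) (i + 1) i (by simp) (by simp),
      ShortComplex.moduleCat_exact_iff_ker_sub_range]
    intro x hx
    exact (hstep i hje).1 x hx
  · have hQ : Module.Flat R (C.X 0 ⧸ LinearMap.range (C.d 1 0).hom) := by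
      by_cases he : 1 ≤ e
      · exact (hstep 0 he).2
      · have hz : Limits.IsZero (C.X 1) := hzero 1 (by omega)
        have h0 : C.d 1 0 = 0 := hz.eq_of_src _ _
        have hr : LinearMap.range (C.d 1 0).hom = ⊥ := by
          rw [LinearMap.range_eq_bot, h0]
          rfl
        rw [hr]
        have := hflat' 0
        exact Module.Flat.of_linearEquiv
          ((Submodule.quotEquivOfEqBot (⊥ : Submodule S (C.X 0)) rfl).restrictScalars R)
    have e1 : C.homology 0 ≅ C.opcycles 0 := C.isoHomologyι 0 0 (by simp) (by simp)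
    have hc := C.opcyclesIsCokernel 1 0 (by simp)
    have e2 : C.opcycles 0 ≅ ModuleCat.of S (C.X 0 ⧸ LinearMap.range (C.d 1 0).hom) :=
      Limits.IsColimit.coconePointUniqueUpToIso hc (ModuleCat.cokernelIsColimit (C.d 1 0))
    let E : (C.homology 0) ≃ₗ[S] (C.X 0 ⧸ LinearMap.range (C.d 1 0).hom) :=
      (e1 ≪≫ e2).toLinearEquiv
    letI mH : Module R (C.homology 0) := Module.compHom (C.homology 0) (algebraMap R S)
    have tH : IsScalarTower R S (C.homology 0) :=
      IsScalarTower.of_algebraMap_smul fun _ _ => rfl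
    have : Module.Flat R (C.homology 0) := Module.Flat.of_linearEquiv (E.restrictScalars R)
    exact this

end Groth.Agent.S6387
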