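import Groth.Statements.S6409
import Groth.Agent.H32.Yoneda
import Groth.Agent.H32.FibBasic

set_option autoImplicit false
open CategoryTheory
universe v u
open FibCat

namespace Groth.Agent.S6409

/-- For `𝒳` fibred in groupoids over `C`, evaluation at `𝟙_U` is an equivalence of categories from the
category of functors `C/U ⟶ 𝒳` over `C` to the fibre category `𝒳_U`. -/
theorem result {C : Type u} [Category.{v} C] {𝒳 : BasedCategory.{v, max u v} C} (h𝒳 : FibCat.IsFibGrpd 𝒳.p) (U : C) :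
    (FibCat.evalAtId 𝒳 U).IsEquivalence := by
  have : 𝒳.p.IsFibered := Groth.Agent.H32.isFibered_of_fibGrpd _ h𝒳
  have hall : ∀ G : FibCat.overCat U ⥤ᵇ 𝒳,
      FibCat.PreservesStronglyCartesian (𝒳 := FibCat.overCat U) (𝒴 := 𝒳) G := by
    intro G R S f a b φ hφ
    have := hφ
    have : 𝒳.p.IsHomLift f (G.map φ) := inferInstance
    exact Groth.Agent.H32.isStronglyCartesian_of_fibGrpd _ h𝒳 f (G.map φ)
  have hE := Groth.Agent.H32.evalAtId_isEquivalence_of_isFibered (𝒳 := 𝒳) U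
  have : (ObjectProperty.ι (FibCat.PreservesStronglyCartesian (𝒳 := FibCat.overCat U) (𝒴 := 𝒳))).EssSurj :=
    ⟨fun G => ⟨⟨G, hall G⟩, ⟨Iso.refl _⟩⟩⟩
  have : (ObjectProperty.ι (FibCat.PreservesStronglyCartesian (𝒳 := FibCat.overCat U) (𝒴 := 𝒳))).IsEquivalence := {}
  exact Functor.isEquivalence_of_comp_left
    (ObjectProperty.ι (FibCat.PreservesStronglyCartesian (𝒳 := FibCat.overCat U) (𝒴 := 𝒳))) (FibCat.evalAtId 𝒳 U)

end Groth.Agent.S6409
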