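import Groth.Statements.S6417

set_option autoImplicit false
open CategoryTheory CategoryTheory.Limits
universe v₁ u₁ v₂ u₂
open FibCat

namespace Groth.Agent.S6417

theorem aux {𝒮 : Type u₁} [Category.{v₁} 𝒮] {C : Type u₂} [Category.{v₂} C] (p : 𝒮 ⥤ C)
    {x y z w : 𝒮} (φ : x ⟶ y) (ψ : z ⟶ y)
    [p.IsStronglyCartesian (p.map φ) φ] (a : w ⟶ z) (f1 : p.obj w ⟶ p.obj x)
    (hpb : IsPullback f1 (p.map a) (p.map φ) (p.map ψ))
    [p.IsStronglyCartesian (p.map a) a] :
    ∃ b : w ⟶ x, p.IsHomLift f1 b ∧ IsPullback b a φ ψ := by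
  have hl : p.IsHomLift (f1 ≫ p.map φ) (a ≫ ψ) := by
    rw [hpb.w, ← p.map_comp]; exact IsHomLift.map p _
  obtain ⟨b, ⟨hb, hb'⟩, -⟩ :=
    Functor.IsStronglyCartesian.universal_property' (p := p) (f := p.map φ) (φ := φ) f1 (a ≫ ψ)
  have eb : f1 = p.map b := IsHomLift.eq_of_isHomLift p f1 b
  refine ⟨b, hb, ⟨⟨hb'⟩, ⟨PullbackCone.IsLimit.mk _ ?_ ?_ ?_ ?_⟩⟩⟩
  · intro s
    let u₀ : p.obj s.pt ⟶ p.obj w :=
      hpb.lift (p.map s.fst) (p.map s.snd) (by rw [← p.map_comp, ← p.map_comp, s.condition])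
    have hs : p.IsHomLift (u₀ ≫ p.map a) s.snd := by
      rw [hpb.lift_snd]; exact IsHomLift.map p _
    exact Functor.IsStronglyCartesian.map p (p.map a) a (g := u₀) (f' := u₀ ≫ p.map a) rfl s.snd
  · intro s
    let u₀ : p.obj s.pt ⟶ p.obj w :=
      hpb.lift (p.map s.fst) (p.map s.snd) (by rw [← p.map_comp, ← p.map_comp, s.condition])
    have hs : p.IsHomLift (u₀ ≫ p.map a) s.snd := by
      rw [hpb.lift_snd]; exact IsHomLift.map p _
    set u := Functor.IsStronglyCartesian.map p (p.map a) a (g := u₀) (f' := u₀ ≫ p.map a) rfl s.snd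
    have hu : p.IsHomLift u₀ u := inferInstance
    have hua : u ≫ a = s.snd := Functor.IsStronglyCartesian.fac p (p.map a) a rfl s.snd
    have h1 : p.IsHomLift (p.map s.fst) (u ≫ b) := by
      have : p.map s.fst = u₀ ≫ f1 := (hpb.lift_fst _ _ _).symm
      rw [this]; infer_instance
    have h2 : p.IsHomLift (p.map s.fst) s.fst := IsHomLift.map p _
    apply Functor.IsStronglyCartesian.ext p (p.map φ) φ (p.map s.fst)
    rw [Category.assoc, hb', ← Category.assoc, hua, s.condition]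
  · intro s
    let u₀ : p.obj s.pt ⟶ p.obj w :=
      hpb.lift (p.map s.fst) (p.map s.snd) (by rw [← p.map_comp, ← p.map_comp, s.condition])
    have hs : p.IsHomLift (u₀ ≫ p.map a) s.snd := by
      rw [hpb.lift_snd]; exact IsHomLift.map p _
    exact Functor.IsStronglyCartesian.fac p (p.map a) a rfl s.snd
  · intro s m hm1 hm2
    let u₀ : p.obj s.pt ⟶ p.obj w :=
      hpb.lift (p.map s.fst) (p.map s.snd) (by rw [← p.map_comp, ← p.map_comp, s.condition])
    have hs : p.IsHomLift (u₀ ≫ p.map a) s.snd := by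
      rw [hpb.lift_snd]; exact IsHomLift.map p _
    have hm : p.IsHomLift u₀ m := by
      have : u₀ = p.map m := by
        apply hpb.hom_ext
        · rw [hpb.lift_fst, eb, ← p.map_comp, hm1]
        · rw [hpb.lift_snd, ← p.map_comp, hm2]
      rw [this]; exact IsHomLift.map p _
    exact Functor.IsStronglyCartesian.map_uniq p (p.map a) a rfl s.snd m hm2

/-- For `p : 𝒮 ⥤ C`, a strongly cartesian `φ : x ⟶ y`, any `ψ : z ⟶ y`, and a strongly cartesian `a : w
⟶ z` lying over the second projection of `p x ×_{p y} p z`, the object `w` is a fibre product `x ×_y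
z`: there is `b : w ⟶ x` over the first projection with `(b, a)` a pullback square. -/
theorem result {𝒮 : Type u₁} [Category.{v₁} 𝒮] {C : Type u₂} [Category.{v₂} C] (p : 𝒮 ⥤ C) {x y z w : 𝒮} (φ : x ⟶ y) (ψ : z ⟶ y)
    [p.IsStronglyCartesian (p.map φ) φ] [HasPullback (p.map φ) (p.map ψ)] (a : w ⟶ z)
    [p.IsStronglyCartesian (pullback.snd (p.map φ) (p.map ψ)) a] :
    ∃ b : w ⟶ x, p.IsHomLift (pullback.fst (p.map φ) (p.map ψ)) b ∧ IsPullback b a φ ψ := by
  have hpb := IsPullback.of_hasPullback (p.map φ) (p.map ψ)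
  generalize hf1 : pullback.fst (p.map φ) (p.map ψ) = f1 at hpb ⊢
  generalize hf2 : pullback.snd (p.map φ) (p.map ψ) = f2 at hpb ⊢
  have ha : p.IsStronglyCartesian f2 a := by rw [← hf2]; infer_instance
  clear hf1 hf2
  generalize pullback (p.map φ) (p.map ψ) = P at f1 f2 hpb ha
  have hw : p.obj w = P := IsHomLift.domain_eq p f2 a
  subst hw
  have e2 : f2 = p.map a := IsHomLift.eq_of_isHomLift p f2 a
  subst e2
  exact aux p φ ψ a f1 hpb

end Groth.Agent.S6417
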