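import Groth.Statements.S6418
import Groth.Agent.H32.OverFib

set_option autoImplicit false
open CategoryTheory
universe v₁ u₁ v₂ u₂
open FibCat

namespace Groth.Agent.S6418

/-- If `p' : 𝒮 ⥤ C/U` composed with the forgetful functor `C/U ⥤ C` is a fibred category, then so is
`p'`. -/
theorem result {𝒮 : Type u₁} [Category.{v₁} 𝒮] {C : Type u₂} [Category.{v₂} C] {U : C} (p' : 𝒮 ⥤ Over U) [(p' ⋙ Over.forget U).IsFibered] : p'.IsFibered := by
  apply Functor.IsFibered.of_exists_isStronglyCartesian
  intro a R f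
  let f' : R.left ⟶ (p' ⋙ Over.forget U).obj a := f.left
  obtain ⟨b, φ, hφ⟩ := IsPreFibered.exists_isCartesian (p' ⋙ Over.forget U) (a := a) rfl f'
  have hs : (p' ⋙ Over.forget U).IsStronglyCartesian f' φ := inferInstance
  have hs' := Groth.Agent.H32.strong_map_of_strong (p' ⋙ Over.forget U) f' φ
  have h1 := Groth.Agent.H32.over_strong p' b a φ hs'
  have h2 : p'.IsHomLift f φ := Groth.Agent.H32.over_lift p' f φ (inferInstance : (p' ⋙ Over.forget U).IsHomLift f' φ)
  exact ⟨b, φ, Groth.Agent.H32.strong_of_homLift p' f φ h1⟩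

end Groth.Agent.S6418
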