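import Groth.Statements.S6424
import Mathlib

set_option autoImplicit false
open CategoryTheory CategoryTheory.Limits
universe v u
open CatLim

namespace Groth.Agent.S6424

theorem hasProduct_fin_succ {C : Type u} [Category.{v} C] [HasBinaryProducts C] :
    ∀ (n : ℕ) (f : Fin (n + 1) → C), HasProduct f
  | 0 => fun f => by
    have h1 : Subsingleton (Fin (0 + 1)) := (inferInstance : Subsingleton (Fin 1))
    have h2 : Nonempty (Fin (0 + 1)) := ⟨0⟩
    exact hasProduct_unique f
  | n + 1 => fun f => by
    have := hasProduct_fin_succ n (fun i => f i.succ)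
    exact HasLimit.mk ⟨_, extendFanIsLimit f (limit.isLimit _) (limit.isLimit _)⟩

theorem hasLimitsOfShape_discrete_of_nonempty_finite {C : Type u} [Category.{v} C]
    [HasBinaryProducts C] (ι : Type) [Finite ι] [Nonempty ι] :
    HasLimitsOfShape (Discrete ι) C := by
  obtain ⟨n, ⟨e⟩⟩ := Finite.exists_equiv_fin ι
  cases n with
  | zero => exact (IsEmpty.false (e (Classical.arbitrary ι))).elim
  | succ n =>
    have : HasLimitsOfShape (Discrete (Fin (n + 1))) C := ⟨fun K => by
      let that : (Discrete.functor fun i => K.obj ⟨i⟩) ≅ K := Discrete.natIso fun ⟨_⟩ => Iso.refl _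
      rw [← hasLimit_iff_of_iso that]
      exact hasProduct_fin_succ n _⟩
    exact hasLimitsOfShape_of_equivalence (Discrete.equivalence e.symm)

/-- (2) ⇒ (1): a category with products of pairs and equalizers has all finite nonempty limits. -/
theorem result {C : Type u} [Category.{v} C] [HasBinaryProducts C] [HasEqualizers C]
    (J : Type) [SmallCategory J] [FinCategory J] [Nonempty J] : HasLimitsOfShape J C := by
  refine ⟨fun F => ?_⟩
  have : HasLimitsOfShape (Discrete J) C := hasLimitsOfShape_discrete_of_nonempty_finite J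
  have : Nonempty (Σ p : J × J, p.1 ⟶ p.2) :=
    ⟨⟨(Classical.arbitrary J, Classical.arbitrary J), 𝟙 _⟩⟩
  have : HasLimitsOfShape (Discrete (Σ p : J × J, p.1 ⟶ p.2)) C :=
    hasLimitsOfShape_discrete_of_nonempty_finite _
  exact hasLimit_of_equalizer_and_product F

end Groth.Agent.S6424
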