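import Groth.Statements.S6425
import Mathlib

set_option autoImplicit false
open CategoryTheory CategoryTheory.Limits
universe v
open CatLim

namespace Groth.Agent.S6425

/-- Over an index category in which any two objects map to a common object, the comparison map `colim (M
× N) → colim M × colim N` for diagrams of sets is surjective. -/
theorem result {I : Type v} [SmallCategory I]
    (hI : ∀ x y : I, ∃ (z : I) (_ : x ⟶ z) (_ : y ⟶ z), True) (M N : I ⥤ Type v) :
    Function.Surjective (prodComparison (colim : (I ⥤ Type v) ⥤ Type v) M N) := by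
  intro t
  obtain ⟨i, x, hx⟩ := Types.jointly_surjective' ((prod.fst : colimit M ⨯ colimit N ⟶ colimit M) t)
  obtain ⟨j, y, hy⟩ := Types.jointly_surjective' ((prod.snd : colimit M ⨯ colimit N ⟶ colimit N) t)
  obtain ⟨k, f, g, -⟩ := hI i j
  let w : (M ⨯ N).obj k := FunctorToTypes.prodMk (M.map f x) (N.map g y)
  have hw1 : (prod.fst : M ⨯ N ⟶ M).app k w = M.map f x := FunctorToTypes.prodMk_fst _ _
  have hw2 : (prod.snd : M ⨯ N ⟶ N).app k w = N.map g y := FunctorToTypes.prodMk_snd _ _
  refine ⟨colimit.ι (M ⨯ N) k w, ?_⟩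
  apply Types.limit_ext
  rintro ⟨_ | _⟩
  · change (prod.fst : colimit M ⨯ colimit N ⟶ colimit M) _ = (prod.fst : colimit M ⨯ colimit N ⟶ colimit M) t
    rw [← hx]
    have h1 := ConcreteCategory.congr_hom (prodComparison_fst (colim : (I ⥤ Type v) ⥤ Type v) (A := M) (B := N))
      (colimit.ι (M ⨯ N) k w)
    rw [CategoryTheory.comp_apply] at h1
    refine h1.trans ?_
    have h2 := colimit.ι_map_apply (prod.fst : M ⨯ N ⟶ M) k w
    refine h2.trans ?_
    rw [hw1, colimit.w_apply]
  · change (prod.snd : colimit M ⨯ colimit N ⟶ colimit N) _ = (prod.snd : colimit M ⨯ colimit N ⟶ colimit N) t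
    rw [← hy]
    have h1 := ConcreteCategory.congr_hom (prodComparison_snd (colim : (I ⥤ Type v) ⥤ Type v) (A := M) (B := N))
      (colimit.ι (M ⨯ N) k w)
    rw [CategoryTheory.comp_apply] at h1
    refine h1.trans ?_
    have h2 := colimit.ι_map_apply (prod.snd : M ⨯ N ⟶ N) k w
    refine h2.trans ?_
    rw [hw2, colimit.w_apply]

end Groth.Agent.S6425
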