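import Groth.Statements.S6426
import Mathlib

set_option autoImplicit false
open CategoryTheory CategoryTheory.Limits
universe v
open CatLim

namespace Groth.Agent.S6426

/-- Over a nonempty index category in which any two objects map to a common object, the set-theoretic
colimit of a diagram of abelian groups surjects onto its colimit in abelian groups. (The published
statement does not require the index category to be nonempty; this row assumes it, because for the
empty index category the colimit of sets is empty while the colimit of abelian groups is the zero
group.) -/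
theorem result {I : Type v} [SmallCategory I] [Nonempty I]
    (hI : ∀ x y : I, ∃ (z : I) (_ : x ⟶ z) (_ : y ⟶ z), True) (M : I ⥤ AddCommGrpCat.{v}) :
    Function.Surjective (colimit.post M (forget AddCommGrpCat.{v})) := by
  classical
  -- the image as a subgroup
  have hι : ∀ (i : I) (x : M.obj i),
      colimit.post M (forget AddCommGrpCat.{v}) (colimit.ι (M ⋙ forget AddCommGrpCat.{v}) i x) =
        (colimit.ι M i).hom x := by
    intro i x
    have := ConcreteCategory.congr_hom (colimit.ι_post M (forget AddCommGrpCat.{v}) i) x
    rw [CategoryTheory.comp_apply] at this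
    exact this
  let S : AddSubgroup (colimit M : AddCommGrpCat.{v}) :=
    { carrier := Set.range (colimit.post M (forget AddCommGrpCat.{v}))
      zero_mem' := by
        obtain ⟨i₀⟩ := ‹Nonempty I›
        refine ⟨colimit.ι (M ⋙ forget AddCommGrpCat.{v}) i₀ (0 : M.obj i₀), ?_⟩
        rw [hι, map_zero]
      add_mem' := by
        rintro _ _ ⟨a, rfl⟩ ⟨b, rfl⟩
        obtain ⟨i, x, rfl⟩ := Types.jointly_surjective' a
        obtain ⟨j, y, rfl⟩ := Types.jointly_surjective' b
        obtain ⟨k, f, g, -⟩ := hI i j
        refine ⟨colimit.ι (M ⋙ forget AddCommGrpCat.{v}) k ((M.map f).hom x + (M.map g).hom y), ?_⟩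
        rw [hι, hι, hι, map_add]
        congr 1
        · have := ConcreteCategory.congr_hom (colimit.w M f) x
          rw [CategoryTheory.comp_apply] at this
          exact this
        · have := ConcreteCategory.congr_hom (colimit.w M g) y
          rw [CategoryTheory.comp_apply] at this
          exact this
      neg_mem' := by
        rintro _ ⟨a, rfl⟩
        obtain ⟨i, x, rfl⟩ := Types.jointly_surjective' a
        refine ⟨colimit.ι (M ⋙ forget AddCommGrpCat.{v}) i (-x : M.obj i), ?_⟩
        rw [hι, hι]
        exact map_neg (colimit.ι M i).hom x }
  have hS : S = ⊤ := by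
    -- the quotient map and zero agree on all ι
    have hmaps : AddCommGrpCat.ofHom (QuotientAddGroup.mk' S) =
        (0 : colimit M ⟶ AddCommGrpCat.of ((colimit M : AddCommGrpCat.{v}) ⧸ S)) := by
      apply colimit.hom_ext
      intro i
      ext x
      simp only [Limits.comp_zero]
      change QuotientAddGroup.mk' S ((colimit.ι M i).hom x) = 0
      rw [QuotientAddGroup.mk'_apply, QuotientAddGroup.eq_zero_iff]
      exact ⟨colimit.ι (M ⋙ forget AddCommGrpCat.{v}) i x, hι i x⟩
    rw [eq_top_iff]
    intro a _
    have := ConcreteCategory.congr_hom hmaps a
    change QuotientAddGroup.mk' S a = 0 at this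
    rwa [QuotientAddGroup.mk'_apply, QuotientAddGroup.eq_zero_iff] at this
  intro a
  have : a ∈ S := by rw [hS]; trivial
  exact this

end Groth.Agent.S6426
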