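import Groth.Statements.S6427
import Mathlib

set_option autoImplicit false
open CategoryTheory CategoryTheory.Limits
universe v
open CatLim

namespace Groth.Agent.S6427

theorem exists_of_eqvGen {I : Type v} [SmallCategory I]
    (hI : ∀ ⦃x y z : I⦄ (f : x ⟶ y) (g : x ⟶ z), ∃ (w : I) (f' : y ⟶ w) (g' : z ⟶ w), f ≫ f' = g ≫ g')
    (M : I ⥤ Type v) (p q : Σ j, M.obj j) (h : Relation.EqvGen M.ColimitTypeRel p q) :
    ∃ (k : I) (f : p.1 ⟶ k) (g : q.1 ⟶ k), M.map f p.2 = M.map g q.2 := by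
  induction h with
  | rel p q h =>
    obtain ⟨f, hf⟩ := h
    exact ⟨q.1, f, 𝟙 _, by rw [hf]; simp⟩
  | refl p => exact ⟨p.1, 𝟙 _, 𝟙 _, rfl⟩
  | symm p q _ ih =>
    obtain ⟨k, f, g, h⟩ := ih
    exact ⟨k, g, f, h.symm⟩
  | trans p q r _ _ ih₁ ih₂ =>
    obtain ⟨k, f, g, h⟩ := ih₁
    obtain ⟨k', g', h', h2⟩ := ih₂
    obtain ⟨w, a, b, hab⟩ := hI g g'
    refine ⟨w, f ≫ a, h' ≫ b, ?_⟩
    rw [M.map_comp, M.map_comp]
    simp only [CategoryTheory.comp_apply]
    rw [h, ← h2]
    simp only [← CategoryTheory.comp_apply, ← M.map_comp, hab]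

/-- Over an index category in which every pair of morphisms with common source can be completed to a
commutative square, colimits of sets preserve injective morphisms of diagrams. -/
theorem result {I : Type v} [SmallCategory I]
    (hI : ∀ ⦃x y z : I⦄ (f : x ⟶ y) (g : x ⟶ z), ∃ (w : I) (f' : y ⟶ w) (g' : z ⟶ w), f ≫ f' = g ≫ g')
    {M N : I ⥤ Type v} (φ : M ⟶ N) (hφ : ∀ i, Function.Injective (φ.app i)) :
    Function.Injective (colimMap φ) := by
  intro a b hab
  obtain ⟨i, x, rfl⟩ := Types.jointly_surjective' a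
  obtain ⟨j, y, rfl⟩ := Types.jointly_surjective' b
  have h1 : colimit.ι N i (φ.app i x) = colimit.ι N j (φ.app j y) := by
    have e1 := colimit.ι_map_apply φ i x
    have e2 := colimit.ι_map_apply φ j y
    change colimMap φ (colimit.ι M i x) = colimit.ι N i (φ.app i x) at e1
    change colimMap φ (colimit.ι M j y) = colimit.ι N j (φ.app j y) at e2
    rw [← e1, ← e2, hab]
  obtain ⟨k, f, g, h⟩ := exists_of_eqvGen hI N ⟨i, φ.app i x⟩ ⟨j, φ.app j y⟩ (Types.colimit_eq h1)
  simp only at h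
  have h2 : φ.app k (M.map f x) = φ.app k (M.map g y) := by
    have n1 := ConcreteCategory.congr_hom (φ.naturality f) x
    have n2 := ConcreteCategory.congr_hom (φ.naturality g) y
    simp only [CategoryTheory.comp_apply] at n1 n2
    rw [n1, n2, h]
  exact Types.colimit_sound' f g (hφ k h2)

end Groth.Agent.S6427
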