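import Groth.Statements.S6430

set_option autoImplicit false
open CategoryTheory
universe v₂ u₂ v u
open FibCat

namespace Groth.Agent.S6430

theorem lift_aux {C : Type u} [Category.{v} C] {𝒮 : Type u₂} [Category.{v₂} 𝒮] (p : 𝒮 ⥤ C)
    [p.IsFibered] (x : 𝒮) {V : C} (f : V ⟶ p.obj x) :
    ∃ (y : 𝒮) (φ : y ⟶ x), p.IsStronglyCartesian (p.map φ) φ ∧ p.IsHomLift f φ := by
  obtain ⟨y, φ, hφ⟩ := IsPreFibered.exists_isCartesian p (a := x) rfl f
  have hs : p.IsStronglyCartesian f φ := inferInstance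
  have h1 : p.IsHomLift f φ := inferInstance
  refine ⟨y, φ, ?_, h1⟩
  have hV : p.obj y = V := IsHomLift.domain_eq p f φ
  subst hV
  have e : f = p.map φ := IsHomLift.eq_of_isHomLift p f φ
  rw [← e]; exact hs

theorem univ_aux {C : Type u} [Category.{v} C] {𝒮 : Type u₂} [Category.{v₂} 𝒮] (p : 𝒮 ⥤ C)
    {a' y x : 𝒮} (φ : y ⟶ x) (hφ : p.IsStronglyCartesian (p.map φ) φ)
    (g : p.obj a' ⟶ p.obj y) (φ' : a' ⟶ x) (hφ' : p.IsStronglyCartesian (p.map φ') φ')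
    (e : g ≫ p.map φ = p.map φ') :
    ∃ χ : a' ⟶ y, (p.IsStronglyCartesian (p.map χ) χ ∧ g = p.map χ ∧ χ ≫ φ = φ') ∧
      ∀ χ' : a' ⟶ y, g = p.map χ' → χ' ≫ φ = φ' → χ' = χ := by
  have hl : p.IsHomLift (g ≫ p.map φ) φ' := by rw [e]; exact IsHomLift.map p φ'
  obtain ⟨χ, ⟨hχ, hχ'⟩, huniq⟩ :=
    Functor.IsStronglyCartesian.universal_property' (p := p) (f := p.map φ) (φ := φ) g φ'
  have hχs : p.IsStronglyCartesian g χ := by
    have h3 : p.IsStronglyCartesian (g ≫ p.map φ) (χ ≫ φ) := by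
      rw [hχ', e]; exact hφ'
    exact Functor.IsStronglyCartesian.of_comp p (f := g) (g := p.map φ) (φ := χ) (ψ := φ)
  have eg : g = p.map χ := IsHomLift.eq_of_isHomLift p g χ
  refine ⟨χ, ⟨?_, eg, hχ'⟩, ?_⟩
  · rw [← eg]; exact hχs
  · intro χ' h1 h2
    apply huniq
    refine ⟨?_, h2⟩
    rw [h1]; exact IsHomLift.map p χ'

/-- For a fibred category `p : 𝒮 ⥤ C`, the wide subcategory of `𝒮` on the strongly cartesian morphisms
is fibred in groupoids over `C`. -/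
theorem result {C : Type u} [Category.{v} C] {𝒮 : Type u₂} [Category.{v₂} 𝒮] (p : 𝒮 ⥤ C) [p.IsFibered] :
    FibCat.IsFibGrpd (FibCat.cartSubProj p) := by
  refine ⟨?_, ?_⟩
  · intro x V f
    change V ⟶ p.obj x.obj at f
    obtain ⟨y, φ, hm, h1⟩ := lift_aux p x.obj f
    refine ⟨⟨y⟩, ⟨φ, hm⟩, ?_⟩
    have hV : p.obj y = V := IsHomLift.domain_eq p f φ
    subst hV
    have e : f = p.map φ := IsHomLift.eq_of_isHomLift p f φ
    have : f = (FibCat.cartSubProj p).map (⟨φ, hm⟩ : (⟨y⟩ : FibCat.cartSub p) ⟶ x) := e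
    rw [this]
    exact IsHomLift.map (FibCat.cartSubProj p) _
  · intro y x φ
    have hφ : p.IsStronglyCartesian (p.map φ.1) φ.1 := φ.2
    refine { toIsHomLift := IsHomLift.map (FibCat.cartSubProj p) φ, universal_property' := ?_ }
    intro a' g φ' hφ'
    have e : g ≫ p.map φ.1 = p.map φ'.1 :=
      IsHomLift.eq_of_isHomLift (FibCat.cartSubProj p) (g ≫ (FibCat.cartSubProj p).map φ) φ'
    have hφ'1 : p.IsStronglyCartesian (p.map φ'.1) φ'.1 := φ'.2
    obtain ⟨χ, ⟨hm, eg, hχ'⟩, huniq⟩ := univ_aux p φ.1 hφ g φ'.1 hφ'1 e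
    refine ⟨⟨χ, hm⟩, ⟨?_, ?_⟩, ?_⟩
    · have : g = (FibCat.cartSubProj p).map (⟨χ, hm⟩ : a' ⟶ y) := eg
      rw [this]; exact IsHomLift.map _ _
    · apply WideSubcategory.hom_ext
      exact hχ'
    · rintro χ' ⟨h1, h2⟩
      apply WideSubcategory.hom_ext
      apply huniq
      · exact IsHomLift.eq_of_isHomLift (FibCat.cartSubProj p) g χ'
      · exact congrArg (fun t => t.1) h2

end Groth.Agent.S6430
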