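import Groth.Statements.S6439
import Groth.Agent.H64.Fib.PrePost

set_option autoImplicit false
open CategoryTheory
universe v u
open FibCat

namespace Groth.Agent.S6439

/-- For categories fibred in groupoids over `C` and equivalences `φ : 𝒮₁ ⟶ 𝒮₂`, `ψ : 𝒮₃ ⟶ 𝒮₄` over `C`,
the functor `α ↦ ψ ∘ α ∘ φ` between the categories of functors over `C` is an equivalence of
categories. -/
theorem result {C : Type u} [Category.{v} C] {𝒮₁ 𝒮₂ 𝒮₃ 𝒮₄ : BasedCategory.{v, max u v} C}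
    (h₁ : FibCat.IsFibGrpd 𝒮₁.p) (h₂ : FibCat.IsFibGrpd 𝒮₂.p) (h₃ : FibCat.IsFibGrpd 𝒮₃.p) (h₄ : FibCat.IsFibGrpd 𝒮₄.p)
    (φ : 𝒮₁ ⟶ 𝒮₂) (ψ : 𝒮₃ ⟶ 𝒮₄) (hφ : FibCat.IsEquivOver φ) (hψ : FibCat.IsEquivOver ψ) :
    (Bicategory.precomp 𝒮₃ φ ⋙ Bicategory.postcomp 𝒮₁ ψ).IsEquivalence := by
  obtain ⟨G, ⟨η⟩, ⟨ε⟩⟩ := hφ
  obtain ⟨G', ⟨η'⟩, ⟨ε'⟩⟩ := hψ
  have h1 : (Bicategory.precomp 𝒮₃ φ).IsEquivalence :=
    Groth.Agent.H64.precomp_isEquivalence 𝒮₃ φ G η ε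
  have h2 : (Bicategory.postcomp 𝒮₁ ψ).IsEquivalence :=
    Groth.Agent.H64.postcomp_isEquivalence 𝒮₁ ψ G' η' ε'
  infer_instance

end Groth.Agent.S6439
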