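import Groth.Statements.S6444
import Mathlib

set_option autoImplicit false
open CategoryTheory
universe v u v' u'
open CatLoc

namespace Groth.Agent.S6444

/-- For a left multiplicative system, a commutative square in the localization between the images of two
morphisms `f, f'` of `C` lifts to a commutative diagram `X → X'' ← X'`, `Y → Y'' ← Y'` in `C` over a
third morphism `f''`, the backward arrows lying in `W`. -/
theorem result {C : Type u} [Category.{v} C] {D : Type u'} [Category.{v'} D] (W : MorphismProperty C) (L : C ⥤ D) [L.IsLocalization W] [W.HasLeftCalculusOfFractions]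
    {X Y X' Y' : C} (f : X ⟶ Y) (f' : X' ⟶ Y') (a : L.obj X ⟶ L.obj X') (b : L.obj Y ⟶ L.obj Y') (w : L.map f ≫ b = a ≫ L.map f') :
    ∃ (X'' Y'' : C) (f'' : X'' ⟶ Y'') (g : X ⟶ X'') (h : Y ⟶ Y'') (s : X' ⟶ X'') (t : Y' ⟶ Y''),
      W s ∧ W t ∧ f ≫ h = g ≫ f'' ∧ f' ≫ t = s ≫ f'' ∧ L.map g = a ≫ L.map s ∧ L.map h = b ≫ L.map t := by
  obtain ⟨φa, ha⟩ := Localization.exists_leftFraction L W a
  obtain ⟨φb, hb⟩ := Localization.exists_leftFraction L W b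
  have hinv := Localization.inverts L W
  -- a ≫ L s₀ = L g₀, b ≫ L t₀ = L h₀
  have ha' : a ≫ L.map φa.s = L.map φa.f := by rw [ha]; exact φa.map_comp_map_s L hinv
  have hb' : b ≫ L.map φb.s = L.map φb.f := by rw [hb]; exact φb.map_comp_map_s L hinv
  -- Ore for (s₀, f')
  obtain ⟨ψ₁, h₁⟩ := (MorphismProperty.RightFraction.mk φa.s φa.hs f').exists_leftFraction
  dsimp at h₁
  -- h₁ : f' ≫ ψ₁.s = φa.s ≫ ψ₁.f
  -- common denominator for t₀ = φb.s and t₁ = ψ₁.s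
  obtain ⟨ψ₂, h₂⟩ := (MorphismProperty.RightFraction.mk φb.s φb.hs ψ₁.s).exists_leftFraction
  dsimp at h₂
  -- h₂ : ψ₁.s ≫ ψ₂.s = φb.s ≫ ψ₂.f
  have ht : W (φb.s ≫ ψ₂.f) := by rw [← h₂]; exact W.comp_mem _ _ ψ₁.hs ψ₂.hs
  have hsq : L.map (f ≫ φb.f ≫ ψ₂.f) = L.map (φa.f ≫ ψ₁.f ≫ ψ₂.s) := by
    calc L.map (f ≫ φb.f ≫ ψ₂.f) = L.map f ≫ (b ≫ L.map φb.s) ≫ L.map ψ₂.f := by
          rw [hb']; simp only [L.map_comp]
      _ = (L.map f ≫ b) ≫ L.map (φb.s ≫ ψ₂.f) := by simp only [L.map_comp, Category.assoc]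
      _ = (a ≫ L.map f') ≫ L.map (ψ₁.s ≫ ψ₂.s) := by rw [w, h₂]
      _ = a ≫ L.map ((f' ≫ ψ₁.s) ≫ ψ₂.s) := by simp only [L.map_comp, Category.assoc]
      _ = (a ≫ L.map φa.s) ≫ L.map (ψ₁.f ≫ ψ₂.s) := by
          rw [h₁]; simp only [L.map_comp, Category.assoc]
      _ = L.map (φa.f ≫ ψ₁.f ≫ ψ₂.s) := by rw [ha']; simp only [L.map_comp]
  obtain ⟨Y₄, v, hv, hfv⟩ := (MorphismProperty.map_eq_iff_postcomp L W _ _).1 hsq
  refine ⟨_, Y₄, (ψ₁.f ≫ ψ₂.s) ≫ v, φa.f, (φb.f ≫ ψ₂.f) ≫ v, φa.s, (φb.s ≫ ψ₂.f) ≫ v,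
    φa.hs, W.comp_mem _ _ ht hv, ?_, ?_, ha'.symm, ?_⟩
  · simpa only [Category.assoc] using hfv
  · rw [← h₂]
    simp only [← Category.assoc]
    rw [h₁]
  · simp only [L.map_comp, ← Category.assoc]
    rw [hb']

end Groth.Agent.S6444
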