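import Groth.Statements.S6445
import Mathlib.CategoryTheory.EqToHom

set_option autoImplicit false
open CategoryTheory CategoryTheory.Limits
universe v u
open FibCat

namespace Groth.Agent.S6445

open CategoricalPullback in
/-- the forward functor -/
def assocFunctor {A B C D E : Type u} [Category.{v} A] [Category.{v} B] [Category.{v} C]
    [Category.{v} D] [Category.{v} E] (F : A ⥤ B) (G : C ⥤ B) (H : C ⥤ D) (K : E ⥤ D) :
    CategoricalPullback (CategoricalPullback.π₂ F G ⋙ H) K ⥤
      CategoricalPullback F (CategoricalPullback.π₁ H K ⋙ G) where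
  obj x := ⟨x.fst.fst, ⟨x.fst.snd, x.snd, x.iso⟩, x.fst.iso⟩
  map {x y} f := ⟨f.fst.fst, ⟨f.fst.snd, f.snd, f.w⟩, f.fst.w⟩
  map_id x := rfl
  map_comp f g := rfl

open CategoricalPullback in
/-- the backward functor -/
def assocInverse {A B C D E : Type u} [Category.{v} A] [Category.{v} B] [Category.{v} C]
    [Category.{v} D] [Category.{v} E] (F : A ⥤ B) (G : C ⥤ B) (H : C ⥤ D) (K : E ⥤ D) :
    CategoricalPullback F (CategoricalPullback.π₁ H K ⋙ G) ⥤
      CategoricalPullback (CategoricalPullback.π₂ F G ⋙ H) K where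
  obj x := ⟨⟨x.fst, x.snd.fst, x.iso⟩, x.snd.snd, x.snd.iso⟩
  map {x y} f := ⟨⟨f.fst, f.snd.fst, f.w⟩, f.snd.snd, f.snd.w⟩
  map_id x := rfl
  map_comp f g := rfl

/-- Associativity of 2-fibre products of categories: `(A ×_B C) ×_D E` and `A ×_B (C ×_D E)` are
isomorphic categories, by an equivalence whose functor and inverse compose to the identity functors
on both sides and whose functor sends `((a, c, φ), e, ψ)` to an object with components `a`, `c`,
`e`. (The published statement gives the isomorphism by the formula `((a, c, φ), e, ψ) ↦ (a, (c, e,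
ψ), φ)`; this row pins the components `a`, `c`, `e` of the functor on objects and asks the functor
and its inverse to be mutually inverse on the nose.) -/
theorem result {A B C D E : Type u} [Category.{v} A] [Category.{v} B] [Category.{v} C] [Category.{v} D] [Category.{v} E]
    (F : A ⥤ B) (G : C ⥤ B) (H : C ⥤ D) (K : E ⥤ D) :
    ∃ e : CategoricalPullback (CategoricalPullback.π₂ F G ⋙ H) K ≌ CategoricalPullback F (CategoricalPullback.π₁ H K ⋙ G),
      e.functor ⋙ e.inverse = 𝟭 _ ∧ e.inverse ⋙ e.functor = 𝟭 _ ∧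
      ∀ x, (e.functor.obj x).fst = x.fst.fst ∧ (e.functor.obj x).snd.fst = x.fst.snd ∧ (e.functor.obj x).snd.snd = x.snd := by
  have h1 : assocFunctor F G H K ⋙ assocInverse F G H K = 𝟭 _ := rfl
  have h2 : assocInverse F G H K ⋙ assocFunctor F G H K = 𝟭 _ := rfl
  refine ⟨CategoryTheory.Equivalence.mk (assocFunctor F G H K) (assocInverse F G H K)
    (eqToIso h1.symm) (eqToIso h2), h1, h2, fun x => ⟨rfl, rfl, rfl⟩⟩

end Groth.Agent.S6445
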