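import Groth.Statements.S6448
import Mathlib

set_option autoImplicit false
open CategoryTheory
universe v u
open CatLim

namespace Groth.Agent.S6448

/-- In a category where spans complete to commutative squares and parallel pairs are coequalized by a
later arrow, every connected component is filtered (so the category is a disjoint union of filtered
categories). -/
theorem result {I : Type u} [Category.{v} I]
    (h1 : ∀ ⦃w x y : I⦄ (a : w ⟶ x) (b : w ⟶ y), ∃ (z : I) (c : x ⟶ z) (d : y ⟶ z), a ≫ c = b ≫ d)
    (h2 : ∀ ⦃x y : I⦄ (a b : x ⟶ y), ∃ (z : I) (c : y ⟶ z), a ≫ c = b ≫ c)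
    (j : ConnectedComponents I) : IsFiltered j.Component := by
  have hmem : ∀ (x : j.Component) (w : I), (x.obj ⟶ w) → j.objectProperty w := by
    intro x w f
    have h1 : (Quotient.mk'' w : ConnectedComponents I) = Quotient.mk'' x.obj :=
      (Quotient.sound' (Relation.ReflTransGen.single (Or.inl ⟨f⟩) : Zigzag x.obj w)).symm
    exact h1.trans x.property
  have key : ∀ x y : j.Component, Zigzag x y → ∃ (z : j.Component) (_ : x ⟶ z) (_ : y ⟶ z), True := by
    intro x y h
    induction h with
    | refl => exact ⟨x, 𝟙 x, 𝟙 x, trivial⟩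
    | tail _ hzag ih =>
      obtain ⟨z, f, g, -⟩ := ih
      rcases hzag with ⟨⟨e⟩⟩ | ⟨⟨e⟩⟩
      · obtain ⟨w, c, d, hcd⟩ := h1 g.hom e.hom
        exact ⟨⟨w, hmem z w c⟩, f ≫ ObjectProperty.homMk c, ObjectProperty.homMk d, trivial⟩
      · exact ⟨z, f, e ≫ g, trivial⟩
  have : IsFilteredOrEmpty j.Component :=
    { cocone_objs := fun x y => key x y (isPreconnected_zigzag x y)
      cocone_maps := fun x y a b => by
        obtain ⟨z, c, hc⟩ := h2 a.hom b.hom
        refine ⟨⟨z, hmem y z c⟩, ObjectProperty.homMk c, ?_⟩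
        apply ObjectProperty.hom_ext
        exact hc }
  exact {}

end Groth.Agent.S6448
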