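import Groth.Statements.S6472
import Groth.Agent.H11.SectionReg
import Groth.Agent.H11.OmegaReg
import Groth.Agent.H11.CotSmoothSch

set_option autoImplicit false
universe u
open CategoryTheory CategoryTheory.Limits AlgebraicGeometry
open IntMult

namespace Groth.Agent.S6472

/-- Let X be a nonsingular variety of dimension n over the algebraically closed field K. Then Δ : X → X
×_K X, the diagonal, is regular of codimension n as an immersion (RegImm.IsRegularImmersionOfCodim
of kind regular: an immersion which, around every point, in an affine open where it is closed, is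
cut out by a regular sequence of length n). Nonsingular variety: X → Spec K smooth, separated,
quasi-compact, X integral; n = Krull dimension of X. -/
theorem result (K : Type u) [Field K] [IsAlgClosed K] (X : Scheme.{u}) (f : X ⟶ Spec (CommRingCat.of K)) [Smooth f] [IsSeparated f] [QuasiCompact f] [IsIntegral X] (n : ℕ) (hn : topologicalKrullDim X = n) : RegImm.IsRegularImmersionOfCodim RegImm.Kind.regular n (pullback.diagonal f) := by
  haveI : LocallyOfFiniteType f := inferInstance
  have hld : ∀ x : X, FlatMor.localDim X x = n := fun x =>
    Groth.Agent.H11.OmegaSmooth.localDim_eq_of_irreducible K f n hn x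
  haveI : IsLocallyNoetherian X := LocallyOfFiniteType.isLocallyNoetherian f
  haveI hrel : SmoothOfRelativeDimension n f :=
    Groth.Agent.H11.CotSmoothSch.smoothOfRelativeDimension_of_smooth f n 0
      (Groth.Agent.H11.OmegaReg.localDim_spec_field K) (fun x => by rw [hld x, zero_add])
  haveI := smoothOfRelativeDimension_isStableUnderBaseChange n
  haveI hsnd : SmoothOfRelativeDimension n (pullback.snd f f) :=
    MorphismProperty.pullback_snd (P := @SmoothOfRelativeDimension n) f f hrel
  haveI hcl : IsClosedImmersion (pullback.diagonal f) := inferInstance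
  refine ⟨inferInstance, fun z => ?_⟩
  obtain ⟨U, hU, hzU, rs, hreg, hker⟩ :=
    Groth.Agent.H11.SectionReg.exists_regular_of_etale (pullback.snd f f) (𝟙 X) n
      (pullback.diagonal f) (pullback.diagonal_snd f) z
  have hofList : Ideal.ofList (List.ofFn rs) = Ideal.span (Set.range rs) := by
    unfold Ideal.ofList
    congr 1
    ext t
    simp [List.mem_ofFn]
  refine ⟨⟨U, hU⟩, hzU, inferInstance, List.ofFn rs, List.length_ofFn, ?_, ?_⟩
  · show RingTheory.Sequence.IsRegular _ _
    refine ⟨hreg, ?_⟩
    rw [smul_eq_mul, Ideal.mul_top, hofList, ← hker]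
    intro htop
    have h1 : (1 : Γ(pullback f f, U)) ∈ RingHom.ker ((pullback.diagonal f).app U).hom := by
      rw [← htop]; trivial
    rw [RingHom.mem_ker, map_one] at h1
    haveI : Nonempty ↥((pullback.diagonal f) ⁻¹ᵁ U) := ⟨⟨z, hzU⟩⟩
    haveI : Nontrivial Γ(X, (pullback.diagonal f) ⁻¹ᵁ U) := inferInstance
    exact one_ne_zero h1
  · rw [hker, hofList]


end Groth.Agent.S6472
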