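import Groth.Statements.S6480
import Groth.Agent.H63.LenOrd

set_option autoImplicit false
universe u
open CycAlg IsLocalRing Pointwise Groth.Agent.H63.LenOrd

set_option linter.style.haveILetI false

namespace Groth.Agent.S6480

/-- Let A be a Noetherian local ring of dimension 1, a, b ∈ A nonzerodivisors, A without embedded
primes, M a finite A-module without embedded associated primes and with Supp(M) = Spec(A). Put I =
{x ∈ A | x·(a/b) ∈ A}, and write 𝔮_1, …, 𝔮_t for the minimal prime ideals of A. The conclusion is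
that M contains (a/b)IM, and that the difference length_A(M/(a/b)IM) minus length_A(M/IM) equals the
sum over i of length_{A_{𝔮_i}}(M_{𝔮_i}) multiplied by ord_{A/𝔮_i}(a/b). Encoding: I is the ideal
quotient (bA : aA); '(a/b)IM ⊂ M' is aIM ⊆ bM; (a/b)IM is the submodule of m with bm ∈ aIM (b acts
injectively on M); ord_{A/𝔮}(a/b) is CycAlg.ordFrac on κ(𝔮) = Frac(A/𝔮); lengths are truncated to ℕ
(they are finite here). -/
theorem result {A : Type u} [CommRing A] [IsNoetherianRing A] [IsLocalRing A] (hA : ringKrullDim A = 1) {M : Type u} [AddCommGroup M] [Module A M] [Module.Finite A M] (a b : A) (ha : a ∈ nonZeroDivisors A) (hb : b ∈ nonZeroDivisors A) (hAemb : ∀ p ∈ associatedPrimes A A, p ∈ minimalPrimes A) (hMemb : ∀ p ∈ associatedPrimes A M, p ∈ minimalPrimes A) (hsupp : Module.support A M = Set.univ) (I : Ideal A) (hI : I = (Ideal.span {b}).colon (Ideal.span {a})) (P : Submodule A M) (hP : P = Submodule.comap (LinearMap.lsmul A M b) ((Ideal.span {a} * I) • (⊤ : Submodule A M))) :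 (Ideal.span {a} * I) • (⊤ : Submodule A M) ≤ LinearMap.range (LinearMap.lsmul A M b) ∧ ((Module.length A (M ⧸ P)).toNat : ℤ) - ((Module.length A (M ⧸ I • (⊤ : Submodule A M))).toNat : ℤ) = ∑ᶠ (q : PrimeSpectrum A) (_ : q.asIdeal ∈ minimalPrimes A), ((Module.length (Localization.AtPrime q.asIdeal) (LocalizedModule q.asIdeal.primeCompl M)).toNat : ℤ) * CycAlg.ordFrac (A ⧸ q.asIdeal) q.asIdeal.ResidueField (algebraMap A q.asIdeal.ResidueField a / algebraMap A q.asIdeal.ResidueField b) := by
  classical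
  subst hI hP
  have hle := mul_colon_le a b
  refine ⟨ideal_smul_top_le_range hle, ?_⟩
  have hinj_a := lsmul_injective hMemb ha
  have e := length_identity (M := M) a b hinj_a _ hle
  have ea := length_quot_eq_sum hA hMemb hsupp ha
  have eb := length_quot_eq_sum hA hMemb hsupp hb
  -- the finite index set
  have hfinT : {q : PrimeSpectrum A | q.asIdeal ∈ minimalPrimes A}.Finite := by
    refine Set.Finite.of_finite_image (f := PrimeSpectrum.asIdeal) ?_
      (fun x _ y _ h => PrimeSpectrum.ext h)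
    refine (minimalPrimes.finite_of_isNoetherianRing A).subset ?_
    rintro _ ⟨q, hq, rfl⟩
    exact hq
  set T := hfinT.toFinset with hT
  have hTmem : ∀ q, q ∈ T ↔ q.asIdeal ∈ minimalPrimes A := fun q => by
    rw [hT, Set.Finite.mem_toFinset]; rfl
  set n : PrimeSpectrum A → ℕ := fun q =>
    (Module.length (Localization.AtPrime q.asIdeal)
      (LocalizedModule q.asIdeal.primeCompl M)).toNat with hn
  set α : PrimeSpectrum A → ℕ := fun q =>
    (Ring.ord (A ⧸ q.asIdeal) (Ideal.Quotient.mk q.asIdeal a)).toNat with hα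
  set β : PrimeSpectrum A → ℕ := fun q =>
    (Ring.ord (A ⧸ q.asIdeal) (Ideal.Quotient.mk q.asIdeal b)).toNat with hβ
  have conv : ∀ {x : A} (hx : x ∈ nonZeroDivisors A),
      (∑ᶠ (q : PrimeSpectrum A) (_ : q.asIdeal ∈ minimalPrimes A),
        Ring.ord (A ⧸ q.asIdeal) (Ideal.Quotient.mk q.asIdeal x) *
          Module.length (Localization.AtPrime q.asIdeal)
            (LocalizedModule q.asIdeal.primeCompl M)) =
      ((∑ q ∈ T, (Ring.ord (A ⧸ q.asIdeal) (Ideal.Quotient.mk q.asIdeal x)).toNat * n q : ℕ) :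
        ℕ∞) := by
    intro x hx
    have h1 : (∑ᶠ (q : PrimeSpectrum A) (_ : q.asIdeal ∈ minimalPrimes A),
        Ring.ord (A ⧸ q.asIdeal) (Ideal.Quotient.mk q.asIdeal x) *
          Module.length (Localization.AtPrime q.asIdeal)
            (LocalizedModule q.asIdeal.primeCompl M)) =
        ∑ q ∈ T, Ring.ord (A ⧸ q.asIdeal) (Ideal.Quotient.mk q.asIdeal x) *
          Module.length (Localization.AtPrime q.asIdeal)
            (LocalizedModule q.asIdeal.primeCompl M) :=
      finsum_mem_eq_finite_toFinset_sum _ hfinT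
    rw [h1, Nat.cast_sum]
    refine Finset.sum_congr rfl fun q hq => ?_
    have hq' := (hTmem q).1 hq
    rw [Nat.cast_mul, ENat.coe_toNat (ord_quot_ne_top hA hx q hq'),
      ENat.coe_toNat (length_localized_ne_top q hq')]
  rw [conv ha] at ea
  rw [conv hb] at eb
  -- finiteness of `ℓ(M/IM)`
  have hbI : b ∈ (Ideal.span {b}).colon ((Ideal.span {a} : Ideal A) : Set A) := by
    rw [Submodule.mem_colon]
    intro s _
    exact Ideal.mul_mem_right _ _ (Ideal.subset_span rfl)
  have hIM : Module.length A (M ⧸ ((Ideal.span {b}).colon ((Ideal.span {a} : Ideal A) : Set A)) •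
      (⊤ : Submodule A M)) ≤ Module.length A (M ⧸ b • (⊤ : Submodule A M)) := by
    refine Module.length_le_of_surjective (Submodule.mapQ _ _ LinearMap.id ?_) ?_
    · intro m hm
      obtain ⟨y, -, rfl⟩ := (Submodule.mem_smul_pointwise_iff_exists _ _ _).1 hm
      exact Submodule.smul_mem_smul hbI Submodule.mem_top
    · intro y
      obtain ⟨y, rfl⟩ := Submodule.Quotient.mk_surjective _ y
      exact ⟨Submodule.Quotient.mk y, rfl⟩
  rw [eb] at hIM
  rw [ea, eb] at e
  obtain ⟨i, hi⟩ := ENat.ne_top_iff_exists.1 (ne_top_of_le_ne_top (ENat.coe_ne_top _) hIM)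
  rw [← hi] at e
  have hPfin : Module.length A (M ⧸ Submodule.comap (LinearMap.lsmul A M b)
      ((Ideal.span {a} * (Ideal.span {b}).colon ((Ideal.span {a} : Ideal A) : Set A)) •
        (⊤ : Submodule A M))) ≠ ⊤ := by
    intro htop
    rw [htop, top_add] at e
    exact absurd e.symm (by
      rw [← Nat.cast_add]
      exact ENat.coe_ne_top _)
  obtain ⟨p, hp⟩ := ENat.ne_top_iff_exists.1 hPfin
  rw [← hp] at e
  rw [← hp, ← hi, ENat.toNat_coe, ENat.toNat_coe]
  have e' : p + ∑ q ∈ T, β q * n q = i + ∑ q ∈ T, α q * n q := by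
    exact_mod_cast e
  -- the right hand side
  have h2 : (∑ᶠ (q : PrimeSpectrum A) (_ : q.asIdeal ∈ minimalPrimes A),
      ((Module.length (Localization.AtPrime q.asIdeal)
        (LocalizedModule q.asIdeal.primeCompl M)).toNat : ℤ) *
        CycAlg.ordFrac (A ⧸ q.asIdeal) q.asIdeal.ResidueField
          (algebraMap A q.asIdeal.ResidueField a / algebraMap A q.asIdeal.ResidueField b)) =
      ∑ q ∈ T, ((Module.length (Localization.AtPrime q.asIdeal)
        (LocalizedModule q.asIdeal.primeCompl M)).toNat : ℤ) *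
        CycAlg.ordFrac (A ⧸ q.asIdeal) q.asIdeal.ResidueField
          (algebraMap A q.asIdeal.ResidueField a / algebraMap A q.asIdeal.ResidueField b) :=
    finsum_mem_eq_finite_toFinset_sum _ hfinT
  rw [h2]
  have h3 : ∀ q ∈ T, ((Module.length (Localization.AtPrime q.asIdeal)
        (LocalizedModule q.asIdeal.primeCompl M)).toNat : ℤ) *
        CycAlg.ordFrac (A ⧸ q.asIdeal) q.asIdeal.ResidueField
          (algebraMap A q.asIdeal.ResidueField a / algebraMap A q.asIdeal.ResidueField b) =
      (n q : ℤ) * ((α q : ℤ) - (β q : ℤ)) := by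
    intro q hq
    have hq' := (hTmem q).1 hq
    haveI : Ring.KrullDimLE 1 (A ⧸ q.asIdeal) :=
      Ring.krullDimLE_iff.2 ((ringKrullDim_quotient_le q.asIdeal).trans hA.le)
    have hnq : ∀ {x : A}, x ∈ nonZeroDivisors A → Ideal.Quotient.mk q.asIdeal x ≠ 0 := by
      intro x hx
      rw [Ne, Ideal.Quotient.eq_zero_iff_mem]
      exact fun hxq => Set.disjoint_left.1
        (Ideal.disjoint_nonZeroDivisors_of_mem_minimalPrimes hq') hxq hx
    rw [IsScalarTower.algebraMap_apply A (A ⧸ q.asIdeal) q.asIdeal.ResidueField a,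
      IsScalarTower.algebraMap_apply A (A ⧸ q.asIdeal) q.asIdeal.ResidueField b]
    have e5 : algebraMap A (A ⧸ q.asIdeal) = Ideal.Quotient.mk q.asIdeal := rfl
    rw [e5, Groth.Agent.H36.LatticeDist.ordFrac_div (A ⧸ q.asIdeal) q.asIdeal.ResidueField _ _
      (hnq ha) (hnq hb)]
  rw [Finset.sum_congr rfl h3]
  have h4 : ∑ q ∈ T, (n q : ℤ) * ((α q : ℤ) - (β q : ℤ)) =
      ((∑ q ∈ T, α q * n q : ℕ) : ℤ) - ((∑ q ∈ T, β q * n q : ℕ) : ℤ) := by
    rw [Nat.cast_sum, Nat.cast_sum, ← Finset.sum_sub_distrib]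
    refine Finset.sum_congr rfl fun q _ => ?_
    push_cast
    ring
  rw [h4]
  have e'' : (p : ℤ) + ((∑ q ∈ T, β q * n q : ℕ) : ℤ) = (i : ℤ) + ((∑ q ∈ T, α q * n q : ℕ) : ℤ) := by
    exact_mod_cast e'
  linarith

end Groth.Agent.S6480
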