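import Groth.Statements.S6481
import Groth.Agent.H63.GlueE

set_option autoImplicit false
universe u
open CycAlg

namespace Groth.Agent.S6481

/-- Let (A, 𝔪) be a 2-dimensional Noetherian local ring, t ∈ 𝔪 a nonzerodivisor with V(t) = {𝔪, 𝔮_1, …,
𝔮_r}, and A_{𝔮_i} ⊂ B_i finite ring extensions with B_i/A_{𝔮_i} annihilated by a power of t and with
t a nonzerodivisor on each B_i. Then A admits some finite extension A ⊂ B whose quotient B/A is
killed by some power of t, such that for every i the localization B_{𝔮_i} = B ⊗_A A_{𝔮_i} is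
isomorphic to B_i (existence of an A_{𝔮_i}-algebra isomorphism; B itself is only asserted to exist).
(The published statement allows any finite ring extensions A_{𝔮_i} ⊂ B_i; this row asks t to be a
nonzerodivisor on each B_i, the case its proof treats, where B_i sits inside t^{-n}A_{𝔮_i}. The
published statement also makes B local with the same residue field as A; this row omits that
clause.) Finite extension with quotient killed by a power of t: CycAlg.IsFinExt with the ideal (t). -/
theorem result (A : Type u) [CommRing A] [IsNoetherianRing A] [IsLocalRing A] (hA : ringKrullDim A = 2) (t : A) (ht : t ∈ IsLocalRing.maximalIdeal A) (htnz : t ∈ nonZeroDivisors A) (r : ℕ) (q : Fin r → Ideal A) (hq : ∀ i, (q i).IsPrime) (hinj : Function.Injective q) (hqm : ∀ i, q i ≠ IsLocalRing.maximalIdeal A) (htq : ∀ i, t ∈ q i) (hV : ∀ p : Ideal A, p.IsPrime → t ∈ p → p = IsLocalRing.maximalIdeal A ∨ ∃ i, p = q i) (B : Fin r → Type u) [∀ i, CommRing (B i)] [∀ i, Algebra (Localization.AtPrime (q i)) (B i)] (hB : ∀ i, CycAlg.IsFinExt (Localization.AtPrime (q i)) (B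 i) (Ideal.span {algebraMap A (Localization.AtPrime (q i)) t})) (htB : ∀ i, IsSMulRegular (B i) (algebraMap A (Localization.AtPrime (q i)) t)) : ∃ (C : Type u) (_ : CommRing C) (_ : Algebra A C), CycAlg.IsFinExt A C (Ideal.span {t}) ∧ ∀ i, Nonempty (TensorProduct A (Localization.AtPrime (q i)) C ≃ₐ[Localization.AtPrime (q i)] B i) := by
  classical
  have hctx : Groth.Agent.H63.Glue.Ctx t q := by
    refine ⟨hq, hqm, htq, hV, ?_⟩
    intro i j hle
    haveI := hq i
    haveI := hq j
    exact hinj (Groth.Agent.H63.Glue.eq_of_le_of_dim_two hA htnz (htq i) (hqm j) hle)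
  letI alg : ∀ i, Algebra A (B i) := fun i =>
    ((algebraMap (Localization.AtPrime (q i)) (B i)).comp
      (algebraMap A (Localization.AtPrime (q i)))).toAlgebra
  haveI tower : ∀ i, IsScalarTower A (Localization.AtPrime (q i)) (B i) := fun i =>
    IsScalarTower.of_algebraMap_eq fun _ => rfl
  have hinjB : ∀ i, Function.Injective (algebraMap (Localization.AtPrime (q i)) (B i)) :=
    fun i => (hB i).1
  have hreg : ∀ i, algebraMap A (B i) t ∈ nonZeroDivisors (B i) := by
    intro i
    rw [mem_nonZeroDivisors_iff]
    constructor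
    · intro b hb
      apply htB i
      change algebraMap A (Localization.AtPrime (q i)) t • b =
        algebraMap A (Localization.AtPrime (q i)) t • (0 : B i)
      rw [smul_zero, Algebra.smul_def]
      exact hb
    · intro b hb
      apply htB i
      change algebraMap A (Localization.AtPrime (q i)) t • b =
        algebraMap A (Localization.AtPrime (q i)) t • (0 : B i)
      rw [smul_zero, Algebra.smul_def, mul_comm]
      exact hb
  choose ni hni using fun i => (hB i).2.2
  obtain ⟨n, hn⟩ : ∃ n : ℕ, ∀ i, ni i ≤ n := ⟨∑ i, ni i, fun i =>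
    Finset.single_le_sum (f := ni) (fun _ _ => Nat.zero_le _) (Finset.mem_univ i)⟩
  have hcond : ∀ i, ∀ b : B i, ∃ r : Localization.AtPrime (q i),
      algebraMap (Localization.AtPrime (q i)) (B i) r = algebraMap A (B i) t ^ n * b := by
    intro i b
    have hmem0 : algebraMap A (Localization.AtPrime (q i)) t ^ n ∈
        Ideal.span {algebraMap A (Localization.AtPrime (q i)) t} ^ n :=
      Ideal.pow_mem_pow (Ideal.mem_span_singleton_self _) n
    have hle0 : Ideal.span {algebraMap A (Localization.AtPrime (q i)) t} ^ n ≤
        Ideal.span {algebraMap A (Localization.AtPrime (q i)) t} ^ ni i :=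
      Ideal.pow_le_pow_right (hn i)
    have hmem : algebraMap A (Localization.AtPrime (q i)) t ^ n ∈
        Ideal.span {algebraMap A (Localization.AtPrime (q i)) t} ^ ni i := hle0 hmem0
    obtain ⟨r, hr⟩ := hni i _ hmem b
    refine ⟨r, ?_⟩
    rw [hr, Algebra.smul_def, map_pow]
    rfl
  obtain ⟨C, hfin, hloc, -, hpow, φ, hsurj, hker⟩ :=
    Groth.Agent.H63.Glue.exists_glue B hctx htnz hinjB hreg n hcond
  refine ⟨C, inferInstance, inferInstance, ⟨?_, hfin, n, ?_⟩, fun i => ?_⟩
  · have h1 : Function.Injective (algebraMap A (Localization.Away t)) :=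
      IsLocalization.injective _ (Submonoid.powers_le.2 htnz)
    intro x y hxy
    exact h1 (congrArg Subtype.val hxy)
  · intro r hr c
    rw [Ideal.span_singleton_pow, Ideal.mem_span_singleton'] at hr
    obtain ⟨x, rfl⟩ := hr
    obtain ⟨a, ha⟩ := hpow c
    refine ⟨x * a, ?_⟩
    rw [map_mul, ha, Algebra.smul_def, map_mul, map_pow]
    ring
  · letI : Algebra C (B i) := (φ i).toRingHom.toAlgebra
    haveI : IsScalarTower A C (B i) :=
      IsScalarTower.of_algebraMap_eq fun a => ((φ i).commutes a).symm
    haveI : IsLocalization (Algebra.algebraMapSubmonoid C (q i).primeCompl) (B i) := by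
      refine ⟨?_, ?_, ?_⟩
      · rintro ⟨_, s, hs, rfl⟩
        change IsUnit (φ i (algebraMap A C s))
        rw [(φ i).commutes, IsScalarTower.algebraMap_apply A (Localization.AtPrime (q i)) (B i)]
        exact (IsLocalization.map_units (Localization.AtPrime (q i))
          (⟨s, hs⟩ : (q i).primeCompl)).map _
      · intro β
        obtain ⟨s, hs, c, hc⟩ := hsurj i β
        refine ⟨(c, ⟨algebraMap A C s, s, hs, rfl⟩), ?_⟩
        change β * φ i (algebraMap A C s) = φ i c
        rw [hc, (φ i).commutes, mul_comm]
      · intro c₁ c₂ h12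
        have h0 : φ i (c₁ - c₂) = 0 := by
          rw [map_sub]
          exact sub_eq_zero.2 h12
        obtain ⟨s, hs, hsc⟩ := hker i _ h0
        refine ⟨⟨algebraMap A C s, s, hs, rfl⟩, ?_⟩
        change algebraMap A C s * c₁ = algebraMap A C s * c₂
        rw [← sub_eq_zero, ← mul_sub, ← Algebra.smul_def]
        exact hsc
    haveI : Algebra.IsPushout A C (Localization.AtPrime (q i)) (B i) :=
      Algebra.isPushout_of_isLocalization (q i).primeCompl (Localization.AtPrime (q i)) C (B i)
    haveI : Algebra.IsPushout A (Localization.AtPrime (q i)) C (B i) := Algebra.IsPushout.symm ‹_›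
    exact ⟨Algebra.IsPushout.equiv A (Localization.AtPrime (q i)) C (B i)⟩

end Groth.Agent.S6481
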