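import Groth.Statements.S6500
import Groth.Agent.H53.SmoothFieldRegular
import Groth.Agent.Lead.RegularGlDim
import Groth.Agent.H72.LeftDerivedVanish

set_option autoImplicit false
universe u
open CategoryTheory CategoryTheory.Limits AlgebraicGeometry
attribute [local instance] HasDerivedCategory.standard
open IntMult

namespace Groth.Agent.S6500

/-- Let X be a nonsingular variety of dimension n and F, G coherent O_X-modules. The Tor sheaves
Tor_p^{O_X}(F, G), whose stalks are Tor_p^{O_{X,x}}(F_x, G_x), are nonzero only for p ∈ {0, …, n}: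
for every point x and every p > n, Tor_p^{O_{X,x}}(F_x, G_x) = 0. (Coherence of the Tor sheaves and
the support statement are not restated.) Nonsingular variety: X → Spec K smooth, separated,
quasi-compact, X integral, K algebraically closed; n = dim X. -/
theorem result (K : Type u) [Field K] [IsAlgClosed K] (X : Scheme.{u}) (f : X ⟶ Spec (CommRingCat.of K)) [Smooth f] [IsSeparated f] [QuasiCompact f] [IsIntegral X] (n : ℕ) (hn : topologicalKrullDim X = n) (F G : X.Modules) (hF : Coh.IsCoh F) (hG : Coh.IsCoh G) (x : X) (p : ℕ) (hp : n < p) : Subsingleton (DRing.Tor ↑(X.presheaf.stalk x) p ↑(F.presheaf.stalk x) ↑(G.presheaf.stalk x)) := by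
  have hreg : IsRegularLocalRing (X.presheaf.stalk x) :=
    Groth.Agent.H53.isRegularLocalRing_stalk_of_smooth_field K f x
  -- the dimension of the stalk is at most `n`
  have hdim : ringKrullDim (X.presheaf.stalk x) ≤ (n : WithBot ℕ∞) := by
    rw [ringKrullDim_stalk_eq_coheight, ← hn]
    have h1 : topologicalKrullDim ↥X = ⨆ y : X, (Order.coheight y : WithBot ℕ∞) := by
      rw [← Order.krullDim_eq_iSup_coheight]
      exact Order.krullDim_eq_of_orderIso (irreducibleSetEquivPoints (α := ↥X))
    rw [h1]
    exact le_iSup (fun y : X => (Order.coheight y : WithBot ℕ∞)) x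
  obtain ⟨d, hd⟩ : ∃ d : ℕ, ringKrullDim (X.presheaf.stalk x) = (d : WithBot ℕ∞) := by
    have hne : ringKrullDim (X.presheaf.stalk x) ≠ ⊥ := ringKrullDim_ne_bot
    obtain ⟨a, ha⟩ := WithBot.ne_bot_iff_exists.1 hne
    rw [← ha] at hdim ⊢
    have h2 : a ≤ (n : ℕ∞) := by exact_mod_cast hdim
    obtain ⟨k, hk, -⟩ := ENat.le_natCast_iff.1 h2
    exact ⟨k, by rw [hk]; rfl⟩
  have hdn : d ≤ n := by
    rw [hd] at hdim
    exact_mod_cast hdim
  have hpd := Groth.Agent.Lead.RLR.hasProjectiveDimensionLT (X.presheaf.stalk x) d hd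
    (ModuleCat.of (X.presheaf.stalk x) (G.presheaf.stalk x))
  have hpd' : HasProjectiveDimensionLT
      (ModuleCat.of (X.presheaf.stalk x) (G.presheaf.stalk x)) (n + 1) :=
    hasProjectiveDimensionLT_of_ge _ (d + 1) (n + 1) (by omega)
  have hz := Groth.Agent.H72.isZero_leftDerived_of_hasProjectiveDimensionLT
    ((MonoidalCategory.tensoringLeft (ModuleCat.{u} (X.presheaf.stalk x))).obj
      (ModuleCat.of (X.presheaf.stalk x) (F.presheaf.stalk x)))
    (ModuleCat.of (X.presheaf.stalk x) (G.presheaf.stalk x)) n p hp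
  exact ModuleCat.subsingleton_of_isZero hz

end Groth.Agent.S6500
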