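import Groth.Statements.S6501
import Groth.Agent.H33.DPowTF

set_option autoImplicit false
universe u
open DPow

namespace Groth.Agent.S6501

/-- Let A be a commutative ring whose additive group is torsion free and I an ideal of A. Then I carries
at most one divided power structure, and it carries one if and only if I is generated by a set S
such that for every x in S and every n ≥ 1 the power x^n lies in the ideal generated by the products
of n! with elements of I. -/
theorem result {A : Type u} [CommRing A] [IsAddTorsionFree A] (I : Ideal A) :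
    Subsingleton (DividedPowers I) ∧
    (Nonempty (DividedPowers I) ↔ ∃ S : Set A, Ideal.span S = I ∧
      ∀ x ∈ S, ∀ n : ℕ, 1 ≤ n → x ^ n ∈ Ideal.span {(Nat.factorial n : A)} * I) := by
  refine ⟨Groth.Agent.H33.DPowTF.subsingleton_dp I, ⟨?_, ?_⟩⟩
  · rintro ⟨hI⟩
    refine ⟨(I : Set A), Ideal.span_eq I, fun x hx n hn ↦ ?_⟩
    rw [← hI.factorial_mul_dpow_eq_pow hx]
    exact Ideal.mul_mem_mul (Ideal.mem_span_singleton_self _)
      (hI.dpow_mem (Nat.one_le_iff_ne_zero.mp hn) hx)
  · rintro ⟨S, hS, h⟩
    exact ⟨Groth.Agent.H33.DPowTF.dpOfGood I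
      (fun x hx ↦ Groth.Agent.H33.DPowTF.good_of_mem_span hS h hx)⟩

end Groth.Agent.S6501
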