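import Groth.Statements.S6503
import Groth.Agent.H59.DiagLocal
import Groth.Agent.H59.NLVasc1

set_option autoImplicit false
universe u
open TensorProduct
open LCI

namespace Groth.Agent.S6503

/-- Suppose A and B are Noetherian local rings and A → B is a local homomorphism making B a flat
A-algebra that is essentially of finite type, and regard B as an algebra over B ⊗_A B via the
multiplication map. If B has finite Tor-dimension over B ⊗_A B (the diagonal is a perfect ring map),
then there are a smooth A-algebra C and a prime ideal q of C such that B is an A-algebra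
localization of C at q. -/
theorem result {A B : Type u} [CommRing A] [CommRing B]
    [Algebra A B] [IsNoetherianRing A] [IsNoetherianRing B] [IsLocalRing A] [IsLocalRing B]
    [IsLocalHom (algebraMap A B)] [Module.Flat A B] [Algebra.EssFiniteType A B]
    [Algebra (B ⊗[A] B) B]
    (hmul : ∀ x y : B, algebraMap (B ⊗[A] B) B (x ⊗ₜ[A] y) = x * y)
    (h : DRing.HasFiniteTorDim (B ⊗[A] B) B) :
    ∃ (C : Type u) (_ : CommRing C) (_ : Algebra A C) (_ : Algebra C B) (_ : IsScalarTower A C B)
      (q : Ideal C) (_ : q.IsPrime), Algebra.Smooth A C ∧ IsLocalization.AtPrime B q := by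
  classical
  haveI hBBN : IsNoetherianRing (B ⊗[A] B) :=
    Algebra.EssFiniteType.isNoetherianRing B (B ⊗[A] B)
  have hsurjBB : Function.Surjective (algebraMap (B ⊗[A] B) B) := by
    intro b
    exact ⟨b ⊗ₜ 1, by rw [hmul, mul_one]⟩
  haveI hfinBB : Module.Finite (B ⊗[A] B) B :=
    Module.Finite.of_surjective (Algebra.linearMap (B ⊗[A] B) B) hsurjBB
  obtain ⟨d, hd⟩ := h
  have hpd0 := Groth.Agent.H59.NLVasc1.hasProjectiveDimensionLT_of_hasTorDimLE d B hd
  have hpd : CategoryTheory.HasProjectiveDimensionLT (ModuleCat.of (B ⊗[A] B) B) (2 * (d + 1)) :=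
    CategoryTheory.hasProjectiveDimensionLT_of_ge _ (d + 1) _ (by omega)
  haveI hfs : Algebra.FormallySmooth A B :=
    Groth.Agent.H59.DiagLocal.formallySmooth hmul (d + 1) hpd
  exact Groth.Agent.H59.DiagLocal.exists_smooth_localization

end Groth.Agent.S6503
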