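import Groth.Statements.S6504
import Groth.Agent.H34.HyperCosk2
import Groth.Agent.H34.FCCov2
import Groth.Agent.H34.CoskProd

set_option autoImplicit false
universe u
open CategoryTheory
open Hyper

namespace Groth.Agent.S6504

open Opposite CategoryTheory.Limits in
/-- Read on the localized site C/X (so that the represented presheaf h_X is the final object and fibre
products over h_X are products): let C be a small site with fibre products and K a hypercovering of
an object X. Then the associated simplicial presheaf F(K) on C/X satisfies: F(K_0) → * is locally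
surjective, F(K_1) → F(K_0) × F(K_0) (the two face maps) is locally surjective, and for every n ≥ 1
the map F(K_{n+1}) → F((cosk_n sk_n K)_{n+1}) is locally surjective; that is, K is a hypercovering
of the final object of the topos of C/X in Verdier's sense. -/
theorem result {C : Type u} [SmallCategory C] [HasPullbacks C]
    (J : GrothendieckTopology C) (X : C) (K : SimplicialObject (FormalCoproduct.{u} (Over X)))
    [∀ (n : ℕ) (F : (SimplexCategory.Truncated n)ᵒᵖ ⥤ FormalCoproduct.{u} (Over X)),
      (SimplexCategory.Truncated.inclusion n).op.HasRightKanExtension F]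
    (hK : Hyper.IsHypercovering J X K) : Hyper.IsHypercoveringSite (J.over X) K := by
  have : HasFiniteLimits (FormalCoproduct.{u} (Over X)) :=
    hasFiniteLimits_of_hasTerminal_and_pullbacks
  let F := FormalCoproduct.yoneda (C := Over X)
  refine ⟨?_, ?_, ?_⟩
  · refine Groth.Agent.H34.FCYoneda.isLocallySurjective_yoneda_to_subsingleton J X
      (K.obj (op (SimplexCategory.mk 0))) hK.1 (fun T => ?_) _
    constructor
    intro a b
    have h : (yonedaEquiv.symm a : yoneda.obj T.unop ⟶ ⊤_ _) = yonedaEquiv.symm b :=
      Subsingleton.elim _ _
    exact yonedaEquiv.symm.injective h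
  · let Y : SimplicialObject ((Over X)ᵒᵖ ⥤ Type u) := ((SimplicialObject.whiskering _ _).obj F).obj K
    obtain ⟨θ, hθ⟩ := Groth.Agent.H34.HyperCosk.exists_iso_unit F 0 K
    have e := congrArg (fun t => NatTrans.app t (op (SimplexCategory.mk 1))) hθ
    have h1 : Presheaf.IsLocallySurjective (J.over X)
        (((SimplicialObject.coskAdj 0).unit.app Y).app (op (SimplexCategory.mk 1))) := by
      rw [← e]
      have := Groth.Agent.H34.FCYoneda.isLocallySurjective_yoneda_map (J.over X) _ (hK.2 0)
      rw [NatTrans.comp_app]
      exact Presheaf.isLocallySurjective_comp (J.over X) (F.map _) (θ.hom.app _)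
    have h2 := Groth.Agent.H34.CoskHtpy.unit_p01 Y
    change Presheaf.IsLocallySurjective (J.over X) (prod.lift (Y.δ 1) (Y.δ 0))
    rw [← h2]
    infer_instance
  · intro n _
    exact Groth.Agent.H34.FCYoneda.isLocallySurjective_yoneda_map (J.over X) _ (hK.2 n)

end Groth.Agent.S6504
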