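import Groth.Statements.S6520
import Groth.Agent.S0875

set_option autoImplicit false
universe u
open CategoryTheory
open CohTop

namespace Groth.Agent.S6520

open TopologicalSpace CategoryTheory.Limits in
/-- Let E be an object of the derived category of abelian sheaves on a topological space X such that
every point x admits an integer d_x ≥ 0 and a fundamental system of open neighbourhoods U with
H^p(U, H^q(E)) = 0 for p > d_x and q < 0. Then E → R lim τ_{≥ -n} E is an isomorphism: E is a
derived limit of the tower of its truncations through the canonical maps. The countable product of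
the truncations is assumed to exist. (The published statement is for D(O_X) of a ringed space; this
row is for abelian sheaves on a topological space.) -/
theorem result {X : TopCat.{u}}
    [HasDerivedCategory.{u} (CohTop.Ab X)] (E : DerivedCategory (CohTop.Ab X))
    [HasProduct (CohCx.truncTower E)]
    (h : ∀ x : X, ∃ d : ℕ, ∀ V : Opens X, x ∈ V → ∃ U : Opens X, x ∈ U ∧ U ≤ V ∧
      ∀ (p : ℕ) (q : ℤ), d < p → q < 0 → Subsingleton (CohTop.HU (CohCx.HD E q) p U)) :
    CohCx.IsRlimVia (CohCx.truncTower E) (CohCx.truncTowerMap E) E (CohCx.toTruncTower E) := by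
  apply Groth.Agent.S0875.result E
  intro x
  obtain ⟨d, hd⟩ := h x
  refine ⟨fun m => max (d : ℤ) m, fun V hxV => ?_⟩
  obtain ⟨U, hxU, hUV, hU⟩ := hd V hxV
  refine ⟨U, hxU, hUV, fun m k hk => ?_⟩
  have h1 : (d : ℤ) < k := lt_of_le_of_lt (le_max_left _ _) hk
  have h2 : m < k := lt_of_le_of_lt (le_max_right _ _) hk
  exact hU k (m - k) (by exact_mod_cast h1) (by omega)

end Groth.Agent.S6520
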