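import Groth.Statements.S6523
import Groth.Agent.H33.BrownGA.Main
import Mathlib.CategoryTheory.Adjunction.PartialAdjoint
import Mathlib.CategoryTheory.Triangulated.Yoneda
import Mathlib.CategoryTheory.Triangulated.Opposite.Functor
import Mathlib.CategoryTheory.Preadditive.Yoneda.Limits
import Mathlib.CategoryTheory.Limits.Preserves.Opposites

set_option autoImplicit false
universe v u u'
open CategoryTheory
open CohDer

namespace Groth.Agent.S6523

open CategoryTheory.Limits CategoryTheory.Pretriangulated in
/-- Let A be a Grothendieck abelian category, D a pretriangulated category whose morphism types live in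
the same universe as those of D(A), and F : D(A) → D an exact functor of triangulated categories
which transforms direct sums (small coproducts) into direct sums. Then F has a right adjoint (which
is then exact as well). Stated as: F is a left adjoint. (With morphism types of D in a larger
universe the assertion fails by a cardinality argument; the published proof applies Brown
representability to the functors W ↦ Hom(F(W), Y), which must take values in small abelian groups.) -/
theorem result {A : Type u} [Category.{v} A] [Abelian A]
    [IsGrothendieckAbelian.{v} A] [HasDerivedCategory.{v} A]
    {D : Type u'} [Category.{v} D] [Preadditive D] [HasZeroObject D] [HasShift D ℤ]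
    [∀ n : ℤ, (shiftFunctor D n).Additive] [Pretriangulated D]
    (F : DerivedCategory A ⥤ D) [F.CommShift ℤ] [F.IsTriangulated]
    [∀ (ι : Type v), PreservesColimitsOfShape (Discrete ι) F] :
    F.IsLeftAdjoint := by
  open CategoryTheory.Pretriangulated.Opposite in
  apply Functor.isLeftAdjoint_of_rightAdjointObjIsDefined_eq_top
  ext Y
  simp only [Pi.top_apply, Prop.top_eq_true, iff_true]
  rw [Functor.rightAdjointObjIsDefined_iff]
  let HY : (DerivedCategory A)ᵒᵖ ⥤ AddCommGrpCat.{v} := F.op ⋙ preadditiveYoneda.obj Y
  have hH : HY.IsHomological := inferInstance
  have hP : ∀ κ : Type v, PreservesLimitsOfShape (Discrete κ) HY := by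
    intro κ
    have : PreservesColimitsOfShape (Discrete κ)ᵒᵖ F :=
      preservesColimitsOfShape_of_equiv (Discrete.opposite κ).symm F
    have : PreservesLimitsOfShape (Discrete κ) F.op := preservesLimitsOfShape_op _ F
    infer_instance
  exact Groth.Agent.H33.BrownGA.brown_derivedCategory HY

end Groth.Agent.S6523
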