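import Groth.Statements.S6554
import Groth.Agent.H20.EtaleAtStalk
import Groth.Agent.H20.UnramAtStalk
import Groth.Agent.H25.EtaleStalk

set_option autoImplicit false
universe u
open CategoryTheory CategoryTheory.Limits AlgebraicGeometry
open Curves

namespace Groth.Agent.S6554

/-- (3) ⇔ (4) ⇔ (5): let k be a field and f : X → Y a morphism over k of smooth curves over k (integral,
separated, of finite type and smooth over k, of dimension one) which is nonconstant: f(ξ_X) = ξ_Y
for the generic points ξ_X of X and ξ_Y of Y (hypothesis e), so that the function field k(Y) maps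
into k(X). Then: some nonempty open U ⊆ X has f|_U unramified if and only if some nonempty open U ⊆
X has f|_U étale; and the latter holds if and only if k(X)/k(Y) is a finite separable extension.
(The published statement also lists two further equivalent conditions, that df : f^*Ω_{Y/k} →
Ω_{X/k} is nonzero and that Ω_{X/Y} is supported on a proper closed subset; this row omits them. For
a constant f every condition stated here fails, so assuming f nonconstant loses nothing.) -/
theorem result (k : Type u) [Field k]
    (X Y : Scheme.{u}) [X.Over (Spec (CommRingCat.of k))] [Y.Over (Spec (CommRingCat.of k))]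
    [IsIntegral X] [IsSeparated (X ↘ (Spec (CommRingCat.of k)))] [LocallyOfFiniteType (X ↘ (Spec (CommRingCat.of k)))] [QuasiCompact (X ↘ (Spec (CommRingCat.of k)))] (hdX : topologicalKrullDim X = 1) [Smooth (X ↘ (Spec (CommRingCat.of k)))]
    [IsIntegral Y] [IsSeparated (Y ↘ (Spec (CommRingCat.of k)))] [LocallyOfFiniteType (Y ↘ (Spec (CommRingCat.of k)))] [QuasiCompact (Y ↘ (Spec (CommRingCat.of k)))] (hdY : topologicalKrullDim Y = 1) [Smooth (Y ↘ (Spec (CommRingCat.of k)))]
    (f : X ⟶ Y) (hf : f ≫ (Y ↘ (Spec (CommRingCat.of k))) = X ↘ (Spec (CommRingCat.of k))) (e : f (genericPoint X) = genericPoint Y) :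
    letI := ((Y.presheaf.stalkSpecializes (specializes_of_eq e) ≫ f.stalkMap (genericPoint X)).hom).toAlgebra
    ((∃ U : X.Opens, (U : Set X).Nonempty ∧ FormallyUnramified (U.ι ≫ f)) ↔
      (∃ U : X.Opens, (U : Set X).Nonempty ∧ Etale (U.ι ≫ f))) ∧
    ((∃ U : X.Opens, (U : Set X).Nonempty ∧ Etale (U.ι ≫ f)) ↔
      (FiniteDimensional Y.functionField X.functionField ∧ Algebra.IsSeparable Y.functionField X.functionField)) := by
  letI algKL : Algebra Y.functionField X.functionField :=
    ((Y.presheaf.stalkSpecializes (specializes_of_eq e) ≫ f.stalkMap (genericPoint X)).hom).toAlgebra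
  haveI hLFT : LocallyOfFiniteType f := by
    haveI : LocallyOfFiniteType (f ≫ (Y ↘ (Spec (CommRingCat.of k)))) := hf ▸ inferInstance
    exact locallyOfFiniteType_of_comp f (Y ↘ (Spec (CommRingCat.of k)))
  haveI : IsLocallyNoetherian Y :=
    LocallyOfFiniteType.isLocallyNoetherian (Y ↘ (Spec (CommRingCat.of k)))
  haveI hLFP : LocallyOfFinitePresentation f :=
    LocallyOfFinitePresentation.iff_locallyOfFiniteType.mpr inferInstance
  set ξ := genericPoint X with hξ
  let σ : Y.functionField ⟶ Y.presheaf.stalk (f ξ) :=
    Y.presheaf.stalkSpecializes (specializes_of_eq e)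
  haveI : IsIso σ :=
    (inferInstance : IsIso (Y.presheaf.stalkCongr (Inseparable.of_eq e.symm)).hom)
  have hmem : ∀ U : X.Opens, (U : Set X).Nonempty → ξ ∈ U := by
    intro U hU
    exact ((genericPoint_spec X).mem_open_set_iff U.2).mpr (by simpa using hU)
  have hflat : (f.stalkMap ξ).hom.Flat := by
    refine (RingHom.Flat.respectsIso.cancel_left_isIso σ (f.stalkMap ξ)).mp ?_
    show Module.Flat Y.functionField X.functionField
    infer_instance
  have hunr_iff : (f.stalkMap ξ).hom.FormallyUnramified ↔
      Algebra.FormallyUnramified Y.functionField X.functionField :=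
    (RingHom.FormallyUnramified.respectsIso.cancel_left_isIso σ (f.stalkMap ξ)).symm
  have het_iff : (f.stalkMap ξ).hom.FormallyEtale ↔
      Algebra.FormallyEtale Y.functionField X.functionField :=
    (Groth.Agent.H25.EtaleStalk.formallyEtale_respectsIso.cancel_left_isIso σ
      (f.stalkMap ξ)).symm
  haveI heft : Algebra.EssFiniteType Y.functionField X.functionField :=
    (RingHom.EssFiniteType.respectsIso.cancel_left_isIso σ (f.stalkMap ξ)).mpr
      (LocallyOfFiniteType.stalkMap f ξ)
  have key : (f.stalkMap ξ).hom.FormallyUnramified →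
      ∃ U : X.Opens, (U : Set X).Nonempty ∧ Etale (U.ι ≫ f) := by
    intro hunr
    obtain ⟨V, hV, hVe⟩ :=
      Groth.Agent.H20.exists_etale_nhd_of_flat_of_formallyUnramified_stalkMap f ξ
        hflat hunr
    exact ⟨V, ⟨ξ, hV⟩, hVe⟩
  refine ⟨⟨?_, ?_⟩, ⟨?_, ?_⟩⟩
  · rintro ⟨U, hU, hUu⟩
    exact key ((Groth.Agent.H20.exists_formallyUnramified_nhd_iff_stalkMap f ξ).mp
      ⟨U, hmem U hU, hUu⟩)
  · rintro ⟨U, hU, hUe⟩
    exact ⟨U, hU, inferInstance⟩
  · rintro ⟨U, hU, hUe⟩
    have h1 : (f.stalkMap ξ).hom.FormallyEtale :=
      Groth.Agent.H25.EtaleStalk.formallyEtale_stalkMap_of_etale_nhd f ξ U (hmem U hU)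
    haveI : Algebra.FormallyEtale Y.functionField X.functionField := het_iff.mp h1
    exact ⟨Algebra.FormallyUnramified.finite_of_free Y.functionField X.functionField,
      Algebra.FormallyUnramified.isSeparable Y.functionField X.functionField⟩
  · rintro ⟨hfin, hsep⟩
    haveI : Algebra.FormallyUnramified Y.functionField X.functionField :=
      Algebra.FormallyUnramified.of_isSeparable Y.functionField X.functionField
    exact key (hunr_iff.mpr inferInstance)


end Groth.Agent.S6554
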