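import Groth.Statements.S6555
import Groth.Agent.H11.UnifDiff
import Groth.Agent.H11.FtChart

set_option autoImplicit false
universe u
open CategoryTheory CategoryTheory.Limits AlgebraicGeometry
attribute [local instance] Curv2.resAlgebra Curv2.stalkAlgebra
open Curves

namespace Groth.Agent.S6555

/-- Let X be a scheme over the field k and x ∈ X a closed point near which X → Spec k is smooth of
relative dimension 1 (on some open neighbourhood of x), with κ(x)/k separable. If s is an
irreducible element of the local ring O_{X,x} (a discrete valuation ring, so s generates its maximal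
ideal), then Ω_{O_{X,x}/k}, which is the stalk of Ω_{X/k} at x, is free of rank one with basis d s:
the map a ↦ a · d s from O_{X,x} to Ω_{O_{X,x}/k} is bijective. -/
theorem result (k : Type u) [Field k] (X : Scheme.{u}) [X.Over (Spec (CommRingCat.of k))]
    (x : X) (hx : IsClosed ({x} : Set X))
    (hsm : ∃ U : X.Opens, x ∈ U ∧ SmoothOfRelativeDimension 1 (U.ι ≫ (X ↘ (Spec (CommRingCat.of k)))))
    (hsep : Algebra.IsSeparable k (X.residueField x))
    (s : X.presheaf.stalk x) (hs : Irreducible s) :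
    Function.Bijective (fun a : X.presheaf.stalk x => a • KaehlerDifferential.D k (X.presheaf.stalk x) s) := by
  obtain ⟨U, hxU, hsmU⟩ := hsm
  obtain ⟨U0, hU0, V', hV', hxV', e, hstd⟩ :=
    hsmU.exists_isStandardSmoothOfRelativeDimension ⟨x, hxU⟩
  have hU0top : U0 = ⊤ := by
    ext z
    simp only [TopologicalSpace.Opens.coe_top, Set.mem_univ, iff_true]
    have hz : z = (U.ι ≫ (X ↘ Spec (CommRingCat.of k))) ⟨x, hxU⟩ := Subsingleton.elim _ _
    rw [hz]
    exact e hxV'
  subst hU0top
  have hWaff : IsAffineOpen (U.ι ''ᵁ V') := hV'.image_of_isOpenImmersion U.ι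
  have hxW : x ∈ U.ι ''ᵁ V' := ⟨⟨x, hxU⟩, hxV', rfl⟩
  have hstd' : ((X ↘ Spec (CommRingCat.of k)).appLE ⊤ (U.ι ''ᵁ V') le_top).hom.IsStandardSmoothOfRelativeDimension 1 := by
    have h1 := Scheme.Hom.appLE_comp_appLE U.ι (X ↘ Spec (CommRingCat.of k)) ⊤ (U.ι ''ᵁ V') V' le_top
      (by rw [Scheme.Hom.preimage_image_eq])
    have h2 : U.ι.appLE (U.ι ''ᵁ V') V' (by rw [Scheme.Hom.preimage_image_eq]) = 𝟙 _ := by
      rw [Scheme.Opens.ι_appLE]
      exact X.presheaf.map_id _
    rw [h2] at h1
    have h1' := (Category.comp_id _).symm.trans h1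
    rw [h1']
    exact hstd
  letI := Groth.Agent.H11.FtChart.secAlgebra k X (U.ι ''ᵁ V')
  haveI : Algebra.IsStandardSmoothOfRelativeDimension 1 k Γ(X, U.ι ''ᵁ V') := by
    have h2 : (Groth.Agent.H11.FtChart.secMap k X (U.ι ''ᵁ V')).IsStandardSmoothOfRelativeDimension 1 := by
      rw [Groth.Agent.H11.FtChart.secMap_eq]
      exact (RingHom.isStandardSmoothOfRelativeDimension_respectsIso (n := 1)).2 _
        (Scheme.ΓSpecIso (CommRingCat.of k)).symm.commRingCatIsoToRingEquiv hstd'
    exact h2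
  letI algA := X.presheaf.algebra_section_stalk ⟨x, hxW⟩
  haveI := hWaff.isLocalization_stalk ⟨x, hxW⟩
  haveI : IsScalarTower k Γ(X, U.ι ''ᵁ V') (X.presheaf.stalk x) := by
    refine IsScalarTower.of_algebraMap_eq fun c => ?_
    change (X.presheaf.germ ⊤ x trivial).hom (Coh.toGlobal (X ↘ Spec (CommRingCat.of k)) c) =
      (X.presheaf.germ (U.ι ''ᵁ V') x hxW).hom ((X.presheaf.map (homOfLE (le_top : U.ι ''ᵁ V' ≤ ⊤)).op).hom
        (Coh.toGlobal (X ↘ Spec (CommRingCat.of k)) c))
    exact (TopCat.Presheaf.germ_res_apply X.presheaf (homOfLE (le_top : U.ι ''ᵁ V' ≤ ⊤)) x hxW _).symm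
  letI : Algebra k (IsLocalRing.ResidueField (X.presheaf.stalk x)) := Curv2.resAlgebra k X x
  haveI : IsScalarTower k (X.presheaf.stalk x) (IsLocalRing.ResidueField (X.presheaf.stalk x)) :=
    IsScalarTower.of_algebraMap_eq fun c => rfl
  haveI : Algebra.IsSeparable k (IsLocalRing.ResidueField (X.presheaf.stalk x)) := hsep
  exact Groth.Agent.H11.UnifDiff.bijective_smul_D_of_localization k Γ(X, U.ι ''ᵁ V')
    (X.presheaf.stalk x) (hWaff.primeIdealOf ⟨x, hxW⟩).asIdeal s hs


end Groth.Agent.S6555
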