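import Groth.Statements.S6557
import Groth.Agent.H11.DimFormula
import Groth.Agent.H54.FlatDedekind
import Groth.Agent.H25.SmoothFlatTarget
import Groth.Agent.H14.SerreNormal

set_option autoImplicit false
universe u
open CategoryTheory CategoryTheory.Limits AlgebraicGeometry
open Curves

namespace Groth.Agent.S6557

/-- Let k be a field and f : X → Y a surjective morphism over k of curves over k (integral, separated,
of finite type over k, of dimension one). If X is smooth over k and every local ring of Y is an
integrally closed domain, then Y is also smooth over k. -/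
theorem result (k : Type u) [Field k]
    (X Y : Scheme.{u}) [X.Over (Spec (CommRingCat.of k))] [Y.Over (Spec (CommRingCat.of k))]
    [IsIntegral X] [IsSeparated (X ↘ (Spec (CommRingCat.of k)))] [LocallyOfFiniteType (X ↘ (Spec (CommRingCat.of k)))] [QuasiCompact (X ↘ (Spec (CommRingCat.of k)))] (hdX : topologicalKrullDim X = 1) [IsIntegral Y] [IsSeparated (Y ↘ (Spec (CommRingCat.of k)))] [LocallyOfFiniteType (Y ↘ (Spec (CommRingCat.of k)))] [QuasiCompact (Y ↘ (Spec (CommRingCat.of k)))] (hdY : topologicalKrullDim Y = 1)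
    (f : X ⟶ Y) (hf : f ≫ (Y ↘ (Spec (CommRingCat.of k))) = X ↘ (Spec (CommRingCat.of k))) [Surjective f]
    [Smooth (X ↘ (Spec (CommRingCat.of k)))] (hY : Pi1.IsNormalScheme Y) :
    Smooth (Y ↘ (Spec (CommRingCat.of k))) := by
  haveI : IsLocallyNoetherian Y :=
    LocallyOfFiniteType.isLocallyNoetherian (Y ↘ Spec (CommRingCat.of k))
  have hreg : ∀ y : Y, IsRegularLocalRing (Y.presheaf.stalk y) := by
    intro y
    haveI := (hY y).1
    haveI := (hY y).2
    haveI : IsNoetherianRing (Y.presheaf.stalk y) := inferInstance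
    obtain ⟨a, ha⟩ := Groth.Agent.H11.DimFormula.exists_nat_trdeg_eq k Y y
    obtain ⟨b, hb⟩ := Groth.Agent.H72.FlatCM.exists_ringKrullDim_eq_natCast (Y.presheaf.stalk y)
    have h1 := Groth.Agent.S1621.result k Y y a b ha hb
    have h2 : FlatMor.localDim Y y ≤ 1 := by
      rw [← hdY]
      exact Groth.Agent.H17.Chev.localDim_le_dim y
    rw [h1] at h2
    have h3 : a + b ≤ 1 := by exact_mod_cast h2
    refine Groth.Agent.H14.isRegularLocalRing_of_isIntegrallyClosed_of_dim_le_one _ ?_
    have h4 : ((IsLocalRing.maximalIdeal (Y.presheaf.stalk y)).height : WithBot ℕ∞) = b := by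
      rw [IsLocalRing.maximalIdeal_height_eq_ringKrullDim, hb]
    have h5 : (IsLocalRing.maximalIdeal (Y.presheaf.stalk y)).height = (b : ℕ∞) := by
      exact_mod_cast h4
    rw [h5]
    have : b ≤ 1 := by omega
    exact_mod_cast this
  haveI hflat : Flat f := by
    rw [Groth.Agent.H54.FD.flat_iff_dominant f hreg hdY.le]
    intro Z hZ
    rw [irreducibleComponents_eq_singleton, Set.mem_singleton_iff] at hZ
    rw [hZ, Set.image_univ]
    exact (Surjective.surj (f := f)).denseRange
  haveI : LocallyOfFinitePresentation (Y ↘ Spec (CommRingCat.of k)) := inferInstance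
  haveI : LocallyOfFinitePresentation (f ≫ (Y ↘ Spec (CommRingCat.of k))) := by
    rw [hf]
    infer_instance
  rw [← Scheme.Hom.smoothLocus_eq_top_iff, ← top_le_iff]
  rintro y -
  obtain ⟨x, rfl⟩ := Surjective.surj (f := f) y
  refine Groth.Agent.H25.SmoothFlatTarget.mem_smoothLocus_of_flat_source
    (Y ↘ Spec (CommRingCat.of k)) f x (Flat.stalkMap f x) ?_
  have htop : (f ≫ (Y ↘ Spec (CommRingCat.of k))).smoothLocus = ⊤ := by
    haveI : Smooth (f ≫ (Y ↘ Spec (CommRingCat.of k))) := by
      rw [hf]
      infer_instance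
    exact Scheme.Hom.smoothLocus_eq_top _
  rw [htop]
  trivial


end Groth.Agent.S6557
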