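import Groth.Statements.S6564


set_option autoImplicit false
universe u
open CategoryTheory CategoryTheory.Limits AlgebraicGeometry
open Curves

namespace Groth.Agent.S6564

/-- Let X be proper over the field k of dimension at most 1. If X has a g^r_d (an invertible module L of
degree d with an ordered family of r + 1 global sections linearly independent over k), then X has a
g^s_d for every 0 ≤ s ≤ r. -/
theorem result (k : Type u) [Field k] (X : Scheme.{u}) [X.Over (Spec (CommRingCat.of k))] [IsProper (X ↘ (Spec (CommRingCat.of k)))] (hdim : topologicalKrullDim X ≤ 1)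
    (d r : ℕ) (L : X.Modules) (σ : Fin (r + 1) → LinSer.Sect X L) (hL : LinSer.IsLinSer k X L d r σ)
    (s : ℕ) (hs : s ≤ r) :
    ∃ (L' : X.Modules) (τ : Fin (s + 1) → LinSer.Sect X L'), LinSer.IsLinSer k X L' d s τ := by
  classical
  obtain ⟨hinv, hdeg, hli⟩ := hL
  have hsr : s + 1 ≤ r + 1 := by omega
  refine ⟨L, fun i => σ (Fin.castLE hsr i), hinv, hdeg, ?_⟩
  intro c hc
  let c' : Fin (r + 1) → k := fun j => if h : (j : ℕ) < s + 1 then c ⟨j, h⟩ else 0
  have hc'1 : ∀ i : Fin (s + 1), c' (Fin.castLE hsr i) = c i := by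
    intro i
    have hi2 : ((Fin.castLE hsr i : Fin (r + 1)) : ℕ) < s + 1 := i.2
    show (if h : ((Fin.castLE hsr i : Fin (r + 1)) : ℕ) < s + 1 then c ⟨_, h⟩ else 0) = c i
    rw [dif_pos hi2]
    rfl
  have hc'2 : ∀ j : Fin (r + 1), ¬ ((j : ℕ) < s + 1) → c' j = 0 := by
    intro j hj
    show (if h : (j : ℕ) < s + 1 then c ⟨j, h⟩ else 0) = 0
    rw [dif_neg hj]
  have key : (∑ j, (Coh.toGlobal (X ↘ Spec (CommRingCat.of k)) (c' j)) • σ j) = 0 := by
    rw [← hc]
    symm
    have h1 : (∑ i : Fin (s + 1), (Coh.toGlobal (X ↘ Spec (CommRingCat.of k)) (c i)) • σ (Fin.castLE hsr i))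
        = ∑ j ∈ (Finset.univ : Finset (Fin (s + 1))).map (Fin.castLEEmb hsr),
            (Coh.toGlobal (X ↘ Spec (CommRingCat.of k)) (c' j)) • σ j := by
      rw [Finset.sum_map]
      refine Finset.sum_congr rfl fun i _ => ?_
      have : c' (Fin.castLEEmb hsr i) = c i := hc'1 i
      rw [this]
      rfl
    refine h1.trans ?_
    refine Finset.sum_subset (Finset.subset_univ _) fun j _ hj => ?_
    have hj' : ¬ ((j : ℕ) < s + 1) := by
      intro h
      apply hj
      rw [Finset.mem_map]
      exact ⟨⟨j, h⟩, Finset.mem_univ _, Fin.ext rfl⟩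
    rw [hc'2 j hj', map_zero, zero_smul]
  have := hli c' key
  funext i
  have hi := congrFun this (Fin.castLE hsr i)
  rw [hc'1 i] at hi
  exact hi

end Groth.Agent.S6564
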