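import Groth.Statements.S6580
import Mathlib.Tactic.NoncommRing

set_option autoImplicit false
universe v u
open CategoryTheory CategoryTheory.Limits
open CohDer

namespace Groth.Agent.S6580

open CategoryTheory.Pretriangulated in
/-- Let (X, Y, Z, f, g, h) be a distinguished triangle of a pretriangulated category, and let a : X ⟶ X
and c : Z ⟶ Z be idempotents with h ≫ a⟦1⟧ = c ≫ h. Then there is an idempotent b : Y ⟶ Y such that
(a, b, c) is an endomorphism of the triangle. -/
theorem result {D : Type u} [Category.{v} D] [Preadditive D] [HasZeroObject D] [HasShift D ℤ]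
    [∀ n : ℤ, (shiftFunctor D n).Additive] [Pretriangulated D]
    (T : Triangle D) (hT : T ∈ distinguishedTriangles) (a : T.obj₁ ⟶ T.obj₁) (c : T.obj₃ ⟶ T.obj₃)
    (ha : a ≫ a = a) (hc : c ≫ c = c) (comm : T.mor₃ ≫ (shiftFunctor D (1 : ℤ)).map a = c ≫ T.mor₃) :
    ∃ b : T.obj₂ ⟶ T.obj₂, b ≫ b = b ∧ T.mor₁ ≫ b = a ≫ T.mor₁ ∧ T.mor₂ ≫ c = b ≫ T.mor₂ := by
  obtain ⟨x, hx₁, hx₂⟩ := complete_distinguished_triangle_morphism₂ T T hT hT a c comm
  have hfe : T.mor₁ ≫ (x ≫ x - x) = 0 := by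
    rw [Preadditive.comp_sub, ← Category.assoc, hx₁, Category.assoc, hx₁, ← Category.assoc, ha,
      sub_self]
  have heg : (x ≫ x - x) ≫ T.mor₂ = 0 := by
    rw [Preadditive.sub_comp, Category.assoc, ← hx₂, ← Category.assoc, ← hx₂, Category.assoc, hc,
      sub_self]
  obtain ⟨k, hk⟩ := Triangle.coyoneda_exact₂ T hT (x ≫ x - x) heg
  have hee : (x ≫ x - x) ≫ (x ≫ x - x) = 0 := by
    have : (x ≫ x - x) ≫ (x ≫ x - x) = k ≫ (T.mor₁ ≫ (x ≫ x - x)) := by
      rw [← Category.assoc, ← hk]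
    rw [this, hfe, comp_zero]
  let X : End T.obj₂ := x
  have hE : (X * X - X) * (X * X - X) = 0 := hee
  let B : End T.obj₂ := X + (X * X - X) - (X * (X * X - X) + X * (X * X - X))
  have hB : B * B = B := by
    have h1 : B * B - B = (X * X - X) * (X * X - X) * (4 * (X * X) - 4 * X - 3) := by
      simp only [B]
      noncomm_ring
    rw [hE, zero_mul, sub_eq_zero] at h1
    exact h1
  have hB' : B = x + (x ≫ x - x) - ((x ≫ x - x) ≫ x + (x ≫ x - x) ≫ x) := rfl
  refine ⟨B, hB, ?_, ?_⟩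
  · rw [hB', Preadditive.comp_sub, Preadditive.comp_add, Preadditive.comp_add,
      ← Category.assoc T.mor₁, hfe, zero_comp, hx₁, add_zero, add_zero, sub_zero]
  · rw [hB', Preadditive.sub_comp, Preadditive.add_comp, Preadditive.add_comp, heg, ← hx₂,
      add_zero, Category.assoc, ← hx₂, ← Category.assoc, heg, zero_comp, add_zero, sub_zero]

end Groth.Agent.S6580
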