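import Groth.Statements.S6581
import Groth.Agent.H33.CoprodTriangle
import Groth.Agent.H33.RetractTriangle

set_option autoImplicit false
universe v u
open CategoryTheory CategoryTheory.Limits
open CohDer

namespace Groth.Agent.S6581

set_option backward.defeqAttrib.useBackward true in
set_option backward.isDefEq.respectTransparency false in
open CategoryTheory.Pretriangulated in
/-- Let T = (X, Y, Z, f, g, h) and T' = (X', Y', Z', f', g', h') be triangles in a pretriangulated
category. The direct sum triangle (X ⊞ X', Y ⊞ Y', Z ⊞ Z', f ⊕ f', g ⊕ g', h ⊕ h') (whose third map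
Z ⊞ Z' ⟶ (X ⊞ X')⟦1⟧ has components h ≫ inl⟦1⟧ and h' ≫ inr⟦1⟧) is distinguished if and only if T
and T' are both distinguished. -/
theorem result {D : Type u} [Category.{v} D] [Preadditive D] [HasZeroObject D] [HasShift D ℤ]
    [∀ n : ℤ, (shiftFunctor D n).Additive] [Pretriangulated D]
    (T T' : Triangle D) :
    Triangle.mk (biprod.map T.mor₁ T'.mor₁) (biprod.map T.mor₂ T'.mor₂)
        (biprod.desc (T.mor₃ ≫ (shiftFunctor D (1 : ℤ)).map biprod.inl) (T'.mor₃ ≫ (shiftFunctor D (1 : ℤ)).map biprod.inr)) ∈ distinguishedTriangles ↔
      (T ∈ distinguishedTriangles ∧ T' ∈ distinguishedTriangles) := by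
  constructor
  · intro hB
    constructor
    · -- T is a retract of the biproduct triangle
      refine Groth.Agent.H33.distinguished_of_retract T _ hB
        { hom₁ := biprod.inl, hom₂ := biprod.inl, hom₃ := biprod.inl
          comm₁ := by simp
          comm₂ := by simp
          comm₃ := by simp }
        { hom₁ := biprod.fst, hom₂ := biprod.fst, hom₃ := biprod.fst
          comm₁ := by simp
          comm₂ := by simp
          comm₃ := by
            apply biprod.hom_ext'
            · simp [← Functor.map_comp]
            · simp [← Functor.map_comp] } ?_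
      ext <;> simp
    · refine Groth.Agent.H33.distinguished_of_retract T' _ hB
        { hom₁ := biprod.inr, hom₂ := biprod.inr, hom₃ := biprod.inr
          comm₁ := by simp
          comm₂ := by simp
          comm₃ := by simp }
        { hom₁ := biprod.snd, hom₂ := biprod.snd, hom₃ := biprod.snd
          comm₁ := by simp
          comm₂ := by simp
          comm₃ := by
            apply biprod.hom_ext'
            · simp [← Functor.map_comp]
            · simp [← Functor.map_comp] } ?_
      ext <;> simp
  · rintro ⟨hT, hT'⟩
    let TT : WalkingPair → Triangle D := fun j => WalkingPair.casesOn j T T'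
    have hTT : ∀ j, TT j ∈ distinguishedTriangles := by
      rintro (_ | _)
      · exact hT
      · exact hT'
    have hcolim : ∀ (F : WalkingPair → D),
        IsColimit (Cofan.mk (F WalkingPair.left ⊞ F WalkingPair.right) (fun j : WalkingPair =>
          (WalkingPair.casesOn (motive := fun j => F j ⟶ F WalkingPair.left ⊞ F WalkingPair.right) j
            biprod.inl biprod.inr))) := by
      intro F
      refine Cofan.IsColimit.mk _
        (fun t => biprod.desc (t.inj WalkingPair.left) (t.inj WalkingPair.right)) ?_ ?_
      · rintro t (_ | _)
        · simp [Cofan.inj]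
        · simp [Cofan.inj]
      · intro t m hm
        apply biprod.hom_ext'
        · simpa [Cofan.inj] using hm WalkingPair.left
        · simpa [Cofan.inj] using hm WalkingPair.right
    refine Groth.Agent.H33.coproduct_distinguished TT hTT _ _ _
      (hcolim (fun j => (TT j).obj₁)) (hcolim (fun j => (TT j).obj₂))
      (hcolim (fun j => (TT j).obj₃)) _ _ _ ?_ ?_ ?_
    · rintro (_ | _)
      · simp [TT]
      · simp [TT]
    · rintro (_ | _)
      · simp [TT]
      · simp [TT]
    · rintro (_ | _)
      · simp [TT]
      · simp [TT]

end Groth.Agent.S6581
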