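import Groth.Statements.S6582

set_option autoImplicit false
universe v u v' u'
open CategoryTheory CategoryTheory.Limits
open CohDer

namespace Groth.Agent.S6582

open CategoryTheory.Pretriangulated in
/-- Let F : D ⥤ D' be an exact functor of pretriangulated categories. The full subcategory of D on the
objects X with F(X) ≅ 0 is a strictly full pretriangulated subcategory (it contains a zero object,
is stable under shifts and isomorphisms and is closed under extensions) and it is saturated:
whenever X ⊞ Y belongs to it, so do X and Y. -/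
theorem result {D : Type u} [Category.{v} D] [Preadditive D] [HasZeroObject D] [HasShift D ℤ]
    [∀ n : ℤ, (shiftFunctor D n).Additive] [Pretriangulated D]
    {D' : Type u'} [Category.{v'} D'] [Preadditive D'] [HasZeroObject D'] [HasShift D' ℤ]
    [∀ n : ℤ, (shiftFunctor D' n).Additive] [Pretriangulated D']
    (F : D ⥤ D') [F.Additive] [F.CommShift ℤ] [F.IsTriangulated] :
    (ObjectProperty.IsTriangulated (fun X : D => IsZero (F.obj X))) ∧
    (ObjectProperty.IsClosedUnderIsomorphisms (fun X : D => IsZero (F.obj X))) ∧
    (∀ X Y : D, IsZero (F.obj (X ⊞ Y)) → IsZero (F.obj X) ∧ IsZero (F.obj Y)) := by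
  have hiso : ObjectProperty.IsClosedUnderIsomorphisms (fun X : D => IsZero (F.obj X)) :=
    ⟨fun e hX => hX.of_iso (F.mapIso e.symm)⟩
  refine ⟨?_, hiso, ?_⟩
  · exact
    { exists_zero := ⟨_, isZero_zero D, F.map_isZero (isZero_zero D)⟩
      toIsStableUnderShift := ⟨fun a => ⟨fun X hX => by
        have hX' : IsZero (F.obj X) := hX
        change IsZero (F.obj ((shiftFunctor D a).obj X))
        exact ((shiftFunctor D' a).map_isZero hX').of_iso ((F.commShiftIso a).app X)⟩⟩
      toIsTriangulatedClosed₂ :=
        ObjectProperty.IsTriangulatedClosed₂.mk' (fun T hT h₁ h₃ => by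
          have hT' := F.map_distinguished T hT
          exact Triangle.isZero₂_of_isZero₁₃ _ hT' h₁ h₃) }
  · intro X Y h
    constructor
    · rw [IsZero.iff_id_eq_zero, ← F.map_id, ← biprod.inl_fst (X := X) (Y := Y), F.map_comp,
        h.eq_of_tgt (F.map biprod.inl) 0, zero_comp]
    · rw [IsZero.iff_id_eq_zero, ← F.map_id, ← biprod.inr_snd (X := X) (Y := Y), F.map_comp,
        h.eq_of_tgt (F.map biprod.inr) 0, zero_comp]

end Groth.Agent.S6582
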