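import Groth.Statements.S6583

set_option autoImplicit false
universe v u v' u'
open CategoryTheory CategoryTheory.Limits
open CohDer

namespace Groth.Agent.S6583

open CategoryTheory.Pretriangulated in
/-- Let H : D ⥤ A be a homological functor from a pretriangulated category to an abelian category. The
full subcategory of D on the objects X with H(X⟦n⟧) = 0 for all n ≪ 0 is a strictly full
pretriangulated subcategory (zero object, stable under shifts and isomorphisms, closed under
extensions) and is saturated: if X ⊞ Y belongs to it then so do X and Y. -/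
theorem result {D : Type u} [Category.{v} D] [Preadditive D] [HasZeroObject D] [HasShift D ℤ]
    [∀ n : ℤ, (shiftFunctor D n).Additive] [Pretriangulated D]
    {A : Type u'} [Category.{v'} A] [Abelian A] (H : D ⥤ A) [H.IsHomological] :
    (ObjectProperty.IsTriangulated (fun X : D => ∃ N : ℤ, ∀ n : ℤ, n ≤ N → IsZero (H.obj ((shiftFunctor D n).obj X)))) ∧
    (ObjectProperty.IsClosedUnderIsomorphisms (fun X : D => ∃ N : ℤ, ∀ n : ℤ, n ≤ N → IsZero (H.obj ((shiftFunctor D n).obj X)))) ∧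
    (∀ X Y : D, (∃ N : ℤ, ∀ n : ℤ, n ≤ N → IsZero (H.obj ((shiftFunctor D n).obj (X ⊞ Y)))) →
      (∃ N : ℤ, ∀ n : ℤ, n ≤ N → IsZero (H.obj ((shiftFunctor D n).obj X))) ∧
      (∃ N : ℤ, ∀ n : ℤ, n ≤ N → IsZero (H.obj ((shiftFunctor D n).obj Y)))) := by
  have hiso : ObjectProperty.IsClosedUnderIsomorphisms
      (fun X : D => ∃ N : ℤ, ∀ n : ℤ, n ≤ N → IsZero (H.obj ((shiftFunctor D n).obj X))) :=
    ⟨fun e ⟨N, hN⟩ => ⟨N, fun n hn => (hN n hn).of_iso ((shiftFunctor D n ⋙ H).mapIso e.symm)⟩⟩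
  refine ⟨?_, hiso, ?_⟩
  · exact
    { exists_zero := ⟨_, isZero_zero D, 0, fun n _ =>
        (shiftFunctor D n ⋙ H).map_isZero (isZero_zero D)⟩
      toIsStableUnderShift := ⟨fun a => ⟨fun X ⟨N, hN⟩ => ⟨N - a, fun n hn =>
        (hN (a + n) (by omega)).of_iso (H.mapIso ((shiftFunctorAdd D a n).app X).symm)⟩⟩⟩
      toIsTriangulatedClosed₂ :=
        ObjectProperty.IsTriangulatedClosed₂.mk' (fun T hT ⟨N₁, h₁⟩ ⟨N₃, h₃⟩ =>
          ⟨min N₁ N₃, fun n hn =>
            (H.map_distinguished_exact _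
              (Triangle.shift_distinguished T hT n)).isZero_of_both_zeros
                ((h₁ n (hn.trans (min_le_left _ _))).eq_of_src _ _)
                ((h₃ n (hn.trans (min_le_right _ _))).eq_of_tgt _ _)⟩) }
  · have key : ∀ (G : D ⥤ A) (X Y : D), IsZero (G.obj (X ⊞ Y)) →
        IsZero (G.obj X) ∧ IsZero (G.obj Y) := by
      intro G X Y h
      constructor
      · rw [IsZero.iff_id_eq_zero, ← G.map_id, ← biprod.inl_fst (X := X) (Y := Y), G.map_comp,
          h.eq_of_tgt (G.map biprod.inl) 0, zero_comp]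
      · rw [IsZero.iff_id_eq_zero, ← G.map_id, ← biprod.inr_snd (X := X) (Y := Y), G.map_comp,
          h.eq_of_tgt (G.map biprod.inr) 0, zero_comp]
    rintro X Y ⟨N, hN⟩
    exact ⟨⟨N, fun n hn => (key (shiftFunctor D n ⋙ H) X Y (hN n hn)).1⟩,
      ⟨N, fun n hn => (key (shiftFunctor D n ⋙ H) X Y (hN n hn)).2⟩⟩

end Groth.Agent.S6583
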