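import Groth.Statements.S6585
import Mathlib.CategoryTheory.Triangulated.Orthogonal

set_option autoImplicit false
universe v u
open CategoryTheory CategoryTheory.Limits
open CohDer

namespace Groth.Agent.S6585

open CategoryTheory.Pretriangulated in
/-- Let D be a triangulated category and E, K objects of D. Then Hom(E, K⟦i⟧) = 0 for all integers i if
and only if Hom(E', K) = 0 for every E' in ⟨E⟩, the smallest strictly full saturated triangulated
subcategory of D containing E (the objects obtained from E by shifts, finite direct sums, direct
summands and extensions). -/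
theorem result {D : Type u} [Category.{v} D] [Preadditive D] [HasZeroObject D] [HasShift D ℤ]
    [∀ n : ℤ, (shiftFunctor D n).Additive] [Pretriangulated D] [IsTriangulated D]
    (E K : D) :
    (∀ (i : ℤ) (f : E ⟶ (shiftFunctor D i).obj K), f = 0) ↔
      ∀ (E' : D), (ObjectProperty.singleton E).triangEnvelope E' → ∀ f : E' ⟶ K, f = 0 := by
  let Q : ObjectProperty D := ((ObjectProperty.singleton K).shiftClosure ℤ).leftOrthogonal
  have hQr : Q.IsStableUnderRetracts := ⟨fun {X Y} r hY Z f hZ => by
    have : f = r.i ≫ (r.r ≫ f) := by rw [← Category.assoc, r.retract, Category.id_comp]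
    rw [this, hY (r.r ≫ f) hZ, comp_zero]⟩
  have hQt : Q.IsTriangulated := inferInstance
  constructor
  · intro h E' hE' f
    have hle : ObjectProperty.singleton E ≤ Q := by
      rw [ObjectProperty.singleton_le_iff]
      rintro Y f ⟨K', a, e, hK'⟩
      rw [ObjectProperty.singleton_iff] at hK'
      subst hK'
      rw [← cancel_mono e.hom, zero_comp]
      exact h a _
    have := (ObjectProperty.triangEnvelope_le_iff (P := ObjectProperty.singleton E) (Q := Q)).2 hle
    exact this E' hE' f (ObjectProperty.le_shiftClosure (A := ℤ) _ _ (by simp))
  · intro h i f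
    have hE : (ObjectProperty.singleton E).triangEnvelope ((shiftFunctor D (-i)).obj E) :=
      (ObjectProperty.singleton E).triangEnvelope.le_shift (-i) _
        (ObjectProperty.le_triangEnvelope _ _ (by simp))
    have h0 := h _ hE ((shiftFunctor D (-i)).map f ≫ (shiftFunctorCompIsoId D i (-i) (by simp)).hom.app K)
    have h1 : (shiftFunctor D (-i)).map f = 0 := by
      rw [← cancel_mono ((shiftFunctorCompIsoId D i (-i) (by simp)).hom.app K), h0, zero_comp]
    exact (shiftFunctor D (-i)).map_injective (by rw [h1, Functor.map_zero])

end Groth.Agent.S6585
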