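import Groth.Statements.S6587

set_option autoImplicit false
universe v u
open CategoryTheory CategoryTheory.Limits Opposite
open CohDer

namespace Groth.Agent.S6587

open CategoryTheory.Pretriangulated in
/-- Let D be a triangulated category and let X_n → Y_n → Z_n → X_n⟦1⟧ be an inverse system of
distinguished triangles of D indexed by ℕ (levelwise maps f, g, h of inverse systems, each level
distinguished). If the inverse system (Z_n) is pro-zero, then the levelwise map f : (X_n) → (Y_n) is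
a pro-isomorphism. -/
theorem result {D : Type u} [Category.{v} D] [Preadditive D] [HasZeroObject D] [HasShift D ℤ]
    [∀ n : ℤ, (shiftFunctor D n).Additive] [Pretriangulated D] [IsTriangulated D]
    (X Y Z : ARSys.PS D) (f : X ⟶ Y) (g : Y ⟶ Z) (h : Z ⟶ X ⋙ shiftFunctor D (1 : ℤ))
    (hT : ∀ n : ℕ, Triangle.mk (f.app (op n)) (g.app (op n)) (h.app (op n)) ∈ distinguishedTriangles)
    (hZ : DerCA.IsProZero Z) :
    DerCA.IsProIso f := by
  have natf : ∀ {n m : ℕ} (hnm : n ≤ m),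
      ARSys.tr X hnm ≫ f.app (op n) = f.app (op m) ≫ ARSys.tr Y hnm :=
    fun hnm => f.naturality (homOfLE hnm).op
  have natg : ∀ {n m : ℕ} (hnm : n ≤ m),
      ARSys.tr Y hnm ≫ g.app (op n) = g.app (op m) ≫ ARSys.tr Z hnm :=
    fun hnm => g.naturality (homOfLE hnm).op
  have nath : ∀ {n m : ℕ} (hnm : n ≤ m),
      ARSys.tr Z hnm ≫ h.app (op n) =
        h.app (op m) ≫ (shiftFunctor D (1 : ℤ)).map (ARSys.tr X hnm) :=
    fun hnm => h.naturality (homOfLE hnm).op
  -- the inverse-rotated first maps are compatible with transition maps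
  have hw : ∀ {n m : ℕ} (hnm : n ≤ m), ARSys.tr Z hnm = 0 →
      (Triangle.mk (f.app (op m)) (g.app (op m)) (h.app (op m))).invRotate.mor₁ ≫
        ARSys.tr X hnm = 0 := by
    intro n m hnm h0
    let φ : Triangle.mk (f.app (op m)) (g.app (op m)) (h.app (op m)) ⟶
      Triangle.mk (f.app (op n)) (g.app (op n)) (h.app (op n)) :=
      Triangle.homMk _ _ (ARSys.tr X hnm) (ARSys.tr Y hnm) (ARSys.tr Z hnm)
        (natf hnm).symm (natg hnm).symm (nath hnm).symm
    have h1 := ((invRotate D).map φ).comm₁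
    have h3 : ((invRotate D).map φ).hom₁ = 0 := by
      change (shiftFunctor D (-1 : ℤ)).map (ARSys.tr Z hnm) = 0
      rw [h0, Functor.map_zero]
    rw [h3, zero_comp] at h1
    exact h1
  -- key factorization
  have key : ∀ {n m : ℕ} (hnm : n ≤ m), ARSys.tr Z hnm = 0 →
      ∃ b : Y.obj (op m) ⟶ X.obj (op n), b ≫ f.app (op n) = ARSys.tr Y hnm := by
    intro n m hnm h0
    have h1 : ARSys.tr Y hnm ≫ g.app (op n) = 0 := by
      rw [natg hnm, h0, comp_zero]
    obtain ⟨b, hb⟩ := Triangle.coyoneda_exact₂ _ (hT n) _ h1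
    exact ⟨b, hb.symm⟩
  intro n
  obtain ⟨m₁, h₁, hz₁⟩ := hZ n
  obtain ⟨m₂, h₂, hz₂⟩ := hZ m₁
  obtain ⟨b₂, hb₂⟩ := key h₂ hz₂
  have hn2 : n ≤ m₂ := h₁.trans h₂
  have trX : ARSys.tr X h₂ ≫ ARSys.tr X h₁ = ARSys.tr X hn2 := by
    rw [← X.map_comp]; rfl
  have trY : ARSys.tr Y h₂ ≫ ARSys.tr Y h₁ = ARSys.tr Y hn2 := by
    rw [← Y.map_comp]; rfl
  refine ⟨m₂, hn2, b₂ ≫ ARSys.tr X h₁, ?_, ?_⟩
  · have hd : (f.app (op m₂) ≫ b₂ - ARSys.tr X h₂) ≫ f.app (op m₁) = 0 := by
      rw [Preadditive.sub_comp, Category.assoc, hb₂, natf h₂, sub_self]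
    obtain ⟨e, he⟩ := Triangle.coyoneda_exact₂ _ (inv_rot_of_distTriang _ (hT m₁)) _ hd
    have hd0 : (f.app (op m₂) ≫ b₂ - ARSys.tr X h₂) ≫ ARSys.tr X h₁ = 0 := by
      have := hw h₁ hz₁
      calc (f.app (op m₂) ≫ b₂ - ARSys.tr X h₂) ≫ ARSys.tr X h₁
          = e ≫ ((Triangle.mk (f.app (op m₁)) (g.app (op m₁)) (h.app (op m₁))).invRotate.mor₁ ≫
              ARSys.tr X h₁) := by rw [he]; exact Category.assoc _ _ _
        _ = 0 := by rw [this, comp_zero]
    rw [Preadditive.sub_comp, sub_eq_zero, Category.assoc, trX] at hd0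
    exact hd0
  · rw [Category.assoc, natf h₁, ← Category.assoc, hb₂]
    exact trY

end Groth.Agent.S6587
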