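import Groth.Statements.S6592
import Groth.Agent.H33.Hocolim

set_option autoImplicit false
universe v u
open CategoryTheory CategoryTheory.Limits
open DerLim

namespace Groth.Agent.S6592

/-- Let D be a triangulated category, (K_m, f_m) a system of objects of D indexed by ℕ (given as a
functor F : ℕ ⥤ D) and n₁ < n₂ < … a strictly increasing sequence. Assume ⨁ K_m and ⨁ K_{n_i} exist.
If L is a homotopy colimit of (K_m) and L' a homotopy colimit of the subsequence (K_{n_i}) (with the
composite transition maps), then there is an isomorphism L' ≅ L under which the structure map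
K_{n_i} ⟶ L' corresponds to K_{n_i} ⟶ L for every i. -/
theorem result {D : Type u} [Category.{v} D] [Preadditive D] [HasZeroObject D] [HasShift D ℤ]
    [∀ n : ℤ, (shiftFunctor D n).Additive] [Pretriangulated D] [IsTriangulated D]
    (F : ℕ ⥤ D) (n : ℕ → ℕ) (hn : StrictMono n)
    [HasCoproduct (fun m : ℕ => F.obj m)] [HasCoproduct (fun i : ℕ => F.obj (n i))]
    (L : D) (ι : ∀ m : ℕ, F.obj m ⟶ L)
    (hL : DerLim.IsHocolim (fun m : ℕ => F.obj m) (fun m : ℕ => F.map (homOfLE (Nat.le_succ m))) L ι)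
    (L' : D) (ι' : ∀ i : ℕ, F.obj (n i) ⟶ L')
    (hL' : DerLim.IsHocolim (fun i : ℕ => F.obj (n i)) (fun i : ℕ => F.map (homOfLE (hn.monotone (Nat.le_succ i)))) L' ι') :
    ∃ e : L' ≅ L, ∀ i : ℕ, ι' i ≫ e.hom = ι (n i) := by
  classical
  let tr : ∀ m k : ℕ, F.obj m ⟶ F.obj k := fun m k =>
    if h : m ≤ k then F.map (homOfLE h) else 0
  have htr : ∀ (m k : ℕ) (h : m ≤ k), tr m k = F.map (homOfLE h) := fun m k h => dif_pos h
  have hs : Groth.Agent.H33.Hocolim.IsSys (fun m => F.obj m) tr := by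
    refine ⟨fun m => ?_, fun m k l hmk hkl => ?_⟩
    · rw [htr m m le_rfl]
      exact F.map_id m
    · rw [htr m k hmk, htr k l hkl, htr m l (hmk.trans hkl), ← F.map_comp]
      rfl
  have e1 : (fun m : ℕ => F.map (homOfLE (Nat.le_succ m))) = fun m => tr m (m + 1) := by
    funext m
    rw [htr m (m + 1) (Nat.le_succ m)]
  have e2 : (fun i : ℕ => F.map (homOfLE (hn.monotone (Nat.le_succ i)))) =
      fun i => tr (n i) (n (i + 1)) := by
    funext i
    rw [htr (n i) (n (i + 1)) (hn.monotone (Nat.le_succ i))]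
  rw [e1] at hL
  rw [e2] at hL'
  exact Groth.Agent.H33.Hocolim.hocolim_subseq hs hn L ι hL L' ι' hL'

end Groth.Agent.S6592
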