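import Groth.Statements.S6594

set_option autoImplicit false
universe v u
open CategoryTheory CategoryTheory.Limits
open CohDer

namespace Groth.Agent.S6594

open CategoryTheory.Pretriangulated in
theorem split_of_mono {D : Type u} [Category.{v} D] [Preadditive D] [HasZeroObject D] [HasShift D ℤ]
    [∀ n : ℤ, (shiftFunctor D n).Additive] [Pretriangulated D]
    {K X : D} (k : K ⟶ X) [Mono k] :
    ∃ (Z : D) (p : X ⟶ Z) (e : X ≅ K ⊞ Z), k ≫ e.hom = biprod.inl ∧ p = e.hom ≫ biprod.snd ∧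
      ∀ {Y : D} (f : X ⟶ Y), k ≫ f = 0 → ∃ f' : Z ⟶ Y, f = p ≫ f' := by
  obtain ⟨Z, p, h, H₁⟩ := distinguished_cocone_triangle k
  have h0 : h = 0 := Triangle.mor₃_eq_zero_of_mono₁ _ H₁ (show Mono k from inferInstance)
  obtain ⟨e₁, he₁, he₁'⟩ := exists_iso_binaryBiproduct_of_distTriang _ H₁ h0
  exact ⟨Z, p, e₁, he₁, he₁', fun f hf => Triangle.yoneda_exact₂ _ H₁ f hf⟩

open CategoryTheory.Pretriangulated in
/-- (1) ⇔ (3): let D be a pretriangulated category and f : X ⟶ Y a morphism. Then f has a kernel if and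
only if f is isomorphic to a composite K ⊞ Z → Z → Z ⊞ Q of a projection and a coprojection for some
objects K, Z, Q. -/
theorem result {D : Type u} [Category.{v} D] [Preadditive D] [HasZeroObject D] [HasShift D ℤ]
    [∀ n : ℤ, (shiftFunctor D n).Additive] [Pretriangulated D]
    {X Y : D} (f : X ⟶ Y) :
    HasKernel f ↔ ∃ (K Z Q : D) (e₁ : X ≅ K ⊞ Z) (e₂ : Y ≅ Z ⊞ Q),
      f = e₁.hom ≫ biprod.snd ≫ biprod.inl ≫ e₂.inv := by
  constructor
  · intro hf
    obtain ⟨Z, p, e₁, he₁, he₁', hfac⟩ := split_of_mono (kernel.ι f)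
    obtain ⟨f', hf'⟩ := hfac f (kernel.condition f)
    have hp : biprod.inr ≫ e₁.inv ≫ p = 𝟙 Z := by
      rw [he₁', Iso.inv_hom_id_assoc, biprod.inr_snd]
    have hkp : kernel.ι f ≫ p = 0 := by
      rw [he₁', reassoc_of% he₁, biprod.inl_snd]
    have hmono : Mono f' := by
      rw [Preadditive.mono_iff_cancel_zero]
      intro W u hu
      have h1 : (u ≫ biprod.inr ≫ e₁.inv) ≫ (p ≫ f') = 0 := by
        rw [Category.assoc, Category.assoc, reassoc_of% hp, hu]
      rw [← hf'] at h1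
      have h2 : u = (u ≫ biprod.inr ≫ e₁.inv) ≫ p := by
        rw [Category.assoc, Category.assoc, hp, Category.comp_id]
      rw [h2, ← kernel.lift_ι f _ h1, Category.assoc, hkp, comp_zero]
    obtain ⟨Q, q, e₂, he₂, -, -⟩ := split_of_mono f'
    refine ⟨_, Z, Q, e₁, e₂, ?_⟩
    rw [← he₂, Category.assoc, Iso.hom_inv_id, Category.comp_id, ← Category.assoc, ← he₁']
    exact hf'
  · rintro ⟨K, Z, Q, e₁, e₂, rfl⟩
    have hmono : Mono (biprod.inl ≫ e₂.inv : Z ⟶ Y) := inferInstance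
    refine ⟨⟨⟨KernelFork.ofι (biprod.inl ≫ e₁.inv : K ⟶ X) (by simp), ?_⟩⟩⟩
    refine KernelFork.IsLimit.ofι _ _
      (fun {W} g hg => g ≫ e₁.hom ≫ biprod.fst) ?_ ?_
    · intro W g hg
      have h1 : g ≫ e₁.hom ≫ biprod.snd = 0 := by
        rw [← cancel_mono (biprod.inl ≫ e₂.inv : Z ⟶ Y), zero_comp]
        simpa using hg
      rw [← cancel_mono e₁.hom]
      apply biprod.hom_ext
      · simp
      · simp [h1]
    · intro W g hg m hm
      rw [← hm]
      simp

end Groth.Agent.S6594
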