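import Groth.Statements.S6596
import Groth.Agent.S6595
import Groth.Agent.H33.ShiftHom

set_option autoImplicit false
universe v u
open CategoryTheory CategoryTheory.Limits
open CohDer

namespace Groth.Agent.S6596

open CategoryTheory.Pretriangulated in
/-- Let D be a triangulated category and φ : X ⟶ X' a morphism of chain complexes in D considered in
degrees ≤ n, where a Postnikov system for the complex X_n → … → X_0 consists of objects Y_k, an
isomorphism Y_0 ⟶ X_0, and for 0 ≤ k < n distinguished triangles Y_{k+1} ⟶ X_{k+1} ⟶ Y_k ⟶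
Y_{k+1}⟦1⟧ with X_{k+1} ⟶ Y_k ⟶ X_k the differential. Suppose X and X' carry Postnikov systems (Y,
a, b, c) and (Y', a', b', c'). If Hom(X_i⟦i - j - 1⟧, X'_j) = 0 for all j + 1 < i ≤ n, then φ
extends to a morphism of Postnikov systems: morphisms y_k : Y_k ⟶ Y'_k for k ≤ n forming, with the
φ_k, morphisms of the distinguished triangles and compatible with Y_0 ⟶ X_0 and Y'_0 ⟶ X'_0. -/
theorem result {D : Type u} [Category.{v} D] [Preadditive D] [HasZeroObject D] [HasShift D ℤ]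
    [∀ n : ℤ, (shiftFunctor D n).Additive] [Pretriangulated D] [IsTriangulated D]
    (X X' : ChainComplex D ℕ) (φ : X ⟶ X') (n : ℕ)
    (Y : ℕ → D) (a : ∀ k, Y k ⟶ X.X k) (b : ∀ k, X.X (k + 1) ⟶ Y k)
    (c : ∀ k, Y k ⟶ (shiftFunctor D (1 : ℤ)).obj (Y (k + 1)))
    (h0 : IsIso (a 0))
    (hP : ∀ k, k < n → Triangle.mk (a (k + 1)) (b k) (c k) ∈ distinguishedTriangles ∧ b k ≫ a k = X.d (k + 1) k)
    (qY : ℕ → D) (qa : ∀ k, qY k ⟶ X'.X k) (qb : ∀ k, X'.X (k + 1) ⟶ qY k)
    (qc : ∀ k, qY k ⟶ (shiftFunctor D (1 : ℤ)).obj (qY (k + 1)))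
    (qh0 : IsIso (qa 0))
    (qhP : ∀ k, k < n → Triangle.mk (qa (k + 1)) (qb k) (qc k) ∈ distinguishedTriangles ∧ qb k ≫ qa k = X'.d (k + 1) k)
    (hX : ∀ i j : ℕ, j + 1 < i → i ≤ n → ∀ ψ : (shiftFunctor D ((i : ℤ) - j - 1)).obj (X.X i) ⟶ X'.X j, ψ = 0) :
    ∃ y : ∀ k, Y k ⟶ qY k,
      (∀ k, k ≤ n → y k ≫ qa k = a k ≫ φ.f k) ∧
      (∀ k, k < n → b k ≫ y k = φ.f (k + 1) ≫ qb k ∧ c k ≫ (shiftFunctor D (1 : ℤ)).map (y (k + 1)) = y k ≫ qc k) := by
  have hvan : ∀ i j : ℕ, j + 1 < i → i ≤ n →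
      ∀ ψ : (shiftFunctor D ((i : ℤ) - j - 1)).obj (X.X i) ⟶ qY j, ψ = 0 :=
    fun i j hij hi ψ => Groth.Agent.S6595.result X X' n qY qa qb qc qh0 qhP hX i j hij hi ψ
  suffices H : ∀ m, m ≤ n → ∃ y : ∀ k, Y k ⟶ qY k,
      (∀ k, k ≤ m → y k ≫ qa k = a k ≫ φ.f k) ∧
      (∀ k, k < m → b k ≫ y k = φ.f (k + 1) ≫ qb k ∧
        c k ≫ (shiftFunctor D (1 : ℤ)).map (y (k + 1)) = y k ≫ qc k) from H n le_rfl
  intro m
  induction m with
  | zero =>
    intro _
    refine ⟨Function.update (fun _ => 0) 0 (a 0 ≫ φ.f 0 ≫ inv (qa 0)), ?_, ?_⟩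
    · intro k hk
      obtain rfl : k = 0 := by omega
      rw [Function.update_self, Category.assoc, Category.assoc, IsIso.inv_hom_id, Category.comp_id]
    · intro k hk
      omega
  | succ m IH =>
    intro hm
    obtain ⟨y, hy₁, hy₂⟩ := IH (by omega)
    have hT := (hP m (by omega)).1
    have hqT := (qhP m (by omega)).1
    have hcomm : b m ≫ y m = φ.f (m + 1) ≫ qb m := by
      rw [← sub_eq_zero]
      have hδ : (b m ≫ y m - φ.f (m + 1) ≫ qb m) ≫ qa m = 0 := by
        rw [Preadditive.sub_comp, Category.assoc, hy₁ m le_rfl, ← Category.assoc,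
          (hP m (by omega)).2, Category.assoc, (qhP m (by omega)).2, φ.comm, sub_self]
      cases m with
      | zero =>
        rw [← cancel_mono (qa 0), zero_comp]
        exact hδ
      | succ m' =>
        have hqT' := (qhP m' (by omega)).1
        obtain ⟨ε, hε⟩ := Triangle.coyoneda_exact₂ _ (inv_rot_of_distTriang _ hqT') _ hδ
        have hε0 : ε = 0 :=
          Groth.Agent.H33.hom_to_shift_eq_zero (1 : ℤ) (-1) (by omega)
            (fun ψ' => Groth.Agent.H33.hom_shift_eq_zero_of_eq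
              (((m' + 1 + 1 : ℕ) : ℤ) - (m' : ℤ) - 1) 1 (by omega)
              (fun ψ'' => hvan (m' + 1 + 1) m' (by omega) hm ψ'') ψ') ε
        rw [hε, hε0, zero_comp]
        rfl
    obtain ⟨ynew, hnew₁, hnew₂⟩ : ∃ ynew : Y (m + 1) ⟶ qY (m + 1),
        a (m + 1) ≫ φ.f (m + 1) = ynew ≫ qa (m + 1) ∧
        c m ≫ (shiftFunctor D (1 : ℤ)).map ynew = y m ≫ qc m :=
      complete_distinguished_triangle_morphism₁ _ _ hT hqT (φ.f (m + 1)) (y m) hcomm
    refine ⟨Function.update y (m + 1) ynew, ?_, ?_⟩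
    · intro k hk
      by_cases hk' : k = m + 1
      · subst hk'
        rw [Function.update_self]
        exact hnew₁.symm
      · rw [Function.update_of_ne hk']
        exact hy₁ k (by omega)
    · intro k hk
      by_cases hk' : k = m
      · subst hk'
        rw [Function.update_self, Function.update_of_ne (by omega)]
        exact ⟨hcomm, hnew₂⟩
      · rw [Function.update_of_ne (by omega), Function.update_of_ne (by omega)]
        exact hy₂ k (by omega)

end Groth.Agent.S6596
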