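import Groth.Statements.S6597
import Groth.Agent.H33.ShiftHom

set_option autoImplicit false
universe v u
open CategoryTheory CategoryTheory.Limits
open CohDer

namespace Groth.Agent.S6597

open CategoryTheory.Pretriangulated in
/-- Let D be a triangulated category, φ : X ⟶ X' a morphism of chain complexes in D considered in
degrees ≤ n, where a Postnikov system for the complex X_n → … → X_0 consists of objects Y_k, an
isomorphism Y_0 ⟶ X_0, and for 0 ≤ k < n distinguished triangles Y_{k+1} ⟶ X_{k+1} ⟶ Y_k ⟶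
Y_{k+1}⟦1⟧ with X_{k+1} ⟶ Y_k ⟶ X_k the differential; let (Y, a, b, c) and (Y', a', b', c') be
Postnikov systems for X and X'. If Hom(X_i⟦i⟧, Y'_n⟦n⟧) = 0 for i = 1, …, n, then two morphisms of
Postnikov systems extending φ agree on Y_n. (The published statement says there is at most one
morphism of Postnikov systems; the argument, by induction along Y_0 → Y_1⟦1⟧ → … → Y_n⟦n⟧,
determines the component in degree n, which is what is asserted here.) -/
theorem result {D : Type u} [Category.{v} D] [Preadditive D] [HasZeroObject D] [HasShift D ℤ]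
    [∀ n : ℤ, (shiftFunctor D n).Additive] [Pretriangulated D] [IsTriangulated D]
    (X X' : ChainComplex D ℕ) (φ : X ⟶ X') (n : ℕ)
    (Y : ℕ → D) (a : ∀ k, Y k ⟶ X.X k) (b : ∀ k, X.X (k + 1) ⟶ Y k)
    (c : ∀ k, Y k ⟶ (shiftFunctor D (1 : ℤ)).obj (Y (k + 1)))
    (h0 : IsIso (a 0))
    (hP : ∀ k, k < n → Triangle.mk (a (k + 1)) (b k) (c k) ∈ distinguishedTriangles ∧ b k ≫ a k = X.d (k + 1) k)
    (qY : ℕ → D) (qa : ∀ k, qY k ⟶ X'.X k) (qb : ∀ k, X'.X (k + 1) ⟶ qY k)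
    (qc : ∀ k, qY k ⟶ (shiftFunctor D (1 : ℤ)).obj (qY (k + 1)))
    (qh0 : IsIso (qa 0))
    (qhP : ∀ k, k < n → Triangle.mk (qa (k + 1)) (qb k) (qc k) ∈ distinguishedTriangles ∧ qb k ≫ qa k = X'.d (k + 1) k)
    (hv : ∀ i : ℕ, 1 ≤ i → i ≤ n → ∀ ψ : (shiftFunctor D (i : ℤ)).obj (X.X i) ⟶ (shiftFunctor D (n : ℤ)).obj (qY n), ψ = 0)
    (y z : ∀ k, Y k ⟶ qY k)
    (hy : (∀ k, k ≤ n → y k ≫ qa k = a k ≫ φ.f k) ∧
      (∀ k, k < n → b k ≫ y k = φ.f (k + 1) ≫ qb k ∧ c k ≫ (shiftFunctor D (1 : ℤ)).map (y (k + 1)) = y k ≫ qc k))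
    (hz : (∀ k, k ≤ n → z k ≫ qa k = a k ≫ φ.f k) ∧
      (∀ k, k < n → b k ≫ z k = φ.f (k + 1) ≫ qb k ∧ c k ≫ (shiftFunctor D (1 : ℤ)).map (z (k + 1)) = z k ≫ qc k)) :
    y n = z n := by
  have d1 : ∀ k, k ≤ n → (y k - z k) ≫ qa k = 0 := fun k hk => by
    rw [Preadditive.sub_comp, hy.1 k hk, hz.1 k hk, sub_self]
  have d2 : ∀ k, k < n → c k ≫ (shiftFunctor D (1 : ℤ)).map (y (k + 1) - z (k + 1)) =
      (y k - z k) ≫ qc k := fun k hk => by
    rw [Functor.map_sub, Preadditive.comp_sub, Preadditive.sub_comp, (hy.2 k hk).2, (hz.2 k hk).2]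
  have G : ∀ k, k ≤ n → ∀ V : D,
      (∀ i : ℕ, 1 ≤ i → i ≤ k → ∀ ψ : (shiftFunctor D ((i : ℤ) - k)).obj (X.X i) ⟶ V, ψ = 0) →
      ∀ κ : qY k ⟶ V, (y k - z k) ≫ κ = 0 := by
    intro k
    induction k with
    | zero =>
      intro _ V _ κ
      have : y 0 - z 0 = 0 := by
        rw [← cancel_mono (qa 0), zero_comp]
        exact d1 0 (Nat.zero_le _)
      rw [this, zero_comp]
    | succ k IH =>
      intro hk V hV κ
      have hT := (hP k (by omega)).1
      have h1 := IH (by omega) ((shiftFunctor D (1 : ℤ)).obj V) (fun i hi1 hik ψ =>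
        Groth.Agent.H33.hom_shift_eq_zero ((i : ℤ) - ((k + 1 : ℕ) : ℤ)) ((i : ℤ) - k) 1 (by omega)
          (hV i hi1 (by omega)) ψ) (qc k ≫ (shiftFunctor D (1 : ℤ)).map κ)
      have h2 : c k ≫ (shiftFunctor D (1 : ℤ)).map ((y (k + 1) - z (k + 1)) ≫ κ) = 0 := by
        rw [Functor.map_comp, ← Category.assoc, d2 k (by omega), Category.assoc]
        exact h1
      obtain ⟨g, hg⟩ := Triangle.yoneda_exact₃ _ (rot_of_distTriang _ hT) _ h2
      obtain ⟨ρ, rfl⟩ := (shiftFunctor D (1 : ℤ)).map_surjective g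
      have hρ : ρ = 0 :=
        Groth.Agent.H33.hom_eq_zero_of_shift_zero (((k + 1 : ℕ) : ℤ) - ((k + 1 : ℕ) : ℤ)) (by omega)
          (hV (k + 1) (by omega) le_rfl) ρ
      apply (shiftFunctor D (1 : ℤ)).map_injective
      rw [hg, hρ, Functor.map_zero, comp_zero, Functor.map_zero]; rfl
  have key := G n le_rfl (qY n) (fun i hi1 hin ψ =>
    Groth.Agent.H33.hom_eq_zero_of_shift ((i : ℤ) - n) (i : ℤ) (n : ℤ) (by omega)
      (hv i hi1 hin) ψ) (𝟙 _)
  rw [Category.comp_id] at key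
  exact sub_eq_zero.1 key

end Groth.Agent.S6597
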