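import Groth.Statements.S6598
import Mathlib.Algebra.Homology.HomotopyCategory.MappingCone
import Mathlib.Algebra.Homology.HomologicalComplexBiprod

set_option autoImplicit false
universe v u
open CategoryTheory CategoryTheory.Limits
open CohDer

namespace Groth.Agent.S6598

/-- Let α : K ⟶ L be a morphism of cochain complexes over an additive category. There is a factorization
K ⟶ L' ⟶ L of α such that (1) K ⟶ L' is a termwise split injection (in each degree isomorphic to the
inclusion of a direct summand) and (2) L' ⟶ L admits a section s : L ⟶ L' (s followed by L' ⟶ L is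
the identity) such that L' ⟶ L followed by s is homotopic to the identity of L'. Moreover if K and L
are both bounded below, resp. both bounded above, then L' may be chosen bounded below, resp. bounded
above. -/
theorem result {V : Type u} [Category.{v} V] [Preadditive V] [HasBinaryBiproducts V] [HasZeroObject V]
    (K L : CochainComplex V ℤ) (α : K ⟶ L) :
    ∃ (L' : CochainComplex V ℤ) (α' : K ⟶ L') (π : L' ⟶ L) (s : L ⟶ L'),
      α' ≫ π = α ∧ s ≫ π = 𝟙 L ∧ Nonempty (Homotopy (π ≫ s) (𝟙 L')) ∧
      (∀ n : ℤ, ∃ (C : V) (e : L'.X n ≅ K.X n ⊞ C), α'.f n ≫ e.hom = biprod.inl) ∧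
      (∀ a : ℤ, K.IsStrictlyGE a → L.IsStrictlyGE a → ∃ a' : ℤ, L'.IsStrictlyGE a') ∧
      (∀ a : ℤ, K.IsStrictlyLE a → L.IsStrictlyLE a → ∃ a' : ℤ, L'.IsStrictlyLE a') := by
  classical
  let Cn := CochainComplex.mappingCone (𝟙 K)
  let L' : CochainComplex V ℤ := Cn ⊞ L
  let α' : K ⟶ L' := biprod.lift (CochainComplex.mappingCone.inr (𝟙 K)) α
  have h₀ : Homotopy (𝟙 Cn) 0 :=
    CochainComplex.mappingCone.liftHomotopy _ _ _ (CochainComplex.mappingCone.snd _) 0
      (by simp) (by simp)
  refine ⟨L', α', biprod.snd, biprod.inr, by simp [α'], by simp, ⟨?_⟩, ?_, ?_, ?_⟩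
  · let h₁ := (h₀.compRight (biprod.inl : Cn ⟶ L')).compLeft (biprod.fst : L' ⟶ Cn)
    let h₂ := Homotopy.add h₁ (Homotopy.refl ((biprod.snd : L' ⟶ L) ≫ biprod.inr))
    have e1 : (biprod.snd : L' ⟶ L) ≫ biprod.inr =
        (biprod.fst : L' ⟶ Cn) ≫ 0 ≫ (biprod.inl : Cn ⟶ L') + biprod.snd ≫ biprod.inr := by
      simp
    have e2 : (biprod.fst : L' ⟶ Cn) ≫ 𝟙 Cn ≫ (biprod.inl : Cn ⟶ L') +
        (biprod.snd : L' ⟶ L) ≫ biprod.inr = 𝟙 L' := by
      rw [Category.id_comp]
      exact biprod.total
    exact (Homotopy.ofEq e1).trans (h₂.symm.trans (Homotopy.ofEq e2))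
  · intro n
    let π₁ : L'.X n ⟶ Cn.X n := (biprod.fst : L' ⟶ Cn).f n
    let π₂ : L'.X n ⟶ L.X n := (biprod.snd : L' ⟶ L).f n
    let ι₁ : Cn.X n ⟶ L'.X n := (biprod.inl : Cn ⟶ L').f n
    let ι₂ : L.X n ⟶ L'.X n := (biprod.inr : L ⟶ L').f n
    let sn : Cn.X n ⟶ K.X n := (CochainComplex.mappingCone.snd (𝟙 K)).v n n (add_zero n)
    let fs : Cn.X n ⟶ K.X (n + 1) := (CochainComplex.mappingCone.fst (𝟙 K)).1.v n (n + 1) rfl
    let il : K.X (n + 1) ⟶ Cn.X n := (CochainComplex.mappingCone.inl (𝟙 K)).v (n + 1) n (by omega)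
    let ir : K.X n ⟶ Cn.X n := (CochainComplex.mappingCone.inr (𝟙 K)).f n
    have e11 : ι₁ ≫ π₁ = 𝟙 _ := by
      simp only [ι₁, π₁, ← HomologicalComplex.comp_f, biprod.inl_fst, HomologicalComplex.id_f]
    have e12 : ι₁ ≫ π₂ = 0 := by
      simp only [ι₁, π₂, ← HomologicalComplex.comp_f, biprod.inl_snd,
        HomologicalComplex.zero_f_apply]
    have e21 : ι₂ ≫ π₁ = 0 := by
      simp only [ι₂, π₁, ← HomologicalComplex.comp_f, biprod.inr_fst,
        HomologicalComplex.zero_f_apply]
    have e22 : ι₂ ≫ π₂ = 𝟙 _ := by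
      simp only [ι₂, π₂, ← HomologicalComplex.comp_f, biprod.inr_snd, HomologicalComplex.id_f]
    have etot : π₁ ≫ ι₁ + π₂ ≫ ι₂ = 𝟙 _ := by
      simp only [ι₁, ι₂, π₁, π₂, ← HomologicalComplex.comp_f, ← HomologicalComplex.add_f_apply,
        biprod.total, HomologicalComplex.id_f]
      rfl
    have c1 : il ≫ fs = 𝟙 _ := CochainComplex.mappingCone.inl_v_fst_v _ _ _ _
    have c2 : il ≫ sn = 0 := CochainComplex.mappingCone.inl_v_snd_v _ _ _ _
    have c3 : ir ≫ fs = 0 := CochainComplex.mappingCone.inr_f_fst_v _ _ _ _
    have c4 : ir ≫ sn = 𝟙 _ := CochainComplex.mappingCone.inr_f_snd_v _ _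
    have ctot : fs ≫ il + sn ≫ ir = 𝟙 _ := CochainComplex.mappingCone.id_X _ _ _ rfl
    have a1 : α'.f n ≫ π₁ = ir := by
      simp only [α', π₁, ir, ← HomologicalComplex.comp_f, biprod.lift_fst]
    have a2 : α'.f n ≫ π₂ = α.f n := by
      simp only [α', π₂, ← HomologicalComplex.comp_f, biprod.lift_snd]
    let e : L'.X n ≅ K.X n ⊞ (K.X (n + 1) ⊞ L.X n) :=
      { hom := biprod.lift (π₁ ≫ sn) (biprod.lift (π₁ ≫ fs) (π₂ - π₁ ≫ sn ≫ α.f n))
        inv := biprod.desc (ir ≫ ι₁ + α.f n ≫ ι₂) (biprod.desc (il ≫ ι₁) ι₂)
        hom_inv_id := by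
          rw [biprod.lift_desc, biprod.lift_desc]
          calc (π₁ ≫ sn) ≫ (ir ≫ ι₁ + α.f n ≫ ι₂) + ((π₁ ≫ fs) ≫ il ≫ ι₁ +
                (π₂ - π₁ ≫ sn ≫ α.f n) ≫ ι₂)
              = π₁ ≫ (fs ≫ il + sn ≫ ir) ≫ ι₁ + π₂ ≫ ι₂ := by
                simp only [Preadditive.comp_add, Preadditive.add_comp, Preadditive.sub_comp,
                  Category.assoc]
                abel
            _ = 𝟙 _ := by rw [ctot, Category.id_comp, etot]
        inv_hom_id := by
          apply biprod.hom_ext'
          · apply biprod.hom_ext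
            · simp only [biprod.inl_desc_assoc, Category.assoc, biprod.lift_fst,
                Preadditive.add_comp, Category.comp_id, biprod.inl_fst]
              rw [reassoc_of% e11, c4, reassoc_of% e21, zero_comp, comp_zero, add_zero]
            · apply biprod.hom_ext
              · simp only [biprod.inl_desc_assoc, Category.assoc, biprod.lift_snd, biprod.lift_fst,
                  Preadditive.add_comp, Category.comp_id, biprod.inl_snd, zero_comp]
                rw [reassoc_of% e11, c3, reassoc_of% e21, zero_comp, comp_zero, add_zero]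
              · simp only [biprod.inl_desc_assoc, Category.assoc, biprod.lift_snd,
                  Preadditive.add_comp, Category.comp_id, biprod.inl_snd, zero_comp,
                  Preadditive.comp_sub]
                rw [e12, comp_zero, reassoc_of% e11, reassoc_of% c4, e22, Category.comp_id,
                  reassoc_of% e21, zero_comp, comp_zero]
                abel
          · apply biprod.hom_ext'
            · apply biprod.hom_ext
              · simp only [biprod.inr_desc_assoc, biprod.inl_desc_assoc, Category.assoc,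
                  biprod.lift_fst, biprod.inr_fst, biprod.inl_snd_assoc, zero_comp, comp_zero]
                rw [reassoc_of% e11, c2]
                simp
              · apply biprod.hom_ext
                · simp only [biprod.inr_desc_assoc, biprod.inl_desc_assoc, Category.assoc,
                    biprod.lift_snd, biprod.lift_fst, biprod.inr_snd, biprod.inl_fst,
                    Category.comp_id]
                  rw [reassoc_of% e11, c1]
                · simp only [biprod.inr_desc_assoc, biprod.inl_desc_assoc, Category.assoc,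
                    biprod.lift_snd, biprod.inr_snd, biprod.inl_snd, Category.comp_id,
                    Preadditive.comp_sub]
                  rw [e12, reassoc_of% e11, reassoc_of% c2]
                  simp
            · apply biprod.hom_ext
              · simp only [biprod.inr_desc_assoc, Category.assoc, biprod.lift_fst,
                  biprod.inr_fst, comp_zero]
                rw [reassoc_of% e21, zero_comp]
                simp
              · apply biprod.hom_ext
                · simp only [biprod.inr_desc_assoc, Category.assoc, biprod.lift_snd,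
                    biprod.lift_fst, biprod.inr_snd, biprod.inr_fst, Category.comp_id]
                  rw [reassoc_of% e21, zero_comp]
                · simp only [biprod.inr_desc_assoc, Category.assoc, biprod.lift_snd,
                    biprod.inr_snd, Category.comp_id, Preadditive.comp_sub]
                  rw [e22, reassoc_of% e21, zero_comp]
                  simp }
    refine ⟨_, e, ?_⟩
    apply biprod.hom_ext
    · simp only [e, Category.assoc, biprod.lift_fst, biprod.inl_fst]
      rw [reassoc_of% a1, c4]
    · apply biprod.hom_ext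
      · simp only [e, Category.assoc, biprod.lift_snd, biprod.lift_fst, biprod.inl_snd, zero_comp]
        rw [reassoc_of% a1, c3]
      · simp only [e, Category.assoc, biprod.lift_snd, biprod.inl_snd, zero_comp,
          Preadditive.comp_sub]
        rw [a2, reassoc_of% a1, reassoc_of% c4, sub_self]
  · intro a hK hL
    refine ⟨a - 1, ?_⟩
    rw [CochainComplex.isStrictlyGE_iff]
    intro i hi
    refine IsZero.of_iso ?_ ((HomologicalComplex.eval V (ComplexShape.up ℤ) i).mapBiprod _ _)
    rw [biprod_isZero_iff]
    exact ⟨(CochainComplex.mappingCone.isZero_X_iff (𝟙 K) i).2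
      ⟨K.isZero_of_isStrictlyGE a (i + 1) (by omega), K.isZero_of_isStrictlyGE a i (by omega)⟩,
      L.isZero_of_isStrictlyGE a i (by omega)⟩
  · intro a hK hL
    refine ⟨a, ?_⟩
    rw [CochainComplex.isStrictlyLE_iff]
    intro i hi
    refine IsZero.of_iso ?_ ((HomologicalComplex.eval V (ComplexShape.up ℤ) i).mapBiprod _ _)
    rw [biprod_isZero_iff]
    exact ⟨(CochainComplex.mappingCone.isZero_X_iff (𝟙 K) i).2
      ⟨K.isZero_of_isStrictlyLE a (i + 1) (by omega), K.isZero_of_isStrictlyLE a i (by omega)⟩,
      L.isZero_of_isStrictlyLE a i (by omega)⟩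

end Groth.Agent.S6598
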