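import Groth.Statements.S6599
import Groth.Agent.H33.Biprod3
import Mathlib.Algebra.Homology.HomotopyCategory.MappingCone
import Mathlib.Algebra.Homology.HomotopyCategory.HomComplexShift
import Mathlib.Algebra.Homology.HomologicalComplexBiprod

set_option autoImplicit false
universe v u
open CategoryTheory CategoryTheory.Limits
open CohDer

namespace Groth.Agent.S6599

/-- Let α : K ⟶ L be a morphism of cochain complexes over an additive category. There is a factorization
K ⟶ K' ⟶ L of α such that (1) K' ⟶ L is a termwise split surjection (in each degree isomorphic to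
the projection onto a direct summand) and (2) K ⟶ K' admits a retraction s : K' ⟶ K (K ⟶ K' followed
by s is the identity) such that s followed by K ⟶ K' is homotopic to the identity of K'. Moreover if
K and L are both bounded below, resp. both bounded above, then K' may be chosen bounded below, resp.
bounded above. -/
theorem result {V : Type u} [Category.{v} V] [Preadditive V] [HasBinaryBiproducts V] [HasZeroObject V]
    (K L : CochainComplex V ℤ) (α : K ⟶ L) :
    ∃ (K' : CochainComplex V ℤ) (i : K ⟶ K') (α' : K' ⟶ L) (s : K' ⟶ K),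
      i ≫ α' = α ∧ i ≫ s = 𝟙 K ∧ Nonempty (Homotopy (s ≫ i) (𝟙 K')) ∧
      (∀ n : ℤ, ∃ (C : V) (e : K'.X n ≅ C ⊞ L.X n), e.inv ≫ α'.f n = biprod.snd) ∧
      (∀ a : ℤ, K.IsStrictlyGE a → L.IsStrictlyGE a → ∃ a' : ℤ, K'.IsStrictlyGE a') ∧
      (∀ a : ℤ, K.IsStrictlyLE a → L.IsStrictlyLE a → ∃ a' : ℤ, K'.IsStrictlyLE a') := by
  classical
  let M : CochainComplex V ℤ := L⟦(-1 : ℤ)⟧
  let P : CochainComplex V ℤ := CochainComplex.mappingCone (𝟙 M)
  let zc : CochainComplex.HomComplex.Cocycle M L (-1) :=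
    (CochainComplex.HomComplex.Cocycle.ofHom (𝟙 L)).leftShift (-1) (-1) (by omega)
  have hzc : CochainComplex.HomComplex.δ (-1) 0 zc.1 =
      CochainComplex.HomComplex.Cochain.ofHom (𝟙 M ≫ (0 : M ⟶ L)) := by
    rw [CochainComplex.HomComplex.Cocycle.δ_eq_zero, comp_zero]
    simp
  let p : P ⟶ L := CochainComplex.mappingCone.desc (𝟙 M) zc.1 0 hzc
  let K' : CochainComplex V ℤ := K ⊞ P
  let α' : K' ⟶ L := biprod.desc α p
  have h₀ : Homotopy (𝟙 P) 0 :=
    CochainComplex.mappingCone.liftHomotopy _ _ _ (CochainComplex.mappingCone.snd _) 0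
      (by simp) (by simp)
  refine ⟨K', biprod.inl, α', biprod.fst, by simp [α'], by simp, ⟨?_⟩, ?_, ?_, ?_⟩
  · let h₁ := (h₀.compRight (biprod.inr : P ⟶ K')).compLeft (biprod.snd : K' ⟶ P)
    let h₂ := Homotopy.add (Homotopy.refl ((biprod.fst : K' ⟶ K) ≫ biprod.inl)) h₁
    have e1 : (biprod.fst : K' ⟶ K) ≫ biprod.inl =
        biprod.fst ≫ biprod.inl + (biprod.snd : K' ⟶ P) ≫ 0 ≫ (biprod.inr : P ⟶ K') := by
      simp
    have e2 : (biprod.fst : K' ⟶ K) ≫ biprod.inl +
        (biprod.snd : K' ⟶ P) ≫ 𝟙 P ≫ (biprod.inr : P ⟶ K') = 𝟙 K' := by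
      rw [Category.id_comp]
      exact biprod.total
    exact (Homotopy.ofEq e1).trans (h₂.symm.trans (Homotopy.ofEq e2))
  · intro n
    let π₁ : K'.X n ⟶ K.X n := (biprod.fst : K' ⟶ K).f n
    let π₂ : K'.X n ⟶ P.X n := (biprod.snd : K' ⟶ P).f n
    let ι₁ : K.X n ⟶ K'.X n := (biprod.inl : K ⟶ K').f n
    let ι₂ : P.X n ⟶ K'.X n := (biprod.inr : P ⟶ K').f n
    let sn : P.X n ⟶ M.X n := (CochainComplex.mappingCone.snd (𝟙 M)).v n n (add_zero n)
    let fs : P.X n ⟶ M.X (n + 1) := (CochainComplex.mappingCone.fst (𝟙 M)).1.v n (n + 1) rfl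
    let il : M.X (n + 1) ⟶ P.X n := (CochainComplex.mappingCone.inl (𝟙 M)).v (n + 1) n (by omega)
    let ir : M.X n ⟶ P.X n := (CochainComplex.mappingCone.inr (𝟙 M)).f n
    let u : M.X (n + 1) ⟶ L.X n := zc.1.v (n + 1) n (by omega)
    have e11 : ι₁ ≫ π₁ = 𝟙 _ := by
      simp only [ι₁, π₁, ← HomologicalComplex.comp_f, biprod.inl_fst, HomologicalComplex.id_f]
    have e12 : ι₁ ≫ π₂ = 0 := by
      simp only [ι₁, π₂, ← HomologicalComplex.comp_f, biprod.inl_snd,
        HomologicalComplex.zero_f_apply]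
    have e21 : ι₂ ≫ π₁ = 0 := by
      simp only [ι₂, π₁, ← HomologicalComplex.comp_f, biprod.inr_fst,
        HomologicalComplex.zero_f_apply]
    have e22 : ι₂ ≫ π₂ = 𝟙 _ := by
      simp only [ι₂, π₂, ← HomologicalComplex.comp_f, biprod.inr_snd, HomologicalComplex.id_f]
    have etot : π₁ ≫ ι₁ + π₂ ≫ ι₂ = 𝟙 _ := by
      simp only [ι₁, ι₂, π₁, π₂, ← HomologicalComplex.comp_f, ← HomologicalComplex.add_f_apply,
        biprod.total, HomologicalComplex.id_f]
      rfl
    have c1 : il ≫ fs = 𝟙 _ := CochainComplex.mappingCone.inl_v_fst_v _ _ _ _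
    have c2 : il ≫ sn = 0 := CochainComplex.mappingCone.inl_v_snd_v _ _ _ _
    have c3 : ir ≫ fs = 0 := CochainComplex.mappingCone.inr_f_fst_v _ _ _ _
    have c4 : ir ≫ sn = 𝟙 _ := CochainComplex.mappingCone.inr_f_snd_v _ _
    have ctot : fs ≫ il + sn ≫ ir = 𝟙 _ := CochainComplex.mappingCone.id_X _ _ _ rfl
    have hpf : p.f n = fs ≫ u := by
      have := CochainComplex.mappingCone.desc_f (𝟙 M) zc.1 0 hzc n (n + 1) rfl
      simp only [HomologicalComplex.zero_f, comp_zero, add_zero] at this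
      exact this
    have a1 : ι₁ ≫ α'.f n = α.f n := by
      simp only [α', ι₁, ← HomologicalComplex.comp_f, biprod.inl_desc]
    have a2 : ι₂ ≫ α'.f n = fs ≫ u := by
      rw [← hpf]
      simp only [α', ι₂, ← HomologicalComplex.comp_f, biprod.inr_desc]
    obtain ⟨uinv, hu1, hu2⟩ : ∃ uinv : L.X n ⟶ M.X (n + 1), u ≫ uinv = 𝟙 _ ∧ uinv ≫ u = 𝟙 _ := by
      have hu : u = ((-1 : ℤ) * (-1) + ((-1 : ℤ) * ((-1) - 1)) / 2).negOnePow •
          (L.shiftFunctorObjXIso (-1) (n + 1) n (by omega)).hom ≫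
            (CochainComplex.HomComplex.Cochain.ofHom (𝟙 L)).v n n (add_zero n) :=
        CochainComplex.HomComplex.Cochain.leftShift_v
          (CochainComplex.HomComplex.Cochain.ofHom (𝟙 L)) (-1) (-1) (by omega) (n + 1) n (by omega)
          n (add_zero n)
      rw [CochainComplex.HomComplex.Cochain.ofHom_v, HomologicalComplex.id_f,
        Category.comp_id] at hu
      refine ⟨((-1 : ℤ) * (-1) + ((-1 : ℤ) * ((-1) - 1)) / 2).negOnePow •
          (L.shiftFunctorObjXIso (-1) (n + 1) n (by omega)).inv, ?_, ?_⟩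
      · rw [hu, Linear.units_smul_comp, Linear.comp_units_smul, smul_smul, Int.units_mul_self,
          one_smul, Iso.hom_inv_id]
      · rw [hu, Linear.units_smul_comp, Linear.comp_units_smul, smul_smul, Int.units_mul_self,
          one_smul, Iso.inv_hom_id]
    obtain ⟨e, he1, he2⟩ := Groth.Agent.H33.exists_iso_biprod₃
      (ι₁ - α.f n ≫ uinv ≫ il ≫ ι₂) (ir ≫ ι₂) (uinv ≫ il ≫ ι₂) π₁ (π₂ ≫ sn) (α'.f n)
      (by rw [Preadditive.sub_comp, e11]; simp only [Category.assoc, e21, comp_zero, sub_zero])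
      (by rw [Preadditive.sub_comp, reassoc_of% e12, zero_comp]
          simp only [Category.assoc]
          rw [reassoc_of% e22, c2]; simp)
      (by rw [Preadditive.sub_comp, a1]
          simp only [Category.assoc]
          rw [a2, reassoc_of% c1, hu2, Category.comp_id, sub_self])
      (by simp only [Category.assoc, e21, comp_zero])
      (by simp only [Category.assoc]; rw [reassoc_of% e22, c4])
      (by simp only [Category.assoc]; rw [a2, reassoc_of% c3, zero_comp])
      (by simp only [Category.assoc, e21, comp_zero])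
      (by simp only [Category.assoc]; rw [reassoc_of% e22, c2, comp_zero])
      (by simp only [Category.assoc]; rw [a2, reassoc_of% c1, hu2])
      (by
        have ha' : α'.f n = π₁ ≫ α.f n + π₂ ≫ fs ≫ u := by
          calc α'.f n = (π₁ ≫ ι₁ + π₂ ≫ ι₂) ≫ α'.f n := by rw [etot, Category.id_comp]
            _ = π₁ ≫ α.f n + π₂ ≫ fs ≫ u := by
              rw [Preadditive.add_comp, Category.assoc, Category.assoc, a1, a2]
        rw [ha']
        calc π₁ ≫ (ι₁ - α.f n ≫ uinv ≫ il ≫ ι₂) + (π₂ ≫ sn) ≫ ir ≫ ι₂ +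
              (π₁ ≫ α.f n + π₂ ≫ fs ≫ u) ≫ uinv ≫ il ≫ ι₂
            = π₁ ≫ ι₁ + π₂ ≫ (fs ≫ (u ≫ uinv) ≫ il + sn ≫ ir) ≫ ι₂ := by
              simp only [Preadditive.comp_add, Preadditive.add_comp, Preadditive.comp_sub,
                Category.assoc]
              abel
          _ = 𝟙 _ := by rw [hu1, Category.id_comp, ctot, Category.id_comp, etot])
    refine ⟨_, e, ?_⟩
    rw [he2]
    apply biprod.hom_ext'
    · apply biprod.hom_ext'
      · simp only [biprod.inl_desc_assoc, biprod.inl_snd, comp_zero]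
        rw [Preadditive.sub_comp, a1]
        simp only [Category.assoc]
        rw [a2, reassoc_of% c1, hu2, Category.comp_id, sub_self]
      · simp only [biprod.inl_desc_assoc, biprod.inr_desc_assoc, biprod.inl_snd, comp_zero,
          Category.assoc]
        rw [a2, reassoc_of% c3, zero_comp]
    · simp only [biprod.inr_desc_assoc, biprod.inr_snd, Category.assoc]
      rw [a2, reassoc_of% c1, hu2]
  · intro a hK hL
    refine ⟨a, ?_⟩
    rw [CochainComplex.isStrictlyGE_iff]
    intro i hi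
    refine IsZero.of_iso ?_ ((HomologicalComplex.eval V (ComplexShape.up ℤ) i).mapBiprod _ _)
    rw [biprod_isZero_iff]
    exact ⟨K.isZero_of_isStrictlyGE a i (by omega),
      (CochainComplex.mappingCone.isZero_X_iff (𝟙 M) i).2
      ⟨L.isZero_of_isStrictlyGE a (i + 1 + (-1)) (by omega),
        L.isZero_of_isStrictlyGE a (i + (-1)) (by omega)⟩⟩
  · intro a hK hL
    refine ⟨a + 1, ?_⟩
    rw [CochainComplex.isStrictlyLE_iff]
    intro i hi
    refine IsZero.of_iso ?_ ((HomologicalComplex.eval V (ComplexShape.up ℤ) i).mapBiprod _ _)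
    rw [biprod_isZero_iff]
    exact ⟨K.isZero_of_isStrictlyLE a i (by omega),
      (CochainComplex.mappingCone.isZero_X_iff (𝟙 M) i).2
      ⟨L.isZero_of_isStrictlyLE a (i + 1 + (-1)) (by omega),
        L.isZero_of_isStrictlyLE a (i + (-1)) (by omega)⟩⟩

end Groth.Agent.S6599
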