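import Groth.Statements.S6602
import Groth.Agent.S6601

set_option autoImplicit false
universe v u
open CategoryTheory CategoryTheory.Limits
open CohDer

namespace Groth.Agent.S6602

open CategoryTheory.Pretriangulated in
/-- (1) ⇔ (2): let D be a triangulated category and B a full triangulated subcategory. The inclusion
functor B → D has a left adjoint if and only if for every X in D there is a distinguished triangle A
→ X → B → A⟦1⟧ with B in B and A in the left orthogonal ^⊥B. (The published statement further
asserts that B is then saturated and, when strictly full, equals the right orthogonal of its left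
orthogonal; this row asserts only the equivalence.) -/
theorem result {D : Type u} [Category.{v} D] [Preadditive D] [HasZeroObject D] [HasShift D ℤ]
    [∀ n : ℤ, (shiftFunctor D n).Additive] [Pretriangulated D] [IsTriangulated D]
    (P : ObjectProperty D) [P.IsTriangulated] :
    P.ι.IsRightAdjoint ↔ ∀ X : D, ∃ (A B : D) (f : A ⟶ X) (g : X ⟶ B) (h : B ⟶ (shiftFunctor D (1 : ℤ)).obj A),
      Triangle.mk f g h ∈ distinguishedTriangles ∧ P B ∧ P.leftOrthogonal A := by
  constructor
  · intro hι X
    let L := P.ι.leftAdjoint
    let adj : L ⊣ P.ι := Adjunction.ofIsRightAdjoint P.ι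
    obtain ⟨A, f, h, hT⟩ := distinguished_cocone_triangle₁ (adj.unit.app X)
    refine ⟨A, (L.obj X).obj, f, adj.unit.app X, h, hT, (L.obj X).property, ?_⟩
    refine (Groth.Agent.S6601.result P _ hT).2 ?_
    intro B' hB'
    have hbij := (adj.homEquiv X ⟨B', hB'⟩).bijective
    constructor
    · intro u₁ u₂ hu
      have : ObjectProperty.homMk (X := L.obj X) (Y := ⟨B', hB'⟩) u₁ =
          ObjectProperty.homMk (X := L.obj X) (Y := ⟨B', hB'⟩) u₂ := by
        apply hbij.1
        rw [Adjunction.homEquiv_unit, Adjunction.homEquiv_unit]
        exact hu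
      exact congrArg (fun φ => φ.hom) this
    · intro v
      obtain ⟨u, hu⟩ := hbij.2 v
      rw [Adjunction.homEquiv_unit] at hu
      exact ⟨u.hom, hu⟩
  · intro H
    choose A B f g h hT hB hA using H
    have hbij : ∀ (X : D) (Y : P.FullSubcategory),
        Function.Bijective (fun u : B X ⟶ Y.obj => g X ≫ u) := fun X Y =>
      (Groth.Agent.S6601.result P _ (hT X)).1 (hA X) Y.obj Y.property
    let e : ∀ (X : D) (Y : P.FullSubcategory),
        ((⟨B X, hB X⟩ : P.FullSubcategory) ⟶ Y) ≃ (X ⟶ P.ι.obj Y) := fun X Y =>
      { toFun := fun u => g X ≫ u.hom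
        invFun := fun v => ObjectProperty.homMk ((hbij X Y).2 v).choose
        left_inv := fun u => by
          apply ObjectProperty.hom_ext
          apply (hbij X Y).1
          exact ((hbij X Y).2 (g X ≫ u.hom)).choose_spec
        right_inv := fun v => ((hbij X Y).2 v).choose_spec }
    exact (Adjunction.adjunctionOfEquivLeft e (by
      intro X Y Y' k u
      simp [e])).isRightAdjoint

end Groth.Agent.S6602
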