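import Groth.Statements.S6603
import Groth.Agent.H33.Loc

set_option autoImplicit false
universe v u v' u'
open CategoryTheory CategoryTheory.Limits
open CohDer

namespace Groth.Agent.S6603

set_option backward.defeqAttrib.useBackward true in
set_option backward.isDefEq.respectTransparency false in
open CategoryTheory.Pretriangulated in
theorem dist_aux {D : Type u} [Category.{v} D] [Preadditive D] [HasZeroObject D] [HasShift D ℤ]
    [∀ n : ℤ, (shiftFunctor D n).Additive] [Pretriangulated D] (Z W : D) :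
    Triangle.mk (0 : (shiftFunctor D (-1 : ℤ)).obj Z ⟶ W) (biprod.inr : W ⟶ Z ⊞ W)
      (biprod.fst ≫ (shiftEquiv D (1 : ℤ)).counitIso.inv.app Z) ∈ distinguishedTriangles := by
  refine isomorphic_distinguished _
    (inv_rot_of_distTriang _ (binaryBiproductTriangle_distinguished W Z)) _ ?_
  refine Triangle.isoMk _ _ (Iso.refl _) (Iso.refl _) (biprod.braiding Z W) ?_ ?_ ?_
  · simp
  · dsimp
    rw [Category.id_comp]
    apply biprod.hom_ext <;> simp
  · simp

open CategoryTheory.Pretriangulated in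
/-- (1) ⇔ (2) ⇔ (3) ⇔ (4): let D be a pretriangulated category, S a multiplicative system compatible
with the triangulated structure, and Q : D → S⁻¹D the localization functor. For an object Z of D the
following are equivalent: (1) Q(Z) = 0; (2) 0 : Z ⟶ Z' is in S for some Z'; (3) 0 : Z' ⟶ Z is in S
for some Z'; (4) there are an object Z' and a distinguished triangle (X, Y, Z ⊞ Z', f, g, h) with f
∈ S. (The further equivalences (5)–(7) for saturated S are not asserted.) -/
theorem result {D : Type u} [Category.{v} D] [Preadditive D] [HasZeroObject D] [HasShift D ℤ]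
    [∀ n : ℤ, (shiftFunctor D n).Additive] [Pretriangulated D]
    (S : MorphismProperty D) [S.HasLeftCalculusOfFractions] [S.HasRightCalculusOfFractions]
    [S.IsCompatibleWithTriangulation]
    {E : Type u'} [Category.{v'} E] (Q : D ⥤ E) [Q.IsLocalization S] (Z : D) :
    (IsZero (Q.obj Z) ↔ ∃ Z' : D, S (0 : Z ⟶ Z')) ∧
    (IsZero (Q.obj Z) ↔ ∃ Z' : D, S (0 : Z' ⟶ Z)) ∧
    (IsZero (Q.obj Z) ↔ ∃ (Z' X Y : D) (f : X ⟶ Y) (g : Y ⟶ Z ⊞ Z') (h : Z ⊞ Z' ⟶ (shiftFunctor D (1 : ℤ)).obj X),
      Triangle.mk f g h ∈ distinguishedTriangles ∧ S f) := by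
  refine ⟨Groth.Agent.H33.isZero_loc_iff_left S Q Z, Groth.Agent.H33.isZero_loc_iff_right S Q Z, ?_⟩
  constructor
  · intro hZ
    obtain ⟨Z', hZ'⟩ := (Groth.Agent.H33.isZero_loc_iff_left S Q Z).1 hZ
    have h0 : S (0 : (shiftFunctor D (-1 : ℤ)).obj Z ⟶ (shiftFunctor D (-1 : ℤ)).obj Z') := by
      have := S.shift hZ' (-1 : ℤ)
      rwa [Functor.map_zero] at this
    exact ⟨_, _, _, _, _, _, dist_aux Z ((shiftFunctor D (-1 : ℤ)).obj Z'), h0⟩
  · rintro ⟨Z', X, Y, f, g, h, hT, hf⟩
    exact Groth.Agent.H33.isZero_loc_biprod_left S Q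
      (Groth.Agent.H33.isZero_loc_obj₃_of_distinguished S Q _ hT hf)

end Groth.Agent.S6603
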