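import Groth.Statements.S6604
import Groth.Agent.H33.Loc

set_option autoImplicit false
universe v u v' u'
open CategoryTheory CategoryTheory.Limits
open CohDer

namespace Groth.Agent.S6604

open CategoryTheory.Pretriangulated ZeroObject in
/-- Let D be a triangulated category, B a full triangulated subcategory and Q : D → D/B the quotient
functor. Q sends an object Z of D to zero (Q(Z) = 0, i.e. Z belongs to the kernel of Q) exactly
when, for a suitable object Z' of D, the direct sum Z ⊞ Z' is isomorphic to some object lying in B;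
put differently, the kernel is the smallest saturated, strictly full triangulated subcategory that
contains B. -/
theorem result {D : Type u} [Category.{v} D] [Preadditive D] [HasZeroObject D] [HasShift D ℤ]
    [∀ n : ℤ, (shiftFunctor D n).Additive] [Pretriangulated D] [IsTriangulated D]
    (B : ObjectProperty D) [B.IsTriangulated]
    {E : Type u'} [Category.{v'} E] (Q : D ⥤ E) [Q.IsLocalization B.trW] (Z : D) :
    IsZero (Q.obj Z) ↔ ∃ (Z' Y : D), B Y ∧ Nonempty (Z ⊞ Z' ≅ Y) := by
  constructor
  · intro hZ
    obtain ⟨Z', hZ'⟩ := (Groth.Agent.H33.isZero_loc_iff_right B.trW Q Z).1 hZ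
    rw [ObjectProperty.trW_iff'] at hZ'
    obtain ⟨X, f, h, hT, hX⟩ := hZ'
    have hT'' := rot_of_distTriang _ (rot_of_distTriang _ hT)
    obtain ⟨e, -, -⟩ := exists_iso_binaryBiproduct_of_distTriang _ hT'' (by
      change -(shiftFunctor D (1 : ℤ)).map (0 : Z' ⟶ Z) = 0
      rw [Functor.map_zero, neg_zero])
    exact ⟨_, _, B.le_shift (1 : ℤ) _ hX, ⟨e.symm⟩⟩
  · rintro ⟨Z', Y, hY, ⟨e⟩⟩
    have hY' : IsZero (Q.obj Y) := by
      rw [Groth.Agent.H33.isZero_loc_iff_left B.trW Q Y]
      refine ⟨0, ?_⟩
      have := ObjectProperty.trW.mk B (rot_of_distTriang _ (contractible_distinguished Y))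
        (B.le_shift (1 : ℤ) _ hY)
      exact this
    exact Groth.Agent.H33.isZero_loc_biprod_left B.trW Q (hY'.of_iso (Q.mapIso e))

end Groth.Agent.S6604
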