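import Groth.Statements.S6607
import Mathlib.CategoryTheory.Triangulated.Orthogonal

set_option autoImplicit false
universe v u
open CategoryTheory CategoryTheory.Limits
open CohDer

namespace Groth.Agent.S6607

open CategoryTheory.Pretriangulated ObjectProperty

variable {D : Type u} [Category.{v} D] [Preadditive D] [HasZeroObject D] [HasShift D ℤ]
    [∀ n : ℤ, (shiftFunctor D n).Additive] [Pretriangulated D]

/-- An extension of an object of `^⊥B` by an object of `B` splits. -/
theorem extensionProduct_swap_le (B : ObjectProperty D) [B.IsStableUnderShift ℤ] :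
    extensionProduct B B.leftOrthogonal ≤ extensionProduct B.leftOrthogonal B := by
  rintro X ⟨Y, A, f, g, h, hT, hY, hA⟩
  have h0 : h = 0 := hA h (B.le_shift (1 : ℤ) _ hY)
  obtain ⟨e, -, -⟩ := exists_iso_binaryBiproduct_of_distTriang _ hT h0
  have hAY : extensionProduct B.leftOrthogonal B (A ⊞ Y) :=
    ⟨A, Y, _, _, _, binaryBiproductTriangle_distinguished A Y, hA, hY⟩
  exact (extensionProduct B.leftOrthogonal B).prop_of_iso
    ((biprod.braiding A Y) ≪≫ e.symm) hAY

theorem isTriangulated_extensionProduct [IsTriangulated D] (B : ObjectProperty D)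
    [B.IsTriangulated] :
    (extensionProduct B.leftOrthogonal B).IsTriangulated := by
  have hzero : (extensionProduct B.leftOrthogonal B).ContainsZero := by
    obtain ⟨Z, hZ, hBZ⟩ := B.exists_prop_of_containsZero
    exact ⟨Z, hZ, le_extensionProduct_right (P := B.leftOrthogonal) _ hBZ⟩
  have hclosed : (extensionProduct B.leftOrthogonal B).IsTriangulatedClosed₂ := by
    apply IsTriangulatedClosed₂.mk'
    intro T hT h₁ h₃
    have h2 : extensionProduct (extensionProduct B.leftOrthogonal B)
        (extensionProduct B.leftOrthogonal B) T.obj₂ :=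
      ⟨_, _, _, _, _, hT, h₁, h₃⟩
    rw [extensionProduct_assoc, ← extensionProduct_assoc B B.leftOrthogonal B] at h2
    have h3 := monotone_extensionProduct_right B.leftOrthogonal
      (monotone_extensionProduct_left B (extensionProduct_swap_le B)) _ h2
    rw [extensionProduct_assoc B.leftOrthogonal B B, ← extensionProduct_assoc] at h3
    have h4 := monotone_extensionProduct_left (extensionProduct B B)
      (extensionProduct_le_of_isTriangulatedClosed₂ (P₁ := B.leftOrthogonal)
        (P₂ := B.leftOrthogonal) (Q := B.leftOrthogonal) le_rfl le_rfl) _ h3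
    have h5 := monotone_extensionProduct_right B.leftOrthogonal
      (extensionProduct_le_of_isTriangulatedClosed₂' (P₁ := B) (P₂ := B) (Q := B)
        le_rfl le_rfl) _ h4
    rwa [extensionProduct_isoClosure_right] at h5
  exact { }

open CategoryTheory.Pretriangulated in
/-- Let D be a triangulated category and B a full triangulated subcategory. Let P(X) be the property:
there is a distinguished triangle A → X → B → A⟦1⟧ with B in B and A in ^⊥B. Then P satisfies
two-out-of-three in distinguished triangles, i.e. it is stable under all shifts and closed under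
extensions (a triangulated object property). -/
theorem result {D : Type u} [Category.{v} D] [Preadditive D] [HasZeroObject D] [HasShift D ℤ]
    [∀ n : ℤ, (shiftFunctor D n).Additive] [Pretriangulated D] [IsTriangulated D]
    (B : ObjectProperty D) [B.IsTriangulated] :
    ObjectProperty.IsTriangulated (fun X : D => ∃ (A Y : D) (f : A ⟶ X) (g : X ⟶ Y) (h : Y ⟶ (shiftFunctor D (1 : ℤ)).obj A),
      Triangle.mk f g h ∈ distinguishedTriangles ∧ B Y ∧ B.leftOrthogonal A) := by
  have : (fun X : D => ∃ (A Y : D) (f : A ⟶ X) (g : X ⟶ Y) (h : Y ⟶ (shiftFunctor D (1 : ℤ)).obj A),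
      Triangle.mk f g h ∈ distinguishedTriangles ∧ B Y ∧ B.leftOrthogonal A) =
      extensionProduct B.leftOrthogonal B := by
    funext X
    apply propext
    constructor
    · rintro ⟨A, Y, f, g, h, hT, hY, hA⟩
      exact ⟨A, Y, f, g, h, hT, hA, hY⟩
    · rintro ⟨A, Y, f, g, h, hT, hA, hY⟩
      exact ⟨A, Y, f, g, h, hT, hY, hA⟩
  rw [this]
  exact isTriangulated_extensionProduct B

end Groth.Agent.S6607
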