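import Groth.Statements.S6611
import Mathlib.Algebra.Homology.HomotopyCategory.KInjective
import Mathlib.Algebra.Homology.HomologySequenceLemmas
import Mathlib.Algebra.Homology.HomologicalComplexLimits

set_option autoImplicit false
universe v u
open CategoryTheory CategoryTheory.Limits
open CohDer

namespace Groth.Agent.S6611

/-- Let A be an abelian category, α : K ⟶ L a quasi-isomorphism of cochain complexes which is injective
in every degree, I a bounded below complex of injective objects and γ : K ⟶ I a morphism. Then there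
is a morphism β : L ⟶ I with α ≫ β = γ. -/
theorem result {A : Type u} [Category.{v} A] [Abelian A]
    (K L I : CochainComplex A ℤ) (α : K ⟶ L) [QuasiIso α] (hα : ∀ n : ℤ, Mono (α.f n))
    (a : ℤ) [I.IsStrictlyGE a] (hI : ∀ n : ℤ, Injective (I.X n)) (γ : K ⟶ I) :
    ∃ β : L ⟶ I, α ≫ β = γ := by
  classical
  have hIK : I.IsKInjective := by
    have : ∀ n : ℤ, Injective (I.X n) := hI
    exact CochainComplex.isKInjective_of_injective I a
  -- the cokernel complex
  have : ∀ n : ℤ, Mono (α.f n) := hα
  have : Mono α := HomologicalComplex.mono_of_mono_f α inferInstance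
  let C : CochainComplex A ℤ := cokernel α
  let π : L ⟶ C := cokernel.π α
  let S : ShortComplex (CochainComplex A ℤ) := ShortComplex.mk α π (cokernel.condition α)
  have hS : S.ShortExact :=
    { exact := ShortComplex.exact_cokernel α
      mono_f := inferInstance
      epi_g := inferInstance }
  have hC : C.Acyclic := hS.acyclic_X₃ (inferInstanceAs (QuasiIso α))
  have hSp : ∀ p : ℤ, (S.map (HomologicalComplex.eval A (ComplexShape.up ℤ) p)).ShortExact :=
    fun p => hS.map_of_exact _
  have hπepi : ∀ p : ℤ, Epi (π.f p) := fun p => (hSp p).epi_g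
  -- step 1: termwise extension
  let β' : CochainComplex.HomComplex.Cochain L I 0 :=
    CochainComplex.HomComplex.Cochain.ofHoms (fun p => Injective.factorThru (γ.f p) (α.f p))
  have hβ' : (CochainComplex.HomComplex.Cochain.ofHom α).comp β' (zero_add 0) =
      CochainComplex.HomComplex.Cochain.ofHom γ := by
    ext p
    simp [β', CochainComplex.HomComplex.Cochain.ofHoms_v]
  -- step 2
  let z' : CochainComplex.HomComplex.Cochain L I 1 := CochainComplex.HomComplex.δ 0 1 β'
  have hz' : (CochainComplex.HomComplex.Cochain.ofHom α).comp z' (zero_add 1) = 0 := by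
    rw [← CochainComplex.HomComplex.δ_ofHom_comp, hβ', CochainComplex.HomComplex.δ_ofHom]
  have hz'v : ∀ (p q : ℤ) (hpq : p + 1 = q), α.f p ≫ z'.v p q hpq = 0 := by
    intro p q hpq
    have := CochainComplex.HomComplex.Cochain.congr_v hz' p q hpq
    rwa [CochainComplex.HomComplex.Cochain.zero_cochain_comp_v,
      CochainComplex.HomComplex.Cochain.ofHom_v, CochainComplex.HomComplex.Cochain.zero_v] at this
  -- step 3
  have hdesc : ∀ (p : ℤ) {T : A} (x : L.X p ⟶ T), α.f p ≫ x = 0 →
      ∃ y : C.X p ⟶ T, π.f p ≫ y = x := by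
    intro p T x hx
    have := (hSp p).epi_g
    exact ⟨(hSp p).exact.desc x hx, (hSp p).exact.g_desc x hx⟩
  let z : CochainComplex.HomComplex.Cochain C I 1 :=
    CochainComplex.HomComplex.Cochain.mk (fun p q hpq =>
      (hdesc p (z'.v p q hpq) (hz'v p q hpq)).choose)
  have hz : (CochainComplex.HomComplex.Cochain.ofHom π).comp z (zero_add 1) = z' := by
    ext p q hpq
    rw [CochainComplex.HomComplex.Cochain.zero_cochain_comp_v,
      CochainComplex.HomComplex.Cochain.ofHom_v]
    exact (hdesc p (z'.v p q hpq) (hz'v p q hpq)).choose_spec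
  -- step 4
  have hδz : CochainComplex.HomComplex.δ 1 2 z = 0 := by
    have h1 : (CochainComplex.HomComplex.Cochain.ofHom π).comp (CochainComplex.HomComplex.δ 1 2 z)
        (zero_add 2) = 0 := by
      rw [← CochainComplex.HomComplex.δ_ofHom_comp, hz, CochainComplex.HomComplex.δ_δ]
    ext p q hpq
    have := CochainComplex.HomComplex.Cochain.congr_v h1 p q hpq
    rw [CochainComplex.HomComplex.Cochain.zero_cochain_comp_v,
      CochainComplex.HomComplex.Cochain.ofHom_v, CochainComplex.HomComplex.Cochain.zero_v] at this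
    rw [CochainComplex.HomComplex.Cochain.zero_v, ← cancel_epi (π.f p), this, comp_zero]
  -- step 5
  obtain ⟨h, hh⟩ := CochainComplex.IsKInjective.eq_δ_of_cocycle
    (CochainComplex.HomComplex.Cocycle.mk z 2 (by omega) hδz) hC 0 (zero_add 1)
  simp only [CochainComplex.HomComplex.Cocycle.mk_coe] at hh
  -- step 6
  let β'' : CochainComplex.HomComplex.Cochain L I 0 :=
    β' - (CochainComplex.HomComplex.Cochain.ofHom π).comp h (zero_add 0)
  have hβ'' : CochainComplex.HomComplex.δ 0 1 β'' = 0 := by
    simp only [β'', CochainComplex.HomComplex.δ_sub, CochainComplex.HomComplex.δ_ofHom_comp, hh, hz]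
    exact sub_self _
  let β : L ⟶ I := CochainComplex.HomComplex.Cocycle.homOf
    (CochainComplex.HomComplex.Cocycle.mk β'' 1 (zero_add 1) hβ'')
  refine ⟨β, ?_⟩
  apply (CochainComplex.HomComplex.Cocycle.equivHom K I).injective
  ext : 1
  simp only [CochainComplex.HomComplex.Cocycle.equivHom_apply,
    CochainComplex.HomComplex.Cocycle.ofHom_coe]
  rw [CochainComplex.HomComplex.Cochain.ofHom_comp]
  simp only [β, CochainComplex.HomComplex.Cocycle.cochain_ofHom_homOf_eq_coe,
    CochainComplex.HomComplex.Cocycle.mk_coe, β'']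
  rw [CochainComplex.HomComplex.Cochain.comp_sub, hβ',
    ← CochainComplex.HomComplex.Cochain.comp_assoc_of_first_is_zero_cochain,
    ← CochainComplex.HomComplex.Cochain.ofHom_comp]
  have : α ≫ π = 0 := cokernel.condition α
  rw [this]
  simp

end Groth.Agent.S6611
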