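import Groth.Statements.S6612

set_option autoImplicit false
universe v u
open CategoryTheory CategoryTheory.Limits
open CohDer

namespace Groth.Agent.S6612

theorem eq_nullHomotopicMap_of_homotopy_zero {V : Type u} [Category.{v} V] [Preadditive V]
    {K L : CochainComplex V ℤ} {f : K ⟶ L} (h : Homotopy f 0) :
    f = Homotopy.nullHomotopicMap h.hom := by
  ext i
  have := h.comm i
  rw [HomologicalComplex.zero_f_apply, add_zero] at this
  exact this

/-- Let A be an additive category and 0 → A₂ → B₂ → C₂ → 0 a termwise split exact sequence of complexes.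
Given a chain map b from a complex B₁ into B₂ and a chain map b' from B₂ into a complex B₃, suppose
that both composites b ≫ (B₂ → C₂) and (A₂ → B₂) ≫ b' are null-homotopic. Then b ≫ b' is homotopic
to zero. (The published statement has three termwise split sequences Aᵢ → Bᵢ → Cᵢ and asks both
squares of each diagram to commute up to homotopy; this row keeps only the middle sequence and the
two conditions at B₂ that the argument uses, so it is more general.) -/
theorem result {V : Type u} [Category.{v} V] [Preadditive V] [HasBinaryBiproducts V]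
    (S : ShortComplex (CochainComplex V ℤ))
    (σ : ∀ n : ℤ, (S.map (HomologicalComplex.eval V (ComplexShape.up ℤ) n)).Splitting)
    {B₁ B₃ : CochainComplex V ℤ} (b : B₁ ⟶ S.X₂) (b' : S.X₂ ⟶ B₃)
    (hb : Nonempty (Homotopy (b ≫ S.g) 0)) (hb' : Nonempty (Homotopy (S.f ≫ b') 0)) :
    Nonempty (Homotopy (b ≫ b') 0) := by
  obtain ⟨h⟩ := hb
  obtain ⟨h'⟩ := hb'
  -- the splitting data, degreewise
  let r : ∀ n : ℤ, S.X₂.X n ⟶ S.X₁.X n := fun n => (σ n).r
  let s : ∀ n : ℤ, S.X₃.X n ⟶ S.X₂.X n := fun n => (σ n).s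
  have hfr : ∀ n, S.f.f n ≫ r n = 𝟙 _ := fun n => (σ n).f_r
  have hsg : ∀ n, s n ≫ S.g.f n = 𝟙 _ := fun n => (σ n).s_g
  have hid : ∀ n, r n ≫ S.f.f n + S.g.f n ≫ s n = 𝟙 _ := fun n => (σ n).id
  let k : ∀ i j : ℤ, B₁.X i ⟶ S.X₂.X j := fun i j => h.hom i j ≫ s j
  let b₁ : B₁ ⟶ S.X₂ := b - Homotopy.nullHomotopicMap k
  have hk0 : ∀ i j, ¬ (ComplexShape.up ℤ).Rel j i → k i j = 0 := fun i j hij => by
    simp only [k, h.zero i j hij, zero_comp]
  have Hb : Homotopy b b₁ := by
    have : b - b₁ = Homotopy.nullHomotopicMap k := by simp [b₁]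
    exact (Homotopy.equivSubZero).symm (this ▸ Homotopy.nullHomotopy k hk0)
  have hb₁g : b₁ ≫ S.g = 0 := by
    have h1 : Homotopy.nullHomotopicMap k ≫ S.g = Homotopy.nullHomotopicMap h.hom := by
      rw [Homotopy.nullHomotopicMap_comp]
      congr 1
      funext i j
      simp only [k, Category.assoc, hsg, Category.comp_id]
    simp only [b₁, Preadditive.sub_comp, h1]
    rw [sub_eq_zero]
    exact eq_nullHomotopicMap_of_homotopy_zero h
  have hb₁g' : ∀ n, b₁.f n ≫ S.g.f n = 0 := fun n => by
    rw [← HomologicalComplex.comp_f, hb₁g, HomologicalComplex.zero_f_apply]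
  have hfac : ∀ n, (b₁.f n ≫ r n) ≫ S.f.f n = b₁.f n := fun n => by
    have := hid n
    calc (b₁.f n ≫ r n) ≫ S.f.f n
        = b₁.f n ≫ (r n ≫ S.f.f n + S.g.f n ≫ s n) := by
          rw [Preadditive.comp_add, ← Category.assoc (b₁.f n) (S.g.f n), hb₁g', zero_comp,
            add_zero, Category.assoc]
      _ = b₁.f n := by rw [this, Category.comp_id]
  have hmono : ∀ n, Mono (S.f.f n) := fun n => (SplitMono.mk (r n) (hfr n)).mono
  let a : B₁ ⟶ S.X₁ :=
    { f := fun n => b₁.f n ≫ r n
      comm' := fun i j _ => by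
        rw [← cancel_mono (S.f.f j), Category.assoc, Category.assoc, Category.assoc,
          ← S.f.comm, ← Category.assoc (b₁.f i), ← Category.assoc (b₁.f i ≫ r i), hfac,
          hfac, b₁.comm] }
  have ha : a ≫ S.f = b₁ := by
    ext n
    exact hfac n
  have H1 : Homotopy (b₁ ≫ b') 0 := by
    rw [← ha, Category.assoc]
    exact (h'.compLeft a).trans (Homotopy.ofEq (by simp))
  exact ⟨(Hb.compRight b').trans H1⟩

end Groth.Agent.S6612
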