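import Groth.Statements.S6614
import Groth.Agent.H33.Split

set_option autoImplicit false
universe v u
open CategoryTheory CategoryTheory.Limits Opposite
open CohDer

namespace Groth.Agent.S6614

/-- Let D be a triangulated category and (A_n) an ℕ-indexed inverse system of D which is essentially
constant with value A relative to the cone c. Then there are an index i and direct sum
decompositions A_{i+j} ≅ A ⊞ Z_j (j ≥ 0) such that (a) c_{i+j} is the inclusion of the summand A and
the transition maps A_{i+k} → A_{i+j} are 𝟙_A ⊕ (Z_k → Z_j), and (b) for every j there is k ≥ j with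
Z_k → Z_j zero. (The published statement is an equivalence whose converse is given without proof;
this row states only the forward implication.) -/
theorem result {D : Type u} [Category.{v} D] [Preadditive D] [HasZeroObject D] [HasShift D ℤ]
    [∀ n : ℤ, (shiftFunctor D n).Additive] [Pretriangulated D] [IsTriangulated D]
    (X : ARSys.PS D) (A : D) (c : (Functor.const ℕᵒᵖ).obj A ⟶ X) (hX : DerCA.IsEssConstant X A c) :
    ∃ (i : ℕ) (Z : ℕ → D) (e : ∀ j : ℕ, X.obj (op (i + j)) ≅ A ⊞ Z j) (z : ∀ j k : ℕ, j ≤ k → (Z k ⟶ Z j)),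
      (∀ j : ℕ, c.app (op (i + j)) ≫ (e j).hom = biprod.inl) ∧
      (∀ (j k : ℕ) (hjk : j ≤ k), (e k).inv ≫ ARSys.tr X (Nat.add_le_add_left hjk i) = biprod.map (𝟙 A) (z j k hjk) ≫ (e j).inv) ∧
      (∀ j : ℕ, ∃ (k : ℕ) (hjk : j ≤ k), z j k hjk = 0) := by
  obtain ⟨i, s, hs, hk⟩ := hX
  let cc : ∀ n : ℕ, A ⟶ X.obj (op n) := fun n => c.app (op n)
  have hs' : cc i ≫ s = 𝟙 A := hs
  have hk' : ∀ j : ℕ, ∃ (k : ℕ) (hi : i ≤ k) (hj : j ≤ k),
      ARSys.tr X hj = ARSys.tr X hi ≫ s ≫ cc j := hk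
  have natc : ∀ {n m : ℕ} (hnm : n ≤ m), cc m ≫ ARSys.tr X hnm = cc n := by
    intro n m hnm
    have := c.naturality (homOfLE hnm).op
    simp only [Functor.const_obj_obj, Functor.const_obj_map, Category.id_comp] at this
    exact this.symm
  have trX : ∀ {a b d : ℕ} (hab : a ≤ b) (hbd : b ≤ d),
      ARSys.tr X hbd ≫ ARSys.tr X hab = ARSys.tr X (hab.trans hbd) := by
    intro a b d hab hbd
    rw [← X.map_comp]; rfl
  let sj : ∀ j : ℕ, X.obj (op (i + j)) ⟶ A := fun j => ARSys.tr X (Nat.le_add_right i j) ≫ s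
  have hsj : ∀ j, cc (i + j) ≫ sj j = 𝟙 A := fun j => by
    simp only [sj]
    rw [← Category.assoc, natc, hs']
  have hex : ∀ j : ℕ, ∃ (Zj : D) (ej : X.obj (op (i + j)) ≅ A ⊞ Zj),
      cc (i + j) ≫ ej.hom = biprod.inl ∧ ej.hom ≫ biprod.fst = sj j := fun j =>
    Groth.Agent.H33.exists_biprod_iso_of_retraction (cc (i + j)) (sj j) (hsj j)
  choose Z e he₁ he₂ using hex
  have F3 : ∀ j, biprod.inl ≫ (e j).inv = cc (i + j) := fun j => by
    rw [← he₁ j, Category.assoc, Iso.hom_inv_id, Category.comp_id]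
  have F2 : ∀ (j k : ℕ) (hjk : j ≤ k), ARSys.tr X (Nat.add_le_add_left hjk i) ≫ sj j = sj k := by
    intro j k hjk
    simp only [sj]
    rw [← Category.assoc, trX]
  let M : ∀ (j k : ℕ) (hjk : j ≤ k), A ⊞ Z k ⟶ A ⊞ Z j := fun j k hjk =>
    (e k).inv ≫ ARSys.tr X (Nat.add_le_add_left hjk i) ≫ (e j).hom
  have hM1 : ∀ (j k : ℕ) (hjk : j ≤ k), biprod.inl ≫ M j k hjk = biprod.inl := by
    intro j k hjk
    simp only [M]
    rw [← Category.assoc, F3, ← Category.assoc, natc, he₁]
  have hM2 : ∀ (j k : ℕ) (hjk : j ≤ k), M j k hjk ≫ biprod.fst = biprod.fst := by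
    intro j k hjk
    simp only [M, Category.assoc]
    rw [he₂, F2 j k hjk, ← he₂ k, Iso.inv_hom_id_assoc]
  have hM : ∀ (j k : ℕ) (hjk : j ≤ k),
      M j k hjk = biprod.map (𝟙 A) (biprod.inr ≫ M j k hjk ≫ biprod.snd) := by
    intro j k hjk
    apply biprod.hom_ext'
    · rw [hM1 j k hjk]
      apply biprod.hom_ext <;> simp
    · apply biprod.hom_ext
      · rw [Category.assoc, hM2 j k hjk]
        simp
      · simp
  refine ⟨i, Z, e, fun j k hjk => biprod.inr ≫ M j k hjk ≫ biprod.snd, he₁, ?_, ?_⟩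
  · intro j k hjk
    rw [← cancel_mono (e j).hom, Category.assoc, Category.assoc, Iso.inv_hom_id, Category.comp_id]
    exact hM j k hjk
  · intro j
    obtain ⟨k', hi, hj, hfac⟩ := hk' (i + j)
    obtain ⟨k, rfl⟩ := Nat.exists_eq_add_of_le hi
    have hjk : j ≤ k := by omega
    refine ⟨k, hjk, ?_⟩
    have h1 : ARSys.tr X (Nat.add_le_add_left hjk i) = sj k ≫ cc (i + j) := by
      simp only [sj]
      rw [Category.assoc]
      exact hfac
    have h2 : M j k hjk = biprod.fst ≫ biprod.inl := by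
      simp only [M]
      rw [h1, ← he₂ k, Category.assoc, Category.assoc, he₁, Iso.inv_hom_id_assoc]
    change biprod.inr ≫ M j k hjk ≫ biprod.snd = 0
    rw [h2]
    simp

end Groth.Agent.S6614
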