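import Groth.Statements.S6617
import Groth.Agent.S6598

set_option autoImplicit false
universe v u
open CategoryTheory CategoryTheory.Limits
open CohDer

namespace Groth.Agent.S6617

/-- Let A be an additive category and A₀ → A₁ → A₂ → … a sequence of composable morphisms of complexes.
There are complexes Bᵢ, homotopy equivalences Bᵢ ⟶ Aᵢ and termwise split injections Bᵢ ⟶ Bᵢ₊₁
forming a commutative ladder over the given sequence. Moreover if all Aᵢ are bounded below, resp.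
bounded above, then the Bᵢ may be chosen bounded below, resp. bounded above. (The published
statement is for finite sequences A₁ → … → A_n; this row takes a sequence indexed by ℕ, built by the
same step-by-step construction.) -/
theorem result {V : Type u} [Category.{v} V] [Preadditive V] [HasBinaryBiproducts V] [HasZeroObject V]
    (X : ℕ → CochainComplex V ℤ) (a : ∀ i, X i ⟶ X (i + 1)) :
    ∃ (B : ℕ → CochainComplex V ℤ) (b : ∀ i, B i ⟶ B (i + 1)) (e : ∀ i, HomotopyEquiv (B i) (X i)),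
      (∀ i, b i ≫ (e (i + 1)).hom = (e i).hom ≫ a i) ∧
      (∀ (i : ℕ) (n : ℤ), ∃ (C : V) (ε : (B (i + 1)).X n ≅ (B i).X n ⊞ C), (b i).f n ≫ ε.hom = biprod.inl) ∧
      ((∀ i, ∃ m : ℤ, (X i).IsStrictlyGE m) → ∀ i, ∃ m : ℤ, (B i).IsStrictlyGE m) ∧
      ((∀ i, ∃ m : ℤ, (X i).IsStrictlyLE m) → ∀ i, ∃ m : ℤ, (B i).IsStrictlyLE m) := by
  classical
  have key : ∀ (i : ℕ) (Be : Σ (B : CochainComplex V ℤ), HomotopyEquiv B (X i)),
      ∃ (B' : CochainComplex V ℤ) (b : Be.1 ⟶ B') (e' : HomotopyEquiv B' (X (i + 1))),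
      b ≫ e'.hom = Be.2.hom ≫ a i ∧
      (∀ n : ℤ, ∃ (C : V) (ε : B'.X n ≅ Be.1.X n ⊞ C), b.f n ≫ ε.hom = biprod.inl) ∧
      (∀ m : ℤ, Be.1.IsStrictlyGE m → (X (i + 1)).IsStrictlyGE m → ∃ m' : ℤ, B'.IsStrictlyGE m') ∧
      (∀ m : ℤ, Be.1.IsStrictlyLE m → (X (i + 1)).IsStrictlyLE m → ∃ m' : ℤ, B'.IsStrictlyLE m') := by
    intro i Be
    obtain ⟨L', α', π, s, h1, h2, ⟨h3⟩, h4, h5, h6⟩ :=
      Groth.Agent.S6598.result Be.1 (X (i + 1)) (Be.2.hom ≫ a i)
    exact ⟨L', α', ⟨π, s, h3, Homotopy.ofEq h2⟩, h1, h4, h5, h6⟩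
  choose B' b' e' hb hsplit hGE hLE using key
  let S : ∀ i : ℕ, Σ (B : CochainComplex V ℤ), HomotopyEquiv B (X i) := fun i =>
    Nat.rec (motive := fun i => Σ (B : CochainComplex V ℤ), HomotopyEquiv B (X i))
      ⟨X 0, HomotopyEquiv.refl _⟩ (fun i Be => ⟨B' i Be, e' i Be⟩) i
  refine ⟨fun i => (S i).1, fun i => b' i (S i), fun i => (S i).2, ?_, ?_, ?_, ?_⟩
  · intro i
    exact hb i (S i)
  · intro i n
    exact hsplit i (S i) n
  · intro hX i
    induction i with
    | zero => exact hX 0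
    | succ i ih =>
      obtain ⟨m₁, hm₁⟩ := ih
      obtain ⟨m₂, hm₂⟩ := hX (i + 1)
      have h1 : (S i).1.IsStrictlyGE (min m₁ m₂) :=
        CochainComplex.isStrictlyGE_of_ge _ _ m₁ (min_le_left _ _)
      have h2 : (X (i + 1)).IsStrictlyGE (min m₁ m₂) :=
        CochainComplex.isStrictlyGE_of_ge _ _ m₂ (min_le_right _ _)
      exact hGE i (S i) _ h1 h2
  · intro hX i
    induction i with
    | zero => exact hX 0
    | succ i ih =>
      obtain ⟨m₁, hm₁⟩ := ih
      obtain ⟨m₂, hm₂⟩ := hX (i + 1)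
      have h1 : (S i).1.IsStrictlyLE (max m₁ m₂) :=
        CochainComplex.isStrictlyLE_of_le _ m₁ _ (le_max_left _ _)
      have h2 : (X (i + 1)).IsStrictlyLE (max m₁ m₂) :=
        CochainComplex.isStrictlyLE_of_le _ m₂ _ (le_max_right _ _)
      exact hLE i (S i) _ h1 h2

end Groth.Agent.S6617
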