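import Groth.Statements.S6619
import Groth.Agent.H33.RDLes

set_option autoImplicit false
universe v v' u u'
open CategoryTheory CategoryTheory.Limits
open CohDer

namespace Groth.Agent.S6619

/-- In the case where A has enough injectives (an object X is right acyclic for the left exact functor F
when RⁱF(X) = 0 for all i > 0): suppose A and B are abelian categories, A has enough injectives, F :
A ⥤ B is left exact, and 0 → X₁ → X₂ → X₃ → 0 is a short exact sequence of A. (1) If X₁, X₃ are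
right acyclic so is X₂; (2) if X₁, X₂ are right acyclic so is X₃; (3) if X₂, X₃ are right acyclic
and F(X₂) ⟶ F(X₃) is surjective then X₁ is right acyclic. In each of the three cases 0 → F(X₁) →
F(X₂) → F(X₃) → 0 is short exact. -/
theorem result {A : Type u} [Category.{v} A] [Abelian A] [EnoughInjectives A]
    {B : Type u'} [Category.{v'} B] [Abelian B] (F : A ⥤ B) [F.Additive] [PreservesFiniteLimits F]
    (S : ShortComplex A) (hS : S.ShortExact) :
    ((∀ i : ℕ, 0 < i → IsZero ((F.rightDerived i).obj S.X₁)) → (∀ i : ℕ, 0 < i → IsZero ((F.rightDerived i).obj S.X₃)) →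
      (∀ i : ℕ, 0 < i → IsZero ((F.rightDerived i).obj S.X₂)) ∧ (S.map F).ShortExact) ∧
    ((∀ i : ℕ, 0 < i → IsZero ((F.rightDerived i).obj S.X₁)) → (∀ i : ℕ, 0 < i → IsZero ((F.rightDerived i).obj S.X₂)) →
      (∀ i : ℕ, 0 < i → IsZero ((F.rightDerived i).obj S.X₃)) ∧ (S.map F).ShortExact) ∧
    ((∀ i : ℕ, 0 < i → IsZero ((F.rightDerived i).obj S.X₂)) → (∀ i : ℕ, 0 < i → IsZero ((F.rightDerived i).obj S.X₃)) →
      Epi (F.map S.g) → (∀ i : ℕ, 0 < i → IsZero ((F.rightDerived i).obj S.X₁)) ∧ (S.map F).ShortExact) := by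
  classical
  obtain ⟨-, ex₂, δ, hδ⟩ := Groth.Agent.H33.RDLes.exists_les F S hS
  -- left exactness of `F`
  have hle : (S.map F).Exact ∧ Mono (F.map S.f) :=
    (F.preservesFiniteLimits_iff_forall_exact_map_and_mono).1 inferInstance S hS
  -- `F g` is an epimorphism iff `R⁰F g` is
  have hnat : ∀ {X Y : A} (f : X ⟶ Y), F.map f =
      F.rightDerivedZeroIsoSelf.inv.app X ≫ (F.rightDerived 0).map f ≫
        F.rightDerivedZeroIsoSelf.hom.app Y := by
    intro X Y f
    rw [F.rightDerivedZeroIsoSelf.hom.naturality f, Iso.inv_hom_id_app_assoc]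
  have hnat' : ∀ {X Y : A} (f : X ⟶ Y), (F.rightDerived 0).map f =
      F.rightDerivedZeroIsoSelf.hom.app X ≫ F.map f ≫
        F.rightDerivedZeroIsoSelf.inv.app Y := by
    intro X Y f
    rw [← F.rightDerivedZeroIsoSelf.hom.naturality_assoc f, Iso.hom_inv_id_app, Category.comp_id]
  -- short exactness of `F S` from the vanishing of `R¹F X₁`
  have hses : IsZero ((F.rightDerived 1).obj S.X₁) → (S.map F).ShortExact := by
    intro h1
    obtain ⟨w₁, w₂, e₁, e₂⟩ := hδ 0
    have hepi : Epi ((F.rightDerived 0).map S.g) :=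
      (ShortComplex.exact_iff_epi _ (h1.eq_of_tgt _ _)).1 e₁
    have : Epi (F.map S.g) := by
      rw [hnat S.g]
      infer_instance
    have : Mono (F.map S.f) := hle.2
    exact ShortComplex.ShortExact.mk' hle.1 ‹_› ‹_›
  refine ⟨?_, ?_, ?_⟩
  · intro h₁ h₃
    refine ⟨fun i hi => ?_, hses (h₁ 1 Nat.one_pos)⟩
    exact (ex₂ i).isZero_of_both_zeros ((h₁ i hi).eq_of_src _ _) ((h₃ i hi).eq_of_tgt _ _)
  · intro h₁ h₂
    refine ⟨fun i hi => ?_, hses (h₁ 1 Nat.one_pos)⟩
    obtain ⟨w₁, w₂, e₁, e₂⟩ := hδ i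
    exact e₁.isZero_of_both_zeros ((h₂ i hi).eq_of_src _ _)
      ((h₁ (i + 1) (Nat.succ_pos i)).eq_of_tgt _ _)
  · intro h₂ h₃ hepi
    have key : ∀ i : ℕ, 0 < i → IsZero ((F.rightDerived i).obj S.X₁) := by
      intro i hi
      obtain ⟨k, rfl⟩ : ∃ k, i = k + 1 := ⟨i - 1, by omega⟩
      obtain ⟨w₁, w₂, e₁, e₂⟩ := hδ k
      rcases Nat.eq_zero_or_pos k with rfl | hk
      · -- `i = 1`
        have hepi0 : Epi ((F.rightDerived 0).map S.g) := by
          rw [hnat' S.g]
          infer_instance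
        have hδ0 : δ 0 = 0 := by
          rw [← cancel_epi ((F.rightDerived 0).map S.g), w₁, comp_zero]
        have hepiδ : Epi (δ 0) :=
          (ShortComplex.exact_iff_epi _ ((h₂ 1 Nat.one_pos).eq_of_tgt _ _)).1 e₂
        rw [IsZero.iff_id_eq_zero, ← cancel_epi (δ 0), hδ0, zero_comp, zero_comp]
      · exact e₂.isZero_of_both_zeros ((h₃ k hk).eq_of_src _ _)
          ((h₂ (k + 1) (Nat.succ_pos k)).eq_of_tgt _ _)
    exact ⟨key, hses (key 1 Nat.one_pos)⟩

end Groth.Agent.S6619
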