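import Groth.Statements.S6620
import Mathlib

set_option autoImplicit false
universe w w' v v' u u'
open CategoryTheory CategoryTheory.Limits
open CohDer

namespace Groth.Agent.S6620

/-- Part (1): in the case where A has enough injectives (so that RF is defined on all of D⁺(A)): let F :
A ⥤ B be an additive functor between abelian categories, A with enough injectives, and K ∈ D⁺(A)
with Hⁱ(K) = 0 for i < a. Then Hⁱ(RF(K)) = 0 for i < a. -/
theorem result {A : Type u} [Category.{v} A] [Abelian A] [HasDerivedCategory.{w} A] [EnoughInjectives A]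
    {B : Type u'} [Category.{v'} B] [Abelian B] [HasDerivedCategory.{w'} B]
    (F : A ⥤ B) [F.Additive] (K : DerivedCategory.Plus A) (a : ℤ) [K.IsGE a] :
    (F.rightDerivedFunctorPlus.obj K).IsGE a := by
  obtain ⟨L, hL, ⟨e⟩⟩ := DerivedCategory.Plus.exists_injective_nonempty_iso K a
  let KL := (HomotopyCategory.Plus.quotient A).obj
    ((InjectiveObject.ι A).mapCochainComplexPlus.obj L)
  have hiso : IsIso (F.rightDerivedFunctorPlusUnit.app KL) := inferInstance
  have e' : F.rightDerivedFunctorPlus.obj K ≅
      DerivedCategory.Plus.Qh.obj (F.mapHomotopyCategoryPlus.obj KL) :=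
    (F.rightDerivedFunctorPlus.mapIso e.symm) ≪≫
      (asIso (F.rightDerivedFunctorPlusUnit.app KL)).symm
  have key : (DerivedCategory.Plus.Qh.obj (F.mapHomotopyCategoryPlus.obj KL)).IsGE a := by
    rw [← DerivedCategory.Plus.isGE_ι_obj_iff]
    let M : CochainComplex B ℤ := (F.mapHomologicalComplex _).obj
      (((InjectiveObject.ι A).mapHomologicalComplex _).obj L.obj)
    have hM : M.IsStrictlyGE a := inferInstance
    have : M.IsGE a := inferInstance
    have h2 : (DerivedCategory.Q.obj M).IsGE a := by
      rw [DerivedCategory.isGE_Q_obj_iff]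
      infer_instance
    exact DerivedCategory.TStructure.t.isGE_of_iso
      ((DerivedCategory.quotientCompQhIso B).symm.app M) a
  exact DerivedCategory.Plus.TStructure.t.isGE_of_iso e'.symm a

end Groth.Agent.S6620
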