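import Groth.Statements.S6622
import Groth.Agent.H33.HoTriang

set_option autoImplicit false
universe v u
open CategoryTheory CategoryTheory.Limits
open CohDer

namespace Groth.Agent.S6622

/-- Let A be an additive category. The full subcategories K⁻(A) (complexes K with Kⁿ = 0 for n ≫ 0) and
Kᵇ(A) (Kⁿ = 0 for |n| ≫ 0) of the homotopy category K(A) are full triangulated subcategories. -/
theorem result {V : Type u} [Category.{v} V] [Preadditive V] [HasZeroObject V] [HasBinaryBiproducts V] :
    (ObjectProperty.IsTriangulated (fun K : HomotopyCategory V (ComplexShape.up ℤ) => ∃ n : ℤ, CochainComplex.IsStrictlyLE K.as n)) ∧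
    (ObjectProperty.IsTriangulated (fun K : HomotopyCategory V (ComplexShape.up ℤ) =>
      ∃ a b : ℤ, CochainComplex.IsStrictlyGE K.as a ∧ CochainComplex.IsStrictlyLE K.as b)) := by
  constructor
  · refine Groth.Agent.H33.isTriangulated_of_complexProperty
      (fun K => ∃ n : ℤ, CochainComplex.IsStrictlyLE K n) ⟨0, inferInstance⟩ ?_ ?_
    · rintro K a ⟨n, hn⟩
      exact ⟨n - a, K.isStrictlyLE_shift n a (n - a) (by omega)⟩
    · rintro K L f ⟨n₁, h₁⟩ ⟨n₂, h₂⟩
      refine ⟨max n₁ n₂, ?_⟩
      rw [CochainComplex.isStrictlyLE_iff]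
      intro i hi
      rw [CochainComplex.mappingCone.isZero_X_iff]
      have := le_max_left n₁ n₂
      have := le_max_right n₁ n₂
      exact ⟨K.isZero_of_isStrictlyLE n₁ _ (by omega), L.isZero_of_isStrictlyLE n₂ _ (by omega)⟩
  · refine Groth.Agent.H33.isTriangulated_of_complexProperty
      (fun K => ∃ a b : ℤ, CochainComplex.IsStrictlyGE K a ∧ CochainComplex.IsStrictlyLE K b)
      ⟨0, 0, inferInstance, inferInstance⟩ ?_ ?_
    · rintro K c ⟨a, b, ha, hb⟩
      exact ⟨a - c, b - c, K.isStrictlyGE_shift a c (a - c) (by omega),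
        K.isStrictlyLE_shift b c (b - c) (by omega)⟩
    · rintro K L f ⟨a₁, b₁, ha₁, hb₁⟩ ⟨a₂, b₂, ha₂, hb₂⟩
      refine ⟨min a₁ a₂ - 1, max b₁ b₂, ?_, ?_⟩
      · rw [CochainComplex.isStrictlyGE_iff]
        intro i hi
        rw [CochainComplex.mappingCone.isZero_X_iff]
        have := min_le_left a₁ a₂
        have := min_le_right a₁ a₂
        exact ⟨K.isZero_of_isStrictlyGE a₁ _ (by omega), L.isZero_of_isStrictlyGE a₂ _ (by omega)⟩
      · rw [CochainComplex.isStrictlyLE_iff]
        intro i hi
        rw [CochainComplex.mappingCone.isZero_X_iff]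
        have := le_max_left b₁ b₂
        have := le_max_right b₁ b₂
        exact ⟨K.isZero_of_isStrictlyLE b₁ _ (by omega), L.isZero_of_isStrictlyLE b₂ _ (by omega)⟩

end Groth.Agent.S6622
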