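import Groth.Statements.S6623
import Groth.Agent.H33.ShiftHom

set_option autoImplicit false
universe v u
open CategoryTheory CategoryTheory.Limits
open CohDer

namespace Groth.Agent.S6623

open CategoryTheory.Pretriangulated in
/-- Let D be a triangulated category, φ : X ⟶ X' a morphism of chain complexes in D considered in
degrees ≤ n, where a Postnikov system for the complex X_n → … → X_0 consists of objects Y_k, an
isomorphism Y_0 ⟶ X_0, and for 0 ≤ k < n distinguished triangles Y_{k+1} ⟶ X_{k+1} ⟶ Y_k ⟶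
Y_{k+1}⟦1⟧ with X_{k+1} ⟶ Y_k ⟶ X_k the differential; let (Y, a, b, c) and (Y', a', b', c') be
Postnikov systems for X and X'. If Hom(X_{j-i}⟦1-i⟧, X'_j) = 0 and Hom(X_j, X'_{j-i}⟦-i⟧) = 0 for
all 0 < i ≤ j ≤ n, then there is at most one morphism of Postnikov systems extending φ: two such
morphisms agree on Y_k for every k ≤ n. -/
theorem result {D : Type u} [Category.{v} D] [Preadditive D] [HasZeroObject D] [HasShift D ℤ]
    [∀ n : ℤ, (shiftFunctor D n).Additive] [Pretriangulated D] [IsTriangulated D]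
    (X X' : ChainComplex D ℕ) (φ : X ⟶ X') (n : ℕ)
    (Y : ℕ → D) (a : ∀ k, Y k ⟶ X.X k) (b : ∀ k, X.X (k + 1) ⟶ Y k)
    (c : ∀ k, Y k ⟶ (shiftFunctor D (1 : ℤ)).obj (Y (k + 1)))
    (h0 : IsIso (a 0))
    (hP : ∀ k, k < n → Triangle.mk (a (k + 1)) (b k) (c k) ∈ distinguishedTriangles ∧ b k ≫ a k = X.d (k + 1) k)
    (qY : ℕ → D) (qa : ∀ k, qY k ⟶ X'.X k) (qb : ∀ k, X'.X (k + 1) ⟶ qY k)
    (qc : ∀ k, qY k ⟶ (shiftFunctor D (1 : ℤ)).obj (qY (k + 1)))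
    (qh0 : IsIso (qa 0))
    (qhP : ∀ k, k < n → Triangle.mk (qa (k + 1)) (qb k) (qc k) ∈ distinguishedTriangles ∧ qb k ≫ qa k = X'.d (k + 1) k)
    (hv : ∀ i j : ℕ, 0 < i → i ≤ j → j ≤ n →
      (∀ ψ : (shiftFunctor D (1 - (i : ℤ))).obj (X.X (j - i)) ⟶ X'.X j, ψ = 0) ∧
      (∀ ψ : X.X j ⟶ (shiftFunctor D (-(i : ℤ))).obj (X'.X (j - i)), ψ = 0))
    (y z : ∀ k, Y k ⟶ qY k)
    (hy : (∀ k, k ≤ n → y k ≫ qa k = a k ≫ φ.f k) ∧
      (∀ k, k < n → b k ≫ y k = φ.f (k + 1) ≫ qb k ∧ c k ≫ (shiftFunctor D (1 : ℤ)).map (y (k + 1)) = y k ≫ qc k))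
    (hz : (∀ k, k ≤ n → z k ≫ qa k = a k ≫ φ.f k) ∧
      (∀ k, k < n → b k ≫ z k = φ.f (k + 1) ≫ qb k ∧ c k ≫ (shiftFunctor D (1 : ℤ)).map (z (k + 1)) = z k ≫ qc k))
    (k : ℕ) (hk : k ≤ n) :
    y k = z k := by
  -- (V1): Hom(Y_s, X'_{k+1}⟦k - s⟧) = 0 for s ≤ k < n
  have V1 : ∀ k, k < n → ∀ s, s ≤ k →
      ∀ ψ : Y s ⟶ (shiftFunctor D ((k : ℤ) - s)).obj (X'.X (k + 1)), ψ = 0 := by
    intro k hk s
    induction s with
    | zero =>
      intro _ ψ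
      have H0 : ∀ ψ' : X.X 0 ⟶ (shiftFunctor D ((k : ℤ) - (0 : ℕ))).obj (X'.X (k + 1)), ψ' = 0 :=
        fun ψ' => Groth.Agent.H33.hom_to_shift_eq_zero (1 - ((k + 1 : ℕ) : ℤ)) ((k : ℤ) - (0 : ℕ))
          (by omega)
          (fun ψ'' => Groth.Agent.H33.hom_eq_zero_transport_src (F := X.X) (k + 1 - (k + 1)) 0
            (by omega) _ (hv (k + 1) (k + 1) (by omega) le_rfl (by omega)).1 ψ'') ψ'
      have : ψ = a 0 ≫ (inv (a 0) ≫ ψ) := by rw [IsIso.hom_inv_id_assoc]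
      rw [this, H0 (inv (a 0) ≫ ψ), comp_zero]
    | succ s IH =>
      intro hs ψ
      have hT := (hP s (by omega)).1
      have h1 : (Triangle.mk (a (s + 1)) (b s) (c s)).invRotate.mor₁ ≫ ψ = 0 :=
        Groth.Agent.H33.hom_shift_to_shift_eq_zero ((k : ℤ) - s) (-1) ((k : ℤ) - ((s + 1 : ℕ) : ℤ))
          (by omega) (IH (by omega)) _
      obtain ⟨g, hg⟩ := Triangle.yoneda_exact₂ _ (inv_rot_of_distTriang _ hT) ψ h1
      have hg0 : g = 0 :=
        Groth.Agent.H33.hom_to_shift_eq_zero (1 - ((k - s : ℕ) : ℤ)) ((k : ℤ) - ((s + 1 : ℕ) : ℤ))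
          (by omega)
          (fun ψ'' => Groth.Agent.H33.hom_eq_zero_transport_src (F := X.X) (k + 1 - (k - s)) (s + 1)
            (by omega) _ (hv (k - s) (k + 1) (by omega) (by omega) (by omega)).1 ψ'') g
      rw [hg, hg0, comp_zero]
      rfl
  -- (V2): Hom(X_{k+1}⟦k + 1 - s⟧, qY_s) = 0 for s ≤ k < n
  have V2 : ∀ k, k < n → ∀ s, s ≤ k →
      ∀ ψ : (shiftFunctor D ((k : ℤ) + 1 - s)).obj (X.X (k + 1)) ⟶ qY s, ψ = 0 := by
    intro k hk s
    induction s with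
    | zero =>
      intro _ ψ
      have H0 : ∀ ψ' : (shiftFunctor D ((k : ℤ) + 1 - (0 : ℕ))).obj (X.X (k + 1)) ⟶ X'.X 0, ψ' = 0 :=
        fun ψ' => Groth.Agent.H33.hom_from_shift_eq_zero ((k : ℤ) + 1 - (0 : ℕ))
          (-((k + 1 : ℕ) : ℤ)) (by omega)
          (fun ψ'' => Groth.Agent.H33.hom_eq_zero_transport_tgt (F := X'.X) (k + 1 - (k + 1)) 0
            (by omega) _ (hv (k + 1) (k + 1) (by omega) le_rfl (by omega)).2 ψ'') ψ'
      rw [← cancel_mono (qa 0), zero_comp]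
      exact H0 _
    | succ s IH =>
      intro hs ψ
      have hqT := (qhP s (by omega)).1
      have h1 : ψ ≫ qa (s + 1) = 0 :=
        Groth.Agent.H33.hom_from_shift_eq_zero ((k : ℤ) + 1 - ((s + 1 : ℕ) : ℤ))
          (-((k - s : ℕ) : ℤ)) (by omega)
          (fun ψ'' => Groth.Agent.H33.hom_eq_zero_transport_tgt (F := X'.X) (k + 1 - (k - s)) (s + 1)
            (by omega) _ (hv (k - s) (k + 1) (by omega) (by omega) (by omega)).2 ψ'') _
      obtain ⟨φ', hφ'⟩ := Triangle.coyoneda_exact₂ _ (inv_rot_of_distTriang _ hqT) ψ h1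
      have hφ0 : φ' = 0 :=
        Groth.Agent.H33.hom_shift_eq_zero ((k : ℤ) + 1 - s) ((k : ℤ) + 1 - ((s + 1 : ℕ) : ℤ)) (-1)
          (by omega) (IH (by omega)) φ'
      rw [hφ', hφ0, zero_comp]
      rfl
  have d1 : ∀ k, k ≤ n → (y k - z k) ≫ qa k = 0 := fun k hk => by
    rw [Preadditive.sub_comp, hy.1 k hk, hz.1 k hk, sub_self]
  have d2 : ∀ k, k < n → c k ≫ (shiftFunctor D (1 : ℤ)).map (y (k + 1) - z (k + 1)) =
      (y k - z k) ≫ qc k := fun k hk => by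
    rw [Functor.map_sub, Preadditive.comp_sub, Preadditive.sub_comp, (hy.2 k hk).2, (hz.2 k hk).2]
  suffices H : ∀ k, k ≤ n → y k - z k = 0 from sub_eq_zero.1 (H k hk)
  intro k
  induction k with
  | zero =>
    intro _
    rw [← cancel_mono (qa 0), zero_comp]
    exact d1 0 (Nat.zero_le _)
  | succ k IH =>
    intro hk
    have hT := (hP k (by omega)).1
    have hqT := (qhP k (by omega)).1
    have h2 : c k ≫ (shiftFunctor D (1 : ℤ)).map (y (k + 1) - z (k + 1)) = 0 := by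
      rw [d2 k (by omega), IH (by omega), zero_comp]
    obtain ⟨ρ, hδ⟩ : ∃ ρ : X.X (k + 1) ⟶ qY (k + 1),
        y (k + 1) - z (k + 1) = -(a (k + 1) ≫ ρ) := by
      obtain ⟨g, hg⟩ : ∃ g : (shiftFunctor D (1 : ℤ)).obj (X.X (k + 1)) ⟶
          (shiftFunctor D (1 : ℤ)).obj (qY (k + 1)),
          (shiftFunctor D (1 : ℤ)).map (y (k + 1) - z (k + 1)) =
            (-(shiftFunctor D (1 : ℤ)).map (a (k + 1))) ≫ g :=
        Triangle.yoneda_exact₃ _ (rot_of_distTriang _ hT) _ h2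
      obtain ⟨ρ, hρ⟩ := (shiftFunctor D (1 : ℤ)).map_surjective g
      refine ⟨ρ, ?_⟩
      apply (shiftFunctor D (1 : ℤ)).map_injective
      rw [hg, ← hρ, Preadditive.neg_comp, ← Functor.map_comp, Functor.map_neg]
    have h3 : a (k + 1) ≫ (ρ ≫ qa (k + 1)) = 0 := by
      have := d1 (k + 1) hk
      rw [hδ, Preadditive.neg_comp, neg_eq_zero, Category.assoc] at this
      exact this
    obtain ⟨τ, hτ⟩ : ∃ τ : Y k ⟶ X'.X (k + 1), ρ ≫ qa (k + 1) = b k ≫ τ :=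
      Triangle.yoneda_exact₂ _ hT (ρ ≫ qa (k + 1)) h3
    have hτ0 : τ = 0 :=
      Groth.Agent.H33.hom_eq_zero_of_to_shift_zero ((k : ℤ) - k) (by omega) (V1 k (by omega) k le_rfl) τ
    have h4 : ρ ≫ qa (k + 1) = 0 := by rw [hτ, hτ0, comp_zero]
    obtain ⟨ρ', hρ'⟩ : ∃ ρ' : X.X (k + 1) ⟶ (shiftFunctor D (-1 : ℤ)).obj (qY k),
        ρ = ρ' ≫ (Triangle.mk (qa (k + 1)) (qb k) (qc k)).invRotate.mor₁ :=
      Triangle.coyoneda_exact₂ _ (inv_rot_of_distTriang _ hqT) ρ h4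
    have hρ0 : ρ' = 0 :=
      Groth.Agent.H33.hom_to_shift_eq_zero (1 : ℤ) (-1) (by omega)
        (fun ψ' => Groth.Agent.H33.hom_shift_eq_zero_of_eq ((k : ℤ) + 1 - k) 1 (by omega)
          (V2 k (by omega) k le_rfl) ψ') ρ'
    have hρ : ρ = 0 := by
      rw [hρ', hρ0]
      exact zero_comp
    rw [hδ, hρ, comp_zero, neg_zero]

end Groth.Agent.S6623
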