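import Groth.Statements.S6636
import Groth.Agent.S6635
import Groth.Agent.H51.ACocU3

set_option autoImplicit false
open CategoryTheory CategoryTheory.Limits AlgebraicGeometry Opposite
universe u
open BigSite

namespace Groth.Agent.S6636

/-- For the etale and the smooth topologies: for a closed immersion of schemes f : X ⟶ Y the big direct
image along f preserves coequalizers and pushouts of sheaves of sets, and preserves finite colimits
of abelian sheaves (so it is exact there, being a right adjoint). (The published statement also
covers the syntomic topology; this row treats the etale and smooth topologies only.) -/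
theorem result {X Y : Scheme.{u}} (f : X ⟶ Y) [IsClosedImmersion f]
    (K : Precoverage Scheme.{u}) (hK : K = Scheme.etalePrecoverage ∨ K = Scheme.precoverage @Smooth) :
    PreservesColimitsOfShape WalkingParallelPair (BigSite.pushBig K f (Type (u + 1))) ∧
      PreservesColimitsOfShape WalkingSpan (BigSite.pushBig K f (Type (u + 1))) ∧
      PreservesFiniteColimits (BigSite.pushBig K f AddCommGrpCat.{u + 1}) := by
  have hac := Groth.Agent.S6635.result f K hK
  refine ⟨?_, ?_, ?_⟩
  · exact Groth.Agent.H51.ACocU.preservesColimitsOfShape _ _ _ hac WalkingParallelPair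
  · exact Groth.Agent.H51.ACocU.preservesColimitsOfShape _ _ _ hac WalkingSpan
  · have hlim : PreservesFiniteLimits (BigSite.pushBig K f AddCommGrpCat.{u + 1}) := by
      haveI := (BigSite.bigAdj K f AddCommGrpCat.{u + 1}).rightAdjoint_preservesLimits
      infer_instance
    rw [Functor.preservesFiniteColimits_iff_forall_exact_map_and_epi]
    intro S hS
    have h30 := (Functor.preservesFiniteLimits_tfae
      (BigSite.pushBig K f AddCommGrpCat.{u + 1})).out 3 0
    refine ⟨(h30.1 hlim S hS).1, ?_⟩
    have hepi : Epi S.g := hS.epi_g
    rw [← Sheaf.isLocallySurjective_iff_epi' _ S.g] at hepi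
    rw [← Sheaf.isLocallySurjective_iff_epi' _]
    exact Groth.Agent.H51.ACocU.isLocallySurjective_pushforward_ab _ _ _ hac S.g

end Groth.Agent.S6636
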