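import Groth.Statements.S6639
import Groth.Agent.H95.FrobFixed

set_option autoImplicit false
universe u
open scoped TensorProduct
open EtBase

namespace Groth.Agent.S6639

/-- Let k ⟶ k' be a homomorphism of algebraically closed fields of characteristic p > 0 (an extension of
algebraically closed fields), V a finite-dimensional k-vector space, F : V ⟶ V additive with F(c •
v) = c^p • F(v), and F' the additive endomorphism of V' = k' ⊗_k V satisfying F'(c ⊗ v) = c^p ⊗
F(v). Then v ↦ 1 ⊗ v maps the fixed vectors of F bijectively onto the fixed vectors of F'. -/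
theorem result {k k' V : Type u} [Field k] [IsAlgClosed k] [Field k']
    [IsAlgClosed k'] [Algebra k k'] (p : ℕ) [Fact p.Prime] [CharP k p]
    [AddCommGroup V] [Module k V] [FiniteDimensional k V] (F : V →+ V)
    (hF : ∀ (c : k) (v : V), F (c • v) = c ^ p • F v)
    (F' : k' ⊗[k] V →+ k' ⊗[k] V) (hF' : ∀ (c : k') (v : V), F' (c ⊗ₜ[k] v) = (c ^ p) ⊗ₜ[k] F v) :
    Set.BijOn (fun v : V => (1 : k') ⊗ₜ[k] v) {v : V | F v = v} {w : k' ⊗[k] V | F' w = w} := by
  classical
  let e := Module.finBasis k V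
  let e' := e.baseChange k'
  have he' : ∀ i, e' i = (1 : k') ⊗ₜ[k] e i := fun i => Module.Basis.baseChange_apply _ _ i
  have hinj : Function.Injective (fun v : V => (1 : k') ⊗ₜ[k] v) :=
    Module.Flat.tensorProduct_mk_injective (R := k) (S := k') (M := V)
  refine ⟨?_, hinj.injOn, ?_⟩
  · intro v hv
    have hv' : F v = v := hv
    show F' ((1 : k') ⊗ₜ[k] v) = (1 : k') ⊗ₜ[k] v
    rw [hF', one_pow, hv']
  · intro w hw
    have hw' : F' w = w := hw
    set c : Fin (Module.finrank k V) → k' := fun i => e'.repr w i with hcdef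
    have hw_eq : w = ∑ i, c i ⊗ₜ[k] e i := by
      conv_lhs => rw [← e'.sum_repr w]
      refine Finset.sum_congr rfl (fun i _ => ?_)
      rw [he', TensorProduct.smul_tmul', smul_eq_mul, mul_one]
    have hFw : F' w = ∑ i, ((c i) ^ p) ⊗ₜ[k] F (e i) := by
      conv_lhs => rw [hw_eq]
      rw [map_sum]
      exact Finset.sum_congr rfl (fun i _ => hF' _ _)
    have hc : ∀ j, c j = ∑ i, (e.repr (F (e i)) j) • c i ^ p := by
      intro j
      have h1 : c j = e'.repr (F' w) j := by rw [hw']
      rw [h1, hFw, map_sum, Finsupp.coe_finsetSum, Finset.sum_apply]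
      refine Finset.sum_congr rfl (fun i _ => ?_)
      exact Module.Basis.baseChange_repr_tmul _ _ _ _ _
    obtain ⟨d, hd⟩ := Classical.axiomOfChoice
      (Groth.Agent.H95.FrobFixed.key p (fun j i => e.repr (F (e i)) j) c hc)
    have hwv : (1 : k') ⊗ₜ[k] (∑ i, d i • e i) = w := by
      rw [hw_eq, TensorProduct.tmul_sum]
      refine Finset.sum_congr rfl (fun i _ => ?_)
      rw [TensorProduct.tmul_smul, TensorProduct.smul_tmul', ← hd i, Algebra.smul_def, mul_one]
    refine ⟨∑ i, d i • e i, ?_, hwv⟩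
    show F (∑ i, d i • e i) = ∑ i, d i • e i
    apply hinj
    show (1 : k') ⊗ₜ[k] F (∑ i, d i • e i) = (1 : k') ⊗ₜ[k] (∑ i, d i • e i)
    have h2 := hF' 1 (∑ i, d i • e i)
    rw [one_pow] at h2
    rw [← h2, hwv, hw']

end Groth.Agent.S6639
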