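import Groth.Statements.S6647
import Groth.Agent.H21.LocConstMap

set_option autoImplicit false
open CategoryTheory CategoryTheory.Limits AlgebraicGeometry Opposite
universe u
open EtCore

namespace Groth.Agent.S6647

/-- Let φ : F ⟶ G be a map of locally constant abelian sheaves on the small etale site of a scheme X,
with F finite locally constant. Then on the members of some etale covering of X the restriction of φ
is, up to isomorphisms with constant sheaves on both sides, the map of constant sheaves induced by a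
homomorphism of abelian groups. -/
theorem result {X : Scheme.{u}} (F G : EtCoh.Ab X) (φ : F ⟶ G)
    (hF : EtCoh.IsFiniteLocallyConstant F) (hG : EtRest.IsLocallyConstant G) :
    ∃ (ι : Type u) (U : ι → X.Etale), EtCoh.Covers U ∧ ∀ i, ∃ (M N : Type (u + 1)) (_ : AddCommGroup M) (_ : AddCommGroup N)
      (h : M →+ N)
      (α : EtCoh.restr F (U i) ≅ (constantSheaf (X.smallEtaleTopology.over (U i)) AddCommGrpCat.{u + 1}).obj (AddCommGrpCat.of M))
      (β : EtCoh.restr G (U i) ≅ (constantSheaf (X.smallEtaleTopology.over (U i)) AddCommGrpCat.{u + 1}).obj (AddCommGrpCat.of N)),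
      (X.smallEtaleTopology.overPullback AddCommGrpCat.{u + 1} (U i)).map φ ≫ β.hom = α.hom ≫ (constantSheaf (X.smallEtaleTopology.over (U i)) AddCommGrpCat.{u + 1}).map (AddCommGrpCat.ofHom h) := by
  obtain ⟨ι₁, U₁, hc₁, h₁⟩ := hF
  obtain ⟨ι₂, U₂, hc₂, h₂⟩ := hG
  have key : ∀ x : X, ∃ (W : X.Etale) (w : W.left), W.hom.base w = x ∧
      ∃ (M N : Type (u + 1)) (_ : AddCommGroup M) (_ : AddCommGroup N) (h : M →+ N)
      (α : EtCoh.restr F W ≅ (constantSheaf (X.smallEtaleTopology.over W) AddCommGrpCat.{u + 1}).obj (AddCommGrpCat.of M))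
      (β : EtCoh.restr G W ≅ (constantSheaf (X.smallEtaleTopology.over W) AddCommGrpCat.{u + 1}).obj (AddCommGrpCat.of N)),
      (X.smallEtaleTopology.overPullback AddCommGrpCat.{u + 1} W).map φ ≫ β.hom = α.hom ≫ (constantSheaf (X.smallEtaleTopology.over W) AddCommGrpCat.{u + 1}).map (AddCommGrpCat.ofHom h) := by
    intro x
    obtain ⟨i₁, y₁, hy₁⟩ := hc₁ x
    obtain ⟨i₂, y₂, hy₂⟩ := hc₂ x
    obtain ⟨M₀, _, _, ⟨a₀⟩⟩ := h₁ i₁
    obtain ⟨N, _, ⟨b₀⟩⟩ := h₂ i₂
    obtain ⟨W, w, h, α, β, hw, e⟩ := Groth.Agent.H21.LocConstMap.local_at φ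
      (M := AddCommGrpCat.of (ULift.{u + 1} M₀)) (N := AddCommGrpCat.of N) y₁ y₂ (hy₁.trans hy₂.symm) a₀ b₀
    exact ⟨W, w, hw.trans hy₁, ULift.{u + 1} M₀, N, _, _, h.hom, α, β, e⟩
  choose W w hw M N iM iN h α β e using key
  exact ⟨X, W, fun x => ⟨x, w x, hw x⟩, fun x => ⟨M x, N x, iM x, iN x, h x, α x, β x, e x⟩⟩

end Groth.Agent.S6647
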