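import Groth.Statements.S6648
import Mathlib.AlgebraicGeometry.Morphisms.UniversallyOpen
import Mathlib.AlgebraicGeometry.Morphisms.Etale

set_option autoImplicit false
open CategoryTheory CategoryTheory.Limits AlgebraicGeometry Opposite
universe u
open EtCore

namespace Groth.Agent.S6648

/-- For a sheaf of (commutative) rings O on the small etale site of a scheme S, the set of points s of S
over which some geometric stalk of O is a nonzero ring is closed in S. (Rings are taken in the
universe of the schemes, as for the structure presheaf of the prelude.) -/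
theorem result {S : Scheme.{u}} (O : Sheaf S.smallEtaleTopology CommRingCat.{u}) :
    IsClosed {s : ↥S | ∃ (Ω : Type u) (_ : Field Ω) (_ : IsSepClosed Ω) (ξ : Spec (CommRingCat.of Ω) ⟶ S),
      ξ.base default = s ∧ Nontrivial ↑((Scheme.pointSmallEtale ξ).presheafFiber.obj O.obj)} := by
  rw [← isOpen_compl_iff, isOpen_iff_forall_mem_open]
  intro s hs
  simp only [Set.mem_compl_iff, Set.mem_ofPred_eq, not_exists, not_and] at hs
  -- a geometric point over `s`
  obtain ⟨ξ, hξ⟩ : ∃ ξ : Spec (CommRingCat.of (SeparableClosure (S.residueField s))) ⟶ S,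
      ξ.base default = s := by
    refine ⟨Spec.map (CommRingCat.ofHom (algebraMap (S.residueField s)
      (SeparableClosure (S.residueField s)))) ≫ S.fromSpecResidueField s, ?_⟩
    rw [Scheme.Hom.comp_apply]
    exact Scheme.fromSpecResidueField_apply _ _
  have htriv := hs (SeparableClosure (S.residueField s)) inferInstance inferInstance ξ hξ
  rw [not_nontrivial_iff_subsingleton] at htriv
  obtain ⟨x₀, -⟩ : ∃ x₀ : (Scheme.pointSmallEtale ξ).fiber.obj (Scheme.Etale.mk (𝟙 S)), x₀ = x₀ :=
    ⟨Over.homMk ξ (Category.comp_id _), rfl⟩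
  have h01 := Subsingleton.elim
    ((Scheme.pointSmallEtale ξ).toPresheafFiber (Scheme.Etale.mk (𝟙 S)) x₀ O.obj 0)
    ((Scheme.pointSmallEtale ξ).toPresheafFiber (Scheme.Etale.mk (𝟙 S)) x₀ O.obj 1)
  rw [GrothendieckTopology.Point.toPresheafFiber_eq_iff'] at h01
  obtain ⟨Y, f, y, -, h⟩ := h01
  have hY : (0 : O.obj.obj (op Y)) = 1 := by
    rw [map_zero, map_one] at h
    exact h
  obtain ⟨l, hl, -⟩ : ∃ (l : Spec (CommRingCat.of (SeparableClosure (S.residueField s))) ⟶ Y.left)
      (hl : l ≫ Y.hom = ξ), y = Over.homMk l hl := by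
    obtain ⟨l, hl, rfl⟩ := Over.homMk_surjective y
    exact ⟨l, hl, rfl⟩
  have hls : (l ≫ Y.hom).base default = s := by
    rw [hl]; exact hξ
  have hopen : IsOpenMap Y.hom.base := AlgebraicGeometry.Scheme.Hom.isOpenMap Y.hom
  refine ⟨Set.range Y.hom.base, ?_, hopen.isOpen_range, ⟨l.base default, ?_⟩⟩
  · rintro _ ⟨t, rfl⟩
    simp only [Set.mem_compl_iff, Set.mem_ofPred_eq, not_exists, not_and]
    intro Ω' _ _ ξ' hξ'
    rw [not_nontrivial_iff_subsingleton]
    obtain ⟨l', hl', -⟩ := Scheme.exists_fac_of_etale_of_isSepClosed Y.hom ξ' t hξ'.symm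
    obtain ⟨y', -⟩ : ∃ y' : (Scheme.pointSmallEtale ξ').fiber.obj Y, y' = y' :=
      ⟨Over.homMk l' hl', rfl⟩
    have h0 := congrArg ((Scheme.pointSmallEtale ξ').toPresheafFiber Y y' O.obj).hom hY
    rw [map_zero, map_one] at h0
    exact subsingleton_of_zero_eq_one h0
  · exact (Scheme.Hom.comp_apply l Y.hom default).symm.trans hls

end Groth.Agent.S6648
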