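import Groth.Statements.S6649
import Mathlib
import Groth.Agent.S0212
import Groth.Agent.S0214
import Groth.Agent.H14.DimTrdeg
import Groth.Agent.H76.FinFieldCyclic

set_option autoImplicit false
open CategoryTheory CategoryTheory.Limits AlgebraicGeometry Opposite
universe u
open Curves

namespace Groth.Agent.S6649

/-- For a curve C over an algebraically closed field k (C integral of dimension one, separated and of
finite type over k) the Brauer group of the function field of C is zero: every finite-dimensional
central division algebra over the function field has dimension one. -/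
theorem result (k : Type u) [Field k] [IsAlgClosed k] (C : Scheme.{u})
    (f : C ⟶ Spec (CommRingCat.of k)) [IsSeparated f] [LocallyOfFiniteType f] [QuasiCompact f] [IsIntegral C]
    (hdim : topologicalKrullDim ↥C = 1)
    (D : Type u) [DivisionRing D] [Algebra ↑C.functionField D] [Algebra.IsCentral ↑C.functionField D]
    [FiniteDimensional ↑C.functionField D] : Module.finrank ↑C.functionField D = 1 := by
  classical
  -- a nonempty affine open of C
  obtain ⟨x⟩ : Nonempty C := inferInstance
  obtain ⟨_, ⟨U, hU : IsAffineOpen U, rfl⟩, hxU, -⟩ :=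
    C.isBasis_affineOpens.exists_subset_of_mem_open (Set.mem_univ x) isOpen_univ
  haveI : Nonempty U := ⟨⟨x, hxU⟩⟩
  let R := Γ(C, U)
  haveI : IsFractionRing R C.functionField := functionField_isFractionRing_of_isAffineOpen C U hU
  -- the k-algebra structure on R, of finite type
  have hft : RingHom.FiniteType (f.appLE ⊤ U le_top).hom :=
    HasRingHomProperty.appLE @LocallyOfFiniteType f inferInstance ⟨⊤, isAffineOpen_top _⟩ ⟨U, hU⟩ le_top
  let φ : k →+* R := (f.appLE ⊤ U le_top).hom.comp (Scheme.ΓSpecIso (CommRingCat.of k)).inv.hom
  have hφ : φ.FiniteType := by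
    refine hft.comp ?_
    exact RingHom.FiniteType.of_surjective _
      (ConcreteCategory.bijective_of_isIso (Scheme.ΓSpecIso (CommRingCat.of k)).inv).2
  letI : Algebra k R := φ.toAlgebra
  haveI : Algebra.FiniteType k R := hφ
  obtain ⟨n, hn1, hn2, -⟩ := Groth.Agent.H14.ringKrullDim_eq_trdeg_of_finiteType_domain k R
  -- dimension bound
  have hdimR : ringKrullDim R ≤ 1 := by
    rw [← PrimeSpectrum.topologicalKrullDim_eq_ringKrullDim R]
    change topologicalKrullDim (Spec R) ≤ 1
    rw [← IsHomeomorph.topologicalKrullDim_eq _ hU.isoSpec.hom.homeomorph.isHomeomorph]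
    exact (topologicalKrullDim_subspace_le C U).trans hdim.le
  have hn : n ≤ 1 := by
    rw [hn2] at hdimR
    exact_mod_cast hdimR
  -- transfer to the function field
  let K := C.functionField
  letI : Algebra k K := ((algebraMap R K).comp φ).toAlgebra
  haveI : IsScalarTower k R K := IsScalarTower.of_algebraMap_eq (fun _ => rfl)
  let e : FractionRing R ≃ₐ[k] K := (FractionRing.algEquiv R K).restrictScalars k
  have htr : Algebra.trdeg k K = n := by rw [← e.trdeg_eq, hn1]
  have hCi : Curves.IsCi K n := Groth.Agent.S0212.result k K n htr
  have hC1 : Curves.IsCi K 1 := by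
    intro r m g d hhom hd hsum
    refine hCi r m g d hhom hd (lt_of_le_of_lt ?_ hsum)
    refine Finset.sum_le_sum (fun ρ _ => ?_)
    exact Nat.pow_le_pow_right (hd ρ) hn
  exact Groth.Agent.S0214.result K (Groth.Agent.H76.isCr_of_isCi 1 hC1) D

end Groth.Agent.S6649
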