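import Groth.Statements.S6658
import Groth.Agent.H4.UnitSplit
import Groth.Agent.H4.ExactDerived
import Groth.Agent.H30.DerivedLES
import Groth.Agent.H30.Degenerate
import Groth.Prelude.Def_EtCore

set_option autoImplicit false
universe u
open CategoryTheory CategoryTheory.Limits AlgebraicGeometry Opposite
open EtDual

namespace Groth.Agent.S6658

/-- The exact sequence and the isomorphisms: let j : U → X be an open immersion of schemes with closed
complement Z and F an abelian sheaf on the small etale site of X. Write H^q_Z(F) for the q-th local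
cohomology sheaf of F with support in Z, kept as a sheaf on X (the q-th right derived functor of G ↦
ker(G → j_* j⁻¹ G)). Then the cokernel of the unit F → j_* j⁻¹ F is isomorphic to H^1_Z(F), and for
every p ≥ 1 the higher direct image R^p j_* (j⁻¹ F) is isomorphic to H^{p+1}_Z(F). (The published
statement also gives the distinguished triangle behind these isomorphisms and identifies them with
its connecting maps; this row asserts only that isomorphisms exist.) -/
theorem result {X U : Scheme.{u}} (j : U ⟶ X) [IsOpenImmersion j]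
    (F : EtCoh.Ab X) :
    Nonempty (cokernel (EtDual.unitApp j F) ≅ (EtDual.locCoh j 1).obj F) ∧
      ∀ p : ℕ, 1 ≤ p →
        Nonempty ((EtCoh.Rpush j p).obj ((EtCoh.pull j).obj F) ≅ (EtDual.locCoh j (p + 1)).obj F) := by
  open Groth.Agent.H30.DerivedLES Groth.Agent.H4.UnitSplit in
  have h : ∀ Q : EtCoh.Ab X, Injective Q →
      (ShortComplex.mk ((κ j).app Q) ((EtCoh.pullPushAdj j).unit.app Q)
        (w_app (κ j) (EtCoh.pullPushAdj j).unit (κ_η j) Q)).ShortExact :=
    fun Q _ => shortExact_secSupp j Q
  have hpush : PreservesLimitsOfSize.{0, 0} (EtCoh.push j) :=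
    (EtCoh.pullPushAdj j).rightAdjoint_preservesLimits
  have hP : PreservesFiniteLimits (EtCoh.pull j ⋙ EtCoh.push j) := inferInstance
  have hE : ∀ (n : ℕ) (Y : EtCoh.Ab X), IsZero (((𝟭 (EtCoh.Ab X)).rightDerived (n + 1)).obj Y) :=
    fun n Y => Groth.Agent.H4.ExactDerived.isZero_rightDerived_succ (𝟭 (EtCoh.Ab X)) Y n
  refine ⟨?_, ?_⟩
  · have hex := exact_π (κ j) (EtCoh.pullPushAdj j).unit (κ_η j) h F
    have hepi := epi_π (κ j) (EtCoh.pullPushAdj j).unit (κ_η j) h F (hE 0 F)
    exact ⟨IsColimit.coconePointUniqueUpToIso (cokernelIsCokernel (EtDual.unitApp j F))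
      hex.gIsCokernel⟩
  · intro p hp
    obtain ⟨n, rfl⟩ : ∃ n, p = n + 1 := ⟨p - 1, by omega⟩
    have e1 := (δIso (κ j) (EtCoh.pullPushAdj j).unit (κ_η j) h (n + 1) (hE n) (hE (n + 1))).app F
    letI : HasDerivedCategory (EtCoh.Ab U) := HasDerivedCategory.standard _
    letI : HasDerivedCategory (EtCoh.Ab X) := HasDerivedCategory.standard _
    obtain ⟨e2⟩ := Groth.Agent.H30.Degenerate.iso_of_isZero_higher (EtCoh.pull j) (EtCoh.push j)
      (fun Q hQ q hq => by
        haveI := Groth.Agent.H4.EtRestr.injective_pull j Q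
        obtain ⟨m, rfl⟩ : ∃ m, q = m + 1 := ⟨q - 1, by omega⟩
        exact Functor.isZero_rightDerived_obj_injective_succ _ _ _)
      F (fun q hq => by
        obtain ⟨m, rfl⟩ : ∃ m, q = m + 1 := ⟨q - 1, by omega⟩
        exact Groth.Agent.H4.ExactDerived.isZero_rightDerived_succ (EtCoh.pull j) F m) (n + 1)
    exact ⟨((EtCoh.push j).rightDerived (n + 1)).mapIso
      ((EtCoh.pull j).rightDerivedZeroIsoSelf.app F).symm ≪≫ e2.symm ≪≫ e1⟩

end Groth.Agent.S6658
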