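import Groth.Statements.S6659
import Groth.Agent.S0101
import Groth.Agent.H33.KInj.Main
import Groth.Agent.H4.DerFF
import Groth.Agent.H4.Recoll

set_option autoImplicit false
universe u
open CategoryTheory CategoryTheory.Limits AlgebraicGeometry Opposite
attribute [local instance] HasDerivedCategory.standard
open EtDual

namespace Groth.Agent.S6659

/-- Let i : Z → X be a closed immersion of schemes with open complement j : U → X. The direct image i_*
of abelian etale sheaves is exact (its right exactness is carried as an instance hypothesis), and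
the induced functor D(Z_et) → D(X_et) is fully faithful; an object K of D(X_et) lies in its
essential image if and only if every cohomology sheaf of K has zero restriction to U, i.e. K has
cohomology sheaves supported on Z. (The identification of the quasi-inverse with the derived functor
of sections supported on Z is not part of this row.) -/
theorem result {Z X U : Scheme.{u}} (i : Z ⟶ X)
    [IsClosedImmersion i] (j : U ⟶ X) [IsOpenImmersion j] (hZU : Set.range j = (Set.range i)ᶜ)
    [PreservesFiniteColimits (EtCoh.push i)] :
    ((EtCoh.push i).mapDerivedCategory.Full ∧ (EtCoh.push i).mapDerivedCategory.Faithful) ∧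
      ∀ K : DCoh.DEt X,
        (EtCoh.push i).mapDerivedCategory.essImage K ↔
          ∀ n : ℤ, IsZero ((EtCoh.pull j).obj (DCoh.HDEt K n)) := by
  have hKZ : ∀ K : CochainComplex (EtCoh.Ab Z) ℤ, ∃ (I : CochainComplex (EtCoh.Ab Z) ℤ) (φ : K ⟶ I),
      I.IsKInjective ∧ QuasiIso φ := fun K => by
    obtain ⟨I, φ, h1, h2, -, -⟩ := Groth.Agent.H33.KInj.exists_kInjective_resolution K
    exact ⟨I, φ, h1, h2⟩
  have hpi : PreservesFiniteLimits (EtCoh.pull i) := Groth.Agent.S0101.result i
  have hpj : PreservesFiniteLimits (EtCoh.pull j) := Groth.Agent.S0101.result j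
  have hl : PreservesLimitsOfSize.{0, 0} (EtCoh.push i) :=
    (EtCoh.pullPushAdj i).rightAdjoint_preservesLimits
  have hl' : PreservesFiniteLimits (EtCoh.push i) := PreservesLimitsOfSize.preservesFiniteLimits _
  have hε : ∀ G, IsIso ((EtCoh.pullPushAdj i).counit.app G) := fun G =>
    Groth.Agent.H4.ClosedStalk.isIso_counit i G
  have hdisj : Disjoint (Set.range j.base) (Set.range i.base) := by
    have h : Set.range j.base = (Set.range i.base)ᶜ := hZU
    rw [h]
    exact disjoint_compl_left
  have hz : ∀ G, IsZero ((EtCoh.pull j).obj ((EtCoh.push i).obj G)) := fun G =>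
    Groth.Agent.H4.ClosedStalk.isZero_pull_push_of_disjoint i j hdisj G
  have hc : ∀ {F F' : EtCoh.Ab X} (φ : F ⟶ F'), IsIso ((EtCoh.pull i).map φ) →
      IsIso ((EtCoh.pull j).map φ) → IsIso φ := fun φ h1 h2 =>
    Groth.Agent.H4.Recoll.isIso_of_isIso_pull i j hZU φ h1 h2
  refine ⟨Groth.Agent.H4.DerFF.full_faithful (EtCoh.pullPushAdj i) hKZ hε, fun K => ?_⟩
  exact Groth.Agent.H4.DerFF.mem_essImage_iff (EtCoh.pullPushAdj i) (EtCoh.pull j) hε hz hc K

end Groth.Agent.S6659
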