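import Groth.Statements.S6666
import Groth.Agent.H24.FieldPoint

set_option autoImplicit false
universe u
open CategoryTheory AlgebraicGeometry
open Lim

namespace Groth.Agent.S6666

/-- Let T be a nonempty quasi-compact quasi-separated scheme and P a property of schemes over T (applied
to quasi-compact quasi-separated ones). Assume: (1) for every thickening T'' → T' (a surjective
closed immersion) of quasi-compact quasi-separated schemes over T, P(T'') if and only if P(T'); (2)
if a scheme T' over T is a limit (in schemes over T) of a cofiltered system of quasi-compact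
quasi-separated schemes over T with affine transition morphisms and P holds for every member, then
P(T'); (3) if T' is quasi-compact quasi-separated over T with P(T') and Z ⊂ T' is a closed subscheme
whose open complement V is quasi-compact, then P(V) or P(Z). Then P(T) implies P(Spec K → T) for
some field K and some morphism Spec K → T. (The published statement does not require T nonempty; for
T empty and P identically true there is no morphism from the spectrum of a field to T, so
nonemptiness is assumed here.) -/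
theorem result (T : Scheme.{u}) [CompactSpace T] [QuasiSeparatedSpace T]
    [Nonempty T] (P : ∀ ⦃T' : Scheme.{u}⦄, (T' ⟶ T) → Prop)
    (h1 : ∀ ⦃T' T'' : Scheme.{u}⦄ (a : T' ⟶ T) (t : T'' ⟶ T') [IsClosedImmersion t] [Surjective t]
      [CompactSpace T'] [QuasiSeparatedSpace T'] [CompactSpace T''] [QuasiSeparatedSpace T''], P (t ≫ a) ↔ P a)
    (h2 : ∀ ⦃I : Type u⦄ [SmallCategory I] [IsCofiltered I] (D : I ⥤ Over T) (c : Limits.Cone D) (_ : Limits.IsLimit c),
      (∀ (i j : I) (m : i ⟶ j), IsAffineHom (D.map m).left) →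
      (∀ i, CompactSpace (D.obj i).left ∧ QuasiSeparatedSpace (D.obj i).left) →
      (∀ i, P (D.obj i).hom) → P c.pt.hom)
    (h3 : ∀ ⦃T' Z V : Scheme.{u}⦄ (a : T' ⟶ T) [CompactSpace T'] [QuasiSeparatedSpace T'] (i : Z ⟶ T') [IsClosedImmersion i]
      (j : V ⟶ T') [IsOpenImmersion j] [CompactSpace V], Set.range j = (Set.range i)ᶜ → P a → P (j ≫ a) ∨ P (i ≫ a))
    (hT : P (𝟙 T)) :
    ∃ (K : Type u) (_ : Field K) (t : Spec (CommRingCat.of K) ⟶ T), P t := by
  classical
  -- invariance under isomorphisms
  have hiso : ∀ ⦃T' T'' : Scheme.{u}⦄ (a : T' ⟶ T) (e : T'' ⟶ T') [IsIso e]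
      [CompactSpace T'] [QuasiSeparatedSpace T'] [CompactSpace T''] [QuasiSeparatedSpace T''],
      P (e ≫ a) ↔ P a := by
    intro T' T'' a e _ _ _ _ _
    exact h1 a e
  -- closed subschemes of `T` are qcqs
  have hqc : ∀ I : T.IdealSheafData, CompactSpace I.subscheme := fun I =>
    QuasiCompact.compactSpace_of_compactSpace I.subschemeι
  have hqs : ∀ I : T.IdealSheafData, QuasiSeparatedSpace I.subscheme := fun I =>
    quasiSeparatedSpace_of_quasiSeparated I.subschemeι
  -- closed immersions versus their kernels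
  have hker : ∀ ⦃Z : Scheme.{u}⦄ (i : Z ⟶ T) [IsClosedImmersion i] [CompactSpace Z]
      [QuasiSeparatedSpace Z], P i ↔ P i.ker.subschemeι := by
    intro Z i _ _ _
    haveI := hqc i.ker
    haveI := hqs i.ker
    have := hiso i.ker.subschemeι i.toImage
    rwa [Scheme.Hom.toImage_imageι] at this
  let 𝔖 : Set T.IdealSheafData := {I | (I.support : Set T).Nonempty ∧ P I.subschemeι}
  have hbot : (⊥ : T.IdealSheafData) ∈ 𝔖 := by
    refine ⟨?_, ?_⟩
    · rw [Scheme.IdealSheafData.support_bot]
      exact Set.univ_nonempty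
    · haveI := hqc ⊥
      haveI := hqs ⊥
      have := hiso (𝟙 T) (⊥ : T.IdealSheafData).subschemeι
      rw [Category.comp_id] at this
      exact this.mpr hT
  obtain ⟨I₀, -, hI₀⟩ := zorn_le_nonempty₀ 𝔖 (by
    intro c hc hchain y hy
    refine ⟨sSup c, ⟨?_, ?_⟩, fun z hz => le_sSup hz⟩
    · -- nonempty support
      haveI : Nonempty ↥c := ⟨⟨y, hy⟩⟩
      have := IsCompact.nonempty_iInter_of_directed_nonempty_isCompact_isClosed
        (fun i : ↥c => ((i.1.support : TopologicalSpace.Closeds T) : Set T)) (by
          intro i j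
          rcases hchain.total i.2 j.2 with h | h
          · exact ⟨j, Scheme.IdealSheafData.support_antitone h, le_rfl⟩
          · exact ⟨i, le_rfl, Scheme.IdealSheafData.support_antitone h⟩)
        (fun i => (hc i.2).1) (fun i => i.1.support.isClosed.isCompact)
        (fun i => i.1.support.isClosed)
      rw [Scheme.IdealSheafData.support_sSup]
      convert this using 1
      ext x
      simp
    · -- the property
      haveI : Nonempty ↥c := ⟨⟨y, hy⟩⟩
      haveI : IsDirected ↥c (· ≤ ·) := ⟨fun i j => by
        rcases hchain.total i.2 j.2 with h | h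
        · exact ⟨j, h, le_rfl⟩
        · exact ⟨i, le_rfl, h⟩⟩
      exact h2 (H24.FieldPoint.chainDiagram c) (H24.FieldPoint.chainCone c)
        (H24.FieldPoint.isLimitChainCone c)
        (fun i j m => by
          change IsAffineHom (Scheme.IdealSheafData.inclusion _)
          haveI : IsClosedImmersion (Scheme.IdealSheafData.inclusion
              (show j.unop.1 ≤ i.unop.1 from leOfHom m.unop) ≫ j.unop.1.subschemeι) := by
            rw [Scheme.IdealSheafData.inclusion_subschemeι]; infer_instance
          haveI := IsClosedImmersion.of_comp (Scheme.IdealSheafData.inclusion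
              (show j.unop.1 ≤ i.unop.1 from leOfHom m.unop)) j.unop.1.subschemeι
          infer_instance)
        (fun i => ⟨hqc i.unop.1, hqs i.unop.1⟩)
        (fun i => (hc i.unop.2).2)) ⊥ hbot
  obtain ⟨⟨hI₀ne, hI₀P⟩, hI₀max⟩ := hI₀
  let Z₀ : Scheme.{u} := I₀.subscheme
  let ι₀ : Z₀ ⟶ T := I₀.subschemeι
  haveI : CompactSpace Z₀ := hqc I₀
  haveI : QuasiSeparatedSpace Z₀ := hqs I₀
  have hι₀range : Set.range ι₀.base = (I₀.support : Set T) := I₀.range_subschemeι
  haveI : Nonempty Z₀ := by
    obtain ⟨x, hx⟩ := hI₀ne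
    rw [← hι₀range] at hx
    obtain ⟨z, -⟩ := hx
    exact ⟨z⟩
  -- (b) the property holds on every nonempty quasi-compact open of `Z₀`
  have hb : ∀ U : Z₀.Opens, IsCompact (U : Set Z₀) → (U : Set Z₀).Nonempty → P (U.ι ≫ ι₀) := by
    intro U hUc hUne
    haveI : CompactSpace ↥(U : Scheme.{u}) := isCompact_iff_compactSpace.mp hUc
    haveI : QuasiSeparatedSpace ↥(U : Scheme.{u}) :=
      quasiSeparatedSpace_of_quasiSeparated (Scheme.Opens.ι U)
    by_cases hU : U = ⊤
    · subst hU
      haveI : IsIso (Scheme.Opens.ι (⊤ : Z₀.Opens)) := Z₀.topIso.isIso_hom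
      exact (hiso ι₀ (Scheme.Opens.ι (⊤ : Z₀.Opens))).mpr hI₀P
    · let C : TopologicalSpace.Closeds Z₀ := ⟨(U : Set Z₀)ᶜ, U.2.isClosed_compl⟩
      have hCne : (C : Set Z₀).Nonempty := by
        by_contra hcon
        apply hU
        rw [Set.not_nonempty_iff_eq_empty] at hcon
        ext x
        simp only [TopologicalSpace.Opens.coe_top, Set.mem_univ, iff_true]
        by_contra hx
        have : x ∈ (C : Set Z₀) := hx
        rw [hcon] at this
        exact this
      let J₀ := Scheme.IdealSheafData.vanishingIdeal C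
      have hJ₀ : (J₀.support : Set Z₀) = (C : Set Z₀) := rfl
      let i : J₀.subscheme ⟶ Z₀ := J₀.subschemeι
      haveI : CompactSpace J₀.subscheme := QuasiCompact.compactSpace_of_compactSpace i
      haveI : QuasiSeparatedSpace J₀.subscheme := quasiSeparatedSpace_of_quasiSeparated i
      have hrange : Set.range (Scheme.Opens.ι U).base = (Set.range i.base)ᶜ := by
        rw [Scheme.Opens.range_ι, J₀.range_subschemeι, hJ₀]
        exact (compl_compl _).symm
      rcases h3 ι₀ i (Scheme.Opens.ι U) hrange hI₀P with h | h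
      · exact h
      · exfalso
        have hJ : (i ≫ ι₀).ker ∈ 𝔖 := by
          refine ⟨?_, (hker (i ≫ ι₀)).mp h⟩
          rw [Scheme.Hom.support_ker]
          obtain ⟨x, hx⟩ := hCne
          rw [← hJ₀, ← J₀.range_subschemeι] at hx
          obtain ⟨z, rfl⟩ := hx
          exact ⟨_, subset_closure ⟨z, rfl⟩⟩
        have hle : I₀ ≤ (i ≫ ι₀).ker := by
          have := Scheme.Hom.le_ker_comp i ι₀
          rwa [Scheme.IdealSheafData.ker_subschemeι] at this
        have heq : (i ≫ ι₀).ker = I₀ := le_antisymm (hI₀max hJ hle) hle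
        have hsupp : ((i ≫ ι₀).ker.support : Set T) = (I₀.support : Set T) := by rw [heq]
        rw [Scheme.Hom.support_ker, ← hι₀range,
          (i ≫ ι₀).isClosedEmbedding.isClosed_range.closure_eq] at hsupp
        -- range (i ≫ ι₀) = range ι₀, so `i` is surjective
        obtain ⟨x, hx⟩ := hUne
        have hx' : ι₀.base x ∈ Set.range (i ≫ ι₀).base := by
          rw [hsupp]; exact ⟨x, rfl⟩
        obtain ⟨z, hz⟩ := hx'
        rw [Scheme.Hom.comp_apply] at hz
        have hz' : i.base z = x := ι₀.isClosedEmbedding.injective hz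
        have hxC : x ∈ (C : Set Z₀) := by
          rw [← hJ₀, ← J₀.range_subschemeι]
          exact ⟨z, hz'⟩
        exact hxC hx
  -- (c) pass to the local ring at a point without generalizations
  obtain ⟨η, hη⟩ := H24.FieldPoint.exists_no_generalization Z₀
  have hstalk : P (Z₀.fromSpecStalk η ≫ ι₀) := by
    refine h2 (H24.FieldPoint.nhdDiagram Z₀ η ι₀) (H24.FieldPoint.nhdCone Z₀ η ι₀)
      (H24.FieldPoint.isLimitNhdCone Z₀ η ι₀) ?_ ?_ ?_
    · intro i j m
      change IsAffineHom (Spec.map _)
      infer_instance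
    · intro i
      constructor
      · change CompactSpace ↥(Spec _)
        infer_instance
      · change QuasiSeparatedSpace ↥(Spec _)
        infer_instance
    · intro i
      change P (i.unop.isAffineOpen.fromSpec ≫ ι₀)
      have hU := i.unop.isAffineOpen
      have h1' := hb i.unop.opens hU.isCompact ⟨η, i.unop.mem⟩
      haveI : CompactSpace ↥(i.unop.opens : Scheme.{u}) :=
        isCompact_iff_compactSpace.mp hU.isCompact
      haveI : QuasiSeparatedSpace ↥(i.unop.opens : Scheme.{u}) :=
        quasiSeparatedSpace_of_quasiSeparated (Scheme.Opens.ι i.unop.opens)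
      have := (hiso (Scheme.Opens.ι i.unop.opens ≫ ι₀) hU.isoSpec.inv).mpr h1'
      rwa [← Category.assoc, hU.isoSpec_inv_ι] at this
  -- (d) pass to the residue field
  let R : CommRingCat.{u} := Z₀.presheaf.stalk η
  let K : Type u := IsLocalRing.ResidueField R
  let t₀ : Spec (CommRingCat.of K) ⟶ Spec R := Spec.map (CommRingCat.ofHom (IsLocalRing.residue R))
  haveI : IsClosedImmersion t₀ :=
    IsClosedImmersion.spec_of_surjective _ (IsLocalRing.residue_surjective)
  haveI : Subsingleton ↥(Spec R) := H24.FieldPoint.subsingleton_spec_stalk Z₀ η hη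
  haveI : Surjective t₀ := ⟨fun x => by
    obtain ⟨y⟩ : Nonempty ↥(Spec (CommRingCat.of K)) := inferInstance
    exact ⟨y, Subsingleton.elim _ _⟩⟩
  refine ⟨K, inferInstance, t₀ ≫ Z₀.fromSpecStalk η ≫ ι₀, ?_⟩
  exact (h1 (Z₀.fromSpecStalk η ≫ ι₀) t₀).mpr hstalk

end Groth.Agent.S6666
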