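import Groth.Statements.S6686
import Groth.Agent.S12465
import Groth.Agent.H30.Degenerate
import Groth.Agent.H30.GrothSSExt
import Groth.Agent.H30.ExactDerived
import Groth.Agent.H4.BigRes

set_option autoImplicit false
universe u
open CategoryTheory CategoryTheory.Limits AlgebraicGeometry Opposite
open BigSite

namespace Groth.Agent.S6686

/-- Part (3): for an abelian sheaf and degree by degree: let f : T → S be a morphism of schemes, g : S'
→ S a scheme over S and T' = S' ×_S T with projections g' : T' → T and f' : T' → S'. For an abelian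
sheaf F on the big etale site of T and every q ≥ 0, the restriction i_g⁻¹ (R^q f_{big,*} F) to the
small etale site of S' is isomorphic to R^q f'_{small,*} (i_{g'}⁻¹ F), where i_h⁻¹ restricts a
big-etale sheaf over a base to the small etale site of a scheme h over that base. (Existence of an
isomorphism only: the comparison map is not constructed here. For g the identity of S this gives
(R^q f_{big,*} F)|_{S_et} ≅ R^q f_{small,*} (F|_{T_et}).) -/
theorem result {T S T' S' : Scheme.{u}} (f : T ⟶ S) (g : S' ⟶ S)
    (g' : T' ⟶ T) (f' : T' ⟶ S') (c : IsPullback g' f' f g) (F : BigSite.Ab Scheme.etalePrecoverage T) (q : ℕ) :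
    Nonempty ((BigSite.resEtAlong Scheme.etalePrecoverage g).obj ((BigSite.RpushBig Scheme.etalePrecoverage f q).obj F) ≅
      (EtCoh.Rpush f' q).obj ((BigSite.resEtAlong Scheme.etalePrecoverage g').obj F)) := by
  classical
  let K := Scheme.etalePrecoverage
  obtain ⟨e⟩ := Groth.Agent.S12465.result f g g' f' c
  let _ : HasDerivedCategory.{u + 2} (BigSite.Ab K S) := HasDerivedCategory.standard _
  let _ : HasDerivedCategory.{u + 2} (EtCoh.Ab S') := HasDerivedCategory.standard _
  let _ : HasDerivedCategory.{u + 2} (EtCoh.Ab T') := HasDerivedCategory.standard _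
  -- exactness of the restrictions
  have hpull : ∀ {A B : Scheme.{u}} (h : A ⟶ B),
      PreservesFiniteLimits (BigSite.pullBig K h AddCommGrpCat.{u + 1}) ∧
      PreservesFiniteColimits (BigSite.pullBig K h AddCommGrpCat.{u + 1}) := by
    intro A B h
    have h1 : PreservesLimitsOfSize.{0, 0} (BigSite.pullBig K h AddCommGrpCat.{u + 1}) :=
      (BigSite.shriekAbAdj K h).rightAdjoint_preservesLimits
    have h2 : PreservesColimitsOfSize.{0, 0} (BigSite.pullBig K h AddCommGrpCat.{u + 1}) :=
      (BigSite.bigAdj K h AddCommGrpCat.{u + 1}).leftAdjoint_preservesColimits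
    exact ⟨PreservesLimitsOfSize.preservesFiniteLimits _,
      PreservesColimitsOfSize.preservesFiniteColimits _⟩
  have hres : ∀ (A : Scheme.{u}),
      PreservesFiniteLimits (BigSite.resEt K A) ∧ PreservesFiniteColimits (BigSite.resEt K A) := by
    intro A
    have h1 : PreservesLimitsOfSize.{0, 0} (BigSite.resEt K A) :=
      (BigSite.piEtAdj K A).rightAdjoint_preservesLimits
    have h2 : PreservesColimitsOfSize.{0, 0} (BigSite.resEt K A) :=
      (BigSite.iEtAdj K A).leftAdjoint_preservesColimits
    exact ⟨PreservesLimitsOfSize.preservesFiniteLimits _,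
      PreservesColimitsOfSize.preservesFiniteColimits _⟩
  have : PreservesFiniteLimits (BigSite.resEtAlong K g) := by
    have := (hpull g).1
    have := (hres S').1
    exact comp_preservesFiniteLimits _ _
  have : PreservesFiniteColimits (BigSite.resEtAlong K g) := by
    have := (hpull g).2
    have := (hres S').2
    exact comp_preservesFiniteColimits _ _
  have : PreservesFiniteLimits (BigSite.resEtAlong K g') := by
    have := (hpull g').1
    have := (hres T').1
    exact comp_preservesFiniteLimits _ _
  have : PreservesFiniteColimits (BigSite.resEtAlong K g') := by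
    have := (hpull g').2
    have := (hres T').2
    exact comp_preservesFiniteColimits _ _
  have : PreservesFiniteLimits (EtCoh.push f') := by
    have : PreservesLimitsOfSize.{0, 0} (EtCoh.push f') :=
      (EtCoh.pullPushAdj f').rightAdjoint_preservesLimits
    exact PreservesLimitsOfSize.preservesFiniteLimits _
  have hT1 : ∀ Q : BigSite.Ab K T, Injective Q → ∀ i : ℕ, 0 < i →
      IsZero (((BigSite.resEtAlong K g).rightDerived i).obj
        ((BigSite.pushBig K f AddCommGrpCat.{u + 1}).obj Q)) := by
    intro Q _ i hi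
    obtain ⟨j, rfl⟩ : ∃ j, i = j + 1 := ⟨i - 1, by lia⟩
    exact Groth.Agent.H30.ExactDerived.isZero_rightDerived_succ _ _ j
  have hac : ∀ i : ℕ, Groth.Agent.H30.Leray.acyclic (BigSite.resEtAlong K g)
      (((BigSite.pushBig K f AddCommGrpCat.{u + 1}).rightDerived i).obj F) := by
    intro i k hk
    obtain ⟨j, rfl⟩ : ∃ j, k = j + 1 := ⟨k - 1, by lia⟩
    exact Groth.Agent.H30.ExactDerived.isZero_rightDerived_succ _ _ j
  obtain ⟨e1⟩ := Groth.Agent.H30.Degenerate.iso_of_acyclic
    (BigSite.pushBig K f AddCommGrpCat.{u + 1}) (BigSite.resEtAlong K g)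
    hT1 F hac q
  have hT2 : ∀ Q : BigSite.Ab K T, Injective Q → ∀ i : ℕ, 0 < i →
      IsZero (((EtCoh.push f').rightDerived i).obj
        ((BigSite.resEtAlong K g').obj Q)) := by
    intro Q _ i hi
    obtain ⟨j, rfl⟩ : ∃ j, i = j + 1 := ⟨i - 1, by lia⟩
    have := Groth.Agent.H4.BigRes.injective_resEtAlong K g' Q
    exact Functor.isZero_rightDerived_obj_injective_succ _ j _
  have h' : ∀ i : ℕ, 0 < i →
      IsZero (((BigSite.resEtAlong K g').rightDerived i).obj F) := by
    intro i hi
    obtain ⟨j, rfl⟩ : ∃ j, i = j + 1 := ⟨i - 1, by lia⟩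
    exact Groth.Agent.H30.ExactDerived.isZero_rightDerived_succ _ _ j
  obtain ⟨e2⟩ := Groth.Agent.H30.Degenerate.iso_of_isZero_higher
    (BigSite.resEtAlong K g') (EtCoh.push f')
    hT2 F h' q
  exact ⟨e1.symm ≪≫ (Groth.Agent.H30.GrothSSExt.rightDerivedIsoOfIso e q).app F ≪≫ e2 ≪≫
    ((EtCoh.push f').rightDerived q).mapIso
      ((BigSite.resEtAlong K g').rightDerivedZeroIsoSelf.app F)⟩

end Groth.Agent.S6686
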