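import Groth.Statements.S6696
import Groth.Agent.S12464
import Groth.Agent.H30.Degenerate
import Groth.Agent.H30.GrothSSExt
import Groth.Agent.H30.ExactDerived
import Groth.Agent.H4.BigRes

set_option autoImplicit false
universe u
open CategoryTheory CategoryTheory.Limits AlgebraicGeometry Opposite
open BigSite

namespace Groth.Agent.S6696

/-- Part (5): for an abelian sheaf and degree by degree: let f : T → S be a morphism of schemes, g : S'
→ S a scheme over S and T' = S' ×_S T with projections g' : T' → T and f' : T' → S'. For an abelian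
sheaf F on the big etale site of T and every q ≥ 0, the restriction g_big⁻¹ (R^q f_{big,*} F) of the
big-site higher direct image to the big etale site of S' is isomorphic to R^q f'_{big,*} (g'_big⁻¹
F). (Existence of an isomorphism only.) -/
theorem result {T S T' S' : Scheme.{u}} (f : T ⟶ S) (g : S' ⟶ S)
    (g' : T' ⟶ T) (f' : T' ⟶ S') (c : IsPullback g' f' f g) (F : BigSite.Ab Scheme.etalePrecoverage T) (q : ℕ) :
    Nonempty ((BigSite.pullBig Scheme.etalePrecoverage g AddCommGrpCat.{u + 1}).obj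
        ((BigSite.RpushBig Scheme.etalePrecoverage f q).obj F) ≅
      (BigSite.RpushBig Scheme.etalePrecoverage f' q).obj
        ((BigSite.pullBig Scheme.etalePrecoverage g' AddCommGrpCat.{u + 1}).obj F)) := by
  classical
  let K := Scheme.etalePrecoverage
  obtain ⟨e⟩ := (Groth.Agent.S12464.result f g g' f' c AddCommGrpCat.{u + 1}).2
  let _ : HasDerivedCategory.{u + 2} (BigSite.Ab K S) := HasDerivedCategory.standard _
  let _ : HasDerivedCategory.{u + 2} (BigSite.Ab K S') := HasDerivedCategory.standard _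
  let _ : HasDerivedCategory.{u + 2} (BigSite.Ab K T') := HasDerivedCategory.standard _
  -- exactness of the pullbacks
  have hg_lim : PreservesLimitsOfSize.{0, 0} (BigSite.pullBig K g AddCommGrpCat.{u + 1}) :=
    (BigSite.shriekAbAdj K g).rightAdjoint_preservesLimits
  have hg_colim : PreservesColimitsOfSize.{0, 0} (BigSite.pullBig K g AddCommGrpCat.{u + 1}) :=
    (BigSite.bigAdj K g AddCommGrpCat.{u + 1}).leftAdjoint_preservesColimits
  have hg'_lim : PreservesLimitsOfSize.{0, 0} (BigSite.pullBig K g' AddCommGrpCat.{u + 1}) :=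
    (BigSite.shriekAbAdj K g').rightAdjoint_preservesLimits
  have hg'_colim : PreservesColimitsOfSize.{0, 0} (BigSite.pullBig K g' AddCommGrpCat.{u + 1}) :=
    (BigSite.bigAdj K g' AddCommGrpCat.{u + 1}).leftAdjoint_preservesColimits
  have hf'_lim : PreservesLimitsOfSize.{0, 0} (BigSite.pushBig K f' AddCommGrpCat.{u + 1}) :=
    (BigSite.bigAdj K f' AddCommGrpCat.{u + 1}).rightAdjoint_preservesLimits
  have : PreservesFiniteLimits (BigSite.pullBig K g AddCommGrpCat.{u + 1}) :=
    PreservesLimitsOfSize.preservesFiniteLimits _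
  have : PreservesFiniteColimits (BigSite.pullBig K g AddCommGrpCat.{u + 1}) :=
    PreservesColimitsOfSize.preservesFiniteColimits _
  have : PreservesFiniteLimits (BigSite.pullBig K g' AddCommGrpCat.{u + 1}) :=
    PreservesLimitsOfSize.preservesFiniteLimits _
  have : PreservesFiniteColimits (BigSite.pullBig K g' AddCommGrpCat.{u + 1}) :=
    PreservesColimitsOfSize.preservesFiniteColimits _
  have : PreservesFiniteLimits (BigSite.pushBig K f' AddCommGrpCat.{u + 1}) :=
    PreservesLimitsOfSize.preservesFiniteLimits _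
  have hT1 : ∀ Q : BigSite.Ab K T, Injective Q → ∀ i : ℕ, 0 < i →
      IsZero (((BigSite.pullBig K g AddCommGrpCat.{u + 1}).rightDerived i).obj
        ((BigSite.pushBig K f AddCommGrpCat.{u + 1}).obj Q)) := by
    intro Q _ i hi
    obtain ⟨j, rfl⟩ : ∃ j, i = j + 1 := ⟨i - 1, by lia⟩
    exact Groth.Agent.H30.ExactDerived.isZero_rightDerived_succ _ _ j
  have hac : ∀ i : ℕ, Groth.Agent.H30.Leray.acyclic (BigSite.pullBig K g AddCommGrpCat.{u + 1})
      (((BigSite.pushBig K f AddCommGrpCat.{u + 1}).rightDerived i).obj F) := by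
    intro i k hk
    obtain ⟨j, rfl⟩ : ∃ j, k = j + 1 := ⟨k - 1, by lia⟩
    exact Groth.Agent.H30.ExactDerived.isZero_rightDerived_succ _ _ j
  obtain ⟨e1⟩ := Groth.Agent.H30.Degenerate.iso_of_acyclic
    (BigSite.pushBig K f AddCommGrpCat.{u + 1}) (BigSite.pullBig K g AddCommGrpCat.{u + 1})
    hT1 F hac q
  have hT2 : ∀ Q : BigSite.Ab K T, Injective Q → ∀ i : ℕ, 0 < i →
      IsZero (((BigSite.pushBig K f' AddCommGrpCat.{u + 1}).rightDerived i).obj
        ((BigSite.pullBig K g' AddCommGrpCat.{u + 1}).obj Q)) := by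
    intro Q _ i hi
    obtain ⟨j, rfl⟩ : ∃ j, i = j + 1 := ⟨i - 1, by lia⟩
    have := Groth.Agent.H4.BigRes.injective_pullBig K g' Q
    exact Functor.isZero_rightDerived_obj_injective_succ _ j _
  have h' : ∀ i : ℕ, 0 < i →
      IsZero (((BigSite.pullBig K g' AddCommGrpCat.{u + 1}).rightDerived i).obj F) := by
    intro i hi
    obtain ⟨j, rfl⟩ : ∃ j, i = j + 1 := ⟨i - 1, by lia⟩
    exact Groth.Agent.H30.ExactDerived.isZero_rightDerived_succ _ _ j
  obtain ⟨e2⟩ := Groth.Agent.H30.Degenerate.iso_of_isZero_higher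
    (BigSite.pullBig K g' AddCommGrpCat.{u + 1}) (BigSite.pushBig K f' AddCommGrpCat.{u + 1})
    hT2 F h' q
  exact ⟨e1.symm ≪≫ (Groth.Agent.H30.GrothSSExt.rightDerivedIsoOfIso e q).app F ≪≫ e2 ≪≫
    ((BigSite.pushBig K f' AddCommGrpCat.{u + 1}).rightDerived q).mapIso
      ((BigSite.pullBig K g' AddCommGrpCat.{u + 1}).rightDerivedZeroIsoSelf.app F)⟩

end Groth.Agent.S6696
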