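import Groth.Statements.S6697
import Groth.Agent.H4.KInjAdj
import Groth.Agent.H4.BigRes

set_option autoImplicit false
universe u
open CategoryTheory CategoryTheory.Limits AlgebraicGeometry Opposite
open BigSite

namespace Groth.Agent.S6697

/-- Let S be a scheme, I a K-injective complex of abelian sheaves on the big etale site of S (every
morphism from an acyclic complex to I is null-homotopic) and f : T → S a scheme over S. Then (b) the
termwise restriction I|_{S_et} to the small etale site of S is K-injective, and (a) the termwise
restriction i_f⁻¹ I to the small etale site of T is K-injective. -/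
theorem result (S : Scheme.{u})
    (I : CochainComplex (BigSite.Ab Scheme.etalePrecoverage S) ℤ) [I.IsKInjective] {T : Scheme.{u}} (f : T ⟶ S) :
    CochainComplex.IsKInjective (((BigSite.resEt Scheme.etalePrecoverage S).mapHomologicalComplex (ComplexShape.up ℤ)).obj I) ∧
      CochainComplex.IsKInjective (((BigSite.resEtAlong Scheme.etalePrecoverage f).mapHomologicalComplex (ComplexShape.up ℤ)).obj I) := by
  have hb : ∀ (S' : Scheme.{u}) (J : CochainComplex (BigSite.Ab Scheme.etalePrecoverage S') ℤ)
      [J.IsKInjective], CochainComplex.IsKInjective
        (((BigSite.resEt Scheme.etalePrecoverage S').mapHomologicalComplex (ComplexShape.up ℤ)).obj J) := by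
    intro S' J _
    haveI : (BigSite.piEtPull Scheme.etalePrecoverage S').Additive :=
      (BigSite.piEtAdj Scheme.etalePrecoverage S').left_adjoint_additive
    haveI : PreservesFiniteColimits (BigSite.piEtPull Scheme.etalePrecoverage S') :=
      have : PreservesColimitsOfSize.{0, 0} (BigSite.piEtPull Scheme.etalePrecoverage S') :=
        (BigSite.piEtAdj Scheme.etalePrecoverage S').leftAdjoint_preservesColimits
      PreservesColimitsOfSize.preservesFiniteColimits _
    exact Groth.Agent.H4.KInjAdj.isKInjective_map (BigSite.piEtAdj Scheme.etalePrecoverage S') J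
  refine ⟨hb S I, ?_⟩
  haveI := Groth.Agent.H4.BigShriek.shriekAb_preservesFiniteLimits f Scheme.etalePrecoverage
  haveI : (BigSite.shriekAb Scheme.etalePrecoverage f).Additive :=
    (BigSite.shriekAbAdj Scheme.etalePrecoverage f).left_adjoint_additive
  haveI : PreservesFiniteColimits (BigSite.shriekAb Scheme.etalePrecoverage f) :=
    have : PreservesColimitsOfSize.{0, 0} (BigSite.shriekAb Scheme.etalePrecoverage f) :=
      (BigSite.shriekAbAdj Scheme.etalePrecoverage f).leftAdjoint_preservesColimits
    PreservesColimitsOfSize.preservesFiniteColimits _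
  haveI h1 : CochainComplex.IsKInjective
      (((BigSite.pullBig Scheme.etalePrecoverage f AddCommGrpCat.{u + 1}).mapHomologicalComplex
        (ComplexShape.up ℤ)).obj I) :=
    Groth.Agent.H4.KInjAdj.isKInjective_map (BigSite.shriekAbAdj Scheme.etalePrecoverage f) I
  exact @hb T (((BigSite.pullBig Scheme.etalePrecoverage f AddCommGrpCat.{u + 1}).mapHomologicalComplex
    (ComplexShape.up ℤ)).obj I) h1

end Groth.Agent.S6697
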