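import Groth.Statements.S6703
import Mathlib.CategoryTheory.Triangulated.Yoneda
import Mathlib.CategoryTheory.Triangulated.Adjunction
import Mathlib.CategoryTheory.Adjunction.FullyFaithful

set_option autoImplicit false
universe v v' u u'
open CategoryTheory
open DEquiv

namespace Groth.Agent.S6703

open CategoryTheory.Limits CategoryTheory.Pretriangulated Opposite

section Lemmas

variable {D : Type u} [Category.{v} D] [Preadditive D] [HasZeroObject D] [HasShift D ℤ]
  [∀ n : ℤ, (shiftFunctor D n).Additive] [Pretriangulated D]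

lemma eq_zero_of_isZero_ab {G : AddCommGrpCat} (hG : IsZero G) (x : G) : x = 0 := by
  have h := (IsZero.iff_id_eq_zero G).mp hG
  have := ConcreteCategory.congr_hom h x
  simpa using this

/-- A morphism inducing bijections on `Hom(E, -⟦n⟧)` for all `E` in a class whose right
orthogonal is zero is an isomorphism. -/
lemma isIso_of_bijective_comp (S : Set D)
    (h2 : ∀ K : D, (∀ E ∈ S, ∀ (i : ℤ) (f : E ⟶ (shiftFunctor D i).obj K), f = 0) → IsZero K)
    {X Y : D} (φ : X ⟶ Y)
    (h : ∀ E ∈ S, ∀ n : ℤ, Function.Bijective (fun f : E ⟶ X⟦n⟧ => f ≫ φ⟦n⟧')) : IsIso φ := by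
  obtain ⟨Z, g, h', hT⟩ := distinguished_cocone_triangle φ
  have hZ : IsZero Z := by
    apply h2
    intro E hE i f
    let F := preadditiveCoyoneda.obj (op E)
    have hiso : ∀ n : ℤ, IsIso ((F.shift n).map φ) := by
      intro n
      rw [ConcreteCategory.isIso_iff_bijective]
      exact h E hE n
    have hker := (F.mem_homologicalKernel_trW_iff φ).mpr hiso
    have hZ := (F.homologicalKernel.trW_iff_of_distinguished _ hT).mp hker
    exact eq_zero_of_isZero_ab (hZ i) f
  exact (Triangle.isZero₃_iff_isIso₁ _ hT).mp hZ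

/-- A morphism inducing bijections on `Hom(-, E⟦n⟧)` for all `E` in a class whose left
orthogonal is zero is an isomorphism. -/
lemma isIso_of_bijective_comp' (S : Set D)
    (h3 : ∀ K : D, (∀ E ∈ S, ∀ (i : ℤ) (f : K ⟶ (shiftFunctor D i).obj E), f = 0) → IsZero K)
    {X Y : D} (ψ : X ⟶ Y)
    (h : ∀ E ∈ S, ∀ n : ℤ, Function.Bijective (fun f : Y ⟶ E⟦n⟧ => ψ ≫ f)) : IsIso ψ := by
  obtain ⟨W, a, c, hT⟩ := distinguished_cocone_triangle₁ ψ
  have hW : IsZero W := by
    apply h3
    intro E hE i f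
    let F := preadditiveYoneda.obj E
    have hiso : ∀ n : ℤ, IsIso ((F.shift n).map ψ.op) := by
      intro n
      rw [ConcreteCategory.isIso_iff_bijective]
      exact h E hE n
    have hker := (F.mem_homologicalKernel_trW_iff ψ.op).mpr hiso
    have hTop := Pretriangulated.op_distinguished _ hT
    have hZ := (F.homologicalKernel.trW_iff_of_distinguished _ hTop).mp hker
    rw [Functor.mem_homologicalKernel_iff] at hZ
    exact eq_zero_of_isZero_ab (hZ i) f
  exact (Triangle.isZero₁_iff_isIso₂ _ hT).mp hW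

end Lemmas

open CategoryTheory.Limits CategoryTheory.Pretriangulated in
/-- Let F : D ⥤ D' be an exact functor of triangulated categories admitting both a left and a right
adjoint, and let S be a set of objects of D such that an object K of D is zero as soon as Hom(E,
K⟦i⟧) = 0 for all E ∈ S and i ∈ ℤ, and also as soon as Hom(K, E⟦i⟧) = 0 for all E ∈ S and i ∈ ℤ. If
for all E, E' ∈ S and i ∈ ℤ the map Hom(E, E'⟦i⟧) → Hom(F E, F (E'⟦i⟧)) given by F is bijective,
then F is full and faithful. -/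
theorem result
    {D : Type u} [Category.{v} D] [Preadditive D] [HasZeroObject D] [HasShift D ℤ]
    [∀ n : ℤ, (shiftFunctor D n).Additive] [Pretriangulated D] [IsTriangulated D]
    {D' : Type u'} [Category.{v'} D'] [Preadditive D'] [HasZeroObject D'] [HasShift D' ℤ]
    [∀ n : ℤ, (shiftFunctor D' n).Additive] [Pretriangulated D'] [IsTriangulated D']
    (F : D ⥤ D') [F.CommShift ℤ] [F.IsTriangulated] [F.IsLeftAdjoint] [F.IsRightAdjoint]
    (S : Set D)
    (h2 : ∀ K : D, (∀ E ∈ S, ∀ (i : ℤ) (f : E ⟶ (shiftFunctor D i).obj K), f = 0) → IsZero K)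
    (h3 : ∀ K : D, (∀ E ∈ S, ∀ (i : ℤ) (f : K ⟶ (shiftFunctor D i).obj E), f = 0) → IsZero K)
    (h4 : ∀ E ∈ S, ∀ E' ∈ S, ∀ i : ℤ,
      Function.Bijective (fun f : E ⟶ (shiftFunctor D i).obj E' => F.map f)) :
    F.Full ∧ F.Faithful := by
  -- the right adjoint `H`
  let H := F.rightAdjoint
  let adj₁ : F ⊣ H := Adjunction.ofIsLeftAdjoint F
  let _ : H.CommShift ℤ := adj₁.rightAdjointCommShift ℤ
  have : adj₁.CommShift ℤ := adj₁.commShift_of_leftAdjoint ℤ
  -- the left adjoint `G`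
  let G := F.leftAdjoint
  let adj₂ : G ⊣ F := Adjunction.ofIsRightAdjoint F
  -- Step 1: the unit is an isomorphism on `S`
  let η : ∀ Y : D, Y ⟶ H.obj (F.obj Y) := fun Y => adj₁.unit.app Y
  let c : ∀ (n : ℤ) (Y : D), H.obj (F.obj (Y⟦n⟧)) ⟶ (H.obj (F.obj Y))⟦n⟧ := fun n Y =>
    ((F ⋙ H).commShiftIso n).hom.app Y
  have hc : ∀ (n : ℤ) (Y : D), IsIso (c n Y) := fun n Y => by
    dsimp only [c]
    infer_instance
  have hcomp : ∀ {E Y : D} (f : E ⟶ Y), f ≫ η Y = adj₁.homEquiv E (F.obj Y) (F.map f) := by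
    intro E Y f
    rw [Adjunction.homEquiv_unit]
    exact (adj₁.unit.naturality f)
  have hshift : ∀ (Y : D) (n : ℤ), (η Y)⟦n⟧' = η (Y⟦n⟧) ≫ c n Y := fun Y n =>
    (adj₁.unit_app_commShiftIso_hom_app ℤ n Y).symm
  have h1 : ∀ E' ∈ S, IsIso (η E') := by
    intro E' hE'
    apply isIso_of_bijective_comp S h2
    intro E hE n
    have hbij : Function.Bijective (fun f : E ⟶ E'⟦n⟧ =>
        (adj₁.homEquiv E (F.obj (E'⟦n⟧)) (F.map f)) ≫ c n E') := by
      have b1 := h4 E hE E' hE' n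
      have b2 := (adj₁.homEquiv E (F.obj (E'⟦n⟧))).bijective
      have := hc n E'
      have b3 : Function.Bijective (fun g : E ⟶ H.obj (F.obj (E'⟦n⟧)) => g ≫ c n E') :=
        ⟨fun g g' hgg' => (cancel_mono _).mp hgg',
          fun g => ⟨g ≫ inv (c n E'), by simp⟩⟩
      exact b3.comp (b2.comp b1)
    have e : (fun f : E ⟶ E'⟦n⟧ => f ≫ (η E')⟦n⟧') = (fun f : E ⟶ E'⟦n⟧ =>
        (adj₁.homEquiv E (F.obj (E'⟦n⟧)) (F.map f)) ≫ c n E') := by
      funext f
      rw [hshift, ← Category.assoc, hcomp]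
    rw [e]
    exact hbij
  -- the unit at shifts of objects of `S`
  have h1' : ∀ E' ∈ S, ∀ n : ℤ, IsIso (η (E'⟦n⟧)) := by
    intro E' hE' n
    have := h1 E' hE'
    have := hc n E'
    have e : η (E'⟦n⟧) = (η E')⟦n⟧' ≫ inv (c n E') := by
      rw [hshift, Category.assoc, IsIso.hom_inv_id, Category.comp_id]
    rw [e]
    infer_instance
  -- Step 2: `F` is bijective on `Hom(K, E'⟦n⟧)`
  have h2' : ∀ (K : D), ∀ E' ∈ S, ∀ n : ℤ,
      Function.Bijective (fun f : K ⟶ E'⟦n⟧ => F.map f) := by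
    intro K E' hE' n
    have := h1' E' hE' n
    have b1 : Function.Bijective (fun f : K ⟶ E'⟦n⟧ => f ≫ η (E'⟦n⟧)) :=
      ⟨fun g g' hgg' => (cancel_mono _).mp hgg',
        fun g => ⟨g ≫ inv (η (E'⟦n⟧)), by simp⟩⟩
    have b2 := (adj₁.homEquiv K (F.obj (E'⟦n⟧))).symm.bijective
    have b3 := b2.comp b1
    have e : (fun f : K ⟶ E'⟦n⟧ => F.map f) =
        (adj₁.homEquiv K (F.obj (E'⟦n⟧))).symm ∘ (fun f : K ⟶ E'⟦n⟧ => f ≫ η (E'⟦n⟧)) := by
      funext f
      simp only [Function.comp_apply]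
      rw [hcomp, Equiv.symm_apply_apply]
    rw [e]
    exact b3
  -- Step 3: the counit of `G ⊣ F` is an isomorphism
  have h3' : ∀ K : D, IsIso (adj₂.counit.app K) := by
    intro K
    apply isIso_of_bijective_comp' S h3
    intro E' hE' n
    have b1 := h2' K E' hE' n
    have b2 := (adj₂.homEquiv (F.obj K) (E'⟦n⟧)).symm.bijective
    have b3 := b2.comp b1
    have e : (fun f : K ⟶ E'⟦n⟧ => adj₂.counit.app K ≫ f) =
        (adj₂.homEquiv (F.obj K) (E'⟦n⟧)).symm ∘ (fun f : K ⟶ E'⟦n⟧ => F.map f) := by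
      funext f
      simp only [Function.comp_apply]
      rw [Adjunction.homEquiv_counit]
      exact (adj₂.counit.naturality f).symm
    change Function.Bijective (fun f : K ⟶ E'⟦n⟧ => adj₂.counit.app K ≫ f)
    rw [e]
    exact b3
  have : IsIso adj₂.counit := NatIso.isIso_of_isIso_app _
  have hff := adj₂.fullyFaithfulROfIsIsoCounit
  exact ⟨hff.full, hff.faithful⟩

end Groth.Agent.S6703
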