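import Groth.Statements.S6731
import Mathlib.LinearAlgebra.Dual.Lemmas
import Mathlib.LinearAlgebra.FreeModule.Finite.Basic

set_option autoImplicit false
set_option linter.unusedSectionVars false
universe w v u
open CategoryTheory
open DEquiv

namespace Groth.Agent.S6731

section Aux

variable {k : Type w} [Field k] {T : Type u} [Category.{v} T] [Preadditive T] [Linear k T]
  [∀ X Y : T, Module.Finite k (X ⟶ Y)]

/-- Data of a "Serre pairing" for an endofunctor `S`. -/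
structure SerreData (S : T ⥤ T) where
  c : ∀ X Y : T, (X ⟶ Y) ≃ₗ[k] Module.Dual k (Y ⟶ S.obj X)
  hc₁ : ∀ (X Y Y' : T) (f : X ⟶ Y) (g : Y ⟶ Y'),
      c X Y' (f ≫ g) = (c X Y f) ∘ₗ Linear.leftComp k (S.obj X) g
  hc₂ : ∀ (X' X Y : T) (a : X' ⟶ X) (f : X ⟶ Y),
      c X' Y (a ≫ f) = (c X Y f) ∘ₗ Linear.rightComp k Y (S.map a)

namespace SerreData

variable {S S' : T ⥤ T} (D : SerreData (k := k) S) (D' : SerreData (k := k) S')

/-- the trace functional -/
noncomputable def tr (X : T) : Module.Dual k (X ⟶ S.obj X) := D.c X X (𝟙 X)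

lemma c_apply (X Y : T) (f : X ⟶ Y) (h : Y ⟶ S.obj X) : D.c X Y f h = D.tr X (f ≫ h) := by
  have := D.hc₁ X X Y (𝟙 X) f
  rw [Category.id_comp] at this
  rw [this]
  rfl

lemma tr_comp (X' X : T) (a : X' ⟶ X) (f : X ⟶ S.obj X') :
    D.tr X' (a ≫ f) = D.tr X (f ≫ S.map a) := by
  have h1 : D.c X' X a f = D.tr X' (a ≫ f) := D.c_apply X' X a f
  have h2 := D.hc₂ X' X X a (𝟙 X)
  rw [Category.comp_id] at h2
  rw [← h1, h2]
  rfl

/-- The transposed pairing as an equivalence. -/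
noncomputable def Ψ (X Y : T) : (Y ⟶ S.obj X) ≃ₗ[k] Module.Dual k (X ⟶ Y) :=
  (Module.evalEquiv k (Y ⟶ S.obj X)).trans (D.c X Y).dualMap

lemma Ψ_apply (X Y : T) (ψ : Y ⟶ S.obj X) (f : X ⟶ Y) : D.Ψ X Y ψ f = D.c X Y f ψ := by
  simp [Ψ]

/-- The comparison morphism. -/
noncomputable def φ (X : T) : S.obj X ⟶ S'.obj X := (D'.Ψ X (S.obj X)).symm (D.tr X)

lemma φ_spec (X : T) (f : X ⟶ S.obj X) : D'.c X (S.obj X) f (φ D D' X) = D.tr X f := by
  rw [← Ψ_apply]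
  simp [φ]

lemma φ_spec' (X : T) (f : X ⟶ S.obj X) : D'.tr X (f ≫ φ D D' X) = D.tr X f := by
  rw [← D'.c_apply, φ_spec]

lemma φ_comp_φ (X : T) : φ D D' X ≫ φ D' D X = 𝟙 _ := by
  apply (D.Ψ X (S.obj X)).injective
  ext f
  rw [Ψ_apply, Ψ_apply, c_apply, c_apply, Category.comp_id, ← Category.assoc, φ_spec', φ_spec']

lemma φ_natural (X' X : T) (a : X' ⟶ X) : S.map a ≫ φ D D' X = φ D D' X' ≫ S'.map a := by
  apply (D'.Ψ X (S.obj X')).injective
  ext f
  rw [Ψ_apply, Ψ_apply, c_apply, c_apply]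
  have h1 : D'.tr X (f ≫ S.map a ≫ φ D D' X) = D.tr X (f ≫ S.map a) := by
    rw [← Category.assoc, φ_spec']
  have h2 : D'.tr X (f ≫ φ D D' X' ≫ S'.map a) = D.tr X (f ≫ S.map a) := by
    rw [← Category.assoc, ← D'.tr_comp, ← Category.assoc, φ_spec', D.tr_comp]
  rw [h1, h2]

lemma compat (X Y : T) (f : X ⟶ Y) :
    D.c X Y f = (D'.c X Y f) ∘ₗ Linear.rightComp k Y (φ D D' X) := by
  ext h
  rw [LinearMap.comp_apply, Linear.rightComp_apply, c_apply, c_apply, ← Category.assoc, φ_spec']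

lemma φ_unique (X : T) (g : S.obj X ⟶ S'.obj X)
    (hg : ∀ (Y : T) (f : X ⟶ Y), D.c X Y f = (D'.c X Y f) ∘ₗ Linear.rightComp k Y g) :
    g = φ D D' X := by
  apply (D'.Ψ X (S.obj X)).injective
  ext f
  rw [Ψ_apply, Ψ_apply, φ_spec]
  have := LinearMap.congr_fun (hg _ f) (𝟙 _)
  rw [LinearMap.comp_apply, Linear.rightComp_apply, Category.id_comp, c_apply,
    Category.comp_id] at this
  exact this.symm

end SerreData

end Aux

open CategoryTheory.Limits CategoryTheory.Pretriangulated in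
/-- Let k be a field and T a k-linear triangulated category with dim_k Hom(X, Y) < ∞ for all X, Y. Let
(S, c) and (S', c') be Serre functors: k-linear equivalences T ⥤ T with k-linear isomorphisms
c_{X,Y} : Hom(X, Y) ≅ Hom(Y, S X)^∨ natural in X and Y (likewise c'). Then there is a unique
isomorphism of functors φ : S ≅ S' compatible with c and c', i.e. c_{X,Y}(f) is c'_{X,Y}(f) composed
with postcomposition by φ_X. -/
theorem result
    {k : Type w} [Field k]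
    {T : Type u} [Category.{v} T] [Preadditive T] [Linear k T] [HasZeroObject T] [HasShift T ℤ]
    [∀ n : ℤ, (shiftFunctor T n).Additive] [∀ n : ℤ, (shiftFunctor T n).Linear k] [Pretriangulated T]
    [IsTriangulated T] [∀ X Y : T, Module.Finite k (X ⟶ Y)]
    (S : T ≌ T) [S.functor.Additive] [S.functor.Linear k]
    (c : ∀ X Y : T, (X ⟶ Y) ≃ₗ[k] Module.Dual k (Y ⟶ S.functor.obj X))
    (hc₁ : ∀ (X Y Y' : T) (f : X ⟶ Y) (g : Y ⟶ Y'),
      c X Y' (f ≫ g) = (c X Y f) ∘ₗ Linear.leftComp k (S.functor.obj X) g)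
    (hc₂ : ∀ (X' X Y : T) (a : X' ⟶ X) (f : X ⟶ Y),
      c X' Y (a ≫ f) = (c X Y f) ∘ₗ Linear.rightComp k Y (S.functor.map a))
    (S' : T ≌ T) [S'.functor.Additive] [S'.functor.Linear k]
    (c' : ∀ X Y : T, (X ⟶ Y) ≃ₗ[k] Module.Dual k (Y ⟶ S'.functor.obj X))
    (hc'₁ : ∀ (X Y Y' : T) (f : X ⟶ Y) (g : Y ⟶ Y'),
      c' X Y' (f ≫ g) = (c' X Y f) ∘ₗ Linear.leftComp k (S'.functor.obj X) g)
    (hc'₂ : ∀ (X' X Y : T) (a : X' ⟶ X) (f : X ⟶ Y),
      c' X' Y (a ≫ f) = (c' X Y f) ∘ₗ Linear.rightComp k Y (S'.functor.map a)) :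
    ∃! φ : S.functor ≅ S'.functor, ∀ (X Y : T) (f : X ⟶ Y),
      c X Y f = (c' X Y f) ∘ₗ Linear.rightComp k Y (φ.hom.app X) := by
  let D : SerreData (k := k) S.functor := ⟨c, hc₁, hc₂⟩
  let D' : SerreData (k := k) S'.functor := ⟨c', hc'₁, hc'₂⟩
  let Φ : S.functor ≅ S'.functor :=
    NatIso.ofComponents
      (fun X => ⟨SerreData.φ D D' X, SerreData.φ D' D X, SerreData.φ_comp_φ D D' X,
        SerreData.φ_comp_φ D' D X⟩)
      (fun {X' X} a => SerreData.φ_natural D D' X' X a)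
  refine ⟨Φ, fun X Y f => SerreData.compat D D' X Y f, ?_⟩
  intro Φ' hΦ'
  ext X
  exact SerreData.φ_unique D D' X (Φ'.hom.app X) (fun Y f => hΦ' X Y f)

end Groth.Agent.S6731
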