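import Groth.Statements.S6779
import Groth.Agent.H34.SimplicialGroupKan

set_option autoImplicit false
open CategoryTheory
universe u
open SSet

namespace Groth.Agent.S6779

/-- The underlying simplicial set of a simplicial group is a Kan complex. -/
theorem result (X : SimplicialObject GrpCat.{u}) : SSet.KanComplex (X ⋙ forget GrpCat.{u}) := by
  have : Groth.Agent.H34.GroupStr (X ⋙ forget GrpCat.{u}) :=
    { grp := fun n => inferInstanceAs (Group (X.obj (Opposite.op (SimplexCategory.mk n))))
      δ_mul := fun n i (a b : X.obj (Opposite.op (SimplexCategory.mk (n + 1)))) =>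
        map_mul (X.δ i).hom a b
      σ_mul := fun n i (a b : X.obj (Opposite.op (SimplexCategory.mk n))) =>
        map_mul (X.σ i).hom a b }
  exact Groth.Agent.H34.kanComplex_of_groupStr _

end Groth.Agent.S6779
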