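import Groth.Statements.S6780
import Groth.Agent.H34.SimplicialGroupKan

set_option autoImplicit false
open CategoryTheory
universe u
open SSet

namespace Groth.Agent.S6780

/-- A degreewise surjective homomorphism of simplicial abelian groups is a Kan fibration of the
underlying simplicial sets. -/
theorem result {X Y : SimplicialObject AddCommGrpCat.{u}} (f : X ⟶ Y) (hf : ∀ n : SimplexCategoryᵒᵖ, Function.Surjective (f.app n)) : SSet.modelCategoryQuillen.J.rlp (X := X ⋙ forget AddCommGrpCat.{u}) (Y := Y ⋙ forget AddCommGrpCat.{u}) (Functor.whiskerRight f (forget AddCommGrpCat.{u})) := by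
  let gX : Groth.Agent.H34.GroupStr (X ⋙ forget AddCommGrpCat.{u}) :=
    { grp := fun n => inferInstanceAs
        (Group (Multiplicative (X.obj (Opposite.op (SimplexCategory.mk n)))))
      δ_mul := fun n i (a b : X.obj (Opposite.op (SimplexCategory.mk (n + 1)))) =>
        map_add (X.δ i).hom a b
      σ_mul := fun n i (a b : X.obj (Opposite.op (SimplexCategory.mk n))) =>
        map_add (X.σ i).hom a b }
  let gY : Groth.Agent.H34.GroupStr (Y ⋙ forget AddCommGrpCat.{u}) :=
    { grp := fun n => inferInstanceAs
        (Group (Multiplicative (Y.obj (Opposite.op (SimplexCategory.mk n)))))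
      δ_mul := fun n i (a b : Y.obj (Opposite.op (SimplexCategory.mk (n + 1)))) =>
        map_add (Y.δ i).hom a b
      σ_mul := fun n i (a b : Y.obj (Opposite.op (SimplexCategory.mk n))) =>
        map_add (Y.σ i).hom a b }
  refine Groth.Agent.H34.rlp_J_of_groupStr (Functor.whiskerRight f (forget AddCommGrpCat.{u})) ?_ ?_
  · intro n a b
    have key : ∀ (a b : X.obj (Opposite.op (SimplexCategory.mk n))),
        (f.app (Opposite.op (SimplexCategory.mk n))).hom (a + b) =
          (f.app (Opposite.op (SimplexCategory.mk n))).hom a +
            (f.app (Opposite.op (SimplexCategory.mk n))).hom b := fun a b => map_add _ a b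
    exact key a b
  · intro n
    exact hf _

end Groth.Agent.S6780
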