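import Groth.Statements.S6781
import Groth.Agent.H34.SimplicialGroupKan
import Groth.Agent.H34.SimplicialAbKernel

set_option autoImplicit false
open CategoryTheory
universe u
open SSet

namespace Groth.Agent.S6781

open Groth.Agent.H34 Simplicial Opposite

/-- The underlying simplicial set of a simplicial abelian group. -/
abbrev US (X : SimplicialObject AddCommGrpCat.{u}) : SSet.{u} := X ⋙ forget AddCommGrpCat.{u}

lemma lift_boundary {X Y : SimplicialObject AddCommGrpCat.{u}} (f : X ⟶ Y)
    (hf : ∀ n : SimplexCategoryᵒᵖ, Function.Surjective (f.app n))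
    (hq : QuasiIso ((AlgebraicTopology.alternatingFaceMapComplex AddCommGrpCat.{u}).map f))
    (n : ℕ) (t : (∂Δ[n] : SSet.{u}) ⟶ X ⋙ forget AddCommGrpCat.{u})
    (b : Δ[n] ⟶ Y ⋙ forget AddCommGrpCat.{u})
    (sq : CommSq t (SSet.boundary n).ι (Functor.whiskerRight f (forget AddCommGrpCat.{u})) b) :
    sq.HasLift := by

  let gX : Groth.Agent.H34.GroupStr (X ⋙ forget AddCommGrpCat.{u}) :=
    { grp := fun n => inferInstanceAs
        (Group (Multiplicative (X.obj (Opposite.op (SimplexCategory.mk n)))))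
      δ_mul := fun n i (a b : X.obj (Opposite.op (SimplexCategory.mk (n + 1)))) =>
        map_add (X.δ i).hom a b
      σ_mul := fun n i (a b : X.obj (Opposite.op (SimplexCategory.mk n))) =>
        map_add (X.σ i).hom a b }
  let gY : Groth.Agent.H34.GroupStr (Y ⋙ forget AddCommGrpCat.{u}) :=
    { grp := fun n => inferInstanceAs
        (Group (Multiplicative (Y.obj (Opposite.op (SimplexCategory.mk n)))))
      δ_mul := fun n i (a b : Y.obj (Opposite.op (SimplexCategory.mk (n + 1)))) =>
        map_add (Y.δ i).hom a b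
      σ_mul := fun n i (a b : Y.obj (Opposite.op (SimplexCategory.mk n))) =>
        map_add (Y.σ i).hom a b }
  have hp : ∀ (n : ℕ) (a b : (X ⋙ forget AddCommGrpCat.{u}) _⦋n⦌),
      (Functor.whiskerRight f (forget AddCommGrpCat.{u})).app _ (a * b) =
        (Functor.whiskerRight f (forget AddCommGrpCat.{u})).app _ a *
          (Functor.whiskerRight f (forget AddCommGrpCat.{u})).app _ b := by
    intro n a b
    have key : ∀ (a b : X.obj (Opposite.op (SimplexCategory.mk n))),
        (f.app (Opposite.op (SimplexCategory.mk n))).hom (a + b) =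
          (f.app (Opposite.op (SimplexCategory.mk n))).hom a +
            (f.app (Opposite.op (SimplexCategory.mk n))).hom b := fun a b => map_add _ a b
    exact key a b
  obtain _ | n := n
  · -- `n = 0`
    obtain ⟨x, hx⟩ := hf (op ⦋0⦌) (SSet.yonedaEquiv b)
    let xS : (US X) _⦋0⦌ := x
    refine ⟨⟨{ l := SSet.yonedaEquiv.symm xS, fac_left := SSet.boundary.hom_ext₀, fac_right := ?_ }⟩⟩
    refine (SSet.yonedaEquiv_symm_comp xS _).trans ?_
    exact (congrArg SSet.yonedaEquiv.symm hx).trans (Equiv.symm_apply_apply _ _)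
  · -- `n + 1`
    let xs : Fin (n + 2) → X _⦋n⦌ :=
      fun j => SSet.yonedaEquiv (SSet.boundary.ι j ≫ t)
    have hw : ∀ j : Fin (n + 2), (US Y).δ j (SSet.yonedaEquiv b) =
        (Functor.whiskerRight f (forget AddCommGrpCat.{u})).app _ (xs j) := by
      intro j
      rw [← SSet.stdSimplex.yonedaEquiv_δ_comp, ← SSet.yonedaEquiv_comp]
      congr 1
      rw [Category.assoc, sq.w, SSet.boundary.ι_ι_assoc]
    -- the final step, common to both cases
    suffices hmain : ∃ y : X _⦋n + 1⦌, f.app _ y = SSet.yonedaEquiv b ∧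
        ∀ j : Fin (n + 2), X.δ j y = xs j by
      obtain ⟨y, hy1, hy2⟩ := hmain
      let yS : (X ⋙ forget AddCommGrpCat.{u}) _⦋n + 1⦌ := y
      refine ⟨⟨{ l := SSet.yonedaEquiv.symm yS, fac_left := ?_, fac_right := ?_ }⟩⟩
      · apply SSet.boundary.hom_ext
        intro j
        rw [SSet.boundary.ι_ι_assoc, SSet.stdSimplex.δ_comp_yonedaEquiv_symm]
        have : (US X).δ j yS = xs j := hy2 j
        rw [this]
        exact Equiv.symm_apply_apply _ _
      · refine (SSet.yonedaEquiv_symm_comp _ _).trans ?_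
        exact (congrArg SSet.yonedaEquiv.symm hy1).trans (Equiv.symm_apply_apply _ _)
    obtain ⟨z, hz⟩ := hf (op ⦋n + 1⦌) (SSet.yonedaEquiv b)
    obtain _ | m := n
    · -- boundary of `Δ[1]`
      obtain ⟨(x' : X _⦋1⦌), hx'1, hx'2⟩ := exists_filler_zero
        (Functor.whiskerRight f (forget AddCommGrpCat.{u})) hp 0 (fun j _ => xs j)
        (SSet.yonedaEquiv b) z hz (fun j _ => hw j)
      have hx'1' : f.app _ (x' : X _⦋1⦌) = SSet.yonedaEquiv b := hx'1
      have hx'2' : X.δ 1 (x' : X _⦋1⦌) = xs 1 := hx'2 1 (by decide)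
      have hfw : f.app _ ((xs 0 : X _⦋0⦌) - X.δ 0 (x' : X _⦋1⦌)) = 0 := by
        have h0 : f.app _ (xs 0 : X _⦋0⦌) = Y.δ 0 (SSet.yonedaEquiv b : Y _⦋1⦌) := (hw 0).symm
        rw [map_sub, h0, ← hx'1']
        have := NatTrans.naturality_apply f (SimplexCategory.δ (0 : Fin 2)).op (x' : X _⦋1⦌)
        rw [sub_eq_zero]
        exact this.symm
      obtain ⟨u, hu1, hu2, hu3⟩ := exists_moore_boundary_zero f hf hq _ hfw
      refine ⟨(x' : X _⦋1⦌) + u, ?_, ?_⟩
      · rw [map_add, hu1, add_zero, hx'1']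
      · intro j
        fin_cases j
        · change X.δ 0 ((x' : X _⦋1⦌) + u) = xs 0
          rw [map_add, hu2]
          abel
        · change X.δ 1 ((x' : X _⦋1⦌) + u) = xs 1
          rw [map_add, hu3, add_zero, hx'2']
    · -- boundary of `Δ[m + 2]`
      have hcompat : ∀ (j k : Fin (m + 3)) (hjk : j < k),
          (US X).δ (k.pred (Fin.ne_zero_of_lt hjk)) (xs j) =
            (US X).δ (j.castPred (Fin.ne_last_of_lt hjk)) (xs k) := by
        intro j k hjk
        simp only [xs]
        rw [← SSet.stdSimplex.yonedaEquiv_δ_comp, ← SSet.stdSimplex.yonedaEquiv_δ_comp]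
        congr 1
        rw [← Category.assoc, ← Category.assoc]
        congr 1
        rw [← cancel_mono (SSet.boundary (m + 2)).ι, Category.assoc, Category.assoc,
          SSet.boundary.ι_ι, SSet.boundary.ι_ι]
        have h := SSet.stdSimplex.{u}.δ_comp_δ (n := m) (i := j.castPred (Fin.ne_last_of_lt hjk))
          (j := k.pred (Fin.ne_zero_of_lt hjk)) (by
            rw [Fin.le_def]
            simp only [Fin.coe_castPred, Fin.val_pred]
            have := Fin.lt_def.mp hjk
            omega)
        simpa using h.symm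
      obtain ⟨(x' : X _⦋m + 2⦌), hx'1, hx'2⟩ := exists_filler_succ
        (Functor.whiskerRight f (forget AddCommGrpCat.{u})) hp m 0 (fun j _ => xs j)
        (fun j k _ _ hjk => hcompat j k hjk)
        (SSet.yonedaEquiv b) z hz (fun j _ => hw j)
      have hx'1' : f.app _ (x' : X _⦋m + 2⦌) = SSet.yonedaEquiv b := hx'1
      have hx'2' : ∀ j : Fin (m + 2), X.δ j.succ (x' : X _⦋m + 2⦌) = xs j.succ :=
        fun j => hx'2 j.succ (Fin.succ_ne_zero j)
      have hfw : f.app _ ((xs 0 : X _⦋m + 1⦌) - X.δ 0 (x' : X _⦋m + 2⦌)) = 0 := by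
        have h0 : f.app _ (xs 0 : X _⦋m + 1⦌) = Y.δ 0 (SSet.yonedaEquiv b : Y _⦋m + 2⦌) :=
          (hw 0).symm
        rw [map_sub, h0, ← hx'1']
        have := NatTrans.naturality_apply f (SimplexCategory.δ (0 : Fin (m + 3))).op
          (x' : X _⦋m + 2⦌)
        rw [sub_eq_zero]
        exact this.symm
      have hfaces : ∀ j : Fin (m + 2),
          X.δ j ((xs 0 : X _⦋m + 1⦌) - X.δ 0 (x' : X _⦋m + 2⦌)) = 0 := by
        intro j
        have h1 : X.δ j (xs 0 : X _⦋m + 1⦌) = X.δ 0 (xs j.succ : X _⦋m + 1⦌) := by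
          have := hcompat 0 j.succ (Fin.succ_pos j)
          simp only [Fin.pred_succ, Fin.castPred_zero] at this
          exact this
        have h2 : X.δ j (X.δ 0 (x' : X _⦋m + 2⦌)) = X.δ 0 (X.δ j.succ (x' : X _⦋m + 2⦌)) := by
          have := X.δ_comp_δ (n := m) (i := 0) (j := j) (Fin.zero_le _)
          have h3 := congr($this (x' : X _⦋m + 2⦌))
          simpa using h3.symm
        rw [map_sub, h1, h2, hx'2', sub_self]
      obtain ⟨u, hu1, hu2, hu3⟩ := exists_moore_boundary_succ f hf hq m _ hfw hfaces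
      refine ⟨(x' : X _⦋m + 2⦌) + u, ?_, ?_⟩
      · rw [map_add, hu1, add_zero, hx'1']
      · intro j
        obtain rfl | ⟨j', rfl⟩ := Fin.eq_zero_or_eq_succ j
        · rw [map_add, hu2]
          abel
        · rw [map_add, hu3, add_zero, hx'2']


/-- A degreewise surjective homomorphism of simplicial abelian groups inducing a quasi-isomorphism of
the associated chain complexes is a trivial Kan fibration of the underlying simplicial sets. -/
theorem result {X Y : SimplicialObject AddCommGrpCat.{u}} (f : X ⟶ Y) (hf : ∀ n : SimplexCategoryᵒᵖ, Function.Surjective (f.app n)) (hq : QuasiIso ((AlgebraicTopology.alternatingFaceMapComplex AddCommGrpCat.{u}).map f)) : SSet.modelCategoryQuillen.I.rlp (X := X ⋙ forget AddCommGrpCat.{u}) (Y := Y ⋙ forget AddCommGrpCat.{u}) (Functor.whiskerRight f (forget AddCommGrpCat.{u})) := by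
  intro A B ι hι
  obtain ⟨n⟩ := hι
  exact ⟨fun {t b} sq => lift_boundary f hf hq n t b sq⟩

end Groth.Agent.S6781
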