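import Groth.Statements.S6782
import Mathlib.AlgebraicTopology.SimplicialSet.Boundary
import Mathlib.AlgebraicTopology.SimplicialSet.Dimension

set_option autoImplicit false
open CategoryTheory Opposite
universe u
open SSet

namespace Groth.Agent.S6782

/-- A map of `n`-coskeletal simplicial sets which is bijective on simplices of dimension `< n` and
surjective on `n`-simplices is a trivial Kan fibration. -/
theorem result {U V : SSet.{u}} (f : V ⟶ U) (n : ℕ) (h1 : ∀ i : ℕ, i < n → Function.Bijective (f.app (op (SimplexCategory.mk i)))) (h2 : Function.Surjective (f.app (op (SimplexCategory.mk n)))) [SimplicialObject.IsCoskeletal U n] [SimplicialObject.IsCoskeletal V n] : SSet.modelCategoryQuillen.I.rlp f := by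
  set i := (SimplexCategory.Truncated.inclusion n).op with hi
  have hKanU : U.IsRightKanExtension (𝟙 (i ⋙ U)) := SimplicialObject.IsCoskeletal.isRightKanExtension
  have hKanV : V.IsRightKanExtension (𝟙 (i ⋙ V)) := SimplicialObject.IsCoskeletal.isRightKanExtension
  -- (L1): maps from a simplicial set of dimension `< n` into `V` are detected after composing with `f`
  have L1 : ∀ (X : SSet.{u}) [X.HasDimensionLT n] (a b : X ⟶ V), a ≫ f = b ≫ f → a = b := by
    intro X _ a b hab
    ext ⟨Y⟩ x
    induction Y using SimplexCategory.rec with | _ k =>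
    obtain ⟨j, g, _, y, rfl⟩ := X.exists_nonDegenerate x
    have hj : j < n := X.dim_lt_of_nonDegenerate y n
    change a.app _ (X.map g.op y.1) = b.app _ (X.map g.op y.1)
    rw [NatTrans.naturality_apply a, NatTrans.naturality_apply b]
    congr 1
    apply (h1 j hj).1
    have := congrArg (fun t => t.app (op (SimplexCategory.mk j)) y.1) hab
    exact this
  intro A B ι hι
  obtain ⟨m⟩ := hι
  refine ⟨fun {t b} sq => ?_⟩
  by_cases hm : m ≤ n
  · -- choose a preimage of the simplex
    have hsurj : Function.Surjective (f.app (op (SimplexCategory.mk m))) := by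
      rcases Nat.lt_or_eq_of_le hm with hlt | rfl
      · exact (h1 m hlt).2
      · exact h2
    obtain ⟨v, hv⟩ := hsurj (SSet.yonedaEquiv b)
    have hdim : (SSet.boundary.{u} m : SSet.{u}).HasDimensionLT n :=
      SSet.hasDimensionLT_of_le _ m n hm
    have hr : SSet.yonedaEquiv.symm v ≫ f = b := by
      rw [SSet.yonedaEquiv_symm_comp, hv, Equiv.symm_apply_apply]
    refine ⟨⟨{ l := SSet.yonedaEquiv.symm v, fac_left := ?_, fac_right := hr }⟩⟩
    apply L1
    rw [Category.assoc, hr, sq.w]
  · -- `m > n`: use coskeletality
    have hm' : n < m := not_le.mp hm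
    have hιiso : IsIso (Functor.whiskerLeft i (SSet.boundary.{u} m).ι) := by
      have : ∀ P, IsIso ((Functor.whiskerLeft i (SSet.boundary.{u} m).ι).app P) := by
        intro P
        rw [isIso_iff_bijective]
        constructor
        · intro a b h
          exact Subtype.ext h
        · intro x
          have htop : (SSet.boundary.{u} m).obj (i.obj P) = .univ :=
            SSet.boundary_obj_eq_univ P.unop.obj.len m (lt_of_le_of_lt P.unop.2 hm')
          exact ⟨⟨x, by rw [htop]; trivial⟩, rfl⟩
      exact NatIso.isIso_of_isIso_app _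
    let l : SSet.stdSimplex.{u}.obj (SimplexCategory.mk m) ⟶ V :=
      V.liftOfIsRightKanExtension (𝟙 (i ⋙ V)) _
        (inv (Functor.whiskerLeft i (SSet.boundary.{u} m).ι) ≫ Functor.whiskerLeft i t)
    have hl : Functor.whiskerLeft i l =
        inv (Functor.whiskerLeft i (SSet.boundary.{u} m).ι) ≫ Functor.whiskerLeft i t := by
      have := V.liftOfIsRightKanExtension_fac (𝟙 (i ⋙ V)) _
        (inv (Functor.whiskerLeft i (SSet.boundary.{u} m).ι) ≫ Functor.whiskerLeft i t)
      rwa [Category.comp_id] at this
    refine ⟨⟨{ l := l, fac_left := ?_, fac_right := ?_ }⟩⟩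
    · apply V.hom_ext_of_isRightKanExtension (𝟙 (i ⋙ V))
      rw [Functor.whiskerLeft_comp, hl, IsIso.hom_inv_id_assoc]
    · apply U.hom_ext_of_isRightKanExtension (𝟙 (i ⋙ U))
      have h3 : Functor.whiskerLeft i t ≫ Functor.whiskerLeft i f =
          Functor.whiskerLeft i (SSet.boundary.{u} m).ι ≫ Functor.whiskerLeft i b := by
        rw [← Functor.whiskerLeft_comp, sq.w, Functor.whiskerLeft_comp]
      rw [Functor.whiskerLeft_comp, hl]
      simp only [Category.assoc, Category.comp_id]
      rw [h3, IsIso.inv_hom_id_assoc]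

end Groth.Agent.S6782
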