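import Groth.Statements.S6783

set_option autoImplicit false
open CategoryTheory
universe u
open SSet
open CategoryTheory.Limits Simplicial Opposite

namespace Groth.Agent.S6783

section WP
variable {A B : Type u} (f : A ⟶ B) (k : ℕ)

abbrev WP : Type u := widePullback.{0} B (fun _ : Fin (k + 1) => A) (fun _ => f)

lemma wp_ext (x y : WP f k)
    (h : ∀ i, WidePullback.π (fun _ : Fin (k + 1) => f) i x = WidePullback.π (fun _ : Fin (k + 1) => f) i y) : x = y := by
  let gx : PUnit.{u + 1} ⟶ WP f k := ↾fun _ => x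
  let gy : PUnit.{u + 1} ⟶ WP f k := ↾fun _ => y
  have hπ : ∀ i, gx ≫ WidePullback.π (fun _ : Fin (k + 1) => f) i = gy ≫ WidePullback.π (fun _ : Fin (k + 1) => f) i := by
    intro i
    ext u
    exact h i
  have : gx = gy := by
    apply WidePullback.hom_ext _ _ _ hπ
    rw [← WidePullback.π_arrow (fun _ : Fin (k + 1) => f) 0, ← Category.assoc, hπ 0, Category.assoc]
  exact congr($this PUnit.unit)

noncomputable def wpMk (a : Fin (k + 1) → A) (b : B) (h : ∀ i, f (a i) = b) : WP f k :=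
  (WidePullback.lift (↾fun _ : PUnit.{u + 1} => b) (fun i => ↾fun _ => a i)
    (fun i => by ext; exact h i) : PUnit.{u + 1} ⟶ WP f k) PUnit.unit

lemma π_wpMk (a : Fin (k + 1) → A) (b : B) (h : ∀ i, f (a i) = b) (i : Fin (k + 1)) :
    WidePullback.π (fun _ : Fin (k + 1) => f) i (wpMk f k a b h) = a i := by
  have := WidePullback.lift_π (fun _ : Fin (k + 1) => f) (↾fun _ : PUnit.{u + 1} => b) (fun i => ↾fun _ => a i)
    (fun i => by ext; exact h i) i
  exact congr($this PUnit.unit)

lemma base_wpMk (a : Fin (k + 1) → A) (b : B) (h : ∀ i, f (a i) = b) :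
    WidePullback.base (fun _ : Fin (k + 1) => f) (wpMk f k a b h) = b := by
  have := WidePullback.lift_base (fun _ : Fin (k + 1) => f) (↾fun _ : PUnit.{u + 1} => b) (fun i => ↾fun _ => a i)
    (fun i => by ext; exact h i)
  exact congr($this PUnit.unit)

lemma base_eq (x : WP f k) (i : Fin (k + 1)) :
    WidePullback.base (fun _ : Fin (k + 1) => f) x = f (WidePullback.π (fun _ : Fin (k + 1) => f) i x) := by
  have := WidePullback.π_arrow (fun _ : Fin (k + 1) => f) i
  exact (congr($this x)).symm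

end WP


section Cech
variable {A B : Type u} (f : A ⟶ B)

lemma π_cech_map {k m : ℕ} (θ : ⦋m⦌ ⟶ ⦋k⦌) (x : (Arrow.mk f).cechNerve _⦋k⦌) (i : Fin (m + 1)) :
    WidePullback.π (fun _ : Fin (m + 1) => f) i ((Arrow.mk f).cechNerve.map θ.op x) =
      WidePullback.π (fun _ : Fin (k + 1) => f) (θ.toOrderHom i) x := by
  have := WidePullback.lift_π (fun _ : Fin (m + 1) => f)
    (WidePullback.base (fun _ : Fin (k + 1) => f))
    (fun i => WidePullback.π (fun _ : Fin (k + 1) => f) (θ.toOrderHom i)) (by simp) i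
  exact congr($this x)

lemma cech_hom_ext {X : SSet.{u}} (g g' : X ⟶ (Arrow.mk f).cechNerve)
    (h : ∀ x : X _⦋0⦌, g.app _ x = g'.app _ x) : g = g' := by
  ext m x
  induction m using Opposite.rec with | _ m =>
  induction m using SimplexCategory.rec with | _ k =>
  change g.app (op ⦋k⦌) x = g'.app (op ⦋k⦌) x
  apply wp_ext f k
  intro i
  let v : ⦋0⦌ ⟶ ⦋k⦌ := SimplexCategory.const ⦋0⦌ ⦋k⦌ i
  have e1 : ∀ y : (Arrow.mk f).cechNerve _⦋k⦌,
      WidePullback.π (fun _ : Fin (k + 1) => f) i y =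
        WidePullback.π (fun _ : Fin (0 + 1) => f) 0 ((Arrow.mk f).cechNerve.map v.op y) := by
    intro y
    rw [π_cech_map]
    rfl
  rw [e1, e1, ← NatTrans.naturality_apply, ← NatTrans.naturality_apply, h]

end Cech

/-- For a surjective map of sets `f : A → B`, the augmentation from the Čech nerve of `f` (with
`n`-simplices the `(n+1)`-fold fibre product of `A` over `B`) to the constant simplicial set `B` is
a trivial Kan fibration. -/
theorem result {A B : Type u} (f : A ⟶ B) (hf : Function.Surjective f) : SSet.modelCategoryQuillen.I.rlp (Arrow.mk f).augmentedCechNerve.hom := by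
  intro X Y ι hι
  obtain ⟨n⟩ := hι
  refine ⟨fun {t b} sq => ?_⟩
  have hp : ∀ (k : ℕ) (y : (Arrow.mk f).cechNerve _⦋k⦌),
      (Arrow.mk f).augmentedCechNerve.hom.app (op ⦋k⦌) y =
        WidePullback.base (fun _ : Fin (k + 1) => f) y := fun _ _ => rfl
  let β : B := SSet.yonedaEquiv b
  have hbβ : b = SSet.yonedaEquiv.symm β := (Equiv.symm_apply_apply _ _).symm
  obtain _ | n := n
  · -- `n = 0`
    obtain ⟨a₀, ha₀⟩ := hf β
    let σ : (Arrow.mk f).cechNerve _⦋0⦌ := wpMk f 0 (fun _ => a₀) β (fun _ => ha₀)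
    refine ⟨⟨{ l := SSet.yonedaEquiv.symm σ, fac_left := ?_, fac_right := ?_ }⟩⟩
    · exact SSet.boundary.hom_ext₀
    · refine (SSet.yonedaEquiv_symm_comp σ (Arrow.mk f).augmentedCechNerve.hom).trans ?_
      exact (congrArg SSet.yonedaEquiv.symm ((hp 0 σ).trans (base_wpMk f 0 _ β _))).trans hbβ.symm
  · -- `n + 1`
    let vtx : Fin (n + 2) → (Δ[n + 1] : SSet.{u}) _⦋0⦌ := fun i => stdSimplex.obj₀Equiv.symm i
    have hv : ∀ i, vtx i ∈ (SSet.boundary.{u} (n + 1)).obj (op ⦋0⦌) := by
      intro i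
      rw [SSet.boundary_obj_eq_univ 0 (n + 1)]
      trivial
    let bv : Fin (n + 2) → (∂Δ[n + 1] : SSet.{u}) _⦋0⦌ := fun i => ⟨vtx i, hv i⟩
    let a : Fin (n + 2) → A := fun i =>
      WidePullback.π (fun _ : Fin (0 + 1) => f) 0 (t.app _ (bv i))
    have hfa : ∀ i, f (a i) = β := by
      intro i
      have h1 : f (a i) = WidePullback.base (fun _ : Fin (0 + 1) => f) (t.app _ (bv i)) :=
        (base_eq f 0 _ 0).symm
      refine h1.trans ((hp 0 _).symm.trans ?_)
      have h2 := congr($(sq.w).app (op ⦋0⦌) (bv i))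
      refine h2.trans ?_
      change b.app (op ⦋0⦌) (vtx i) = β
      have h3 : b.app (op ⦋0⦌) (vtx i) = (SSet.yonedaEquiv.symm β).app (op ⦋0⦌) (vtx i) :=
        congr($(hbβ).app (op ⦋0⦌) (vtx i))
      exact h3
    let σ : (Arrow.mk f).cechNerve _⦋n + 1⦌ := wpMk f (n + 1) a β hfa
    refine ⟨⟨{ l := SSet.yonedaEquiv.symm σ, fac_left := ?_, fac_right := ?_ }⟩⟩
    · apply cech_hom_ext f
      intro x
      obtain ⟨i, rfl⟩ : ∃ i, x = bv i := by
        refine ⟨stdSimplex.obj₀Equiv x.1, ?_⟩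
        apply Subtype.ext
        exact (stdSimplex.obj₀Equiv.symm_apply_apply x.1).symm
      apply wp_ext f 0
      intro j
      obtain rfl : j = 0 := Fin.fin_one_eq_zero j
      change WidePullback.π (fun _ : Fin (0 + 1) => f) 0
        ((Arrow.mk f).cechNerve.map (stdSimplex.objEquiv (vtx i)).op σ) = a i
      rw [π_cech_map, π_wpMk]
      rfl
    · refine (SSet.yonedaEquiv_symm_comp σ (Arrow.mk f).augmentedCechNerve.hom).trans ?_
      exact (congrArg SSet.yonedaEquiv.symm ((hp (n + 1) σ).trans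
        (base_wpMk f (n + 1) _ β _))).trans hbβ.symm

end Groth.Agent.S6783
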