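import Groth.Statements.S6784

set_option autoImplicit false
open CategoryTheory
universe u
open SSet

namespace Groth.Agent.S6784
open Simplicial SimplexCategory Opposite Limits Functor StructuredArrow SimplexCategory.Truncated

section Aux

variable (n : ℕ)

/-- A morphism in `SimplexCategory` with domain `⦋0⦌` or `⦋1⦌` defines an object in the
comma category `StructuredArrow (op ⦋m⦌) (Truncated.inclusion 1).op`. -/
abbrev sA {i m : ℕ} (φ : ⦋i⦌ ⟶ ⦋m⦌) (hi : i ≤ 1 := by lia) :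
    StructuredArrow (op ⦋m⦌) (Truncated.inclusion 1).op :=
  StructuredArrow.mk (Y := op (⟨⦋i⦌, hi⟩ : SimplexCategory.Truncated 1)) φ.op

/-- The evaluation of a simplex of `Δ[n]` at a point. -/
lemma map_apply' {i m : ℕ} (φ : ⦋i⦌ ⟶ ⦋m⦌) (y : (Δ[n] : SSet.{u}) _⦋m⦌) (t : Fin (i + 1)) :
    ((Δ[n] : SSet.{u}).map φ.op y) t = y (φ.toOrderHom t) := rfl

variable {n} in
/-- the vertex function of a cone point -/
noncomputable def vert {m : ℕ}
    (s : Cone (proj (op ⦋m⦌) (Truncated.inclusion 1).op ⋙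
      (Truncated.inclusion 1).op ⋙ (Δ[n] : SSet.{u}))) (x : s.pt) (k : Fin (m + 1)) : Fin (n + 1) :=
  (show (Δ[n] : SSet.{u}) _⦋0⦌ from s.π.app (sA (⦋0⦌.const ⦋m⦌ k)) x) 0

variable {n} in
lemma vert_eq {m i : ℕ} (hi : i ≤ 1)
    (s : Cone (proj (op ⦋m⦌) (Truncated.inclusion 1).op ⋙
      (Truncated.inclusion 1).op ⋙ (Δ[n] : SSet.{u}))) (x : s.pt) (φ : ⦋i⦌ ⟶ ⦋m⦌)
    (t : Fin (i + 1)) :
    vert s x (φ.toOrderHom t) =
      (show (Δ[n] : SSet.{u}) _⦋i⦌ from s.π.app (sA φ hi) x) t := by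
  let α : sA φ hi ⟶ sA (⦋0⦌.const ⦋m⦌ (φ.toOrderHom t)) :=
    StructuredArrow.homMk ((Hom.tr (⦋0⦌.const ⦋i⦌ t)).op) (by
      apply Quiver.Hom.unop_inj
      ext j
      rfl)
  have h := ConcreteCategory.congr_hom (s.w α) x
  unfold vert
  rw [← h]
  rfl

variable {n} in
lemma vert_mono {m : ℕ}
    (s : Cone (proj (op ⦋m⦌) (Truncated.inclusion 1).op ⋙
      (Truncated.inclusion 1).op ⋙ (Δ[n] : SSet.{u}))) (x : s.pt) : Monotone (vert s x) := by
  intro k k' h
  have h0 := vert_eq (i := 1) le_rfl s x (mkOfLe k k' h) 0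
  have h1 := vert_eq (i := 1) le_rfl s x (mkOfLe k k' h) 1
  have e0 : (mkOfLe k k' h).toOrderHom 0 = k := rfl
  have e1 : (mkOfLe k k' h).toOrderHom 1 = k' := rfl
  rw [e0] at h0
  rw [e1] at h1
  rw [h0, h1]
  exact SSet.stdSimplex.monotone_apply _ (by decide)

variable {n} in
/-- the lift -/
noncomputable def liftElt {m : ℕ}
    (s : Cone (proj (op ⦋m⦌) (Truncated.inclusion 1).op ⋙
      (Truncated.inclusion 1).op ⋙ (Δ[n] : SSet.{u}))) (x : s.pt) : (Δ[n] : SSet.{u}) _⦋m⦌ :=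
  SSet.stdSimplex.objMk ⟨vert s x, vert_mono s x⟩

variable {n} in
lemma liftElt_apply {m : ℕ}
    (s : Cone (proj (op ⦋m⦌) (Truncated.inclusion 1).op ⋙
      (Truncated.inclusion 1).op ⋙ (Δ[n] : SSet.{u}))) (x : s.pt) (k : Fin (m + 1)) :
    liftElt s x k = vert s x k := rfl

/-- `Δ[n]` is a pointwise right Kan extension of its `1`-truncation. -/
noncomputable def isPointwise (m : ℕ) :
    (SimplicialObject.Truncated.rightExtensionInclusion (Δ[n] : SSet.{u}) 1).IsPointwiseRightKanExtensionAt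
      ⟨⦋m⦌⟩ where
  lift s := ↾fun x => liftElt s x
  fac s j := by
    ext x
    obtain ⟨⟨i, hi⟩, ⟨f : _ ⟶ _⟩, rfl⟩ := j.mk_surjective
    obtain ⟨i, rfl⟩ : ∃ j, ⦋j⦌ = i := ⟨_, i.mk_len⟩
    dsimp at hi
    change (Δ[n] : SSet.{u}).map f.op (liftElt s x) = s.π.app (sA f hi) x
    apply SSet.stdSimplex.ext
    intro t
    rw [map_apply', liftElt_apply, vert_eq hi]
  uniq s l hl := by
    ext x
    change l x = liftElt s x
    apply SSet.stdSimplex.ext
    intro k
    rw [liftElt_apply]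
    unfold vert
    have := ConcreteCategory.congr_hom (hl (sA (⦋0⦌.const ⦋m⦌ k))) x
    rw [← this]
    rfl
end Aux

/-- The standard simplex `Δ[n]` is `1`-coskeletal, i.e. it is the right Kan extension of its
`1`-truncation. -/
theorem result (n : ℕ) : SimplicialObject.IsCoskeletal (SSet.stdSimplex.{u}.obj (SimplexCategory.mk n)) 1 := by
  exact ⟨RightExtension.IsPointwiseRightKanExtension.isRightKanExtension
    (E := SimplicialObject.Truncated.rightExtensionInclusion _ 1)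
    (fun Δ => isPointwise n Δ.unop.len)⟩

end Groth.Agent.S6784
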