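import Groth.Statements.S6785
import Mathlib.AlgebraicTopology.SimplicialSet.Monoidal
import Mathlib.AlgebraicTopology.SimplicialSet.Boundary
import Mathlib.AlgebraicTopology.SimplicialSet.CategoryWithFibrations

set_option autoImplicit false
open CategoryTheory
universe u
open SSet

namespace Groth.Agent.S6785
open MonoidalCategory Simplicial

/-- A trivial Kan fibration `f : X ⟶ Y` of simplicial sets is a homotopy equivalence; more precisely it
has a section `g`, and `g ∘ f` is homotopic to the identity of `X` by a single homotopy in each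
direction. (The published statement only asserts a homotopy equivalence; the section and the
one-step homotopies are what its proof constructs.) -/
theorem result {X Y : SSet.{u}} (f : X ⟶ Y) (hf : SSet.modelCategoryQuillen.I.rlp f) : ∃ g : Y ⟶ X, g ≫ f = 𝟙 Y ∧ Nonempty (SSet.Homotopy (𝟙 X) (f ≫ g)) ∧ Nonempty (SSet.Homotopy (f ≫ g) (𝟙 X)) := by
  classical
  have hmono : (MorphismProperty.monomorphisms SSet.{u}).rlp f := by
    rw [SSet.rlp_monomorphisms]; exact hf
  -- the section
  have h1 : HasLiftingProperty (⊥ : Y.Subcomplex).ι f :=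
    hmono _ (MorphismProperty.monomorphisms.infer_property _)
  have sq : CommSq (SSet.Subcomplex.isInitialBot.to X) (⊥ : Y.Subcomplex).ι f (𝟙 Y) :=
    ⟨SSet.Subcomplex.isInitialBot.hom_ext _ _⟩
  have hg : sq.lift ≫ f = 𝟙 Y := sq.fac_right
  -- homotopies between endomorphisms over `Y`
  have key : ∀ a b : X ⟶ X, a ≫ f = f → b ≫ f = f → Nonempty (SSet.Homotopy a b) := by
    intro a b ha hb
    let isOne : ∀ {k : SimplexCategoryᵒᵖ},
        (SSet.stdSimplex.{u}.obj (SimplexCategory.mk 1)).obj k → Prop :=
      fun {k} θ => ∀ j, (SSet.stdSimplex.objEquiv θ).toOrderHom j = 1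
    have hzero : ∀ {k : SimplexCategoryᵒᵖ}
        (θ : (SSet.stdSimplex.{u}.obj (SimplexCategory.mk 1)).obj k),
        θ ∈ (SSet.boundary.{u} 1).obj k → ¬ isOne θ →
          ∀ j, (SSet.stdSimplex.objEquiv θ).toOrderHom j = 0 := by
      intro k θ hθ hone j
      by_contra hj
      apply hθ
      simp only [isOne, not_forall] at hone
      obtain ⟨j', hj'⟩ := hone
      intro y
      have hy : y = 0 ∨ y = 1 := by
        rcases y with ⟨y, hy⟩
        rcases y with _ | _ | y
        · left; rfl
        · right; rfl
        · omega
      rcases hy with rfl | rfl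
      · refine ⟨j', ?_⟩
        have : ∀ t : Fin 2, t ≠ 1 → t = 0 := by decide
        exact this _ hj'
      · refine ⟨j, ?_⟩
        have : ∀ t : Fin 2, t ≠ 0 → t = 1 := by decide
        exact this _ hj
    let A : SSet.{u} := X ⊗ ((SSet.boundary.{u} 1 : SSet.{u}))
    let i : A ⟶ X ⊗ SSet.stdSimplex.{u}.obj (SimplexCategory.mk 1) := X ◁ (SSet.boundary.{u} 1).ι
    have hi : Mono i := by
      have : ∀ k, Mono (i.app k) := by
        intro k
        rw [mono_iff_injective]
        rintro ⟨x, θ⟩ ⟨x', θ'⟩ h
        have h1 : x = x' := congrArg Prod.fst h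
        have h2 : θ.1 = θ'.1 := congrArg Prod.snd h
        exact Prod.ext h1 (Subtype.ext h2)
      exact NatTrans.mono_of_mono_app i
    let τ : A ⟶ X :=
      { app := fun k => ↾fun (z : X.obj k × ((SSet.boundary.{u} 1 : SSet.{u})).obj k) =>
          if isOne z.2.1 then b.app _ z.1 else a.app _ z.1
        naturality := by
          intro k k' φ
          ext ⟨x, ⟨θ, hθ⟩⟩
          change (if isOne ((SSet.stdSimplex.{u}.obj (SimplexCategory.mk 1)).map φ θ) then
              b.app _ (X.map φ x) else a.app _ (X.map φ x)) =
            X.map φ (if isOne θ then b.app _ x else a.app _ x)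
          by_cases h1 : isOne θ
          · have h2 : isOne ((SSet.stdSimplex.{u}.obj (SimplexCategory.mk 1)).map φ θ) := by
              intro j
              exact h1 _
            rw [if_pos h1, if_pos h2]
            exact NatTrans.naturality_apply b _ _
          · have h0 := hzero θ hθ h1
            have h2 : ¬ isOne ((SSet.stdSimplex.{u}.obj (SimplexCategory.mk 1)).map φ θ) := by
              intro hc
              have e1 := hc 0
              have e2 : (SSet.stdSimplex.objEquiv
                  ((SSet.stdSimplex.{u}.obj (SimplexCategory.mk 1)).map φ θ)).toOrderHom 0 = 0 :=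
                h0 _
              rw [e2] at e1
              exact absurd e1 (by decide)
            rw [if_neg h1, if_neg h2]
            exact NatTrans.naturality_apply a _ _ }
    have hl : HasLiftingProperty i f := hmono _ (MorphismProperty.monomorphisms.infer_property _)
    have sq' : CommSq τ i f (CartesianMonoidalCategory.fst _ _ ≫ f) := by
      constructor
      ext k ⟨x, θ⟩
      change f.app k (if isOne θ.1 then b.app _ x else a.app _ x) = f.app k x
      have hb' : ∀ x, f.app k (b.app k x) = f.app k x := fun x =>
        congrArg (fun t => t.app k x) hb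
      have ha' : ∀ x, f.app k (a.app k x) = f.app k x := fun x =>
        congrArg (fun t => t.app k x) ha
      split_ifs
      · exact hb' x
      · exact ha' x
    have hfac : ∀ (k : SimplexCategoryᵒᵖ) (z : A.obj k),
        sq'.lift.app k (i.app k z) = τ.app k z := by
      intro k z
      exact congrArg (fun t => t.app k z) sq'.fac_left
    refine ⟨{ h := sq'.lift, h₀ := ?_, h₁ := ?_, rel := by ext _ ⟨⟨_, ⟨⟩⟩, _⟩ }⟩
    · ext k x
      have hmem : (SSet.ι₀.app k x).2 ∈ (SSet.boundary.{u} 1).obj k := by
        intro hs
        obtain ⟨j, hj⟩ := hs 1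
        exact absurd (show (0 : Fin 2) = 1 from hj) (by decide)
      have e : SSet.ι₀.app k x = i.app k (x, ⟨(SSet.ι₀.app k x).2, hmem⟩) := rfl
      change sq'.lift.app k (SSet.ι₀.app k x) = a.app k x
      rw [e, hfac]
      change (if isOne (SSet.ι₀.app k x).2 then _ else _) = _
      rw [if_neg]
      intro hone
      have := hone 0
      exact absurd (show (0 : Fin 2) = 1 from this) (by decide)
    · ext k x
      have hmem : (SSet.ι₁.app k x).2 ∈ (SSet.boundary.{u} 1).obj k := by
        intro hs
        obtain ⟨j, hj⟩ := hs 0
        exact absurd (show (1 : Fin 2) = 0 from hj) (by decide)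
      have e : SSet.ι₁.app k x = i.app k (x, ⟨(SSet.ι₁.app k x).2, hmem⟩) := rfl
      change sq'.lift.app k (SSet.ι₁.app k x) = b.app k x
      rw [e, hfac]
      change (if isOne (SSet.ι₁.app k x).2 then _ else _) = _
      rw [if_pos]
      intro j
      rfl
  refine ⟨sq.lift, hg, key _ _ (Category.id_comp _) ?_, key _ _ ?_ (Category.id_comp _)⟩
  · rw [Category.assoc, hg, Category.comp_id]
  · rw [Category.assoc, hg, Category.comp_id]

end Groth.Agent.S6785
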