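import Groth.Statements.S6786
import Groth.Agent.H34.MLLimit

set_option autoImplicit false
open CategoryTheory CategoryTheory.Limits
universe u
open HomAlg3

namespace Groth.Agent.S6786

/-- For a sequence `(A_i) ⟶ (B_i) ⟶ (C_i) ⟶ (D_i)` of inverse systems of abelian groups over `ℕ` that is
exact levelwise at the two middle places, if `(A_i)` is Mittag-Leffler then `lim B_i ⟶ lim C_i ⟶ lim
D_i` is exact. -/
theorem result {A B C D : ℕᵒᵖ ⥤ AddCommGrpCat.{u}} (a : A ⟶ B) (b : B ⟶ C) (c : C ⟶ D) (hB : ∀ i, (b.app i).hom.ker = (a.app i).hom.range) (hC : ∀ i, (c.app i).hom.ker = (b.app i).hom.range) (hA : (A ⋙ forget AddCommGrpCat).IsMittagLeffler) : (limMap c).hom.ker = (limMap b).hom.range := by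
  ext x
  constructor
  · intro hx
    rw [AddMonoidHom.mem_ker] at hx
    have hx' : limMap c x = 0 := hx
    have hx2 : ∀ i, limit.π C i x ∈ (b.app i).hom.range := by
      intro i
      rw [← hC i, AddMonoidHom.mem_ker]
      change c.app i (limit.π C i x) = 0
      rw [← Groth.Agent.H34.limMap_π_apply, hx', map_zero]
    obtain ⟨y, hy⟩ := Groth.Agent.H34.exists_limMap_eq_of_isMittagLeffler a b hB hA x hx2
    exact ⟨y, hy⟩
  · rintro ⟨y, rfl⟩
    rw [AddMonoidHom.mem_ker]
    change limMap c (limMap b y) = 0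
    apply Groth.Agent.H34.limit_ext_ab
    intro i
    rw [Groth.Agent.H34.limMap_π_apply, Groth.Agent.H34.limMap_π_apply, map_zero]
    have : b.app i (limit.π B i y) ∈ (c.app i).hom.ker := by
      rw [hC i]
      exact ⟨_, rfl⟩
    exact this

end Groth.Agent.S6786
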