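import Groth.Statements.S6787
import Groth.Agent.H34.MLSeq

set_option autoImplicit false
open CategoryTheory CategoryTheory.Limits
universe u
open HomAlg3

namespace Groth.Agent.S6787

/-- Take inverse systems `(A_i)`, `(B_i)`, `(C_i)` of abelian groups over `ℕ`, with morphisms of systems
`(A_i) ⟶ (B_i) ⟶ (C_i)` that give a short exact sequence at every index, and suppose `(C_i)` is
essentially constant. Then `(A_i)` is Mittag-Leffler if and only if `(B_i)` is. -/
theorem result {A B C : ℕᵒᵖ ⥤ AddCommGrpCat.{u}} (a : A ⟶ B) (b : B ⟶ C) (ha : ∀ i, Function.Injective (a.app i).hom) (hb : ∀ i, Function.Surjective (b.app i).hom) (hex : ∀ i, (b.app i).hom.ker = (a.app i).hom.range) (hC : ∃ (C₀ : AddCommGrpCat.{u}) (c : (Functor.const ℕᵒᵖ).obj C₀ ⟶ C), DerCA.IsEssConstant C C₀ c) : (A ⋙ forget AddCommGrpCat).IsMittagLeffler ↔ (B ⋙ forget AddCommGrpCat).IsMittagLeffler := by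
  obtain ⟨C₀, c, i, s, hs, hess⟩ := hC
  -- elementary reformulations
  have hs' : ∀ γ : C₀, s (c.app (Opposite.op i) γ) = γ := by
    intro γ
    have := congr($hs γ)
    simpa using this
  have hcone : ∀ {n m : ℕ} (h : n ≤ m) (γ : C₀),
      ARSys.tr C h (c.app (Opposite.op m) γ) = c.app (Opposite.op n) γ := by
    intro n m h γ
    have := NatTrans.naturality_apply c (homOfLE h).op γ
    exact this.symm
  have hess' : ∀ j : ℕ, ∃ (k : ℕ) (hi : i ≤ k) (hj : j ≤ k), ∀ z : C.obj (Opposite.op k),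
      ARSys.tr C hj z = c.app (Opposite.op j) (s (ARSys.tr C hi z)) := by
    intro j
    obtain ⟨k, hi, hj, h⟩ := hess j
    refine ⟨k, hi, hj, fun z => ?_⟩
    rw [h]
    rfl
  have hcinj : ∀ (j : ℕ) (_ : i ≤ j) (γ : C₀), c.app (Opposite.op j) γ = 0 → γ = 0 := by
    intro j hj γ h0
    rw [← hs' γ, ← hcone hj γ, h0, map_zero, map_zero]
  have hba : ∀ (n : ℕ) (α : A.obj (Opposite.op n)),
      b.app (Opposite.op n) (a.app (Opposite.op n) α) = 0 := by
    intro n α
    have : a.app (Opposite.op n) α ∈ (b.app (Opposite.op n)).hom.ker := by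
      rw [hex]
      exact ⟨α, rfl⟩
    exact this
  have hker : ∀ (n : ℕ) (y : B.obj (Opposite.op n)), b.app (Opposite.op n) y = 0 →
      ∃ α : A.obj (Opposite.op n), a.app (Opposite.op n) α = y := by
    intro n y hy
    have : y ∈ (b.app (Opposite.op n)).hom.ker := hy
    rw [hex] at this
    exact this
  rw [Groth.Agent.H34.isMittagLeffler_iff, Groth.Agent.H34.isMittagLeffler_iff]
  constructor
  · -- `A` Mittag-Leffler implies `B` Mittag-Leffler
    intro hA j
    obtain ⟨k₁, hk₁, h1⟩ := hA j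
    obtain ⟨k₂, hi₂, hk₁₂, hess₂⟩ := hess' k₁
    refine ⟨k₂, hk₁.trans hk₁₂, fun k hk y₂ => ?_⟩
    let γ : C₀ := s (ARSys.tr C hi₂ (b.app (Opposite.op k₂) y₂))
    let m := max k k₁
    have hkm : k ≤ m := le_max_left _ _
    have hk₁m : k₁ ≤ m := le_max_right _ _
    obtain ⟨ym, hym⟩ := hb (Opposite.op m) (c.app (Opposite.op m) γ)
    have hym' : b.app (Opposite.op m) ym = c.app (Opposite.op m) γ := hym
    have h0 : b.app (Opposite.op k₁) (ARSys.tr B hk₁m ym - ARSys.tr B hk₁₂ y₂) = 0 := by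
      rw [map_sub, Groth.Agent.H34.tr_nat, Groth.Agent.H34.tr_nat, hym', hcone, hess₂, sub_self]
    obtain ⟨α, hα⟩ := hker k₁ _ h0
    obtain ⟨αm, hαm⟩ := h1 m (hk₁.trans hk₁m) α
    refine ⟨ARSys.tr B hkm (ym - a.app (Opposite.op m) αm), ?_⟩
    rw [Groth.Agent.H34.tr_tr, map_sub, ← Groth.Agent.H34.tr_nat, hαm, Groth.Agent.H34.tr_nat, hα,
      ← Groth.Agent.H34.tr_tr B hk₁m hk₁ ym, ← map_sub, sub_sub_cancel, Groth.Agent.H34.tr_tr]
  · -- `B` Mittag-Leffler implies `A` Mittag-Leffler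
    intro hB j
    let j' := max i j
    have hij' : i ≤ j' := le_max_left _ _
    have hjj' : j ≤ j' := le_max_right _ _
    obtain ⟨k, hk, h2⟩ := hB j'
    refine ⟨k, hjj'.trans hk, fun k' hk' α => ?_⟩
    let m := max k' j'
    have hk'm : k' ≤ m := le_max_left _ _
    have hj'm : j' ≤ m := le_max_right _ _
    obtain ⟨k'', hi'', hm'', hess''⟩ := hess' m
    obtain ⟨y'', hy''⟩ := h2 k'' (hj'm.trans hm'') (a.app (Opposite.op k) α)
    let w := ARSys.tr B hm'' y''
    let γ : C₀ := s (ARSys.tr C hi'' (b.app (Opposite.op k'') y''))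
    have hbw : b.app (Opposite.op m) w = c.app (Opposite.op m) γ := by
      simp only [w]
      rw [Groth.Agent.H34.tr_nat, hess'']
    have hwj : ARSys.tr B hj'm w = ARSys.tr B hk (a.app (Opposite.op k) α) := by
      simp only [w]
      rw [Groth.Agent.H34.tr_tr, hy'']
    have hγ : γ = 0 := by
      apply hcinj j' hij'
      rw [← hcone hj'm γ, ← hbw, ← Groth.Agent.H34.tr_nat, hwj, ← Groth.Agent.H34.tr_nat, hba]
    have hbw0 : b.app (Opposite.op m) w = 0 := by rw [hbw, hγ, map_zero]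
    obtain ⟨αm, hαm⟩ := hker m w hbw0
    refine ⟨ARSys.tr A hk'm αm, ?_⟩
    rw [Groth.Agent.H34.tr_tr, ← Groth.Agent.H34.tr_tr A hj'm hjj' αm,
      ← Groth.Agent.H34.tr_tr A hk hjj' α]
    congr 1
    apply ha (Opposite.op j')
    change a.app (Opposite.op j') _ = a.app (Opposite.op j') _
    rw [Groth.Agent.H34.tr_nat, hαm, hwj, Groth.Agent.H34.tr_nat]

end Groth.Agent.S6787
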