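import Groth.Statements.S6790
import Mathlib.Tactic.CategoryTheory.Monoidal.Basic
import Mathlib.Tactic.CategoryTheory.Coherence

set_option autoImplicit false
open CategoryTheory CategoryTheory.Limits MonoidalCategory
universe v u
open CategoryTheory CategoryTheory.Monoidal

namespace Groth.Agent.S6790

/-- In an idempotent-complete additive monoidal category, a direct summand of an object admitting a dual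
(with coevaluation `𝟙_ A ⟶ X ⊗ Y` and evaluation `Y ⊗ X ⟶ 𝟙_ A`) again admits such a dual. -/
theorem result {A : Type u} [Category.{v} A] [Preadditive A] [HasFiniteBiproducts A] [MonoidalCategory A] [MonoidalPreadditive A] [IsIdempotentComplete A] {X X₁ : A} (i : X₁ ⟶ X) (p : X ⟶ X₁) (hip : i ≫ p = 𝟙 X₁) [HasRightDual X] : Nonempty (HasRightDual X₁) := by
  classical
  let Y := Xᘁ
  let e : X ⟶ X := p ≫ i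
  have he : e ≫ e = e := by
    simp only [e, Category.assoc]
    rw [reassoc_of% hip]
  have hep : e ≫ p = p := by
    simp only [e, Category.assoc, hip, Category.comp_id]
  let E : Y ⟶ Y := eᘁ
  have hE : E ≫ E = E := by
    simp only [E]
    rw [← comp_rightAdjointMate, he]
  obtain ⟨Y₁, j, q, hjq, hqj⟩ := IsIdempotentComplete.idempotents_split Y E hE
  have hjE : j ≫ E = j := by
    rw [← hqj, reassoc_of% hjq]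
  refine ⟨{ rightDual := Y₁, exact := ?_ }⟩
  exact
  { coevaluation' := η_ X Y ≫ X ◁ q ≫ p ▷ Y₁
    evaluation' := Y₁ ◁ i ≫ j ▷ X ≫ ε_ X Y
    evaluation_coevaluation' := by
      calc
        _ = η_ X Y ▷ X₁ ⊗≫ (X ◁ q) ▷ X₁ ⊗≫ (p ▷ (Y₁ ⊗ X₁) ≫ X₁ ◁ (Y₁ ◁ i)) ⊗≫
              X₁ ◁ (j ▷ X) ⊗≫ X₁ ◁ ε_ X Y := by
          monoidal
        _ = η_ X Y ▷ X₁ ⊗≫ (X ◁ q) ▷ X₁ ⊗≫ X ◁ (Y₁ ◁ i) ⊗≫
              (p ▷ (Y₁ ⊗ X) ≫ X₁ ◁ (j ▷ X)) ⊗≫ X₁ ◁ ε_ X Y := by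
          rw [← whisker_exchange]; monoidal
        _ = η_ X Y ▷ X₁ ⊗≫ (X ◁ q) ▷ X₁ ⊗≫ X ◁ (Y₁ ◁ i ≫ j ▷ X) ⊗≫
              p ▷ (Y ⊗ X) ⊗≫ X₁ ◁ ε_ X Y := by
          rw [← whisker_exchange]; monoidal
        _ = (η_ X Y ≫ X ◁ (q ≫ j)) ▷ X₁ ⊗≫ X ◁ (Y ◁ i) ⊗≫
              p ▷ (Y ⊗ X) ⊗≫ X₁ ◁ ε_ X Y := by
          rw [whisker_exchange]; monoidal
        _ = η_ X Y ▷ X₁ ⊗≫ (e ▷ (Y ⊗ X₁) ≫ X ◁ (Y ◁ i)) ⊗≫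
              p ▷ (Y ⊗ X) ⊗≫ X₁ ◁ ε_ X Y := by
          rw [hqj, coevaluation_comp_rightAdjointMate]; monoidal
        _ = (η_ X Y ▷ X₁ ≫ (X ⊗ Y) ◁ i) ⊗≫ ((e ≫ p) ▷ (Y ⊗ X) ≫ X₁ ◁ ε_ X Y) := by
          rw [← whisker_exchange]; monoidal
        _ = 𝟙 _ ⊗≫ i ⊗≫ (η_ X Y ▷ X ⊗≫ X ◁ ε_ X Y) ⊗≫ p ⊗≫ 𝟙 _ := by
          rw [hep, ← whisker_exchange, ← whisker_exchange]; monoidal
        _ = 𝟙 _ ⊗≫ (i ≫ p) ⊗≫ 𝟙 _ := by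
          rw [ExactPairing.evaluation_coevaluation'']; monoidal
        _ = (λ_ X₁).hom ≫ (ρ_ X₁).inv := by
          rw [hip]; monoidal
    coevaluation_evaluation' := by
      calc
        _ = Y₁ ◁ η_ X Y ⊗≫ Y₁ ◁ (X ◁ q) ⊗≫ (Y₁ ◁ e ≫ j ▷ X) ▷ Y₁ ⊗≫ ε_ X Y ▷ Y₁ := by
          monoidal
        _ = Y₁ ◁ η_ X Y ⊗≫ Y₁ ◁ (X ◁ q) ⊗≫ (j ▷ X) ▷ Y₁ ⊗≫ (Y ◁ e ≫ ε_ X Y) ▷ Y₁ := by
          rw [whisker_exchange]; monoidal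
        _ = Y₁ ◁ η_ X Y ⊗≫ (Y₁ ◁ (X ◁ q) ≫ (j ≫ E) ▷ (X ⊗ Y₁)) ⊗≫ ε_ X Y ▷ Y₁ := by
          rw [← rightAdjointMate_comp_evaluation]; monoidal
        _ = (Y₁ ◁ η_ X Y ≫ j ▷ (X ⊗ Y)) ⊗≫ ((Y ⊗ X) ◁ q ≫ ε_ X Y ▷ Y₁) := by
          rw [hjE, whisker_exchange]; monoidal
        _ = 𝟙 _ ⊗≫ j ⊗≫ (Y ◁ η_ X Y ⊗≫ ε_ X Y ▷ Y) ⊗≫ q ⊗≫ 𝟙 _ := by
          rw [whisker_exchange, whisker_exchange]; monoidal
        _ = 𝟙 _ ⊗≫ (j ≫ q) ⊗≫ 𝟙 _ := by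
          rw [ExactPairing.coevaluation_evaluation'']; monoidal
        _ = (ρ_ Y₁).hom ≫ (λ_ Y₁).inv := by
          rw [hjq]; monoidal }

end Groth.Agent.S6790
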