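import Groth.Statements.S6791
import Mathlib.CategoryTheory.Abelian.SerreClass.Localization

set_option autoImplicit false
open CategoryTheory CategoryTheory.Limits
universe v u v' u' v'' u''
open CategoryTheory CategoryTheory.SerreClass

namespace Groth.Agent.S6791

/-- For an exact functor `F : A ⥤ B` of abelian categories and a Serre class `P` of `A` killed by `F`,
with `L : A ⥤ Q` a model of the quotient `A/P` and `Fbar : Q ⥤ B` the induced functor, `P` is
exactly the kernel of `F` if and only if `Fbar` is faithful. -/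
theorem result {A : Type u} [Category.{v} A] [Abelian A] {B : Type u'} [Category.{v'} B] [Abelian B] (F : A ⥤ B) [F.Additive] [PreservesFiniteLimits F] [PreservesFiniteColimits F] (P : ObjectProperty A) [P.IsSerreClass] (hP : ∀ X : A, P X → IsZero (F.obj X)) {Q : Type u''} [Category.{v''} Q] [Abelian Q] (L : A ⥤ Q) [L.IsLocalization P.isoModSerre] [L.Additive] [PreservesFiniteLimits L] [PreservesFiniteColimits L] (Fbar : Q ⥤ B) (e : L ⋙ Fbar ≅ F) : (∀ X : A, IsZero (F.obj X) → P X) ↔ Fbar.Faithful := by
  have hLfl : PreservesFiniteLimits (L ⋙ Fbar) := preservesFiniteLimits_of_natIso e.symm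
  have hLfc : PreservesFiniteColimits (L ⋙ Fbar) := preservesFiniteColimits_of_natIso e.symm
  have hfl : PreservesFiniteLimits Fbar :=
    (ObjectProperty.SerreClassLocalization.preservesFiniteLimits_comp_iff L P Fbar).mp hLfl
  have hfc : PreservesFiniteColimits Fbar :=
    (ObjectProperty.SerreClassLocalization.preservesFiniteColimits_comp_iff L P Fbar).mp hLfc
  have hadd : Fbar.Additive := Functor.additive_of_preserves_binary_products Fbar
  constructor
  · intro hker
    -- Fbar reflects zero objects
    have hrefl : ∀ Z : Q, IsZero (Fbar.obj Z) → IsZero Z := by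
      intro Z hZ
      have : L.EssSurj := Localization.essSurj L P.isoModSerre
      obtain ⟨X, ⟨i⟩⟩ : ∃ X, Nonempty (L.obj X ≅ Z) := ⟨_, ⟨L.objObjPreimageIso Z⟩⟩
      have h1 : IsZero (F.obj X) :=
        hZ.of_iso ((e.symm.app X) ≪≫ Fbar.mapIso i)
      have h2 : P X := hker X h1
      exact ((ObjectProperty.SerreClassLocalization.isZero_obj_iff L P X).mpr h2).of_iso i.symm
    have hzero : ∀ {Z₁ Z₂ : Q} (h : Z₁ ⟶ Z₂), Fbar.map h = 0 → h = 0 := by
      intro Z₁ Z₂ h hh
      have hfac : Abelian.factorThruImage h ≫ Abelian.image.ι h = h := Abelian.image.fac h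
      have h1 : Fbar.map (Abelian.factorThruImage h) ≫ Fbar.map (Abelian.image.ι h) = 0 := by
        rw [← Fbar.map_comp, hfac, hh]
      have h2 : Fbar.map (Abelian.factorThruImage h) = 0 := by
        rw [← cancel_mono (Fbar.map (Abelian.image.ι h)), h1, zero_comp]
      have h3 : IsZero (Fbar.obj (Abelian.image h)) := by
        rw [IsZero.iff_id_eq_zero, ← cancel_epi (Fbar.map (Abelian.factorThruImage h)), h2,
          zero_comp, comp_zero]
      have h4 : IsZero (Abelian.image h) := hrefl _ h3
      rw [← hfac, h4.eq_of_tgt (Abelian.factorThruImage h) 0, zero_comp]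
    refine ⟨fun {Z₁ Z₂} f g hfg => ?_⟩
    have : Fbar.map (f - g) = 0 := by rw [Fbar.map_sub, hfg, sub_self]
    exact sub_eq_zero.mp (hzero _ this)
  · intro hfaith X hX
    have h1 : IsZero (Fbar.obj (L.obj X)) := hX.of_iso (e.app X)
    have h2 : 𝟙 (L.obj X) = 0 := by
      apply Fbar.map_injective
      exact h1.eq_of_src _ _
    rw [← ObjectProperty.SerreClassLocalization.isZero_obj_iff L P X, IsZero.iff_id_eq_zero]
    exact h2

end Groth.Agent.S6791
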