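import Groth.Statements.S6792
import Groth.Agent.H34.SpSeqLemmas
import Mathlib.Data.Int.Interval
import Mathlib.Order.Interval.Finset.Defs

set_option autoImplicit false
open CategoryTheory
universe v u
open SpSeq SpSeq.FilCx

namespace Groth.Agent.S6792
open CategoryTheory.Limits

/-- For a filtered complex whose filtration is finite in each degree, the associated spectral sequence
is bounded (from page `0` on), the induced filtration on each cohomology object is finite, and the
spectral sequence converges to the cohomology. -/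
theorem result {A : Type u} [Category.{v} A] [Abelian A] (K : SpSeq.FilCx A) (hK : ∀ n : ℤ, (K.XFil n).IsFinite) : K.IsBounded 0 ∧ (∀ n : ℤ, (K.HFil n).IsFinite) ∧ K.Converges := by
  have hTop : ∀ n : ℤ, ∃ a : ℤ, ∀ p : ℤ, p ≤ a → K.filX p n = ⊤ := by
    intro n
    obtain ⟨⟨a, ha⟩, _⟩ := hK n
    exact ⟨a, fun p hp => Groth.Agent.H34.filX_eq_top_of_le K ha hp⟩
  have hBot : ∀ n : ℤ, ∃ b : ℤ, ∀ p : ℤ, b ≤ p → K.filX p n = ⊥ := by
    intro n
    obtain ⟨_, ⟨b, hb⟩⟩ := hK n
    exact ⟨b, fun p hp => Groth.Agent.H34.filX_eq_bot_of_le K hb hp⟩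
  -- finiteness of the filtration on cohomology
  have hHTop : ∀ n : ℤ, ∃ a : ℤ, ∀ p : ℤ, p ≤ a → K.filH p n = ⊤ := by
    intro n
    obtain ⟨a1, h1⟩ := hTop ((ComplexShape.up ℤ).prev n)
    obtain ⟨a2, h2⟩ := hTop n
    obtain ⟨a3, h3⟩ := hTop ((ComplexShape.up ℤ).next n)
    refine ⟨min a1 (min a2 a3), fun p hp => ?_⟩
    have hp1 : p ≤ a1 := hp.trans (min_le_left _ _)
    have hp2 : p ≤ a2 := hp.trans ((min_le_right _ _).trans (min_le_left _ _))
    have hp3 : p ≤ a3 := hp.trans ((min_le_right _ _).trans (min_le_right _ _))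
    exact Groth.Agent.H34.filH_eq_top_of_top K (h1 p hp1) (h2 p hp2) (h3 p hp3)
  have hHBot : ∀ n : ℤ, ∃ b : ℤ, ∀ p : ℤ, b ≤ p → K.filH p n = ⊥ := by
    intro n
    obtain ⟨b, hb⟩ := hBot n
    exact ⟨b, fun p hp => Groth.Agent.H34.filH_eq_bot_of_bot K (hb p hp)⟩
  refine ⟨?_, ?_, ?_, ?_, ?_⟩
  · -- bounded from page 0
    intro n
    obtain ⟨a, ha⟩ := hTop n
    obtain ⟨b, hb⟩ := hBot n
    apply (Set.finite_Ico a b).subset
    intro p hp
    simp only [Set.mem_ofPred_eq] at hp
    by_contra hcon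
    apply hp
    simp only [Set.mem_Ico, not_and_or, not_le, not_lt] at hcon
    apply Groth.Agent.H34.isZero_subquot_of_le
    rcases hcon with hlt | hge
    · -- `p + 1 ≤ a`: everything is `⊤`
      have h1 : K.filX (p + 1) n = ⊤ := ha (p + 1) (by omega)
      unfold SpSeq.FilCx.BSub
      rw [h1]
      simp
    · have h1 : K.filX p n = ⊥ := hb p hge
      have h2 : K.filX (p + 1) n = ⊥ := hb (p + 1) (by omega)
      unfold SpSeq.FilCx.ZSub
      rw [h1, h2]
      simp
  · -- finite filtration on cohomology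
    intro n
    obtain ⟨a, ha⟩ := hHTop n
    obtain ⟨b, hb⟩ := hHBot n
    exact ⟨⟨a, ha a le_rfl⟩, ⟨b, hb b le_rfl⟩⟩
  · -- regular
    intro p n
    obtain ⟨b, hb⟩ := hBot (n + 1)
    refine ⟨(b - p).toNat, fun r hr => ?_⟩
    have e1 : K.filX (p + r) (n + 1) = ⊥ := hb _ (by omega)
    have e2 : K.filX (p + ((b - p).toNat : ℕ)) (n + 1) = ⊥ := hb _ (by omega)
    unfold SpSeq.FilCx.ZSub
    rw [e1, e2]
  · -- abuts
    refine ⟨fun p n => ⟨?_, ?_⟩, fun n => ⟨?_, ?_⟩⟩
    · -- Z_∞
      constructor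
      · rintro _ ⟨r, rfl⟩
        exact sup_le_sup_right (inf_le_inf_left _ (SpSeq.FilCx.kernelSubobject_le_pullback _ _)) _
      · intro S hS
        obtain ⟨b, hb⟩ := hBot (n + 1)
        have h := hS ⟨(b - p).toNat, rfl⟩
        have e2 : K.filX (p + ((b - p).toNat : ℕ)) (n + 1) = ⊥ := hb _ (by omega)
        simp only [SpSeq.FilCx.ZSub, e2, Groth.Agent.H34.pullback_bot_eq_kernelSubobject] at h
        exact h
    · -- B_∞
      constructor
      · rintro _ ⟨r, rfl⟩
        exact sup_le_sup_right (inf_le_inf_left _ (imageSubobject_comp_le _ _)) _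
      · intro S hS
        obtain ⟨a, ha⟩ := hTop (n - 1)
        have h := hS ⟨(p + 1 - a).toNat, rfl⟩
        have e2 : K.filX (p - ((p + 1 - a).toNat : ℕ) + 1) (n - 1) = ⊤ := ha _ (by omega)
        refine le_trans ?_ h
        simp only [SpSeq.FilCx.BSub, SpSeq.FilCx.BBot]
        rw [Groth.Agent.H34.imageSubobject_arrow_comp_of_eq_top _ e2]
    · -- separated
      constructor
      · intro S _
        exact bot_le
      · intro S hS
        obtain ⟨b, hb⟩ := hHBot n
        have := hS ⟨b, rfl⟩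
        exact this.trans (le_of_eq (hb b le_rfl))
    · -- exhaustive
      constructor
      · intro S _
        exact le_top
      · intro S hS
        obtain ⟨a, ha⟩ := hHTop n
        have := hS ⟨a, rfl⟩
        exact (le_of_eq (ha a le_rfl).symm).trans this
  · -- complete
    intro n T f hf
    obtain ⟨b, hb⟩ := hHBot n
    have hiso : ∀ p : ℤ, b ≤ p → IsIso (cokernel.π ((K.HFil n).fil p).arrow) := fun p hp =>
      Groth.Agent.H34.isIso_cokernel_π_of_eq_bot _ (hb p hp)
    have hπ : ∀ (p q : ℤ) (h : p ≤ q), cokernel.π ((K.HFil n).fil q).arrow ≫ (K.HFil n).quotMap h =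
        cokernel.π ((K.HFil n).fil p).arrow := by
      intro p q h
      unfold SpSeq.FilObj.quotMap
      exact cokernel.π_desc _ _ _
    have := hiso b le_rfl
    refine ⟨f b ≫ inv (cokernel.π ((K.HFil n).fil b).arrow), fun p => ?_⟩
    rcases le_total p b with hp | hp
    · rw [← hf p b hp, ← hπ p b hp, Category.assoc, IsIso.inv_hom_id_assoc]
    · have := hiso p hp
      rw [← hf b p hp, Category.assoc, Category.assoc, ← cancel_mono (inv (cokernel.π ((K.HFil n).fil p).arrow))]
      simp only [Category.assoc, IsIso.hom_inv_id, Category.comp_id]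
      congr 1
      rw [← cancel_epi (cokernel.π ((K.HFil n).fil p).arrow), ← Category.assoc, hπ b p hp]
      simp

end Groth.Agent.S6792
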