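import Groth.Statements.S6793
import Groth.Agent.H34.SpSeqAbut

set_option autoImplicit false
open CategoryTheory CategoryTheory.Limits
universe v u
open SpSeq SpSeq.FilCx

namespace Groth.Agent.S6793

/-- For a filtered complex with degreewise finite filtration, if all terms of some page of its spectral
sequence lie in a weak Serre class `P`, then so does each cohomology object. -/
theorem result {A : Type u} [Category.{v} A] [Abelian A] (K : SpSeq.FilCx A) (hK : ∀ n : ℤ, (K.XFil n).IsFinite) (P : ObjectProperty A) [P.IsClosedUnderIsomorphisms] (h0 : ∃ Z : A, IsZero Z ∧ P Z) (hP : ∀ S : ComposableArrows A 4, S.Exact → P (S.obj 0) → P (S.obj 1) → P (S.obj 3) → P (S.obj 4) → P (S.obj 2)) (r : ℕ) (hr : ∀ p n : ℤ, P (K.E r p n)) (n : ℤ) : P (K.obj.homology n) := by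
  have hPW : Groth.Agent.H34.IsWeakSerre P := ⟨inferInstance, h0, hP⟩
  apply Groth.Agent.H34.P_homology_of_P_gr K n hPW (hK n)
  intro p
  obtain ⟨_, ⟨b, hb⟩⟩ := hK (n + 1)
  obtain ⟨⟨a, ha⟩, _⟩ := hK (n - 1)
  have hb' : K.filX b (n + 1) = ⊥ := hb
  have ha' : K.filX a (n - 1) = ⊤ := ha
  obtain ⟨s, hs, h1, h2⟩ : ∃ s : ℕ, r ≤ s ∧ (b - p).toNat ≤ s ∧ (p + 1 - a).toNat ≤ s :=
    ⟨max r (max (b - p).toNat (p + 1 - a).toNat), le_max_left _ _,
      (le_max_left _ _).trans (le_max_right _ _), (le_max_right _ _).trans (le_max_right _ _)⟩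
  have hE := Groth.Agent.H34.P_page_of_le K r hPW hr s hs p n
  have e1 : K.filX (p + s) (n + 1) = ⊥ := Groth.Agent.H34.filX_eq_bot_of_le K hb' (by omega)
  have e2 : K.filX (p - s + 1) (n - 1) = ⊤ := Groth.Agent.H34.filX_eq_top_of_le K ha' (by omega)
  have hZ : K.ZSub s p n = K.ZTop p n := by
    unfold SpSeq.FilCx.ZSub SpSeq.FilCx.ZTop
    rw [e1, Groth.Agent.H34.pullback_bot_eq_kernelSubobject]
  have hB : K.BSub s p n = K.BBot p n := by
    unfold SpSeq.FilCx.BSub SpSeq.FilCx.BBot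
    rw [Groth.Agent.H34.imageSubobject_arrow_comp_of_eq_top _ e2]
  exact Groth.Agent.H34.P_subquot_congr hPW hZ hB _ _ hE

end Groth.Agent.S6793
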