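import Groth.Statements.S6794
import Groth.Agent.H34.SpSeqChase
import Mathlib.Data.Int.Interval
import Mathlib.Order.Interval.Finset.Defs

set_option autoImplicit false
open CategoryTheory CategoryTheory.Limits
universe v u
open SpSeq SpSeq.FilCx

namespace Groth.Agent.S6794

/-- If the cohomology of the filtration steps of a filtered complex vanishes in each degree for large
filtration index and maps isomorphically to the cohomology of the whole complex for small filtration
index, then the spectral sequence is bounded from page `1` on, the induced filtrations on cohomology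
are finite, and the spectral sequence converges. (The published statement asserts boundedness
without naming a page, which read from page `0` fails for an acyclic complex with an infinite
filtration by acyclic subcomplexes; this row asserts boundedness from page `1`, which is what the
published proof shows.) -/
theorem result {A : Type u} [Category.{v} A] [Abelian A] (K : SpSeq.FilCx A) (h0 : ∀ n : ℤ, ∃ p₀ : ℤ, ∀ p : ℤ, p₀ ≤ p → IsZero ((K.fil p : CochainComplex A ℤ).homology n)) (h1 : ∀ n : ℤ, ∃ p₁ : ℤ, ∀ p : ℤ, p ≤ p₁ → IsIso (HomologicalComplex.homologyMap (K.fil p).arrow n)) : K.IsBounded 1 ∧ (∀ n : ℤ, (K.HFil n).IsFinite) ∧ K.Converges := by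
  -- iso for the transition maps in the small range
  have hstep : ∀ (n p q : ℤ) (hpq : p ≤ q),
      IsIso (HomologicalComplex.homologyMap (K.fil p).arrow n) →
      IsIso (HomologicalComplex.homologyMap (K.fil q).arrow n) →
      IsIso (HomologicalComplex.homologyMap (K.stepLE hpq) n) := by
    intro n p q hpq hp hq
    have hfac : HomologicalComplex.homologyMap (K.stepLE hpq) n ≫
        HomologicalComplex.homologyMap (K.fil p).arrow n =
        HomologicalComplex.homologyMap (K.fil q).arrow n := by
      rw [← HomologicalComplex.homologyMap_comp, Subobject.ofLE_arrow]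
    exact IsIso.of_isIso_fac_right hfac
  -- finiteness of the filtration on cohomology
  have hHTop : ∀ n : ℤ, ∃ a : ℤ, ∀ p : ℤ, p ≤ a → K.filH p n = ⊤ := by
    intro n
    obtain ⟨a, ha⟩ := h1 n
    refine ⟨a, fun p hp => ?_⟩
    have := ha p hp
    exact Groth.Agent.H34.imageSubobject_eq_top_of_epi _
  have hHBot : ∀ n : ℤ, ∃ b : ℤ, ∀ p : ℤ, b ≤ p → K.filH p n = ⊥ := by
    intro n
    obtain ⟨b, hb⟩ := h0 n
    refine ⟨b, fun p hp => ?_⟩
    have hm : HomologicalComplex.homologyMap (K.fil p).arrow n = 0 := (hb p hp).eq_of_src _ _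
    apply le_bot_iff.mp
    exact imageSubobject_le _ 0 (by rw [zero_comp, hm])
  -- `ZSub r p n` is `ZTop p n` for large `r`
  have hZ : ∀ p n : ℤ, ∃ r₀ : ℕ, ∀ r : ℕ, r₀ ≤ r → K.ZSub r p n = K.ZTop p n := by
    intro p n
    obtain ⟨b, hb⟩ := h0 (n + 1)
    refine ⟨(b - p).toNat + 1, fun r hr => ?_⟩
    apply le_antisymm
    · refine sup_le ?_ le_sup_right
      exact Groth.Agent.H34.Zs_le_ZTop K p (p + r) n (by omega) (hb _ (by omega))
    · exact sup_le_sup_right (inf_le_inf_left _ (SpSeq.FilCx.kernelSubobject_le_pullback _ _)) _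
  refine ⟨?_, ?_, ?_, ?_, ?_⟩
  · -- bounded from page 1
    intro n
    obtain ⟨b0, hb0⟩ := h0 n
    obtain ⟨b1, hb1⟩ := h0 (n + 1)
    obtain ⟨a0, ha0⟩ := h1 n
    obtain ⟨a1, ha1⟩ := h1 (n + 1)
    apply (Set.finite_Ico (min a0 a1 - 1) (max b0 b1)).subset
    intro p hp
    simp only [Set.mem_ofPred_eq] at hp
    by_contra hcon
    apply hp
    simp only [Set.mem_Ico, not_and_or, not_le, not_lt] at hcon
    apply Groth.Agent.H34.isZero_subquot_of_le
    rcases hcon with hlt | hge
    · -- small `p`
      have hp0 : p + 1 ≤ a0 := by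
        have := min_le_left a0 a1
        omega
      have hp1 : p + 1 ≤ a1 := by
        have := min_le_right a0 a1
        omega
      have i1 : IsIso (HomologicalComplex.homologyMap (K.fil (p + ((1 : ℕ) : ℤ))).arrow (n + 1)) :=
        ha1 _ (by omega)
      have i2 := hstep n p (p + ((1 : ℕ) : ℤ)) (by omega) (ha0 _ (by omega)) (ha0 _ (by omega))
      exact Groth.Agent.H34.Zs_le_Bs_of_mono_epi K p (p + ((1 : ℕ) : ℤ)) (p - ((1 : ℕ) : ℤ) + 1) n
        (by omega) (by omega) (by omega) inferInstance inferInstance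
    · -- large `p`
      have hp0 : b0 ≤ p := (le_max_left _ _).trans hge
      have hp1 : b1 ≤ p := (le_max_right _ _).trans hge
      exact Groth.Agent.H34.Zs_le_Bs_of_isZero K p (p + ((1 : ℕ) : ℤ)) (p - ((1 : ℕ) : ℤ) + 1) n
        (by omega) (by omega) (hb1 _ (by omega)) (hb0 _ hp0)
  · -- finite filtration on cohomology
    intro n
    obtain ⟨a, ha⟩ := hHTop n
    obtain ⟨b, hb⟩ := hHBot n
    exact ⟨⟨a, ha a le_rfl⟩, ⟨b, hb b le_rfl⟩⟩
  · -- regular
    intro p n
    obtain ⟨r₀, hr₀⟩ := hZ p n
    exact ⟨r₀, fun r hr => (hr₀ r hr).trans (hr₀ r₀ le_rfl).symm⟩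
  · -- abuts
    refine ⟨fun p n => ⟨?_, ?_⟩, fun n => ⟨?_, ?_⟩⟩
    · -- Z_∞
      constructor
      · rintro _ ⟨r, rfl⟩
        exact sup_le_sup_right (inf_le_inf_left _ (SpSeq.FilCx.kernelSubobject_le_pullback _ _)) _
      · intro S hS
        obtain ⟨r₀, hr₀⟩ := hZ p n
        have h := hS ⟨r₀, rfl⟩
        exact h.trans (le_of_eq (hr₀ r₀ le_rfl))
    · -- B_∞
      constructor
      · rintro _ ⟨r, rfl⟩
        exact sup_le_sup_right (inf_le_inf_left _ (imageSubobject_comp_le _ _)) _
      · intro S hS
        obtain ⟨a, ha⟩ := h1 n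
        have h := hS ⟨(p + 1 - a).toNat + 1, rfl⟩
        refine le_trans ?_ h
        have i1 : IsIso (HomologicalComplex.homologyMap
            (K.fil (p - (((p + 1 - a).toNat + 1 : ℕ) : ℤ) + 1)).arrow n) := ha _ (by omega)
        exact sup_le_sup_right (Groth.Agent.H34.im_le_Bs K p _ n (by omega) inferInstance) _
    · -- separated
      constructor
      · intro S _
        exact bot_le
      · intro S hS
        obtain ⟨b, hb⟩ := hHBot n
        have := hS ⟨b, rfl⟩
        exact this.trans (le_of_eq (hb b le_rfl))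
    · -- exhaustive
      constructor
      · intro S _
        exact le_top
      · intro S hS
        obtain ⟨a, ha⟩ := hHTop n
        have := hS ⟨a, rfl⟩
        exact (le_of_eq (ha a le_rfl).symm).trans this
  · -- complete
    intro n T f hf
    obtain ⟨b, hb⟩ := hHBot n
    have hiso : ∀ p : ℤ, b ≤ p → IsIso (cokernel.π ((K.HFil n).fil p).arrow) := fun p hp =>
      Groth.Agent.H34.isIso_cokernel_π_of_eq_bot _ (hb p hp)
    have hπ : ∀ (p q : ℤ) (h : p ≤ q), cokernel.π ((K.HFil n).fil q).arrow ≫ (K.HFil n).quotMap h =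
        cokernel.π ((K.HFil n).fil p).arrow := by
      intro p q h
      unfold SpSeq.FilObj.quotMap
      exact cokernel.π_desc _ _ _
    have := hiso b le_rfl
    refine ⟨f b ≫ inv (cokernel.π ((K.HFil n).fil b).arrow), fun p => ?_⟩
    rcases le_total p b with hp | hp
    · rw [← hf p b hp, ← hπ p b hp, Category.assoc, IsIso.inv_hom_id_assoc]
    · have := hiso p hp
      rw [← hf b p hp, Category.assoc, Category.assoc, ← cancel_mono (inv (cokernel.π ((K.HFil n).fil p).arrow))]
      simp only [Category.assoc, IsIso.hom_inv_id, Category.comp_id]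
      congr 1
      rw [← cancel_epi (cokernel.π ((K.HFil n).fil p).arrow), ← Category.assoc, hπ b p hp]
      simp

end Groth.Agent.S6794
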