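import Groth.Statements.S6799
import Mathlib.AlgebraicTopology.SimplicialSet.Monoidal

set_option autoImplicit false
open CategoryTheory Opposite
universe u
open SSet

namespace Groth.Agent.S6799
open MonoidalCategory

/-- Two maps between `n`-coskeletal simplicial sets which agree on simplices of dimension `< n` are
homotopic, by a single homotopy. -/
theorem result {U V : SSet.{u}} (f₀ f₁ : V ⟶ U) (n : ℕ) (h : ∀ i : ℕ, i < n → f₀.app (op (SimplexCategory.mk i)) = f₁.app (op (SimplexCategory.mk i))) [SimplicialObject.IsCoskeletal U n] [SimplicialObject.IsCoskeletal V n] : Nonempty (SSet.Homotopy f₀ f₁) := by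
  classical
  set i := (SimplexCategory.Truncated.inclusion n).op with hi
  -- key agreement lemma
  have key : ∀ (X Y : SimplexCategory) (φ : Y ⟶ X) (hX : X.len ≤ n)
      (hns : ¬ Function.Surjective φ.toOrderHom) (v : V.obj (op X)),
      f₀.app _ (V.map φ.op v) = f₁.app _ (V.map φ.op v) := by
    intro X Y φ hX hns v
    induction X using SimplexCategory.rec with | _ k =>
    cases k with
    | zero =>
      exfalso
      apply hns
      intro b
      have hss : ∀ a b : Fin 1, a = b := fun a b => Subsingleton.elim a b
      exact ⟨0, hss _ _⟩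
    | succ k =>
      obtain ⟨j, φ', rfl⟩ := SimplexCategory.eq_comp_δ_of_not_surjective φ hns
      have hk : k < n := by
        have : (SimplexCategory.mk (k + 1)).len = k + 1 := rfl
        omega
      have h1 : V.map (φ' ≫ SimplexCategory.δ j).op v = V.map φ'.op (V.map (SimplexCategory.δ j).op v) := by
        rw [op_comp, Functor.map_comp_apply]
      rw [h1, NatTrans.naturality_apply f₀, NatTrans.naturality_apply f₁, h k hk]
  let isOne : ∀ {X : SimplexCategoryᵒᵖ}, (SSet.stdSimplex.{u}.obj (SimplexCategory.mk 1)).obj X → Prop :=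
    fun {X} θ => ∀ k, (SSet.stdSimplex.objEquiv θ).toOrderHom k = 1
  let W : SSet.{u} := V ⊗ SSet.stdSimplex.{u}.obj (SimplexCategory.mk 1)
  let τ : i ⋙ W ⟶ i ⋙ U :=
    { app := fun P => ↾fun (z : V.obj (i.obj P) × (SSet.stdSimplex.{u}.obj (SimplexCategory.mk 1)).obj (i.obj P)) =>
        if isOne z.2 then f₁.app _ z.1 else f₀.app _ z.1
      naturality := by
        intro P Q g
        ext ⟨v, θ⟩
        change (if isOne ((SSet.stdSimplex.{u}.obj (SimplexCategory.mk 1)).map (i.map g) θ) then
            f₁.app _ (V.map (i.map g) v) else f₀.app _ (V.map (i.map g) v)) =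
          U.map (i.map g) (if isOne θ then f₁.app _ v else f₀.app _ v)
        by_cases h1 : isOne θ
        · have h2 : isOne ((SSet.stdSimplex.{u}.obj (SimplexCategory.mk 1)).map (i.map g) θ) := by
            intro k
            exact h1 _
          rw [if_pos h1, if_pos h2]
          exact NatTrans.naturality_apply f₁ _ _
        · rw [if_neg h1]
          by_cases h2 : isOne ((SSet.stdSimplex.{u}.obj (SimplexCategory.mk 1)).map (i.map g) θ)
          · rw [if_pos h2]
            have hns : ¬ Function.Surjective (i.map g).unop.toOrderHom := by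
              intro hs
              apply h1
              intro k
              obtain ⟨k', rfl⟩ := hs k
              exact h2 k'
            have := key _ _ (i.map g).unop P.unop.2 hns v
            rw [← NatTrans.naturality_apply f₀]
            exact this.symm
          · rw [if_neg h2]
            exact NatTrans.naturality_apply f₀ _ _ }
  have hKan : U.IsRightKanExtension (𝟙 (i ⋙ U)) := SimplicialObject.IsCoskeletal.isRightKanExtension
  let H : W ⟶ U := U.liftOfIsRightKanExtension (𝟙 (i ⋙ U)) W τ
  have hH : Functor.whiskerLeft i H ≫ 𝟙 (i ⋙ U) = τ := U.liftOfIsRightKanExtension_fac _ W τ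
  have hHapp : ∀ (P : (SimplexCategory.Truncated n)ᵒᵖ) (z : W.obj (i.obj P)),
      H.app (i.obj P) z = τ.app P z := by
    intro P z
    have := congrArg (fun t => t.app P z) hH
    exact this
  refine ⟨{ h := H, h₀ := ?_, h₁ := ?_, rel := by ext _ ⟨⟨_, ⟨⟩⟩, _⟩ }⟩
  · apply U.hom_ext_of_isRightKanExtension (𝟙 (i ⋙ U))
    congr 1
    ext P v
    change H.app (i.obj P) (SSet.ι₀.app (i.obj P) v) = f₀.app (i.obj P) v
    rw [hHapp]
    change (if isOne (SSet.ι₀.app (i.obj P) v).2 then _ else _) = _
    rw [if_neg]
    · rfl
    · intro hone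
      have := hone 0
      exact absurd (show (0 : Fin 2) = 1 from this) (by decide)
  · apply U.hom_ext_of_isRightKanExtension (𝟙 (i ⋙ U))
    congr 1
    ext P v
    change H.app (i.obj P) (SSet.ι₁.app (i.obj P) v) = f₁.app (i.obj P) v
    rw [hHapp]
    change (if isOne (SSet.ι₁.app (i.obj P) v).2 then _ else _) = _
    rw [if_pos]
    · rfl
    · intro k
      rfl

end Groth.Agent.S6799
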