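import Groth.Statements.S6803
import Groth.Agent.H34.FilObjBasic

set_option autoImplicit false
open CategoryTheory CategoryTheory.Limits
universe v u
open SpSeq SpSeq.FilObj

namespace Groth.Agent.S6803

open Groth.Agent.H34

section

variable {A : Type u} [Category.{v} A] [Abelian A]

/-- The chase in `A`: cobase change of a strict morphism is strict. -/
lemma strict_chase {K L M P : A} {φ : K ⟶ L} {γ : K ⟶ M} {a : L ⟶ P} {b : M ⟶ P}
    (sq : IsPushout φ γ a b) (FK : Subobject K) (FL : Subobject L) (FM : Subobject M)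
    (hγ : ∀ {T : A} (y : T ⟶ K), FK.Factors y → FM.Factors (y ≫ γ))
    (hstrict : imageSubobject (FK.arrow ≫ φ) = imageSubobject φ ⊓ FL)
    (FP : Subobject P)
    (hFP : FP ≤ imageSubobject (FL.arrow ≫ a) ⊔ imageSubobject (FM.arrow ≫ b))
    (hFPb : FP.Factors (FM.arrow ≫ b)) :
    imageSubobject (FM.arrow ≫ b) = imageSubobject b ⊓ FP := by
  apply le_antisymm
  · exact le_inf (imageSubobject_comp_le _ _) (imageSubobject_le_of_factors _ _ hFPb)
  · apply Subobject.le_of_factors
    set S := imageSubobject b ⊓ FP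
    have hy1 : (imageSubobject b).Factors S.arrow := Subobject.inf_arrow_factors_left _ _
    have hy2 : (imageSubobject (FL.arrow ≫ a) ⊔ imageSubobject (FM.arrow ≫ b)).Factors S.arrow :=
      Subobject.factors_of_le _ hFP (Subobject.inf_arrow_factors_right _ _)
    obtain ⟨T₁, π₁, hπ₁, m, hm⟩ := imageSubobject_factors_up_to_refinements _ _ hy1
    obtain ⟨T₂, π₂, hπ₂, z₁, z₂, hz⟩ := sup_factors_up_to_refinements _ _ _
      (Subobject.factors_of_factors_right π₁ hy2)
    obtain ⟨T₃, π₃, hπ₃, lp, hlp⟩ := imageSubobject_factors_up_to_refinements (FL.arrow ≫ a)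
      (z₁ ≫ (imageSubobject (FL.arrow ≫ a)).arrow) (Subobject.factors_comp_arrow _)
    obtain ⟨T₄, π₄, hπ₄, mp, hmp⟩ := imageSubobject_factors_up_to_refinements (FM.arrow ≫ b)
      (π₃ ≫ z₂ ≫ (imageSubobject (FM.arrow ≫ b)).arrow)
      (Subobject.factors_of_factors_right _ (Subobject.factors_comp_arrow _))
    -- on `T₄`: `y = (lp FL) a + (mp FM) b = m b`
    have hsum : (π₄ ≫ π₃ ≫ π₂ ≫ m) ≫ b =
        (π₄ ≫ lp ≫ FL.arrow) ≫ a + (mp ≫ FM.arrow) ≫ b := by
      have e1 : (π₄ ≫ π₃ ≫ π₂ ≫ m) ≫ b = π₄ ≫ π₃ ≫ π₂ ≫ π₁ ≫ S.arrow := by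
        simp only [Category.assoc, hm]
      rw [e1, hz, Preadditive.comp_add, Preadditive.comp_add, hlp, hmp]
      simp only [Category.assoc]
    have hdiff : (π₄ ≫ lp ≫ FL.arrow) ≫ a = (π₄ ≫ π₃ ≫ π₂ ≫ m - mp ≫ FM.arrow) ≫ b := by
      rw [Preadditive.sub_comp, hsum]
      abel
    obtain ⟨T₅, π₅, hπ₅, k, hk1, hk2⟩ := isPushout_exists_of_comp_eq sq _ _ hdiff
    -- `lp` lies in `image φ ⊓ FL = image (FK → L)`
    have h5 : (imageSubobject φ ⊓ FL).Factors (π₅ ≫ π₄ ≫ lp ≫ FL.arrow) := by
      rw [Subobject.inf_factors]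
      constructor
      · rw [hk1]
        exact imageSubobject_factors_comp_self _ _
      · rw [← Category.assoc, ← Category.assoc]
        exact Subobject.factors_comp_arrow _
    rw [← hstrict] at h5
    obtain ⟨T₆, π₆, hπ₆, kp, hkp⟩ := imageSubobject_factors_up_to_refinements _ _ h5
    obtain hFMk : FM.Factors ((kp ≫ FK.arrow) ≫ γ) := hγ _ (Subobject.factors_comp_arrow _)
    have hFMm : FM.Factors (π₆ ≫ π₅ ≫ mp ≫ FM.arrow) := by
      rw [← Category.assoc, ← Category.assoc]
      exact Subobject.factors_comp_arrow _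
    have hfin : (π₆ ≫ π₅ ≫ π₄ ≫ π₃ ≫ π₂ ≫ π₁) ≫ S.arrow =
        ((kp ≫ FK.arrow) ≫ γ + π₆ ≫ π₅ ≫ mp ≫ FM.arrow) ≫ b := by
      have e1 : (π₆ ≫ π₅ ≫ π₄ ≫ π₃ ≫ π₂ ≫ π₁) ≫ S.arrow = π₆ ≫ π₅ ≫ (π₄ ≫ π₃ ≫ π₂ ≫ m) ≫ b := by
        simp only [Category.assoc, hm]
      rw [e1, hsum, Preadditive.comp_add, Preadditive.comp_add, Preadditive.add_comp]
      congr 1
      · have : π₆ ≫ π₅ ≫ (π₄ ≫ lp ≫ FL.arrow) ≫ a = (π₆ ≫ π₅ ≫ π₄ ≫ lp ≫ FL.arrow) ≫ a := by
          simp only [Category.assoc]
        rw [this, hkp]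
        simp only [Category.assoc, sq.w]
      · simp only [Category.assoc]
    have : Epi (π₆ ≫ π₅ ≫ π₄ ≫ π₃ ≫ π₂ ≫ π₁) := by
      repeat apply epi_comp
    apply factors_of_epi_comp _ (π₆ ≫ π₅ ≫ π₄ ≫ π₃ ≫ π₂ ≫ π₁)
    rw [hfin]
    have hF := Subobject.factors_add _ _ hFMk hFMm
    rw [← FM.factorThru_arrow _ hF, Category.assoc]
    exact imageSubobject_factors_comp_self _ _

variable {K L M : SpSeq.FilObj A} (f : K ⟶ L) (g : K ⟶ M)

/-- The pushout of filtered objects. -/
noncomputable abbrev po : SpSeq.FilObj A where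
  obj := pushout f.hom g.hom
  fil p := imageSubobject ((L.fil p).arrow ≫ pushout.inl f.hom g.hom) ⊔
    imageSubobject ((M.fil p).arrow ≫ pushout.inr f.hom g.hom)
  anti := fun _ _ h => sup_le_sup
    (SpSeq.FilCx.imageSubobject_le_of_fac (L.stepLE h) (by rw [← Category.assoc, Subobject.ofLE_arrow]))
    (SpSeq.FilCx.imageSubobject_le_of_fac (M.stepLE h) (by rw [← Category.assoc, Subobject.ofLE_arrow]))

noncomputable def poInl : L ⟶ po f g :=
  FilObj.homMk (pushout.inl f.hom g.hom) fun _ =>
    Subobject.sup_factors_of_factors_left (imageSubobject_factors_self _)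

noncomputable def poInr : M ⟶ po f g :=
  FilObj.homMk (pushout.inr f.hom g.hom) fun _ =>
    Subobject.sup_factors_of_factors_right (imageSubobject_factors_self _)

lemma po_condition : f ≫ poInl f g = g ≫ poInr f g :=
  FilObj.hom_ext _ _ pushout.condition

noncomputable def poIsColimit :
    IsColimit (PushoutCocone.mk (poInl f g) (poInr f g) (po_condition f g)) :=
  PushoutCocone.IsColimit.mk _
    (fun s => ⟨pushout.desc s.inl.hom s.inr.hom (congrArg SpSeq.FilObj.Hom.hom s.condition),
      fun p => by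
        apply sup_le
        · apply imageSubobject_le_of_factors
          rw [pullback_factors_iff, Category.assoc, pushout.inl_desc]
          exact FilObj.hom_factors s.inl p _ (Subobject.factors_self _)
        · apply imageSubobject_le_of_factors
          rw [pullback_factors_iff, Category.assoc, pushout.inr_desc]
          exact FilObj.hom_factors s.inr p _ (Subobject.factors_self _)⟩)
    (fun s => FilObj.hom_ext _ _ (pushout.inl_desc _ _ _))
    (fun s => FilObj.hom_ext _ _ (pushout.inr_desc _ _ _))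
    (fun s m h1 h2 => FilObj.hom_ext _ _ (by
      apply pushout.hom_ext
      · rw [pushout.inl_desc]
        exact congrArg SpSeq.FilObj.Hom.hom h1
      · rw [pushout.inr_desc]
        exact congrArg SpSeq.FilObj.Hom.hom h2))

end


/-- Pushouts exist in the category of filtered objects of an abelian category, and the pushout of a
strict morphism is strict. -/
theorem result {A : Type u} [Category.{v} A] [Abelian A] {K L M : SpSeq.FilObj A} (f : K ⟶ L) (g : K ⟶ M) : HasPushout f g ∧ ∀ (P : SpSeq.FilObj A) (g' : L ⟶ P) (f' : M ⟶ P), IsPushout f g g' f' → SpSeq.FilObj.IsStrict f → SpSeq.FilObj.IsStrict f' := by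
  refine ⟨⟨⟨⟨_, poIsColimit f g⟩⟩⟩, ?_⟩
  intro P g' f' sq hf
  -- the underlying square is a pushout in `A`
  have sqA : IsPushout f.hom g.hom g'.hom f'.hom := by
    refine ⟨⟨congrArg SpSeq.FilObj.Hom.hom sq.w⟩, ⟨PushoutCocone.IsColimit.mk _ ?_ ?_ ?_ ?_⟩⟩
    · intro s
      exact (sq.desc (FilObj.toTop s.inl : L ⟶ FilObj.topFil s.pt) (FilObj.toTop s.inr)
        (FilObj.hom_ext _ _ s.condition)).hom
    · intro s
      exact congrArg SpSeq.FilObj.Hom.hom (sq.inl_desc (FilObj.toTop s.inl : L ⟶ FilObj.topFil s.pt)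
        (FilObj.toTop s.inr) (FilObj.hom_ext _ _ s.condition))
    · intro s
      exact congrArg SpSeq.FilObj.Hom.hom (sq.inr_desc (FilObj.toTop s.inl : L ⟶ FilObj.topFil s.pt)
        (FilObj.toTop s.inr) (FilObj.hom_ext _ _ s.condition))
    · intro s m h1 h2
      have : (FilObj.toTop m : P ⟶ FilObj.topFil s.pt) = sq.desc (FilObj.toTop s.inl : L ⟶ FilObj.topFil s.pt)
          (FilObj.toTop s.inr) (FilObj.hom_ext _ _ s.condition) := by
        apply sq.hom_ext
        · rw [sq.inl_desc]
          exact FilObj.hom_ext _ _ h1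
        · rw [sq.inr_desc]
          exact FilObj.hom_ext _ _ h2
      exact congrArg SpSeq.FilObj.Hom.hom this
  -- the filtration on `P` is the induced one
  have hfil : ∀ p : ℤ, P.fil p ≤ imageSubobject ((L.fil p).arrow ≫ g'.hom) ⊔
      imageSubobject ((M.fil p).arrow ≫ f'.hom) := by
    -- the same object with the induced filtration
    let P' : SpSeq.FilObj A :=
      { obj := P.obj
        fil := fun p => imageSubobject ((L.fil p).arrow ≫ g'.hom) ⊔
          imageSubobject ((M.fil p).arrow ≫ f'.hom)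
        anti := fun _ _ h => sup_le_sup
          (SpSeq.FilCx.imageSubobject_le_of_fac (L.stepLE h)
            (by rw [← Category.assoc, Subobject.ofLE_arrow]))
          (SpSeq.FilCx.imageSubobject_le_of_fac (M.stepLE h)
            (by rw [← Category.assoc, Subobject.ofLE_arrow])) }
    let j : P' ⟶ P := ⟨𝟙 P.obj, fun p => by
      change _ ≤ (Subobject.pullback (𝟙 P.obj)).obj (P.fil p)
      rw [Subobject.pullback_id]
      apply sup_le
      · exact imageSubobject_le_of_factors _ _
          (FilObj.hom_factors g' p _ (Subobject.factors_self _))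
      · exact imageSubobject_le_of_factors _ _
          (FilObj.hom_factors f' p _ (Subobject.factors_self _))⟩
    let a' : L ⟶ P' := FilObj.homMk g'.hom fun p =>
      Subobject.sup_factors_of_factors_left (imageSubobject_factors_self _)
    let b' : M ⟶ P' := FilObj.homMk f'.hom fun p =>
      Subobject.sup_factors_of_factors_right (imageSubobject_factors_self _)
    have hw : f ≫ a' = g ≫ b' := by
      have := congrArg SpSeq.FilObj.Hom.hom sq.w
      exact FilObj.hom_ext _ _ this
    let u : P ⟶ P' := sq.desc a' b' hw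
    have huj : u ≫ j = 𝟙 P := by
      apply sq.hom_ext
      · rw [← Category.assoc, sq.inl_desc]
        exact FilObj.hom_ext _ _ rfl
      · rw [← Category.assoc, sq.inr_desc]
        exact FilObj.hom_ext _ _ rfl
    have hu : u.hom = 𝟙 P.obj := by
      have := congrArg SpSeq.FilObj.Hom.hom huj
      exact (Category.comp_id u.hom).symm.trans this
    intro p
    have := u.compat p
    rw [hu, Subobject.pullback_id] at this
    exact this
  intro p
  exact strict_chase sqA (K.fil p) (L.fil p) (M.fil p)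
    (fun y hy => FilObj.hom_factors g p y hy) (hf p) (P.fil p) (hfil p)
    (FilObj.hom_factors f' p _ (Subobject.factors_self _))

end Groth.Agent.S6803
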