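import Groth.Statements.S6804
import Groth.Agent.H34.FilObjBasic

set_option autoImplicit false
open CategoryTheory CategoryTheory.Limits
universe v u
open SpSeq SpSeq.FilObj

namespace Groth.Agent.S6804

open Groth.Agent.H34

section

variable {A : Type u} [Category.{v} A] [Abelian A]

/-- The chase in `A`: base change of a strict morphism is strict. -/
lemma strict_chase {P L M K : A} {a : P ⟶ L} {b : P ⟶ M} {φ : L ⟶ K} {γ : M ⟶ K}
    (sq : IsPullback a b φ γ) (FL : Subobject L) (FM : Subobject M) (FK : Subobject K)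
    (hγ : ∀ {T : A} (y : T ⟶ M), FM.Factors y → FK.Factors (y ≫ γ))
    (hstrict : imageSubobject (FL.arrow ≫ φ) = imageSubobject φ ⊓ FK)
    (FP : Subobject P)
    (hFP : ∀ {T : A} (z : T ⟶ P), FL.Factors (z ≫ a) → FM.Factors (z ≫ b) → FP.Factors z)
    (hFPb : FM.Factors (FP.arrow ≫ b)) :
    imageSubobject (FP.arrow ≫ b) = imageSubobject b ⊓ FM := by
  apply le_antisymm
  · exact le_inf (imageSubobject_comp_le _ _) (imageSubobject_le_of_factors _ _ hFPb)
  · apply Subobject.le_of_factors
    set S := imageSubobject b ⊓ FM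
    have hy1 : (imageSubobject b).Factors S.arrow := Subobject.inf_arrow_factors_left _ _
    have hy2 : FM.Factors S.arrow := Subobject.inf_arrow_factors_right _ _
    obtain ⟨T₁, π₁, hπ₁, x, hx⟩ := imageSubobject_factors_up_to_refinements _ _ hy1
    -- the image in `K` lies in `image φ ⊓ FK`
    have h1 : (imageSubobject φ ⊓ FK).Factors (π₁ ≫ S.arrow ≫ γ) := by
      rw [Subobject.inf_factors]
      constructor
      · rw [← Category.assoc, hx, Category.assoc, ← sq.w, ← Category.assoc]
        exact imageSubobject_factors_comp_self _ _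
      · exact Subobject.factors_of_factors_right _ (hγ _ hy2)
    rw [← hstrict] at h1
    obtain ⟨T₂, π₂, hπ₂, l, hl⟩ := imageSubobject_factors_up_to_refinements _ _ h1
    have hw : (l ≫ FL.arrow) ≫ φ = (π₂ ≫ π₁ ≫ S.arrow) ≫ γ := by
      rw [Category.assoc, ← hl]
      simp only [Category.assoc]
    let z := sq.lift (l ≫ FL.arrow) (π₂ ≫ π₁ ≫ S.arrow) hw
    have hza : z ≫ a = l ≫ FL.arrow := sq.lift_fst _ _ _
    have hzb : z ≫ b = π₂ ≫ π₁ ≫ S.arrow := sq.lift_snd _ _ _
    have hzP : FP.Factors z := by
      apply hFP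
      · rw [hza]
        exact Subobject.factors_comp_arrow _
      · rw [hzb]
        exact Subobject.factors_of_factors_right _ (Subobject.factors_of_factors_right _ hy2)
    have : Epi (π₂ ≫ π₁) := epi_comp _ _
    apply factors_of_epi_comp _ (π₂ ≫ π₁)
    rw [Category.assoc, ← hzb, ← FP.factorThru_arrow z hzP, Category.assoc]
    exact imageSubobject_factors_comp_self _ _

variable {K L M : SpSeq.FilObj A} (f : L ⟶ K) (g : M ⟶ K)

/-- The fibre product of filtered objects. -/
noncomputable abbrev pb : SpSeq.FilObj A where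
  obj := pullback f.hom g.hom
  fil p := (Subobject.pullback (pullback.fst f.hom g.hom)).obj (L.fil p) ⊓
    (Subobject.pullback (pullback.snd f.hom g.hom)).obj (M.fil p)
  anti := fun _ _ h => inf_le_inf ((Subobject.pullback _).monotone (L.anti h))
    ((Subobject.pullback _).monotone (M.anti h))

lemma pb_factors_iff (p : ℤ) {T : A} (z : T ⟶ pullback f.hom g.hom) :
    ((pb f g).fil p).Factors z ↔ (L.fil p).Factors (z ≫ pullback.fst f.hom g.hom) ∧
      (M.fil p).Factors (z ≫ pullback.snd f.hom g.hom) := by
  change (_ ⊓ _ : Subobject _).Factors z ↔ _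
  rw [Subobject.inf_factors, pullback_factors_iff, pullback_factors_iff]

noncomputable def pbFst : pb f g ⟶ L :=
  FilObj.homMk (pullback.fst f.hom g.hom) fun p =>
    ((pb_factors_iff f g p _).mp (Subobject.factors_self _)).1

noncomputable def pbSnd : pb f g ⟶ M :=
  FilObj.homMk (pullback.snd f.hom g.hom) fun p =>
    ((pb_factors_iff f g p _).mp (Subobject.factors_self _)).2

lemma pb_condition : pbFst f g ≫ f = pbSnd f g ≫ g :=
  FilObj.hom_ext _ _ pullback.condition

noncomputable def pbIsLimit : IsLimit (PullbackCone.mk (pbFst f g) (pbSnd f g) (pb_condition f g)) :=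
  PullbackCone.IsLimit.mk _
    (fun s => FilObj.homMk (pullback.lift s.fst.hom s.snd.hom (congrArg SpSeq.FilObj.Hom.hom s.condition))
      fun p => by
        rw [pb_factors_iff]
        constructor
        · rw [Category.assoc, pullback.lift_fst]
          exact FilObj.hom_factors s.fst p _ (Subobject.factors_self _)
        · rw [Category.assoc, pullback.lift_snd]
          exact FilObj.hom_factors s.snd p _ (Subobject.factors_self _))
    (fun s => FilObj.hom_ext _ _ (pullback.lift_fst _ _ _))
    (fun s => FilObj.hom_ext _ _ (pullback.lift_snd _ _ _))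
    (fun s m h1 h2 => FilObj.hom_ext _ _ (by
      apply pullback.hom_ext
      · rw [FilObj.homMk_hom, pullback.lift_fst]
        exact congrArg SpSeq.FilObj.Hom.hom h1
      · rw [FilObj.homMk_hom, pullback.lift_snd]
        exact congrArg SpSeq.FilObj.Hom.hom h2))

end


/-- Fibre products exist in the category of filtered objects of an abelian category, and the base change
of a strict morphism is strict. -/
theorem result {A : Type u} [Category.{v} A] [Abelian A] {K L M : SpSeq.FilObj A} (f : L ⟶ K) (g : M ⟶ K) : HasPullback f g ∧ ∀ (P : SpSeq.FilObj A) (g' : P ⟶ L) (f' : P ⟶ M), IsPullback g' f' f g → SpSeq.FilObj.IsStrict f → SpSeq.FilObj.IsStrict f' := by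
  refine ⟨⟨⟨⟨_, pbIsLimit f g⟩⟩⟩, ?_⟩
  intro P g' f' sq hf
  -- the underlying square is a pullback in `A`
  have sqA : IsPullback g'.hom f'.hom f.hom g.hom := by
    refine ⟨⟨congrArg SpSeq.FilObj.Hom.hom sq.w⟩, ⟨PullbackCone.IsLimit.mk _ ?_ ?_ ?_ ?_⟩⟩
    · intro s
      exact (sq.lift (FilObj.fromBot s.fst : FilObj.botFil s.pt ⟶ L) (FilObj.fromBot s.snd)
        (FilObj.hom_ext _ _ s.condition)).hom
    · intro s
      exact congrArg SpSeq.FilObj.Hom.hom (sq.lift_fst (FilObj.fromBot s.fst : FilObj.botFil s.pt ⟶ L)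
        (FilObj.fromBot s.snd) (FilObj.hom_ext _ _ s.condition))
    · intro s
      exact congrArg SpSeq.FilObj.Hom.hom (sq.lift_snd (FilObj.fromBot s.fst : FilObj.botFil s.pt ⟶ L)
        (FilObj.fromBot s.snd) (FilObj.hom_ext _ _ s.condition))
    · intro s m h1 h2
      have : (FilObj.fromBot m : FilObj.botFil s.pt ⟶ P) = sq.lift (FilObj.fromBot s.fst : FilObj.botFil s.pt ⟶ L)
          (FilObj.fromBot s.snd) (FilObj.hom_ext _ _ s.condition) := by
        apply sq.hom_ext
        · rw [sq.lift_fst]
          exact FilObj.hom_ext _ _ h1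
        · rw [sq.lift_snd]
          exact FilObj.hom_ext _ _ h2
      exact congrArg SpSeq.FilObj.Hom.hom this
  -- the filtration on `P` is the induced one
  have hfil : ∀ (p : ℤ) {T : A} (z : T ⟶ P.obj), (L.fil p).Factors (z ≫ g'.hom) →
      (M.fil p).Factors (z ≫ f'.hom) → (P.fil p).Factors z := by
    -- the same object with the induced filtration
    let P' : SpSeq.FilObj A :=
      { obj := P.obj
        fil := fun p => (Subobject.pullback g'.hom).obj (L.fil p) ⊓
          (Subobject.pullback f'.hom).obj (M.fil p)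
        anti := fun p q h => inf_le_inf ((Subobject.pullback _).monotone (L.anti h))
          ((Subobject.pullback _).monotone (M.anti h)) }
    have hP' : ∀ (p : ℤ) {T : A} (z : T ⟶ P.obj), (P'.fil p).Factors z ↔
        (L.fil p).Factors (z ≫ g'.hom) ∧ (M.fil p).Factors (z ≫ f'.hom) := by
      intro p T z
      change (_ ⊓ _ : Subobject _).Factors z ↔ _
      rw [Subobject.inf_factors, pullback_factors_iff, pullback_factors_iff]
    let j : P ⟶ P' := FilObj.homMk (𝟙 P.obj) fun p => by
      rw [hP']
      simp only [Category.comp_id]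
      exact ⟨FilObj.hom_factors g' p _ (Subobject.factors_self _),
        FilObj.hom_factors f' p _ (Subobject.factors_self _)⟩
    let a' : P' ⟶ L := FilObj.homMk g'.hom fun p => ((hP' p _).mp (Subobject.factors_self _)).1
    let b' : P' ⟶ M := FilObj.homMk f'.hom fun p => ((hP' p _).mp (Subobject.factors_self _)).2
    have hw : a' ≫ f = b' ≫ g := by
      have := congrArg SpSeq.FilObj.Hom.hom sq.w
      exact FilObj.hom_ext _ _ this
    let u : P' ⟶ P := sq.lift a' b' hw
    have hju : j ≫ u = 𝟙 P := by
      apply sq.hom_ext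
      · rw [Category.assoc, sq.lift_fst]
        exact FilObj.hom_ext _ _ rfl
      · rw [Category.assoc, sq.lift_snd]
        exact FilObj.hom_ext _ _ rfl
    have hu : u.hom = 𝟙 P.obj := by
      have := congrArg SpSeq.FilObj.Hom.hom hju
      simpa [j] using this
    intro p T z h1 h2
    have hz : (P'.fil p).Factors z := (hP' p z).mpr ⟨h1, h2⟩
    have := FilObj.hom_factors u p z hz
    rwa [hu, Category.comp_id] at this
  intro p
  exact strict_chase sqA (L.fil p) (M.fil p) (K.fil p)
    (fun y hy => FilObj.hom_factors g p y hy) (hf p) (P.fil p)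
    (fun z h1 h2 => hfil p z h1 h2) (FilObj.hom_factors f' p _ (Subobject.factors_self _))

end Groth.Agent.S6804
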