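import Groth.Statements.S6805
import Mathlib.AlgebraicTopology.SimplicialSet.Skeleton

set_option autoImplicit false
open CategoryTheory
universe u
open SSet

namespace Groth.Agent.S6805

/-- The simplicial set freely generated by an `m`-truncated simplicial set (its image under the left
adjoint of `m`-truncation) has only degenerate simplices above dimension `m`. -/
theorem result (m : ℕ) (U : SSet.Truncated.{u} m) : ((SSet.Truncated.sk m).obj U).HasDimensionLT (m + 1) := by
  set i := (SimplexCategory.Truncated.inclusion m).op with hi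
  set L : SSet.{u} := (SSet.Truncated.sk m).obj U with hL
  let α : U ⟶ i ⋙ L := i.lanUnit.app U
  have hKan : L.IsLeftKanExtension α := by
    dsimp only [α, L, SSet.Truncated.sk, SimplicialObject.Truncated.sk]
    infer_instance
  let S : L.Subcomplex := L.skeleton (m + 1)
  have hιiso : IsIso (Functor.whiskerLeft i S.ι) := by
    have : ∀ P, IsIso ((Functor.whiskerLeft i S.ι).app P) := by
      intro P
      rw [isIso_iff_bijective]
      constructor
      · intro a b h
        exact Subtype.ext h
      · intro x
        have htop : S.obj (i.obj P) = ⊤ :=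
          L.skeleton_obj_eq_top (d := P.unop.obj.len) (Nat.lt_succ_of_le P.unop.2)
        exact ⟨⟨x, by rw [htop]; trivial⟩, rfl⟩
    exact NatIso.isIso_of_isIso_app _
  let β : U ⟶ i ⋙ (S : SSet.{u}) := α ≫ inv (Functor.whiskerLeft i S.ι)
  let r : L ⟶ (S : SSet.{u}) := L.descOfIsLeftKanExtension α _ β
  have hr : α ≫ Functor.whiskerLeft i r = β := L.descOfIsLeftKanExtension_fac α _ β
  have hrι : r ≫ S.ι = 𝟙 L := by
    apply L.hom_ext_of_isLeftKanExtension α
    rw [Functor.whiskerLeft_comp, ← Category.assoc, hr]
    simp [β]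
  have hmem : ∀ (k : ℕ) (x : L.obj (Opposite.op (SimplexCategory.mk k))),
      x ∈ S.obj (Opposite.op (SimplexCategory.mk k)) := by
    intro k x
    have h1 : S.ι.app _ (r.app _ x) = x := by
      have := congrArg (fun t => t.app (Opposite.op (SimplexCategory.mk k)) x) hrι
      exact this
    rw [← h1]
    exact (r.app _ x).2
  refine ⟨fun k hk => ?_⟩
  ext x
  simp only [Set.top_eq_univ, Set.mem_univ, iff_true]
  have h := hmem k x
  simp only [S, SSet.skeleton, OrderHom.coe_mk, Subfunctor.iSup_obj,
    Set.iUnion_coe_set, Set.mem_iUnion, exists_prop] at h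
  obtain ⟨⟨j, hj⟩, y, hy, ⟨f⟩, rfl⟩ := h
  exact ⟨j, by omega, f, ⟨y, rfl⟩⟩

end Groth.Agent.S6805
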