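import Groth.Statements.S6818
import Mathlib.AlgebraicTopology.DoldKan.Normalized
import Mathlib.AlgebraicTopology.DoldKan.Degeneracies
import Mathlib.CategoryTheory.Subobject.Limits
import Groth.Agent.H34.SubobjectImage

set_option autoImplicit false
open CategoryTheory CategoryTheory.Limits Opposite
universe v u
open CategoryTheory CategoryTheory.Abelian

namespace Groth.Agent.S6818

/-- For a simplicial object `U` of an abelian category and `n ≥ 0`, the subobjects `U'_m ⊆ U_m`
generated by the images of all `U_i ⟶ U_m` induced by maps `[m] ⟶ [i]` with `i ≤ n` form a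
simplicial subobject equal to `U` in dimensions `≤ n` whose normalized part vanishes in dimensions
`> n`. Here the normalized subobject of `U_m` is the joint kernel of the faces `d_1, …, d_m`; the
published statement uses the faces `d_0, …, d_{m-1}`, the mirror-image convention, and both versions
hold. -/
theorem result {A : Type u} [Category.{v} A] [Abelian A] (U : SimplicialObject A) (n : ℕ) (U' : ∀ m : ℕ, Subobject (U.obj (op (SimplexCategory.mk m)))) (hU' : ∀ m : ℕ, IsLUB (Set.range (fun φ : Σ i : Fin (n + 1), (SimplexCategory.mk m ⟶ SimplexCategory.mk i) => imageSubobject (U.map φ.2.op))) (U' m)) : (∀ (m m' : ℕ) (ψ : SimplexCategory.mk m' ⟶ SimplexCategory.mk m), imageSubobject ((U' m).arrow ≫ U.map ψ.op) ≤ U' m') ∧ (∀ i : ℕ, i ≤ n → U' i = ⊤) ∧ (∀ m : ℕ, n < m → U' m ⊓ AlgebraicTopology.NormalizedMooreComplex.objX U m = ⊥) := by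
  have hfac : ∀ (m : ℕ) (i : Fin (n + 1)) (φ : SimplexCategory.mk m ⟶ SimplexCategory.mk i),
      (U' m).Factors (U.map φ.op) := by
    intro m i φ
    have hle : imageSubobject (U.map φ.op) ≤ U' m := (hU' m).1 ⟨⟨i, φ⟩, rfl⟩
    exact Subobject.factors_of_le _ hle
      ((Subobject.factors_iff _ _).mpr ⟨factorThruImageSubobject _, imageSubobject_arrow_comp _⟩)
  refine ⟨?_, ?_, ?_⟩
  · intro m m' ψ
    have h1 : U' m ≤ (Subobject.pullback (U.map ψ.op)).obj (U' m') := by
      apply (hU' m).2
      rintro _ ⟨⟨i, φ⟩, rfl⟩
      have hF : ((Subobject.pullback (U.map ψ.op)).obj (U' m')).Factors (U.map φ.op) := by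
        rw [pullback_factors_iff]
        have : U.map φ.op ≫ U.map ψ.op = U.map (ψ ≫ φ).op := by
          rw [op_comp, U.map_comp]
        rw [this]
        exact hfac m' i (ψ ≫ φ)
      exact imageSubobject_le _ (Subobject.factorThru _ _ hF) (Subobject.factorThru_arrow _ _ hF)
    have h2 : (U' m').Factors ((U' m).arrow ≫ U.map ψ.op) := by
      rw [← pullback_factors_iff]
      exact Subobject.factors_of_le _ h1 (Subobject.factors_self _)
    exact imageSubobject_le _ (Subobject.factorThru _ _ h2) (Subobject.factorThru_arrow _ _ h2)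
  · intro i hi
    apply top_le_iff.mp
    have h := (hU' i).1 ⟨⟨⟨i, Nat.lt_succ_of_le hi⟩, 𝟙 _⟩, rfl⟩
    have h3 : imageSubobject (U.map (𝟙 (SimplexCategory.mk i)).op) = ⊤ := by
      rw [op_id, U.map_id]
      exact Groth.Agent.H34.imageSubobject_eq_top_of_epi _
    rw [← h3]
    exact h
  · intro m hm
    have hker : (U' m).arrow ≫ AlgebraicTopology.DoldKan.PInfty.f m = 0 := by
      have h1 : U' m ≤ kernelSubobject (AlgebraicTopology.DoldKan.PInfty.f m : U.obj _ ⟶ _) := by
        apply (hU' m).2
        rintro _ ⟨⟨i, φ⟩, rfl⟩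
        have hz : U.map φ.op ≫ AlgebraicTopology.DoldKan.PInfty.f m = 0 := by
          apply AlgebraicTopology.DoldKan.degeneracy_comp_PInfty
          intro hmono
          have := SimplexCategory.len_le_of_mono φ
          simp at this
          omega
        exact imageSubobject_le _ (factorThruKernelSubobject _ _ hz)
          (factorThruKernelSubobject_comp_arrow _ _ hz)
      rw [← Subobject.ofLE_arrow h1, Category.assoc, kernelSubobject_arrow_comp, comp_zero]
    have hN : (AlgebraicTopology.NormalizedMooreComplex.objX U m).arrow ≫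
        AlgebraicTopology.DoldKan.PInfty.f m = (AlgebraicTopology.NormalizedMooreComplex.objX U m).arrow :=
      HomologicalComplex.congr_hom (AlgebraicTopology.DoldKan.inclusionOfMooreComplexMap_comp_PInfty U) m
    set W := U' m ⊓ AlgebraicTopology.NormalizedMooreComplex.objX U m with hW
    have hW1 : W.arrow ≫ AlgebraicTopology.DoldKan.PInfty.f m = 0 := by
      rw [← Subobject.ofLE_arrow (inf_le_left : W ≤ U' m), Category.assoc, hker, comp_zero]
    have hW2 : W.arrow ≫ AlgebraicTopology.DoldKan.PInfty.f m = W.arrow := by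
      rw [← Subobject.ofLE_arrow (inf_le_right : W ≤ _), Category.assoc, hN]
    have hW0 : W.arrow = 0 := by rw [← hW2, hW1]
    apply le_bot_iff.mp
    apply Subobject.le_of_factors
    rw [Subobject.bot_factors_iff_zero]
    exact hW0

end Groth.Agent.S6818
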