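import Groth.Statements.S6806
import Groth.Agent.H34.SimplicialSub
import Groth.Agent.S6818

set_option autoImplicit false
open CategoryTheory CategoryTheory.Limits
universe v u
open CategoryTheory CategoryTheory.Abelian

namespace Groth.Agent.S6806

/-- For an `m`-truncated simplicial object `U` of an abelian category, the normalized Moore complex of
its free extension `i_{m!} U` (left adjoint of truncation) is zero in every degree `n > m`. Here the
normalized complex in degree `n` is the intersection of the kernels of the faces `d_1, …, d_n`; the
published statement intersects the kernels of `d_0, …, d_{n-1}` instead, and the two versions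
correspond under reversal of the ordering of each `[n]`, so both vanish. -/
theorem result {A : Type u} [Category.{v} A] [Abelian A] (m : ℕ) [∀ F : (SimplexCategory.Truncated m)ᵒᵖ ⥤ A, (SimplexCategory.Truncated.inclusion m).op.HasLeftKanExtension F] (U : SimplicialObject.Truncated A m) (n : ℕ) (hn : m < n) : AlgebraicTopology.NormalizedMooreComplex.objX ((SimplicialObject.Truncated.sk m).obj U) n = ⊥ := by
  set i := (SimplexCategory.Truncated.inclusion m).op with hi
  set L : SimplicialObject A := (SimplicialObject.Truncated.sk m).obj U with hL
  let α : U ⟶ i ⋙ L := i.lanUnit.app U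
  have hKan : L.IsLeftKanExtension α := by
    dsimp only [α, L, SimplicialObject.Truncated.sk]
    infer_instance
  let ι := Groth.Agent.H34.genι L m
  have hιiso : IsIso (Functor.whiskerLeft i ι) := by
    have : ∀ X, IsIso ((Functor.whiskerLeft i ι).app X) := by
      intro X
      exact Groth.Agent.H34.isIso_genι_app L m (i.obj X) X.unop.2
    exact NatIso.isIso_of_isIso_app _
  let β : U ⟶ i ⋙ Groth.Agent.H34.genSimplicial L m := α ≫ inv (Functor.whiskerLeft i ι)
  let r : L ⟶ Groth.Agent.H34.genSimplicial L m := L.descOfIsLeftKanExtension α _ β
  have hr : α ≫ Functor.whiskerLeft i r = β := L.descOfIsLeftKanExtension_fac α _ β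
  have hrι : r ≫ ι = 𝟙 L := by
    apply L.hom_ext_of_isLeftKanExtension α
    rw [Functor.whiskerLeft_comp, ← Category.assoc, hr]
    simp [β]
  have htop : ∀ X, Groth.Agent.H34.genSub L m X = ⊤ := by
    intro X
    have h1 : r.app X ≫ (Groth.Agent.H34.genSub L m X).arrow = 𝟙 _ := by
      have := congrArg (fun t => t.app X) hrι
      simpa [ι] using this
    have : IsIso (Groth.Agent.H34.genSub L m X).arrow := by
      have : IsSplitEpi (Groth.Agent.H34.genSub L m X).arrow := ⟨⟨r.app X, h1⟩⟩
      exact isIso_of_mono_of_isSplitEpi _
    exact Subobject.eq_top_of_isIso_arrow _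
  have h3 := (Groth.Agent.S6818.result L m
    (fun k => Groth.Agent.H34.genSub L m (Opposite.op (SimplexCategory.mk k)))
    (fun k => Groth.Agent.H34.isLUB_genSub L m (Opposite.op (SimplexCategory.mk k)))).2.2 n hn
  rw [htop, top_inf_eq] at h3
  exact h3

end Groth.Agent.S6806
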