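import Groth.Statements.S6807
import Groth.Agent.H34.MLLimit
import Groth.Agent.H34.MLSeq
import Groth.Agent.H34.AbComplexElem

set_option autoImplicit false
open CategoryTheory CategoryTheory.Limits
universe u
open HomAlg3

namespace Groth.Agent.S6807

open Groth.Agent.H34

/-- For an inverse system of cochain complexes of abelian groups over `ℕ` whose terms in degrees `n-2`
and `n-1` form Mittag-Leffler systems and whose degree-`(n-1)` cohomologies form an essentially
constant system, the canonical map from the degree-`n` cohomology of the limit complex to the limit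
of the degree-`n` cohomologies is an isomorphism. (The published statement is for four-term
complexes in degrees `-2, …, 1`; only those four degrees of a longer complex enter.) -/
theorem result (K : ℕᵒᵖ ⥤ HomologicalComplex AddCommGrpCat.{u} (ComplexShape.up ℤ)) (n : ℤ) (h2 : ((K ⋙ HomologicalComplex.eval _ _ (n - 2)) ⋙ forget AddCommGrpCat).IsMittagLeffler) (h1 : ((K ⋙ HomologicalComplex.eval _ _ (n - 1)) ⋙ forget AddCommGrpCat).IsMittagLeffler) (hH : ∃ (C₀ : AddCommGrpCat.{u}) (c : (Functor.const ℕᵒᵖ).obj C₀ ⟶ K ⋙ HomologicalComplex.homologyFunctor _ _ (n - 1)), DerCA.IsEssConstant (K ⋙ HomologicalComplex.homologyFunctor _ _ (n - 1)) C₀ c) : IsIso (limit.post K (HomologicalComplex.homologyFunctor _ _ n)) := by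
  classical
  -- the systems of terms, cycles and homology, and the maps between them
  let X : ℤ → (ℕᵒᵖ ⥤ AddCommGrpCat.{u}) := fun m => K ⋙ HomologicalComplex.eval _ _ m
  let Z : ℤ → (ℕᵒᵖ ⥤ AddCommGrpCat.{u}) := fun m => K ⋙ HomologicalComplex.cyclesFunctor _ _ m
  let H : ℤ → (ℕᵒᵖ ⥤ AddCommGrpCat.{u}) := fun m => K ⋙ HomologicalComplex.homologyFunctor _ _ m
  let ιZ : ∀ m : ℤ, Z m ⟶ X m := fun m =>
    { app := fun i => (K.obj i).iCycles m
      naturality := fun i j f => HomologicalComplex.cyclesMap_i (K.map f) m }
  let τ : ∀ m' m : ℤ, X m' ⟶ Z m := fun m' m =>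
    { app := fun i => (K.obj i).toCycles m' m
      naturality := fun i j f => (toCycles_naturality (K.map f) m' m).symm }
  let πH : ∀ m : ℤ, Z m ⟶ H m := fun m =>
    Functor.whiskerLeft K (HomologicalComplex.natTransHomologyπ _ _ m)
  let δ : ∀ m m' : ℤ, X m ⟶ X m' := fun m m' =>
    { app := fun i => (K.obj i).d m m'
      naturality := fun i j f => (K.map f).comm m m' }
  have hm : ∀ m : ℤ, IsLimit ((HomologicalComplex.eval _ _ m).mapCone (limit.cone K)) :=
    fun m => isLimitOfPreserves _ (limit.isLimit K)
  -- compatibility of the projections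
  have hcompat : ∀ (m : ℤ) (w : (limit K).X m) ⦃j j' : ℕᵒᵖ⦄ (f : j ⟶ j'),
      (X m).map f ((limit.π K j).f m w) = (limit.π K j').f m w := by
    intro m w j j' f
    change (K.map f).f m ((limit.π K j).f m w) = (limit.π K j').f m w
    rw [← ConcreteCategory.comp_apply, ← HomologicalComplex.comp_f, limit.w]
  have hπ : ∀ (i : ℕᵒᵖ) (ξ : (limit K).homology n),
      limit.π (H n) i (limit.post K (HomologicalComplex.homologyFunctor _ _ n) ξ) =
        HomologicalComplex.homologyMap (limit.π K i) n ξ := by
    intro i ξ
    rw [← ConcreteCategory.comp_apply]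
    have := limit.post_π K (HomologicalComplex.homologyFunctor AddCommGrpCat.{u}
      (ComplexShape.up ℤ) n) i
    exact congr($this ξ)
  -- exactness statements
  have hexact1 : ∀ i, ((δ (n - 1) n).app i).hom.ker = ((ιZ (n - 1)).app i).hom.range := by
    intro i
    ext x
    constructor
    · intro hx
      exact exists_cycle_of_d_eq_zero (K.obj i) (n - 1) n (by simp) x hx
    · rintro ⟨z, rfl⟩
      exact d_iCycles_apply (K.obj i) (n - 1) n z
  have hexact2 : ∀ i, ((πH n).app i).hom.ker = ((τ (n - 1) n).app i).hom.range := by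
    intro i
    ext z
    constructor
    · intro hz
      exact exists_of_homologyπ_eq_zero (K.obj i) (n - 1) n (by simp) z hz
    · rintro ⟨y, rfl⟩
      exact homologyπ_toCycles_apply (K.obj i) (n - 1) n y
  -- the system of `(n-1)`-cycles is Mittag-Leffler
  have hZML : ((Z (n - 1)) ⋙ forget AddCommGrpCat).IsMittagLeffler := by
    refine isMittagLeffler_of_exact_of_isEssConstant (τ (n - 2) (n - 1)) (πH (n - 1)) ?_ ?_ hH h2
    · intro i
      exact homologyπ_surjective (K.obj i) (n - 1)
    · intro k z hz
      exact exists_of_homologyπ_eq_zero (K.obj (Opposite.op k)) (n - 2) (n - 1)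
        (by simp; omega) z hz
  rw [ConcreteCategory.isIso_iff_bijective]
  constructor
  · -- injectivity
    rw [injective_iff_map_eq_zero]
    intro ξ hξ
    obtain ⟨z, rfl⟩ := homologyπ_surjective (limit K) n ξ
    have hx : ∀ i, (limit.π K i).f n ((limit K).iCycles n z) ∈
        ((δ (n - 1) n).app i).hom.range := by
      intro i
      have h0 : (K.obj i).homologyπ n (HomologicalComplex.cyclesMap (limit.π K i) n z) = 0 := by
        rw [← homologyMap_homologyπ_apply, ← hπ, hξ, map_zero]
        rfl
      obtain ⟨y, hy⟩ := exists_of_homologyπ_eq_zero (K.obj i) (n - 1) n (by simp) _ h0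
      refine ⟨y, ?_⟩
      change (K.obj i).d (n - 1) n y = _
      rw [← iCycles_toCycles_apply, hy, iCycles_cyclesMap_apply]
    obtain ⟨y, hyc, hy⟩ := exists_section_lift_of_isMittagLeffler (ιZ (n - 1)) (δ (n - 1) n)
      hexact1 hZML (fun i => (limit.π K i).f n ((limit K).iCycles n z))
      (hcompat n _) hx
    let yL : (limit K).X (n - 1) := coneMk (hm (n - 1)) y hyc
    have hyLi : ∀ i, (limit.π K i).f (n - 1) yL = y i := fun i =>
      cone_π_coneMk (hm (n - 1)) y hyc i
    have hyL : (limit K).d (n - 1) n yL = (limit K).iCycles n z := by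
      apply cone_ext_ab (hm n)
      intro i
      change (limit.π K i).f n ((limit K).d (n - 1) n yL) =
        (limit.π K i).f n ((limit K).iCycles n z)
      rw [← ConcreteCategory.comp_apply, ← (limit.π K i).comm, ConcreteCategory.comp_apply, hyLi]
      exact hy i
    have hz : z = (limit K).toCycles (n - 1) n yL := by
      apply iCycles_injective
      rw [iCycles_toCycles_apply, hyL]
    rw [hz, homologyπ_toCycles_apply]
    rfl
  · -- surjectivity
    intro η
    obtain ⟨ζ, hζc, hζ⟩ := exists_section_lift_of_isMittagLeffler (τ (n - 1) n) (πH n) hexact2 h1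
      (fun i => limit.π (H n) i η) (fun j j' f => limit_w_apply (H n) f η)
      (fun i => homologyπ_surjective (K.obj i) n _)
    have hxc : ∀ ⦃j j' : ℕᵒᵖ⦄ (f : j ⟶ j'),
        (X n).map f ((K.obj j).iCycles n (ζ j)) = (K.obj j').iCycles n (ζ j') := by
      intro j j' f
      change (K.map f).f n ((K.obj j).iCycles n (ζ j)) = _
      rw [← iCycles_cyclesMap_apply]
      congr 1
      exact hζc f
    let xL : (limit K).X n := coneMk (hm n) (fun i => (K.obj i).iCycles n (ζ i)) hxc
    have hxLi : ∀ i, (limit.π K i).f n xL = (K.obj i).iCycles n (ζ i) := fun i =>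
      cone_π_coneMk (hm n) _ hxc i
    have hd : (limit K).d n (n + 1) xL = 0 := by
      apply cone_ext_ab (hm (n + 1))
      intro i
      change (limit.π K i).f (n + 1) ((limit K).d n (n + 1) xL) = (limit.π K i).f (n + 1) 0
      rw [map_zero, ← ConcreteCategory.comp_apply, ← (limit.π K i).comm,
        ConcreteCategory.comp_apply, hxLi, d_iCycles_apply]
    obtain ⟨z, hz⟩ := exists_cycle_of_d_eq_zero (limit K) n (n + 1) (by simp) xL hd
    refine ⟨(limit K).homologyπ n z, ?_⟩
    apply limit_ext_ab
    intro i
    rw [hπ, homologyMap_homologyπ_apply]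
    have : HomologicalComplex.cyclesMap (limit.π K i) n z = ζ i := by
      apply iCycles_injective
      rw [iCycles_cyclesMap_apply, hz, hxLi]
    rw [this]
    exact hζ i

end Groth.Agent.S6807
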