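import Groth.Statements.S6810
import Mathlib.CategoryTheory.FinCategory.Basic
import Mathlib.Data.Finite.Sigma

set_option autoImplicit false
open CategoryTheory CategoryTheory.Limits
universe v u
open CategoryTheory CategoryTheory.SimplicialObject CategoryTheory.SimplicialObject.Truncated

namespace Groth.Agent.S6810

/-- In a category with finite colimits every truncated simplicial object has a pointwise left Kan
extension along the inclusion of the truncated simplex category, i.e. the left adjoints `i_{m!}` of
truncation exist and are given by the colimit formula. -/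
theorem result {C : Type u} [Category.{v} C] [HasFiniteColimits C] (m : ℕ) (U : (SimplexCategory.Truncated m)ᵒᵖ ⥤ C) : (SimplexCategory.Truncated.inclusion m).op.HasPointwiseLeftKanExtension U := by
  classical
  intro X
  let L := (SimplexCategory.Truncated.inclusion m).op
  -- finiteness of the truncated simplex category
  have hfinT : Finite (SimplexCategory.Truncated m) := by
    apply Finite.of_injective (fun a : SimplexCategory.Truncated m => (⟨a.1.len, Nat.lt_succ_of_le a.2⟩ : Fin (m + 1)))
    intro a b h
    have h1 : a.1.len = b.1.len := by simpa using congrArg Fin.val h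
    exact ObjectProperty.FullSubcategory.ext (SimplexCategory.ext h1)
  have hfinTop : Finite (SimplexCategory.Truncated m)ᵒᵖ := Finite.of_equiv _ Opposite.equivToOpposite
  have hfinHomS : ∀ a b : SimplexCategoryᵒᵖ, Finite (a ⟶ b) := fun a b =>
    Finite.of_equiv _ (opEquiv a b).symm
  have hfinHomT : ∀ a b : (SimplexCategory.Truncated m)ᵒᵖ, Finite (a ⟶ b) := by
    intro a b
    apply Finite.of_injective (fun f : a ⟶ b => f.unop.hom)
    intro f g h
    apply Quiver.Hom.unop_inj
    exact ObjectProperty.hom_ext _ h
  have hfinSig : Finite (Σ k : (SimplexCategory.Truncated m)ᵒᵖ, (L.obj k ⟶ X)) := by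
    have : ∀ k : (SimplexCategory.Truncated m)ᵒᵖ, Finite (L.obj k ⟶ X) := fun k => hfinHomS _ _
    infer_instance
  have hfinObj : Finite (CostructuredArrow L X) := by
    apply Finite.of_injective
      (fun A : CostructuredArrow L X => (⟨A.left, A.hom⟩ : Σ k : (SimplexCategory.Truncated m)ᵒᵖ, (L.obj k ⟶ X)))
    intro A B h
    rcases A with ⟨Al, ⟨⟨⟩⟩, Ah⟩
    rcases B with ⟨Bl, ⟨⟨⟩⟩, Bh⟩
    simp only [Sigma.mk.injEq] at h
    obtain ⟨h1, h2⟩ := h
    subst h1
    simp only [heq_eq_eq] at h2
    subst h2
    rfl
  have hfinHom : ∀ A B : CostructuredArrow L X, Finite (A ⟶ B) := by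
    intro A B
    apply Finite.of_injective (fun f : A ⟶ B => f.left)
    intro f g h
    exact CostructuredArrow.hom_ext _ _ h
  have : FinCategory (CostructuredArrow L X) :=
    { fintypeObj := Fintype.ofFinite _
      fintypeHom := fun A B => Fintype.ofFinite _ }
  have : HasColimitsOfShape (CostructuredArrow L X) C := HasFiniteColimits.out _
  change HasColimit (CostructuredArrow.proj L X ⋙ U)
  infer_instance

end Groth.Agent.S6810
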