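import Groth.Statements.S6812
import Mathlib.AlgebraicTopology.SimplicialSet.Dimension
import Groth.Agent.S6805

set_option autoImplicit false
open CategoryTheory
universe u
open SSet

namespace Groth.Agent.S6812

/-- For a simplicial set `U`, the counit `i_{n!} sk_n U ⟶ U` of the skeleton adjunction is a
monomorphism whose image is the subcomplex of `U` generated by its simplices of dimension `≤ n`. -/
theorem result (U : SSet.{u}) (n : ℕ) : Mono ((SSet.skAdj n).counit.app U) ∧ SSet.Subcomplex.range ((SSet.skAdj n).counit.app U) = U.skeleton (n + 1) := by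
  set i := (SimplexCategory.Truncated.inclusion n).op with hi
  set V : SSet.Truncated.{u} n := (SSet.truncation n).obj U with hV
  set L : SSet.{u} := (SSet.Truncated.sk n).obj V with hL
  have hdim : L.HasDimensionLT (n + 1) := Groth.Agent.S6805.result n V
  let α : V ⟶ (SSet.truncation n).obj L := (SSet.skAdj n).unit.app V
  have hαiso : IsIso α := by dsimp only [α]; infer_instance
  set ε : L ⟶ U := (SSet.skAdj n).counit.app U with hε
  have htri : ∀ P : (SimplexCategory.Truncated n)ᵒᵖ, α.app P ≫ ε.app (i.obj P) = 𝟙 _ := by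
    intro P
    have := congrArg (fun t => t.app P) ((SSet.skAdj n).right_triangle_components U)
    exact this
  have key : ∀ {X Y : Type u} (a : X ⟶ Y) (e : Y ⟶ X), a ≫ e = 𝟙 X → IsIso a →
      Function.Bijective e := by
    intro X Y a e hae hiso
    have : e = inv a := by
      rw [← cancel_epi a, hae, IsIso.hom_inv_id]
    rw [this, ← isIso_iff_bijective]
    infer_instance
  have hbij : ∀ k : ℕ, k ≤ n → Function.Bijective (ε.app (Opposite.op (SimplexCategory.mk k))) := by
    intro k hk
    have h1 : IsIso (α.app (Opposite.op ⟨SimplexCategory.mk k, hk⟩)) := inferInstance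
    exact key (α.app (Opposite.op ⟨SimplexCategory.mk k, hk⟩))
      (ε.app (i.obj (Opposite.op ⟨SimplexCategory.mk k, hk⟩))) (htri _) h1
  have hnat : ∀ {a b : ℕ} (f : SimplexCategory.mk a ⟶ SimplexCategory.mk b)
      (y : L.obj (Opposite.op (SimplexCategory.mk b))),
      ε.app _ (L.map f.op y) = U.map f.op (ε.app _ y) :=
    fun f y => NatTrans.naturality_apply ε f.op y
  -- nondegenerate simplices go to nondegenerate simplices
  have hnd : ∀ (j : ℕ) (z : L.nonDegenerate j), ε.app _ z.1 ∈ U.nonDegenerate j := by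
    intro j z
    have hj : j < n + 1 := L.dim_lt_of_nonDegenerate z (n + 1)
    rw [SSet.mem_nonDegenerate_iff_notMem_degenerate]
    rintro ⟨j', hj', g, w, hw⟩
    obtain ⟨w', rfl⟩ := (hbij j' (by omega)).2 w
    rw [← hnat] at hw
    have := (hbij j (by omega)).1 hw
    have hz := z.2
    rw [SSet.mem_nonDegenerate_iff_notMem_degenerate] at hz
    exact hz ⟨j', hj', g, w', this⟩
  refine ⟨?_, ?_⟩
  · have : ∀ X, Mono (ε.app X) := by
      intro X
      induction X using Opposite.rec with | _ X =>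
      induction X using SimplexCategory.rec with | _ k =>
      rw [mono_iff_injective]
      intro y₁ y₂ h
      obtain ⟨j₁, f₁, hf₁, z₁, rfl⟩ := L.exists_nonDegenerate y₁
      obtain ⟨j₂, f₂, hf₂, z₂, rfl⟩ := L.exists_nonDegenerate y₂
      rw [hnat, hnat] at h
      have hj : j₁ = j₂ := U.unique_nonDegenerate_dim _ f₁ ⟨_, hnd j₁ z₁⟩ rfl f₂ ⟨_, hnd j₂ z₂⟩ h
      subst hj
      have hz := U.unique_nonDegenerate_simplex _ f₁ ⟨_, hnd j₁ z₁⟩ rfl f₂ ⟨_, hnd j₁ z₂⟩ h
      have hf := U.unique_nonDegenerate_map _ f₁ ⟨_, hnd j₁ z₁⟩ rfl f₂ ⟨_, hnd j₁ z₂⟩ h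
      have hj : j₁ < n + 1 := L.dim_lt_of_nonDegenerate z₁ (n + 1)
      have hz' : z₁.1 = z₂.1 := (hbij j₁ (by omega)).1 (Subtype.ext_iff.mp hz)
      rw [hf, hz']
    exact NatTrans.mono_of_mono_app ε
  · apply le_antisymm
    · rintro ⟨X⟩ x ⟨y, rfl⟩
      induction X using SimplexCategory.rec with | _ k =>
      obtain ⟨j, f, hf, z, rfl⟩ := L.exists_nonDegenerate y
      have hj : j < n + 1 := L.dim_lt_of_nonDegenerate z (n + 1)
      rw [hnat]
      exact (U.skeleton (n + 1)).map f.op (U.mem_skeleton _ hj)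
    · simp only [SSet.skeleton, OrderHom.coe_mk, iSup_le_iff]
      rintro ⟨j, hj⟩ x
      rw [SSet.Subcomplex.ofSimplex_le_iff]
      obtain ⟨y, hy⟩ := (hbij j (by omega)).2 x.1
      exact ⟨y, hy⟩

end Groth.Agent.S6812
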