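import Groth.Statements.S6815
import Mathlib.CategoryTheory.Limits.FunctorCategory.Basic
import Mathlib.CategoryTheory.Limits.Preserves.Shapes.Products

set_option autoImplicit false
open CategoryTheory CategoryTheory.Limits
universe w v u
open CategoryTheory CategoryTheory.SimplicialObject

namespace Groth.Agent.S6815

/-- Homotopies between the factors of two product morphisms of simplicial objects assemble to a homotopy
between the products. -/
theorem result {C : Type u} [Category.{v} C] {T : Type w} [HasLimitsOfShape (Discrete T) C] {X Y : T → SimplicialObject C} (a b : ∀ t, X t ⟶ Y t) (h : ∀ t, Nonempty (SimplicialObject.Homotopy (a t) (b t))) : Nonempty (SimplicialObject.Homotopy (Limits.Pi.map a) (Limits.Pi.map b)) := by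
  classical
  have H : ∀ t, SimplicialObject.Homotopy (a t) (b t) := fun t => (h t).some
  -- evaluation at each object preserves the product
  have hl : ∀ k : SimplexCategoryᵒᵖ, IsLimit (((evaluation _ C).obj k).mapCone
      (Fan.mk (∏ᶜ Y) (Pi.π Y))) := fun k =>
    isLimitOfPreserves _ (productIsProduct Y)
  have hext : ∀ (k : SimplexCategoryᵒᵖ) {Z : C} (u v : Z ⟶ (∏ᶜ Y).obj k),
      (∀ t, u ≫ (Pi.π Y t).app k = v ≫ (Pi.π Y t).app k) → u = v := by
    intro k Z u v huv
    exact (hl k).hom_ext (fun ⟨t⟩ => huv t)
  have hlift : ∀ (k : SimplexCategoryᵒᵖ) {Z : C} (g : ∀ t, Z ⟶ (Y t).obj k),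
      ∃ u : Z ⟶ (∏ᶜ Y).obj k, ∀ t, u ≫ (Pi.π Y t).app k = g t := by
    intro k Z g
    let c : Cone (Discrete.functor Y ⋙ (evaluation _ C).obj k) :=
      { pt := Z
        π := Discrete.natTrans (fun ⟨t⟩ => g t) }
    exact ⟨(hl k).lift c, fun t => (hl k).fac c ⟨t⟩⟩
  choose L hL using fun (n : ℕ) (i : Fin (n + 1)) =>
    hlift (Opposite.op (SimplexCategory.mk (n + 1)))
      (fun t => (Pi.π X t).app (Opposite.op (SimplexCategory.mk n)) ≫ (H t).h i)
  have hmapa : ∀ t k, (Limits.Pi.map a).app k ≫ (Pi.π Y t).app k =
      (Pi.π X t).app k ≫ (a t).app k := by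
    intro t k
    rw [← NatTrans.comp_app, Limits.Pi.map_π, NatTrans.comp_app]
  have hmapb : ∀ t k, (Limits.Pi.map b).app k ≫ (Pi.π Y t).app k =
      (Pi.π X t).app k ≫ (b t).app k := by
    intro t k
    rw [← NatTrans.comp_app, Limits.Pi.map_π, NatTrans.comp_app]
  refine ⟨{ h := fun {n} i => L n i
            h_zero_comp_δ_zero := ?_
            h_last_comp_δ_last := ?_
            h_succ_comp_δ_castSucc_of_lt := ?_
            h_succ_comp_δ_castSucc_succ := ?_
            h_castSucc_comp_δ_succ_of_lt := ?_
            h_comp_σ_castSucc_of_le := ?_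
            h_comp_σ_succ_of_lt := ?_ }⟩
  · intro n
    apply hext
    intro t
    rw [Category.assoc, SimplicialObject.δ_naturality, reassoc_of% (hL n 0 t), hmapb,
      (H t).h_zero_comp_δ_zero]
  · intro n
    apply hext
    intro t
    rw [Category.assoc, SimplicialObject.δ_naturality, reassoc_of% (hL n (Fin.last n) t), hmapa,
      (H t).h_last_comp_δ_last]
  · intro n i j hij
    apply hext
    intro t
    rw [Category.assoc, SimplicialObject.δ_naturality, reassoc_of% (hL _ j.succ t),
      (H t).h_succ_comp_δ_castSucc_of_lt i j hij, Category.assoc, hL,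
      ← SimplicialObject.δ_naturality_assoc]
  · intro n j
    apply hext
    intro t
    rw [Category.assoc, SimplicialObject.δ_naturality, reassoc_of% (hL _ j.succ t),
      (H t).h_succ_comp_δ_castSucc_succ j, Category.assoc, SimplicialObject.δ_naturality,
      reassoc_of% (hL _ j.castSucc t)]
  · intro n i j hji
    apply hext
    intro t
    rw [Category.assoc, SimplicialObject.δ_naturality, reassoc_of% (hL _ j.castSucc t),
      (H t).h_castSucc_comp_δ_succ_of_lt i j hji, Category.assoc, hL,
      ← SimplicialObject.δ_naturality_assoc]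
  · intro n i j hij
    apply hext
    intro t
    rw [Category.assoc, SimplicialObject.σ_naturality, reassoc_of% (hL _ j t),
      (H t).h_comp_σ_castSucc_of_le i j hij, Category.assoc, hL,
      ← SimplicialObject.σ_naturality_assoc]
  · intro n i j hji
    apply hext
    intro t
    rw [Category.assoc, SimplicialObject.σ_naturality, reassoc_of% (hL _ j t),
      (H t).h_comp_σ_succ_of_lt i j hji, Category.assoc, hL,
      ← SimplicialObject.σ_naturality_assoc]

end Groth.Agent.S6815
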