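import Groth.Statements.S6816

set_option autoImplicit false
open CategoryTheory CategoryTheory.Limits
universe v u
open CochainComplex

namespace Groth.Agent.S6816

/-- The boundary morphisms `C ⟶ A⟦1⟧` attached to two degreewise splittings of a degreewise split
sequence `A ⟶ B ⟶ C` of cochain complexes are homotopic. -/
theorem result {C : Type u} [Category.{v} C] [Preadditive C] [HasBinaryBiproducts C] (S : ShortComplex (CochainComplex C ℤ)) (σ σ' : ∀ n : ℤ, (S.map (HomologicalComplex.eval C (ComplexShape.up ℤ) n)).Splitting) : Nonempty (Homotopy (CochainComplex.homOfDegreewiseSplit S σ) (CochainComplex.homOfDegreewiseSplit S σ')) := by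
  classical
  open HomologicalComplex HomComplex Preadditive Category in
  -- clean typed versions of the splitting data
  obtain ⟨r, s, f_r, s_g, id, hc⟩ : ∃ (r : ∀ n, S.X₂.X n ⟶ S.X₁.X n) (s : ∀ n, S.X₃.X n ⟶ S.X₂.X n),
      (∀ n, S.f.f n ≫ r n = 𝟙 (S.X₁.X n)) ∧ (∀ n, s n ≫ S.g.f n = 𝟙 (S.X₃.X n)) ∧
      (∀ n, r n ≫ S.f.f n + S.g.f n ≫ s n = 𝟙 (S.X₂.X n)) ∧
      (cocycleOfDegreewiseSplit S σ).1 =
        Cochain.mk (fun p q _ => s p ≫ S.X₂.d p q ≫ r q) :=
    ⟨fun n => (σ n).r, fun n => (σ n).s, fun n => (σ n).f_r, fun n => (σ n).s_g,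
      fun n => (σ n).id, rfl⟩
  obtain ⟨r', s', f_r', s_g', id', hc'⟩ : ∃ (r : ∀ n, S.X₂.X n ⟶ S.X₁.X n)
      (s : ∀ n, S.X₃.X n ⟶ S.X₂.X n),
      (∀ n, S.f.f n ≫ r n = 𝟙 (S.X₁.X n)) ∧ (∀ n, s n ≫ S.g.f n = 𝟙 (S.X₃.X n)) ∧
      (∀ n, r n ≫ S.f.f n + S.g.f n ≫ s n = 𝟙 (S.X₂.X n)) ∧
      (cocycleOfDegreewiseSplit S σ').1 =
        Cochain.mk (fun p q _ => s p ≫ S.X₂.d p q ≫ r q) :=
    ⟨fun n => (σ' n).r, fun n => (σ' n).s, fun n => (σ' n).f_r, fun n => (σ' n).s_g,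
      fun n => (σ' n).id, rfl⟩
  -- the degree-0 cochain u_p = s_p ≫ r'_p
  let γ : Cochain S.X₃ S.X₁ 0 := Cochain.ofHoms (fun p => s p ≫ r' p)
  -- key identity on cocycles
  have key : (cocycleOfDegreewiseSplit S σ).1 =
      (cocycleOfDegreewiseSplit S σ').1 + δ 0 1 γ := by
    rw [hc, hc']
    ext p q hpq
    obtain rfl : q = p + 1 := by lia
    rw [Cochain.add_v, δ_v 0 1 (zero_add 1) γ p (p + 1) rfl p (p + 1) (by lia) rfl]
    simp only [γ, Cochain.ofHoms_v, Cochain.mk_v, Int.negOnePow_one, Units.neg_smul, one_smul]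
    have hB : (s p ≫ r' p) ≫ S.X₁.d p (p + 1) =
        s p ≫ S.X₂.d p (p + 1) ≫ r' (p + 1) - s' p ≫ S.X₂.d p (p + 1) ≫ r' (p + 1) := by
      have h1 : S.X₁.d p (p + 1) = S.f.f p ≫ S.X₂.d p (p + 1) ≫ r' (p + 1) := by
        rw [← Category.assoc, S.f.comm, Category.assoc, f_r', Category.comp_id]
      have h2 : r' p ≫ S.f.f p = 𝟙 _ - S.g.f p ≫ s' p := by
        rw [eq_sub_iff_add_eq]
        exact id' p
      rw [h1, Category.assoc, reassoc_of% h2, Preadditive.sub_comp, Preadditive.comp_sub,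
        Category.id_comp, Category.assoc, reassoc_of% (s_g p)]
    have hC : S.X₃.d p (p + 1) ≫ s (p + 1) ≫ r' (p + 1) =
        s p ≫ S.X₂.d p (p + 1) ≫ r' (p + 1) - s p ≫ S.X₂.d p (p + 1) ≫ r (p + 1) := by
      have h1 : S.X₃.d p (p + 1) = s p ≫ S.X₂.d p (p + 1) ≫ S.g.f (p + 1) := by
        rw [← S.g.comm, reassoc_of% (s_g p)]
      have h2 : S.g.f (p + 1) ≫ s (p + 1) = 𝟙 _ - r (p + 1) ≫ S.f.f (p + 1) := by
        rw [eq_sub_iff_add_eq']
        exact id (p + 1)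
      rw [h1, Category.assoc, Category.assoc, reassoc_of% h2, Preadditive.sub_comp,
        Preadditive.comp_sub, Preadditive.comp_sub, Category.id_comp, Category.assoc, f_r',
        Category.comp_id]
    rw [hB, hC]
    abel
  have h1 : ∀ τ : ∀ n : ℤ, (S.map (HomologicalComplex.eval C (ComplexShape.up ℤ) n)).Splitting,
      Cochain.ofHom (homOfDegreewiseSplit S τ) =
        (cocycleOfDegreewiseSplit S τ).1.rightShift 1 0 (zero_add 1) := by
    intro τ
    exact congrArg Subtype.val ((Cocycle.equivHom _ _).apply_symm_apply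
      ((cocycleOfDegreewiseSplit S τ).rightShift 1 0 (zero_add 1)))
  refine ⟨(Cochain.equivHomotopy _ _).symm ⟨-γ.rightShift 1 (-1) (by norm_num), ?_⟩⟩
  rw [h1 σ, h1 σ', key, Cochain.rightShift_add, δ_neg,
    Cochain.δ_rightShift γ 1 (-1) 0 (by norm_num) 1 (zero_add 1), Int.negOnePow_one,
    Units.neg_smul, one_smul, neg_neg, add_comm]

end Groth.Agent.S6816
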