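import Groth.Statements.S6817
import Groth.Agent.H34.SimplicialAbHomotopy

set_option autoImplicit false
open CategoryTheory
universe u
open SSet

namespace Groth.Agent.S6817

open Groth.Agent.H34 Simplicial Opposite AlgebraicTopology

lemma ap_id {X : SimplicialObject AddCommGrpCat.{u}} {n : ℕ} (x : X _⦋n⦌) :
    ap (𝟙 (US X)) x = x := rfl

lemma ap_whisker_comp {X Y : SimplicialObject AddCommGrpCat.{u}} (f : X ⟶ Y) (g : US Y ⟶ US X)
    {n : ℕ} (x : X _⦋n⦌) :
    ap (Functor.whiskerRight f (forget AddCommGrpCat.{u}) ≫ g) x = ap g (f.app (op ⦋n⦌) x) := rfl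

lemma ap_comp_whisker {X Y : SimplicialObject AddCommGrpCat.{u}} (f : X ⟶ Y) (g : US Y ⟶ US X)
    {n : ℕ} (y : Y _⦋n⦌) :
    ap (g ≫ Functor.whiskerRight f (forget AddCommGrpCat.{u})) y = f.app (op ⦋n⦌) (ap g y) := rfl

/-- A homomorphism of simplicial abelian groups whose underlying map of simplicial sets is a homotopy
equivalence induces a quasi-isomorphism of associated chain complexes. (The published statement
allows the composites with a homotopy inverse to be joined to the identities by chains of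
homotopies; this row assumes single homotopies, in either direction.) -/
theorem result {X Y : SimplicialObject AddCommGrpCat.{u}} (f : X ⟶ Y) (g : (Y ⋙ forget AddCommGrpCat.{u} : SSet.{u}) ⟶ (X ⋙ forget AddCommGrpCat.{u} : SSet.{u})) (hX : Nonempty (SSet.Homotopy (Functor.whiskerRight f (forget AddCommGrpCat.{u}) ≫ g) (𝟙 _)) ∨ Nonempty (SSet.Homotopy (𝟙 _) (Functor.whiskerRight f (forget AddCommGrpCat.{u}) ≫ g))) (hY : Nonempty (SSet.Homotopy (g ≫ Functor.whiskerRight f (forget AddCommGrpCat.{u})) (𝟙 _)) ∨ Nonempty (SSet.Homotopy (𝟙 _) (g ≫ Functor.whiskerRight f (forget AddCommGrpCat.{u})))) : QuasiIso ((AlgebraicTopology.alternatingFaceMapComplex AddCommGrpCat.{u}).map f) := by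
  have key : QuasiIso (AlternatingFaceMapComplex.map f) := by
    refine quasiIso_of_elementwise f g ?_ ?_
    · intro n x hx
      rcases hX with ⟨⟨H⟩⟩ | ⟨⟨H⟩⟩
      · obtain ⟨c, hc⟩ := exists_objD_eq_of_homotopy H.toSimplicialObjectHomotopy x hx
        refine ⟨c, ?_⟩
        rw [hc, ap_id, ap_id, ap_whisker_comp, ap_whisker_comp, map_zero, sub_zero]
      · obtain ⟨c, hc⟩ := exists_objD_eq_of_homotopy H.toSimplicialObjectHomotopy x hx
        refine ⟨-c, ?_⟩
        rw [map_neg, hc, ap_id, ap_id, ap_whisker_comp, ap_whisker_comp, map_zero, sub_zero]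
        abel
    · intro n y hy
      rcases hY with ⟨⟨H⟩⟩ | ⟨⟨H⟩⟩
      · obtain ⟨c, hc⟩ := exists_objD_eq_of_homotopy H.toSimplicialObjectHomotopy y hy
        refine ⟨c, ?_⟩
        rw [hc, ap_id, ap_id, ap_comp_whisker, ap_comp_whisker, map_sub, sub_zero]
      · obtain ⟨c, hc⟩ := exists_objD_eq_of_homotopy H.toSimplicialObjectHomotopy y hy
        refine ⟨-c, ?_⟩
        rw [map_neg, hc, ap_id, ap_id, ap_comp_whisker, ap_comp_whisker, map_sub, sub_zero]
        abel
  exact key

end Groth.Agent.S6817
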