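import Groth.Statements.S6819
import Groth.Agent.H34.SimplicialGen
import Groth.Agent.S6806

set_option autoImplicit false
open CategoryTheory CategoryTheory.Limits Opposite
universe v u
open CategoryTheory CategoryTheory.Abelian

namespace Groth.Agent.S6819

/-- For a simplicial object `U` of an abelian category, the counit `i_{n!} sk_n U ⟶ U` of the skeleton
adjunction is a monomorphism in each degree, with image the subobject generated by the images of the
maps `U_i ⟶ U_m` induced by `[m] ⟶ [i]`, `i ≤ n`. -/
theorem result {A : Type u} [Category.{v} A] [Abelian A] (U : SimplicialObject A) (n : ℕ) (U' : ∀ m : ℕ, Subobject (U.obj (op (SimplexCategory.mk m)))) (hU' : ∀ m : ℕ, IsLUB (Set.range (fun φ : Σ i : Fin (n + 1), (SimplexCategory.mk m ⟶ SimplexCategory.mk i) => imageSubobject (U.map φ.2.op))) (U' m)) [∀ F : (SimplexCategory.Truncated n)ᵒᵖ ⥤ A, (SimplexCategory.Truncated.inclusion n).op.HasLeftKanExtension F] (m : ℕ) : Mono (((SimplicialObject.skAdj n).counit.app U).app (op (SimplexCategory.mk m))) ∧ imageSubobject (((SimplicialObject.skAdj n).counit.app U).app (op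 (SimplexCategory.mk m))) = U' m := by
  set i := (SimplexCategory.Truncated.inclusion n).op with hi
  set V : SimplicialObject.Truncated A n := (SimplicialObject.truncation n).obj U with hV
  set L : SimplicialObject A := (SimplicialObject.sk n).obj U with hL
  let α : V ⟶ i ⋙ L := (SimplicialObject.skAdj n).unit.app V
  have hKan : L.IsLeftKanExtension α := by
    dsimp only [α, L, V]
    infer_instance
  set ε : L ⟶ U := (SimplicialObject.skAdj n).counit.app U with hε
  have htri : ∀ P : (SimplexCategory.Truncated n)ᵒᵖ, α.app P ≫ ε.app (i.obj P) = 𝟙 _ := by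
    intro P
    have := congrArg (fun t => t.app P) ((SimplicialObject.skAdj n).right_triangle_components U)
    exact this
  -- Step A
  have key : ∀ {X Y : A} (a : X ⟶ Y) (e : Y ⟶ X), a ≫ e = 𝟙 X → Epi a → IsIso e := by
    intro X Y a e hae hepi
    have hsm : IsSplitMono a := ⟨⟨e, hae⟩⟩
    have hiso : IsIso a := isIso_of_epi_of_isSplitMono _
    have : e = inv a := by
      rw [← cancel_epi a, hae, IsIso.hom_inv_id]
    rw [this]
    infer_instance
  have hA : ∀ P : (SimplexCategory.Truncated n)ᵒᵖ, IsIso (ε.app (i.obj P)) := by
    intro P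
    have hepi : Epi (α.app P) := Groth.Agent.H34.epi_app_of_isLeftKanExtension L α P
    exact key (α.app P) (ε.app (i.obj P)) (htri P) hepi
  have hgen : ∀ (X : SimplexCategoryᵒᵖ) (j : Fin (n + 1)) (φ : X.unop ⟶ SimplexCategory.mk j),
      (Groth.Agent.H34.αcomp L α j ≫ L.map φ.op) ≫ ε.app X = U.map φ.op := by
    intro X j φ
    rw [Category.assoc, ε.naturality φ.op]
    have := htri (Groth.Agent.H34.trObj n j)
    rw [← Category.assoc]
    change (α.app (Groth.Agent.H34.trObj n j) ≫ ε.app (i.obj (Groth.Agent.H34.trObj n j))) ≫
      U.map φ.op = _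
    rw [this]
    exact Category.id_comp _
  -- Step B
  have hB : ∀ k : ℕ, Mono (ε.app (op (SimplexCategory.mk k))) := by
    intro k
    induction k with
    | zero =>
      have := hA (op ⟨SimplexCategory.mk 0, Nat.zero_le n⟩)
      exact inferInstanceAs (Mono (ε.app (i.obj (op ⟨SimplexCategory.mk 0, Nat.zero_le n⟩))))
    | succ k ih =>
      by_cases hk : k + 1 ≤ n
      · have := hA (op ⟨SimplexCategory.mk (k + 1), hk⟩)
        exact inferInstanceAs (Mono (ε.app (i.obj (op ⟨SimplexCategory.mk (k + 1), hk⟩))))
      · have hbot : AlgebraicTopology.NormalizedMooreComplex.objX L (k + 1) = ⊥ :=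
          Groth.Agent.S6806.result n V (k + 1) (by omega)
        apply Preadditive.mono_of_cancel_zero
        intro T g hg
        have hδ : ∀ j : Fin (k + 2), g ≫ L.δ j = 0 := by
          intro j
          rw [← cancel_mono (ε.app (op (SimplexCategory.mk k))), Category.assoc, zero_comp]
          have : L.δ j ≫ ε.app (op (SimplexCategory.mk k)) =
              ε.app (op (SimplexCategory.mk (k + 1))) ≫ U.δ j := ε.naturality _
          rw [this, ← Category.assoc, hg, zero_comp]
        have hF : (AlgebraicTopology.NormalizedMooreComplex.objX L (k + 1)).Factors g := by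
          change (Finset.univ.inf fun j : Fin (k + 1) => kernelSubobject (L.δ j.succ)).Factors g
          rw [Subobject.finset_inf_factors]
          intro j _
          rw [kernelSubobject_factors_iff]
          exact hδ _
        rw [hbot, Subobject.bot_factors_iff_zero] at hF
        exact hF
  refine ⟨hB m, ?_⟩
  -- Step C
  apply le_antisymm
  · have htop := Groth.Agent.H34.genSubα_eq_top L α (op (SimplexCategory.mk m))
    have hF1 : (U' m).Factors
        ((Groth.Agent.H34.genSubα L α (op (SimplexCategory.mk m))).arrow ≫
          ε.app (op (SimplexCategory.mk m))) := by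
      apply Groth.Agent.H34.genSubα_arrow_comp_factors
      intro j φ
      rw [hgen]
      have hle : imageSubobject (U.map φ.op) ≤ U' m := (hU' m).1 ⟨⟨j, φ⟩, rfl⟩
      exact Subobject.factors_of_le _ hle
        ((Subobject.factors_iff _ _).mpr ⟨factorThruImageSubobject _, imageSubobject_arrow_comp _⟩)
    have hiso : IsIso (Groth.Agent.H34.genSubα L α (op (SimplexCategory.mk m))).arrow := by
      rw [Subobject.isIso_arrow_iff_eq_top]; exact htop
    have hF2 : (U' m).Factors (ε.app (op (SimplexCategory.mk m))) := by
      have := Subobject.factors_of_factors_right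
        (inv (Groth.Agent.H34.genSubα L α (op (SimplexCategory.mk m))).arrow) hF1
      rwa [IsIso.inv_hom_id_assoc] at this
    exact imageSubobject_le _ (Subobject.factorThru _ _ hF2) (Subobject.factorThru_arrow _ _ hF2)
  · apply (hU' m).2
    rintro _ ⟨⟨j, φ⟩, rfl⟩
    change imageSubobject (U.map φ.op) ≤ _
    rw [← hgen (op (SimplexCategory.mk m)) j φ]
    exact imageSubobject_le _ ((Groth.Agent.H34.αcomp L α j ≫ L.map φ.op) ≫
      factorThruImageSubobject _) (by rw [Category.assoc, imageSubobject_arrow_comp]; try rfl)

end Groth.Agent.S6819
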