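import Groth.Statements.S6820

set_option autoImplicit false
universe u
open Smoothing

namespace Groth.Agent.S6820

/-- Let A be a Noetherian ring, M a finite A-module, S a multiplicative subset of A and π an element of
A such that on the localised module S⁻¹M the kernels of multiplication by π and by π² agree. Then
there is an element s of S such that for every n > 0 the kernels of multiplication by sⁿπ and by
(sⁿπ)² on M agree. (Kernel equalities are written as implications, the reverse inclusions being
automatic.) -/
theorem result {A : Type u} [CommRing A] [IsNoetherianRing A]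
    (M : Type u) [AddCommGroup M] [Module A M] [Module.Finite A M] (S : Submonoid A) (π : A)
    (h : ∀ m : LocalizedModule S M, π ^ 2 • m = 0 → π • m = 0) :
    ∃ s ∈ S, ∀ n : ℕ, 0 < n → ∀ m : M, (s ^ n * π) ^ 2 • m = 0 → (s ^ n * π) • m = 0 := by
  classical
  let f := LocalizedModule.mkLinearMap S M
  let T : Submodule A M := LinearMap.ker f
  have hnoeth : IsNoetherian A M := isNoetherian_of_isNoetherianRing_of_finite A M
  obtain ⟨G, hG⟩ : T.FG := IsNoetherian.noetherian T
  have htors : ∀ t : M, t ∈ T → ∃ s : S, s • t = 0 := by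
    intro t ht
    exact (IsLocalizedModule.eq_zero_iff S f).mp ht
  choose! σ hσ using htors
  let s₀ : S := ∏ g ∈ G, σ g
  have hs₀ : ∀ t ∈ T, (s₀ : A) • t = 0 := by
    intro t ht
    rw [← hG] at ht
    induction ht using Submodule.span_induction with
    | mem g hg =>
      have hg' : g ∈ G := by simpa using hg
      have hgT : g ∈ T := by rw [← hG]; exact Submodule.subset_span hg
      have : (s₀ : A) = (∏ y ∈ G.erase g, (σ y : A)) * (σ g : A) := by
        simp only [s₀, Submonoid.coe_finsetProd]
        rw [← Finset.prod_erase_mul G _ hg']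
      rw [this, mul_smul]
      have h5 : (σ g : A) • g = 0 := hσ g hgT
      rw [h5, smul_zero]
    | zero => simp
    | add x y _ _ hx hy => rw [smul_add, hx, hy, add_zero]
    | smul a x _ hx => rw [smul_comm, hx, smul_zero]
  refine ⟨s₀, s₀.2, ?_⟩
  intro n hn m hm
  have h1 : ((s₀ ^ (2 * n) : S) : A) • (π ^ 2 • f m) = 0 := by
    have : ((s₀ ^ (2 * n) : S) : A) • (π ^ 2 • f m) = f (((s₀ : A) ^ n * π) ^ 2 • m) := by
      rw [map_smul, ← mul_smul]
      congr 1
      simp only [SubmonoidClass.coe_pow]
      ring
    rw [this, hm, map_zero]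
  have h2 : π ^ 2 • f m = 0 := by
    have hinj := IsLocalizedModule.smul_injective f (s₀ ^ (2 * n))
    apply hinj
    simp only [smul_zero]
    exact h1
  have h3 : π • f m = 0 := h (f m) h2
  have h4 : π • m ∈ T := by
    show f (π • m) = 0
    rw [map_smul, h3]
  have h5 := hs₀ _ h4
  obtain ⟨k, rfl⟩ : ∃ k, n = k + 1 := ⟨n - 1, by omega⟩
  rw [pow_succ, mul_assoc, mul_smul, mul_smul, h5, smul_zero]

end Groth.Agent.S6820
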