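import Groth.Statements.S6821
import Groth.Agent.H91.LiftOnceE

set_option autoImplicit false
universe u
open Smoothing

namespace Groth.Agent.S6821

/-- Let R → Λ be a flat ring map and I ⊆ R an ideal with I² = 0 such that Λ/IΛ is ind-smooth over R/I
(every map from a finitely presented algebra factors through a smooth one). Let B be a smooth
R-algebra, φ : B → Λ an R-algebra map and J ⊆ IB a finitely generated ideal with φ(J) = 0. Then
there are a smooth R-algebra B' and R-algebra maps α : B → B' and β : B' → Λ with α(J) = 0 and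
β(α(b)) − φ(b) ∈ IΛ for all b. -/
theorem result {R Λ B : Type u} [CommRing R] [CommRing Λ] [Algebra R Λ] [Module.Flat R Λ]
    (I : Ideal R) (hI : I ^ 2 = ⊥) (h : Smoothing.IndSmooth (R ⧸ I) (Λ ⧸ I.map (algebraMap R Λ)))
    [CommRing B] [Algebra R B] [Algebra.Smooth R B] (φ : B →ₐ[R] Λ) (J : Ideal B)
    (hJ : J ≤ I.map (algebraMap R B)) (hJfg : J.FG) (hφJ : ∀ x ∈ J, φ x = 0) :
    ∃ (B' : Type u) (_ : CommRing B') (_ : Algebra R B'), Algebra.Smooth R B' ∧
      ∃ (α : B →ₐ[R] B') (β : B' →ₐ[R] Λ), (∀ x ∈ J, α x = 0) ∧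
        ∀ b : B, β (α b) - φ b ∈ I.map (algebraMap R Λ) := by
  have hkR : RingHom.ker (algebraMap R (R ⧸ I)) = I := Ideal.mk_ker
  have hkΛ : RingHom.ker (algebraMap Λ (Λ ⧸ I.map (algebraMap R Λ))) =
      (RingHom.ker (algebraMap R (R ⧸ I))).map (algebraMap R Λ) := by
    rw [hkR]
    exact Ideal.mk_ker
  obtain ⟨s, t, ht⟩ := Submodule.fg_iff_exists_fin_generating_family.1 hJfg
  have htJ : ∀ i, t i ∈ J := fun i => by
    rw [← ht]
    exact Submodule.subset_span ⟨i, rfl⟩
  obtain ⟨B'', _, _, hsm'', ψ'', χ'', hcomp, hkill⟩ :=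
    Groth.Agent.H91.LiftOnce.kill_fin (R := R) (Λ := Λ) (R₀ := R ⧸ I)
      (Λ₀ := Λ ⧸ I.map (algebraMap R Λ)) Ideal.Quotient.mk_surjective
      Ideal.Quotient.mk_surjective hkΛ (by rw [hkR]; exact hI) h s B φ t
      (fun i => by rw [hkR]; exact hJ (htJ i)) (fun i => hφJ _ (htJ i))
  refine ⟨B'', inferInstance, inferInstance, hsm'', ψ'', χ'', ?_, ?_⟩
  · have hJker : J ≤ RingHom.ker ψ''.toRingHom := by
      rw [← ht]
      change Ideal.span (Set.range t) ≤ _
      rw [Ideal.span_le]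
      rintro _ ⟨i, rfl⟩
      exact hkill i
    intro x hx
    exact hJker hx
  · intro b
    rw [← AlgHom.comp_apply, hcomp, sub_self]
    exact Ideal.zero_mem _

end Groth.Agent.S6821
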