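import Groth.Statements.S6829
import Groth.Agent.H34.SmoothingBC

set_option autoImplicit false
universe u
open Smoothing

namespace Groth.Agent.S6829

open TensorProduct in
/-- Let A be a finitely presented R-algebra, R → R' a ring map and a ∈ A. If a is elementary standard,
resp. strictly standard, in A over R, then a ⊗ 1 is elementary standard, resp. strictly standard, in
A ⊗_R R' over R' (written here as 1 ⊗ a in R' ⊗_R A). -/
theorem result {R A R' : Type u} [CommRing R] [CommRing A] [Algebra R A]
    [Algebra.FinitePresentation R A] [CommRing R'] [Algebra R R'] (a : A) :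
    (Smoothing.IsElementaryStandard R A a →
        Smoothing.IsElementaryStandard R' (R' ⊗[R] A) ((1 : R') ⊗ₜ[R] a)) ∧
      (Smoothing.IsStrictlyStandard R A a →
        Smoothing.IsStrictlyStandard R' (R' ⊗[R] A) ((1 : R') ⊗ₜ[R] a)) := by
  classical
  constructor
  · rintro ⟨P, ⟨a', ha'⟩, hk⟩
    refine ⟨Groth.Agent.H34.SmoothingBC.baseChange R' P, ⟨(1 : R') ⊗ₜ[R] a', ?_⟩,
      Groth.Agent.H34.SmoothingBC.killsTail_baseChange R' P a hk⟩
    have h2 := Groth.Agent.H34.SmoothingBC.baseChange_hom_jacobianMinor R' P (Fin.castLE P.hcn)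
    refine Eq.trans ?_ (congrArg (fun z => (1 : R') ⊗ₜ[R] a' * z) h2.symm)
    simp only [Algebra.TensorProduct.tmul_mul_tmul, mul_one]
    rw [← ha']
  · rintro ⟨P, hmem, hk⟩
    refine ⟨Groth.Agent.H34.SmoothingBC.baseChange R' P, ?_,
      Groth.Agent.H34.SmoothingBC.killsTail_baseChange R' P a hk⟩
    have h1 := Ideal.mem_map_of_mem
      (Algebra.TensorProduct.includeRight (R := R) (A := R') (B := A)).toRingHom hmem
    rw [Ideal.map_span, ← Set.range_comp] at h1
    have hfun : ((Algebra.TensorProduct.includeRight (R := R) (A := R') (B := A)).toRingHom ∘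
        fun cols : Fin P.c → Fin P.n => P.hom (jacobianMinor P.rel (Fin.castLE P.hcm) cols)) =
        fun cols : Fin P.c → Fin P.n => (Groth.Agent.H34.SmoothingBC.baseChange R' P).hom
          (jacobianMinor (Groth.Agent.H34.SmoothingBC.baseChange R' P).rel
            (Fin.castLE (Groth.Agent.H34.SmoothingBC.baseChange R' P).hcm) cols) := by
      funext cols
      exact (Groth.Agent.H34.SmoothingBC.baseChange_hom_jacobianMinor R' P cols).symm
    rw [hfun] at h1
    exact h1

end Groth.Agent.S6829
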