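import Groth.Statements.S6832
import Groth.Agent.H34.ModFP2

set_option autoImplicit false
universe u
open CategoryTheory CategoryTheory.Limits TopologicalSpace
open ModSite

namespace Groth.Agent.S6832

/-- On a ringed space (X, O), if θ : G → F is a surjective map of O-modules with G of finite type and F
of finite presentation, then Ker(θ) is of finite type. (Part (1) of the source is the case G = O^r.) -/
theorem result {X : TopCat.{u}} (O : TopCat.Sheaf CommRingCat.{u} X)
    {G F : ModSite.Mod O} (θ : G ⟶ F) [Epi θ] [SheafOfModules.IsFiniteType (R := ModSite.ringSh O) G]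
    [SheafOfModules.IsFinitePresentation (R := ModSite.ringSh O) F] : SheafOfModules.IsFiniteType (R := ModSite.ringSh O) (kernel θ) := by
  let T : ShortComplex (ModSite.Mod O) := ShortComplex.mk (kernel.ι θ) θ (kernel.condition θ)
  have hT : T.Exact := ShortComplex.exact_of_f_is_kernel T (kernelIsKernel θ)
  have h1 : Mono T.f := inferInstanceAs (Mono (kernel.ι θ))
  have h2 : Epi T.g := ‹Epi θ›
  exact Groth.Agent.H34.ModFT.isFiniteType_of_locFG _
    (Groth.Agent.H34.ModFT.locFG_of_kernel T hT (Groth.Agent.H34.ModFT.locFG_of_isFiniteType _)
      (Groth.Agent.H34.ModFT.locFP_of_isFinitePresentation _))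

end Groth.Agent.S6832
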