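import Groth.Statements.S6850
import Groth.Agent.H34.ModGenP
import Mathlib.Order.CompleteLattice.Basic
import Mathlib.CategoryTheory.Limits.Lattice

set_option autoImplicit false
universe u
open CategoryTheory CategoryTheory.Limits TopologicalSpace
open ModSite

namespace Groth.Agent.S6850

/-- On a ringed space (X, O), for O-modules F and G: if both are locally generated by sections then so
is F ⊗_O G; if both are of finite type then so is F ⊗_O G; if both are quasi-coherent then so is F
⊗_O G; if both are of finite presentation then so is F ⊗_O G; if both are locally free then so is F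
⊗_O G. (Parts (5), (6) on coherent modules are not restated.) -/
theorem result {X : TopCat.{u}} (O : TopCat.Sheaf CommRingCat.{u} X) (F G : ModSite.Mod O) :
    (Nonempty (SheafOfModules.LocalGeneratorsData.{u} (R := ModSite.ringSh O) F) →
        Nonempty (SheafOfModules.LocalGeneratorsData.{u} (R := ModSite.ringSh O) G) →
          Nonempty (SheafOfModules.LocalGeneratorsData.{u} (R := ModSite.ringSh O) (((ModSite.tensorBi O).obj F).obj G))) ∧
      (SheafOfModules.IsFiniteType (R := ModSite.ringSh O) F → SheafOfModules.IsFiniteType (R := ModSite.ringSh O) G →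
        SheafOfModules.IsFiniteType (R := ModSite.ringSh O) (((ModSite.tensorBi O).obj F).obj G)) ∧
      (SheafOfModules.IsQuasicoherent (R := ModSite.ringSh O) F →
        SheafOfModules.IsQuasicoherent (R := ModSite.ringSh O) G →
          SheafOfModules.IsQuasicoherent (R := ModSite.ringSh O) (((ModSite.tensorBi O).obj F).obj G)) ∧
      (SheafOfModules.IsFinitePresentation (R := ModSite.ringSh O) F →
        SheafOfModules.IsFinitePresentation (R := ModSite.ringSh O) G →
          SheafOfModules.IsFinitePresentation (R := ModSite.ringSh O) (((ModSite.tensorBi O).obj F).obj G)) ∧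
      (SheafOfModules.IsLocallyFree (R := ModSite.ringSh O) F → SheafOfModules.IsLocallyFree (R := ModSite.ringSh O) G →
        SheafOfModules.IsLocallyFree (R := ModSite.ringSh O) (((ModSite.tensorBi O).obj F).obj G)) := by
  have hprodT : ∀ I I' : Type u, (fun _ : Type u => True) I → (fun _ : Type u => True) I' →
      (fun _ : Type u => True) (I × I') := fun _ _ _ _ => trivial
  have hsumT : ∀ I I' : Type u, (fun _ : Type u => True) I → (fun _ : Type u => True) I' →
      (fun _ : Type u => True) (I ⊕ I') := fun _ _ _ _ => trivial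
  have hprodF : ∀ I I' : Type u, Finite I → Finite I' → Finite (I × I') :=
    fun _ _ _ _ => inferInstance
  have hsumF : ∀ I I' : Type u, Finite I → Finite I' → Finite (I ⊕ I') :=
    fun _ _ _ _ => inferInstance
  refine ⟨?_, ?_, ?_, ?_, ?_⟩
  · rintro ⟨σF⟩ ⟨σG⟩
    apply Groth.Agent.H34.ModGenP.nonempty_localGeneratorsData_of_locP
    exact Groth.Agent.H34.ModGenP.LocP.tensor
      (fun e h => by
        have : Epi e.hom := IsIso.epi_of_iso _
        exact h.of_epi e.hom)
      (fun A B => Groth.Agent.H34.ModGenP.GenP.tensor hprodT A B)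
      (Groth.Agent.H34.ModGenP.locP_genP_of_localGeneratorsData F σF)
      (Groth.Agent.H34.ModGenP.locP_genP_of_localGeneratorsData G σG)
  · intro hF hG
    apply Groth.Agent.H34.ModFT.isFiniteType_of_locFG
    rw [← Groth.Agent.H34.ModGenP.locP_genP_finite_iff]
    exact Groth.Agent.H34.ModGenP.LocP.tensor
      (fun e h => by
        have : Epi e.hom := IsIso.epi_of_iso _
        exact h.of_epi e.hom)
      (fun A B => Groth.Agent.H34.ModGenP.GenP.tensor hprodF A B)
      ((Groth.Agent.H34.ModGenP.locP_genP_finite_iff F).2
        (Groth.Agent.H34.ModFT.locFG_of_isFiniteType F))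
      ((Groth.Agent.H34.ModGenP.locP_genP_finite_iff G).2
        (Groth.Agent.H34.ModFT.locFG_of_isFiniteType G))
  · intro hF hG
    apply Groth.Agent.H34.ModGenP.isQuasicoherent_of_locP
    exact Groth.Agent.H34.ModGenP.LocP.tensor
      (fun e h => h.of_iso e)
      (fun A B => Groth.Agent.H34.ModGenP.PresP.tensor hprodT hsumT A B)
      (Groth.Agent.H34.ModGenP.locP_presP_of_isQuasicoherent F)
      (Groth.Agent.H34.ModGenP.locP_presP_of_isQuasicoherent G)
  · intro hF hG
    apply Groth.Agent.H34.ModFT.isFinitePresentation_of_locFP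
    rw [← Groth.Agent.H34.ModGenP.locP_presP_finite_iff]
    exact Groth.Agent.H34.ModGenP.LocP.tensor
      (fun e h => h.of_iso e)
      (fun A B => Groth.Agent.H34.ModGenP.PresP.tensor hprodF hsumF A B)
      ((Groth.Agent.H34.ModGenP.locP_presP_finite_iff F).2
        (Groth.Agent.H34.ModFT.locFP_of_isFinitePresentation F))
      ((Groth.Agent.H34.ModGenP.locP_presP_finite_iff G).2
        (Groth.Agent.H34.ModFT.locFP_of_isFinitePresentation G))
  · intro hF hG
    apply Groth.Agent.H34.ModGenP.isLocallyFree_of_locP
    exact Groth.Agent.H34.ModGenP.LocP.tensor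
      (fun e h => by
        obtain ⟨I, hI, ⟨ε⟩⟩ := h
        exact ⟨I, hI, ⟨ε ≪≫ e⟩⟩)
      (fun A B => Groth.Agent.H34.ModGenP.FreeP.tensor hprodT A B)
      (Groth.Agent.H34.ModGenP.locP_freeP_of_isLocallyFree F)
      (Groth.Agent.H34.ModGenP.locP_freeP_of_isLocallyFree G)

end Groth.Agent.S6850
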