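import Groth.Statements.S6863
import Groth.Agent.H34.Jacobson
import Mathlib.LinearAlgebra.TensorProduct.Pi
import Mathlib.RingTheory.Finiteness.Prod
import Mathlib.LinearAlgebra.FreeModule.Finite.Basic
import Mathlib.LinearAlgebra.FreeModule.Basic

set_option autoImplicit false
universe u
open TensorProduct
open CAlg

namespace Groth.Agent.S6863

/-- Let `I` be an ideal of a commutative ring `R` contained in the Jacobson radical (equivalently, `1 +
i` is a unit for each `i ∈ I`). Then each finitely generated stably free module `E` over `R/I`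
lifts: there is a finite stably free `R`-module `M` with `M/IM ≅ E` (existence of an isomorphism
only; the published statement names no map). -/
theorem result {R : Type u} [CommRing R] (I : Ideal R)
    (hI : I ≤ Ideal.jacobson (⊥ : Ideal R)) (E : Type u) [AddCommGroup E] [Module (R ⧸ I) E]
    [Module.Finite (R ⧸ I) E] [Module.IsStablyFree (R ⧸ I) E] :
    ∃ (M : Type u) (_ : AddCommGroup M) (_ : Module R M), Module.Finite R M ∧ Module.IsStablyFree R M ∧
      Nonempty ((R ⧸ I) ⊗[R] M ≃ₗ[R ⧸ I] E) := by
  classical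
  obtain ⟨N, _, _, _, _, hfree⟩ := Module.IsStablyFree.exist_free_prod (R ⧸ I) E
  let A := R ⧸ I
  let ι := Module.Free.ChooseBasisIndex A (E × N)
  let κ := Module.Free.ChooseBasisIndex A N
  let bι : Module.Basis ι A (E × N) := Module.Free.chooseBasis A (E × N)
  let bκ : Module.Basis κ A N := Module.Free.chooseBasis A N
  let α : A ⊗[R] (ι → R) ≃ₗ[A] (E × N) :=
    (TensorProduct.piScalarRight R A A ι).trans bι.equivFun.symm
  let β : A ⊗[R] (κ → R) ≃ₗ[A] N :=
    (TensorProduct.piScalarRight R A A κ).trans bκ.equivFun.symm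
  have hmk : Function.Surjective (TensorProduct.mk R A (κ → R) 1) := by
    intro z
    induction z using TensorProduct.induction_on with
    | zero => exact ⟨0, by simp⟩
    | tmul r x =>
      obtain ⟨r, rfl⟩ := Ideal.Quotient.mk_surjective r
      refine ⟨r • x, ?_⟩
      rw [TensorProduct.mk_apply, TensorProduct.tmul_smul, TensorProduct.smul_tmul',
        Algebra.smul_def, mul_one]
      rfl
    | add a b ha hb =>
      obtain ⟨a', rfl⟩ := ha
      obtain ⟨b', rfl⟩ := hb
      exact ⟨a' + b', map_add _ _ _⟩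
  let ψ' : A ⊗[R] (ι → R) →ₗ[A] A ⊗[R] (κ → R) :=
    β.symm.toLinearMap ∘ₗ (LinearMap.snd A E N) ∘ₗ α.toLinearMap
  let ψ : (ι → R) →ₗ[R] A ⊗[R] (κ → R) :=
    (ψ'.restrictScalars R) ∘ₗ (TensorProduct.mk R A (ι → R) 1)
  obtain ⟨Φ, hΦ⟩ := Module.projective_lifting_property (TensorProduct.mk R A (κ → R) 1) ψ hmk
  have hbc : Φ.baseChange A = β.symm.toLinearMap ∘ₗ (LinearMap.snd A E N) ∘ₗ α.toLinearMap := by
    apply TensorProduct.AlgebraTensorModule.ext
    intro r x
    have h1 : (1 : A) ⊗ₜ[R] Φ x = β.symm ((α ((1 : A) ⊗ₜ[R] x)).2) := LinearMap.congr_fun hΦ x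
    rw [LinearMap.baseChange_tmul]
    have h2 : r ⊗ₜ[R] Φ x = r • ((1 : A) ⊗ₜ[R] Φ x) := by
      rw [TensorProduct.smul_tmul', smul_eq_mul, mul_one]
    have h3 : r ⊗ₜ[R] x = r • ((1 : A) ⊗ₜ[R] x) := by
      rw [TensorProduct.smul_tmul', smul_eq_mul, mul_one]
    rw [h2, h1, h3]
    simp
  have hbcsurj : Function.Surjective (Φ.baseChange A) := by
    rw [hbc]
    exact β.symm.surjective.comp
      ((LinearMap.snd_surjective (R := A) (M := E) (M₂ := N)).comp α.surjective)
  have hΦsurj : Function.Surjective Φ :=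
    Groth.Agent.H34.surjective_of_baseChange_quotient_surjective I hI Φ hbcsurj
  obtain ⟨s, hs⟩ := Module.projective_lifting_property Φ LinearMap.id hΦsurj
  let M := LinearMap.ker Φ
  let incl : M →ₗ[R] (ι → R) := M.subtype
  let r : (ι → R) →ₗ[R] M := LinearMap.codRestrict M (LinearMap.id - s ∘ₗ Φ) (by
    intro x
    rw [LinearMap.mem_ker, LinearMap.sub_apply, map_sub, LinearMap.id_apply, LinearMap.comp_apply]
    have := LinearMap.congr_fun hs (Φ x)
    simp only [LinearMap.comp_apply, LinearMap.id_apply] at this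
    rw [this, sub_self])
  have hr_incl : r ∘ₗ incl = LinearMap.id := by
    refine LinearMap.ext fun x => Subtype.ext ?_
    have hx : Φ (x : ι → R) = 0 := x.2
    simp [r, incl, hx]
  have hdecomp : incl ∘ₗ r + s ∘ₗ Φ = LinearMap.id := by
    refine LinearMap.ext fun x => ?_
    simp [r, incl]
  have hΦincl : Φ ∘ₗ incl = 0 := by
    refine LinearMap.ext fun x => ?_
    have hx : Φ (x : ι → R) = 0 := x.2
    simp [incl, hx]
  have hrsurj : Function.Surjective r := by
    intro x
    refine ⟨incl x, ?_⟩
    exact LinearMap.congr_fun hr_incl x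
  have hfin : Module.Finite R M := Module.Finite.of_surjective r hrsurj
  let eMG : (M × (κ → R)) ≃ₗ[R] (ι → R) :=
    LinearEquiv.ofLinearMap (incl.coprod s) (r.prod Φ)
      (by
        refine LinearMap.ext fun x => ?_
        have := LinearMap.congr_fun hdecomp x
        simpa using this)
      (by
        apply LinearMap.ext
        rintro ⟨m, g⟩
        have h1 : r (incl m) = m := LinearMap.congr_fun hr_incl m
        have h2 : Φ (incl m) = 0 := LinearMap.congr_fun hΦincl m
        have h3 : Φ (s g) = g := LinearMap.congr_fun hs g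
        have h4 : r (s g) = 0 := by
          apply Subtype.ext
          simp [r, h3]
        simp [h1, h2, h3, h4])
  have hfreeMG : Module.Free R (M × (κ → R)) := Module.Free.of_equiv eMG.symm
  have hsf : Module.IsStablyFree R M := Module.IsStablyFree.of_free_prod R M (κ → R)
  refine ⟨M, inferInstance, inferInstance, hfin, hsf, ?_⟩
  -- the comparison map
  let Θ : A ⊗[R] M →ₗ[A] E := (LinearMap.fst A E N) ∘ₗ α.toLinearMap ∘ₗ (incl.baseChange A)
  have hinclA : (r.baseChange A) ∘ₗ (incl.baseChange A) = LinearMap.id := by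
    rw [← LinearMap.baseChange_comp, hr_incl, LinearMap.baseChange_id]
  have hdecompA : (incl.baseChange A) ∘ₗ (r.baseChange A) + (s.baseChange A) ∘ₗ (Φ.baseChange A) =
      LinearMap.id := by
    rw [← LinearMap.baseChange_comp, ← LinearMap.baseChange_comp, ← LinearMap.baseChange_add,
      hdecomp, LinearMap.baseChange_id]
  have hΦinclA : (Φ.baseChange A) ∘ₗ (incl.baseChange A) = 0 := by
    rw [← LinearMap.baseChange_comp, hΦincl, LinearMap.baseChange_zero]
  have hsnd : ∀ z, (α (incl.baseChange A z)).2 = 0 := by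
    intro z
    have h1 := LinearMap.congr_fun hΦinclA z
    rw [LinearMap.comp_apply, hbc] at h1
    simp only [LinearMap.comp_apply, LinearEquiv.coe_coe, LinearMap.snd_apply,
      LinearMap.zero_apply] at h1
    exact β.symm.map_eq_zero_iff.mp h1
  have hΘinj : Function.Injective Θ := by
    rw [← LinearMap.ker_eq_bot, LinearMap.ker_eq_bot']
    intro z hz
    have h1 : α (incl.baseChange A z) = 0 := by
      apply Prod.ext
      · exact hz
      · exact hsnd z
    have h2 : incl.baseChange A z = 0 := α.map_eq_zero_iff.mp h1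
    have h3 := LinearMap.congr_fun hinclA z
    rw [LinearMap.comp_apply, h2, map_zero] at h3
    exact h3.symm
  have hΘsurj : Function.Surjective Θ := by
    intro x
    let w := α.symm (x, 0)
    have hw : Φ.baseChange A w = 0 := by
      rw [hbc]
      simp [w]
    refine ⟨r.baseChange A w, ?_⟩
    have h1 := LinearMap.congr_fun hdecompA w
    simp only [LinearMap.add_apply, LinearMap.comp_apply, LinearMap.id_apply, hw, map_zero,
      add_zero] at h1
    simp only [Θ, LinearMap.comp_apply, LinearEquiv.coe_coe, h1, LinearMap.fst_apply]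
    simp [w]
  exact ⟨LinearEquiv.ofBijective Θ ⟨hΘinj, hΘsurj⟩⟩

end Groth.Agent.S6863
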