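import Groth.Statements.S6865
import Groth.Agent.H34.Jacobson

set_option autoImplicit false
universe u
open TensorProduct
open CAlg

namespace Groth.Agent.S6865

/-- Let `I` be an ideal of a commutative ring `R` contained in the Jacobson radical and let `P, P'` be
finite projective `R`-modules. If `P/IP` and `P'/IP'` are isomorphic `R/I`-modules, then `P` and
`P'` are isomorphic. -/
theorem result {R : Type u} [CommRing R] (I : Ideal R)
    (hI : I ≤ Ideal.jacobson (⊥ : Ideal R)) (P P' : Type u)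
    [AddCommGroup P] [Module R P] [Module.Finite R P] [Module.Projective R P]
    [AddCommGroup P'] [Module R P'] [Module.Finite R P'] [Module.Projective R P']
    (e : (R ⧸ I) ⊗[R] P ≃ₗ[R ⧸ I] (R ⧸ I) ⊗[R] P') : Nonempty (P ≃ₗ[R] P') := by
  have hsurj : Function.Surjective (TensorProduct.mk R (R ⧸ I) P' 1) := by
    intro z
    induction z using TensorProduct.induction_on with
    | zero => exact ⟨0, by simp⟩
    | tmul r x =>
      obtain ⟨r, rfl⟩ := Ideal.Quotient.mk_surjective r
      refine ⟨r • x, ?_⟩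
      rw [TensorProduct.mk_apply, TensorProduct.tmul_smul, TensorProduct.smul_tmul',
        Algebra.smul_def, mul_one]
      rfl
    | add a b ha hb =>
      obtain ⟨a', rfl⟩ := ha
      obtain ⟨b', rfl⟩ := hb
      exact ⟨a' + b', map_add _ _ _⟩
  let ψ : P →ₗ[R] (R ⧸ I) ⊗[R] P' :=
    (e.toLinearMap.restrictScalars R) ∘ₗ (TensorProduct.mk R (R ⧸ I) P 1)
  obtain ⟨φ, hφ⟩ := Module.projective_lifting_property (TensorProduct.mk R (R ⧸ I) P' 1) ψ hsurj
  have hbc : φ.baseChange (R ⧸ I) = e.toLinearMap := by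
    apply TensorProduct.AlgebraTensorModule.ext
    intro r x
    have h1 : (1 : R ⧸ I) ⊗ₜ[R] φ x = e ((1 : R ⧸ I) ⊗ₜ[R] x) := LinearMap.congr_fun hφ x
    rw [LinearMap.baseChange_tmul]
    have h2 : r ⊗ₜ[R] φ x = r • ((1 : R ⧸ I) ⊗ₜ[R] φ x) := by
      rw [TensorProduct.smul_tmul', smul_eq_mul, mul_one]
    have h3 : r ⊗ₜ[R] x = r • ((1 : R ⧸ I) ⊗ₜ[R] x) := by
      rw [TensorProduct.smul_tmul', smul_eq_mul, mul_one]
    rw [h2, h1, h3]
    simp
  have hbij : Function.Bijective (φ.baseChange (R ⧸ I)) := by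
    rw [hbc]
    exact e.bijective
  exact ⟨LinearEquiv.ofBijective φ
    (Groth.Agent.H34.bijective_of_baseChange_quotient_bijective I hI φ hbij)⟩

end Groth.Agent.S6865
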