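import Groth.Statements.S6866
import Groth.Agent.H34.TorsionFree
import Mathlib.LinearAlgebra.TensorProduct.Finiteness
import Mathlib.LinearAlgebra.TensorProduct.Pi

set_option autoImplicit false
universe u
open TensorProduct
open CAlg

namespace Groth.Agent.S6866

/-- If `M` is a torsion free module over a domain `R` and `R → R'` is a flat ring map to another domain,
then `R' ⊗_R M` is torsion free over `R'`. -/
theorem result (R R' : Type u) [CommRing R] [IsDomain R] [CommRing R']
    [IsDomain R'] [Algebra R R'] [Module.Flat R R'] (M : Type u) [AddCommGroup M] [Module R M]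
    [Module.IsTorsionFree R M] : Module.IsTorsionFree R' (R' ⊗[R] M) := by
  refine ⟨fun r hr t₁ t₂ ht => ?_⟩
  dsimp only at ht
  obtain ⟨N', hN', hsub⟩ := TensorProduct.exists_finite_submodule_right_of_setFinite
    (M := R') ({t₁, t₂} : Set (R' ⊗[R] M)) (Set.toFinite _)
  obtain ⟨u₁, hu₁⟩ := hsub (Set.mem_insert _ _)
  obtain ⟨u₂, hu₂⟩ := hsub (Set.mem_insert_of_mem _ rfl)
  obtain ⟨n, j, hj⟩ := Groth.Agent.H34.exists_injective_into_finite_free R N'
  have hinc : Function.Injective (N'.subtype.baseChange R') := by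
    rw [LinearMap.baseChange_eq_ltensor]
    exact Module.Flat.lTensor_preserves_injective_linearMap _ (Submodule.injective_subtype N')
  have hjb : Function.Injective (j.baseChange R') := by
    rw [LinearMap.baseChange_eq_ltensor]
    exact Module.Flat.lTensor_preserves_injective_linearMap _ hj
  let Ψ : R' ⊗[R] N' →ₗ[R'] (Fin n → R') :=
    (TensorProduct.piScalarRight R R' R' (Fin n)).toLinearMap ∘ₗ (j.baseChange R')
  have hΨ : Function.Injective Ψ :=
    (TensorProduct.piScalarRight R R' R' (Fin n)).injective.comp hjb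
  have e1 : N'.subtype.baseChange R' u₁ = t₁ := by
    rw [← hu₁, LinearMap.baseChange_eq_ltensor]
  have e2 : N'.subtype.baseChange R' u₂ = t₂ := by
    rw [← hu₂, LinearMap.baseChange_eq_ltensor]
  have h1 : r • u₁ = r • u₂ := by
    apply hinc
    rw [map_smul, map_smul, e1, e2]
    exact ht
  have h2 : r • Ψ u₁ = r • Ψ u₂ := by
    rw [← map_smul, ← map_smul, h1]
  have h3 : Ψ u₁ = Ψ u₂ := hr.isSMulRegular h2
  rw [← e1, ← e2, hΨ h3]

end Groth.Agent.S6866
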