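import Groth.Statements.S6868
import Groth.Agent.H34.Sk
import Mathlib

set_option autoImplicit false
universe u
open CAlg

namespace Groth.Agent.S6868
open Groth.Agent.H34 LocCoh

theorem partA (R : Type u) [CommRing R]
    [IsDomain R] [IsNoetherianRing R] (M : Type u) [AddCommGroup M] [Module R M] [Module.Finite R M] [Nontrivial M] :
    (Module.IsTorsionFree R M ↔ associatedPrimes R M = {⊥}) := by
  constructor
  · intro h
    have hsub : ∀ P ∈ associatedPrimes R M, P = ⊥ := by
      intro P hP
      rw [AssociatedPrimes.mem_iff, isAssociatedPrime_iff] at hP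
      obtain ⟨hPp, x, rfl⟩ := hP
      rw [eq_bot_iff]
      intro r hr
      rw [Submodule.mem_colon_singleton, Submodule.mem_bot] at hr
      rcases smul_eq_zero.mp hr with h0 | h0
      · simpa using h0
      · exfalso
        apply hPp.ne_top
        rw [Ideal.eq_top_iff_one, Submodule.mem_colon_singleton, h0]
        simp
    obtain ⟨P, hP⟩ := associatedPrimes.nonempty R M
    ext Q
    constructor
    · intro hQ
      exact hsub Q hQ
    · rintro rfl
      rw [← hsub P hP]
      exact hP
  · intro h
    rw [Module.isTorsionFree_iff_smul_eq_zero]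
    intro r m hrm
    by_contra hcon
    push Not at hcon
    obtain ⟨P, hP, hle⟩ := exists_le_isAssociatedPrime_of_isNoetherianRing R m hcon.2
    have : P = ⊥ := by
      have : P ∈ associatedPrimes R M := hP
      rw [h] at this
      exact this
    subst this
    have : r ∈ (⊥ : Ideal R) := hle (by rw [Submodule.mem_colon_singleton]; simpa using hrm)
    exact hcon.1 (by simpa using this)

theorem partB1 (R : Type u) [CommRing R]
    [IsDomain R] [IsNoetherianRing R] (M : Type u) [AddCommGroup M] [Module R M] [Module.Finite R M] [Nontrivial M] (h : Module.IsTorsionFree R M) :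
      (⟨⊥, Ideal.isPrime_bot⟩ : PrimeSpectrum R) ∈ Module.support R M ∧ LocCoh.HasSk 1 R M := by
  constructor
  · rw [Module.support_of_noZeroSMulDivisors]
    trivial
  · intro p hp
    by_cases hN : Subsingleton (LocalizedModule p.primeCompl M)
    · rw [Module.supportDim_eq_bot_of_subsingleton]
      simp
    rw [not_subsingleton_iff_nontrivial] at hN
    by_cases hpb : p = ⊥
    · have hF : IsField (Localization.AtPrime p) := by
        rw [IsLocalRing.isField_iff_maximalIdeal_eq, ← Localization.AtPrime.map_eq_maximalIdeal]
        subst hpb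
        simp
      have h0 := Module.supportDim_le_ringKrullDim (R := Localization.AtPrime p)
        (M := LocalizedModule p.primeCompl M)
      rw [ringKrullDim_eq_zero_of_isField hF] at h0
      refine (min_le_right _ _).trans (h0.trans ?_)
      exact_mod_cast zero_le
    · obtain ⟨x, hxp, hx0⟩ : ∃ x ∈ p, x ≠ 0 := by
        by_contra hcon
        push Not at hcon
        exact hpb (eq_bot_iff.mpr fun x hx => by simpa using hcon x hx)
      have hreg : IsSMulRegular (LocalizedModule p.primeCompl M)
          (algebraMap R (Localization.AtPrime p) x) := by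
        apply Module.IsTorsionFree.isSMulRegular
        rw [isRegular_iff_ne_zero]
        intro h0
        apply hx0
        have hinj : Function.Injective (algebraMap R (Localization.AtPrime p)) :=
          IsLocalization.injective _ (Ideal.primeCompl_le_nonZeroDivisors p)
        exact hinj (by simpa using h0)
      have h1 : 1 ≤ depth (Localization.AtPrime p) (LocalizedModule p.primeCompl M) :=
        one_le_idealDepth_of_regular _ _ _
          ((IsLocalization.AtPrime.to_map_mem_maximal_iff _ p x).mpr hxp) hreg
      refine (min_le_left _ _).trans ?_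
      exact_mod_cast h1

theorem partB2 (R : Type u) [CommRing R]
    [IsDomain R] [IsNoetherianRing R] (M : Type u) [AddCommGroup M] [Module R M] [Module.Finite R M] [Nontrivial M]
    (h1 : (⟨⊥, Ideal.isPrime_bot⟩ : PrimeSpectrum R) ∈ Module.support R M)
    (h2 : LocCoh.HasSk 1 R M) : Module.IsTorsionFree R M := by
  rw [Module.isTorsionFree_iff_smul_eq_zero]
  intro r m hrm
  by_contra hcon
  push Not at hcon
  obtain ⟨P, hP, hle⟩ := exists_le_isAssociatedPrime_of_isNoetherianRing R m hcon.2
  rw [isAssociatedPrime_iff] at hP
  obtain ⟨hPp, x, hPx⟩ := hP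
  have hrP : r ∈ P := hle (by rw [Submodule.mem_colon_singleton]; simpa using hrm)
  have hmem : ∀ b : R, b ∈ P ↔ b • x = 0 := by
    intro b
    rw [hPx, Submodule.mem_colon_singleton, Submodule.mem_bot]
  -- the element y = x/1 of M_P
  set N := LocalizedModule P.primeCompl M with hN
  set S := Localization.AtPrime P with hS
  have hy : (LocalizedModule.mk x 1 : N) ≠ 0 := by
    intro h0
    rw [IsLocalizedModule.mk_eq_mk', IsLocalizedModule.mk'_eq_zero'] at h0
    obtain ⟨c, hc⟩ := h0
    exact c.2 ((hmem c).mpr hc)
  have hkill : ∀ a ∈ IsLocalRing.maximalIdeal S, a • (LocalizedModule.mk x 1 : N) = 0 := by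
    intro a ha
    obtain ⟨⟨b, s⟩, rfl⟩ := IsLocalization.mk'_surjective P.primeCompl a
    rw [IsLocalization.AtPrime.mk'_mem_maximal_iff S P] at ha
    rw [← Localization.mk_eq_mk', LocalizedModule.mk_smul_mk, (hmem b).mp ha]
    simp
  have hd := not_one_le_depth_of_killed (S := S) (N := N) _ hy hkill
  apply hd
  have hsk := h2 P
  have hdim : (1 : WithBot ℕ∞) ≤ Module.supportDim S N := by
    unfold Module.supportDim
    rw [Order.one_le_krullDim_iff]
    have : Nontrivial N := ⟨⟨_, 0, hy⟩⟩
    rw [Module.mem_support_iff'] at h1
    obtain ⟨m0, hm0⟩ := h1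
    have hbot : (⟨⊥, Ideal.isPrime_bot⟩ : PrimeSpectrum S) ∈ Module.support S N := by
      rw [Module.mem_support_iff']
      refine ⟨LocalizedModule.mk m0 1, ?_⟩
      intro a ha
      obtain ⟨⟨b, s⟩, rfl⟩ := IsLocalization.mk'_surjective P.primeCompl a
      rw [← Localization.mk_eq_mk', LocalizedModule.mk_smul_mk]
      intro h0
      rw [IsLocalizedModule.mk_eq_mk', IsLocalizedModule.mk'_eq_zero'] at h0
      obtain ⟨c, hc⟩ := h0
      have hb0 : b ≠ 0 := by
        rintro rfl
        apply ha
        simp
      have hc0 : (c : R) ≠ 0 := by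
        intro hc0
        apply c.2
        rw [hc0]
        exact P.zero_mem
      have : ((c : R) * b) • m0 = 0 := by
        rw [mul_smul]
        exact hc
      exact hm0 ((c : R) * b) (by simpa using mul_ne_zero hc0 hb0) this
    refine ⟨⟨_, hbot⟩, ⟨_, IsLocalRing.closedPoint_mem_support S N⟩, ?_⟩
    rw [Subtype.mk_lt_mk, ← PrimeSpectrum.asIdeal_lt_asIdeal]
    change (⊥ : Ideal S) < IsLocalRing.maximalIdeal S
    rw [bot_lt_iff_ne_bot]
    intro hbot'
    have hr' : algebraMap R S r ∈ IsLocalRing.maximalIdeal S :=
      (IsLocalization.AtPrime.to_map_mem_maximal_iff S P r).mpr hrP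
    rw [hbot'] at hr'
    have hinj : Function.Injective (algebraMap R S) :=
      IsLocalization.injective _ (Ideal.primeCompl_le_nonZeroDivisors P)
    exact hcon.1 (hinj (by simpa using hr'))
  change min (1 : WithBot ℕ∞) (Module.supportDim S N) ≤ _ at hsk
  rw [min_eq_left hdim] at hsk
  exact_mod_cast hsk


/-- (1) ⇔ (3) ⇔ (4): for a Noetherian domain `R` and a nonzero finite `R`-module `M`, torsion-freeness
of `M` is equivalent to `(0)` being the unique associated prime of `M`, and also to the conjunction:
`(0)` belongs to the support of `M` and `M` satisfies Serre's condition `(S_1)`. (The published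
statement also lists embedding into a finite free module and the absence of embedded associated
primes; this row states the other three conditions.) -/
theorem result (R : Type u) [CommRing R]
    [IsDomain R] [IsNoetherianRing R] (M : Type u) [AddCommGroup M] [Module R M] [Module.Finite R M] [Nontrivial M] :
    (Module.IsTorsionFree R M ↔ associatedPrimes R M = {⊥}) ∧
    (Module.IsTorsionFree R M ↔
      (⟨⊥, Ideal.isPrime_bot⟩ : PrimeSpectrum R) ∈ Module.support R M ∧ LocCoh.HasSk 1 R M) := by
  exact ⟨partA R M, ⟨partB1 R M, fun h => partB2 R M h.1 h.2⟩⟩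

end Groth.Agent.S6868
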