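import Groth.Statements.S6869
import Groth.Agent.H34.TorsionFree

set_option autoImplicit false
universe u
open CAlg

namespace Groth.Agent.S6869

/-- For a domain `R` and a finite `R`-module `M`, the evaluation map `M → M**` into the double dual is
injective exactly when `M` is torsion free. -/
theorem result (R : Type u) [CommRing R] [IsDomain R] (M : Type u)
    [AddCommGroup M] [Module R M] [Module.Finite R M] :
    Function.Injective (Module.Dual.eval R M) ↔ Module.IsTorsionFree R M := by
  constructor
  · intro h
    exact Groth.Agent.H34.isTorsionFree_of_injective (Module.Dual.eval R M) h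
  · intro h
    obtain ⟨n, e, ψ, c, hc, hframe⟩ := Groth.Agent.H34.exists_dual_frame R M
    rw [← LinearMap.ker_eq_bot, LinearMap.ker_eq_bot']
    intro x hx
    have hcx : c • x = 0 := by
      rw [hframe x]
      refine Finset.sum_eq_zero fun j _ => ?_
      have : ψ j x = 0 := by
        have := LinearMap.congr_fun hx (ψ j)
        simpa using this
      rw [this, zero_smul]
    exact (smul_eq_zero_iff_right hc).mp hcx

end Groth.Agent.S6869
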