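import Groth.Statements.S6870
import Groth.Agent.H34.TorsionFree

set_option autoImplicit false
universe u
open CAlg

namespace Groth.Agent.S6870

/-- Let `R` be a domain, `M` a finite `R`-module and `j : M → M**` the evaluation map into the double
dual. Then one nonzero `c ∈ R` kills the kernel of `j` and multiplies `M**` into the image of `j`.
(The published statement says only that the kernel and cokernel of `j` are torsion; this row gives
one such `c` for both.) -/
theorem result (R : Type u) [CommRing R] [IsDomain R] (M : Type u)
    [AddCommGroup M] [Module R M] [Module.Finite R M] :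
    ∃ c : R, c ≠ 0 ∧ (∀ x : M, Module.Dual.eval R M x = 0 → c • x = 0) ∧
      ∀ y : Module.Dual R (Module.Dual R M), c • y ∈ LinearMap.range (Module.Dual.eval R M) := by
  obtain ⟨n, e, ψ, c, hc, hframe⟩ := Groth.Agent.H34.exists_dual_frame R M
  refine ⟨c, hc, ?_, ?_⟩
  · intro x hx
    rw [hframe x]
    refine Finset.sum_eq_zero fun j _ => ?_
    have : ψ j x = 0 := by
      have := LinearMap.congr_fun hx (ψ j)
      simpa using this
    rw [this, zero_smul]
  · intro y
    refine ⟨∑ j, y (ψ j) • e j, ?_⟩
    ext θ
    have hθ : c • θ = ∑ j, θ (e j) • ψ j := by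
      ext m
      have := congrArg θ (hframe m)
      simp only [map_smul, map_sum, smul_eq_mul] at this
      simp only [LinearMap.smul_apply, LinearMap.sum_apply, smul_eq_mul]
      rw [this]
      refine Finset.sum_congr rfl fun j _ => mul_comm _ _
    have h1 : (c • y) θ = y (c • θ) := by
      rw [LinearMap.smul_apply, map_smul]
    rw [h1, hθ]
    simp only [map_sum, map_smul, smul_eq_mul, LinearMap.sum_apply, LinearMap.smul_apply,
      Module.Dual.eval_apply]
    refine Finset.sum_congr rfl fun j _ => mul_comm (y (ψ j)) (θ (e j))

end Groth.Agent.S6870
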