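import Groth.Statements.S6874
import Groth.Agent.H34.Reflexive
import Groth.Agent.S6866
import Mathlib.LinearAlgebra.TensorProduct.RightExactness
import Mathlib.RingTheory.Finiteness.Basic

set_option autoImplicit false
universe u
open TensorProduct
open CAlg

namespace Groth.Agent.S6874

/-- For a flat ring map `R → R'` between Noetherian domains and a finite reflexive `R`-module `M`, the
base change `R' ⊗_R M` is a (finite) reflexive `R'`-module. -/
theorem result (R R' : Type u) [CommRing R] [IsDomain R]
    [IsNoetherianRing R] [CommRing R'] [IsDomain R'] [IsNoetherianRing R'] [Algebra R R'] [Module.Flat R R']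
    (M : Type u) [AddCommGroup M] [Module R M] [Module.Finite R M] [Module.IsReflexive R M] :
    Module.IsReflexive R' (R' ⊗[R] M) := by
  obtain ⟨n, f, hf, htf⟩ :=
    Groth.Agent.H34.exists_injective_torsionFree_coker_of_isReflexive R M
  have hf' : Function.Injective (f.baseChange R') := by
    rw [LinearMap.baseChange_eq_ltensor]
    exact Module.Flat.lTensor_preserves_injective_linearMap _ hf
  have hex : Function.Exact (f.baseChange R') ((LinearMap.range f).mkQ.baseChange R') := by
    have := lTensor_exact R' (LinearMap.exact_map_mkQ_range f) (Submodule.mkQ_surjective _)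
    intro x
    have h := this x
    simpa only [LinearMap.baseChange_eq_ltensor] using h
  have : Module.IsTorsionFree R' (R' ⊗[R] ((Fin n → R) ⧸ LinearMap.range f)) :=
    Groth.Agent.S6866.result R R' ((Fin n → R) ⧸ LinearMap.range f)
  have : Module.Free R' (R' ⊗[R] (Fin n → R)) := inferInstance
  have : Module.Finite R' (R' ⊗[R] (Fin n → R)) := inferInstance
  have : Module.IsReflexive R' (R' ⊗[R] (Fin n → R)) := inferInstance
  exact Groth.Agent.H34.isReflexive_of_exact R' (f.baseChange R')
    ((LinearMap.range f).mkQ.baseChange R') hf' hex

end Groth.Agent.S6874
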