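import Groth.Statements.S6876
import Groth.Agent.H34.Depth

set_option autoImplicit false
universe u
open CAlg

namespace Groth.Agent.S6876

/-- Let `R` be a Noetherian local ring and `M, N` finite `R`-modules. If `N` has depth `≥ 1` then so
does `Hom_R(M, N)`; if `N` has depth `≥ 2` then so does `Hom_R(M, N)`. -/
theorem result (R : Type u) [CommRing R] [IsNoetherianRing R] [IsLocalRing R]
    (M N : Type u) [AddCommGroup M] [Module R M] [Module.Finite R M] [AddCommGroup N] [Module R N] [Module.Finite R N] :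
    (1 ≤ LocCoh.depth R N → 1 ≤ LocCoh.depth R (M →ₗ[R] N)) ∧
    (2 ≤ LocCoh.depth R N → 2 ≤ LocCoh.depth R (M →ₗ[R] N)) := by
  by_cases htop : IsLocalRing.maximalIdeal R • (⊤ : Submodule R N) = ⊤
  · have hbot : (⊤ : Submodule R N) = ⊥ :=
      Submodule.eq_bot_of_le_smul_of_le_jacobson_bot (IsLocalRing.maximalIdeal R) ⊤
        Module.Finite.fg_top (le_of_eq htop.symm) (IsLocalRing.maximalIdeal_le_jacobson ⊥)
    have hsub : Subsingleton N := by
      refine ⟨fun a b => ?_⟩
      have ha : a ∈ (⊥ : Submodule R N) := hbot ▸ Submodule.mem_top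
      have hb : b ∈ (⊥ : Submodule R N) := hbot ▸ Submodule.mem_top
      rw [Submodule.mem_bot] at ha hb
      rw [ha, hb]
    have hsubH : Subsingleton (M →ₗ[R] N) := ⟨fun a b => by ext m; exact Subsingleton.elim _ _⟩
    have hH : LocCoh.depth R (M →ₗ[R] N) = ⊤ :=
      Groth.Agent.H34.idealDepth_of_smul_top_eq_top _ _ (Subsingleton.elim _ _)
    rw [hH]
    exact ⟨fun _ => le_top, fun _ => le_top⟩
  · constructor
    · intro h
      obtain ⟨x, hxm, hx⟩ := Groth.Agent.H34.exists_regular_of_one_le_idealDepth _ N htop h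
      exact Groth.Agent.H34.one_le_idealDepth_of_regular _ _ x hxm
        (Groth.Agent.H34.isSMulRegular_linearMap M N x hx)
    · intro h
      obtain ⟨x, hxm, y, hym, hx, hy⟩ :=
        Groth.Agent.H34.exists_regular_of_two_le_idealDepth _ N htop h
      exact Groth.Agent.H34.two_le_idealDepth_of_regular _ _ x y hxm hym
        (Groth.Agent.H34.isSMulRegular_linearMap M N x hx)
        (Groth.Agent.H34.isSMulRegular_quotSMulTop_linearMap M N x y hx hy)

end Groth.Agent.S6876
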