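import Groth.Statements.S6882
import Mathlib.Algebra.Module.Torsion.Basic
import Mathlib.LinearAlgebra.FreeModule.PID

set_option autoImplicit false
universe u
open CAlg

namespace Groth.Agent.S6882

/-- For a finite module `M` over a discrete valuation ring `R`, the evaluation map from `M` to its
double dual `M**` is surjective. -/
theorem result (R : Type u) [CommRing R] [IsDomain R]
    [IsDiscreteValuationRing R] (M : Type u) [AddCommGroup M] [Module R M] [Module.Finite R M] :
    Function.Surjective (Module.Dual.eval R M) := by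
  let T := Submodule.torsion R M
  let π := T.mkQ
  have : Module.Finite R (M ⧸ T) := inferInstance
  have : Module.Free R (M ⧸ T) := Module.free_of_finite_type_torsion_free'
  have hrefl : Module.IsReflexive R (M ⧸ T) := inferInstance
  intro y
  obtain ⟨z, hz⟩ := (Module.bijective_dual_eval R (M ⧸ T)).2 (π.dualMap.dualMap y)
  obtain ⟨m, rfl⟩ := T.mkQ_surjective z
  refine ⟨m, ?_⟩
  ext θ
  have hθ : T ≤ LinearMap.ker θ := by
    intro t ht
    obtain ⟨a, ha⟩ := (Submodule.mem_torsion_iff t).mp ht
    have h1 : (a : R) • θ t = 0 := by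
      rw [← map_smul]
      have : (a : R) • t = 0 := ha
      rw [this, map_zero]
    rw [LinearMap.mem_ker]
    rw [smul_eq_mul] at h1
    exact (mul_eq_zero.mp h1).resolve_left (nonZeroDivisors.ne_zero a.2)
  have h2 : θ = π.dualMap (T.liftQ θ hθ) := by
    ext x
    simp [π]
  have h3 := LinearMap.congr_fun hz (T.liftQ θ hθ)
  rw [Module.Dual.eval_apply] at h3
  rw [Module.Dual.eval_apply]
  conv_rhs => rw [h2]
  have h4 : (π.dualMap.dualMap y) (T.liftQ θ hθ) = y (π.dualMap (T.liftQ θ hθ)) := rfl
  rw [← h4, ← h3]
  simp

end Groth.Agent.S6882
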