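import Groth.Statements.S6887
import Mathlib

set_option autoImplicit false
universe u
open Polynomial
open CAlg

namespace Groth.Agent.S6887

/-- Let `(A, I)` be a Zariski pair (`I` inside the Jacobson radical) and `A → B` a finite ring map.
Suppose `B/IB ≅ B₁ × B₂` as `A`-algebras with `A → B₁` surjective, and `b ∈ B` maps to `(1, 0)`.
Then there is a monic `f ∈ A[x]` with `f(b) = 0` whose reduction modulo `I` is `(x - 1) x^d` for
some `d ≥ 1`. -/
theorem result (A B : Type u) [CommRing A] [CommRing B]
    [Algebra A B] [Module.Finite A B] (I : Ideal A) (hI : I ≤ Ideal.jacobson (⊥ : Ideal A))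
    (B₁ B₂ : Type u) [CommRing B₁] [CommRing B₂] [Algebra A B₁] [Algebra A B₂]
    (e : (B ⧸ I.map (algebraMap A B)) ≃ₐ[A] B₁ × B₂) (h₁ : Function.Surjective (algebraMap A B₁)) (b : B)
    (hb : e (Ideal.Quotient.mk (I.map (algebraMap A B)) b) = (1, 0)) :
    ∃ (f : A[X]) (d : ℕ), f.Monic ∧ Polynomial.aeval b f = 0 ∧ 1 ≤ d ∧
      f.map (Ideal.Quotient.mk I) = (X - 1) * X ^ d := by
  classical
  obtain ⟨n, s, hs⟩ := Module.Finite.exists_fin (R := A) (M := B)
  -- generators
  let g₁ : Fin (n + 1) → B := Fin.cons 0 s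
  let g : Fin (n + 1) ⊕ Unit → B := Sum.elim g₁ (fun _ => b)
  have hg : Submodule.span A (Set.range g) = ⊤ := by
    rw [eq_top_iff, ← hs]
    apply Submodule.span_mono
    rintro _ ⟨i, rfl⟩
    exact ⟨Sum.inl i.succ, by simp [g, g₁]⟩
  let J := I.map (algebraMap A B)
  have hb' : e (Ideal.Quotient.mk J b) = (1, 0) := hb
  -- the coefficients u
  have hu : ∀ i : Fin (n + 1), ∃ u : A, algebraMap A B₁ u = (e (Ideal.Quotient.mk J (g₁ i))).1 :=
    fun i => h₁ _
  choose u hu using hu
  let coef : Fin (n + 1) ⊕ Unit → A := Sum.elim u (fun _ => 1)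
  have hmain : ∀ j, b * g j - coef j • b ∈ J := by
    intro j
    rw [← Ideal.Quotient.eq_zero_iff_mem]
    apply e.injective
    rw [map_zero, map_sub, map_mul, map_sub, map_mul, hb']
    have hsm : Ideal.Quotient.mk J (coef j • b) = coef j • Ideal.Quotient.mk J b := rfl
    rw [hsm, map_smul, hb']
    rcases j with i | _
    · ext
      · simp [coef, g, hu, Algebra.smul_def]
      · simp
    · ext <;> simp [coef, g, hb']
  -- write the remainders as I-combinations of generators
  have hmem : ∀ j, ∃ c : (Fin (n + 1) ⊕ Unit) → A, (∀ i, c i ∈ I) ∧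
      b * g j - coef j • b = ∑ i, c i • g i := by
    intro j
    have h1 : b * g j - coef j • b ∈ I • (⊤ : Submodule A B) := by
      rw [Ideal.smul_top_eq_map]
      exact hmain j
    rw [← hg, Submodule.mem_ideal_smul_span_iff_exists_sum] at h1
    obtain ⟨a, ha, hsum⟩ := h1
    refine ⟨fun i => a i, fun i => ha i, ?_⟩
    rw [← hsum, Finsupp.sum_fintype]
    intro i
    simp
  choose c hcI hc using hmem
  -- the matrix
  let C : Matrix (Fin (n + 1) ⊕ Unit) (Fin (n + 1) ⊕ Unit) A := Matrix.of fun i j => c j i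
  let D : Matrix (Fin (n + 1) ⊕ Unit) (Fin (n + 1) ⊕ Unit) A :=
    Matrix.fromBlocks 0 0 (Matrix.of fun _ k => u k) 1
  let T := C + D
  have hrep : T.Represents g (LinearMap.mulLeft A b) := by
    rw [Matrix.represents_iff']
    intro j
    simp only [T, Matrix.add_apply, add_smul, Finset.sum_add_distrib, LinearMap.mulLeft_apply]
    have h1 : ∑ i, C i j • g i = b * g j - coef j • b := by
      rw [hc j]
      rfl
    have h2 : ∑ i, D i j • g i = coef j • b := by
      rw [Fintype.sum_sum_type]
      rcases j with k | _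
      · simp [D, g, coef]
      · simp [D, g, coef]
    rw [h1, h2]
    abel
  refine ⟨T.charpoly, n + 1, T.charpoly_monic, ?_, by omega, ?_⟩
  · -- Cayley-Hamilton
    let T' : Matrix.isRepresentation A g := ⟨T, _, hrep⟩
    have h1 : Matrix.isRepresentation.toEnd A g hg T' = LinearMap.mulLeft A b :=
      Matrix.isRepresentation.eq_toEnd_of_represents A g hg T' hrep
    have h2 : Polynomial.aeval (LinearMap.mulLeft A b) T.charpoly = 0 := by
      rw [← h1, Polynomial.aeval_algHom_apply,
        ← map_zero (Matrix.isRepresentation.toEnd A g hg)]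
      congr 1
      ext1
      rw [Polynomial.aeval_subalgebra_coe, Matrix.aeval_self_charpoly, Subalgebra.coe_zero]
    have h3 : LinearMap.mulLeft A b = Algebra.lmul A B b := rfl
    rw [h3, Polynomial.aeval_algHom_apply] at h2
    have h4 := LinearMap.congr_fun h2 1
    simpa using h4
  · rw [← Matrix.charpoly_map]
    have hT : T.map (Ideal.Quotient.mk I) =
        Matrix.fromBlocks 0 0 (Matrix.of fun _ k => Ideal.Quotient.mk I (u k)) 1 := by
      ext i j
      have hc0 : Ideal.Quotient.mk I (c j i) = 0 := Ideal.Quotient.eq_zero_iff_mem.mpr (hcI j i)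
      rcases i with i | i <;> rcases j with j | j <;>
        simp [T, C, D, hc0]
    rw [hT, Matrix.charpoly_fromBlocks_zero₁₂, Matrix.charpoly_zero, Matrix.charpoly_one]
    simp [mul_comm]

end Groth.Agent.S6887
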