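import Groth.Statements.S6888
import Mathlib.Algebra.Polynomial.Derivative
import Mathlib.Algebra.BigOperators.Fin
import Mathlib.Data.List.OfFn
import Mathlib.Tactic

set_option autoImplicit false
universe u
open Polynomial
open CAlg

namespace Groth.Agent.S6888

/-- Let `A` be absolutely integrally closed (every monic polynomial over `A` is a product of linear
factors) and `I ⊆ A` an ideal contained in the Jacobson radical such that `A → A/I` is surjective
(hence bijective) on idempotents. Then `(A, I)` is a henselian pair. (The published statement also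
records the converse, which holds for every henselian pair; this row states the sufficiency only.) -/
theorem result (A : Type u) [CommRing A]
    (hA : ∀ f : A[X], f.Monic → ∃ s : Multiset A, f = (s.map fun a => X - C a).prod) (I : Ideal A)
    (hI : I ≤ Ideal.jacobson (⊥ : Ideal A))
    (hidem : ∀ e : A ⧸ I, IsIdempotentElem e → ∃ e' : A, IsIdempotentElem e' ∧ Ideal.Quotient.mk I e' = e) :
    HenselianRing A I := by
  classical
  -- uniqueness of idempotent lifts modulo the Jacobson radical
  have huniq : ∀ E E' : A, IsIdempotentElem E → IsIdempotentElem E' → E - E' ∈ I → E = E' := by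
    intro E E' hE hE' hd
    have hE2 : E * E = E := hE
    have hE'2 : E' * E' = E' := hE'
    have h3 : (E - E') * (1 - (E - E') ^ 2) = 0 := by
      have : (E - E') ^ 3 = E - E' := by
        have e1 : E ^ 3 = E := by rw [pow_succ, pow_two, hE2, hE2]
        have e2 : E' ^ 3 = E' := by rw [pow_succ, pow_two, hE'2, hE'2]
        have e3 : E ^ 2 = E := by rw [pow_two, hE2]
        have e4 : E' ^ 2 = E' := by rw [pow_two, hE'2]
        calc (E - E') ^ 3 = E ^ 3 - 3 * E ^ 2 * E' + 3 * E * E' ^ 2 - E' ^ 3 := by ring
          _ = E - E' := by rw [e1, e2, e3, e4]; ring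
      calc (E - E') * (1 - (E - E') ^ 2) = (E - E') - (E - E') ^ 3 := by ring
        _ = 0 := by rw [this]; ring
    have hunit : IsUnit (1 - (E - E') ^ 2) := by
      have hmem : (E - E') ∈ Ideal.jacobson (⊥ : Ideal A) := hI hd
      have := (Ideal.mem_jacobson_bot.mp hmem) (-(E - E'))
      convert this using 1
      ring
    have := hunit.mul_left_eq_zero.mp h3
    exact sub_eq_zero.mp this
  refine ⟨hI, ?_⟩
  intro f hf a₀ hfa hunit
  obtain ⟨s, hs⟩ := hA f hf
  -- index the roots by `Fin n`
  obtain ⟨l, rfl⟩ : ∃ l : List A, s = (l : Multiset A) := ⟨s.toList, (Multiset.coe_toList s).symm⟩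
  set n := l.length with hn
  set r : Fin n → A := fun i => l.get i with hr
  have hfprod : f = ∏ i : Fin n, (X - C (r i)) := by
    rw [hs, Multiset.map_coe, Multiset.prod_coe]
    conv_lhs => rw [← List.ofFn_get l]
    rw [List.map_ofFn, List.prod_ofFn]
    rfl
  set u : Fin n → A := fun i => a₀ - r i with hu
  have heval : f.eval a₀ = ∏ i, u i := by
    rw [hfprod, eval_prod]
    simp [hu]
  have hderiv : f.derivative.eval a₀ = ∑ i, ∏ j ∈ Finset.univ.erase i, u j := by
    rw [hfprod, derivative_prod_finset, eval_finsetSum]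
    refine Finset.sum_congr rfl fun i _ => ?_
    rw [eval_mul, eval_prod]
    simp [hu]
  set ub : Fin n → A ⧸ I := fun i => (Ideal.Quotient.mk I) (u i) with hub
  have hP : ∏ i, ub i = 0 := by
    rw [hub, ← map_prod, ← heval]
    exact Ideal.Quotient.eq_zero_iff_mem.mpr hfa
  set v : A ⧸ I := ∑ i, ∏ j ∈ Finset.univ.erase i, ub j with hv
  have hvunit : IsUnit v := by
    have : v = (Ideal.Quotient.mk I) (f.derivative.eval a₀) := by
      rw [hderiv, map_sum]
      refine Finset.sum_congr rfl fun i _ => ?_
      rw [map_prod]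
    rw [this]; exact hunit
  obtain ⟨w, hw⟩ := hvunit.exists_left_inv
  set eb : Fin n → A ⧸ I := fun i => w * ∏ j ∈ Finset.univ.erase i, ub j with heb
  have hsum : ∑ i, eb i = 1 := by
    rw [heb, ← Finset.mul_sum]
    exact hw
  have horth : ∀ i l', i ≠ l' → eb i * eb l' = 0 := by
    intro i l' hil
    have h1 : (∏ j ∈ Finset.univ.erase i, ub j) * (∏ j ∈ Finset.univ.erase l', ub j) = 0 := by
      have hl'mem : l' ∈ Finset.univ.erase i := Finset.mem_erase.mpr ⟨Ne.symm hil, Finset.mem_univ _⟩
      rw [← Finset.mul_prod_erase _ _ hl'mem]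
      have : ub l' * (∏ j ∈ (Finset.univ.erase i).erase l', ub j) * ∏ j ∈ Finset.univ.erase l', ub j =
          (∏ j ∈ (Finset.univ.erase i).erase l', ub j) * (ub l' * ∏ j ∈ Finset.univ.erase l', ub j) := by
        ring
      rw [this, Finset.mul_prod_erase _ _ (Finset.mem_univ l'), hP, mul_zero]
    calc eb i * eb l' = w * w * ((∏ j ∈ Finset.univ.erase i, ub j) * (∏ j ∈ Finset.univ.erase l', ub j)) := by
          simp only [heb]; ring
      _ = 0 := by rw [h1, mul_zero]
  have hidemb : ∀ i, IsIdempotentElem (eb i) := by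
    intro i
    have : eb i = eb i * ∑ l', eb l' := by rw [hsum, mul_one]
    rw [Finset.mul_sum, Finset.sum_eq_single i] at this
    · exact this.symm
    · intro l' _ hl'
      exact horth i l' (Ne.symm hl')
    · intro h; exact absurd (Finset.mem_univ i) h
  have heu : ∀ i, eb i * ub i = 0 := by
    intro i
    simp only [heb]
    rw [mul_assoc, mul_comm (∏ j ∈ Finset.univ.erase i, ub j), Finset.mul_prod_erase _ _ (Finset.mem_univ i), hP, mul_zero]
  -- lift the idempotents
  choose E hE hEq using fun i => hidem (eb i) (hidemb i)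
  have hEorth : ∀ i l', i ≠ l' → E i * E l' = 0 := by
    intro i l' hil
    apply huniq _ _ ((hE i).mul (hE l')) IsIdempotentElem.zero
    rw [sub_zero, ← Ideal.Quotient.eq_zero_iff_mem, map_mul, hEq, hEq]
    exact horth i l' hil
  have hEsum_idem : IsIdempotentElem (∑ i, E i) := by
    unfold IsIdempotentElem
    rw [Finset.sum_mul]
    refine Finset.sum_congr rfl fun i _ => ?_
    rw [Finset.mul_sum, Finset.sum_eq_single i]
    · exact hE i
    · intro l' _ hl'
      exact hEorth i l' (Ne.symm hl')
    · intro h; exact absurd (Finset.mem_univ i) h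
  have hEsum : ∑ i, E i = 1 := by
    apply huniq _ _ hEsum_idem IsIdempotentElem.one
    rw [← Ideal.Quotient.eq_zero_iff_mem, map_sub, map_sum, map_one]
    simp only [hEq, hsum, sub_self]
  set a : A := ∑ i, E i * r i with ha
  have hEa : ∀ i, E i * (a - r i) = 0 := by
    intro i
    rw [mul_sub, ha, Finset.mul_sum, Finset.sum_eq_single i]
    · rw [← mul_assoc, (hE i).eq, sub_self]
    · intro l' _ hl'
      rw [← mul_assoc, hEorth i l' (Ne.symm hl'), zero_mul]
    · intro h; exact absurd (Finset.mem_univ i) h
  refine ⟨a, ?_, ?_⟩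
  · show f.eval a = 0
    have hfa' : f.eval a = ∏ j, (a - r j) := by
      rw [hfprod, eval_prod]
      simp
    have : f.eval a = (∑ i, E i) * f.eval a := by rw [hEsum, one_mul]
    rw [this, Finset.sum_mul]
    refine Finset.sum_eq_zero fun i _ => ?_
    rw [hfa', ← Finset.mul_prod_erase _ _ (Finset.mem_univ i), ← mul_assoc, hEa i, zero_mul]
  · rw [← Ideal.Quotient.eq_zero_iff_mem]
    have : a - a₀ = - ∑ i, E i * u i := by
      have h1 : a₀ = (∑ i, E i) * a₀ := by rw [hEsum, one_mul]
      rw [ha]
      conv_lhs => rw [h1]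
      rw [Finset.sum_mul, ← Finset.sum_sub_distrib, ← Finset.sum_neg_distrib]
      refine Finset.sum_congr rfl fun i _ => ?_
      simp only [hu]; ring
    rw [this, map_neg, map_sum]
    simp only [map_mul, hEq]
    rw [neg_eq_zero]
    exact Finset.sum_eq_zero fun i _ => heu i

end Groth.Agent.S6888
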