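import Groth.Statements.S6898
import Mathlib

set_option autoImplicit false
universe u
open TensorProduct
open CAlg

namespace Groth.Agent.S6898

theorem lTensor_injective_of_residue {A : Type u} [CommRing A] [IsLocalRing A] {M N : Type u}
    [AddCommGroup M] [Module A M]
    [AddCommGroup N] [Module A N] (u : M →ₗ[A] N)
    (hu : Function.Injective (u.baseChange (IsLocalRing.ResidueField A)))
    (V : Type u) [AddCommGroup V] [Module A V] [Module (IsLocalRing.ResidueField A) V]
    [IsScalarTower A (IsLocalRing.ResidueField A) V] :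
    Function.Injective (u.lTensor V) := by
  let κ := IsLocalRing.ResidueField A
  have h1 := TensorProduct.AlgebraTensorModule.lTensor_comp_cancelBaseChange (R := A) (A := κ) (B := κ)
    (M := V) u
  have h2 : Function.Injective (LinearMap.lTensor V (u.baseChange κ)) :=
    Module.Flat.lTensor_preserves_injective_linearMap (M := V) _ hu
  intro a b hab
  let eM := TensorProduct.AlgebraTensorModule.cancelBaseChange A κ κ V M
  let eN := TensorProduct.AlgebraTensorModule.cancelBaseChange A κ κ V N
  have key : ∀ z : V ⊗[κ] (κ ⊗[A] M), u.lTensor V (eM z) = eN (LinearMap.lTensor V (u.baseChange κ) z) :=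
    fun z => LinearMap.congr_fun h1 z
  obtain ⟨a', rfl⟩ := eM.surjective a
  obtain ⟨b', rfl⟩ := eM.surjective b
  rw [key, key] at hab
  have := h2 (eN.injective hab)
  rw [this]

/-- elements of `I • ⊤` come from `I ⊗ M` -/
theorem exists_tensor_of_mem_smul_top {A : Type u} [CommRing A] (I : Ideal A) {M : Type u}
    [AddCommGroup M] [Module A M] (x : M) (hx : x ∈ I • (⊤ : Submodule A M)) :
    ∃ ξ : I ⊗[A] M, (Submodule.subtype I).rTensor M ξ = (1 : A) ⊗ₜ[A] x := by
  refine Submodule.smul_induction_on hx (fun a ha m _ => ?_) (fun y z hy hz => ?_)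
  · refine ⟨(⟨a, ha⟩ : I) ⊗ₜ[A] m, ?_⟩
    rw [LinearMap.rTensor_tmul, Submodule.subtype_apply, TensorProduct.tmul_smul]
    change a ⊗ₜ[A] m = (a • (1 : A)) ⊗ₜ[A] m
    rw [smul_eq_mul, mul_one]
  · obtain ⟨ξ, hξ⟩ := hy
    obtain ⟨ζ, hζ⟩ := hz
    exact ⟨ξ + ζ, by rw [map_add, hξ, hζ, TensorProduct.tmul_add]⟩

/-- the content ideal of an element is finitely generated -/
theorem fg_of_isLeast {A : Type u} [CommRing A] {M : Type u} [AddCommGroup M] [Module A M] (x : M)
    (I : Ideal A) (hx : IsLeast {J : Ideal A | x ∈ J • (⊤ : Submodule A M)} I) : I.FG := by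
  have key : ∀ y ∈ I • (⊤ : Submodule A M), ∃ J : Ideal A, J ≤ I ∧ J.FG ∧ y ∈ J • (⊤ : Submodule A M) := by
    intro y hy
    refine Submodule.smul_induction_on hy (fun a ha m _ => ?_) (fun y z hy hz => ?_)
    · refine ⟨Ideal.span {a}, (Ideal.span_singleton_le_iff_mem _).mpr ha, ⟨{a}, by simp⟩, ?_⟩
      exact Submodule.smul_mem_smul (Ideal.mem_span_singleton_self a) trivial
    · obtain ⟨J₁, h1, h2, h3⟩ := hy
      obtain ⟨J₂, h1', h2', h3'⟩ := hz
      refine ⟨J₁ ⊔ J₂, sup_le h1 h1', Submodule.FG.sup h2 h2', ?_⟩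
      exact Submodule.add_mem _ (Submodule.smul_mono_left le_sup_left h3)
        (Submodule.smul_mono_left le_sup_right h3')
  obtain ⟨J, hJI, hJfg, hxJ⟩ := key x hx.1
  have : I ≤ J := hx.2 hxJ
  rw [le_antisymm this hJI]
  exact hJfg

/-- Let `(A, 𝔪)` be a local ring and `u : M → N` a linear map between flat `A`-modules whose reduction
`M/𝔪M → N/𝔪N` is injective. If `I` is the content ideal of some `x ∈ M` (the least ideal `I` with `x
∈ IM`), then `I` is also the least ideal `J` with `u(x) ∈ J·N`. -/
theorem result {A : Type u} [CommRing A] [IsLocalRing A] {M N : Type u}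
    [AddCommGroup M] [Module A M] [Module.Flat A M] [AddCommGroup N] [Module A N] [Module.Flat A N] (u : M →ₗ[A] N)
    (hu : Function.Injective (u.baseChange (IsLocalRing.ResidueField A))) (x : M) (I : Ideal A)
    (hx : IsLeast {J : Ideal A | x ∈ J • (⊤ : Submodule A M)} I) :
    IsLeast {J : Ideal A | u x ∈ J • (⊤ : Submodule A N)} I := by
  have hIfg : I.FG := fg_of_isLeast x I hx
  constructor
  · -- u x ∈ I • ⊤
    have h1 : u x ∈ Submodule.map u (I • (⊤ : Submodule A M)) := Submodule.mem_map_of_mem hx.1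
    rw [Submodule.map_smul''] at h1
    exact Submodule.smul_mono le_rfl le_top h1
  · intro J hJ
    change u x ∈ J • (⊤ : Submodule A N) at hJ
    let 𝔪 := IsLocalRing.maximalIdeal A
    let K : Ideal A := J ⊔ 𝔪 * I
    -- reduce to `I ≤ K` by Nakayama
    suffices hIK : I ≤ K by
      have hjac : 𝔪 ≤ Ideal.jacobson (⊥ : Ideal A) := by
        rw [IsLocalRing.jacobson_eq_maximalIdeal ⊥ bot_ne_top]
      exact Submodule.le_of_le_smul_of_le_jacobson_bot hIfg hjac hIK
    -- it suffices to show `x ∈ K • ⊤`
    apply hx.2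
    change x ∈ K • (⊤ : Submodule A M)
    obtain ⟨ξ, hξ⟩ := exists_tensor_of_mem_smul_top I x hx.1
    -- the module `V`
    let q : A →ₗ[A] (A ⧸ K) := Submodule.mkQ K
    let ρ : I →ₗ[A] (A ⧸ K) := q ∘ₗ (Submodule.subtype I)
    let V : Submodule A (A ⧸ K) := LinearMap.range ρ
    let π : I →ₗ[A] V := ρ.rangeRestrict
    have hπ : V.subtype ∘ₗ π = ρ := LinearMap.subtype_comp_codRestrict _ _ _
    -- V is killed by 𝔪
    have htors : Module.IsTorsionBySet A V (𝔪 : Set A) := by
      rintro ⟨v, i, rfl⟩ ⟨a, ha⟩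
      apply Subtype.ext
      change a • ρ i = 0
      rw [← map_smul]
      change q ((a • i : I) : A) = 0
      rw [Submodule.mkQ_apply, Submodule.Quotient.mk_eq_zero]
      exact Ideal.mem_sup_right (Ideal.mul_mem_mul ha i.2)
    let _ : Module (IsLocalRing.ResidueField A) V := Module.IsTorsionBySet.module htors
    have : IsScalarTower A (IsLocalRing.ResidueField A) V := Module.IsTorsionBySet.isScalarTower htors
    have hinjV : Function.Injective (u.lTensor V) := lTensor_injective_of_residue u hu V
    -- the element of `I ⊗ N`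
    have hN1 : (Submodule.subtype I).rTensor N (u.lTensor I ξ) = (1 : A) ⊗ₜ[A] u x := by
      have : (Submodule.subtype I).rTensor N (u.lTensor I ξ) = u.lTensor A ((Submodule.subtype I).rTensor M ξ) := by
        rw [← LinearMap.comp_apply, ← LinearMap.comp_apply, LinearMap.rTensor_comp_lTensor,
          LinearMap.lTensor_comp_rTensor]
      rw [this, hξ, LinearMap.lTensor_tmul]
    -- its image in `(A ⧸ K) ⊗ N` vanishes
    have hN2 : ρ.rTensor N (u.lTensor I ξ) = 0 := by
      have : ρ.rTensor N (u.lTensor I ξ) = q.rTensor N ((Submodule.subtype I).rTensor N (u.lTensor I ξ)) := by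
        rw [← LinearMap.comp_apply (q.rTensor N), ← LinearMap.rTensor_comp]
      rw [this, hN1, LinearMap.rTensor_tmul]
      have hmem : u x ∈ LinearMap.ker (TensorProduct.mk A (A ⧸ K) N 1) := by
        rw [LinearMap.ker_tensorProductMk]
        exact Submodule.smul_mono_left le_sup_left hJ
      exact hmem
    -- hence its image in `V ⊗ N` vanishes (flatness of N)
    have hN3 : π.rTensor N (u.lTensor I ξ) = 0 := by
      have hinj : Function.Injective (V.subtype.rTensor N) :=
        Module.Flat.rTensor_preserves_injective_linearMap _ (Submodule.subtype_injective V)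
      apply hinj
      rw [map_zero, ← LinearMap.comp_apply, ← LinearMap.rTensor_comp, hπ]
      exact hN2
    -- transport to `V ⊗ M`
    have hM3 : π.rTensor M ξ = 0 := by
      apply hinjV
      rw [map_zero, ← LinearMap.comp_apply, LinearMap.lTensor_comp_rTensor, ← LinearMap.rTensor_comp_lTensor,
        LinearMap.comp_apply]
      exact hN3
    have hM2 : ρ.rTensor M ξ = 0 := by
      rw [← hπ, LinearMap.rTensor_comp, LinearMap.comp_apply, hM3, map_zero]
    have hM1 : q.rTensor M ((1 : A) ⊗ₜ[A] x) = 0 := by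
      rw [← hξ, ← LinearMap.comp_apply, ← LinearMap.rTensor_comp]
      exact hM2
    rw [LinearMap.rTensor_tmul] at hM1
    have hmem : x ∈ LinearMap.ker (TensorProduct.mk A (A ⧸ K) M 1) := hM1
    rw [LinearMap.ker_tensorProductMk] at hmem
    exact hmem

end Groth.Agent.S6898
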