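import Groth.Statements.S6899
import Mathlib

set_option autoImplicit false
universe u
open TensorProduct
open EtAlg

namespace Groth.Agent.S6899

/-- Let `B' = B ×_A A'` be a fibre square of rings with `A' → A` surjective, and let `(N₁, M₁', φ₁) →
(N₂, M₂', φ₂)` be a morphism of glueing data (a `B`-linear `u : N₁ → N₂` and an `A'`-linear `v : M₁'
→ M₂'` compatible with the `φ_i`) with `u` and `v` surjective. Then the induced map of glued modules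
`N₁ ×_{φ₁} M₁' → N₂ ×_{φ₂} M₂'` is surjective. -/
theorem result (B' B A' A : Type u) [CommRing B'] [CommRing B] [CommRing A'] [CommRing A]
    [Algebra B' B] [Algebra B' A'] [Algebra B A] [Algebra A' A] [Algebra B' A] [IsScalarTower B' B A] [IsScalarTower B' A' A]
    (hsq : EtMil.IsFibreSquare B' B A' A)
    {N₁ N₂ M₁' M₂' : Type u} [AddCommGroup N₁] [Module B N₁] [Module B' N₁] [IsScalarTower B' B N₁]
    [AddCommGroup N₂] [Module B N₂] [Module B' N₂] [IsScalarTower B' B N₂]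
    [AddCommGroup M₁'] [Module A' M₁'] [Module B' M₁'] [IsScalarTower B' A' M₁']
    [AddCommGroup M₂'] [Module A' M₂'] [Module B' M₂'] [IsScalarTower B' A' M₂']
    (φ₁ : A ⊗[B] N₁ ≃ₗ[A] A ⊗[A'] M₁') (φ₂ : A ⊗[B] N₂ ≃ₗ[A] A ⊗[A'] M₂') (u : N₁ →ₗ[B] N₂) (v : M₁' →ₗ[A'] M₂')
    (hc : (v.baseChange A).comp φ₁.toLinearMap = φ₂.toLinearMap.comp (u.baseChange A))
    (hu : Function.Surjective u) (hv : Function.Surjective v) :
    ∀ y : N₂ × M₂', y ∈ EtMil.glue B' φ₂ → ∃ x : N₁ × M₁', x ∈ EtMil.glue B' φ₁ ∧ u x.1 = y.1 ∧ v x.2 = y.2 := by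
  obtain ⟨hsurjA, _⟩ := hsq
  rintro ⟨n₂, m₂'⟩ hy
  have hy' : φ₂ ((1 : A) ⊗ₜ[B] n₂) = (1 : A) ⊗ₜ[A'] m₂' := hy
  obtain ⟨n₁, hn₁⟩ := hu n₂
  obtain ⟨m₁'', hm₁''⟩ := hv m₂'
  have hc' : ∀ t : A ⊗[B] N₁, v.baseChange A (φ₁ t) = φ₂ (u.baseChange A t) :=
    fun t => LinearMap.congr_fun hc t
  -- difference lies in the kernel of v.lTensor A
  have hker : v.lTensor A (φ₁ ((1 : A) ⊗ₜ[B] n₁) - (1 : A) ⊗ₜ[A'] m₁'') = 0 := by
    have h1 : v.lTensor A (φ₁ ((1 : A) ⊗ₜ[B] n₁)) = v.baseChange A (φ₁ ((1 : A) ⊗ₜ[B] n₁)) := rfl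
    rw [map_sub, h1, hc', LinearMap.baseChange_tmul, hn₁, hy', LinearMap.lTensor_tmul, hm₁'', sub_self]
  have hex : Function.Exact ((LinearMap.ker v).subtype.lTensor A) (v.lTensor A) :=
    lTensor_exact A (LinearMap.exact_subtype_ker_map v) hv
  obtain ⟨z, hz⟩ := (hex _).mp hker
  have hz' : ∀ z : A ⊗[A'] (LinearMap.ker v), ∃ κ : M₁', v κ = 0 ∧
      (LinearMap.ker v).subtype.lTensor A z = (1 : A) ⊗ₜ[A'] κ := by
    intro z
    induction z using TensorProduct.induction_on with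
    | zero => exact ⟨0, by simp, by simp⟩
    | tmul a k =>
      obtain ⟨a', rfl⟩ := hsurjA a
      refine ⟨a' • (k : M₁'), ?_, ?_⟩
      · rw [map_smul, LinearMap.mem_ker.mp k.2, smul_zero]
      · rw [LinearMap.lTensor_tmul, Submodule.subtype_apply, ← TensorProduct.smul_tmul, Algebra.smul_def,
          mul_one]
    | add z w hz hw =>
      obtain ⟨κ, h1, h2⟩ := hz
      obtain ⟨κ', h1', h2'⟩ := hw
      exact ⟨κ + κ', by rw [map_add, h1, h1', add_zero], by rw [map_add, h2, h2', TensorProduct.tmul_add]⟩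
  obtain ⟨κ, hκ, hκ'⟩ := hz' z
  refine ⟨(n₁, m₁'' + κ), ?_, hn₁, ?_⟩
  · change φ₁ ((1 : A) ⊗ₜ[B] n₁) = (1 : A) ⊗ₜ[A'] (m₁'' + κ)
    rw [TensorProduct.tmul_add, ← hκ', hz]
    abel
  · change v (m₁'' + κ) = m₂'
    rw [map_add, hκ, add_zero, hm₁'']

end Groth.Agent.S6899
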