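import Groth.Statements.S6904
import Mathlib
import Groth.Agent.H89.PureAcyclic

set_option autoImplicit false
universe u
open CategoryTheory CategoryTheory.Limits MonoidalCategory
open DRing

namespace Groth.Agent.S6904

/-- Let `K•` be a complex of `R`-modules such that `K• ⊗_R M` is acyclic for every finitely presented
`R`-module `M`. Then `K•` is K-flat. -/
theorem result (R : Type u) [CommRing R] (K : DRing.Cx R)
    (hK : ∀ (M : Type u) [AddCommGroup M] [Module R M], Module.FinitePresentation R M →
      (∀ i : ℤ, IsZero ((DRing.tensorCx K (ModuleCat.of R M)).homology i))) :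
    (∀ L : DRing.Cx R, (∀ i : ℤ, IsZero (L.homology i)) → ∀ i : ℤ, IsZero ((L ⊗ K).homology i)) := by
  have hpure : Groth.Agent.H89.PureAcyclic.IsPureAcyclic K := by
    intro M p
    rw [ShortComplex.ShortExact.moduleCat_exact_iff_function_exact]
    have hab : (K.d p (p + 1)).hom ∘ₗ (K.d (p - 1) p).hom = 0 := by
      have := K.d_comp_d (p - 1) p (p + 1)
      exact congrArg ModuleCat.Hom.hom this
    have key := Groth.Agent.H89.PureExact.exact_rTensor_of_finitePresentation
      (K.d (p - 1) p).hom (K.d p (p + 1)).hom hab (fun M' _ _ hfp => by
        have h1 := hK M' hfp p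
        rw [← HomologicalComplex.exactAt_iff_isZero_homology,
          HomologicalComplex.exactAt_iff' _ (p - 1) p (p + 1) (by simp) (by simp),
          ShortComplex.ShortExact.moduleCat_exact_iff_function_exact] at h1
        exact h1) M
    exact key
  intro L _ i
  exact Groth.Agent.H89.PureAcyclic.isZero_homology_tensor hpure L i

end Groth.Agent.S6904
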