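import Groth.Statements.S6909
import Mathlib

set_option autoImplicit false
universe u
open CAlg

namespace Groth.Agent.S6909

section
variable {A : Type u} [CommRing A] (I : Ideal A) {M N : Type u} [AddCommGroup M] [Module A M]
  [AddCommGroup N] [Module A N]

theorem diff_mem (d : M →ₗ[A] N) (k : ℕ) (hd : ∀ y : M, d y ∈ I ^ k • (⊤ : Submodule A N)) (r : ℕ)
    (a : M) (ha : a ∈ I ^ r • (⊤ : Submodule A M)) : d a ∈ I ^ (r + k) • (⊤ : Submodule A N) := by
  have h1 : d a ∈ Submodule.map d (I ^ r • (⊤ : Submodule A M)) := Submodule.mem_map_of_mem ha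
  rw [Submodule.map_smul''] at h1
  have h2 : Submodule.map d ⊤ ≤ I ^ k • (⊤ : Submodule A N) := by
    rintro _ ⟨y, _, rfl⟩
    exact hd y
  have h3 := Submodule.smul_mono (le_refl (I ^ r)) h2 h1
  rw [← Submodule.smul_assoc, smul_eq_mul, ← pow_add] at h3
  exact h3

theorem pow_smul_top_anti {m n : ℕ} (h : m ≤ n) :
    I ^ n • (⊤ : Submodule A M) ≤ I ^ m • (⊤ : Submodule A M) :=
  Submodule.smul_mono_left (Ideal.pow_le_pow_right h)

end

/-- the key claim: preimages of `I^n N` under `g'` lie in `f'(L) + I^r M` for `r ≤ n - c` -/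
theorem key {A : Type u} [CommRing A] (I : Ideal A)
    {L M N : Type u} [AddCommGroup L] [Module A L]
    [AddCommGroup M] [Module A M] [AddCommGroup N] [Module A N]
    (f f' : L →ₗ[A] M) (g g' : M →ₗ[A] N) (c : ℕ) (hgf' : g'.comp f' = 0)
    (hf : (∀ n : ℕ, c ≤ n → LinearMap.range f ⊓ (I ^ n • (⊤ : Submodule A M)) ≤ Submodule.map f (I ^ (n - c) • (⊤ : Submodule A L))))
    (hg : (∀ n : ℕ, c ≤ n → LinearMap.range g ⊓ (I ^ n • (⊤ : Submodule A N)) ≤ Submodule.map g (I ^ (n - c) • (⊤ : Submodule A M))))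
    (hex : Function.Exact f g)
    (hff' : ∀ x : L, f x - f' x ∈ I ^ (c + 1) • (⊤ : Submodule A M))
    (hgg' : ∀ y : M, g y - g' y ∈ I ^ (c + 1) • (⊤ : Submodule A N))
    (n : ℕ) (r : ℕ) (hr : r + c ≤ n) (a : M) (ha : g' a ∈ I ^ n • (⊤ : Submodule A N)) :
    ∃ b : L, a - f' b ∈ I ^ r • (⊤ : Submodule A M) := by
  induction r with
  | zero => exact ⟨0, by simp⟩
  | succ r ih =>
    obtain ⟨b₀, hb₀⟩ := ih (by omega)
    set a₀ := a - f' b₀ with ha₀
    have hg'f' : ∀ b : L, g' (f' b) = 0 := fun b => LinearMap.congr_fun hgf' b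
    have hga₀ : g' a₀ ∈ I ^ n • (⊤ : Submodule A N) := by
      rw [ha₀, map_sub, hg'f', sub_zero]; exact ha
    -- g a₀ ∈ I^(r+c+1) N
    have h1 : (g - g') a₀ ∈ I ^ (r + (c + 1)) • (⊤ : Submodule A N) :=
      diff_mem I (g - g') (c + 1) (fun y => by simpa using hgg' y) r a₀ hb₀
    have h2 : g a₀ ∈ I ^ (r + c + 1) • (⊤ : Submodule A N) := by
      have : g a₀ = g' a₀ + (g - g') a₀ := by simp
      rw [this]
      refine Submodule.add_mem _ (pow_smul_top_anti I (by omega) hga₀) ?_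
      rw [show r + c + 1 = r + (c + 1) by ring]
      exact h1
    have h3 : g a₀ ∈ Submodule.map g (I ^ (r + c + 1 - c) • (⊤ : Submodule A M)) :=
      hg (r + c + 1) (by omega) ⟨⟨a₀, rfl⟩, h2⟩
    rw [show r + c + 1 - c = r + 1 by omega] at h3
    obtain ⟨a₁, ha₁, ha₁'⟩ := h3
    -- a₀ - a₁ ∈ range f
    have h4 : g (a₀ - a₁) = 0 := by rw [map_sub, ha₁', sub_self]
    obtain ⟨b', hb'⟩ := (hex _).mp h4
    have h5 : f b' ∈ I ^ r • (⊤ : Submodule A M) := by
      rw [hb']
      exact Submodule.sub_mem _ hb₀ (pow_smul_top_anti I (Nat.le_succ r) ha₁)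
    -- choose b with f b = f b' and (f - f') b ∈ I^(r+1) M
    obtain ⟨b, hb, hb2⟩ : ∃ b : L, f b = f b' ∧ (f - f') b ∈ I ^ (r + 1) • (⊤ : Submodule A M) := by
      by_cases hrc : c ≤ r
      · obtain ⟨b, hbmem, hb⟩ := hf r hrc ⟨⟨b', rfl⟩, h5⟩
        refine ⟨b, hb, ?_⟩
        have := diff_mem I (f - f') (c + 1) (fun y => by simpa using hff' y) (r - c) b hbmem
        rw [show r - c + (c + 1) = r + 1 by omega] at this
        exact this
      · refine ⟨b', rfl, ?_⟩
        have : (f - f') b' ∈ I ^ (c + 1) • (⊤ : Submodule A M) := by simpa using hff' b'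
        exact pow_smul_top_anti I (by omega) this
    refine ⟨b₀ + b, ?_⟩
    have : a - f' (b₀ + b) = (f - f') b + a₁ := by
      have e1 : a₀ - a₁ = f b := by rw [hb, hb']
      simp only [LinearMap.sub_apply, map_add]
      rw [← e1, ha₀]
      abel
    rw [this]
    exact Submodule.add_mem _ hb2 ha₁

/-- Let `A` be a Noetherian ring, `I ⊆ A` an ideal inside the Jacobson radical, and `L → M → N` two
complexes `(f, g)` and `(f', g')` of finite `A`-modules with `f' ≡ f` modulo `I^{c+1}M` and `g' ≡ g`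
modulo `I^{c+1}N`. If `c` works in the Artin–Rees lemma for `f` and for `g` (that is `f(L) ∩ IⁿM ⊆
f(I^{n-c}L)` for `n ≥ c`, and likewise for `g`) and `(f, g)` is exact, then `c` works for `g'` and
`(f', g')` is exact. -/
theorem result {A : Type u} [CommRing A] [IsNoetherianRing A] (I : Ideal A)
    (hI : I ≤ Ideal.jacobson (⊥ : Ideal A)) {L M N : Type u} [AddCommGroup L] [Module A L] [Module.Finite A L]
    [AddCommGroup M] [Module A M] [Module.Finite A M] [AddCommGroup N] [Module A N] [Module.Finite A N]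
    (f f' : L →ₗ[A] M) (g g' : M →ₗ[A] N) (c : ℕ) (hgf : g.comp f = 0) (hgf' : g'.comp f' = 0)
    (hf : (∀ n : ℕ, c ≤ n → LinearMap.range f ⊓ (I ^ n • (⊤ : Submodule A M)) ≤ Submodule.map f (I ^ (n - c) • (⊤ : Submodule A L))))
    (hg : (∀ n : ℕ, c ≤ n → LinearMap.range g ⊓ (I ^ n • (⊤ : Submodule A N)) ≤ Submodule.map g (I ^ (n - c) • (⊤ : Submodule A M))))
    (hex : Function.Exact f g)
    (hff' : ∀ x : L, f x - f' x ∈ I ^ (c + 1) • (⊤ : Submodule A M))
    (hgg' : ∀ y : M, g y - g' y ∈ I ^ (c + 1) • (⊤ : Submodule A N)) :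
    (∀ n : ℕ, c ≤ n → LinearMap.range g' ⊓ (I ^ n • (⊤ : Submodule A N)) ≤ Submodule.map g' (I ^ (n - c) • (⊤ : Submodule A M))) ∧
    Function.Exact f' g' := by
  have hg'f' : ∀ b : L, g' (f' b) = 0 := fun b => LinearMap.congr_fun hgf' b
  constructor
  · rintro n hn y ⟨⟨a, rfl⟩, hy⟩
    obtain ⟨b, hb⟩ := key I f f' g g' c hgf' hf hg hex hff' hgg' n (n - c) (by omega) a hy
    refine ⟨a - f' b, hb, ?_⟩
    rw [map_sub, hg'f', sub_zero]
  · intro a
    constructor
    · intro ha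
      -- a ∈ range f' ⊔ I^k M for all k
      let P : Submodule A M := LinearMap.range f'
      have hall : ∀ k : ℕ, P.mkQ a ∈ I ^ k • (⊤ : Submodule A (M ⧸ P)) := by
        intro k
        obtain ⟨b, hb⟩ := key I f f' g g' c hgf' hf hg hex hff' hgg' (k + c) k le_rfl a
          (by rw [ha]; exact Submodule.zero_mem _)
        have h1 : P.mkQ a = P.mkQ (a - f' b) := by
          rw [map_sub]
          have : P.mkQ (f' b) = 0 := by
            rw [Submodule.mkQ_apply, Submodule.Quotient.mk_eq_zero]; exact ⟨b, rfl⟩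
          rw [this, sub_zero]
        rw [h1]
        have h2 : P.mkQ (a - f' b) ∈ Submodule.map P.mkQ (I ^ k • (⊤ : Submodule A M)) :=
          Submodule.mem_map_of_mem hb
        rw [Submodule.map_smul'', Submodule.map_top, Submodule.range_mkQ] at h2
        exact h2
      have hmem : P.mkQ a ∈ (⨅ i : ℕ, I ^ i • ⊤ : Submodule A (M ⧸ P)) :=
        (Submodule.mem_iInf _).mpr hall
      rw [Ideal.iInf_pow_smul_eq_bot_of_le_jacobson I hI, Submodule.mem_bot, Submodule.mkQ_apply,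
        Submodule.Quotient.mk_eq_zero] at hmem
      exact hmem
    · rintro ⟨b, rfl⟩
      exact hg'f' b

end Groth.Agent.S6909
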