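import Groth.Statements.S6912
import Mathlib

set_option autoImplicit false
universe u
open TensorProduct
open CAlg

namespace Groth.Agent.S6912

theorem rank_fraction (R : Type u) [CommRing R] [IsDomain R] (X : Type u) [AddCommGroup X] [Module R X] :
    Module.rank (FractionRing R) (FractionRing R ⊗[R] X) = Module.rank R X :=
  IsBaseChange.rank_eq (TensorProduct.isBaseChange R X (FractionRing R))

/-- Let `R` be a domain and `M`, `N` two `R`-modules; rank means dimension over the fraction field after
base change. Then `rank (M ⊗_R N) = rank M · rank N`, and when `M` is finitely presented also `rank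
Hom_R(M, N) = rank M · rank N`. -/
theorem result (R : Type u) [CommRing R] [IsDomain R] (M N : Type u)
    [AddCommGroup M] [Module R M] [AddCommGroup N] [Module R N] :
    Module.rank R (M ⊗[R] N) = Module.rank R M * Module.rank R N ∧
    (Module.FinitePresentation R M → Module.rank R (M →ₗ[R] N) = Module.rank R M * Module.rank R N) := by
  constructor
  · let K := FractionRing R
    rw [← rank_fraction R (M ⊗[R] N), ← rank_fraction R M, ← rank_fraction R N]
    rw [(TensorProduct.AlgebraTensorModule.distribBaseChange R K M N).rank_eq]
    exact rank_tensorProduct'
  · intro hM
    let S : Submonoid R := nonZeroDivisors R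
    let K := Localization S
    have h1 : Module.rank R (M →ₗ[R] N)
        = Module.rank R (LocalizedModule S M →ₗ[K] LocalizedModule S N) :=
      (IsLocalizedModule.rank_eq S le_rfl (LocalizedModule.map S (M := M) (N := N))).symm
    have h2 : Module.rank K (LocalizedModule S M →ₗ[K] LocalizedModule S N)
        = Module.rank R (LocalizedModule S M →ₗ[K] LocalizedModule S N) :=
      IsLocalization.rank_eq K S le_rfl
    have h3 : Module.rank K (LocalizedModule S M) = Module.rank R M := by
      rw [IsLocalization.rank_eq K S le_rfl]
      exact IsLocalizedModule.rank_eq S le_rfl (LocalizedModule.mkLinearMap S M)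
    have h4 : Module.rank K (LocalizedModule S N) = Module.rank R N := by
      rw [IsLocalization.rank_eq K S le_rfl]
      exact IsLocalizedModule.rank_eq S le_rfl (LocalizedModule.mkLinearMap S N)
    haveI : Module.Finite K (LocalizedModule S M) := inferInstance
    rw [h1, ← h2, Module.rank_linearMap, h3, h4, Cardinal.lift_id, Cardinal.lift_id]

end Groth.Agent.S6912
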