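import Groth.Statements.S6913
import Mathlib

set_option autoImplicit false
universe u
open CAlg

namespace Groth.Agent.S6913

/-- Let `R` be a domain and `M` a finite `R`-module, of (finite) rank `r`. Then: some linear map `M →
R^r` has torsion kernel and torsion cokernel; some nonzero `f ∈ R` makes `M_f` free of rank `r` over
`R_f`; and some injective linear map `R^r → M` has torsion cokernel. -/
theorem result (R : Type u) [CommRing R] [IsDomain R] (M : Type u) [AddCommGroup M]
    [Module R M] [Module.Finite R M] :
    (∃ h : M →ₗ[R] (Fin (Module.finrank R M) → R),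
      (∀ x : M, h x = 0 → ∃ c : R, c ≠ 0 ∧ c • x = 0) ∧
      (∀ y : Fin (Module.finrank R M) → R, ∃ c : R, c ≠ 0 ∧ c • y ∈ LinearMap.range h)) ∧
    (∃ f : R, f ≠ 0 ∧ Module.Free (Localization.Away f) (LocalizedModule (Submonoid.powers f) M) ∧
      Module.finrank (Localization.Away f) (LocalizedModule (Submonoid.powers f) M) = Module.finrank R M) ∧
    (∃ g : (Fin (Module.finrank R M) → R) →ₗ[R] M, Function.Injective g ∧
      ∀ x : M, ∃ c : R, c ≠ 0 ∧ c • x ∈ LinearMap.range g) := by
  classical
  obtain ⟨r, hr⟩ : ∃ r, r = Module.finrank R M := ⟨_, rfl⟩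
  rw [← hr]
  obtain ⟨v, hv⟩ := exists_linearIndependent_of_le_finrank (R := R) (M := M) (n := r) hr.le
  have htors : ∀ x : M, ∃ c : R, c ≠ 0 ∧ c • x ∈ Submodule.span R (Set.range v) := by
    intro x
    by_contra hcon
    push Not at hcon
    have hli : LinearIndependent R (Fin.cons x v : Fin (r + 1) → M) := by
      apply LinearIndependent.finCons' x v hv
      intro c y hy hcy
      by_contra hc
      apply hcon c hc
      have : c • x = -y := eq_neg_of_add_eq_zero_left hcy
      rw [this]
      exact Submodule.neg_mem _ hy
    have := hli.fintype_card_le_finrank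
    rw [Fintype.card_fin, ← hr] at this
    omega
  obtain ⟨T, hT⟩ := Module.finite_def.mp (inferInstance : Module.Finite R M)
  choose c hc0 hc using htors
  obtain ⟨C, hCdef⟩ : ∃ C, C = ∏ t ∈ T, c t := ⟨_, rfl⟩
  have hC0 : C ≠ 0 := by
    rw [hCdef]
    exact Finset.prod_ne_zero_iff.mpr (fun t _ => hc0 t)
  have hC : ∀ x : M, C • x ∈ Submodule.span R (Set.range v) := by
    intro x
    have hx : x ∈ Submodule.span R (T : Set M) := by rw [hT]; trivial
    induction hx using Submodule.span_induction with
    | mem t ht =>
      rw [hCdef, ← Finset.mul_prod_erase T c ht, mul_comm, mul_smul]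
      exact Submodule.smul_mem _ _ (hc t)
    | zero => simp
    | add y z _ _ hy hz => rw [smul_add]; exact Submodule.add_mem _ hy hz
    | smul a y _ hy => rw [smul_comm]; exact Submodule.smul_mem _ a hy
  let g : (Fin r → R) →ₗ[R] M := Fintype.linearCombination R v
  have hginj : Function.Injective g := linearIndependent_iff_injective_fintypeLinearCombination.mp hv
  have hgrange : LinearMap.range g = Submodule.span R (Set.range v) := Fintype.range_linearCombination R v
  refine ⟨?_, ?_, ?_⟩
  · let e := LinearEquiv.ofInjective g hginj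
    have hmem : ∀ x : M, (C • (LinearMap.id : M →ₗ[R] M)) x ∈ LinearMap.range g := by
      intro x
      rw [hgrange]
      exact hC x
    let h : M →ₗ[R] (Fin r → R) :=
      e.symm.toLinearMap ∘ₗ ((C • (LinearMap.id : M →ₗ[R] M)).codRestrict (LinearMap.range g) hmem)
    have hgh : ∀ x : M, g (h x) = C • x := by
      intro x
      have : e (h x) = (C • (LinearMap.id : M →ₗ[R] M)).codRestrict (LinearMap.range g) hmem x :=
        e.apply_symm_apply _
      exact congrArg Subtype.val this
    refine ⟨h, ?_, ?_⟩
    · intro x hx
      refine ⟨C, hC0, ?_⟩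
      rw [← hgh x, hx, map_zero]
    · intro y
      refine ⟨C, hC0, g y, ?_⟩
      apply hginj
      rw [hgh, map_smul]
  · refine ⟨C, hC0, ?_⟩
    let S := Submonoid.powers C
    let ℓ := LocalizedModule.mkLinearMap S M
    have hli : LinearIndependent (Localization.Away C) (ℓ ∘ v) :=
      hv.of_isLocalizedModule (Localization.Away C) S ℓ
    have hCunit : IsUnit (algebraMap R (Localization.Away C) C) :=
      IsLocalization.map_units (Localization.Away C) (⟨C, Submonoid.mem_powers C⟩ : S)
    have hℓ : ∀ m : M, ℓ m ∈ Submodule.span (Localization.Away C) (Set.range (ℓ ∘ v)) := by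
      intro m
      rw [← Submodule.smul_mem_iff_of_isUnit _ hCunit, algebraMap_smul, ← map_smul]
      have h1 : ℓ (C • m) ∈ Submodule.map ℓ (Submodule.span R (Set.range v)) :=
        Submodule.mem_map_of_mem (hC m)
      rw [Submodule.map_span, ← Set.range_comp] at h1
      exact Submodule.span_subset_span R (Localization.Away C) _ h1
    have hspan : ⊤ ≤ Submodule.span (Localization.Away C) (Set.range (ℓ ∘ v)) := by
      intro x _
      obtain ⟨⟨m, s⟩, hms⟩ := IsLocalizedModule.surj S ℓ x
      have hsunit : IsUnit (algebraMap R (Localization.Away C) s) :=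
        IsLocalization.map_units (Localization.Away C) s
      rw [← Submodule.smul_mem_iff_of_isUnit _ hsunit, algebraMap_smul]
      have : (s : R) • x = ℓ m := hms
      rw [this]
      exact hℓ m
    let b : Module.Basis (Fin r) (Localization.Away C) (LocalizedModule S M) := Module.Basis.mk hli hspan
    have hdom : IsDomain (Localization.Away C) := Localization.Away.isDomain hC0
    exact ⟨Module.Free.of_basis b, by rw [Module.finrank_eq_card_basis b, Fintype.card_fin]⟩
  · refine ⟨g, hginj, fun x => ?_⟩
    obtain ⟨c', hc', hx⟩ : ∃ c : R, c ≠ 0 ∧ c • x ∈ Submodule.span R (Set.range v) := ⟨c x, hc0 x, hc x⟩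
    exact ⟨c', hc', by rw [hgrange]; exact hx⟩

end Groth.Agent.S6913
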