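import Groth.Statements.S6922
import Groth.Agent.H87.Mil10

set_option autoImplicit false
universe u
open TensorProduct
open EtAlg

namespace Groth.Agent.S6922

/-- In the relative situation (`B' = B ×_A A'` with `A' → A` surjective, `B' → D'`, `D = D' ⊗_{B'} B`,
`C' = D' ⊗_{B'} A'`, `C = D' ⊗_{B'} A`), let `N` be a flat `B`-module that is finitely presented as
a `D`-module and `M'` a flat `A'`-module that is finitely presented as a `C'`-module, with a
`C`-isomorphism `φ : N ⊗_D C ≅ M' ⊗_{C'} C`, and suppose `B' → D'` is the composite of a flat ring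
map `B' → D''` and a ring map `D'' → D'` of finite presentation. Then `N ×_φ M'` is finitely
presented over `D'`. -/
theorem result (B' B A' A : Type u) [CommRing B'] [CommRing B] [CommRing A'] [CommRing A]
    [Algebra B' B] [Algebra B' A'] [Algebra B A] [Algebra A' A] [Algebra B' A] [IsScalarTower B' B A] [IsScalarTower B' A' A]
    (hsq : EtMil.IsFibreSquare B' B A' A)
    (D' D C' C : Type u) [CommRing D'] [CommRing D] [CommRing C'] [CommRing C]
    [Algebra B' D'] [Algebra B D] [Algebra A' C'] [Algebra A C]
    [Algebra D' D] [Algebra B' D] [IsScalarTower B' B D] [IsScalarTower B' D' D] [Algebra.IsPushout B' B D' D]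
    [Algebra D' C'] [Algebra B' C'] [IsScalarTower B' A' C'] [IsScalarTower B' D' C'] [Algebra.IsPushout B' A' D' C']
    [Algebra D' C] [Algebra B' C] [IsScalarTower B' A C] [IsScalarTower B' D' C] [Algebra.IsPushout B' A D' C]
    [Algebra D C] [IsScalarTower D' D C] [Algebra B C] [IsScalarTower B A C] [IsScalarTower B D C]
    [Algebra C' C] [IsScalarTower D' C' C] [Algebra A' C] [IsScalarTower A' A C] [IsScalarTower A' C' C]
    {N M' : Type u} [AddCommGroup N] [Module D N] [Module D' N] [IsScalarTower D' D N]
    [AddCommGroup M'] [Module C' M'] [Module D' M'] [IsScalarTower D' C' M'] (φ : C ⊗[D] N ≃ₗ[C] C ⊗[C'] M')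
    [Module B N] [IsScalarTower B D N] [Module A' M'] [IsScalarTower A' C' M']
    [Module.FinitePresentation D N] [Module.Flat B N] [Module.FinitePresentation C' M'] [Module.Flat A' M']
    (D'' : Type u) [CommRing D''] [Algebra B' D''] [Algebra D'' D'] [IsScalarTower B' D'' D'] [Module.Flat B' D'']
    [Algebra.FinitePresentation D'' D'] :
    Module.FinitePresentation D' ↥(EtMil.glue D' φ) := by
  letI : Module B' N := Module.compHom N (algebraMap B' D')
  letI : Module B' M' := Module.compHom M' (algebraMap B' D')
  haveI : IsScalarTower B' D' N := ⟨fun b d n => by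
    rw [Algebra.smul_def, mul_smul]
    rfl⟩
  haveI : IsScalarTower B' D' M' := ⟨fun b d n => by
    rw [Algebra.smul_def, mul_smul]
    rfl⟩
  have hN : ∀ (b' : B') (x : N), algebraMap B' B b' • x = algebraMap B' D' b' • x := by
    intro b' x
    rw [← algebraMap_smul D (algebraMap B' B b') x, ← IsScalarTower.algebraMap_apply B' B D,
      IsScalarTower.algebraMap_apply B' D' D, algebraMap_smul]
  have hM' : ∀ (b' : B') (x : M'), algebraMap B' A' b' • x = algebraMap B' D' b' • x := by
    intro b' x
    rw [← algebraMap_smul C' (algebraMap B' A' b') x, ← IsScalarTower.algebraMap_apply B' A' C',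
      IsScalarTower.algebraMap_apply B' D' C', algebraMap_smul]
  haveI : IsScalarTower B' B N := ⟨fun b' b n => by
    rw [Algebra.smul_def, mul_smul, hN]
    rfl⟩
  haveI : IsScalarTower B' A' M' := ⟨fun b' a n => by
    rw [Algebra.smul_def, mul_smul, hM']
    rfl⟩
  exact Groth.Agent.H87.Mil10.rel_fp hsq φ

end Groth.Agent.S6922
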