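import Groth.Statements.S6925
-- import your own Groth.Agent.* helpers here
import Groth.Agent.H70.FlatAss.Flattening
import Groth.Agent.H82.FlatInf
import Mathlib.RingTheory.Localization.AtPrime.Basic

set_option autoImplicit false
universe u
open TensorProduct
open FlatMor

namespace Groth.Agent.S6925

/-- Let `(R, 𝔪)` be a complete Noetherian local ring, `R → S` a ring map with `S` Noetherian and `M` a
finite `S`-module. Then among ideals contained in `𝔪`, there is a smallest one `I` with the
following property: whenever `𝔮` is a prime of `S` lying over `𝔪`, the module `(M/IM)_𝔮` is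
`R/I`-flat. Namely, `I ⊆ 𝔪` has this property, and every ideal `J` with the property contains `I`. -/
theorem result (R S : Type u) [CommRing R] [IsLocalRing R]
    [IsNoetherianRing R] [IsAdicComplete (IsLocalRing.maximalIdeal R) R] [CommRing S] [Algebra R S] [IsNoetherianRing S]
    (M : Type u) [AddCommGroup M] [Module S M] [Module R M] [IsScalarTower R S M] [Module.Finite S M] :
    ∃ I : Ideal R, I ≤ IsLocalRing.maximalIdeal R ∧
      (∀ (q : Ideal S) [q.IsPrime], q.comap (algebraMap R S) = IsLocalRing.maximalIdeal R →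
        Module.Flat (R ⧸ I) ((R ⧸ I) ⊗[R] LocalizedModule q.primeCompl M)) ∧
      ∀ J : Ideal R, (∀ (q : Ideal S) [q.IsPrime], q.comap (algebraMap R S) = IsLocalRing.maximalIdeal R →
        Module.Flat (R ⧸ J) ((R ⧸ J) ⊗[R] LocalizedModule q.primeCompl M)) → I ≤ J := by
  classical
  let P : Ideal R → Prop := fun J => ∀ (q : Ideal S) [q.IsPrime],
    q.comap (algebraMap R S) = IsLocalRing.maximalIdeal R →
      Module.Flat (R ⧸ J) ((R ⧸ J) ⊗[R] LocalizedModule q.primeCompl M)
  have hinf : ∀ J₁ J₂, P J₁ → P J₂ → P (J₁ ⊓ J₂) := by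
    intro J₁ J₂ h1 h2 q _ hq
    haveI := h1 q hq
    haveI := h2 q hq
    exact Groth.Agent.H82.FlatInf.main _ J₁ J₂
  have hmono : ∀ J J', J ≤ J' → P J → P J' := by
    intro J J' hle h q _ hq
    haveI := h q hq
    exact Groth.Agent.H70.FlatAss.flat_of_map_eq_bot J (R ⧸ J') (by
      rw [Ideal.Quotient.algebraMap_eq, Ideal.map_eq_bot_iff_le_ker, Ideal.mk_ker]
      exact hle)
  have hm : P (IsLocalRing.maximalIdeal R) := by
    intro q _ hq
    letI : Field (R ⧸ IsLocalRing.maximalIdeal R) := Ideal.Quotient.field _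
    infer_instance
  have hlim : ∀ I : Ideal R, (∀ n : ℕ, 0 < n → P (I ⊔ IsLocalRing.maximalIdeal R ^ n)) → P I := by
    intro I h q _ hq
    haveI : IsNoetherianRing (Localization.AtPrime q) :=
      IsLocalization.isNoetherianRing q.primeCompl _ inferInstance
    refine Groth.Agent.H70.FlatAss.flat_quotient_of_flat_quotient_sup_pow
      (IsLocalRing.maximalIdeal R) I (Localization.AtPrime q) ?_
      (LocalizedModule q.primeCompl M) (fun n hn => h n hn q hq)
    rw [IsLocalRing.jacobson_eq_maximalIdeal ⊥ bot_ne_top, Ideal.map_le_iff_le_comap]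
    intro a ha
    rw [Ideal.mem_comap, IsScalarTower.algebraMap_apply R S (Localization.AtPrime q),
      IsLocalization.AtPrime.to_map_mem_maximal_iff (Localization.AtPrime q) q]
    have : a ∈ q.comap (algebraMap R S) := by rw [hq]; exact ha
    exact this
  obtain ⟨I, hIm, hPI, hmin⟩ :=
    Groth.Agent.H70.FlatAss.exists_smallest_ideal P hinf hmono hm hlim
  exact ⟨I, hIm, fun q _ hq => hPI q hq, fun J hJ => hmin J (fun q _ hq => hJ q hq)⟩

end Groth.Agent.S6925
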