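import Groth.Statements.S6928
import Groth.Agent.H56.ColimFlatAt.Core
import Groth.Agent.H56.ColimFlatAt.RLevel
import Groth.Agent.H56.ColimFlatAt.CLevel

set_option autoImplicit false
universe u
open FlatMor
open Groth.Agent.H1.FlatLocus Groth.Agent.H56.ColimFlatAt

attribute [local instance] MvPolynomial.algebraMvPolynomial
set_option linter.style.haveILetI false

namespace Groth.Agent.S6928

/-- Let `R → S` be a ring map that is essentially of finite presentation, `J ⊆ S` an ideal and `M` a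
finitely presented `S`-module. Let `(R_λ)` be a directed system of `R`-algebras with colimit `R'`,
and `I_λ ⊆ R_λ` ideals with `I_λ R_μ ⊆ I_μ`, `I' = colim I_λ`, `S' = S ⊗_R R'`, `M' = M ⊗_R R'`. If
`M'_{𝔮'}` is flat over `R'` for every prime `𝔮' ⊇ I'S' + JS'`, then there is `λ` such that, with
`S_λ = S ⊗_R R_λ` and `M_λ = M ⊗_R R_λ`, `(M_λ)_𝔮` is flat over `R_λ` for every prime `𝔮 ⊇ I_λ S_λ +
J S_λ`. -/
theorem result {R S : Type u} [CommRing R] [CommRing S] [Algebra R S] (hS : FlatCA.EssFinitePresentation R S)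
    {M : Type u} [AddCommGroup M] [Module S M] [Module R M] [IsScalarTower R S M] [Module.FinitePresentation S M]
    {ι : Type u} [Preorder ι] (G : ι → Type u) [∀ i, CommRing (G i)] [∀ i, Algebra R (G i)]
    (g : ∀ i j, i ≤ j → G i →+* G j) (hgR : ∀ i j (h : i ≤ j), (g i j h).comp (algebraMap R (G i)) = algebraMap R (G j))
    (R' : Type u) [CommRing R'] [Algebra R R'] [∀ i, Algebra (G i) R'] [∀ i, IsScalarTower R (G i) R']
    (hcolim : FlatCA.IsDirectedColimitRing G g R')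
    (Il : ∀ i, Ideal (G i)) (hIl : ∀ i j (h : i ≤ j), (Il i).map (g i j h) ≤ Il j)
    {S' : Type u} [CommRing S'] [Algebra S S'] [Algebra R' S'] [Algebra R S'] [IsScalarTower R S S']
    [IsScalarTower R R' S'] [Algebra.IsPushout R S R' S']
    {M' : Type u} [AddCommGroup M'] [Module S' M'] [Module R' M'] [IsScalarTower R' S' M'] [Module S M']
    [IsScalarTower S S' M'] (f : M →ₗ[S] M') (hf : IsBaseChange S' f)
    (J : Ideal S)
    (h : ∀ (q' : Ideal S') [q'.IsPrime],
      (⨆ i, (Il i).map (algebraMap (G i) R')).map (algebraMap R' S') ⊔ J.map (algebraMap S S') ≤ q' →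
        FlatCA.FlatAt R' q' M') :
    ∃ i : ι, ∀ (Si Mi : Type u) [CommRing Si] [Algebra S Si] [Algebra (G i) Si] [Algebra R Si] [IsScalarTower R S Si]
      [IsScalarTower R (G i) Si] [Algebra.IsPushout R S (G i) Si] [AddCommGroup Mi] [Module Si Mi] [Module (G i) Mi]
      [IsScalarTower (G i) Si Mi] [Module S Mi] [IsScalarTower S Si Mi] (fi : M →ₗ[S] Mi), IsBaseChange Si fi →
      ∀ (q : Ideal Si) [q.IsPrime], (Il i).map (algebraMap (G i) Si) ⊔ J.map (algebraMap S Si) ≤ q → FlatCA.FlatAt (G i) q Mi := by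
  classical
  obtain ⟨Z, hZ, 𝓜, ψ, T, ε, hb⟩ := exists_model_ess hS M
  have hft : Algebra.FiniteType ℤ Z := (Subalgebra.fg_iff_finiteType Z).mp hZ
  haveI hZnoeth : IsNoetherianRing Z := Algebra.FiniteType.isNoetherianRing ℤ Z
  haveI : ∀ i, IsScalarTower Z R (G i) := fun i => IsScalarTower.of_algebraMap_eq fun z => rfl
  haveI : IsScalarTower Z R R' := IsScalarTower.of_algebraMap_eq fun z => rfl
  haveI : ∀ i, IsScalarTower Z (G i) R' := fun i => IsScalarTower.of_algebraMap_eq fun z => by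
    change algebraMap R R' (z : R) = algebraMap (G i) R' (algebraMap R (G i) (z : R))
    rw [← IsScalarTower.algebraMap_apply]
  have hg : ∀ i j (h : i ≤ j) (z : Z), g i j h (algebraMap Z (G i) z) = algebraMap Z (G j) z :=
    fun i j h z => RingHom.congr_fun (hgR i j h) (z : R)
  obtain ⟨hdir, hne, hid, hcomp, hcompat, hsurj, hinj⟩ := id hcolim
  -- compatibility of polynomial maps
  have hPR : ∀ i j (h : i ≤ j) (p : 𝓜.P R),
      MvPolynomial.map (g i j h) (algebraMap (𝓜.P R) (𝓜.P (G i)) p) =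
        algebraMap (𝓜.P R) (𝓜.P (G j)) p := by
    intro i j h p
    rw [MvPolynomial.algebraMap_def, MvPolynomial.algebraMap_def, MvPolynomial.map_map, hgR]
  have hPR' : ∀ i (p : 𝓜.P R),
      algebraMap (𝓜.P (G i)) (𝓜.P R') (algebraMap (𝓜.P R) (𝓜.P (G i)) p) =
        algebraMap (𝓜.P R) (𝓜.P R') p := fun i p =>
    RingHom.congr_fun (algebraMap_P_comp 𝓜 R (G i) R') p
  -- the ideals and multiplicative sets
  let J' : Ideal (𝓜.P R) := J.comap ψ
  let 𝔟 : ∀ i, Ideal (𝓜.P (G i)) := fun i =>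
    (Il i).map (algebraMap (G i) (𝓜.P (G i))) ⊔ J'.map (algebraMap (𝓜.P R) (𝓜.P (G i)))
  have h𝔟 : ∀ i j (h : i ≤ j), (𝔟 i).map (MvPolynomial.map (g i j h)) ≤ 𝔟 j := by
    intro i j h
    rw [Ideal.map_sup]
    refine sup_le_sup ?_ ?_
    · rw [Ideal.map_map, Ideal.map_le_iff_le_comap]
      intro x hx
      have e1 : algebraMap (G i) (𝓜.P (G i)) x = MvPolynomial.C x := rfl
      have e2 : (MvPolynomial.C (g i j h x) : 𝓜.P (G j)) =
          algebraMap (G j) (𝓜.P (G j)) (g i j h x) := rfl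
      rw [Ideal.mem_comap, RingHom.comp_apply, e1, MvPolynomial.map_C, e2]
      exact Ideal.mem_map_of_mem _ (hIl i j h (Ideal.mem_map_of_mem _ hx))
    · rw [Ideal.map_map, Ideal.map_le_iff_le_comap]
      intro p hp
      rw [Ideal.mem_comap, RingHom.comp_apply, hPR]
      exact Ideal.mem_map_of_mem _ hp
  let Ti : ∀ i, Submonoid (𝓜.P (G i)) := fun i => T.map (algebraMap (𝓜.P R) (𝓜.P (G i)))
  have hTi : ∀ i j (h : i ≤ j), ∀ t ∈ Ti i, MvPolynomial.map (g i j h) t ∈ Ti j := by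
    rintro i j h _ ⟨t, ht, rfl⟩
    exact ⟨t, ht, (hPR i j h t).symm⟩
  -- the hypothesis of the core
  have H : ∀ (q' : Ideal (𝓜.P R')) [q'.IsPrime],
      (⨆ i, (𝔟 i).map (algebraMap (𝓜.P (G i)) (𝓜.P R'))) ≤ q' →
      (∀ i, ∀ t ∈ Ti i, algebraMap (𝓜.P (G i)) (𝓜.P R') t ∉ q') →
        Module.Flat R' (LocalizedModule q'.primeCompl (𝓜.Mod R')) := by
    intro q' _ hq𝔟 hqT
    obtain ⟨εR', hbR'⟩ := exists_bridge_of_pushout 𝓜 R' hb f hf
    have hqT' : ∀ t ∈ T.map (algebraMap (𝓜.P R) (𝓜.P R')), t ∉ q' := by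
      rintro _ ⟨t, ht, rfl⟩
      obtain ⟨i⟩ := hne
      have := hqT i _ (Submonoid.mem_map_of_mem _ ht)
      rwa [hPR'] at this
    rcases hbR'.exists_comap_eq_or_subsingleton q' hqT' with ⟨q, hqprime, rfl⟩ | hsub
    · haveI := hqprime
      refine (hbR'.flat_iff q).mp (h q ?_)
      refine sup_le ?_ ?_
      · rw [Ideal.map_le_iff_le_comap]
        refine iSup_le fun i => ?_
        rw [Ideal.map_le_iff_le_comap]
        intro x hx
        rw [Ideal.mem_comap, Ideal.mem_comap]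
        have h1 : algebraMap (𝓜.P (G i)) (𝓜.P R') (algebraMap (G i) (𝓜.P (G i)) x) ∈
            q.comap (psiC 𝓜 R' (SC := S') ψ) := by
          apply hq𝔟
          refine Ideal.mem_iSup_of_mem i (Ideal.mem_map_of_mem _ ?_)
          exact (le_sup_left : _ ≤ 𝔟 i) (Ideal.mem_map_of_mem _ hx)
        have e1 : algebraMap (G i) (𝓜.P (G i)) x = MvPolynomial.C x := rfl
        rw [Ideal.mem_comap, e1, MvPolynomial.algebraMap_def,
          MvPolynomial.map_C, psiC, MvPolynomial.aeval_C] at h1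
        exact h1
      · rw [Ideal.map_le_iff_le_comap]
        intro s hs
        rw [Ideal.mem_comap]
        obtain ⟨p, t, ht, hpt⟩ := hb.surj_ring s
        have hpJ : p ∈ J' := by
          rw [Ideal.mem_comap, ← hpt]
          exact J.mul_mem_right _ hs
        obtain ⟨i⟩ := hne
        have h1 : algebraMap (𝓜.P (G i)) (𝓜.P R') (algebraMap (𝓜.P R) (𝓜.P (G i)) p) ∈
            q.comap (psiC 𝓜 R' (SC := S') ψ) := by
          apply hq𝔟
          refine Ideal.mem_iSup_of_mem i (Ideal.mem_map_of_mem _ ?_)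
          exact (le_sup_right : _ ≤ 𝔟 i) (Ideal.mem_map_of_mem _ hpJ)
        rw [hPR', Ideal.mem_comap, psiC_algebraMap, ← hpt, map_mul] at h1
        rcases Ideal.IsPrime.mem_or_mem inferInstance h1 with h2 | h2
        · exact h2
        · exfalso
          exact (Ideal.IsPrime.ne_top (inferInstance : q.IsPrime))
            (Ideal.eq_top_of_isUnit_mem q h2 ((hb.isUnit t ht).map _))
    · haveI := hsub
      infer_instance
  obtain ⟨i, hi⟩ := exists_stage_forall_flat_at 𝓜 G g hg R' hcolim 𝔟 h𝔟 Ti hTi H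
  refine ⟨i, ?_⟩
  intro Si Mi _ _ _ _ _ _ _ _ _ _ _ _ _ fi hfi q _ hq
  obtain ⟨εi, hbi⟩ := exists_bridge_of_pushout 𝓜 (G i) hb fi hfi
  refine (hbi.flat_iff q).mpr (hi (q.comap (psiC 𝓜 (G i) (SC := Si) ψ)) ?_ (hbi.notMem_comap q))
  refine sup_le ?_ ?_
  · rw [Ideal.map_le_iff_le_comap]
    intro x hx
    have e1 : algebraMap (G i) (𝓜.P (G i)) x = MvPolynomial.C x := rfl
    rw [Ideal.mem_comap, Ideal.mem_comap, psiC, e1, MvPolynomial.aeval_C]
    exact hq ((le_sup_left : (Il i).map (algebraMap (G i) Si) ≤ _) (Ideal.mem_map_of_mem _ hx))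
  · rw [Ideal.map_le_iff_le_comap]
    intro p hp
    rw [Ideal.mem_comap, Ideal.mem_comap, psiC_algebraMap]
    exact hq ((le_sup_right : J.map (algebraMap S Si) ≤ _) (Ideal.mem_map_of_mem _ hp))

end Groth.Agent.S6928
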