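import Groth.Statements.S6927
import Groth.Agent.S6928
import Groth.Agent.S6926
import Groth.Agent.H56.ColimFlatAt.Stage
import Groth.Agent.H56.ColimFlatAt.LocalSystem
import Groth.Agent.H70.FlatAtBC.Basic

set_option autoImplicit false
universe u
open TensorProduct
open FlatMor
open Groth.Agent.H56.ColimFlatAt.LocalSystem

attribute [local instance] Algebra.TensorProduct.rightAlgebra
set_option linter.style.haveILetI false

namespace Groth.Agent.S6927

/-- Let `(R, 𝔪)` be a complete Noetherian local ring, `R → S` of finite type, `M` a finite `S`-module,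
and `I ⊆ 𝔪` the least ideal for which, at every prime `𝔮` of `S` lying over `𝔪`, the localization
`(M/IM)_𝔮` is an `R/I`-flat module. Then for every local homomorphism `φ : R → R'` of local rings
(`R'` arbitrary), with `S' = S ⊗_R R'` and `M' = M ⊗_R R'`: `M'_{𝔮'}` is flat over `R'` for every
prime `𝔮'` of `S'` over `𝔪'` if and only if `φ(I) = 0`. -/
theorem result {R S R' S' : Type u} [CommRing R] [IsLocalRing R]
    [IsNoetherianRing R] [IsAdicComplete (IsLocalRing.maximalIdeal R) R] [CommRing S]
    [CommRing R'] [IsLocalRing R'] [CommRing S']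
    [Algebra R S] [Algebra.FiniteType R S] [Algebra R R'] [IsLocalHom (algebraMap R R')] [Algebra S S'] [Algebra R' S']
    [Algebra R S'] [IsScalarTower R S S'] [IsScalarTower R R' S'] [Algebra.IsPushout R S R' S']
    {M M' : Type u} [AddCommGroup M] [Module S M] [Module R M] [IsScalarTower R S M] [Module.Finite S M]
    [AddCommGroup M'] [Module S' M'] [Module R' M'] [IsScalarTower R' S' M'] [Module S M'] [IsScalarTower S S' M']
    (f : M →ₗ[S] M') (hf : IsBaseChange S' f) (I : Ideal R) (hIm : I ≤ IsLocalRing.maximalIdeal R)
    (hI : (∀ (q : Ideal S) [q.IsPrime], q.comap (algebraMap R S) = IsLocalRing.maximalIdeal R →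
        Module.Flat (R ⧸ I) ((R ⧸ I) ⊗[R] LocalizedModule q.primeCompl M)))
    (hmin : ∀ J : Ideal R, (∀ (q : Ideal S) [q.IsPrime], q.comap (algebraMap R S) = IsLocalRing.maximalIdeal R →
        Module.Flat (R ⧸ J) ((R ⧸ J) ⊗[R] LocalizedModule q.primeCompl M)) → I ≤ J) :
    (∀ (q' : Ideal S') [q'.IsPrime], q'.comap (algebraMap R' S') = IsLocalRing.maximalIdeal R' → FlatCA.FlatAt R' q' M') ↔
      I ≤ RingHom.ker (algebraMap R R') := by
  letI : Module R M' := Module.compHom M' (algebraMap R R')
  haveI : IsScalarTower R R' M' := IsScalarTower.of_algebraMap_smul (fun _ _ => rfl)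
  haveI : IsScalarTower R S M' := IsScalarTower.of_algebraMap_smul (fun r m => by
    rw [← algebraMap_smul S' (algebraMap R S r) m, ← IsScalarTower.algebraMap_apply R S S',
      IsScalarTower.algebraMap_apply R R' S', algebraMap_smul]
    rfl)
  constructor
  · intro H
    -- the system of Noetherian local rings
    letI algG : ∀ i : Idx R R', Algebra (G i) R' := fun i => (toLim i).toAlgebra
    haveI : ∀ i : Idx R R', IsScalarTower R (G i) R' := fun i =>
      IsScalarTower.of_algebraMap_eq fun r => (toLim_algebraMap_R i r).symm
    have hcolim : FlatCA.IsDirectedColimitRing (fun i : Idx R R' => G i) trans R' :=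
      isDirectedColimitRing R R'
    haveI : Algebra.FinitePresentation R S :=
      Algebra.FinitePresentation.of_finiteType.mp inferInstance
    haveI : IsNoetherianRing S := Algebra.FiniteType.isNoetherianRing R S
    haveI : Module.FinitePresentation S M := Module.finitePresentation_of_finite S M
    have hS : FlatCA.EssFinitePresentation R S :=
      ⟨S, inferInstance, inferInstance, Algebra.id S, inferInstance, IsUnit.submonoid S,
        inferInstance, inferInstance⟩
    have hIl : ∀ (i j : Idx R R') (h : i ≤ j), (IsLocalRing.maximalIdeal (G i)).map (trans i j h) ≤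
        IsLocalRing.maximalIdeal (G j) := fun i j h => IsLocalRing.map_maximalIdeal_le (trans i j h)
    have hflat : ∀ (q' : Ideal S') [q'.IsPrime],
        (⨆ i : Idx R R', (IsLocalRing.maximalIdeal (G i)).map (algebraMap (G i) R')).map
          (algebraMap R' S') ⊔ (⊥ : Ideal S).map (algebraMap S S') ≤ q' →
          FlatCA.FlatAt R' q' M' := by
      intro q' _ hq'
      apply H q'
      have h1 : IsLocalRing.maximalIdeal R' ≤ q'.comap (algebraMap R' S') :=
        maximalIdeal_le_iSup.trans (Ideal.map_le_iff_le_comap.mp (le_sup_left.trans hq'))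
      exact ((IsLocalRing.maximalIdeal.isMaximal R').eq_of_le
        (Ideal.comap_ne_top _ (Ideal.IsPrime.ne_top inferInstance)) h1).symm
    obtain ⟨i, hi⟩ := Groth.Agent.S6928.result hS (M := M) (fun i : Idx R R' => G i) trans
      (fun i j h => trans_algebraMap_R h) R' hcolim (fun i => IsLocalRing.maximalIdeal (G i)) hIl
      f hf ⊥ hflat
    -- apply the Noetherian case at stage `i`
    haveI : IsNoetherianRing (G i) := isNoetherianRing_G i
    haveI : IsLocalHom (algebraMap R (G i)) := isLocalHom_algebraMap i
    have key := Groth.Agent.H56.ColimFlatAt.le_ker_of_stage (R := R) (S := S) (R'' := G i)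
      (M := M) I hIm hI hmin hi
    intro a ha
    rw [RingHom.mem_ker, IsScalarTower.algebraMap_apply R (G i) R', (RingHom.mem_ker).mp (key ha),
      map_zero]
  · intro hle q' _ hq'
    -- the easy direction (argument of helper70's `flatAt_of_le_ker`, without Noetherianity)
    have hq : (q'.comap (algebraMap S S')).comap (algebraMap R S) = IsLocalRing.maximalIdeal R := by
      rw [Ideal.comap_comap, ← IsScalarTower.algebraMap_eq, IsScalarTower.algebraMap_eq R R' S',
        ← Ideal.comap_comap, hq', IsLocalRing.maximalIdeal_comap]
    haveI := hI (q'.comap (algebraMap S S')) hq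
    letI : Algebra (R ⧸ I) R' :=
      (Ideal.Quotient.lift I (algebraMap R R') (fun a ha => hle ha)).toAlgebra
    haveI : IsScalarTower R (R ⧸ I) R' := IsScalarTower.of_algebraMap_eq (fun x => rfl)
    have hflat : Module.Flat R'
        (R' ⊗[R] LocalizedModule (q'.comap (algebraMap S S')).primeCompl M) :=
      Module.Flat.of_linearEquiv (TensorProduct.AlgebraTensorModule.cancelBaseChange R (R ⧸ I) R' R'
        (LocalizedModule (q'.comap (algebraMap S S')).primeCompl M)).symm
    exact Groth.Agent.H70.FlatAtBC.flat_localizedModule_of_flat_tensor (R := R) f hf q' hflat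

end Groth.Agent.S6927
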