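import Groth.Statements.S6933
import Mathlib.Algebra.Category.Grp.EpiMono

set_option autoImplicit false
universe u
open CategoryTheory
open InjHull

namespace Groth.Agent.S6933

/-- An abelian group `J` that is injective as an object of the category of abelian groups is divisible:
`n J = J` for every nonzero integer `n`. (The published statement is an equivalence; this row states
the implication from injective to divisible.) -/
theorem result (J : Type u) [AddCommGroup J] (hJ : Injective (AddCommGrpCat.of J))
    (n : ℤ) (hn : n ≠ 0) (x : J) : ∃ y : J, n • y = x := by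
  -- the multiplication by `n` map on `ULift ℤ`
  let Z := AddCommGrpCat.of (ULift.{u} ℤ)
  let mulN : ULift.{u} ℤ →+ ULift.{u} ℤ :=
    { toFun := fun a => ⟨n * a.down⟩
      map_zero' := by ext; simp
      map_add' := fun a b => by ext; simp [mul_add] }
  let g : ULift.{u} ℤ →+ J :=
    { toFun := fun a => a.down • x
      map_zero' := by simp
      map_add' := fun a b => by simp [add_smul] }
  have hmono : Mono (AddCommGrpCat.ofHom mulN) := by
    rw [AddCommGrpCat.mono_iff_injective]
    intro a b hab
    have h1 : n * a.down = n * b.down := congrArg ULift.down hab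
    ext
    exact mul_left_cancel₀ hn h1
  obtain ⟨h, hh⟩ := hJ.factors (AddCommGrpCat.ofHom g) (AddCommGrpCat.ofHom mulN)
  refine ⟨h.hom ⟨1⟩, ?_⟩
  have h2 : (AddCommGrpCat.ofHom mulN ≫ h).hom ⟨1⟩ = (AddCommGrpCat.ofHom g).hom ⟨1⟩ := by rw [hh]
  have h3 : h.hom (mulN ⟨1⟩) = g ⟨1⟩ := h2
  have h4 : mulN ⟨1⟩ = n • (⟨1⟩ : ULift.{u} ℤ) := by ext; simp [mulN]
  rw [h4, map_zsmul] at h3
  rw [h3]
  simp [g]

end Groth.Agent.S6933
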