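import Groth.Statements.S6934
import Mathlib

set_option autoImplicit false
universe u
open EtAlg

namespace Groth.Agent.S6934

/-- Let `s : B → R`, `t : R' → R` be ring maps and `B' = B ×_R R'` the fibre product ring, i.e. a ring
`B'` with maps `p : B' → B`, `q : B' → R'`, `s ∘ p = t ∘ q`, such that `(p, q)` is injective with
image the pairs `(b, r')` with `s(b) = t(r')`. Let `h ∈ B'` with images `g = p(h)`, `f = q(h)`. Then
the square of localizations `B'_h → B_g`, `B'_h → R'_f`, `B_g → R_{s(g)}`, `R'_f → R_{t(f)} =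
R_{s(g)}` (the induced maps) is cartesian as well: `B'_h = B_g ×_{R_{s(g)}} R'_f`. -/
theorem result {B R R' B' : Type u} [CommRing B] [CommRing R] [CommRing R'] [CommRing B']
    (s : B →+* R) (t : R' →+* R) (p : B' →+* B) (q : B' →+* R') (hc : s.comp p = t.comp q)
    (hinj : ∀ x y : B', p x = p y → q x = q y → x = y) (hsurj : ∀ (b : B) (r' : R'), s b = t r' → ∃ x : B', p x = b ∧ q x = r')
    (h : B') (Bh Bg Rf Rsg : Type u) [CommRing Bh] [CommRing Bg] [CommRing Rf] [CommRing Rsg]
    [Algebra B' Bh] [IsLocalization.Away h Bh] [Algebra B Bg] [IsLocalization.Away (p h) Bg]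
    [Algebra R' Rf] [IsLocalization.Away (q h) Rf] [Algebra R Rsg] [IsLocalization.Away (s (p h)) Rsg]
    (pL : Bh →+* Bg) (qL : Bh →+* Rf) (sL : Bg →+* Rsg) (tL : Rf →+* Rsg)
    (hp : pL.comp (algebraMap B' Bh) = (algebraMap B Bg).comp p) (hq : qL.comp (algebraMap B' Bh) = (algebraMap R' Rf).comp q)
    (hs : sL.comp (algebraMap B Bg) = (algebraMap R Rsg).comp s) (ht : tL.comp (algebraMap R' Rf) = (algebraMap R Rsg).comp t) :
    (∀ x y : Bh, pL x = pL y → qL x = qL y → x = y) ∧
    (∀ (b : Bg) (r : Rf), sL b = tL r → ∃ x : Bh, pL x = b ∧ qL x = r) := by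
  have hp' : ∀ w : B', pL (algebraMap B' Bh w) = algebraMap B Bg (p w) := fun w => RingHom.congr_fun hp w
  have hq' : ∀ w : B', qL (algebraMap B' Bh w) = algebraMap R' Rf (q w) := fun w => RingHom.congr_fun hq w
  have hs' : ∀ w : B, sL (algebraMap B Bg w) = algebraMap R Rsg (s w) := fun w => RingHom.congr_fun hs w
  have ht' : ∀ w : R', tL (algebraMap R' Rf w) = algebraMap R Rsg (t w) := fun w => RingHom.congr_fun ht w
  have hc' : ∀ w : B', s (p w) = t (q w) := fun w => RingHom.congr_fun hc w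
  have uh : ∀ n : ℕ, IsUnit (algebraMap B' Bh h ^ n) := IsLocalization.Away.algebraMap_pow_isUnit h
  have ug : ∀ n : ℕ, IsUnit (algebraMap B Bg (p h) ^ n) := IsLocalization.Away.algebraMap_pow_isUnit (p h)
  have uf : ∀ n : ℕ, IsUnit (algebraMap R' Rf (q h) ^ n) := IsLocalization.Away.algebraMap_pow_isUnit (q h)
  have usg : ∀ n : ℕ, IsUnit (algebraMap R Rsg (s (p h)) ^ n) :=
    IsLocalization.Away.algebraMap_pow_isUnit (s (p h))
  constructor
  · intro x y hxy hxy'
    obtain ⟨n, z', hz'⟩ := IsLocalization.Away.surj h (x - y)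
    have h1 : algebraMap B Bg (p z') = algebraMap B Bg 0 := by
      rw [← hp', ← hz', map_mul, map_sub, hxy, sub_self, zero_mul, map_zero]
    have h2 : algebraMap R' Rf (q z') = algebraMap R' Rf 0 := by
      rw [← hq', ← hz', map_mul, map_sub, hxy', sub_self, zero_mul, map_zero]
    obtain ⟨k, hk⟩ := IsLocalization.Away.exists_of_eq (p h) h1
    obtain ⟨l, hl⟩ := IsLocalization.Away.exists_of_eq (q h) h2
    rw [mul_zero] at hk hl
    have hw : h ^ (k + l) * z' = 0 := by
      apply hinj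
      · have : p (h ^ (k + l) * z') = p h ^ l * (p h ^ k * p z') := by
          rw [map_mul, map_pow, pow_add]; ring
        rw [this, hk, mul_zero, map_zero]
      · have : q (h ^ (k + l) * z') = q h ^ k * (q h ^ l * q z') := by
          rw [map_mul, map_pow, pow_add]; ring
        rw [this, hl, mul_zero, map_zero]
    have h3 : algebraMap B' Bh h ^ (k + l) * algebraMap B' Bh z' = 0 := by
      rw [← map_pow, ← map_mul, hw, map_zero]
    have h4 : algebraMap B' Bh z' = 0 := (uh (k + l)).mul_right_eq_zero.mp h3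
    rw [h4] at hz'
    have h5 : x - y = 0 := (uh n).mul_left_eq_zero.mp hz'
    exact sub_eq_zero.mp h5
  · intro b r hbr
    obtain ⟨n₁, b₀, hb₀⟩ := IsLocalization.Away.surj (p h) b
    obtain ⟨n₂, r₀, hr₀⟩ := IsLocalization.Away.surj (q h) r
    obtain ⟨n, hn⟩ : ∃ n, n = n₁ + n₂ := ⟨_, rfl⟩
    obtain ⟨b₁, hb₁⟩ : ∃ b₁, b₁ = p h ^ n₂ * b₀ := ⟨_, rfl⟩
    obtain ⟨r₁, hr₁⟩ : ∃ r₁, r₁ = q h ^ n₁ * r₀ := ⟨_, rfl⟩
    have hb : b * algebraMap B Bg (p h) ^ n = algebraMap B Bg b₁ := by
      rw [hb₁, map_mul, map_pow, ← hb₀, hn, pow_add]; ring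
    have hr : r * algebraMap R' Rf (q h) ^ n = algebraMap R' Rf r₁ := by
      rw [hr₁, map_mul, map_pow, ← hr₀, hn, pow_add]; ring
    have h1 : algebraMap R Rsg (s b₁) = algebraMap R Rsg (t r₁) := by
      calc algebraMap R Rsg (s b₁) = sL (algebraMap B Bg b₁) := (hs' b₁).symm
        _ = sL b * algebraMap R Rsg (s (p h)) ^ n := by rw [← hb, map_mul, map_pow, hs']
        _ = tL r * algebraMap R Rsg (t (q h)) ^ n := by rw [hbr, hc']
        _ = tL (algebraMap R' Rf r₁) := by rw [← hr, map_mul, map_pow, ht']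
        _ = algebraMap R Rsg (t r₁) := ht' r₁
    obtain ⟨k, hk⟩ := IsLocalization.Away.exists_of_eq (s (p h)) h1
    have h2 : s (p h ^ k * b₁) = t (q h ^ k * r₁) := by
      rw [map_mul, map_mul, map_pow, map_pow, ← hc', hk]
    obtain ⟨x', hx'p, hx'q⟩ := hsurj _ _ h2
    obtain ⟨u, hu⟩ := (uh (n + k)).exists_left_inv
    refine ⟨algebraMap B' Bh x' * u, ?_, ?_⟩
    · apply (ug (n + k)).mul_left_injective
      change pL (algebraMap B' Bh x' * u) * algebraMap B Bg (p h) ^ (n + k) = b * algebraMap B Bg (p h) ^ (n + k)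
      have : pL (algebraMap B' Bh x' * u) * algebraMap B Bg (p h) ^ (n + k)
          = pL (algebraMap B' Bh x' * (u * algebraMap B' Bh h ^ (n + k))) := by
        simp only [map_mul, map_pow, hp']
        ring
      rw [this, hu, mul_one, hp', hx'p, map_mul, map_pow, ← hb, pow_add]; ring
    · apply (uf (n + k)).mul_left_injective
      change qL (algebraMap B' Bh x' * u) * algebraMap R' Rf (q h) ^ (n + k) = r * algebraMap R' Rf (q h) ^ (n + k)
      have : qL (algebraMap B' Bh x' * u) * algebraMap R' Rf (q h) ^ (n + k)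
          = qL (algebraMap B' Bh x' * (u * algebraMap B' Bh h ^ (n + k))) := by
        simp only [map_mul, map_pow, hq']
        ring
      rw [this, hu, mul_one, hq', hx'q, map_mul, map_pow, ← hr, pow_add]; ring

end Groth.Agent.S6934
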