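import Groth.Statements.S6936
import Groth.Agent.H28.PCohRing2

set_option autoImplicit false
universe u
open CategoryTheory CategoryTheory.Limits
attribute [local instance] HasDerivedCategory.standard
open DRing

namespace Groth.Agent.S6936

/-- Let R be a commutative ring, m an integer and K an object of D(R). If H^i(K) = 0 for every i > m +
1, H^(m+1)(K) is a finitely presented R-module and H^m(K) is a finitely generated R-module, then K
is m-pseudo-coherent. -/
theorem result (R : Type u) [CommRing R]
    (m : ℤ) (K : Dual.D R) (hvan : ∀ i : ℤ, m + 1 < i → Subsingleton (Dual.HD R K i))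
    (hfp : Module.FinitePresentation R (Dual.HD R K (m + 1))) (hfin : Module.Finite R (Dual.HD R K m)) :
    DRing.IsPseudoCoherent R m K := by
  have hql := Groth.Agent.H28.PCohRing.hql_finFree R
  have hqs := Groth.Agent.H28.PCohRing.hqs_finFree R
  have hsum := Groth.Agent.H28.PCohRing.finFree_prod R
  rw [Groth.Agent.H28.PCohRing.isPseudoCoherent_iff_isNPC]
  refine Groth.Agent.H28.PCohDev.isNPC_of_homology _ hql hsum hqs m 2 K ?_ ?_
  · intro i hi
    have := hvan i (by push_cast at hi; omega)
    exact ModuleCat.isZero_of_subsingleton _
  · intro i hi
    by_cases h0 : i = m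
    · subst h0
      rw [sub_self]
      exact (Groth.Agent.H28.PCohRing.isNPC_zero_single_iff R _).mpr hfin
    · by_cases h1 : i = m + 1
      · subst h1
        rw [show m - (m + 1) = -1 by omega]
        exact (Groth.Agent.H28.PCohRing.isNPC_negOne_single_iff R _).mpr hfp
      · have := hvan i (by omega)
        exact Groth.Agent.H28.PCohDev.isNPC_of_isZero _ _ _
          ((DerivedCategory.singleFunctor (ModuleCat.{u} R) 0).map_isZero
            (ModuleCat.isZero_of_subsingleton _))

end Groth.Agent.S6936
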