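import Groth.Statements.S6938
import Groth.Agent.H28.PCohRing

set_option autoImplicit false
universe u
open CategoryTheory CategoryTheory.Limits
attribute [local instance] HasDerivedCategory.standard
open DRing

namespace Groth.Agent.S6938

/-- Let R be a commutative ring, m an integer and K a bounded above cochain complex of R-modules. If the
module K^i is (m - i)-pseudo-coherent for every i, then K is m-pseudo-coherent in D(R). If every K^i
is a pseudo-coherent module, then K is pseudo-coherent. -/
theorem result (R : Type u) [CommRing R] (m : ℤ)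
    (K : DRing.Cx R) (b : ℤ) (hb : DRing.VanishesAbove K b) :
    ((∀ i : ℤ, DRing.IsPseudoCoherentModule R (m - i) (K.X i)) → DRing.IsPseudoCoherent R m (DRing.toD K)) ∧
      ((∀ i : ℤ, DRing.IsPseudoCoherentModule' R (K.X i)) → DRing.IsPseudoCoherent' R (DRing.toD K)) := by
  have hql := Groth.Agent.H28.PCohRing.hql_finFree R
  have hqs := Groth.Agent.H28.PCohRing.hqs_finFree R
  have hsum := Groth.Agent.H28.PCohRing.finFree_prod R
  have key : ∀ n : ℤ, (∀ i : ℤ, Groth.Agent.H28.PCohDer.IsNPC (Groth.Agent.H28.PCohRing.finFree R)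
      (n - i) ((DerivedCategory.singleFunctor (ModuleCat.{u} R) 0).obj (K.X i))) →
      Groth.Agent.H28.PCohDer.IsNPC (Groth.Agent.H28.PCohRing.finFree R) n (DRing.toD K) :=
    fun n h => Groth.Agent.H28.PCohDev.isNPC_of_terms _ hql hsum hqs n K b hb (fun i _ => h i)
  constructor
  · intro h
    rw [Groth.Agent.H28.PCohRing.isPseudoCoherent_iff_isNPC]
    refine key m (fun i => ?_)
    exact (Groth.Agent.H28.PCohRing.isPseudoCoherent_iff_isNPC R (m - i) _).mp (h i)
  · intro h
    rw [Groth.Agent.H28.PCohRing.isPseudoCoherent'_iff]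
    intro n
    refine key n (fun i => ?_)
    exact (Groth.Agent.H28.PCohRing.isPseudoCoherent'_iff R _).mp (h i) (n - i)

end Groth.Agent.S6938
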