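import Groth.Statements.S6939
import Groth.Agent.H28.PCohRing

set_option autoImplicit false
universe u
open CategoryTheory CategoryTheory.Limits
attribute [local instance] HasDerivedCategory.standard
open DRing

namespace Groth.Agent.S6939

/-- Let R be a commutative ring, m an integer and K an object of D(R) whose cohomology vanishes in large
degrees. If the module H^i(K) is (m - i)-pseudo-coherent for every i, then K is m-pseudo-coherent;
if every H^i(K) is a pseudo-coherent module, then K is pseudo-coherent. -/
theorem result (R : Type u) [CommRing R] (m : ℤ)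
    (K : Dual.D R) (hb : ∃ b : ℤ, ∀ i : ℤ, b < i → Subsingleton (Dual.HD R K i)) :
    ((∀ i : ℤ, DRing.IsPseudoCoherentModule R (m - i) (Dual.HD R K i)) → DRing.IsPseudoCoherent R m K) ∧
      ((∀ i : ℤ, DRing.IsPseudoCoherentModule' R (Dual.HD R K i)) → DRing.IsPseudoCoherent' R K) := by
  have hql := Groth.Agent.H28.PCohRing.hql_finFree R
  have hqs := Groth.Agent.H28.PCohRing.hqs_finFree R
  have hsum := Groth.Agent.H28.PCohRing.finFree_prod R
  obtain ⟨b, hb⟩ := hb
  have key : ∀ n : ℤ, (∀ i : ℤ, Groth.Agent.H28.PCohDer.IsNPC (Groth.Agent.H28.PCohRing.finFree R)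
      (n - i) ((DerivedCategory.singleFunctor (ModuleCat.{u} R) 0).obj
        ((DerivedCategory.homologyFunctor (ModuleCat.{u} R) i).obj K))) →
      Groth.Agent.H28.PCohDer.IsNPC (Groth.Agent.H28.PCohRing.finFree R) n K := by
    intro n h
    refine Groth.Agent.H28.PCohDev.isNPC_of_homology _ hql hsum hqs n (b - n + 1).toNat K ?_
      (fun i _ => h i)
    intro i hi
    have := hb i (by omega)
    exact ModuleCat.isZero_of_subsingleton _
  constructor
  · intro h
    rw [Groth.Agent.H28.PCohRing.isPseudoCoherent_iff_isNPC]
    refine key m (fun i => ?_)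
    exact (Groth.Agent.H28.PCohRing.isPseudoCoherent_iff_isNPC R (m - i) _).mp (h i)
  · intro h
    rw [Groth.Agent.H28.PCohRing.isPseudoCoherent'_iff]
    intro n
    refine key n (fun i => ?_)
    exact (Groth.Agent.H28.PCohRing.isPseudoCoherent'_iff R _).mp (h i) (n - i)

end Groth.Agent.S6939
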