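import Groth.Statements.S6941
import Groth.Agent.H28.PCohFlat

set_option autoImplicit false
universe u
open CategoryTheory CategoryTheory.Limits
attribute [local instance] HasDerivedCategory.standard
open DRing

namespace Groth.Agent.S6941

/-- Let R → R' be a faithfully flat homomorphism of commutative rings, K a cochain complex of R-modules
and m an integer. If the termwise base change K ⊗_R R' is m-pseudo-coherent in D(R'), then K is
m-pseudo-coherent in D(R); if K ⊗_R R' is pseudo-coherent, then K is pseudo-coherent. -/
theorem result {R R' : Type u} [CommRing R] [CommRing R']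
    [Algebra R R'] [Module.FaithfullyFlat R R'] (K : DRing.Cx R) (m : ℤ) :
    (DRing.IsPseudoCoherent R' m (DRing.toD (((ModuleCat.extendScalars (algebraMap R R')).mapHomologicalComplex
        (ComplexShape.up ℤ)).obj K)) → DRing.IsPseudoCoherent R m (DRing.toD K)) ∧
      (DRing.IsPseudoCoherent' R' (DRing.toD (((ModuleCat.extendScalars (algebraMap R R')).mapHomologicalComplex
        (ComplexShape.up ℤ)).obj K)) → DRing.IsPseudoCoherent' R (DRing.toD K)) := by
  have hφ : (algebraMap R R').FaithfullyFlat := RingHom.faithfullyFlat_algebraMap_iff.mpr inferInstance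
  have key : ∀ k : ℤ, DRing.IsPseudoCoherent R' k
      (DRing.toD (((ModuleCat.extendScalars (algebraMap R R')).mapHomologicalComplex
        (ComplexShape.up ℤ)).obj K)) → DRing.IsPseudoCoherent R k (DRing.toD K) := by
    intro k hk
    rw [Groth.Agent.H28.PCohRing.isPseudoCoherent_iff_isNPC] at hk ⊢
    exact Groth.Agent.H28.PCohFlat.isNPC_of_isNPC_extendScalars_family
      (ι := Unit) (B := fun _ => R') (fun _ => algebraMap R R') (fun _ => hφ.flat)
      (fun M hM => Groth.Agent.H28.PCohFlat.isZero_of_isZero_extendScalars _ hφ M (hM ()))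
      (fun M hM => Groth.Agent.H28.PCohFlat.finite_of_finite_extendScalars _ hφ M (hM ()))
      k K (fun _ => hk)
  refine ⟨key m, fun h => ?_⟩
  rw [Groth.Agent.H28.PCohRing.isPseudoCoherent'_iff] at h ⊢
  intro k
  exact (Groth.Agent.H28.PCohRing.isPseudoCoherent_iff_isNPC R k _).mp
    (key k ((Groth.Agent.H28.PCohRing.isPseudoCoherent_iff_isNPC R' k _).mpr (h k)))

end Groth.Agent.S6941
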