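import Mathlib
import Groth.Statements.S6944
import Groth.Agent.H35.KFTorInv

set_option autoImplicit false
universe u
open CategoryTheory CategoryTheory.Limits
attribute [local instance] HasDerivedCategory.standard
open DRing

namespace Groth.Agent.S6944

/-- Let R be a commutative ring and K a bounded above cochain complex of flat R-modules such that K, as
an object of D(R), has tor amplitude in [a, c] (it is isomorphic in D(R) to a complex of flat
modules vanishing outside [a, c]). Then the cokernel of the differential K^(a-1) → K^a is a flat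
R-module. -/
theorem result (R : Type u) [CommRing R] (K : DRing.Cx R) (b : ℤ)
    (hb : DRing.VanishesAbove K b) (hflat : DRing.TermwiseFlat K) (a c : ℤ)
    (hamp : DRing.HasTorAmplitudeIn R a c (DRing.toD K)) :
    Module.Flat R ((K.X a) ⧸ LinearMap.range (K.d (a - 1) a).hom) := by
  obtain ⟨E, hE, hEfl, ⟨e⟩⟩ := hamp
  have := hflat a
  refine Groth.Agent.H35.flat_coker_of_forall_exact (K.d (a - 2) (a - 1)).hom (K.d (a - 1) a).hom ?_ ?_
  · rw [← ModuleCat.hom_comp, K.d_comp_d]
    rfl
  · intro N _ _
    rw [← Groth.Agent.H35.KF.tensExactAt_iff_function_exact K N (a - 2) (a - 1) a (by omega) (by omega)]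
    rw [Groth.Agent.H35.KF.tensExactAt_iff_of_iso_Q K E b c hb (fun i hi => hE i (Or.inr hi)) hflat hEfl e.symm]
    exact Groth.Agent.H35.KF.tensExactAt_of_isZero E _ _ (hE _ (Or.inl (by omega)))

end Groth.Agent.S6944
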