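import Mathlib
import Groth.Statements.S6960
import Groth.Agent.H35.PerfectPC
import Groth.Agent.H35.TorAmpDescent
import Groth.Agent.H35.TorAmpGlDim
import Groth.Agent.S2087

set_option autoImplicit false
universe u
open CategoryTheory CategoryTheory.Limits
attribute [local instance] HasDerivedCategory.standard
open DRing

namespace Groth.Agent.S6960

/-- Let R be a commutative ring, f_1, ..., f_r elements generating the unit ideal and K a cochain
complex of R-modules. If for every i the termwise localization K ⊗_R R_(f_i) is a perfect object of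
D(R_(f_i)), then K is a perfect object of D(R). -/
theorem result {R : Type u} [CommRing R] {r : ℕ} (f : Fin r → R)
    (hf : Ideal.span (Set.range f) = ⊤) (K : DRing.Cx R)
    (hK : ∀ i, DRing.IsPerfect (Localization.Away (f i))
      (DRing.toD (((ModuleCat.extendScalars (algebraMap R (Localization.Away (f i)))).mapHomologicalComplex
        (ComplexShape.up ℤ)).obj K))) :
    DRing.IsPerfect R (DRing.toD K) := by
  have h1 := fun i =>
    (Groth.Agent.H35.KF.isPerfect_iff_isPseudoCoherent'_and_hasFiniteTorDimCx _).1 (hK i)
  rw [Groth.Agent.H35.KF.isPerfect_iff_isPseudoCoherent'_and_hasFiniteTorDimCx]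
  constructor
  · rw [Groth.Agent.H28.PCohRing.isPseudoCoherent'_iff]
    intro m
    rw [← Groth.Agent.H28.PCohRing.isPseudoCoherent_iff_isNPC]
    refine Groth.Agent.S2087.result f hf K m (fun i => ?_)
    rw [Groth.Agent.H28.PCohRing.isPseudoCoherent_iff_isNPC]
    exact (Groth.Agent.H28.PCohRing.isPseudoCoherent'_iff _ _).1 (h1 i).1 m
  · choose av bv hab using fun i => (h1 i).2
    obtain ⟨a, ha⟩ := (Set.finite_range av).bddBelow
    obtain ⟨b, hb⟩ := (Set.finite_range bv).bddAbove
    refine ⟨a, b, Groth.Agent.H35.LT.hasTorAmplitudeIn_of_localization_away_extCx f hf K a b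
      (fun k => ?_)⟩
    exact Groth.Agent.H35.KF.hasTorAmplitudeIn_mono _ _ _ _ _ (ha (Set.mem_range_self k))
      (hb (Set.mem_range_self k)) (hab k)

end Groth.Agent.S6960
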