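import Mathlib
import Groth.Statements.S6961
import Groth.Agent.H35.PerfectPC
import Groth.Agent.H35.TorAmpDescent
import Groth.Agent.S6941

set_option autoImplicit false
universe u
open CategoryTheory CategoryTheory.Limits
attribute [local instance] HasDerivedCategory.standard
open DRing

namespace Groth.Agent.S6961

/-- Let R → R' be a faithfully flat homomorphism of commutative rings and K a cochain complex of
R-modules. If the termwise base change K ⊗_R R' is a perfect object of D(R'), then K is a perfect
object of D(R). -/
theorem result {R R' : Type u} [CommRing R] [CommRing R'] [Algebra R R']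
    [Module.FaithfullyFlat R R'] (K : DRing.Cx R)
    (hK : DRing.IsPerfect R' (DRing.toD (((ModuleCat.extendScalars (algebraMap R R')).mapHomologicalComplex
        (ComplexShape.up ℤ)).obj K))) :
    DRing.IsPerfect R (DRing.toD K) := by
  obtain ⟨hpc, a, b, htor⟩ :=
    (Groth.Agent.H35.KF.isPerfect_iff_isPseudoCoherent'_and_hasFiniteTorDimCx _).1 hK
  rw [Groth.Agent.H35.KF.isPerfect_iff_isPseudoCoherent'_and_hasFiniteTorDimCx]
  exact ⟨(Groth.Agent.S6941.result K 0).2 hpc, a, b,
    Groth.Agent.H35.LT.hasTorAmplitudeIn_of_faithfullyFlat_extCx K a b htor⟩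

end Groth.Agent.S6961
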