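import Mathlib
import Groth.Statements.S6964
import Groth.Agent.H35.ProjAmpTFAE

set_option autoImplicit false
universe u
open CategoryTheory CategoryTheory.Limits
attribute [local instance] HasDerivedCategory.standard
open DRing

namespace Groth.Agent.S6964

/-- Let R be a commutative ring, K an object of D(R) and a, b integers. These four conditions are
equivalent: (1) the projective amplitude of K lies in [a, b], meaning K is isomorphic in D(R) to a
complex of projective R-modules vanishing outside [a, b]; (2) Hom(K, N[i]) = 0 in D(R) for every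
R-module N and every integer i outside [-b, -a]; (3) H^n(K) = 0 for all n > b and Hom(K, N[i]) = 0
for every R-module N and every i > -a; (4) H^n(K) = 0 for all n outside [a - 1, b] and Hom(K, N[-a +
1]) = 0 for every R-module N. -/
theorem result (R : Type u) [CommRing R] (K : Dual.D R) (a b : ℤ) :
    [∃ P : DRing.Cx R, DRing.VanishesOutside P a b ∧ (∀ i : ℤ, Module.Projective R (P.X i)) ∧
        Nonempty (DRing.toD P ≅ K),
      ∀ (N : Type u) [AddCommGroup N] [Module R N] (i : ℤ), (i < -b ∨ -a < i) →
        Subsingleton (DRing.ExtD R K (Dual.inD R N) i),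
      (∀ n : ℤ, b < n → Subsingleton (Dual.HD R K n)) ∧
        ∀ (N : Type u) [AddCommGroup N] [Module R N] (i : ℤ), -a < i → Subsingleton (DRing.ExtD R K (Dual.inD R N) i),
      (∀ n : ℤ, (n < a - 1 ∨ b < n) → Subsingleton (Dual.HD R K n)) ∧
        ∀ (N : Type u) [AddCommGroup N] [Module R N], Subsingleton (DRing.ExtD R K (Dual.inD R N) (-a + 1))].TFAE := by
  have h12 : (∃ P : DRing.Cx R, DRing.VanishesOutside P a b ∧
      (∀ i : ℤ, Module.Projective R (P.X i)) ∧ Nonempty (DRing.toD P ≅ K)) →
      ∀ (N : Type u) [AddCommGroup N] [Module R N] (i : ℤ), (i < -b ∨ -a < i) →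
        Subsingleton (DRing.ExtD R K (Dual.inD R N) i) := by
    rintro ⟨P, hP, hproj, ⟨e⟩⟩ N _ _ i hi
    have := Groth.Agent.H35.subsingleton_hom_shift_of_projective_amplitude P a b hP hproj
      (ModuleCat.of R N) i hi
    exact ⟨fun x y => (cancel_epi e.hom).mp (this.elim _ _)⟩
  -- common core of (3) → (1) and (4) → (1)
  have core : ∀ (P : DRing.Cx R), DRing.VanishesAbove P b →
      (∀ i : ℤ, Module.Projective R (P.X i)) → (DRing.toD P ≅ K) →
      (∀ j : ℤ, j < a - 1 → P.ExactAt j) →
      (∀ N : ModuleCat.{u} R, Subsingleton (K ⟶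
        ((DerivedCategory.singleFunctor (ModuleCat.{u} R) 0).obj N)⟦-a + 1⟧)) →
      ∃ P' : DRing.Cx R, DRing.VanishesOutside P' a b ∧
        (∀ i : ℤ, Module.Projective R (P'.X i)) ∧ Nonempty (DRing.toD P' ≅ K) := by
    intro P hb hP e hex hext
    obtain ⟨ψ, hψ⟩ := Groth.Agent.H35.exists_retraction_of_ext_vanishing P b hb hP (a - 1) a
      (by omega) (fun N => by
        have h0 : -(a - 1) = -a + 1 := by ring
        rw [h0]
        have := hext N
        exact ⟨fun x y => (cancel_epi e.inv).mp (this.elim _ _)⟩)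
    obtain ⟨P', hP', hproj', ⟨e'⟩⟩ := Groth.Agent.H35.exists_bounded_projective_of_exact P
      (a - 1) a b (by omega) hb hP (fun j hj => by
        by_cases h : j = a - 1
        · subst h
          exact Groth.Agent.H35.exactAt_of_retraction_fromOpcycles P (a - 1) a ψ hψ
        · exact hex j (by omega)) ψ hψ
    exact ⟨P', hP', hproj', ⟨e' ≪≫ e⟩⟩
  tfae_have 1 → 2 := h12
  tfae_have 2 → 3 := by
    intro h
    refine ⟨fun n hn => ?_, fun N _ _ i hi => h N i (Or.inr hi)⟩
    have := Groth.Agent.H35.isZero_homology_of_ext_vanishing K n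
      (fun N => h N (-n) (Or.inl (by omega)))
    exact ModuleCat.subsingleton_of_isZero this
  tfae_have 3 → 1 := by
    rintro ⟨h1, h2⟩
    obtain ⟨P, hb, hP, ⟨e⟩⟩ := Groth.Agent.H35.exists_projective_rep K b (fun n hn => by
      have := h1 n hn
      exact ModuleCat.isZero_of_subsingleton _)
    refine core P hb hP e (fun j hj => ?_) (fun N => h2 N (-a + 1) (by omega))
    obtain ⟨ψ', hψ'⟩ := Groth.Agent.H35.exists_retraction_of_ext_vanishing P b hb hP j (j + 1)
      rfl (fun N => by
        have := h2 N (-j) (by omega)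
        exact ⟨fun x y => (cancel_epi e.inv).mp (this.elim _ _)⟩)
    exact Groth.Agent.H35.exactAt_of_retraction_fromOpcycles P j (j + 1) ψ' hψ'
  tfae_have 1 → 4 := by
    intro h1
    refine ⟨fun n hn => ?_, fun N _ _ => h12 h1 N (-a + 1) (Or.inr (by omega))⟩
    obtain ⟨P, hP, hproj, ⟨e⟩⟩ := h1
    have hz : Limits.IsZero (P.X n) := hP n (by omega)
    have h2 : Limits.IsZero (P.homology n) :=
      (HomologicalComplex.exactAt_iff_isZero_homology _ _).mp
        (HomologicalComplex.ExactAt.of_isZero hz)
    exact ModuleCat.subsingleton_of_isZero (Limits.IsZero.of_iso h2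
      ((DerivedCategory.homologyFunctor (ModuleCat.{u} R) n).mapIso e.symm ≪≫
        (DerivedCategory.homologyFunctorFactors (ModuleCat.{u} R) n).app P))
  tfae_have 4 → 1 := by
    rintro ⟨h1, h2⟩
    obtain ⟨P, hb, hP, ⟨e⟩⟩ := Groth.Agent.H35.exists_projective_rep K b (fun n hn => by
      have := h1 n (Or.inr hn)
      exact ModuleCat.isZero_of_subsingleton _)
    refine core P hb hP e (fun j hj => ?_) (fun N => h2 N)
    have := h1 j (Or.inl hj)
    have hz : Limits.IsZero ((DerivedCategory.homologyFunctor (ModuleCat.{u} R) j).obj K) :=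
      ModuleCat.isZero_of_subsingleton _
    rw [HomologicalComplex.exactAt_iff_isZero_homology]
    exact Limits.IsZero.of_iso hz
      (((DerivedCategory.homologyFunctor (ModuleCat.{u} R) j).mapIso e.symm ≪≫
        (DerivedCategory.homologyFunctorFactors (ModuleCat.{u} R) j).app P).symm)
  tfae_finish

end Groth.Agent.S6964
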