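import Mathlib
import Groth.Statements.S6966
import Groth.Agent.H35.NearProj

set_option autoImplicit false
universe u
open CategoryTheory CategoryTheory.Limits
attribute [local instance] HasDerivedCategory.standard
open CAlg

namespace Groth.Agent.S6966

/-- Let R be a commutative ring, I an ideal of R and M an R-module. Then the following two conditions
coincide: for each a ∈ I, the endomorphism of M given by multiplication by a can be written as a
composite M → P → M with P some projective R-module; and for every R-module N and every a ∈ I, a
annihilates Ext^1_R(M, N) = Hom(M[0], N[1]) in D(R). -/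
theorem result (R : Type u) [CommRing R] (I : Ideal R) (M : Type u)
    [AddCommGroup M] [Module R M] :
    (∀ a ∈ I, ∃ (P : Type u) (_ : AddCommGroup P) (_ : Module R P) (_ : Module.Projective R P)
        (f : M →ₗ[R] P) (g : P →ₗ[R] M), g ∘ₗ f = a • LinearMap.id) ↔
      ∀ (N : Type u) [AddCommGroup N] [Module R N], ∀ a ∈ I,
        ∀ x : DRing.ExtD R (Dual.inD R M) (Dual.inD R N) 1, a • x = 0 := by
  constructor
  · intro H N _ _ a ha x
    obtain ⟨P, _, _, hP, f, g, hfg⟩ := H a ha
    have : Module.Projective R (ModuleCat.of R P) := hP
    refine Groth.Agent.H35.smul_ext_one_eq_zero_of_factor (ModuleCat.of R M) (ModuleCat.of R N)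
      (ModuleCat.of R P) a (ModuleCat.ofHom f) (ModuleCat.ofHom g) ?_ x
    rw [← ModuleCat.ofHom_comp, hfg]
    rfl
  · intro H a ha
    obtain ⟨s, hs⟩ := Groth.Agent.H35.exists_factor_of_smul_ext_one_eq_zero (ModuleCat.of R M) a
      (fun N x => H N a ha x)
    refine ⟨M →₀ R, inferInstance, inferInstance, inferInstance, s.hom,
      Finsupp.linearCombination R id, ?_⟩
    have := congrArg ModuleCat.Hom.hom hs
    exact this

end Groth.Agent.S6966
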