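import Groth.Statements.S6967
import Mathlib

set_option autoImplicit false
universe u
open CAlg

namespace Groth.Agent.S6967

/-- Let R be a commutative ring, I an ideal of R and 0 → K → P → M → 0 a short exact sequence of
R-modules with P projective. If multiplication by a on M factors through a projective R-module for
every a ∈ I, then multiplication by a on K factors through a projective R-module for every a ∈ I. -/
theorem result (R : Type u) [CommRing R] (I : Ideal R)
    {K P M : Type u} [AddCommGroup K] [Module R K] [AddCommGroup P] [Module R P] [Module.Projective R P]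
    [AddCommGroup M] [Module R M] (f : K →ₗ[R] P) (g : P →ₗ[R] M) (hf : Function.Injective f)
    (hg : Function.Surjective g) (hfg : LinearMap.range f = LinearMap.ker g)
    (hM : ∀ a ∈ I, ∃ (P : Type u) (_ : AddCommGroup P) (_ : Module R P) (_ : Module.Projective R P)
        (f : M →ₗ[R] P) (g : P →ₗ[R] M), g ∘ₗ f = a • LinearMap.id) :
    ∀ a ∈ I, ∃ (P : Type u) (_ : AddCommGroup P) (_ : Module R P) (_ : Module.Projective R P)
        (f : K →ₗ[R] P) (g : P →ₗ[R] K), g ∘ₗ f = a • LinearMap.id := by
  intro a ha
  obtain ⟨Q, _, _, hQ, φ, ψ, hψφ⟩ := hM a ha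
  obtain ⟨ψ', hψ'⟩ := Module.projective_lifting_property g ψ hg
  -- the endomorphism `a - ψ' φ g` of `P` lands in `range f`
  let δ : P →ₗ[R] P := a • LinearMap.id - ψ' ∘ₗ φ ∘ₗ g
  have hδ : ∀ x : P, δ x ∈ LinearMap.range f := by
    intro x
    rw [hfg, LinearMap.mem_ker]
    simp only [δ, LinearMap.sub_apply, LinearMap.smul_apply, LinearMap.id_coe, id_eq,
      LinearMap.coe_comp, Function.comp_apply, map_sub, map_smul]
    have h1 : g (ψ' (φ (g x))) = ψ (φ (g x)) := LinearMap.congr_fun hψ' (φ (g x))
    have h2 : ψ (φ (g x)) = a • g x := LinearMap.congr_fun hψφ (g x)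
    rw [h1, h2, sub_self]
  let e := LinearEquiv.ofInjective f hf
  let θ : P →ₗ[R] K := e.symm.toLinearMap ∘ₗ (δ.codRestrict (LinearMap.range f) hδ)
  have hθ : ∀ x : P, f (θ x) = δ x := by
    intro x
    have : e (θ x) = δ.codRestrict (LinearMap.range f) hδ x := e.apply_symm_apply _
    exact congrArg Subtype.val this
  refine ⟨P, inferInstance, inferInstance, inferInstance, f, θ, ?_⟩
  ext k
  apply hf
  simp only [LinearMap.coe_comp, Function.comp_apply, LinearMap.smul_apply, LinearMap.id_coe, id_eq]
  rw [hθ]
  have hgf : g (f k) = 0 := by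
    have : f k ∈ LinearMap.ker g := by rw [← hfg]; exact ⟨k, rfl⟩
    exact this
  simp only [δ, LinearMap.sub_apply, LinearMap.smul_apply, LinearMap.id_coe, id_eq,
    LinearMap.coe_comp, Function.comp_apply, hgf, map_zero, sub_zero, map_smul]

end Groth.Agent.S6967
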