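import Groth.Statements.S6969
import Mathlib

set_option autoImplicit false
universe u
open CAlg

namespace Groth.Agent.S6969

/-- Let R be a commutative ring and φ : M → N an R-linear map which factors through a projective
R-module. If M is finitely generated, then φ factors through a finitely generated projective
R-module. -/
theorem result (R : Type u) [CommRing R] {M N : Type u} [AddCommGroup M]
    [Module R M] [Module.Finite R M] [AddCommGroup N] [Module R N] (φ : M →ₗ[R] N)
    (h : ∃ (P : Type u) (_ : AddCommGroup P) (_ : Module R P) (_ : Module.Projective R P) (f : M →ₗ[R] P)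
      (g : P →ₗ[R] N), g ∘ₗ f = φ) :
    ∃ (P : Type u) (_ : AddCommGroup P) (_ : Module R P) (_ : Module.Projective R P) (_ : Module.Finite R P)
      (f : M →ₗ[R] P) (g : P →ₗ[R] N), g ∘ₗ f = φ := by
  classical
  obtain ⟨P, _, _, hP, f, g, hfg⟩ := h
  obtain ⟨s, hs⟩ := (Module.projective_def'.mp hP)
  -- finite generating set of M
  obtain ⟨T, hT⟩ := (Module.finite_def.mp (inferInstance : Module.Finite R M))
  -- the finite set of basis vectors involved
  let S : Finset P := T.biUnion fun m => (s (f m)).support
  have hrange : ∀ m : M, s (f m) ∈ Finsupp.supported R R (S : Set P) := by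
    intro m
    have hm : m ∈ Submodule.span R (T : Set M) := by rw [hT]; trivial
    induction hm using Submodule.span_induction with
    | mem x hx =>
      rw [Finsupp.mem_supported]
      intro p hp
      exact Finset.mem_biUnion.mpr ⟨x, hx, hp⟩
    | zero => simp
    | add x y _ _ hx hy => rw [map_add, map_add]; exact Submodule.add_mem _ hx hy
    | smul a x _ hx => rw [map_smul, map_smul]; exact Submodule.smul_mem _ a hx
  let P' := ↥(Finsupp.supported R R (S : Set P))
  let e : P' ≃ₗ[R] (S →₀ R) := Finsupp.supportedEquivFinsupp (S : Set P)
  have hproj : Module.Projective R P' := Module.Projective.of_equiv e.symm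
  have hfin : Module.Finite R P' := Module.Finite.equiv e.symm
  refine ⟨P', inferInstance, inferInstance, hproj, hfin,
    (s.comp f).codRestrict (Finsupp.supported R R (S : Set P)) hrange,
    g.comp ((Finsupp.linearCombination R id).comp (Finsupp.supported R R (S : Set P)).subtype), ?_⟩
  ext m
  have := LinearMap.congr_fun hs (f m)
  simp only [LinearMap.coe_comp, Function.comp_apply, LinearMap.id_coe, id_eq] at this
  change g ((Finsupp.linearCombination R id) (s (f m))) = φ m
  rw [this, ← hfg]
  rfl

end Groth.Agent.S6969
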