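import Groth.Statements.S6975
import Groth.Agent.H28.PCohLocal

set_option autoImplicit false
universe u
open CategoryTheory CategoryTheory.Limits
attribute [local instance] HasDerivedCategory.standard
open DRing

namespace Groth.Agent.S6975

/-- Let R be a local commutative ring with residue field κ such that the derived base change D(R) → D(κ)
exists, and let K be a pseudo-coherent object of D(R). If there is an integer a with H^i(K ⊗^L_R κ)
= 0 for all i < a, then K is perfect. -/
theorem result (R : Type u) [CommRing R] [IsLocalRing R]
    [DRing.HasLBaseChange (IsLocalRing.residue R)] (K : Dual.D R) (hK : DRing.IsPseudoCoherent' R K) (a : ℤ)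
    (h : ∀ i : ℤ, i < a → Subsingleton (Dual.HD (IsLocalRing.ResidueField R)
      ((DRing.LBaseChange (IsLocalRing.residue R)).obj K) i)) :
    DRing.IsPerfect R K := by
  obtain ⟨G, b, hG, hp, he⟩ :=
    Groth.Agent.H28.PCohLocal.exists_finProj_rep_of_fibre_vanishing_below K
      ((Groth.Agent.H28.PCohRing.isPseudoCoherent'_iff R K).mp hK) a
      (fun i hi => by
        have := h i hi
        exact ModuleCat.isZero_of_subsingleton _)
  exact ⟨G, a - 1, b, hG, hp, he⟩

end Groth.Agent.S6975
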