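import Groth.Statements.S6976
import Groth.Agent.H28.PCohPerf

set_option autoImplicit false
universe u
open CategoryTheory CategoryTheory.Limits
attribute [local instance] HasDerivedCategory.standard
open DRing

namespace Groth.Agent.S6976

/-- Let R be a commutative ring, K a pseudo-coherent object of D(R) and a, b integers. Then K is
isomorphic in D(R) to a complex of projective R-modules vanishing outside [a, b] if and only if K is
perfect with tor amplitude in [a, b]. -/
theorem result (R : Type u) [CommRing R]
    (K : Dual.D R) (hK : DRing.IsPseudoCoherent' R K) (a b : ℤ) :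
    (∃ P : DRing.Cx R, DRing.VanishesOutside P a b ∧ (∀ i : ℤ, Module.Projective R (P.X i)) ∧
        Nonempty (DRing.toD P ≅ K)) ↔ DRing.IsPerfect R K ∧ DRing.HasTorAmplitudeIn R a b K := by
  constructor
  · rintro ⟨P, hP, hproj, ⟨e⟩⟩
    have htor : DRing.HasTorAmplitudeIn R a b K :=
      ⟨P, hP, fun i => by have := hproj i; infer_instance, ⟨e⟩⟩
    obtain ⟨E, hE, hp, he⟩ := Groth.Agent.H28.PCohPerf.exists_finProj_rep R a b K
      ((Groth.Agent.H28.PCohRing.isPseudoCoherent'_iff R K).mp hK _) htor
    exact ⟨⟨E, a, b, hE, hp, he⟩, htor⟩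
  · rintro ⟨-, htor⟩
    obtain ⟨E, hE, hp, he⟩ := Groth.Agent.H28.PCohPerf.exists_finProj_rep R a b K
      ((Groth.Agent.H28.PCohRing.isPseudoCoherent'_iff R K).mp hK _) htor
    exact ⟨E, hE, fun i => (hp i).2, he⟩

end Groth.Agent.S6976
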