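import Groth.Statements.S6978
import Mathlib
import Groth.Agent.H89.CompactPerfect2

set_option autoImplicit false
universe u
open CategoryTheory CategoryTheory.Limits
attribute [local instance] HasDerivedCategory.standard
open DRing

namespace Groth.Agent.S6978

/-- Let R be a commutative ring and K an object of D(R). Then K is perfect if and only if K is a compact
object of D(R): for every family (E_i) of objects of D(R) indexed by a small type, the canonical map
from the direct sum of the Hom(K, E_i) to Hom(K, ⊕ E_i) is bijective. -/
theorem result (R : Type u) [CommRing R] (K : Dual.D R) :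
    DRing.IsPerfect R K ↔
      ∀ (I : Type u) (E : I → Dual.D R) [HasCoproduct fun i : ULift.{u + 1} I => E i.down],
        Function.Bijective (CohDer.homSumToHomCoprod K (fun i : ULift.{u + 1} I => E i.down)) := by
  rw [Groth.Agent.H89.SmallCompact.stCompact_iff_sc]
  exact ⟨Groth.Agent.H89.CompactPerfect.sc_of_isPerfect K,
    Groth.Agent.H89.CompactPerfect2.isPerfect_of_sc K⟩

end Groth.Agent.S6978
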