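import Groth.Statements.S6980
import Groth.Agent.H28.PCohTwoIdeals

set_option autoImplicit false
universe u
open CategoryTheory CategoryTheory.Limits
attribute [local instance] HasDerivedCategory.standard
open DRing

namespace Groth.Agent.S6980

/-- Let R be a commutative ring, I and J ideals of R such that the derived base changes D(R) → D(R/I),
D(R/J), D(R/IJ) exist, and K an object of D(R). If K ⊗^L_R R/I is perfect in D(R/I) and K ⊗^L_R R/J
is perfect in D(R/J), then K ⊗^L_R R/IJ is perfect in D(R/IJ). -/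
theorem result (R : Type u) [CommRing R] (I J : Ideal R)
    [DRing.HasLBaseChange (Ideal.Quotient.mk I)] [DRing.HasLBaseChange (Ideal.Quotient.mk J)]
    [DRing.HasLBaseChange (Ideal.Quotient.mk (I * J))] (K : Dual.D R)
    (hI : DRing.IsPerfect (R ⧸ I) ((DRing.LBaseChange (Ideal.Quotient.mk I)).obj K))
    (hJ : DRing.IsPerfect (R ⧸ J) ((DRing.LBaseChange (Ideal.Quotient.mk J)).obj K)) :
    DRing.IsPerfect (R ⧸ (I * J)) ((DRing.LBaseChange (Ideal.Quotient.mk (I * J))).obj K) := by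
  have hf₁ : DRing.HasLBaseChange (Ideal.Quotient.factor (Ideal.mul_le_left : I * J ≤ I)) :=
    Groth.Agent.H35.LT.hasLBaseChange _
  have hf₂ : DRing.HasLBaseChange (Ideal.Quotient.factor (Ideal.mul_le_right : I * J ≤ J)) :=
    Groth.Agent.H35.LT.hasLBaseChange _
  have hmem : ∀ (L : Ideal R) (hL : I * J ≤ L) (a : R ⧸ (I * J)),
      a ∈ RingHom.ker (Ideal.Quotient.factor hL) → ∃ x ∈ L, Ideal.Quotient.mk (I * J) x = a := by
    intro L hL a ha
    obtain ⟨x, rfl⟩ := Ideal.Quotient.mk_surjective a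
    refine ⟨x, ?_, rfl⟩
    rw [RingHom.mem_ker, Ideal.Quotient.factor_mk, Ideal.Quotient.eq_zero_iff_mem] at ha
    exact ha
  refine Groth.Agent.H28.PCohTwoIdeals.isPerfect_of_LBaseChange
    (Ideal.Quotient.factor (Ideal.mul_le_left : I * J ≤ I))
    (Ideal.Quotient.factor (Ideal.mul_le_right : I * J ≤ J))
    (Ideal.Quotient.factor_surjective _) (Ideal.Quotient.factor_surjective _) ?_ _ ?_ ?_
  · intro a ha b hb
    obtain ⟨x, hx, rfl⟩ := hmem I _ a ha
    obtain ⟨y, hy, rfl⟩ := hmem J _ b hb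
    rw [← map_mul, Ideal.Quotient.eq_zero_iff_mem]
    exact Ideal.mul_mem_mul hx hy
  · obtain ⟨e⟩ := Groth.Agent.H28.PCohTwoIdeals.LBaseChange_comp_iso' (Ideal.Quotient.mk (I * J))
      (Ideal.Quotient.factor (Ideal.mul_le_left : I * J ≤ I)) (Ideal.Quotient.mk I)
      (by ext x; rfl) K
    exact Groth.Agent.H35.isPerfect_of_iso _ e.symm hI
  · obtain ⟨e⟩ := Groth.Agent.H28.PCohTwoIdeals.LBaseChange_comp_iso' (Ideal.Quotient.mk (I * J))
      (Ideal.Quotient.factor (Ideal.mul_le_right : I * J ≤ J)) (Ideal.Quotient.mk J)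
      (by ext x; rfl) K
    exact Groth.Agent.H35.isPerfect_of_iso _ e.symm hJ

end Groth.Agent.S6980
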