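import Mathlib
import Groth.Statements.S6988
import Groth.Agent.H35.PseudoCohMap

set_option autoImplicit false
universe u
open CategoryTheory CategoryTheory.Limits
attribute [local instance] HasDerivedCategory.standard
open DRing

namespace Groth.Agent.S6988

/-- Let R be a commutative ring, K a pseudo-coherent object of D(R) and i an integer. Then some finitely
presented R-module M admits a morphism K → M[-i] in D(R) that is injective on H^i (here H^i(M[-i]) =
M). -/
theorem result (R : Type u) [CommRing R] (K : Dual.D R)
    (hK : DRing.IsPseudoCoherent' R K) (i : ℤ) :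
    ∃ (M : Type u) (_ : AddCommGroup M) (_ : Module R M) (_ : Module.FinitePresentation R M)
      (f : K ⟶ (shiftFunctor (Dual.D R) (-i)).obj (Dual.inD R M)),
      Mono ((DerivedCategory.homologyFunctor (ModuleCat.{u} R) i).map f) := by
  obtain ⟨E, b, hb, hff, ⟨e⟩⟩ := hK
  have hfp : Module.FinitePresentation R (E.opcycles i) := by
    have h1 := (hff (i - 1)).1
    have h2 := (hff i).1
    have h3 := (hff i).2
    exact Groth.Agent.H35.finitePresentation_opcycles E i h1
      (Module.finitePresentation_of_projective R _)
  have e' := Groth.Agent.H35.shiftSingleIso (E.opcycles i) (-i)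
  rw [neg_neg] at e'
  let φ := Groth.Agent.H35.toSingleOfCocycle E i (E.opcycles i) (E.pOpcycles i) (by simp)
  have hmono : Mono (HomologicalComplex.homologyMap φ i) :=
    Groth.Agent.H35.mono_homologyMap_toSingleOfCocycle_pOpcycles E i
  refine ⟨E.opcycles i, inferInstance, inferInstance, hfp,
    e.inv ≫ DerivedCategory.Q.map φ ≫ e'.inv, ?_⟩
  have nat := DerivedCategory.homologyFunctorFactors_hom_naturality φ i
  have h2 : Mono ((DerivedCategory.homologyFunctor (ModuleCat.{u} R) i).map
      (DerivedCategory.Q.map φ)) := by
    have hm : Mono ((DerivedCategory.homologyFunctorFactors (ModuleCat.{u} R) i).hom.app E ≫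
        HomologicalComplex.homologyMap φ i) :=
      mono_comp' (IsIso.mono_of_iso _) hmono
    rw [← nat] at hm
    exact @mono_of_mono _ _ _ _ _ _
      ((DerivedCategory.homologyFunctorFactors (ModuleCat.{u} R) i).hom.app _) hm
  rw [Functor.map_comp, Functor.map_comp]
  have h3 : Mono ((DerivedCategory.homologyFunctor (ModuleCat.{u} R) i).map
      (DerivedCategory.Q.map φ) ≫
      (DerivedCategory.homologyFunctor (ModuleCat.{u} R) i).map e'.inv) :=
    mono_comp' h2 (IsIso.mono_of_iso _)
  exact mono_comp' (IsIso.mono_of_iso _) h3

end Groth.Agent.S6988
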