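import Mathlib
import Groth.Statements.S6992
import Groth.Agent.H35.RelFP

set_option autoImplicit false
universe u
open CAlg

namespace Groth.Agent.S6992

/-- Let R be a commutative ring, A → B a finite homomorphism of finite type R-algebras, M a B-module,
and α : R[x_1, ..., x_n] → A, β : R[y_1, ..., y_k] → B surjective R-algebra homomorphisms. Then M is
finitely presented as an R[x_1, ..., x_n]-module through α and A → B (M is finitely presented
relative to R as an A-module) if and only if M is finitely presented as an R[y_1, ..., y_k]-module
through β (M is finitely presented relative to R as a B-module). -/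
theorem result {R A B : Type u} [CommRing R] [CommRing A] [CommRing B]
    [Algebra R A] [Algebra A B] [Algebra R B] [IsScalarTower R A B] [Algebra.FiniteType R A]
    [Algebra.FiniteType R B] [Module.Finite A B] (M : Type u) [AddCommGroup M] [Module B M] [Module A M]
    [IsScalarTower A B M] {n k : ℕ} (α : MvPolynomial (Fin n) R →ₐ[R] A) (hα : Function.Surjective α)
    (β : MvPolynomial (Fin k) R →ₐ[R] B) (hβ : Function.Surjective β) :
    @Module.FinitePresentation (MvPolynomial (Fin n) R) M _ _ (Module.compHom M α.toRingHom) ↔
      @Module.FinitePresentation (MvPolynomial (Fin k) R) M _ _ (Module.compHom M β.toRingHom) := by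
  -- the two `P`-module structures on `M` agree
  have hinst : (Module.compHom M α.toRingHom : Module (MvPolynomial (Fin n) R) M) =
      Module.compHom M ((algebraMap A B).comp α.toRingHom) := by
    apply Module.ext'
    intro r m
    exact (algebraMap_smul B (α r) m).symm
  rw [hinst]
  change Groth.Agent.H35.FPVia ((algebraMap A B).comp α.toRingHom) M ↔
    Groth.Agent.H35.FPVia β.toRingHom M
  let _ : Algebra (MvPolynomial (Fin n) R) A := α.toRingHom.toAlgebra
  let _ : Algebra (MvPolynomial (Fin n) R) B := ((algebraMap A B).comp α.toRingHom).toAlgebra
  have : IsScalarTower (MvPolynomial (Fin n) R) A B := IsScalarTower.of_algebraMap_eq fun _ => rfl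
  have : IsScalarTower R (MvPolynomial (Fin n) R) B := IsScalarTower.of_algebraMap_eq fun r => by
    change algebraMap R B r = algebraMap A B (α (algebraMap R _ r))
    rw [α.commutes, ← IsScalarTower.algebraMap_apply]
  have : Module.Finite (MvPolynomial (Fin n) R) A :=
    Module.Finite.of_surjective (Algebra.linearMap (MvPolynomial (Fin n) R) A) hα
  have : Module.Finite (MvPolynomial (Fin n) R) B := Module.Finite.trans A B
  obtain ⟨C, _, _, _, _, _, f, hf⟩ :=
    Module.Finite.exists_free_surjective (MvPolynomial (Fin n) R) B
  have : Module.FinitePresentation (MvPolynomial (Fin n) R) C :=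
    Module.finitePresentation_of_projective _ _
  let _ : Algebra R C := ((algebraMap (MvPolynomial (Fin n) R) C).comp
    (algebraMap R (MvPolynomial (Fin n) R))).toAlgebra
  have : IsScalarTower R (MvPolynomial (Fin n) R) C := IsScalarTower.of_algebraMap_eq fun _ => rfl
  have : Algebra.FinitePresentation R C :=
    Algebra.FinitePresentation.trans R (MvPolynomial (Fin n) R) C
  have h1 := Groth.Agent.H35.fpVia_finite_iff (M := M) f
  have h2 := Groth.Agent.H35.fpVia_indep (M := M) (f.restrictScalars R) hf β hβ
  exact h1.symm.trans h2

end Groth.Agent.S6992
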