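import Mathlib
import Groth.Statements.S7004
import Groth.Agent.H35.TruncSplit

set_option autoImplicit false
universe u
open CategoryTheory CategoryTheory.Limits
attribute [local instance] HasDerivedCategory.standard
open DRing

namespace Groth.Agent.S7004

/-- Let R be a commutative ring, a an integer and K an object of D(R) whose cohomology vanishes in large
degrees, such that Hom(K, M[-a]) = 0 in D(R) for every R-module M. Then K ≅ τ_(≤ a-1) K ⊕ τ_(≥ a+1)
K by an isomorphism carrying τ_(≤ a-1) K → K to the first inclusion and K → τ_(≥ a+1) K to the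
second projection, and τ_(≥ a+1) K is isomorphic in D(R) to a complex of projective modules
vanishing outside [a+1, b] for some integer b. (The published statement also asserts that the
decomposition is unique; that part is not restated.) -/
theorem result (R : Type u) [CommRing R] (a : ℤ) (K : Dual.D R)
    (hKb : ∃ b : ℤ, ∀ i : ℤ, b < i → Subsingleton (Dual.HD R K i))
    (h : ∀ (M : Type u) [AddCommGroup M] [Module R M],
      Subsingleton (K ⟶ (shiftFunctor (Dual.D R) (-a)).obj (Dual.inD R M)))
    [HasBinaryBiproduct (((DerivedCategory.TStructure.t : Triangulated.TStructure (Dual.D R)).truncLT a).obj K) (((DerivedCategory.TStructure.t : Triangulated.TStructure (Dual.D R)).truncGE (a + 1)).obj K)] :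
    (∃ e : K ≅ ((DerivedCategory.TStructure.t : Triangulated.TStructure (Dual.D R)).truncLT a).obj K ⊞ ((DerivedCategory.TStructure.t : Triangulated.TStructure (Dual.D R)).truncGE (a + 1)).obj K,
      ((DerivedCategory.TStructure.t : Triangulated.TStructure (Dual.D R)).truncLTι a).app K ≫ e.hom = biprod.inl ∧
        e.hom ≫ biprod.snd = ((DerivedCategory.TStructure.t : Triangulated.TStructure (Dual.D R)).truncGEπ (a + 1)).app K) ∧
      ∃ (P : DRing.Cx R) (b : ℤ), DRing.VanishesOutside P (a + 1) b ∧ (∀ i : ℤ, Module.Projective R (P.X i)) ∧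
        Nonempty (DRing.toD P ≅ ((DerivedCategory.TStructure.t : Triangulated.TStructure (Dual.D R)).truncGE (a + 1)).obj K) := by
  have hKb' : ∃ b : ℤ, ∀ i : ℤ, b < i →
      Limits.IsZero ((DerivedCategory.homologyFunctor (ModuleCat.{u} R) i).obj K) := by
    obtain ⟨b, hb⟩ := hKb
    exact ⟨b, fun i hi => by
      have := hb i hi
      exact ModuleCat.isZero_of_subsingleton _⟩
  have hH : Limits.IsZero ((DerivedCategory.homologyFunctor (ModuleCat.{u} R) a).obj K) :=
    Groth.Agent.H35.isZero_homology_of_ext_vanishing K a (fun N => h N)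
  obtain ⟨hP, hδ⟩ := Groth.Agent.H35.truncGE_projective_and_connecting_zero a K hKb'
    (fun M M' g hg => by
      have := h M
      exact Function.injective_of_subsingleton _)
  refine ⟨?_, ?_⟩
  · let t : Triangulated.TStructure (Dual.D R) := DerivedCategory.TStructure.t
    have hle : a ≤ a + 1 := by omega
    obtain ⟨e, h1, h2⟩ : ∃ e : K ≅ (t.truncLT (a + 1)).obj K ⊞ (t.truncGE (a + 1)).obj K,
        (t.truncLTι (a + 1)).app K ≫ e.hom = Limits.biprod.inl ∧
          (t.truncGEπ (a + 1)).app K = e.hom ≫ Limits.biprod.snd :=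
      Pretriangulated.exists_iso_binaryBiproduct_of_distTriang _
        (t.triangleLTGE_distinguished (a + 1) K) hδ
    have hj : IsIso ((t.natTransTruncLTOfLE a (a + 1) hle).app K) :=
      Groth.Agent.H35.isIso_natTransTruncLTOfLE_app K a hH
    let j : (t.truncLT a).obj K ≅ (t.truncLT (a + 1)).obj K :=
      asIso ((t.natTransTruncLTOfLE a (a + 1) hle).app K)
    have hι : j.hom ≫ (t.truncLTι (a + 1)).app K = (t.truncLTι a).app K :=
      t.natTransTruncLTOfLE_ι_app a (a + 1) hle K
    refine ⟨e ≪≫ Limits.biprod.mapIso j.symm (Iso.refl _), ?_, ?_⟩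
    · change (t.truncLTι a).app K ≫ e.hom ≫ Limits.biprod.map j.inv (𝟙 _) = _
      rw [← hι, Category.assoc, reassoc_of% h1, Limits.biprod.inl_map, Iso.hom_inv_id_assoc]
    · change (e.hom ≫ Limits.biprod.map j.inv (𝟙 _)) ≫ Limits.biprod.snd = _
      rw [Category.assoc, Limits.biprod.map_snd, Category.comp_id]
      exact h2.symm
  · obtain ⟨P, b, h1, h2, h3⟩ := hP
    exact ⟨P, b, h1, h2, h3⟩

end Groth.Agent.S7004
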