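import Mathlib
import Groth.Statements.S7002
import Groth.Agent.S7004
import Groth.Agent.H35.FibreSplit
import Groth.Agent.H35.PerfectPC
import Groth.Agent.H28.PCohSum

set_option autoImplicit false
universe u
open CategoryTheory CategoryTheory.Limits
attribute [local instance] HasDerivedCategory.standard
open DRing

namespace Groth.Agent.S7002

/-- Let R be a commutative ring, p a prime ideal of R with residue field κ(p), such that the derived
base change D(R) → D(κ(p)) exists; let i be an integer and K a cochain complex of R-modules which is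
pseudo-coherent in D(R) and satisfies H^i(K ⊗^L_R κ(p)) = 0. Then there is an element f ∈ R with f ∉
p such that, for the termwise localization K_f of K over R_f, the truncation τ_(≥ i+1) K_f is
perfect in D(R_f), its tor amplitude lying in [i+1, b] for some integer b, and K_f ≅ τ_(≥ i+1) K_f ⊕
τ_(≤ i-1) K_f in D(R_f) by an isomorphism carrying K_f → τ_(≥ i+1) K_f to the first projection and
τ_(≤ i-1) K_f → K_f to the second inclusion. -/
theorem result (R : Type u) [CommRing R]
    (p : Ideal R) [p.IsPrime] [DRing.HasLBaseChange (algebraMap R p.ResidueField)] (i : ℤ) (K : DRing.Cx R)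
    (hK : DRing.IsPseudoCoherent' R (DRing.toD K))
    (hi : Subsingleton (Dual.HD p.ResidueField ((DRing.LBaseChange (algebraMap R p.ResidueField)).obj (DRing.toD K)) i)) :
    ∃ f : R, f ∉ p ∧
      let Kf := DRing.toD (((ModuleCat.extendScalars (algebraMap R (Localization.Away f))).mapHomologicalComplex
        (ComplexShape.up ℤ)).obj K)
      let t := (DerivedCategory.TStructure.t : Triangulated.TStructure (Dual.D (Localization.Away f)))
      let Kge := (t.truncGE (i + 1)).obj Kf
      let Klt := (t.truncLT i).obj Kf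
      DRing.IsPerfect (Localization.Away f) Kge ∧
        (∃ b : ℤ, DRing.HasTorAmplitudeIn (Localization.Away f) (i + 1) b Kge) ∧
        ∀ [HasBinaryBiproduct Kge Klt], ∃ e : Kf ≅ Kge ⊞ Klt,
          e.hom ≫ biprod.fst = (t.truncGEπ (i + 1)).app Kf ∧ (t.truncLTι i).app Kf ≫ e.hom = biprod.inr := by
  obtain ⟨f, hf, hpc, hb, hsub⟩ :=
    Groth.Agent.H35.FibreSplit.exists_away_ext_vanishing R p i K hK hi
  refine ⟨f, hf, ?_⟩
  intro Kf t Kge Klt
  haveI inst0 : HasBinaryBiproduct Klt Kge := inferInstance
  haveI inst1 : HasBinaryBiproduct Kge Klt := inferInstance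
  obtain ⟨⟨e, he1, he2⟩, P, b', hP1, hP2, ⟨eP⟩⟩ :=
    Groth.Agent.S7004.result (Localization.Away f) i Kf hb hsub
  have htor : DRing.HasTorAmplitudeIn (Localization.Away f) (i + 1) b' Kge :=
    ⟨P, hP1, fun j => by
      have := hP2 j
      infer_instance, ⟨eP⟩⟩
  -- swapping the factors
  have swap : ∀ [HasBinaryBiproduct Kge Klt], ∃ e' : Kf ≅ Kge ⊞ Klt,
      e'.hom ≫ biprod.fst = (t.truncGEπ (i + 1)).app Kf ∧
        (t.truncLTι i).app Kf ≫ e'.hom = biprod.inr := by
    intro inst
    let σ : Klt ⊞ Kge ≅ Kge ⊞ Klt :=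
      { hom := biprod.lift biprod.snd biprod.fst
        inv := biprod.lift biprod.snd biprod.fst
        hom_inv_id := by
          apply biprod.hom_ext <;> simp
        inv_hom_id := by
          apply biprod.hom_ext <;> simp }
    refine ⟨e ≪≫ σ, ?_, ?_⟩
    · change (e.hom ≫ biprod.lift biprod.snd biprod.fst) ≫ biprod.fst = _
      rw [Category.assoc, biprod.lift_fst]
      exact he2
    · change (t.truncLTι i).app Kf ≫ e.hom ≫ biprod.lift biprod.snd biprod.fst = _
      rw [reassoc_of% he1]
      apply biprod.hom_ext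
      · rw [Category.assoc, biprod.lift_fst, biprod.inl_snd, biprod.inr_fst]
      · rw [Category.assoc, biprod.lift_snd, biprod.inl_fst, biprod.inr_snd]
  have hpcge : DRing.IsPseudoCoherent' (Localization.Away f) Kge := by
    obtain ⟨e', -, -⟩ := @swap inst1
    rw [Groth.Agent.H28.PCohRing.isPseudoCoherent'_iff] at hpc ⊢
    intro m
    exact Groth.Agent.H28.PCohSum.isNPC_left_of_biprod
      (Groth.Agent.H28.PCohRing.finFree (Localization.Away f))
      (Groth.Agent.H28.PCohRing.hql_finFree (Localization.Away f))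
      (Groth.Agent.H28.PCohRing.finFree_prod (Localization.Away f))
      (Groth.Agent.H28.PCohRing.hqs_finFree (Localization.Away f)) Kge Klt
      (Groth.Agent.H28.PCohDer.IsNPC.of_iso _ (hpc m) e')
  exact ⟨(Groth.Agent.H35.KF.isPerfect_iff_isPseudoCoherent'_and_hasFiniteTorDimCx Kge).2
    ⟨hpcge, i + 1, b', htor⟩, ⟨b', htor⟩, swap⟩

end Groth.Agent.S7002
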