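import Groth.Statements.S7015
import Mathlib

set_option autoImplicit false
universe u
open CategoryTheory MonoidalCategory
open DRing

namespace Groth.Agent.S7015

/-- dual basis lemma, in the form we need -/
theorem finite_projective_of_dualBasis {R : Type u} [CommRing R] {M : Type u} [AddCommGroup M] [Module R M]
    {ι : Type u} (S : Finset ι) (m : ι → M) (f : ι → (M →ₗ[R] R))
    (h : ∀ x : M, ∑ i ∈ S, f i x • m i = x) : Module.Finite R M ∧ Module.Projective R M := by
  classical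
  let a : M →ₗ[R] (S → R) := LinearMap.pi fun i => f i.1
  let b : (S → R) →ₗ[R] M := ∑ i : S, (LinearMap.proj i : (S → R) →ₗ[R] R).smulRight (m i.1)
  have hba : b ∘ₗ a = LinearMap.id := by
    ext x
    simp only [LinearMap.coe_comp, Function.comp_apply, LinearMap.id_coe, id_eq, b, a,
      LinearMap.coe_sum, Finset.sum_apply, LinearMap.smulRight_apply, LinearMap.proj_apply,
      LinearMap.pi_apply]
    rw [Finset.sum_coe_sort S (fun i => f i x • m i)]
    exact h x
  have hsurj : Function.Surjective b := fun x => ⟨a x, LinearMap.congr_fun hba x⟩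
  exact ⟨Module.Finite.of_surjective b hsurj, Module.Projective.of_split a b hba⟩

/-- Let R be a commutative ring and M, N R-modules such that N is a left dual of M for the tensor
product of R-modules, i.e. there are a coevaluation R → M ⊗ N and an evaluation N ⊗ M → R satisfying
the triangle identities (an exact pairing). Then M and N are finitely generated projective
R-modules. -/
theorem result (R : Type u) [CommRing R] (M N : Type u) [AddCommGroup M]
    [Module R M] [AddCommGroup N] [Module R N] [ExactPairing (ModuleCat.of R M) (ModuleCat.of R N)] :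
    Module.Finite R M ∧ Module.Projective R M ∧ Module.Finite R N ∧ Module.Projective R N := by
  classical
  let X := ModuleCat.of R M
  let Y := ModuleCat.of R N
  let η : 𝟙_ (ModuleCat R) ⟶ X ⊗ Y := η_ X Y
  let ε : Y ⊗ X ⟶ 𝟙_ (ModuleCat R) := ε_ X Y
  obtain ⟨S, hS⟩ := TensorProduct.exists_finset (R := R) (M := M) (N := N) (η.hom (1 : R))
  have hM : ∀ x : M, ∑ i ∈ S, (ε.hom (i.2 ⊗ₜ[R] x) : R) • i.1 = x := by
    intro x
    have h1 := ExactPairing.evaluation_coevaluation X Y
    have h2 := congrArg (fun φ => (ρ_ X).hom.hom (φ.hom ((1 : R) ⊗ₜ[R] x))) h1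
    simp only [ModuleCat.hom_comp, LinearMap.coe_comp, Function.comp_apply] at h2
    have e1 : (η_ X Y ▷ X).hom ((1 : R) ⊗ₜ[R] x) = (η.hom (1 : R)) ⊗ₜ[R] x := rfl
    have e2 : ∀ (a : M) (b : N), (ρ_ X).hom.hom ((X ◁ ε_ X Y).hom ((α_ X Y X).hom.hom ((a ⊗ₜ[R] b) ⊗ₜ[R] x)))
        = (ε.hom (b ⊗ₜ[R] x) : R) • a := by
      intro a b
      exact ModuleCat.MonoidalCategory.rightUnitor_hom_apply (M := X) a (ε.hom (b ⊗ₜ[R] x))
    have e3 : (ρ_ X).hom.hom ((ρ_ X).inv.hom ((λ_ X).hom.hom ((1 : R) ⊗ₜ[R] x))) = x := by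
      have : (λ_ X).hom.hom ((1 : R) ⊗ₜ[R] x) = x := by
        have := ModuleCat.MonoidalCategory.leftUnitor_hom_apply (M := X) (1 : R) x
        rw [one_smul] at this
        exact this
      rw [this]
      have h3 : (ρ_ X).inv ≫ (ρ_ X).hom = 𝟙 X := (ρ_ X).inv_hom_id
      exact congrArg (fun φ => φ.hom x) h3
    rw [e3, e1, hS, TensorProduct.sum_tmul, map_sum, map_sum, map_sum] at h2
    exact (Finset.sum_congr rfl fun i _ => (e2 i.1 i.2).symm).trans h2
  have hN : ∀ y : N, ∑ i ∈ S, (ε.hom (y ⊗ₜ[R] i.1) : R) • i.2 = y := by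
    intro y
    have h1 := ExactPairing.coevaluation_evaluation X Y
    have h2 := congrArg (fun φ => (λ_ Y).hom.hom (φ.hom (y ⊗ₜ[R] (1 : R)))) h1
    simp only [ModuleCat.hom_comp, LinearMap.coe_comp, Function.comp_apply] at h2
    have e1 : (Y ◁ η_ X Y).hom (y ⊗ₜ[R] (1 : R)) = y ⊗ₜ[R] (η.hom (1 : R)) := rfl
    have e2 : ∀ (a : M) (b : N), (λ_ Y).hom.hom ((ε_ X Y ▷ Y).hom ((α_ Y X Y).inv.hom (y ⊗ₜ[R] (a ⊗ₜ[R] b))))
        = (ε.hom (y ⊗ₜ[R] a) : R) • b := by
      intro a b
      exact ModuleCat.MonoidalCategory.leftUnitor_hom_apply (M := Y) (ε.hom (y ⊗ₜ[R] a)) b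
    have e3 : (λ_ Y).hom.hom ((λ_ Y).inv.hom ((ρ_ Y).hom.hom (y ⊗ₜ[R] (1 : R)))) = y := by
      have : (ρ_ Y).hom.hom (y ⊗ₜ[R] (1 : R)) = y := by
        have := ModuleCat.MonoidalCategory.rightUnitor_hom_apply (M := Y) y (1 : R)
        rw [one_smul] at this
        exact this
      rw [this]
      have h3 : (λ_ Y).inv ≫ (λ_ Y).hom = 𝟙 Y := (λ_ Y).inv_hom_id
      exact congrArg (fun φ => φ.hom y) h3
    rw [e3, e1, hS, TensorProduct.tmul_sum, map_sum, map_sum, map_sum] at h2
    exact (Finset.sum_congr rfl fun i _ => (e2 i.1 i.2).symm).trans h2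
  obtain ⟨h1, h2⟩ := finite_projective_of_dualBasis S (fun i => i.1)
    (fun i => ε.hom ∘ₗ (TensorProduct.mk R N M i.2)) hM
  obtain ⟨h3, h4⟩ := finite_projective_of_dualBasis S (fun i => i.2)
    (fun i => ε.hom ∘ₗ ((TensorProduct.mk R N M).flip i.1)) hN
  exact ⟨h1, h2, h3, h4⟩

end Groth.Agent.S7015
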