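import Mathlib
import Groth.Statements.S7017
import Groth.Agent.H35.PerfCx

set_option autoImplicit false
universe u
attribute [local instance] HasDerivedCategory.standard
open CategoryTheory CategoryTheory.Limits
open DRing

namespace Groth.Agent.S7017

open Groth.Agent.H35 DerivedCategory CategoryTheory.Pretriangulated in
/-- Pseudo-coherence is stable under shifts. -/
theorem shift_pc (R : Type u) [CommRing R] (K : Dual.D R) (n : ℤ)
    (h : DRing.IsPseudoCoherent' R K) : DRing.IsPseudoCoherent' R (K⟦n⟧) := by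
  obtain ⟨E, b, hb, hff, ⟨e⟩⟩ := h
  refine ⟨E⟦n⟧, b - n, ?_, ?_, ⟨QShiftIso E n ≪≫ (shiftFunctor (Dual.D R) n).mapIso e⟩⟩
  · intro i hi
    exact hb (i + n) (by omega)
  · intro i
    exact hff (i + n)

open Groth.Agent.H35 DerivedCategory CategoryTheory.Pretriangulated in
/-- Pseudo-coherence is stable under cones. -/
theorem cone_pc (R : Type u) [CommRing R] (T : Triangle (Dual.D R))
    (hT : T ∈ distinguishedTriangles) (h₁ : DRing.IsPseudoCoherent' R T.obj₁)
    (h₂ : DRing.IsPseudoCoherent' R T.obj₂) : DRing.IsPseudoCoherent' R T.obj₃ := by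
  obtain ⟨E₁, b₁, hb₁, hff₁, ⟨e₁⟩⟩ := h₁
  obtain ⟨E₂, b₂, hb₂, hff₂, ⟨e₂⟩⟩ := h₂
  have : E₁.IsKProjective := isKProjective_of_vanishesAbove E₁ b₁ hb₁ fun i =>
    have := (hff₁ i).2
    inferInstance
  obtain ⟨a, ⟨e₃⟩⟩ := exists_mappingCone_iso T hT E₁ E₂ e₁ e₂
  refine ⟨CochainComplex.mappingCone a, max b₁ b₂, ?_, ?_, ⟨e₃⟩⟩
  · intro i hi
    exact mappingCone_isZero a i (hb₁ _ (by omega)) (hb₂ _ (by omega))
  · intro i
    exact ⟨mappingCone_finite a i (hff₁ _).1 (hff₂ _).1, mappingCone_free a i (hff₁ _).2 (hff₂ _).2⟩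

open CategoryTheory.Pretriangulated in
/-- Let R be a commutative ring and K → L → M → K[1] a distinguished triangle in D(R). Whenever two of
K, L, M are pseudo-coherent (isomorphic in D(R) to bounded above complexes of finite free modules),
the remaining one is as well. -/
theorem result (R : Type u) [CommRing R] (T : Triangle (Dual.D R))
    (hT : T ∈ distinguishedTriangles) :
    (DRing.IsPseudoCoherent' R T.obj₁ → DRing.IsPseudoCoherent' R T.obj₂ → DRing.IsPseudoCoherent' R T.obj₃) ∧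
      (DRing.IsPseudoCoherent' R T.obj₁ → DRing.IsPseudoCoherent' R T.obj₃ → DRing.IsPseudoCoherent' R T.obj₂) ∧
      (DRing.IsPseudoCoherent' R T.obj₂ → DRing.IsPseudoCoherent' R T.obj₃ → DRing.IsPseudoCoherent' R T.obj₁) := by
  refine Groth.Agent.H35.two_out_of_three_of_cone (DRing.IsPseudoCoherent' R) ?_
    (shift_pc R) (cone_pc R) T hT
  rintro X Y e ⟨E, b, hb, hff, ⟨e'⟩⟩
  exact ⟨E, b, hb, hff, ⟨e' ≪≫ e⟩⟩

end Groth.Agent.S7017
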