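import Groth.Statements.S7039
import Mathlib

set_option autoImplicit false
universe u
open LocCoh

namespace Groth.Agent.S7039

/-- For a finitely generated ideal I of a commutative ring R and any R-module M, the quotient of M by
its submodule of I-power torsion elements has no nonzero element annihilated by I. -/
theorem result {R : Type u} [CommRing R] (I : Ideal R) (hI : I.FG)
    (M : Type u) [AddCommGroup M] [Module R M] :
    LocCoh.torsionBy I (M ⧸ DRing.torsionSub I M) = ⊥ := by
  classical
  rw [eq_bot_iff]
  intro y hy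
  obtain ⟨x, rfl⟩ := Submodule.Quotient.mk_surjective _ y
  rw [Submodule.mem_bot, Submodule.Quotient.mk_eq_zero]
  obtain ⟨S, hS⟩ := hI
  -- each generator times x is torsion
  have hgen : ∀ s ∈ S, ∃ n : ℕ, ∀ b ∈ I ^ n, b • (s • x) = 0 := by
    intro s hs
    have hsI : s ∈ I := by rw [← hS]; exact Submodule.subset_span hs
    have h1 : (⟨s, hsI⟩ : (I : Set R)) • (Submodule.Quotient.mk x : M ⧸ DRing.torsionSub I M) = 0 :=
      (Submodule.mem_torsionBySet_iff _ _).mp hy ⟨s, hsI⟩
    have h2 : (Submodule.Quotient.mk (s • x) : M ⧸ DRing.torsionSub I M) = 0 := by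
      rw [Submodule.Quotient.mk_smul]; exact h1
    rw [Submodule.Quotient.mk_eq_zero] at h2
    exact h2
  choose! n hn using hgen
  let N := S.sup n
  have hall : ∀ a ∈ I, ∀ b ∈ I ^ N, b • (a • x) = 0 := by
    intro a ha
    rw [← hS] at ha
    induction ha using Submodule.span_induction with
    | mem s hs =>
      intro b hb
      exact hn s hs b (Ideal.pow_le_pow_right (Finset.le_sup hs) hb)
    | zero => intro b _; simp
    | add c d _ _ hc hd => intro b hb; rw [add_smul, smul_add, hc b hb, hd b hb, add_zero]
    | smul r c _ hc => intro b hb; rw [smul_eq_mul, mul_smul, smul_comm b r, hc b hb, smul_zero]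
  refine ⟨N + 1, fun a ha => ?_⟩
  rw [pow_succ] at ha
  refine Submodule.mul_induction_on ha (fun b hb c hc => ?_) (fun c d hc hd => ?_)
  · rw [mul_smul]; exact hall c hc b hb
  · rw [add_smul, hc, hd, add_zero]

end Groth.Agent.S7039
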