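import Groth.Statements.S7040
import Mathlib

set_option autoImplicit false
universe u
open CategoryTheory
open LocCoh

namespace Groth.Agent.S7040

/-- For a finitely generated ideal I of a commutative ring R, the property of being an I-power torsion
module (every element killed by a power of I) is a Serre class in the category of R-modules: it
holds for 0 and is closed under subobjects, quotients and extensions. -/
theorem result {R : Type u} [CommRing R] (I : Ideal R) (hI : I.FG) :
    ObjectProperty.IsSerreClass (C := ModuleCat.{u} R) (fun M => LocCoh.IsPowerTorsion I M) := by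
  classical
  refine { exists_zero := ?_, prop_of_mono := ?_, prop_of_epi := ?_, prop_X₂_of_shortExact := ?_ }
  · refine ⟨ModuleCat.of R PUnit, ModuleCat.isZero_of_subsingleton _, ?_⟩
    intro m
    exact ⟨0, fun a _ => Subsingleton.elim _ _⟩
  · intro X Y f hf hY m
    obtain ⟨n, hn⟩ := hY (f m)
    refine ⟨n, fun a ha => ?_⟩
    have hinj : Function.Injective f := (ModuleCat.mono_iff_injective f).mp hf
    apply hinj
    rw [map_smul, hn a ha, map_zero]
  · intro X Y f hf hX m
    have hsurj : Function.Surjective f := (ModuleCat.epi_iff_surjective f).mp hf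
    obtain ⟨x, rfl⟩ := hsurj m
    obtain ⟨n, hn⟩ := hX x
    refine ⟨n, fun a ha => ?_⟩
    rw [← map_smul, hn a ha, map_zero]
  · intro S hS h₁ h₃ x
    obtain ⟨n, hn⟩ := h₃ (S.g x)
    have hex := (ShortComplex.moduleCat_exact_iff S).mp hS.exact
    have hinj : Function.Injective S.f := hS.moduleCat_injective_f
    obtain ⟨T, hT⟩ : (I ^ n).FG := Submodule.FG.pow hI n
    have hgen : ∀ s ∈ T, ∃ m : ℕ, ∀ b ∈ I ^ m, b • (s • x) = 0 := by
      intro s hs
      have hsI : s ∈ I ^ n := by rw [← hT]; exact Submodule.subset_span hs
      have h0 : S.g (s • x) = 0 := by rw [map_smul]; exact hn s hsI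
      obtain ⟨y, hy⟩ := hex (s • x) h0
      obtain ⟨m, hm⟩ := h₁ y
      refine ⟨m, fun b hb => ?_⟩
      rw [← hy, ← map_smul, hm b hb, map_zero]
    choose! m hm using hgen
    let N := T.sup m
    have hall : ∀ a ∈ I ^ n, ∀ b ∈ I ^ N, b • (a • x) = 0 := by
      intro a ha
      rw [← hT] at ha
      induction ha using Submodule.span_induction with
      | mem s hs =>
        intro b hb
        exact hm s hs b (Ideal.pow_le_pow_right (Finset.le_sup hs) hb)
      | zero => intro b _; simp
      | add c d _ _ hc hd => intro b hb; rw [add_smul, smul_add, hc b hb, hd b hb, add_zero]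
      | smul r c _ hc => intro b hb; rw [smul_eq_mul, mul_smul, smul_comm b r, hc b hb, smul_zero]
    refine ⟨N + n, fun a ha => ?_⟩
    rw [pow_add] at ha
    refine Submodule.mul_induction_on ha (fun b hb c hc => ?_) (fun c d hc hd => ?_)
    · rw [mul_smul]; exact hall c hc b hb
    · rw [add_smul, hc, hd, add_zero]

end Groth.Agent.S7040
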