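import Mathlib
import Groth.Statements.S7043
import Groth.Agent.H35.DerComplete

set_option autoImplicit false
universe u
attribute [local instance] HasDerivedCategory.standard
open DRing

namespace Groth.Agent.S7043

/-- Let f be an element of a commutative ring A and let M be an A-module which, placed in degree 0, is
derived complete with respect to the ideal (f). Then the ideal J = ⋂ f^n A annihilates the submodule
⋂ f^n M, which is the kernel of M → lim M/f^n M. (The case M = A says that J has square zero when A
itself is derived complete.) -/
theorem result {A : Type u} [CommRing A] (f : A)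
    (M : Type u) [AddCommGroup M] [Module A M]
    (hc : DRing.IsDerivedComplete (Ideal.span {f}) (Dual.inD A M)) :
    (⨅ n : ℕ, Ideal.span {f ^ n}) • (⨅ n : ℕ, (Ideal.span {f ^ n}) • (⊤ : Submodule A M)) = (⊥ : Submodule A M) := by
  rw [Groth.Agent.H35.isDerivedComplete_inD_iff] at hc
  have hinj := (hc f (Ideal.mem_span_singleton_self f)).1
  rw [eq_bot_iff, Submodule.smul_le]
  intro g hg x hx
  rw [Submodule.mem_bot]
  have hg' : ∀ n, ∃ a, a * f ^ n = g := fun n =>
    Ideal.mem_span_singleton'.mp ((Ideal.mem_iInf.mp hg) n)
  have hx' : ∀ n, ∃ y : M, f ^ n • y = x := by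
    intro n
    have := (Submodule.mem_iInf _).mp hx n
    rw [Submodule.ideal_span_singleton_smul, Submodule.mem_smul_pointwise_iff_exists] at this
    obtain ⟨y, -, hy⟩ := this
    exact ⟨y, hy⟩
  choose a ha using hg'
  choose y hy using hx'
  have hw : Groth.Agent.H35.Phi f M (fun n => a n • x) = 0 := by
    funext n
    simp only [Groth.Agent.H35.Phi_apply, Pi.zero_apply]
    rw [← mul_smul, ← sub_smul]
    conv_lhs => rw [← hy n]
    rw [← mul_smul]
    have : (a n - f * a (n + 1)) * f ^ n = 0 := by
      have h1 := ha n
      have h2 := ha (n + 1)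
      rw [pow_succ] at h2
      rw [sub_mul, h1]
      have : f * a (n + 1) * f ^ n = a (n + 1) * (f ^ n * f) := by ring
      rw [this, h2, sub_self]
    rw [this, zero_smul]
  have := hinj (hw.trans (map_zero _).symm)
  have h0 := congrFun this 0
  simp only [Pi.zero_apply] at h0
  have ha0 : a 0 = g := by simpa using ha 0
  rw [← ha0]
  exact h0

end Groth.Agent.S7043
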