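import Mathlib
import Groth.Statements.S7044
import Groth.Agent.H35.HenselDC

set_option autoImplicit false
universe u
attribute [local instance] HasDerivedCategory.standard
open DRing

namespace Groth.Agent.S7044

open Groth.Agent.H35 in
/-- If `Phi g A` is bijective then `1 - g` is a unit. -/
theorem isUnit_one_sub_of_Phi_bijective {A : Type u} [CommRing A] (g : A)
    (h : Function.Bijective (Phi g A)) : IsUnit (1 - g) := by
  obtain ⟨m, hm⟩ := h.2 (fun _ => 1)
  have hshift : (fun n => m (n + 1)) = m := by
    apply h.1
    rw [hm]
    funext n
    have := congrFun hm (n + 1)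
    simp only [Phi_apply] at this ⊢
    exact this
  have h0 := congrFun hm 0
  simp only [Phi_apply] at h0
  have h1 : m 1 = m 0 := congrFun hshift 0
  rw [zero_add, h1, smul_eq_mul] at h0
  exact IsUnit.of_mul_eq_one (a := 1 - g) (m 0) (by linear_combination h0)

/-- Let A be a commutative ring and I an ideal of A; if A, regarded as an object of D(A) sitting in
degree 0, is I-adically derived complete, then the pair (A, I) is henselian: I lies in the Jacobson
radical and simple roots modulo I of monic polynomials lift to roots in A. -/
theorem result {A : Type u} [CommRing A] (I : Ideal A)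
    (hc : DRing.IsDerivedComplete I (Dual.inD A A)) : HenselianRing A I := by
  rw [Groth.Agent.H35.isDerivedComplete_inD_iff] at hc
  refine Groth.Agent.H35.henselianRing_of_limits I ?_ ?_ ?_
  · intro x hx
    rw [Ideal.mem_jacobson_bot]
    intro y
    have hxy : -(x * y) ∈ I := (Ideal.neg_mem_iff _).mpr (I.mul_mem_right y hx)
    have := isUnit_one_sub_of_Phi_bijective _ (hc _ hxy)
    rw [sub_neg_eq_add, add_comm] at this
    exact this
  · intro c hcI x hx
    have := Groth.Agent.H35.exists_limit_of_Phi_surjective (M := A) {c}
      (fun f hf => by rw [Finset.mem_singleton] at hf; subst hf; exact (hc _ hcI).2) x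
    simp only [Finset.coe_singleton, smul_eq_mul, Ideal.mul_top] at this
    exact this hx
  · intro c hcI
    have := Groth.Agent.H35.iInf_smul_iInf_eq_bot_of_Phi_injective c A (hc c hcI).1
    simp only [smul_eq_mul, Ideal.mul_top] at this
    exact this

end Groth.Agent.S7044
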