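import Mathlib
import Groth.Statements.S7046
import Groth.Agent.H35.DerComplete2

set_option autoImplicit false
universe u
attribute [local instance] HasDerivedCategory.standard
open DRing

namespace Groth.Agent.S7046

/-- A reduced commutative ring A which, placed in degree 0 of D(A), is derived complete with respect to
a finitely generated ideal I is I-adically complete, i.e. separated and complete for the I-adic
topology. -/
theorem result {A : Type u} [CommRing A] [IsReduced A]
    (I : Ideal A) (hI : I.FG) (hc : DRing.IsDerivedComplete I (Dual.inD A A)) :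
    IsAdicComplete I A := by
  rw [Groth.Agent.H35.isDerivedComplete_inD_iff] at hc
  obtain ⟨s, rfl⟩ := hI
  have hpre : IsPrecomplete (Ideal.span (s : Set A)) A :=
    AdicCompletion.of_surjective_iff.mp
      (Groth.Agent.H35.adicCompletion_of_surjective_of_Phi s
        (fun f hf => (hc f (Ideal.subset_span hf)).2))
  have hJ := Groth.Agent.H35.iInf_pow_pow_eq_bot_aux s.card A s le_rfl hc
  have hhaus : IsHausdorff (Ideal.span (s : Set A)) A := by
    rw [isHausdorff_iff]
    intro x hx
    have hxJ : x ∈ ⨅ n : ℕ, (Ideal.span (s : Set A)) ^ n := by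
      rw [Ideal.mem_iInf]
      intro n
      have := hx n
      rw [SModEq.sub_mem, sub_zero, smul_eq_mul, Ideal.mul_top] at this
      exact this
    have : x ^ (2 ^ s.card) ∈ (⨅ n : ℕ, (Ideal.span (s : Set A)) ^ n) ^ (2 ^ s.card) :=
      Ideal.pow_mem_pow hxJ _
    rw [hJ, Ideal.mem_bot] at this
    exact IsReduced.eq_zero x ⟨_, this⟩
  exact { }

end Groth.Agent.S7046
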