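import Mathlib
import Groth.Statements.S7053
import Groth.Agent.H35.DerComplete

set_option autoImplicit false
universe u
attribute [local instance] HasDerivedCategory.standard
open DRing

namespace Groth.Agent.S7053

open Groth.Agent.H35

/-- If `g` acts surjectively on `M` and `Phi g M` is injective then `M = 0`. -/
theorem subsingleton_of_surjective_of_Phi_injective {A : Type u} [CommRing A] (g : A)
    (M : Type u) [AddCommGroup M] [Module A M] (hs : Function.Surjective (fun x : M => g • x))
    (hi : Function.Injective (Phi g M)) : Subsingleton M := by
  refine ⟨fun x y => ?_⟩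
  have key : ∀ x : M, x = 0 := by
    intro x₀
    let w : ℕ → M := fun n => Nat.rec x₀ (fun _ prev => Function.surjInv hs prev) n
    have hw : ∀ n, g • w (n + 1) = w n := fun n => Function.surjInv_eq hs (w n)
    have h0 : Phi g M w = 0 := by
      funext n
      rw [Phi_apply, hw, sub_self]
      rfl
    have := hi (h0.trans (map_zero _).symm)
    exact congrFun this 0
  rw [key x, key y]

theorem nakayama_aux {A : Type u} [CommRing A] (s : Finset A) :
    ∀ (M : Type u) [AddCommGroup M] [Module A M],
      (∀ f ∈ s, Function.Bijective (Phi f M)) →
      (Ideal.span (s : Set A)) • (⊤ : Submodule A M) = ⊤ → Subsingleton M := by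
  classical
  induction s using Finset.induction_on with
  | empty =>
    intro M _ _ _ h
    rw [Finset.coe_empty, Ideal.span_empty, Submodule.bot_smul] at h
    exact (Submodule.subsingleton_iff A).mp (subsingleton_of_bot_eq_top h)
  | insert g s' _ ih =>
    intro M _ _ hΦ h
    let u : M →ₗ[A] M := LinearMap.lsmul A M g
    have hN : Subsingleton (M ⧸ LinearMap.range u) := by
      apply ih
      · intro f hf
        have hf' := hΦ f (Finset.mem_insert_of_mem hf)
        exact (Phi_bijective_ker_coker f u hf' hf').2
      · rw [eq_top_iff]
        rintro y -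
        obtain ⟨x, rfl⟩ := (LinearMap.range u).mkQ_surjective y
        have hx : x ∈ (Ideal.span ((insert g s' : Finset A) : Set A)) • (⊤ : Submodule A M) := by
          rw [h]; trivial
        rw [Finset.coe_insert, Ideal.span_insert, Submodule.sup_smul, Submodule.mem_sup] at hx
        obtain ⟨x₁, hx₁, x₂, hx₂, rfl⟩ := hx
        rw [Submodule.ideal_span_singleton_smul, Submodule.mem_smul_pointwise_iff_exists] at hx₁
        obtain ⟨x₁', -, rfl⟩ := hx₁
        have h1 : (LinearMap.range u).mkQ (g • x₁') = 0 := by
          rw [Submodule.mkQ_apply, Submodule.Quotient.mk_eq_zero]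
          exact ⟨x₁', rfl⟩
        rw [map_add, h1, zero_add]
        have h2 : (LinearMap.range u).mkQ x₂ ∈
            Submodule.map (LinearMap.range u).mkQ
              (Ideal.span (s' : Set A) • (⊤ : Submodule A M)) :=
          Submodule.mem_map_of_mem hx₂
        rw [Submodule.map_smul'', Submodule.map_top, Submodule.range_mkQ] at h2
        exact h2
    have hsurj : Function.Surjective (fun x : M => g • x) := by
      intro y
      have : (LinearMap.range u).mkQ y = 0 := Subsingleton.elim _ _
      rw [Submodule.mkQ_apply, Submodule.Quotient.mk_eq_zero] at this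
      obtain ⟨x, hx⟩ := this
      exact ⟨x, hx⟩
    exact subsingleton_of_surjective_of_Phi_injective g M hsurj
      (hΦ g (Finset.mem_insert_self g s')).1

/-- For a commutative ring A, a finitely generated ideal I and an A-module M which, placed in degree 0
of D(A), is derived complete with respect to I, if IM = M then M = 0. -/
theorem result {A : Type u} [CommRing A] (I : Ideal A) (hI : I.FG)
    (M : Type u) [AddCommGroup M] [Module A M] (hc : DRing.IsDerivedComplete I (Dual.inD A M))
    (h : I • (⊤ : Submodule A M) = ⊤) : Subsingleton M := by
  rw [Groth.Agent.H35.isDerivedComplete_inD_iff] at hc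
  obtain ⟨s, rfl⟩ := hI
  exact nakayama_aux s M (fun f hf => hc f (Ideal.subset_span hf)) h

end Groth.Agent.S7053
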