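import Mathlib
import Groth.Statements.S7057
import Groth.Agent.H35.DerCompleteRestrict

set_option autoImplicit false
universe u
attribute [local instance] HasDerivedCategory.standard
open DRing

namespace Groth.Agent.S7057

open Groth.Agent.H35 CategoryTheory in
/-- For a homomorphism of commutative rings A → B, an ideal I of A and an object L of D(B), L is derived
complete with respect to the extended ideal IB if and only if L viewed in D(A) by restriction of
scalars is derived complete with respect to I. -/
theorem result {A B : Type u} [CommRing A] [CommRing B] (φ : A →+* B)
    (I : Ideal A) (L : Dual.D B) :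
    DRing.IsDerivedComplete (I.map φ) L ↔ DRing.IsDerivedComplete I ((DRing.restrictD φ).obj L) := by
  let E := DerivedCategory.Q.objPreimage L
  let e : DerivedCategory.Q.obj E ≅ L := DerivedCategory.Q.objObjPreimageIso L
  rw [← isDerivedComplete_iff_of_iso (I.map φ) e, isDerivedComplete_map_Q_iff]
  exact isDerivedComplete_iff_of_iso I
    (((ModuleCat.restrictScalars.{u} φ).mapDerivedCategoryFactors.app E).symm ≪≫
      (DRing.restrictD φ).mapIso e)

end Groth.Agent.S7057
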