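import Mathlib
import Groth.Statements.S7058
import Groth.Agent.H35.PowCx

set_option autoImplicit false
universe u
attribute [local instance] HasDerivedCategory.standard
open CategoryTheory
open DRing

namespace Groth.Agent.S7058

open Groth.Agent.H35 in
/-- Let A be a commutative ring, I a finitely generated ideal, and assume the derived completion functor
(left adjoint to the inclusion of derived complete objects of D(A)) exists. If K is a cochain
complex of A-modules and some f in I acts bijectively on every term of K, then the derived
completion of K is zero. -/
theorem result {A : Type u} [CommRing A] (I : Ideal A) (hI : I.FG)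
    [DRing.HasDerivedCompletion I] (K : DRing.Cx A) (f : A) (hf : f ∈ I)
    (hK : ∀ i : ℤ, Function.Bijective (fun x : K.X i => f • x)) :
    Limits.IsZero ((DRing.derivedCompletion I).obj (DRing.toD K)).obj := by
  -- `f` acts invertibly on the complex `K`
  have hiso : IsIso (f • 𝟙 K) := by
    have : ∀ i : ℤ, IsIso ((f • 𝟙 K : K ⟶ K).f i) := by
      intro i
      rw [ConcreteCategory.isIso_iff_bijective]
      exact hK i
    exact HomologicalComplex.Hom.isIso_of_components _
  set C := (DRing.derivedCompletion I).obj (DRing.toD K) with hC
  -- morphisms from `K` to the derived complete object `C` vanish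
  have h1 : Subsingleton (DRing.toD K ⟶ (ObjectProperty.ι (DRing.IsDerivedComplete I)).obj C) :=
    subsingleton_hom_of_isIso_smul f K C.obj (C.property f hf)
  have h2 : Subsingleton (C ⟶ C) :=
    ((DRing.derivedCompletionAdj I).homEquiv (DRing.toD K) C).subsingleton
  rw [Limits.IsZero.iff_id_eq_zero]
  have h3 : (𝟙 C : C ⟶ C) = ObjectProperty.homMk 0 := Subsingleton.elim _ _
  have := congrArg (fun φ : C ⟶ C => φ.hom) h3
  exact this

end Groth.Agent.S7058
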