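import Groth.Statements.S7062
import Groth.Agent.H9.GlueBasic

set_option autoImplicit false
universe u
open EtGlue

namespace Groth.Agent.S7062

/-- For a glueing pair (R → R', f), i.e. R/f^nR → R'/f^nR' is bijective for all n > 0 and the sequence 0
→ R → R' ⊕ R_f → R'_f → 0 is exact, the group Tor_1^R(R', f^n R) vanishes for every n > 0 (Tor
computed by resolving the second argument, the ideal f^n R). -/
theorem result {R R' : Type u} [CommRing R] [CommRing R'] [Algebra R R']
    (f : R) (h : EtGlue.IsGlueingPair R R' f) (n : ℕ) (hn : 0 < n) :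
    Subsingleton (DRing.Tor R 1 R' ↥(Ideal.span ({f ^ n} : Set R))) := by
  let e : ↥(Ideal.span ({f ^ n} : Set R)) := ⟨f ^ n, Ideal.mem_span_singleton_self _⟩
  let g : R →ₗ[R] ↥(Ideal.span ({f ^ n} : Set R)) := LinearMap.toSpanSingleton R _ e
  have hg : Function.Surjective g := by
    rintro ⟨y, hy⟩
    obtain ⟨a, rfl⟩ := Ideal.mem_span_singleton'.1 hy
    exact ⟨a, Subtype.ext (by simp [g, e])⟩
  have hS := LinearMap.shortExact_shortComplexKer hg
  have hP : CategoryTheory.Projective g.shortComplexKer.X₂ :=
    inferInstanceAs (CategoryTheory.Projective (ModuleCat.of R R))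
  have hT : ∀ t ∈ LinearMap.ker g, ∃ n : ℕ, f ^ n * t = 0 := by
    intro t ht
    refine ⟨n, ?_⟩
    have := congrArg Subtype.val (LinearMap.mem_ker.1 ht)
    simpa [g, e, mul_comm] using this
  have hz := (Groth.Agent.H9.isZero_tor_one_iff_injective hS (ModuleCat.of R R')).2
    (Groth.Agent.H9.glue_lTensor_subtype_injective h _ hT)
  exact ModuleCat.subsingleton_of_isZero hz

end Groth.Agent.S7062
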