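import Groth.Statements.S7064
import Groth.Agent.H9.GlueTor

set_option autoImplicit false
universe u
open EtGlue

namespace Groth.Agent.S7064

/-- For a glueing pair (R → R', f) and any R-module M, the group Tor_1^R(R', Coker(M → M_f)) vanishes,
where M_f is the localization of M at the powers of f (Tor computed by resolving the second
argument). -/
theorem result {R R' : Type u} [CommRing R] [CommRing R']
    [Algebra R R'] (f : R) (h : EtGlue.IsGlueingPair R R' f) (M : Type u) [AddCommGroup M] [Module R M] :
    Subsingleton (DRing.Tor R 1 R'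
      (LocalizedModule (Submonoid.powers f) M ⧸
        LinearMap.range (LocalizedModule.mkLinearMap (Submonoid.powers f) M))) := by
  refine ModuleCat.subsingleton_of_isZero
    (Groth.Agent.H9.glue_isZero_tor_one_of_powerTorsion h _ ?_)
  intro c
  obtain ⟨x, rfl⟩ := Submodule.mkQ_surjective _ c
  obtain ⟨⟨m, s⟩, rfl⟩ := IsLocalizedModule.mk'_surjective (Submonoid.powers f)
    (LocalizedModule.mkLinearMap (Submonoid.powers f) M) x
  obtain ⟨s, ⟨k, rfl⟩⟩ := s
  refine ⟨k, ?_⟩
  rw [← map_smul, Submodule.mkQ_apply, Submodule.Quotient.mk_eq_zero]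
  refine ⟨m, ?_⟩
  have := IsLocalizedModule.mk'_cancel' (LocalizedModule.mkLinearMap (Submonoid.powers f) M) m
    (⟨f ^ k, ⟨k, rfl⟩⟩ : Submonoid.powers f)
  rw [← this]
  rfl

end Groth.Agent.S7064
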