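import Groth.Statements.S7065
import Mathlib

set_option autoImplicit false
universe u
open EtGlue

namespace Groth.Agent.S7065

/-- Let R → R' be a homomorphism of commutative rings and f an element of R such that the induced map
R/fR → R'/fR' is bijective. Then Spec(R') ⊔ Spec(R_f) → Spec(R) is surjective: every prime of R is
the contraction of a prime of R' or of a prime of R_f. -/
theorem result {R R' : Type u} [CommRing R] [CommRing R']
    [Algebra R R'] (f : R)
    (hq : Function.Bijective
      (Ideal.quotientMap (Ideal.map (algebraMap R R') (Ideal.span {f})) (algebraMap R R') Ideal.le_comap_map))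
    (p : PrimeSpectrum R) :
    (∃ q : PrimeSpectrum R', PrimeSpectrum.comap (algebraMap R R') q = p) ∨
      ∃ q : PrimeSpectrum (Localization.Away f), PrimeSpectrum.comap (algebraMap R (Localization.Away f)) q = p := by
  by_cases hf : f ∈ p.asIdeal
  · left
    -- p comes from R/(f)
    have hp : p ∈ Set.range (PrimeSpectrum.comap (Ideal.Quotient.mk (Ideal.span {f}))) := by
      rw [range_comap_of_surjective _ _ Ideal.Quotient.mk_surjective,
        Ideal.mk_ker, PrimeSpectrum.mem_zeroLocus]
      intro x hx
      exact (Ideal.span_singleton_le_iff_mem _).mpr hf hx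
    obtain ⟨pbar, hpbar⟩ := hp
    let φ := Ideal.quotientMap (Ideal.map (algebraMap R R') (Ideal.span {f})) (algebraMap R R')
      Ideal.le_comap_map
    let e : (R ⧸ Ideal.span {f}) ≃+* (R' ⧸ Ideal.map (algebraMap R R') (Ideal.span {f})) :=
      RingEquiv.ofBijective φ hq
    let qbar : PrimeSpectrum (R' ⧸ Ideal.map (algebraMap R R') (Ideal.span {f})) :=
      PrimeSpectrum.comap (e.symm : _ →+* _) pbar
    refine ⟨PrimeSpectrum.comap (Ideal.Quotient.mk _) qbar, ?_⟩
    apply PrimeSpectrum.ext
    ext x
    have hx : x ∈ p.asIdeal ↔ Ideal.Quotient.mk (Ideal.span {f}) x ∈ pbar.asIdeal := by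
      rw [← hpbar]; rfl
    rw [hx]
    simp only [qbar, PrimeSpectrum.comap_asIdeal, Ideal.mem_comap]
    have h2 : Ideal.Quotient.mk (Ideal.map (algebraMap R R') (Ideal.span {f})) (algebraMap R R' x)
        = e (Ideal.Quotient.mk (Ideal.span {f}) x) := by
      rw [RingEquiv.ofBijective_apply, Ideal.quotientMap_mk]
    rw [h2]
    have : (e.symm : _ →+* _) (e (Ideal.Quotient.mk (Ideal.span {f}) x)) = Ideal.Quotient.mk (Ideal.span {f}) x :=
      e.symm_apply_apply _
    rw [this]
  · right
    have hp : p ∈ Set.range (PrimeSpectrum.comap (algebraMap R (Localization.Away f))) := by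
      rw [PrimeSpectrum.localization_away_comap_range (Localization.Away f) f]
      exact hf
    exact hp

end Groth.Agent.S7065
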