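import Mathlib
import Groth.Statements.S7074
import Groth.Agent.H35.RelPerfectFlat

set_option autoImplicit false
universe u
attribute [local instance] HasDerivedCategory.standard
open CategoryTheory
open Dual2

namespace Groth.Agent.S7074

/-- For a flat homomorphism of finite presentation R → A of commutative rings and an object K of D(A), K
is R-perfect (pseudo-coherent over A and of finite tor dimension over R) if and only if K is
isomorphic in D(A) to a bounded complex whose terms are finitely presented A-modules that are flat
as R-modules. -/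
theorem result (R A : Type u) [CommRing R] [CommRing A] [Algebra R A]
    [Module.Flat R A] [Algebra.FinitePresentation R A] (K : Dual.D A) :
    Dual2.IsRelPerfect R A K ↔
      ∃ (E : DRing.Cx A) (a b : ℤ), DRing.VanishesOutside E a b ∧
        (∀ i : ℤ, Module.FinitePresentation A (E.X i) ∧
          Module.Flat R ((ModuleCat.restrictScalars (algebraMap R A)).obj (E.X i))) ∧
        Nonempty (DRing.toD E ≅ K) := by
  constructor
  · intro h
    exact Groth.Agent.H35.RelPerfectFlat.exists_bounded_fp_flat_of_isRelPerfect R A K h
  · rintro ⟨E, a, b, hE, hterm, ⟨e⟩⟩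
    have h := Groth.Agent.H35.RelPerfectFlat.isRelPerfect_of_bounded_fp_flat R A E a b hE hterm
    obtain ⟨h1, a', b', h2⟩ := h
    refine ⟨Groth.Agent.H35.KF.isPseudoCoherent'_of_iso A e h1, a', b', ?_⟩
    obtain ⟨F, hF, hFfl, ⟨eF⟩⟩ := h2
    exact ⟨F, hF, hFfl, ⟨eF ≪≫ (DRing.restrictD (algebraMap R A)).mapIso e⟩⟩

end Groth.Agent.S7074
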