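import Mathlib
import Groth.Statements.S7075
import Groth.Agent.H35.BCSquareD
import Groth.Agent.H35.TorAmpCone

set_option autoImplicit false
universe u
attribute [local instance] HasDerivedCategory.standard
open TensorProduct
open Dual2

namespace Groth.Agent.S7075

/-- Let R → A be a flat homomorphism of finite presentation of commutative rings, R → R' any ring map
and A' = R' ⊗_R A. If K in D(A) is R-perfect then its derived base change K ⊗^L_A A' (the total left
derived functor of extension of scalars, assumed to exist) is R'-perfect in D(A'). -/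
theorem result (R A R' : Type u) [CommRing R] [CommRing A] [Algebra R A] [CommRing R'] [Algebra R R']
    [Module.Flat R A] [Algebra.FinitePresentation R A]
    [DRing.HasLBaseChange (Algebra.TensorProduct.includeRight.toRingHom : A →+* R' ⊗[R] A)]
    (K : Dual.D A) (hK : Dual2.IsRelPerfect R A K) :
    Dual2.IsRelPerfect R' (R' ⊗[R] A)
      ((DRing.LBaseChange (Algebra.TensorProduct.includeRight.toRingHom : A →+* R' ⊗[R] A)).obj K) := by
  have : DRing.HasLBaseChange (algebraMap R R') := Groth.Agent.H35.LT.hasLBaseChange _
  obtain ⟨hpc, a, b, hab⟩ := hK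
  refine ⟨Groth.Agent.H35.LT.isPseudoCoherent'_LBaseChange _ K hpc, a, b, ?_⟩
  obtain ⟨e⟩ := Groth.Agent.H35.BCSq.nonempty_restrictD_LBaseChange_iso R A R' K
  exact Groth.Agent.H35.KF.hasTorAmplitudeIn_of_iso e.symm a b
    (Groth.Agent.H35.LT.hasTorAmplitudeIn_LBaseChange (algebraMap R R') _ a b hab)

end Groth.Agent.S7075
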