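import Mathlib
import Groth.Statements.S7077
import Groth.Agent.H35.TwoTermExtMod

set_option autoImplicit false
universe u
attribute [local instance] HasDerivedCategory.standard
open CategoryTheory
open DRing

namespace Groth.Agent.S7077

/-- (1)⇔(2): let R be a commutative ring and K an object of D(R) whose cohomology modules vanish outside
degrees -1 and 0. Then H^{-1}(K) vanishes and H^0(K) is a projective R-module if and only if
Ext^1_R(K, M) = Hom_{D(R)}(K, M[1]) vanishes for every R-module M. -/
theorem result {R : Type u} [CommRing R] (K : Dual.D R)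
    (hK : ∀ i : ℤ, i ≠ -1 → i ≠ 0 → Subsingleton (Dual.HD R K i)) :
    (Subsingleton (Dual.HD R K (-1)) ∧ Module.Projective R (Dual.HD R K 0)) ↔
      ∀ (M : Type u) [AddCommGroup M] [Module R M], Subsingleton (K ⟶ (Dual.inD R M)⟦(1 : ℤ)⟧) := by
  constructor
  · rintro ⟨h1, hproj⟩ M _ _
    refine Groth.Agent.H35.subsingleton_hom_shift_one_of_projective K ?_ hproj (ModuleCat.of R M)
    intro i hi
    by_cases h : i = -1
    · subst h
      exact ModuleCat.isZero_of_subsingleton _
    · have := hK i h hi
      exact ModuleCat.isZero_of_subsingleton _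
  · intro H
    let H0 := Dual.HD R K 0
    let P : ModuleCat.{u} R := ModuleCat.of R (H0 →₀ R)
    let ψ : P →ₗ[R] H0 := Finsupp.linearCombination R id
    have hψ : Function.Surjective ψ := by
      intro x
      refine ⟨Finsupp.single x 1, ?_⟩
      change Finsupp.linearCombination R id (Finsupp.single x 1) = x
      rw [Finsupp.linearCombination_single, one_smul]
      rfl
    have hPP : Module.Projective R P := by dsimp [P]; infer_instance
    obtain ⟨N', g₀, ⟨e⟩⟩ := Groth.Agent.H35.exists_twoTermCx_iso K hK P ψ hψ
    have hE := Groth.Agent.H35.twoTermCx_vanishesOutside g₀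
    have hP : Module.Projective R ((Groth.Agent.H35.twoTermCx g₀).X 0) :=
      Groth.Agent.H35.projective_of_iso (Groth.Agent.H35.twoTermCxXZeroIso g₀).symm hPP
    obtain ⟨h, hh⟩ := Groth.Agent.H35.exists_factor_of_smul_eq_zero _ hE (1 : R) (by
      intro ξ
      rw [one_smul]
      have h0 : e.inv ≫ ξ = 0 := (H ((Groth.Agent.H35.twoTermCx g₀).X (-1))).elim _ _
      exact (cancel_epi e.inv).mp (by rw [h0, Limits.comp_zero]))
    rw [one_smul] at hh
    obtain ⟨hz, hpr⟩ := Groth.Agent.H35.homology_of_split _ hE hP h hh
    have eH : ∀ i : ℤ, (DerivedCategory.homologyFunctor (ModuleCat.{u} R) i).obj K ≅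
        (Groth.Agent.H35.twoTermCx g₀).homology i := fun i =>
      (DerivedCategory.homologyFunctor (ModuleCat.{u} R) i).mapIso e.symm ≪≫
        (DerivedCategory.homologyFunctorFactors (ModuleCat.{u} R) i).app _
    exact ⟨ModuleCat.subsingleton_of_isZero (Limits.IsZero.of_iso hz (eH (-1))),
      Groth.Agent.H35.projective_of_iso (eH 0).symm hpr⟩

end Groth.Agent.S7077
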