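import Mathlib
import Groth.Statements.S7078
import Groth.Agent.H35.TwoTermMod

set_option autoImplicit false
universe u
attribute [local instance] HasDerivedCategory.standard
open CategoryTheory
open DRing

namespace Groth.Agent.S7078

/-- For a commutative ring R and an object K of D(R) whose cohomology modules vanish outside degrees -1
and 0, K is represented by a two-term complex K^{-1} → K^0 with K^0 a free R-module. -/
theorem result {R : Type u} [CommRing R] (K : Dual.D R)
    (hK : ∀ i : ℤ, i ≠ -1 → i ≠ 0 → Subsingleton (Dual.HD R K i)) :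
    ∃ E : DRing.Cx R, DRing.VanishesOutside E (-1) 0 ∧ Module.Free R (E.X 0) ∧ Nonempty (DRing.toD E ≅ K) := by
  let H := Dual.HD R K 0
  let P : ModuleCat.{u} R := ModuleCat.of R (H →₀ R)
  let ψ : P →ₗ[R] H := Finsupp.linearCombination R id
  have hψ : Function.Surjective ψ := by
    intro x
    refine ⟨Finsupp.single x 1, ?_⟩
    change Finsupp.linearCombination R id (Finsupp.single x 1) = x
    rw [Finsupp.linearCombination_single, one_smul]
    rfl
  have : Module.Projective R P := by dsimp [P]; infer_instance
  obtain ⟨N, g₀, ⟨e⟩⟩ := Groth.Agent.H35.exists_twoTermCx_iso K hK P ψ hψ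
  refine ⟨Groth.Agent.H35.twoTermCx g₀, Groth.Agent.H35.twoTermCx_vanishesOutside g₀, ?_, ⟨e⟩⟩
  have : Module.Free R P := by dsimp [P]; infer_instance
  exact Groth.Agent.H35.free_of_iso (Groth.Agent.H35.twoTermCxXZeroIso g₀).symm this

end Groth.Agent.S7078
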