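import Mathlib
import Groth.Statements.S7079
import Groth.Agent.H35.TwoTermMod

set_option autoImplicit false
universe u
attribute [local instance] HasDerivedCategory.standard
open CategoryTheory
open DRing

namespace Groth.Agent.S7079

/-- For a Noetherian commutative ring R and an object K of D(R) whose cohomology modules vanish outside
degrees -1 and 0 and are finite modules in those two degrees, K is represented by a two-term complex
K^{-1} → K^0 with K^0 finite free and K^{-1} finite. -/
theorem result {R : Type u} [CommRing R] [IsNoetherianRing R] (K : Dual.D R)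
    (hK : ∀ i : ℤ, i ≠ -1 → i ≠ 0 → Subsingleton (Dual.HD R K i))
    (h1 : Module.Finite R (Dual.HD R K (-1))) (h0 : Module.Finite R (Dual.HD R K 0)) :
    ∃ E : DRing.Cx R, DRing.VanishesOutside E (-1) 0 ∧ Module.Free R (E.X 0) ∧ Module.Finite R (E.X 0) ∧
      Module.Finite R (E.X (-1)) ∧ Nonempty (DRing.toD E ≅ K) := by
  obtain ⟨n, f, hf⟩ := Module.Finite.exists_fin' R (Dual.HD R K 0)
  let P : ModuleCat.{u} R := ModuleCat.of R (Fin n → R)
  have : Module.Projective R P := by dsimp [P]; infer_instance
  obtain ⟨N, g₀, ⟨e⟩⟩ := Groth.Agent.H35.exists_twoTermCx_iso K hK P f hf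
  have hfree : Module.Free R P := by dsimp [P]; infer_instance
  have hfin : Module.Finite R P := by dsimp [P]; infer_instance
  have h0' : Module.Finite R ((Groth.Agent.H35.twoTermCx g₀).X 0) :=
    Groth.Agent.H35.finite_of_iso (Groth.Agent.H35.twoTermCxXZeroIso g₀).symm hfin
  refine ⟨Groth.Agent.H35.twoTermCx g₀, Groth.Agent.H35.twoTermCx_vanishesOutside g₀,
    Groth.Agent.H35.free_of_iso (Groth.Agent.H35.twoTermCxXZeroIso g₀).symm hfree, h0', ?_, ⟨e⟩⟩
  refine Groth.Agent.H35.finite_X_negOne_of_finite_homology _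
    (Groth.Agent.H35.twoTermCx_vanishesOutside g₀ (-2) (Or.inl (by omega))) h0' ?_
  exact Groth.Agent.H35.finite_of_iso
    ((DerivedCategory.homologyFunctor (ModuleCat.{u} R) (-1)).mapIso e.symm ≪≫
      (DerivedCategory.homologyFunctorFactors (ModuleCat.{u} R) (-1)).app _) h1

end Groth.Agent.S7079
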