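import Mathlib
import Groth.Statements.S7081
import Groth.Agent.H35.TwoTerm

set_option autoImplicit false
universe u
attribute [local instance] HasDerivedCategory.standard
open CategoryTheory
open DRing

namespace Groth.Agent.S7081

/-- Let R be a commutative ring and φ : K₁ → K₂, ψ : K₂ → K₃ morphisms in D(R) between objects whose
cohomology vanishes outside degrees -1 and 0. If φ induces the zero map on H^0 and ψ induces the
zero map on H^{-1}, then the composite K₁ → K₃ is zero. -/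
theorem result {R : Type u} [CommRing R] {K₁ K₂ K₃ : Dual.D R}
    (φ : K₁ ⟶ K₂) (ψ : K₂ ⟶ K₃)
    (h₁ : ∀ i : ℤ, i ≠ -1 → i ≠ 0 → Subsingleton (Dual.HD R K₁ i))
    (h₂ : ∀ i : ℤ, i ≠ -1 → i ≠ 0 → Subsingleton (Dual.HD R K₂ i))
    (h₃ : ∀ i : ℤ, i ≠ -1 → i ≠ 0 → Subsingleton (Dual.HD R K₃ i))
    (hφ : (DerivedCategory.homologyFunctor (ModuleCat.{u} R) 0).map φ = 0)
    (hψ : (DerivedCategory.homologyFunctor (ModuleCat.{u} R) (-1)).map ψ = 0) :
    φ ≫ ψ = 0 := by
  have hLE : ∀ (K : Dual.D R), (∀ i : ℤ, i ≠ -1 → i ≠ 0 → Subsingleton (Dual.HD R K i)) →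
      K.IsLE 0 := by
    intro K hK
    rw [DerivedCategory.isLE_iff]
    intro i hi
    have := hK i (by omega) (by omega)
    exact ModuleCat.isZero_of_subsingleton _
  have hGE : ∀ (K : Dual.D R), (∀ i : ℤ, i ≠ -1 → i ≠ 0 → Subsingleton (Dual.HD R K i)) →
      K.IsGE (-1) := by
    intro K hK
    rw [DerivedCategory.isGE_iff]
    intro i hi
    have := hK i (by omega) (by omega)
    exact ModuleCat.isZero_of_subsingleton _
  have := hLE K₁ h₁
  have := hLE K₂ h₂
  have := hGE K₂ h₂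
  have := hGE K₃ h₃
  exact Groth.Agent.H35.comp_eq_zero_of_homology_zero φ ψ 0 (-1) (by omega) hφ hψ

end Groth.Agent.S7081
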