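import Mathlib
import Groth.Statements.S7082
import Groth.Agent.H35.TwoTermExtMod

set_option autoImplicit false
universe u
attribute [local instance] HasDerivedCategory.standard
open CategoryTheory
open DRing

namespace Groth.Agent.S7082

/-- (1)⇔(3): let R be a commutative ring, I an ideal and K an object of D(R) whose cohomology vanishes
outside degrees -1 and 0. Then I annihilates Ext^1_R(K, N) = Hom_{D(R)}(K, N[1]) for every R-module
N if and only if, for every two-term complex E in degrees -1 and 0 with E^0 projective that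
represents K, and every a in I, multiplication by a on E^{-1} factors through the differential
E^{-1} → E^0. -/
theorem result {R : Type u} [CommRing R] (I : Ideal R) (K : Dual.D R)
    (hK : ∀ i : ℤ, i ≠ -1 → i ≠ 0 → Subsingleton (Dual.HD R K i)) :
    (∀ (N : Type u) [AddCommGroup N] [Module R N] (a : R), a ∈ I →
        ∀ ξ : K ⟶ (Dual.inD R N)⟦(1 : ℤ)⟧, a • ξ = 0) ↔
      ∀ (E : DRing.Cx R), DRing.VanishesOutside E (-1) 0 → Module.Projective R (E.X 0) →
        Nonempty (DRing.toD E ≅ K) → ∀ a : R, a ∈ I →
          ∃ h : E.X 0 ⟶ E.X (-1), E.d (-1) 0 ≫ h = a • 𝟙 (E.X (-1)) := by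
  constructor
  · intro H E hE hP ⟨e⟩ a ha
    refine Groth.Agent.H35.exists_factor_of_smul_eq_zero E hE a ?_
    intro ξ
    have h1 := H (E.X (-1)) a ha (e.inv ≫ ξ)
    rw [← Linear.comp_smul] at h1
    exact (cancel_epi e.inv).mp (by rw [h1, Limits.comp_zero])
  · intro H N _ _ a ha ξ
    let H0 := Dual.HD R K 0
    let P : ModuleCat.{u} R := ModuleCat.of R (H0 →₀ R)
    let ψ : P →ₗ[R] H0 := Finsupp.linearCombination R id
    have hψ : Function.Surjective ψ := by
      intro x
      refine ⟨Finsupp.single x 1, ?_⟩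
      change Finsupp.linearCombination R id (Finsupp.single x 1) = x
      rw [Finsupp.linearCombination_single, one_smul]
      rfl
    have hPP : Module.Projective R P := by dsimp [P]; infer_instance
    obtain ⟨N', g₀, ⟨e⟩⟩ := Groth.Agent.H35.exists_twoTermCx_iso K hK P ψ hψ
    have hE := Groth.Agent.H35.twoTermCx_vanishesOutside g₀
    have hP : Module.Projective R ((Groth.Agent.H35.twoTermCx g₀).X 0) :=
      Groth.Agent.H35.projective_of_iso (Groth.Agent.H35.twoTermCxXZeroIso g₀).symm hPP
    obtain ⟨h, hh⟩ := H _ hE hP ⟨e⟩ a ha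
    have h1 := Groth.Agent.H35.smul_eq_zero_of_factor _ hE hP a h hh (ModuleCat.of R N)
      (e.hom ≫ ξ)
    rw [← Linear.comp_smul] at h1
    exact (cancel_epi e.hom).mp (by rw [h1, Limits.comp_zero])

end Groth.Agent.S7082
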