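import Groth.Statements.S7085
import Mathlib

set_option autoImplicit false
universe u
open LocCoh

namespace Groth.Agent.S7085

theorem mem_tors_iff {R : Type u} [CommRing R] (J : Ideal R) (M : Type u) [AddCommGroup M] [Module R M]
    (m : M) : m ∈ LocCoh.torsionBy J M ↔ ∀ a ∈ J, a • m = 0 := by
  rw [Submodule.mem_torsionBySet_iff]
  exact ⟨fun h a ha => h ⟨a, ha⟩, fun h a => h a.1 a.2⟩

theorem tors_eq_bot_iff {R : Type u} [CommRing R] (J : Ideal R) (M : Type u) [AddCommGroup M] [Module R M] :
    LocCoh.torsionBy J M = ⊥ ↔ ∀ m : M, (∀ a ∈ J, a • m = 0) → m = 0 := by
  rw [eq_bot_iff]
  constructor
  · intro h m hm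
    have := h ((mem_tors_iff J M m).mpr hm)
    simpa using this
  · intro h m hm
    rw [Submodule.mem_bot]
    exact h m ((mem_tors_iff J M m).mp hm)

/-- Let R be a commutative ring, I an ideal generated by finitely many elements f_1, …, f_t, and M an
R-module. Then: M has no nonzero element killed by I if and only if it has no nonzero element killed
by I^n for every n ≥ 1; and M has no nonzero element killed by I if and only if an element of M
vanishing in every localization M_{f_i} is zero. -/
theorem result {R : Type u} [CommRing R] {t : ℕ} (f : Fin t → R)
    (I : Ideal R) (hI : Ideal.span (Set.range f) = I) (M : Type u) [AddCommGroup M] [Module R M] :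
    (LocCoh.torsionBy I M = ⊥ ↔ ∀ n : ℕ, 1 ≤ n → LocCoh.torsionBy (I ^ n) M = ⊥) ∧
    (LocCoh.torsionBy I M = ⊥ ↔
      ∀ m : M, (∀ i : Fin t, LocalizedModule.mkLinearMap (Submonoid.powers (f i)) M m = 0) → m = 0) := by
  constructor
  · constructor
    · intro h n hn
      rw [tors_eq_bot_iff] at h ⊢
      induction n, hn using Nat.le_induction with
      | base => simpa using h
      | succ n hn ih =>
        intro m hm
        apply ih
        intro b hb
        apply h
        intro a ha
        rw [← mul_smul]
        apply hm
        rw [pow_succ']
        exact Ideal.mul_mem_mul ha hb
    · intro h
      simpa using h 1 le_rfl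
  · rw [tors_eq_bot_iff]
    constructor
    · intro h m hm
      -- exponents killing m
      have hex : ∀ i : Fin t, ∃ k : ℕ, f i ^ k • m = 0 := by
        intro i
        obtain ⟨⟨s, ⟨k, rfl⟩⟩, hs⟩ := (IsLocalizedModule.eq_zero_iff (Submonoid.powers (f i))
          (LocalizedModule.mkLinearMap (Submonoid.powers (f i)) M)).mp (hm i)
        exact ⟨k, hs⟩
      choose k hk using hex
      -- induction on the total exponent
      have key : ∀ (K : ℕ) (m : M) (k : Fin t → ℕ), ∑ i, k i ≤ K → (∀ i, f i ^ k i • m = 0) → m = 0 := by
        intro K
        induction K with
        | zero =>
          intro m k hK hk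
          apply h
          intro a ha
          rw [← hI] at ha
          induction ha using Submodule.span_induction with
          | mem x hx =>
            obtain ⟨j, rfl⟩ := hx
            have hkj : k j = 0 := by
              have := Finset.single_le_sum (f := k) (fun i _ => Nat.zero_le (k i)) (Finset.mem_univ j)
              omega
            have := hk j
            rw [hkj, pow_zero, one_smul] at this
            rw [this, smul_zero]
          | zero => simp
          | add x y _ _ hx hy => rw [add_smul, hx, hy, add_zero]
          | smul c x _ hx => rw [smul_eq_mul, mul_smul, hx, smul_zero]
        | succ K ih =>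
          intro m k hK hk
          apply h
          intro a ha
          rw [← hI] at ha
          induction ha using Submodule.span_induction with
          | mem x hx =>
            obtain ⟨j, rfl⟩ := hx
            by_cases hkj : k j = 0
            · have := hk j
              rw [hkj, pow_zero, one_smul] at this
              rw [this, smul_zero]
            · apply ih (f j • m) (Function.update k j (k j - 1))
              · have h1 : ∑ i, Function.update k j (k j - 1) i + 1 = ∑ i, k i := by
                  classical
                  rw [← Finset.add_sum_erase _ _ (Finset.mem_univ j),
                    ← Finset.add_sum_erase _ k (Finset.mem_univ j)]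
                  rw [Function.update_self]
                  have h2 : ∑ x ∈ Finset.univ.erase j, Function.update k j (k j - 1) x
                      = ∑ x ∈ Finset.univ.erase j, k x := by
                    refine Finset.sum_congr rfl fun x hx => ?_
                    rw [Function.update_of_ne (Finset.ne_of_mem_erase hx)]
                  rw [h2]
                  omega
                omega
              · intro i
                by_cases hij : i = j
                · subst hij
                  rw [Function.update_self, ← mul_smul, ← pow_succ]
                  have : k i - 1 + 1 = k i := by omega
                  rw [this]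
                  exact hk i
                · rw [Function.update_of_ne hij, smul_comm, hk i, smul_zero]
          | zero => simp
          | add x y _ _ hx hy => rw [add_smul, hx, hy, add_zero]
          | smul c x _ hx => rw [smul_eq_mul, mul_smul, hx, smul_zero]
      exact key _ m k le_rfl hk
    · intro h m hm
      apply h
      intro i
      rw [IsLocalizedModule.eq_zero_iff (Submonoid.powers (f i))]
      refine ⟨⟨f i, Submonoid.mem_powers _⟩, ?_⟩
      apply hm
      rw [← hI]
      exact Submodule.subset_span ⟨i, rfl⟩

end Groth.Agent.S7085
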