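import Groth.Statements.S7087
import Mathlib

set_option autoImplicit false
universe u
open LocCoh

namespace Groth.Agent.S7087

/-- Let R be a commutative ring and f_1, …, f_n elements generating an ideal I. Let M be the module with
generators e_1, …, e_n and relations f_i e_j = f_j e_i. Then e_i ↦ f_i defines a surjection M → I
whose kernel is annihilated by I. Elementwise: if a tuple (a_1, …, a_n) in R^n satisfies Σ a_i f_i =
0, then for every b in I the tuple b • a lies in the submodule of R^n spanned by the vectors f_i e_j
− f_j e_i. -/
theorem result {R : Type u} [CommRing R] {n : ℕ} (f : Fin n → R)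
    (a : Fin n → R) (ha : ∑ i, a i * f i = 0) (b : R) (hb : b ∈ Ideal.span (Set.range f)) :
    b • a ∈ Submodule.span R {v : Fin n → R | ∃ i j : Fin n, v = f i • Pi.single j (1 : R) - f j • Pi.single i (1 : R)} := by
  induction hb using Submodule.span_induction with
  | mem c hc =>
    obtain ⟨k, rfl⟩ := hc
    have key : f k • a = ∑ i, a i • (f k • Pi.single i (1 : R) - f i • Pi.single k (1 : R)) := by
      funext l
      simp only [Pi.smul_apply, smul_eq_mul, Finset.sum_apply, Pi.sub_apply, Pi.single_apply, mul_sub]
      rw [Finset.sum_sub_distrib]
      have h1 : ∑ i, a i * (f k * if l = i then (1 : R) else 0) = f k * a l := by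
        rw [Finset.sum_eq_single l]
        · simp [mul_comm]
        · intro i _ hi
          simp [Ne.symm hi]
        · simp
      have h2 : ∑ i, a i * (f i * if l = k then (1 : R) else 0) = 0 := by
        by_cases hlk : l = k
        · simp [hlk, ha]
        · simp [hlk]
      rw [h1, h2, sub_zero]
    rw [key]
    refine Submodule.sum_mem _ fun i _ => Submodule.smul_mem _ _ (Submodule.subset_span ⟨k, i, rfl⟩)
  | zero => simp
  | add c d _ _ hc hd => rw [add_smul]; exact Submodule.add_mem _ hc hd
  | smul r c _ hc => rw [smul_eq_mul, mul_smul]; exact Submodule.smul_mem _ _ hc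

end Groth.Agent.S7087
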