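import Groth.Statements.S7090
import Mathlib
import Groth.Agent.H61.GlueComplex

set_option autoImplicit false
universe u
open TensorProduct
open EtAlg

namespace Groth.Agent.S7090

/-- Let R → S be a flat homomorphism of commutative rings and I = (f_1, …, f_t) a finitely generated
ideal such that R/I → S/IS is bijective. Then for every R-module M the glueing complex 0 → M → (S
⊗_R M) × ∏ M_{f_i} → ∏ (S ⊗_R M)_{f_i} × ∏ M_{f_i f_j} is exact. Concretely: an element of M with
zero image in S ⊗_R M and in every M_{f_i} is zero; and given x in S ⊗_R M and elements m_1, …, m_t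
of M and N ≥ 0 such that x and m_i / f_i^N have the same image in (S ⊗_R M)_{f_i} for each i, and
m_i / f_i^N, m_j / f_j^N have the same image in M_{f_i f_j} for all i, j, there is m in M with 1 ⊗ m
= x and m / 1 = m_i / f_i^N in M_{f_i} for every i. -/
theorem result {R S : Type u} [CommRing R] [CommRing S] [Algebra R S] [Module.Flat R S]
    {t : ℕ} (f : Fin t → R) (I : Ideal R) (hI : Ideal.span (Set.range f) = I)
    (hq : Function.Bijective
      (Ideal.quotientMap (Ideal.map (algebraMap R S) I) (algebraMap R S) Ideal.le_comap_map))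
    (M : Type u) [AddCommGroup M] [Module R M] :
    (∀ m : M, (1 : S) ⊗ₜ[R] m = 0 →
        (∀ i : Fin t, LocalizedModule.mkLinearMap (Submonoid.powers (f i)) M m = 0) → m = 0) ∧
    ∀ (x : S ⊗[R] M) (N : ℕ) (m : Fin t → M),
      (∀ i : Fin t, EtGlue.locOfTensor R S (f i) M x =
          EtGlue.tensorOfLoc R S (f i) M (LocalizedModule.mk (m i) ⟨f i ^ N, Submonoid.pow_mem _ (Submonoid.mem_powers (f i)) N⟩)) →
      (∀ i j : Fin t, ∃ e : ℕ, (f i * f j) ^ e • (f j ^ N • m i - f i ^ N • m j) = 0) →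
        ∃ μ : M, (1 : S) ⊗ₜ[R] μ = x ∧
          ∀ i : Fin t, LocalizedModule.mkLinearMap (Submonoid.powers (f i)) M μ =
            LocalizedModule.mk (m i) ⟨f i ^ N, Submonoid.pow_mem _ (Submonoid.mem_powers (f i)) N⟩ := by
  classical
  subst hI
  constructor
  · intro m h1 h2
    have h3 : ∀ i, ∃ e : ℕ, f i ^ e • m = 0 := by
      intro i
      obtain ⟨⟨c, hc⟩, hcm⟩ := (IsLocalizedModule.eq_zero_iff (Submonoid.powers (f i))
        (LocalizedModule.mkLinearMap (Submonoid.powers (f i)) M)).1 (h2 i)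
      obtain ⟨e, rfl⟩ := hc
      exact ⟨e, hcm⟩
    choose e1 he1 using h3
    let e := ∑ i, e1 i
    have hle : ∀ i, e1 i ≤ e := fun i => Finset.single_le_sum (fun _ _ => Nat.zero_le _) (Finset.mem_univ i)
    have hd : ∀ i, (f i ^ e) • m = 0 := by
      intro i
      rw [← Nat.sub_add_cancel (hle i), pow_add, mul_smul, he1, smul_zero]
    obtain ⟨n, hn⟩ := Groth.Agent.H61.GlueComplex.exists_pow_le f e
    exact Groth.Agent.H61.GlueComplex.eq_zero_of_tmul_eq_zero _ hq (fun i => f i ^ e) n hn m h1 hd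
  · intro x N m h1 h2
    have h3 : ∀ i, ∃ e : ℕ, f i ^ e • (f i ^ N • x - (1 : S) ⊗ₜ[R] m i) = 0 := by
      intro i
      have := h1 i
      rw [EtGlue.locOfTensor, EtGlue.tensorOfLoc, IsLocalizedModule.map_LocalizedModules,
        LocalizedModule.mkLinearMap_apply, LocalizedModule.mk_eq] at this
      obtain ⟨⟨c, hc⟩, hcm⟩ := this
      obtain ⟨e, rfl⟩ := hc
      refine ⟨e, ?_⟩
      simp only [Submonoid.smul_def, one_smul, TensorProduct.mk_apply] at hcm
      rw [smul_sub, hcm, sub_self]
    choose e1 he1 using h3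
    choose e2 he2 using h2
    let e := ∑ i, e1 i + ∑ i, ∑ j, e2 i j
    have hle1 : ∀ i, e1 i ≤ e := fun i =>
      le_trans (Finset.single_le_sum (fun _ _ => Nat.zero_le _) (Finset.mem_univ i)) (Nat.le_add_right _ _)
    have hle2 : ∀ i j, e2 i j ≤ e := fun i j =>
      le_trans (le_trans (Finset.single_le_sum (f := fun j => e2 i j) (fun _ _ => Nat.zero_le _) (Finset.mem_univ j))
        (Finset.single_le_sum (f := fun i => ∑ j, e2 i j) (fun _ _ => Nat.zero_le _) (Finset.mem_univ i)))
        (Nat.le_add_left _ _)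
    have hx : ∀ i, (f i ^ (N + e)) • x = (1 : S) ⊗ₜ[R] (f i ^ e • m i) := by
      intro i
      have h := he1 i
      have h' : f i ^ e • (f i ^ N • x - (1 : S) ⊗ₜ[R] m i) = 0 := by
        rw [← Nat.sub_add_cancel (hle1 i), pow_add, mul_smul, h, smul_zero]
      rw [smul_sub, sub_eq_zero, ← mul_smul, ← pow_add, add_comm] at h'
      rw [h', TensorProduct.tmul_smul]
    have hc : ∀ i j, (f j ^ (N + e)) • (f i ^ e • m i) = (f i ^ (N + e)) • (f j ^ e • m j) := by
      intro i j
      have h := he2 i j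
      have h' : (f i * f j) ^ e • (f j ^ N • m i - f i ^ N • m j) = 0 := by
        rw [← Nat.sub_add_cancel (hle2 i j), pow_add, mul_smul, h, smul_zero]
      rw [smul_sub, sub_eq_zero, ← mul_smul, ← mul_smul] at h'
      rw [← mul_smul, ← mul_smul]
      have e1' : f j ^ (N + e) * f i ^ e = (f i * f j) ^ e * f j ^ N := by ring
      have e2' : f i ^ (N + e) * f j ^ e = (f i * f j) ^ e * f i ^ N := by ring
      rw [e1', e2', h']
    obtain ⟨n, hn⟩ := Groth.Agent.H61.GlueComplex.exists_pow_le f (N + e)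
    obtain ⟨μ, hμ1, hμ2⟩ := Groth.Agent.H61.GlueComplex.exists_of_compatible _ hq
      (fun i => f i ^ (N + e)) n hn (fun i => f i ^ e • m i) hc x hx
    refine ⟨μ, hμ1, ?_⟩
    intro i
    rw [LocalizedModule.mkLinearMap_apply, LocalizedModule.mk_eq]
    refine ⟨⟨f i ^ e, Submonoid.pow_mem _ (Submonoid.mem_powers (f i)) e⟩, ?_⟩
    simp only [Submonoid.smul_def, one_smul]
    rw [← mul_smul, ← pow_add, add_comm]
    exact hμ2 i

end Groth.Agent.S7090
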