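import Groth.Statements.S7092
import Groth.Agent.H9.DC.ConeHomology

set_option autoImplicit false
universe u
attribute [local instance] HasDerivedCategory.standard
open CategoryTheory
open DRing

namespace Groth.Agent.S7092

/-- Let A be a commutative ring, I an ideal generated by a finite set of r elements, and assume the
derived completion functor exists. If a morphism K → L in D(A) induces isomorphisms on cohomology in
degrees ≤ -1 and an injection in degree 0, then the induced morphism of derived completions induces
isomorphisms on cohomology in degrees ≤ -r-1 and an injection in degree -r. -/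
theorem result {A : Type u} [CommRing A] (I : Ideal A) (s : Finset A)
    (hs : Ideal.span (s : Set A) = I) [DRing.HasDerivedCompletion I] {K L : Dual.D A} (φ : K ⟶ L)
    (hiso : ∀ i : ℤ, i ≤ -1 → IsIso ((DerivedCategory.homologyFunctor (ModuleCat.{u} A) i).map φ))
    (hmono : Mono ((DerivedCategory.homologyFunctor (ModuleCat.{u} A) 0).map φ)) :
    (∀ i : ℤ, i ≤ -(s.card : ℤ) - 1 → IsIso ((DerivedCategory.homologyFunctor (ModuleCat.{u} A) i).map
        ((DRing.derivedCompletion I).map φ).hom)) ∧
      Mono ((DerivedCategory.homologyFunctor (ModuleCat.{u} A) (-(s.card : ℤ))).map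
        ((DRing.derivedCompletion I).map φ).hom) := by
  classical
  have hfs : Ideal.span {x | x ∈ s.toList} = I := by
    rw [← hs]
    congr 1
    ext x
    simp
  have hlen : (s.toList.length : ℤ) = (s.card : ℤ) := by
    rw [Finset.length_toList]
  obtain ⟨Z, g, h, hT⟩ := Pretriangulated.distinguished_cocone_triangle φ
  have hmono' : ∀ i : ℤ, i ≤ 0 →
      Mono ((DerivedCategory.homologyFunctor (ModuleCat.{u} A) i).map φ) := by
    intro i hi
    rcases eq_or_lt_of_le hi with rfl | hi'
    · exact hmono
    · have := hiso i (by omega)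
      infer_instance
  have hZ : ∀ i : ℤ, i ≤ -1 → Subsingleton (Dual.HD A Z i) := by
    intro i hi
    have := hiso i hi
    exact Groth.Agent.H9.DC.subsingleton_HD_cone φ g h hT i (i + 1) rfl inferInstance
      (hmono' (i + 1) (by omega))
  obtain ⟨W, g', h', hT', hb⟩ :=
    Groth.Agent.H9.DC.exists_cone_completion I s.toList hfs φ g h hT
  have hW : ∀ i : ℤ, i ≤ -(s.card : ℤ) - 1 → Subsingleton (Dual.HD A W i) := by
    intro i hi
    rw [Groth.Agent.H9.DC.subsingleton_HD_iff]
    apply hb
    intro k hk1 hk2
    rw [← Groth.Agent.H9.DC.subsingleton_HD_iff]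
    exact hZ k (by omega)
  have hM : ∀ i : ℤ, i ≤ -(s.card : ℤ) →
      Mono ((DerivedCategory.homologyFunctor (ModuleCat.{u} A) i).map
      ((DRing.derivedCompletion I).map φ).hom) := fun i hi =>
    Groth.Agent.H9.DC.mono_of_subsingleton_HD_cone _ g' h' hT' (i - 1) i (by omega)
      (hW (i - 1) (by omega))
  refine ⟨fun i hi => ?_, hM _ le_rfl⟩
  have := hM i (by omega)
  have : Epi ((DerivedCategory.homologyFunctor (ModuleCat.{u} A) i).map
      ((DRing.derivedCompletion I).map φ).hom) :=
    Groth.Agent.H9.DC.epi_of_subsingleton_HD_cone _ g' h' hT' i (hW i hi)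
  exact isIso_of_mono_of_epi _

end Groth.Agent.S7092
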