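import Mathlib
import Groth.Statements.S7100
import Groth.Agent.H35.PCQuotient
import Groth.Agent.H28.PCohRestrict

set_option autoImplicit false
universe u
attribute [local instance] HasDerivedCategory.standard
open DerCA

namespace Groth.Agent.S7100

/-- (1)⇔(4): let R → B → A be homomorphisms of commutative rings with B → A surjective and with R → B
and R → A both flat and of finite presentation. Then an object K of D(A) is pseudo-coherent
(isomorphic in D(A) to a bounded above complex of finite free modules) if and only if its
restriction of scalars to D(B) is pseudo-coherent; and for every integer m, K is m-pseudo-coherent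
if and only if its restriction of scalars to D(B) is m-pseudo-coherent. -/
theorem result (R B A : Type u) [CommRing R] [CommRing B] [CommRing A]
    [Algebra R B] [Algebra R A] [Algebra B A] [IsScalarTower R B A]
    (hφ : Function.Surjective (algebraMap B A))
    [Module.Flat R B] [Algebra.FinitePresentation R B] [Module.Flat R A] [Algebra.FinitePresentation R A]
    (K : Dual.D A) :
    (DRing.IsPseudoCoherent' A K ↔ DRing.IsPseudoCoherent' B ((DRing.restrictD (algebraMap B A)).obj K)) ∧
      ∀ m : ℤ, (DRing.IsPseudoCoherent A m K ↔
        DRing.IsPseudoCoherent B m ((DRing.restrictD (algebraMap B A)).obj K)) := by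
  have hRB : Groth.Agent.H35.PCHomLocal.PCAlg R B :=
    (Groth.Agent.H35.PCHomLocal.isPseudoCoherentHom_iff R B).1
      (Groth.Agent.H35.TorIndepBC.isPerfectHom_of_flat_of_finitePresentation R B).1
  have hRA : Groth.Agent.H35.PCHomLocal.PCAlg R A :=
    (Groth.Agent.H35.PCHomLocal.isPseudoCoherentHom_iff R A).1
      (Groth.Agent.H35.TorIndepBC.isPerfectHom_of_flat_of_finitePresentation R A).1
  have hBA : Groth.Agent.H35.PCHomLocal.PCAlg B A :=
    Groth.Agent.H35.PCHomLocal.pcAlg_cancel hRB hRA
  have hfin : Module.Finite B A := Module.Finite.of_surjective (Algebra.linearMap B A) hφ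
  have hpc : DRing.IsPseudoCoherentModule' B A :=
    (Groth.Agent.H35.PCHomLocal.isPseudoCoherentHom_iff_of_finite B A).1
      ((Groth.Agent.H35.PCHomLocal.isPseudoCoherentHom_iff B A).2 hBA)
  have key : ∀ m : ℤ, (DRing.IsPseudoCoherent A m K ↔
      DRing.IsPseudoCoherent B m ((DRing.restrictD (algebraMap B A)).obj K)) := by
    intro m
    rw [Groth.Agent.H28.PCohRing.isPseudoCoherent_iff_isNPC,
      Groth.Agent.H28.PCohRing.isPseudoCoherent_iff_isNPC]
    exact Groth.Agent.H28.PCohRestrict.isNPC_restrict_algebraMap_iff B A hpc m K
  refine ⟨?_, key⟩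
  rw [Groth.Agent.H28.PCohRing.isPseudoCoherent'_iff, Groth.Agent.H28.PCohRing.isPseudoCoherent'_iff]
  refine forall_congr' fun m => ?_
  exact Groth.Agent.H28.PCohRestrict.isNPC_restrict_algebraMap_iff B A hpc m K

end Groth.Agent.S7100
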