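import Groth.Statements.S7109
import Mathlib

set_option autoImplicit false
universe u
open CAlg

namespace Groth.Agent.S7109

/-- for a projective module and an element, maps to and from a finite free module whose composite
fixes the element -/
theorem exists_factor_through_finite_free (R : Type u) [CommRing R] (P : Type u) [AddCommGroup P]
    [Module R P] [Module.Projective R P] (s : P) :
    ∃ (n : ℕ) (α : P →ₗ[R] (Fin n → R)) (φ : (Fin n → R) →ₗ[R] P), φ (α s) = s := by
  obtain ⟨σ, hσ⟩ := (Module.projective_def' (R := R) (P := P)).mp inferInstance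
  let I₀ : Finset P := (σ s).support
  let enum : Fin I₀.card → P := fun i => ((I₀.equivFin.symm i : I₀) : P)
  refine ⟨I₀.card, LinearMap.pi (fun i => (Finsupp.lapply (enum i)) ∘ₗ σ),
    Fintype.linearCombination R enum, ?_⟩
  have h1 : Finsupp.linearCombination R (id : P → P) (σ s) = s := LinearMap.congr_fun hσ s
  rw [Fintype.linearCombination_apply]
  simp only [LinearMap.pi_apply, LinearMap.coe_comp, Function.comp_apply, Finsupp.lapply_apply]
  rw [Finsupp.linearCombination_apply, Finsupp.sum] at h1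
  conv_rhs => rw [← h1]
  change ∑ i, (fun q : I₀ => (σ s) (q : P) • (q : P)) (I₀.equivFin.symm i) = _
  rw [Equiv.sum_comp I₀.equivFin.symm (fun q : I₀ => (σ s) (q : P) • (q : P))]
  rw [Finset.sum_coe_sort I₀ (fun p => (σ s) p • p)]
  rfl

/-- Let P be a projective module over a ring R and s an element of P. Then there are a finite free
module R^n and a direct summand K of R^n ⊕ P which is finite free and contains (0, s). -/
theorem result (R : Type u) [CommRing R] (P : Type u) [AddCommGroup P]
    [Module R P] [Module.Projective R P] (s : P) :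
    ∃ (n : ℕ) (K K' : Submodule R ((Fin n → R) × P)), IsCompl K K' ∧ Module.Free R K ∧ Module.Finite R K ∧
      ((0, s) : (Fin n → R) × P) ∈ K := by
  obtain ⟨n, α, φ, hφα⟩ := exists_factor_through_finite_free R P s
  -- the two shears
  let G : ((Fin n → R) × P) ≃ₗ[R] ((Fin n → R) × P) :=
    LinearEquiv.skewProd (LinearEquiv.refl R _) (LinearEquiv.refl R _) φ
  let U : ((Fin n → R) × P) ≃ₗ[R] ((Fin n → R) × P) :=
    (LinearEquiv.prodComm R _ _) ≪≫ₗ
      (LinearEquiv.skewProd (LinearEquiv.refl R _) (LinearEquiv.refl R _) (-α)) ≪≫ₗ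
      (LinearEquiv.prodComm R _ _)
  let Ψ : ((Fin n → R) × P) ≃ₗ[R] ((Fin n → R) × P) := G ≪≫ₗ U
  have hΨ : ∀ x y, Ψ (x, y) = (x - α (y + φ x), y + φ x) := by
    intro x y
    simp [Ψ, G, U, LinearEquiv.skewProd, sub_eq_add_neg]
  refine ⟨n, (LinearMap.range (LinearMap.inl R (Fin n → R) P)).map Ψ.toLinearMap,
    (LinearMap.range (LinearMap.inr R (Fin n → R) P)).map Ψ.toLinearMap, ?_, ?_, ?_, ?_⟩
  · exact (LinearMap.isCompl_range_inl_inr).map (Submodule.orderIsoMapComap Ψ)
  · let e : (Fin n → R) ≃ₗ[R]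
        (LinearMap.range (LinearMap.inl R (Fin n → R) P)).map Ψ.toLinearMap :=
      (LinearEquiv.ofInjective (LinearMap.inl R (Fin n → R) P) LinearMap.inl_injective) ≪≫ₗ
        (Submodule.equivMapOfInjective Ψ.toLinearMap Ψ.injective _)
    exact Module.Free.of_equiv e
  · let e : (Fin n → R) ≃ₗ[R]
        (LinearMap.range (LinearMap.inl R (Fin n → R) P)).map Ψ.toLinearMap :=
      (LinearEquiv.ofInjective (LinearMap.inl R (Fin n → R) P) LinearMap.inl_injective) ≪≫ₗ
        (Submodule.equivMapOfInjective Ψ.toLinearMap Ψ.injective _)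
    exact Module.Finite.equiv e
  · refine ⟨(α s, 0), ⟨α s, rfl⟩, ?_⟩
    change Ψ (α s, 0) = (0, s)
    rw [hΨ, zero_add, hφα, sub_self]

end Groth.Agent.S7109
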