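import Groth.Statements.S7110
import Groth.Agent.H36.BassProj

set_option autoImplicit false
universe u
open CAlg

namespace Groth.Agent.S7110

/-- Let R be a ring whose quotient by its Jacobson radical is Noetherian, P a projective R-module such
that for every maximal ideal m the localization P_m is not finitely generated over R_m (P has
infinite rank everywhere), s an element of P and M a submodule with Rs + M = P. Then for some m in M
the element s + m spans a free direct summand of P of rank one: there is a linear form φ on P with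
φ(s + m) = 1. (Rank one is meant: the zero submodule does not count.) -/
theorem result (R : Type u) [CommRing R]
    [IsNoetherianRing (R ⧸ (⊥ : Ideal R).jacobson)]
    (P : Type u) [AddCommGroup P] [Module R P] [Module.Projective R P]
    (hP : ∀ (m : Ideal R) [m.IsMaximal],
      ¬ Module.Finite (Localization.AtPrime m) (LocalizedModule m.primeCompl P))
    (s : P) (M : Submodule R P) (hM : Submodule.span R {s} ⊔ M = ⊤) :
    ∃ m ∈ M, ∃ φ : P →ₗ[R] R, φ (s + m) = 1 := by
  let β : P →ₗ[R] (P →ₗ[R] R) →ₗ[R] R := Module.Dual.eval R P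
  have hbig : ∀ x ∈ (⊤ : TopologicalSpace.Closeds (MaximalSpectrum R)),
      H36.PairBig β M x.asIdeal := by
    intro x _ N hN hle
    have horth : H36.pairOrth β x.asIdeal ≤ x.asIdeal • ⊤ :=
      fun p hp => H36.mem_smul_top_of_forall_dual_mem _ p hp
    have h1 := hP x.asIdeal
    have hne := H36.sup_smul_top_ne_top_of_not_finite_localized x.asIdeal h1
      (Submodule.span R {s} ⊔ N) ((Submodule.fg_span_singleton s).sup hN)
    apply hne
    rw [eq_top_iff]
    refine le_trans (le_of_eq hM.symm) ?_
    have hN1 : N ≤ (Submodule.span R {s} ⊔ N) ⊔ (x.asIdeal • ⊤ : Submodule R P) :=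
      le_sup_of_le_left le_sup_right
    have hN2 : H36.pairOrth β x.asIdeal ≤
        (Submodule.span R {s} ⊔ N) ⊔ (x.asIdeal • ⊤ : Submodule R P) :=
      le_trans horth le_sup_right
    have hN3 : Submodule.span R {s} ≤
        (Submodule.span R {s} ⊔ N) ⊔ (x.asIdeal • ⊤ : Submodule R P) :=
      le_sup_of_le_left le_sup_left
    exact sup_le hN3 (le_trans hle (sup_le hN1 hN2))
  obtain ⟨m, hm, hgood⟩ := H36.exists_add_not_mem_pairOrth β ⊤ M s hbig
  refine ⟨m, hm, ?_⟩
  let I : Ideal R := LinearMap.range (LinearMap.applyₗ (s + m) : (P →ₗ[R] R) →ₗ[R] R)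
  have hI : I = ⊤ := by
    by_contra hne
    obtain ⟨x, hx, hIx⟩ := Ideal.exists_le_maximal I hne
    apply hgood ⟨x, hx⟩ trivial
    intro φ
    exact hIx ⟨φ, rfl⟩
  have h1 : (1 : R) ∈ I := by rw [hI]; trivial
  obtain ⟨φ, hφ⟩ := h1
  exact ⟨φ, hφ⟩

end Groth.Agent.S7110
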