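import Groth.Statements.S7113
import Groth.Agent.H36.Serre

set_option autoImplicit false
universe u
open CAlg

namespace Groth.Agent.S7113

/-- Let R be a ring whose set of maximal ideals, with the Zariski topology, is a Noetherian topological
space of Krull dimension at most d, and let M be an R-module of finite presentation whose
localization M_m at each maximal ideal m contains a free direct summand of rank d + 1. Then M is
isomorphic to R ⊕ M' for some M': there are s in M and a linear form φ on M with φ(s) = 1. (The
published statement takes the dimension equal to d; a space of smaller dimension satisfies the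
hypothesis for a smaller d, so the bound form is equivalent.) -/
theorem result (R : Type u) [CommRing R] (d : ℕ)
    [TopologicalSpace.NoetherianSpace (MaximalSpectrum R)]
    (hdim : topologicalKrullDim (MaximalSpectrum R) ≤ d)
    (M : Type u) [AddCommGroup M] [Module R M] [Module.FinitePresentation R M]
    (hM : ∀ (m : Ideal R) [m.IsMaximal],
      ∃ (f : (Fin (d + 1) → Localization.AtPrime m) →ₗ[Localization.AtPrime m] LocalizedModule m.primeCompl M)
        (g : LocalizedModule m.primeCompl M →ₗ[Localization.AtPrime m] (Fin (d + 1) → Localization.AtPrime m)),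
        g ∘ₗ f = LinearMap.id) :
    ∃ (s : M) (φ : M →ₗ[R] R), φ s = 1 := by
  have hrank : ∀ x : MaximalSpectrum R, 0 + (d + 1) ≤ Module.finrank (R ⧸ x.asIdeal)
      ((M ⧸ (x.asIdeal • ⊤ : Submodule R M)) ⧸ H36.fibB M x) := by
    intro x
    obtain ⟨f, g, hgf⟩ := hM x.asIdeal
    obtain ⟨s, φ, hdet⟩ := H36.exists_det_not_mem_of_free_summand x.asIdeal (d + 1) f g hgf
    rw [zero_add]
    exact H36.le_finrank_of_fibIndep x s ((H36.fibIndep_iff_det x s).2 ⟨φ, hdet⟩)
  obtain ⟨t, F', hF', -, htZ, hF'c⟩ := H36.serre_aux (d + 1) 0 (Fin.elim0 : Fin 0 → M) ∅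
    isClosed_empty ∅ (by simp) (fun _ => 0) hrank (by
      intro x hx
      exfalso
      apply hx
      unfold H36.FibIndep
      exact linearIndependent_empty_type)
  have hF'empty : F' = ∅ := by
    by_contra hne
    obtain ⟨x, hx⟩ := Set.nonempty_iff_ne_empty.2 hne
    have h1 := hF'c ⟨{x}, isIrreducible_singleton, isClosed_singleton⟩
      (by simpa using hx)
    have h2 := Order.coheight_le_krullDim
      (⟨{x}, isIrreducible_singleton, isClosed_singleton⟩ :
        TopologicalSpace.IrreducibleCloseds (MaximalSpectrum R))
    have h3 : (((d + 1 : ℕ) : ℕ∞) : WithBot ℕ∞) ≤ (d : WithBot ℕ∞) :=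
      ((WithBot.coe_le_coe.2 h1).trans h2).trans hdim
    have h4 : ((d + 1 : ℕ) : ℕ∞) ≤ (d : ℕ∞) := by
      exact_mod_cast h3
    have h5 : d + 1 ≤ d := by exact_mod_cast h4
    omega
  refine ⟨t, H36.exists_dual_eq_one_of_forall_fibIndep t fun x => ?_⟩
  by_contra hc
  have := htZ x hc
  rw [hF'empty] at this
  simp at this

end Groth.Agent.S7113
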