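import Groth.Statements.S7114
import Mathlib

set_option autoImplicit false
universe u
open CAlg

namespace Groth.Agent.S7114

section aux

variable {R : Type u} [CommRing R] (x : R) (n : ℕ)

/-- multiplication by `x` from `R/(x^n)` to `R/(x^(n+1))` -/
noncomputable def mulMap : (R ⧸ Ideal.span {x ^ n}) →ₗ[R] (R ⧸ Ideal.span {x ^ (n + 1)}) :=
  Submodule.mapQ (Ideal.span {x ^ n}) (Ideal.span {x ^ (n + 1)}) (LinearMap.lsmul R R x) (by
    intro a ha
    obtain ⟨b, rfl⟩ := Ideal.mem_span_singleton'.mp ha
    simp only [Submodule.mem_comap, LinearMap.lsmul_apply, smul_eq_mul]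
    exact Ideal.mem_span_singleton'.mpr ⟨b, by ring⟩)

/-- the projection from `R/(x^(n+1))` to `R/(x)` -/
noncomputable def projMap : (R ⧸ Ideal.span {x ^ (n + 1)}) →ₗ[R] (R ⧸ Ideal.span {x}) :=
  Submodule.mapQ (Ideal.span {x ^ (n + 1)}) (Ideal.span {x}) LinearMap.id (by
    intro a ha
    obtain ⟨b, rfl⟩ := Ideal.mem_span_singleton'.mp ha
    simp only [Submodule.mem_comap, LinearMap.id_coe, id_eq]
    exact Ideal.mem_span_singleton'.mpr ⟨b * x ^ n, by ring⟩)

theorem projMap_surjective : Function.Surjective (projMap x n) := by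
  intro y
  obtain ⟨a, rfl⟩ := Submodule.Quotient.mk_surjective _ y
  exact ⟨Submodule.Quotient.mk a, by simp [projMap]⟩

theorem exact_mulMap_projMap : Function.Exact (mulMap x n) (projMap x n) := by
  intro y
  obtain ⟨a, rfl⟩ := Submodule.Quotient.mk_surjective _ y
  constructor
  · intro h
    simp only [projMap, Submodule.mapQ_apply, LinearMap.id_coe, id_eq,
      Submodule.Quotient.mk_eq_zero] at h
    obtain ⟨b, rfl⟩ := Ideal.mem_span_singleton'.mp h
    refine ⟨Submodule.Quotient.mk b, ?_⟩
    rw [mulMap, Submodule.mapQ_apply, LinearMap.lsmul_apply, smul_eq_mul, mul_comm]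
  · rintro ⟨z, hz⟩
    obtain ⟨b, rfl⟩ := Submodule.Quotient.mk_surjective _ z
    simp only [mulMap, Submodule.mapQ_apply, LinearMap.lsmul_apply, smul_eq_mul] at hz
    rw [← hz]
    simp only [projMap, Submodule.mapQ_apply, LinearMap.id_coe, id_eq,
      Submodule.Quotient.mk_eq_zero]
    exact Ideal.mem_span_singleton'.mpr ⟨b, by ring⟩

theorem mulMap_injective (hx : x ∈ nonZeroDivisors R) : Function.Injective (mulMap x n) := by
  rw [← LinearMap.ker_eq_bot, LinearMap.ker_eq_bot']
  intro y hy
  obtain ⟨a, rfl⟩ := Submodule.Quotient.mk_surjective _ y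
  simp only [mulMap, Submodule.mapQ_apply, LinearMap.lsmul_apply, smul_eq_mul,
    Submodule.Quotient.mk_eq_zero] at hy
  obtain ⟨b, hb⟩ := Ideal.mem_span_singleton'.mp hy
  rw [Submodule.Quotient.mk_eq_zero]
  refine Ideal.mem_span_singleton'.mpr ⟨b, ?_⟩
  have h : (b * x ^ n - a) * x = 0 := by
    have : (b * x ^ n - a) * x = b * x ^ (n + 1) - x * a := by ring
    rw [this, hb, sub_self]
  have := (mem_nonZeroDivisors_iff_right.mp hx) _ h
  exact sub_eq_zero.mp this

theorem length_succ_le :
    Module.length R (R ⧸ Ideal.span {x ^ (n + 1)}) ≤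
      Module.length R (R ⧸ Ideal.span {x ^ n}) + Module.length R (R ⧸ Ideal.span {x}) := by
  have hex : Function.Exact (LinearMap.range (mulMap x n)).subtype (projMap x n) := by
    intro y
    rw [(exact_mulMap_projMap x n) y]
    simp
  rw [Module.length_eq_add_of_exact (LinearMap.range (mulMap x n)).subtype (projMap x n)
    (Submodule.subtype_injective _) (projMap_surjective x n) hex]
  gcongr
  exact Module.length_le_of_surjective (mulMap x n).rangeRestrict
    (LinearMap.surjective_rangeRestrict _)

theorem length_succ_eq (hx : x ∈ nonZeroDivisors R) :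
    Module.length R (R ⧸ Ideal.span {x ^ (n + 1)}) =
      Module.length R (R ⧸ Ideal.span {x ^ n}) + Module.length R (R ⧸ Ideal.span {x}) :=
  Module.length_eq_add_of_exact (mulMap x n) (projMap x n) (mulMap_injective x n hx)
    (projMap_surjective x n) (exact_mulMap_projMap x n)

theorem length_zero : Module.length R (R ⧸ Ideal.span {x ^ 0}) = 0 := by
  rw [Module.length_eq_zero_iff]
  have : Ideal.span {x ^ 0} = (⊤ : Ideal R) := by simp
  rw [this]
  infer_instance

end aux

/-- Let R be a Noetherian local ring of Krull dimension one and x an element of the maximal ideal lying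
in no minimal prime of R. Then for every n the length of R/xⁿR is at most n times the length of
R/xR, and equality holds when x is a nonzerodivisor. -/
theorem result (R : Type u) [CommRing R] [IsNoetherianRing R] [IsLocalRing R]
    (hdim : ringKrullDim R = 1) (x : R) (hx : x ∈ IsLocalRing.maximalIdeal R)
    (hmin : ∀ p ∈ minimalPrimes R, x ∉ p) (n : ℕ) :
    Module.length R (R ⧸ Ideal.span {x ^ n}) ≤ (n : ℕ∞) * Module.length R (R ⧸ Ideal.span {x}) ∧
      (x ∈ nonZeroDivisors R →
        Module.length R (R ⧸ Ideal.span {x ^ n}) = (n : ℕ∞) * Module.length R (R ⧸ Ideal.span {x})) := by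
  constructor
  · induction n with
    | zero => rw [length_zero]; simp
    | succ n ih =>
      refine (length_succ_le x n).trans ?_
      push_cast
      rw [add_mul, one_mul]
      gcongr
  · intro hnzd
    induction n with
    | zero => rw [length_zero]; simp
    | succ n ih =>
      rw [length_succ_eq x n hnzd, ih]
      push_cast
      rw [add_mul, one_mul]

end Groth.Agent.S7114
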