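import Groth.Statements.S7116
import Groth.Agent.H36.Sop

set_option autoImplicit false
universe u
open CAlg

namespace Groth.Agent.S7116

/-- perturbing a generator by an element of `m • I` does not change the ideal -/
theorem span_insert_add_eq (R : Type u) [CommRing R] [IsNoetherianRing R] [IsLocalRing R]
    (f h : R) (S : Set R)
    (hh : h ∈ IsLocalRing.maximalIdeal R * Ideal.span (insert f S)) :
    Ideal.span (insert (f + h) S) = Ideal.span (insert f S) := by
  have hhI : h ∈ Ideal.span (insert f S) := Ideal.mul_le_right hh
  apply le_antisymm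
  · rw [Ideal.span_le]
    rintro y (rfl | hy)
    · exact Ideal.add_mem _ (Ideal.subset_span (Set.mem_insert _ _)) hhI
    · exact Ideal.subset_span (Set.mem_insert_of_mem _ hy)
  · apply Submodule.le_of_le_smul_of_le_jacobson_bot (I := IsLocalRing.maximalIdeal R)
      (IsNoetherian.noetherian _)
    · rw [IsLocalRing.jacobson_eq_maximalIdeal ⊥ bot_ne_top]
    · rw [Ideal.span_le]
      rintro y (hy | hy)
      · have : y = (f + h) - h := by rw [hy]; ring
        rw [this]
        apply Submodule.sub_mem
        · exact Submodule.mem_sup_left (Ideal.subset_span (Set.mem_insert _ _))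
        · exact Submodule.mem_sup_right hh
      · exact Submodule.mem_sup_left (Ideal.subset_span (Set.mem_insert_of_mem _ hy))

/-- Let R be a Noetherian local ring of Krull dimension d with maximal ideal m and let f be an element
of m contained in no minimal prime. Then there are g_1, ..., g_{d-1} in m and a natural number N
such that f, g_1, ..., g_{d-1} is a system of parameters (these d elements of m generate an ideal
with radical m) and, for every h in m^N, the elements f + h, g_1, ..., g_{d-1} again form a system
of parameters and the lengths of R/(f, g_1, ..., g_{d-1}) and R/(f + h, g_1, ..., g_{d-1}) agree. -/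
theorem result (R : Type u) [CommRing R] [IsNoetherianRing R] [IsLocalRing R]
    (d : ℕ) (hd : ringKrullDim R = d) (f : R) (hf : f ∈ IsLocalRing.maximalIdeal R)
    (hmin : ∀ p ∈ minimalPrimes R, f ∉ p) :
    ∃ (g : Fin (d - 1) → R) (N : ℕ), (∀ i, g i ∈ IsLocalRing.maximalIdeal R) ∧
      IsLocalRing.maximalIdeal R ≤ (Ideal.span (insert f (Set.range g))).radical ∧
      ∀ h ∈ IsLocalRing.maximalIdeal R ^ N,
        IsLocalRing.maximalIdeal R ≤ (Ideal.span (insert (f + h) (Set.range g))).radical ∧
        Module.length R (R ⧸ Ideal.span (insert f (Set.range g))) =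
          Module.length R (R ⧸ Ideal.span (insert (f + h) (Set.range g))) := by
  have hd1 : 1 ≤ d := by
    by_contra hlt
    have hd0 : d = 0 := by omega
    subst hd0
    have hm : (IsLocalRing.maximalIdeal R).height = 0 := by
      have := IsLocalRing.maximalIdeal_height_eq_ringKrullDim (R := R)
      rw [hd] at this
      exact_mod_cast this
    exact hmin _ (Ideal.height_eq_zero_iff.mp hm) hf
  obtain ⟨g, hg, hrad⟩ := Groth.Agent.H36.exists_sop_extending R d hd f hmin 0 hd1
  obtain ⟨N, hN⟩ := Ideal.exists_pow_le_of_le_radical_of_fg_radical hrad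
    (IsNoetherian.noetherian _)
  refine ⟨g, N + 1, fun i => by simpa using hg i, hrad, ?_⟩
  intro h hh
  have hh' : h ∈ IsLocalRing.maximalIdeal R * Ideal.span (insert f (Set.range g)) := by
    rw [pow_succ'] at hh
    exact Ideal.mul_mono_right hN hh
  rw [span_insert_add_eq R f h (Set.range g) hh']
  exact ⟨hrad, rfl⟩

end Groth.Agent.S7116
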