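import Groth.Statements.S7121
import Groth.Agent.H36.BezoutFP

set_option autoImplicit false
universe u
open CAlg

namespace Groth.Agent.S7121

/-- Over a Bézout domain R, a finitely presented module M splits as R^r ⊕ M_tors for some r, and its
torsion part M_tors is a retract (direct summand) of R/f_1R ⊕ … ⊕ R/f_nR for some nonzero f_1, …,
f_n. -/
theorem result (R : Type u) [CommRing R] [IsDomain R] [IsBezout R]
    (M : Type u) [AddCommGroup M] [Module R M] [Module.FinitePresentation R M] :
    (∃ r : ℕ, Nonempty (M ≃ₗ[R] ((Fin r → R) × Submodule.torsion R M))) ∧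
      ∃ (n : ℕ) (f : Fin n → R), (∀ j, f j ≠ 0) ∧
        ∃ (i : Submodule.torsion R M →ₗ[R] ((j : Fin n) → R ⧸ Ideal.span {f j}))
          (p : ((j : Fin n) → R ⧸ Ideal.span {f j}) →ₗ[R] Submodule.torsion R M),
          p ∘ₗ i = LinearMap.id := by
  have hfree : Module.Free R (M ⧸ Submodule.torsion R M) :=
    Groth.Agent.H36.free_of_finite_of_isTorsionFree R _
  constructor
  · let r := Module.finrank R (M ⧸ Submodule.torsion R M)
    let e₀ : (M ⧸ Submodule.torsion R M) ≃ₗ[R] (Fin r → R) :=
      LinearEquiv.ofFinrankEq _ _ (by rw [Module.finrank_fin_fun])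
    let q : M →ₗ[R] (Fin r → R) := (e₀ : _ →ₗ[R] _) ∘ₗ (Submodule.torsion R M).mkQ
    have hq : Function.Surjective q := e₀.surjective.comp (Submodule.mkQ_surjective _)
    obtain ⟨s, hs⟩ := Module.projective_lifting_property q LinearMap.id hq
    have hker : LinearMap.ker q = Submodule.torsion R M := by
      ext x
      simp [q]
    exact ⟨r, ⟨(Groth.Agent.H36.equivProdKerOfSection R q s hs) ≪≫ₗ
      (LinearEquiv.prodCongr (LinearEquiv.refl R _) (LinearEquiv.ofEq _ _ hker))⟩⟩
  · have hfp : Module.FinitePresentation R (Submodule.torsion R M) :=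
      Module.finitePresentation_of_projective_of_exact (Submodule.torsion R M).subtype
        (Submodule.torsion R M).mkQ (Submodule.injective_subtype _) (Submodule.mkQ_surjective _)
        (LinearMap.exact_subtype_mkQ _)
    apply Groth.Agent.H36.exists_retract_cyclic_of_torsion_bezout R (Submodule.torsion R M)
    rintro ⟨x, hx⟩
    obtain ⟨a, ha⟩ := hx
    exact ⟨a, nonZeroDivisors.ne_zero a.2, Subtype.ext ha⟩

end Groth.Agent.S7121
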