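import Groth.Statements.S7122
import Groth.Agent.H36.Bezout

set_option autoImplicit false
universe u
open CAlg

namespace Groth.Agent.S7122

/-- Let R be a Bézout domain, n ≥ 1, and f_1, ..., f_n elements generating the unit ideal. Then some
invertible n × n matrix over R has (f_1, ..., f_n) as its first row. -/
theorem result (R : Type u) [CommRing R] [IsDomain R] [IsBezout R]
    (n : ℕ) (f : Fin (n + 1) → R) (hf : Ideal.span (Set.range f) = ⊤) :
    ∃ A : Matrix (Fin (n + 1)) (Fin (n + 1)) R, IsUnit A.det ∧ A 0 = f := by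
  classical
  obtain ⟨c, hc⟩ : ∃ c : Fin (n + 1) → R, ∑ i, c i * f i = 1 := by
    have h1 : (1 : R) ∈ Ideal.span (Set.range f) := by rw [hf]; trivial
    exact Ideal.mem_span_range_iff_exists_fun.mp h1
  -- the linear form `x ↦ ∑ x i * f i`
  let φ : (Fin (n + 1) → R) →ₗ[R] R :=
    ∑ i, (LinearMap.proj i : (Fin (n + 1) → R) →ₗ[R] R).smulRight (f i)
  have hφ : ∀ x, φ x = ∑ i, x i * f i := by
    intro x
    simp [φ, LinearMap.sum_apply]
  let s : R →ₗ[R] (Fin (n + 1) → R) := (LinearMap.id : R →ₗ[R] R).smulRight c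
  have hs : φ ∘ₗ s = LinearMap.id := by
    apply LinearMap.ext
    intro r
    simp only [LinearMap.coe_comp, Function.comp_apply, LinearMap.id_coe, id_eq, hφ]
    simp only [s, LinearMap.smulRight_apply, LinearMap.id_coe, id_eq, Pi.smul_apply, smul_eq_mul]
    calc ∑ i, r * c i * f i = r * ∑ i, c i * f i := by
          rw [Finset.mul_sum]; exact Finset.sum_congr rfl (fun i _ => by ring)
      _ = r := by rw [hc, mul_one]
  let e₁ : (Fin (n + 1) → R) ≃ₗ[R] R × LinearMap.ker φ :=
    Groth.Agent.H36.equivProdKerOfSection R φ s hs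
  have he₁ : ∀ x, (e₁ x).1 = φ x := fun x => rfl
  -- the kernel is finite free
  let pr : (Fin (n + 1) → R) →ₗ[R] LinearMap.ker φ :=
    (LinearMap.snd R R (LinearMap.ker φ)).comp (e₁ : (Fin (n + 1) → R) →ₗ[R] R × LinearMap.ker φ)
  have hpr : Function.Surjective pr := fun y => ⟨e₁.symm (0, y), by simp [pr]⟩
  have hfin : Module.Finite R (LinearMap.ker φ) := Module.Finite.of_surjective pr hpr
  have hfree : Module.Free R (LinearMap.ker φ) :=
    Groth.Agent.H36.free_of_fg_submodule_of_free R _ _ (Module.Finite.iff_fg.mp hfin)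
  have hrank : Module.finrank R (LinearMap.ker φ) = Module.finrank R (Fin n → R) := by
    have h1 := LinearEquiv.finrank_eq e₁
    rw [Module.finrank_prod, Module.finrank_fin_fun, Module.finrank_self] at h1
    rw [Module.finrank_fin_fun]
    omega
  let e₂ : LinearMap.ker φ ≃ₗ[R] (Fin n → R) := LinearEquiv.ofFinrankEq _ _ hrank
  let E : (Fin (n + 1) → R) ≃ₗ[R] (Fin (n + 1) → R) :=
    e₁ ≪≫ₗ (LinearEquiv.prodCongr (LinearEquiv.refl R R) e₂) ≪≫ₗ
      (Fin.consLinearEquiv R (fun _ : Fin (n + 1) => R))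
  have hE : ∀ x, E x 0 = φ x := by
    intro x
    simp [E, he₁]
  refine ⟨LinearMap.toMatrix' (E : (Fin (n + 1) → R) →ₗ[R] (Fin (n + 1) → R)), ?_, ?_⟩
  · rw [← LinearMap.toMatrix_eq_toMatrix']
    exact LinearEquiv.isUnit_det E (Pi.basisFun R (Fin (n + 1))) (Pi.basisFun R (Fin (n + 1)))
  · funext j
    rw [LinearMap.toMatrix'_apply]
    simp only [LinearEquiv.coe_coe, hE, hφ]
    simp [Pi.single_apply]

end Groth.Agent.S7122
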