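import Groth.Statements.S7123
import Groth.Agent.H36.RDProj

set_option autoImplicit false
universe u
open CAlg

namespace Groth.Agent.S7123

open DirectSum in
/-- For a module P over a ring R these two conditions are equivalent: (1) P is a retract (direct
summand) of a direct sum of cyclic modules R/fR, f ranging over R; (2) for every surjection of
R-modules π : B → C whose kernel A satisfies fA = A ∩ fB for every f in R, each linear map P → C
lifts through π. -/
theorem result (R : Type u) [CommRing R] (P : Type u)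
    [AddCommGroup P] [Module R P] :
    (∃ (ι : Type u) (f : ι → R) (i : P →ₗ[R] (⨁ j, R ⧸ Ideal.span {f j}))
        (p : (⨁ j, R ⧸ Ideal.span {f j}) →ₗ[R] P), p ∘ₗ i = LinearMap.id) ↔
      ∀ (B C : Type u) [AddCommGroup B] [Module R B] [AddCommGroup C] [Module R C] (π : B →ₗ[R] C),
        Function.Surjective π →
        (∀ (f : R) (b : B), π (f • b) = 0 → ∃ a : B, π a = 0 ∧ f • a = f • b) →
        ∀ ψ : P →ₗ[R] C, ∃ φ : P →ₗ[R] B, π ∘ₗ φ = ψ := by
  classical
  constructor
  · rintro ⟨ι, f, i, p, hpi⟩ B C _ _ _ _ π hπ hRD ψ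
    obtain ⟨Φ, hΦ⟩ := Groth.Agent.H36.directSum_cyclic_lift f hπ hRD (ψ ∘ₗ p)
    refine ⟨Φ ∘ₗ i, ?_⟩
    rw [← LinearMap.comp_assoc, hΦ, LinearMap.comp_assoc, hpi, LinearMap.comp_id]
  · intro h
    obtain ⟨φ, hφ⟩ := h _ P (Groth.Agent.H36.cycCover (R := R) P (fun _ => True))
      (Groth.Agent.H36.cycCover_surjective P _ (fun x => ⟨0, trivial, zero_smul _ _⟩))
      (Groth.Agent.H36.cycCover_isRD P _ (fun f => Or.inl trivial)) LinearMap.id
    exact ⟨Groth.Agent.H36.CycIdx (R := R) P (fun _ => True), fun j => j.1.2, φ, _, hφ⟩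

end Groth.Agent.S7123
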