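import Groth.Statements.S7124
import Groth.Agent.H36.ValRingExt

set_option autoImplicit false
universe u
open CAlg

namespace Groth.Agent.S7124

open IsLocalRing in
/-- Let A ⊆ B be an extension of valuation rings (both valuation domains, the inclusion injective and
local) with fraction fields K ⊆ L such that L/K is finite. Then the residue field of B is finite
over that of A, the value group of A has finite index in the value group of B, and (index of value
groups) · (residue degree) ≤ [L : K]. Here the value group of B is written as Lˣ modulo the units of
B, and that of A as the image of Kˣ in it. -/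
theorem result (A B K L : Type u) [CommRing A] [IsDomain A]
    [ValuationRing A] [CommRing B] [IsDomain B] [ValuationRing B] [Field K] [Field L]
    [Algebra A K] [IsFractionRing A K] [Algebra B L] [IsFractionRing B L] [Algebra A B] [Algebra K L]
    [Algebra A L] [IsScalarTower A K L] [IsScalarTower A B L] (hinj : Function.Injective (algebraMap A B))
    [IsLocalHom (algebraMap A B)] [FiniteDimensional K L] :
    let UB : Subgroup Lˣ := (Units.map (algebraMap B L).toMonoidHom).range
    let ΓA : Subgroup (Lˣ ⧸ UB) := ((QuotientGroup.mk' UB).comp (Units.map (algebraMap K L).toMonoidHom)).range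
    Module.Finite (IsLocalRing.ResidueField A) (IsLocalRing.ResidueField B) ∧ ΓA.index ≠ 0 ∧
      ΓA.index * Module.finrank (IsLocalRing.ResidueField A) (IsLocalRing.ResidueField B) ≤
        Module.finrank K L := by
  intro UB ΓA
  classical
  -- a family of one element with independent residue
  have hone : LinearIndependent (ResidueField A) (fun _ : Fin 1 => residue B (1 : B)) := by
    rw [map_one]
    exact LinearIndependent.of_subsingleton (0 : Fin 1) one_ne_zero
  -- the quotient of the value groups is finite
  have hfinQ : Finite ((Lˣ ⧸ UB) ⧸ ΓA) := by
    by_contra hinf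
    rw [not_finite_iff_infinite] at hinf
    let emb := Infinite.natEmbedding ((Lˣ ⧸ UB) ⧸ ΓA)
    have := Groth.Agent.H36.card_mul_card_le A B K L
      (fun j : Fin (Module.finrank K L + 1) => emb (j : ℕ))
      (fun j l h => Fin.ext (emb.injective h)) (fun _ : Fin 1 => (1 : B)) hone
    omega
  have hindex : ΓA.index ≠ 0 := Subgroup.index_ne_zero_iff_finite.mpr hfinQ
  -- the residue field extension is finite
  have hfinres : Module.Finite (ResidueField A) (ResidueField B) := by
    rw [← Module.rank_lt_aleph0_iff]
    refine lt_of_le_of_lt (rank_le (n := Module.finrank K L) ?_) Cardinal.natCast_lt_aleph0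
    intro s hs
    have hlift : ∀ i : Fin s.card, ∃ b : B, residue B b = ((s.equivFin.symm i : s) : ResidueField B) :=
      fun i => residue_surjective _
    choose b hb using hlift
    have hli : LinearIndependent (ResidueField A) (fun i => residue B (b i)) := by
      have : (fun i => residue B (b i)) = (fun y : s => (y : ResidueField B)) ∘ s.equivFin.symm :=
        funext hb
      rw [this]
      exact hs.comp _ s.equivFin.symm.injective
    have := Groth.Agent.H36.card_mul_card_le A B K L
      (fun _ : Fin 1 => (QuotientGroup.mk (1 : Lˣ ⧸ UB) : (Lˣ ⧸ UB) ⧸ ΓA))
      (fun j l _ => Subsingleton.elim j l) b hli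
    omega
  refine ⟨hfinres, hindex, ?_⟩
  -- the main inequality
  have hfin : Fintype ((Lˣ ⧸ UB) ⧸ ΓA) := Fintype.ofFinite _
  have hidx : ΓA.index = Fintype.card ((Lˣ ⧸ UB) ⧸ ΓA) := by
    rw [Subgroup.index, Nat.card_eq_fintype_card]
  let e := Fintype.equivFin ((Lˣ ⧸ UB) ⧸ ΓA)
  let bas := Module.finBasis (ResidueField A) (ResidueField B)
  have hlift : ∀ i, ∃ b : B, residue B b = bas i := fun i => residue_surjective _
  choose b hb using hlift
  have hli : LinearIndependent (ResidueField A) (fun i => residue B (b i)) := by
    have : (fun i => residue B (b i)) = bas := funext hb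
    rw [this]
    exact bas.linearIndependent
  have := Groth.Agent.H36.card_mul_card_le A B K L (fun j => e.symm j) e.symm.injective b hli
  rw [hidx]
  exact this

end Groth.Agent.S7124
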