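import Groth.Statements.S7132
import Groth.Agent.H36.DVRExt

set_option autoImplicit false
universe u
open EtAlg

namespace Groth.Agent.S7132

open IsLocalRing in
/-- For an injective local homomorphism A → B of discrete valuation rings whose fraction fields K ⊆ L
form a finite extension, the residue field of B is finite over that of A, and the ramification index
e times the residue degree f is at most [L : K]. -/
theorem result (A B K L : Type u) [CommRing A] [IsDomain A]
    [IsDiscreteValuationRing A] [CommRing B] [IsDomain B] [IsDiscreteValuationRing B] [Algebra A B]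
    (hinj : Function.Injective (algebraMap A B)) [IsLocalHom (algebraMap A B)]
    [Field K] [Field L] [Algebra A K] [IsFractionRing A K] [Algebra B L] [IsFractionRing B L]
    [Algebra K L] [Algebra A L] [IsScalarTower A K L] [IsScalarTower A B L] [FiniteDimensional K L] :
    Module.Finite (IsLocalRing.ResidueField A) (IsLocalRing.ResidueField B) ∧
      Ideal.ramificationIdx' (IsLocalRing.maximalIdeal A) (IsLocalRing.maximalIdeal B) *
          Module.finrank (IsLocalRing.ResidueField A) (IsLocalRing.ResidueField B) ≤
        Module.finrank K L := by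
  classical
  obtain ⟨ϖA, ϖB, u, hA, hB, hu⟩ := Groth.Agent.H36.exists_uniformizers A B hinj
  set e := Ideal.ramificationIdx' (maximalIdeal A) (maximalIdeal B) with he
  have hv := Groth.Agent.H36.valB_integers B L
  have hϖ0 : algebraMap B L ϖB ≠ 0 := fun h0 =>
    hB.ne_zero ((injective_iff_map_eq_zero (algebraMap B L)).mp (IsFractionRing.injective B L) _ h0)
  have ht0 : 0 < ValuationRing.valuation B L (algebraMap B L ϖB) :=
    zero_lt_iff.mpr ((Valuation.ne_zero_iff _).mpr hϖ0)
  have ht1 : ValuationRing.valuation B L (algebraMap B L ϖB) ≠ 1 :=
    fun h => hB.not_isUnit (hv.isUnit_iff_valuation_eq_one.mpr h)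
  have he0 : e ≠ 0 := by
    intro h0
    rw [h0, pow_zero, mul_one] at hu
    have : IsUnit (algebraMap A B ϖA) := hu ▸ u.isUnit
    exact hA.not_isUnit (IsLocalHom.map_nonunit ϖA this)
  have key : ∀ (f' : ℕ) (b : Fin f' → B),
      LinearIndependent (ResidueField A) (fun i => residue B (b i)) →
      e * f' ≤ Module.finrank K L := by
    intro f' b hb
    have hli := Groth.Agent.H36.linearIndependent_mul A B K L
      (fun j : Fin e => (algebraMap B L ϖB) ^ (j : ℕ)) (by
        intro j l hjl a ha heq
        apply hjl
        obtain ⟨m₁, m₂, hm⟩ := Groth.Agent.H36.val_algebraMap_eq_pow A B K L ϖA ϖB u hA e hu a ha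
        rw [map_pow, map_pow] at heq
        have h1 : (ValuationRing.valuation B L (algebraMap B L ϖB)) ^ ((j : ℕ) + e * m₂) =
            (ValuationRing.valuation B L (algebraMap B L ϖB)) ^ ((l : ℕ) + e * m₁) := by
          rw [pow_add, pow_add, heq, ← hm, mul_assoc, mul_left_comm]
        have h2 : (j : ℕ) + e * m₂ = (l : ℕ) + e * m₁ := pow_right_injective₀ ht0 ht1 h1
        have h3 : ((j : ℕ) + e * m₂) % e = ((l : ℕ) + e * m₁) % e := by rw [h2]
        rw [Nat.add_mul_mod_self_left, Nat.add_mul_mod_self_left, Nat.mod_eq_of_lt j.2,
          Nat.mod_eq_of_lt l.2] at h3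
        exact Fin.ext h3) (fun j => pow_ne_zero _ hϖ0) b hb
    have := hli.fintype_card_le_finrank
    simpa using this
  have hfinres : Module.Finite (ResidueField A) (ResidueField B) := by
    rw [← Module.rank_lt_aleph0_iff]
    refine lt_of_le_of_lt (rank_le (n := Module.finrank K L) ?_) Cardinal.natCast_lt_aleph0
    intro s hs
    have hlift : ∀ i : Fin s.card, ∃ b : B, residue B b = ((s.equivFin.symm i : s) : ResidueField B) :=
      fun i => residue_surjective _
    choose b hb using hlift
    have hli : LinearIndependent (ResidueField A) (fun i => residue B (b i)) := by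
      have : (fun i => residue B (b i)) = (fun y : s => (y : ResidueField B)) ∘ s.equivFin.symm :=
        funext hb
      rw [this]
      exact hs.comp _ s.equivFin.symm.injective
    have h1 := key s.card b hli
    have h2 : 1 * s.card ≤ e * s.card := Nat.mul_le_mul_right _ (Nat.one_le_iff_ne_zero.mpr he0)
    omega
  refine ⟨hfinres, ?_⟩
  let bas := Module.finBasis (ResidueField A) (ResidueField B)
  have hlift : ∀ i, ∃ b : B, residue B b = bas i := fun i => residue_surjective _
  choose b hb using hlift
  have hli : LinearIndependent (ResidueField A) (fun i => residue B (b i)) := by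
    have : (fun i => residue B (b i)) = bas := funext hb
    rw [this]
    exact bas.linearIndependent
  exact key _ b hli

end Groth.Agent.S7132
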