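import Groth.Statements.S7133
import Groth.Agent.H36.DVRExt

set_option autoImplicit false
universe u
open EtAlg

namespace Groth.Agent.S7133

open IsLocalRing in
/-- For an injective local homomorphism A → B of discrete valuation rings whose fields of fractions are
K ⊆ L: if K has characteristic p > 0 and L/K is purely inseparable, then the ramification index of B
over A is a power of p. -/
theorem result (A B K L : Type u) [CommRing A] [IsDomain A]
    [IsDiscreteValuationRing A] [CommRing B] [IsDomain B] [IsDiscreteValuationRing B] [Algebra A B]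
    (hinj : Function.Injective (algebraMap A B)) [IsLocalHom (algebraMap A B)]
    [Field K] [Field L] [Algebra A K] [IsFractionRing A K] [Algebra B L] [IsFractionRing B L]
    [Algebra K L] [Algebra A L] [IsScalarTower A K L] [IsScalarTower A B L]
    (p : ℕ) (hp : p.Prime) [CharP K p] [IsPurelyInseparable K L] :
    ∃ k : ℕ, Ideal.ramificationIdx' (IsLocalRing.maximalIdeal A) (IsLocalRing.maximalIdeal B) =
      p ^ k := by
  classical
  obtain ⟨ϖA, ϖB, u, hA, hB, hu⟩ := Groth.Agent.H36.exists_uniformizers A B hinj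
  set e := Ideal.ramificationIdx' (maximalIdeal A) (maximalIdeal B) with he
  have hv := Groth.Agent.H36.valB_integers B L
  have hϖ0 : algebraMap B L ϖB ≠ 0 := fun h0 =>
    hB.ne_zero ((injective_iff_map_eq_zero (algebraMap B L)).mp (IsFractionRing.injective B L) _ h0)
  have ht0 : 0 < ValuationRing.valuation B L (algebraMap B L ϖB) :=
    zero_lt_iff.mpr ((Valuation.ne_zero_iff _).mpr hϖ0)
  have ht1 : ValuationRing.valuation B L (algebraMap B L ϖB) ≠ 1 :=
    fun h => hB.not_isUnit (hv.isUnit_iff_valuation_eq_one.mpr h)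
  have : ExpChar K p := ExpChar.prime hp
  obtain ⟨n, a, ha⟩ := IsPurelyInseparable.pow_mem K p (algebraMap B L ϖB)
  have ha0 : a ≠ 0 := by
    rintro rfl
    rw [map_zero] at ha
    exact pow_ne_zero _ hϖ0 ha.symm
  obtain ⟨m₁, m₂, hm⟩ := Groth.Agent.H36.val_algebraMap_eq_pow A B K L ϖA ϖB u hA e hu a ha0
  rw [ha, map_pow, ← pow_add] at hm
  have h2 : p ^ n + e * m₂ = e * m₁ := pow_right_injective₀ ht0 ht1 hm
  have h3 : e ∣ p ^ n := by
    have h4 : e ∣ p ^ n + e * m₂ := h2 ▸ Dvd.intro _ rfl
    exact (Nat.dvd_add_left (Dvd.intro _ rfl)).mp h4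
  obtain ⟨k, -, hk⟩ := (Nat.dvd_prime_pow hp).mp h3
  exact ⟨k, hk⟩

end Groth.Agent.S7133
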