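import Groth.Statements.S7153
import Mathlib.RingTheory.Filtration

set_option autoImplicit false
universe u
open CAlg

namespace Groth.Agent.S7153

/-- a convenient form of the Artin-Rees lemma -/
theorem artinRees {A : Type u} [CommRing A] [IsNoetherianRing A] (I : Ideal A)
    {M : Type u} [AddCommGroup M] [Module A M] [Module.Finite A M] (N : Submodule A M) :
    ∃ k : ℕ, ∀ c : ℕ, k ≤ c → ∀ n : ℕ, (I ^ (n + c) • ⊤ : Submodule A M) ⊓ N ≤ I ^ n • N := by
  obtain ⟨k, hk⟩ := Ideal.exists_pow_inf_eq_pow_smul I N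
  refine ⟨k, fun c hc n => ?_⟩
  have h1 : (I ^ (n + c) • ⊤ : Submodule A M) ≤ I ^ (n + k) • ⊤ :=
    Submodule.smul_mono_left (Ideal.pow_le_pow_right (by omega))
  refine (inf_le_inf_right N h1).trans ?_
  rw [hk (n + k) (by omega), Nat.add_sub_cancel]
  exact Submodule.smul_mono le_rfl inf_le_right

/-- Let A be a Noetherian ring, I an ideal and K → L → M a complex of finite A-modules with maps α, β
and homology H = Ker β / Im α; for n ≥ 0 let H_n be the homology of the induced complex K/IⁿK →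
L/IⁿL → M/IⁿM, which is β⁻¹(IⁿM)/(Im α + IⁿL). Then there is c > 0 such that for every n: (i) the
image of H_(n+c) → H_n is contained in, hence equal to, the image of H → H_n; (ii) the kernel and
the cokernel of H/IⁿH → H_n are annihilated by I^c. Everything is phrased with representatives in L. -/
theorem result (A : Type u) [CommRing A] [IsNoetherianRing A] (I : Ideal A)
    (K L M : Type u) [AddCommGroup K] [Module A K] [Module.Finite A K] [AddCommGroup L] [Module A L]
    [Module.Finite A L] [AddCommGroup M] [Module A M] [Module.Finite A M]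
    (α : K →ₗ[A] L) (β : L →ₗ[A] M) (hαβ : β ∘ₗ α = 0) :
    ∃ c : ℕ, 0 < c ∧ ∀ n : ℕ,
      (∀ y ∈ (I ^ (n + c) • ⊤ : Submodule A M).comap β,
        ∃ z ∈ LinearMap.ker β, y - z ∈ LinearMap.range α ⊔ (I ^ n • ⊤ : Submodule A L)) ∧
      (∀ z ∈ LinearMap.ker β, z ∈ LinearMap.range α ⊔ (I ^ n • ⊤ : Submodule A L) →
        ∀ a ∈ I ^ c, a • z ∈ LinearMap.range α ⊔ I ^ n • LinearMap.ker β) ∧
      (∀ y ∈ (I ^ n • ⊤ : Submodule A M).comap β, ∀ a ∈ I ^ c,
        ∃ z ∈ LinearMap.ker β, a • y - z ∈ LinearMap.range α ⊔ (I ^ n • ⊤ : Submodule A L)) := by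
  obtain ⟨k₁, hk₁⟩ := artinRees I (LinearMap.range β)
  obtain ⟨k₂, hk₂⟩ := artinRees I (LinearMap.ker β)
  set c := max (max k₁ k₂) 1 with hc
  have hc1 : k₁ ≤ c := le_trans (le_max_left _ _) (le_max_left _ _)
  have hc2 : k₂ ≤ c := le_trans (le_max_right _ _) (le_max_left _ _)
  have hc0 : 0 < c := lt_of_lt_of_le Nat.zero_lt_one (le_max_right _ _)
  -- the first statement, for all n
  have hi : ∀ n : ℕ, ∀ y ∈ (I ^ (n + c) • ⊤ : Submodule A M).comap β,
      ∃ z ∈ LinearMap.ker β, y - z ∈ (I ^ n • ⊤ : Submodule A L) := by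
    intro n y hy
    have h1 : β y ∈ (I ^ (n + c) • ⊤ : Submodule A M) ⊓ LinearMap.range β :=
      ⟨hy, LinearMap.mem_range_self β y⟩
    have h2 : β y ∈ I ^ n • LinearMap.range β := hk₁ c hc1 n h1
    have h3 : I ^ n • LinearMap.range β = (I ^ n • ⊤ : Submodule A L).map β := by
      rw [Submodule.map_smul'', Submodule.map_top]
    rw [h3] at h2
    obtain ⟨w, hw, hwy⟩ := h2
    refine ⟨y - w, ?_, ?_⟩
    · rw [LinearMap.mem_ker, map_sub, hwy, sub_self]
    · rw [sub_sub_cancel]; exact hw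
  refine ⟨c, hc0, fun n => ⟨?_, ?_, ?_⟩⟩
  · intro y hy
    obtain ⟨z, hz, hyz⟩ := hi n y hy
    exact ⟨z, hz, Submodule.mem_sup_right hyz⟩
  · intro z hz hzs a ha
    obtain ⟨u, ⟨k', rfl⟩, w, hw, rfl⟩ := Submodule.mem_sup.mp hzs
    have hwker : w ∈ LinearMap.ker β := by
      have h1 : β (α k') = 0 := LinearMap.congr_fun hαβ k'
      rw [LinearMap.mem_ker, map_add, h1, zero_add] at hz
      exact hz
    rw [smul_add]
    refine Submodule.add_mem_sup ⟨a • k', by rw [map_smul]⟩ ?_
    -- a • w ∈ I^n • ker β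
    by_cases hnc : n ≤ c
    · exact Submodule.smul_mem_smul (Ideal.pow_le_pow_right hnc ha) hwker
    · push Not at hnc
      have hn : n = (n - c) + c := by omega
      have h1 : w ∈ (I ^ ((n - c) + c) • ⊤ : Submodule A L) ⊓ LinearMap.ker β := by
        rw [← hn]; exact ⟨hw, hwker⟩
      have h2 : w ∈ I ^ (n - c) • LinearMap.ker β := hk₂ c hc2 (n - c) h1
      have h3 : a • w ∈ I ^ c • (I ^ (n - c) • LinearMap.ker β) := Submodule.smul_mem_smul ha h2
      rw [← mul_smul, ← pow_add] at h3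
      have h4 : c + (n - c) = n := by omega
      rw [h4] at h3
      exact h3
  · intro y hy a ha
    have h1 : a • y ∈ (I ^ (n + c) • ⊤ : Submodule A M).comap β := by
      rw [Submodule.mem_comap, map_smul, add_comm, pow_add, mul_smul]
      exact Submodule.smul_mem_smul ha hy
    obtain ⟨z, hz, hyz⟩ := hi n (a • y) h1
    exact ⟨z, hz, Submodule.mem_sup_right hyz⟩

end Groth.Agent.S7153
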