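import Groth.Statements.S7136
import Groth.Agent.S7153

set_option autoImplicit false
universe u
open CAlg

namespace Groth.Agent.S7136

section aux

variable {A : Type u} [CommRing A]

/-- membership in `J • ⊤` of a finite power is componentwise -/
theorem mem_smul_top_pi_iff (J : Ideal A) {N : Type*} [AddCommGroup N] [Module A N] (r : ℕ)
    (y : Fin r → N) :
    y ∈ (J • ⊤ : Submodule A (Fin r → N)) ↔ ∀ i, y i ∈ (J • ⊤ : Submodule A N) := by
  constructor
  · intro hy i
    have : (J • ⊤ : Submodule A (Fin r → N)) ≤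
        (J • ⊤ : Submodule A N).comap (LinearMap.proj i) := by
      rw [Submodule.smul_le]
      intro a ha z _
      rw [Submodule.mem_comap, map_smul]
      exact Submodule.smul_mem_smul ha Submodule.mem_top
    exact this hy
  · intro hy
    rw [← Finset.univ_sum_single y]
    apply Submodule.sum_mem
    intro i _
    have h1 : (J • ⊤ : Submodule A N).map (LinearMap.single A (fun _ : Fin r => N) i) ≤
        (J • ⊤ : Submodule A (Fin r → N)) := by
      rw [Submodule.map_smul'']
      exact Submodule.smul_mono le_rfl le_top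
    exact h1 ⟨y i, hy i, rfl⟩

variable {M : Type*} [AddCommGroup M] [Module A M]

/-- two maps out of a quotient of a finite free module agreeing on the images of the basis
vectors are equal -/
theorem ext_of_surjective {r : ℕ} (q : (Fin r → A) →ₗ[A] M) (hq : Function.Surjective q)
    {X : Type*} [AddCommGroup X] [Module A X] (φ φ' : M →ₗ[A] X)
    (h : ∀ i, φ (q (Pi.single i 1)) = φ' (q (Pi.single i 1))) : φ = φ' := by
  have : φ ∘ₗ q = φ' ∘ₗ q := by
    apply LinearMap.pi_ext'
    intro i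
    apply LinearMap.ext_ring
    simpa using h i
  apply LinearMap.ext
  intro m
  obtain ⟨v, rfl⟩ := hq m
  exact LinearMap.congr_fun this v

theorem comp_eq_linearCombination {r : ℕ} (q : (Fin r → A) →ₗ[A] M)
    {X : Type*} [AddCommGroup X] [Module A X] (φ : M →ₗ[A] X) :
    φ ∘ₗ q = Fintype.linearCombination A (fun i => φ (q (Pi.single i 1))) := by
  apply LinearMap.pi_ext'
  intro i
  apply LinearMap.ext_ring
  simp [Fintype.linearCombination_apply_single]

/-- descent of a map given on generators -/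
theorem exists_desc {r s : ℕ} (q : (Fin r → A) →ₗ[A] M) (hq : Function.Surjective q)
    (k : Fin s → (Fin r → A)) (hk : Submodule.span A (Set.range k) = LinearMap.ker q)
    {X : Type*} [AddCommGroup X] [Module A X] (y : Fin r → X)
    (hy : ∀ j, Fintype.linearCombination A y (k j) = 0) :
    ∃ φ : M →ₗ[A] X, ∀ i, φ (q (Pi.single i 1)) = y i := by
  have hle : LinearMap.ker q ≤ LinearMap.ker (Fintype.linearCombination A y) := by
    rw [← hk, Submodule.span_le]
    rintro _ ⟨j, rfl⟩
    exact hy j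
  refine ⟨((LinearMap.ker q).liftQ (Fintype.linearCombination A y) hle) ∘ₗ
    ((q.quotKerEquivOfSurjective hq).symm : M →ₗ[A] _), ?_⟩
  intro i
  have : (q.quotKerEquivOfSurjective hq).symm (q (Pi.single i 1)) =
      Submodule.Quotient.mk (Pi.single i 1) := by
    rw [LinearEquiv.symm_apply_eq]
    rfl
  simp only [LinearMap.coe_comp, LinearEquiv.coe_coe, Function.comp_apply]
  rw [this, Submodule.liftQ_apply, Fintype.linearCombination_apply_single, one_smul]

end aux


/-- Let A be a Noetherian ring, I an ideal, and M, N finite A-modules; write N_n = N/IⁿN, so that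
Hom_A(M/IⁿM, N_n) = Hom_A(M, N_n). Then (1) the inverse system (Hom_A(M, N_n))_n, with transition
maps induced by the projections N_k → N_n, is Mittag-Leffler; (2) there is c ≥ 0 such that for all n
the kernel and the cokernel of Hom_A(M, N)/IⁿHom_A(M, N) → Hom_A(M, N_n) are annihilated by I^c. -/
theorem result (A : Type u) [CommRing A] [IsNoetherianRing A]
    (I : Ideal A) (M N : Type u) [AddCommGroup M] [Module A M] [Module.Finite A M] [AddCommGroup N] [Module A N]
    [Module.Finite A N] :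
    let Nq : ℕ → Submodule A N := fun n => I ^ n • ⊤
    let pr : ∀ n k : ℕ, n ≤ k → (N ⧸ Nq k) →ₗ[A] (N ⧸ Nq n) :=
      fun n k hnk => Submodule.mapQ (Nq k) (Nq n) (LinearMap.id : N →ₗ[A] N) (Submodule.smul_mono_left (Ideal.pow_le_pow_right hnk))
    let red : ∀ n : ℕ, (M →ₗ[A] N) → (M →ₗ[A] N ⧸ Nq n) := fun n φ => (Nq n).mkQ ∘ₗ φ
    (∀ n : ℕ, ∃ m : ℕ, n ≤ m ∧ ∀ (k : ℕ) (hmk : m ≤ k) (hnm : n ≤ m) (ψ : M →ₗ[A] N ⧸ Nq m),
        ∃ ψ' : M →ₗ[A] N ⧸ Nq k, pr n k (hnm.trans hmk) ∘ₗ ψ' = pr n m hnm ∘ₗ ψ) ∧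
    ∃ c : ℕ, ∀ n : ℕ,
      (∀ φ : M →ₗ[A] N, red n φ = 0 → ∀ a ∈ I ^ c, a • φ ∈ (I ^ n • ⊤ : Submodule A (M →ₗ[A] N))) ∧
      (∀ (ψ : M →ₗ[A] N ⧸ Nq n), ∀ a ∈ I ^ c, ∃ φ : M →ₗ[A] N, red n φ = a • ψ) := by
  intro Nq pr red
  classical
  obtain ⟨r, q, hq⟩ := Module.Finite.exists_fin' A M
  have hKfg : (LinearMap.ker q).FG := IsNoetherian.noetherian _
  obtain ⟨s, k, hk⟩ := Submodule.fg_iff_exists_fin_generating_family.mp hKfg
  have hkq : ∀ j, q (k j) = 0 := by
    intro j
    have : k j ∈ LinearMap.ker q := by rw [← hk]; exact Submodule.subset_span ⟨j, rfl⟩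
    exact this
  let β : (Fin r → N) →ₗ[A] (Fin s → N) :=
    LinearMap.pi (fun j => ∑ i, (k j i) • (LinearMap.proj i : (Fin r → N) →ₗ[A] N))
  have hβ : ∀ y j, β y j = Fintype.linearCombination A y (k j) := by
    intro y j
    simp [β, Fintype.linearCombination_apply, LinearMap.sum_apply]
  obtain ⟨c, hc0, hc⟩ := Groth.Agent.S7153.result A I PUnit.{u+1} (Fin r → N) (Fin s → N) 0 β
    (by simp)
  -- lifting maps to the quotients
  have hlift : ∀ (m : ℕ) (ψ : M →ₗ[A] N ⧸ Nq m), ∃ y : Fin r → N,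
      (∀ i, (Nq m).mkQ (y i) = ψ (q (Pi.single i 1))) ∧
        β y ∈ (I ^ m • ⊤ : Submodule A (Fin s → N)) := by
    intro m ψ
    choose y hy using fun i => Submodule.mkQ_surjective (Nq m) (ψ (q (Pi.single i 1)))
    refine ⟨y, hy, ?_⟩
    rw [mem_smul_top_pi_iff]
    intro j
    rw [hβ]
    show _ ∈ Nq m
    rw [← Submodule.Quotient.mk_eq_zero, ← Submodule.mkQ_apply, Fintype.linearCombination_apply,
      map_sum]
    have h1 := LinearMap.congr_fun (comp_eq_linearCombination q ψ) (k j)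
    rw [LinearMap.comp_apply, hkq, map_zero, Fintype.linearCombination_apply] at h1
    rw [h1]
    apply Finset.sum_congr rfl
    intro i _
    rw [map_smul, hy]
  have hdesc : ∀ z ∈ LinearMap.ker β, ∃ φ : M →ₗ[A] N, ∀ i, φ (q (Pi.single i 1)) = z i := by
    intro z hz
    apply exists_desc q hq k hk z
    intro j
    rw [← hβ, LinearMap.mem_ker.mp hz]
    rfl
  have hmemq : ∀ (n : ℕ) (y z : Fin r → N),
      y - z ∈ LinearMap.range (0 : PUnit.{u+1} →ₗ[A] (Fin r → N)) ⊔
        (I ^ n • ⊤ : Submodule A (Fin r → N)) →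
      ∀ i, (Nq n).mkQ (y i) = (Nq n).mkQ (z i) := by
    intro n y z h i
    rw [LinearMap.range_zero, bot_sup_eq, mem_smul_top_pi_iff] at h
    rw [Submodule.mkQ_apply, Submodule.mkQ_apply, Submodule.Quotient.eq]
    exact h i
  refine ⟨?_, c, fun n => ⟨?_, ?_⟩⟩
  · intro n
    refine ⟨n + c, Nat.le_add_right _ _, ?_⟩
    intro kk hmk hnm ψ
    obtain ⟨y, hy, hyβ⟩ := hlift (n + c) ψ
    obtain ⟨z, hz, hyz⟩ := (hc n).1 y hyβ
    obtain ⟨φ, hφ⟩ := hdesc z hz
    refine ⟨(Nq kk).mkQ ∘ₗ φ, ?_⟩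
    apply ext_of_surjective q hq
    intro i
    simp only [LinearMap.coe_comp, Function.comp_apply, hφ, ← hy]
    show pr n kk (hnm.trans hmk) ((Nq kk).mkQ (z i)) = pr n (n + c) hnm ((Nq (n + c)).mkQ (y i))
    simp only [pr, Submodule.mkQ_apply, Submodule.mapQ_apply, LinearMap.id_coe, id_eq]
    exact (hmemq n y z hyz i).symm
  · intro φ hφ0 a ha
    let z : Fin r → N := fun i => φ (q (Pi.single i 1))
    have hzker : z ∈ LinearMap.ker β := by
      rw [LinearMap.mem_ker]
      funext j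
      rw [hβ]
      have h1 := LinearMap.congr_fun (comp_eq_linearCombination q φ) (k j)
      rw [LinearMap.comp_apply, hkq, map_zero] at h1
      exact h1.symm
    have hzn : z ∈ (I ^ n • ⊤ : Submodule A (Fin r → N)) := by
      rw [mem_smul_top_pi_iff]
      intro i
      show _ ∈ Nq n
      rw [← Submodule.Quotient.mk_eq_zero]
      exact LinearMap.congr_fun hφ0 (q (Pi.single i 1))
    have h := (hc n).2.1 z hzker (Submodule.mem_sup_right hzn) a ha
    rw [LinearMap.range_zero, bot_sup_eq] at h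
    let Ξ : (M →ₗ[A] N) →ₗ[A] (Fin r → N) :=
      LinearMap.pi (fun i => LinearMap.applyₗ (q (Pi.single i 1)))
    have hker_le : LinearMap.ker β ≤ LinearMap.range Ξ := by
      intro w hw
      obtain ⟨φ', hφ'⟩ := hdesc w hw
      exact ⟨φ', funext hφ'⟩
    have h2 : I ^ n • LinearMap.ker β ≤ Submodule.map Ξ (I ^ n • ⊤) := by
      rw [Submodule.map_smul'', Submodule.map_top]
      exact Submodule.smul_mono le_rfl hker_le
    obtain ⟨φ', hφ'mem, hφ'⟩ := h2 h
    have : φ' = a • φ := by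
      apply ext_of_surjective q hq
      intro i
      have := congrFun hφ' i
      simpa [Ξ, z] using this
    rw [← this]
    exact hφ'mem
  · intro ψ a ha
    obtain ⟨y, hy, hyβ⟩ := hlift n ψ
    obtain ⟨z, hz, hyz⟩ := (hc n).2.2 y hyβ a ha
    obtain ⟨φ, hφ⟩ := hdesc z hz
    refine ⟨φ, ?_⟩
    apply ext_of_surjective q hq
    intro i
    simp only [red, LinearMap.coe_comp, Function.comp_apply, hφ, LinearMap.smul_apply, ← hy]
    rw [← map_smul]
    exact (hmemq n (a • y) z hyz i).symm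

end Groth.Agent.S7136
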