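import Groth.Statements.S7135
import Groth.Agent.S7136
import Groth.Agent.H36.AdicIso

set_option autoImplicit false
universe u
open CAlg

namespace Groth.Agent.S7135

section

variable {A : Type u} [CommRing A] (I : Ideal A) (M N : Type u) [AddCommGroup M] [Module A M]
  [AddCommGroup N] [Module A N]

/-- the lifting condition: the map lifts to all higher levels -/
def Stable (n : ℕ) (ψ : M →ₗ[A] N ⧸ (I ^ n • ⊤ : Submodule A N)) : Prop :=
  ∀ (k : ℕ) (hnk : n ≤ k), ∃ ψ' : M →ₗ[A] N ⧸ (I ^ k • ⊤ : Submodule A N),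
    Submodule.factorPow I N hnk ∘ₗ ψ' = ψ

theorem factorPow_comp {l m n : ℕ} (hlm : l ≤ m) (hmn : m ≤ n) :
    Submodule.factorPow I N hlm ∘ₗ Submodule.factorPow I N hmn =
      Submodule.factorPow I N (hlm.trans hmn) := by
  apply Submodule.linearMap_qext
  rfl

end

/-- Let A be a Noetherian ring, I an ideal and M, N finite A-modules. If M/IⁿM and N/IⁿN are isomorphic
for every n, then the I-adic completions of M and N are isomorphic as modules over the I-adic
completion of A. -/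
theorem result (A : Type u) [CommRing A] [IsNoetherianRing A] (I : Ideal A)
    (M N : Type u) [AddCommGroup M] [Module A M] [Module.Finite A M] [AddCommGroup N] [Module A N]
    [Module.Finite A N]
    (h : ∀ n : ℕ, Nonempty ((M ⧸ (I ^ n • ⊤ : Submodule A M)) ≃ₗ[A] (N ⧸ (I ^ n • ⊤ : Submodule A N)))) :
    Nonempty (AdicCompletion I M ≃ₗ[AdicCompletion I A] AdicCompletion I N) := by
  classical
  -- the Mittag-Leffler property
  have hML : ∀ n : ℕ, ∃ m : ℕ, n ≤ m ∧ ∀ (k : ℕ) (hmk : m ≤ k) (hnm : n ≤ m)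
      (ψ : M →ₗ[A] N ⧸ (I ^ m • ⊤ : Submodule A N)),
      ∃ ψ' : M →ₗ[A] N ⧸ (I ^ k • ⊤ : Submodule A N),
        Submodule.factorPow I N (hnm.trans hmk) ∘ₗ ψ' = Submodule.factorPow I N hnm ∘ₗ ψ :=
    (Groth.Agent.S7136.result A I M N).1
  -- reductions from the level given by the Mittag-Leffler property are stable
  have hstable : ∀ n : ℕ, ∃ (m : ℕ) (hnm : n ≤ m),
      ∀ ψ : M →ₗ[A] N ⧸ (I ^ m • ⊤ : Submodule A N),
        Stable I M N n (Submodule.factorPow I N hnm ∘ₗ ψ) := by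
    intro n
    obtain ⟨m, hnm, hm⟩ := hML n
    refine ⟨m, hnm, fun ψ k hnk => ?_⟩
    by_cases hmk : m ≤ k
    · exact hm k hmk hnm ψ
    · push Not at hmk
      refine ⟨Submodule.factorPow I N hmk.le ∘ₗ ψ, ?_⟩
      rw [← LinearMap.comp_assoc, factorPow_comp]
  -- the inductive step
  have hstep : ∀ (n : ℕ) (ψ : M →ₗ[A] N ⧸ (I ^ n • ⊤ : Submodule A N)),
      Stable I M N n ψ ∧ Function.Surjective ψ →
      ∃ ψ₁ : M →ₗ[A] N ⧸ (I ^ (n + 1) • ⊤ : Submodule A N),
        (Stable I M N (n + 1) ψ₁ ∧ Function.Surjective ψ₁) ∧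
          Submodule.factorPow I N (Nat.le_succ n) ∘ₗ ψ₁ = ψ := by
    intro n ψ ⟨hst, hsurj⟩
    obtain ⟨m, hnm, hm⟩ := hstable (n + 1)
    by_cases hn : n = 0
    · subst hn
      obtain ⟨e⟩ := h m
      let ψm : M →ₗ[A] N ⧸ (I ^ m • ⊤ : Submodule A N) :=
        (e : _ →ₗ[A] _) ∘ₗ (I ^ m • ⊤ : Submodule A M).mkQ
      refine ⟨Submodule.factorPow I N hnm ∘ₗ ψm, ⟨hm ψm, ?_⟩, ?_⟩
      · have hs1 : Function.Surjective (Submodule.factorPow I N hnm) :=
          Submodule.factor_surjective _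
        have hs2 : Function.Surjective ψm := e.surjective.comp (Submodule.mkQ_surjective _)
        exact hs1.comp hs2
      · have hsub : Subsingleton (N ⧸ (I ^ 0 • ⊤ : Submodule A N)) := by
          rw [pow_zero, Ideal.one_eq_top, Submodule.top_smul]
          infer_instance
        apply LinearMap.ext
        intro x
        exact Subsingleton.elim _ _
    · obtain ⟨ψm, hψm⟩ := hst m (Nat.le_of_succ_le hnm)
      have hred : Submodule.factorPow I N (Nat.le_succ n) ∘ₗ
          (Submodule.factorPow I N hnm ∘ₗ ψm) = ψ := by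
        rw [← LinearMap.comp_assoc, factorPow_comp, hψm]
      refine ⟨Submodule.factorPow I N hnm ∘ₗ ψm, ⟨hm ψm, ?_⟩, hred⟩
      apply Groth.Agent.H36.surjective_of_surjective_factorPow I n (Nat.one_le_iff_ne_zero.mpr hn)
      rw [hred]
      exact hsurj
  -- the compatible sequence
  have hzero : Stable I M N 0 (0 : M →ₗ[A] N ⧸ (I ^ 0 • ⊤ : Submodule A N)) ∧
      Function.Surjective (0 : M →ₗ[A] N ⧸ (I ^ 0 • ⊤ : Submodule A N)) := by
    have hsub : Subsingleton (N ⧸ (I ^ 0 • ⊤ : Submodule A N)) := by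
      rw [pow_zero, Ideal.one_eq_top, Submodule.top_smul]
      infer_instance
    refine ⟨fun k hk => ⟨0, ?_⟩, fun y => ⟨0, Subsingleton.elim _ _⟩⟩
    rw [LinearMap.comp_zero]
  let seq : ∀ n : ℕ, {ψ : M →ₗ[A] N ⧸ (I ^ n • ⊤ : Submodule A N) //
      Stable I M N n ψ ∧ Function.Surjective ψ} :=
    fun n => Nat.rec ⟨0, hzero⟩
      (fun n prev => ⟨Classical.choose (hstep n prev.1 prev.2),
        (Classical.choose_spec (hstep n prev.1 prev.2)).1⟩) n
  have hseq_succ : ∀ n, Submodule.factorPow I N (Nat.le_succ n) ∘ₗ (seq (n + 1)).1 = (seq n).1 :=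
    fun n => (Classical.choose_spec (hstep n (seq n).1 (seq n).2)).2
  have hseq : ∀ (m n : ℕ) (hmn : m ≤ n),
      Submodule.factorPow I N hmn ∘ₗ (seq n).1 = (seq m).1 := by
    intro m n hmn
    induction n, hmn using Nat.le_induction with
    | base =>
      apply LinearMap.ext
      intro x
      simp
    | succ n hmn ih =>
      rw [← factorPow_comp I N hmn (Nat.le_succ n), LinearMap.comp_assoc, hseq_succ, ih]
  -- the isomorphisms
  have hequiv : ∀ n, ∃ φ : (M ⧸ (I ^ n • ⊤ : Submodule A M)) ≃ₗ[A]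
      (N ⧸ (I ^ n • ⊤ : Submodule A N)), ∀ x : M, φ (Submodule.Quotient.mk x) = (seq n).1 x :=
    fun n => Groth.Agent.H36.exists_equiv_of_surjective I n (seq n).1 (seq n).2.2 (h n).some
  choose φ hφ using hequiv
  apply Groth.Agent.H36.nonempty_adicCompletion_equiv I φ
  intro m n hmn x
  obtain ⟨x, rfl⟩ := Submodule.Quotient.mk_surjective _ x
  rw [hφ]
  have h1 : AdicCompletion.transitionMap I M hmn (Submodule.Quotient.mk x) =
      Submodule.Quotient.mk x := rfl
  rw [h1, hφ, ← hseq m n hmn]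
  rfl

end Groth.Agent.S7135
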