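import Groth.Statements.S7138
import Groth.Agent.H36.KrasnerBase
import Groth.Agent.Lead.RegularCompletion

set_option autoImplicit false
universe u
open EtAlg

namespace Groth.Agent.S7138

open TensorProduct in
/-- Let A be a discrete valuation ring, K its field of fractions, A^ its completion and K^ the fraction
field of A^. Every finite separable extension M of K^ arises by base change: M ≅ K^ ⊗_K L as
K^-algebras for some finite separable extension L/K. -/
theorem result (A K : Type u) [CommRing A] [IsDomain A]
    [IsDiscreteValuationRing A] [Field K] [Algebra A K] [IsFractionRing A K]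
    (Kh : Type u) [Field Kh] [Algebra (AdicCompletion (IsLocalRing.maximalIdeal A) A) Kh]
    [IsFractionRing (AdicCompletion (IsLocalRing.maximalIdeal A) A) Kh] [Algebra A Kh] [Algebra K Kh]
    [IsScalarTower A (AdicCompletion (IsLocalRing.maximalIdeal A) A) Kh] [IsScalarTower A K Kh]
    (M : Type u) [Field M] [Algebra Kh M] [FiniteDimensional Kh M] [Algebra.IsSeparable Kh M] :
    ∃ (L : Type u) (_ : Field L) (_ : Algebra K L), FiniteDimensional K L ∧ Algebra.IsSeparable K L ∧
      Nonempty ((Kh ⊗[K] L) ≃ₐ[Kh] M) := by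
  classical
  obtain ⟨hdom, hdvr⟩ :=
    (Groth.Agent.Lead.RLR.exists_isDiscreteValuationRing_adicCompletion_iff A).mp
      ⟨inferInstance, inferInstance⟩
  let _ : Algebra (AdicCompletion (IsLocalRing.maximalIdeal A) A) M :=
    ((algebraMap Kh M).comp (algebraMap (AdicCompletion (IsLocalRing.maximalIdeal A) A) Kh)).toAlgebra
  have hst1 : IsScalarTower (AdicCompletion (IsLocalRing.maximalIdeal A) A) Kh M :=
    IsScalarTower.of_algebraMap_eq (fun _ => rfl)
  let _ : Algebra K M := ((algebraMap Kh M).comp (algebraMap K Kh)).toAlgebra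
  have hst2 : IsScalarTower K Kh M := IsScalarTower.of_algebraMap_eq (fun _ => rfl)
  -- density of A in its completion
  have hdense : ∀ (x : AdicCompletion (IsLocalRing.maximalIdeal A) A) (n : ℕ), ∃ s : A,
      x - algebraMap A (AdicCompletion (IsLocalRing.maximalIdeal A) A) s ∈
        IsLocalRing.maximalIdeal (AdicCompletion (IsLocalRing.maximalIdeal A) A) ^ n := by
    intro x n
    obtain ⟨s, hs⟩ := Submodule.mkQ_surjective _ (x.val n)
    refine ⟨s, ?_⟩
    have hker : x - algebraMap A (AdicCompletion (IsLocalRing.maximalIdeal A) A) s ∈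
        (AdicCompletion.eval (IsLocalRing.maximalIdeal A) A n).ker := by
      rw [LinearMap.mem_ker, map_sub, AdicCompletion.eval_apply]
      have h1 : algebraMap A (AdicCompletion (IsLocalRing.maximalIdeal A) A) s =
          AdicCompletion.of (IsLocalRing.maximalIdeal A) A s := rfl
      rw [h1, AdicCompletion.eval_of, hs, sub_self]
    rw [← AdicCompletion.pow_smul_top_eq_ker_eval
      (IsLocalRing.maximalIdeal A).fg_of_isNoetherianRing] at hker
    rw [AdicCompletion.maximalIdeal_eq_map, ← Ideal.map_pow]
    refine Submodule.smul_induction_on hker ?_ ?_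
    · intro r hr y _
      rw [Algebra.smul_def]
      exact Ideal.mul_mem_right _ _ (Ideal.mem_map_of_mem _ hr)
    · intro y z hy hz
      exact Ideal.add_mem _ hy hz
  obtain ⟨P₁, β, hmonic, hdeg, hroot, htop⟩ :=
    Groth.Agent.H36.Krasner.core (R := AdicCompletion (IsLocalRing.maximalIdeal A) A) (F := Kh)
      (M := M) (algebraMap A (AdicCompletion (IsLocalRing.maximalIdeal A) A)) hdense
  -- the polynomial over K and over Kh
  set P₁K : Polynomial K := P₁.map (algebraMap A K) with hP₁K
  have hKmonic : P₁K.Monic := hmonic.map _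
  have hKdeg : P₁K.natDegree = Module.finrank Kh M := by rw [hP₁K, hmonic.natDegree_map, hdeg]
  have hKhmonic : (P₁K.map (algebraMap K Kh)).Monic := hKmonic.map _
  have hKhdeg : (P₁K.map (algebraMap K Kh)).natDegree = Module.finrank Kh M := by
    rw [hKmonic.natDegree_map, hKdeg]
  have hmapeq : P₁K.map (algebraMap K Kh) = P₁.map (algebraMap A Kh) := by
    rw [hP₁K, Polynomial.map_map, ← IsScalarTower.algebraMap_eq]
  have hrootKh : Polynomial.aeval β (P₁K.map (algebraMap K Kh)) = 0 := by
    rw [hmapeq, Polynomial.aeval_def, Polynomial.eval₂_map]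
    have h1 : (algebraMap Kh M).comp (algebraMap A Kh) =
        (algebraMap (AdicCompletion (IsLocalRing.maximalIdeal A) A) M).comp
          (algebraMap A (AdicCompletion (IsLocalRing.maximalIdeal A) A)) := by
      rw [IsScalarTower.algebraMap_eq A (AdicCompletion (IsLocalRing.maximalIdeal A) A) Kh]
      rfl
    rw [h1]
    exact hroot
  have hβint : IsIntegral Kh β := Algebra.IsIntegral.isIntegral β
  have hminpoly : minpoly Kh β = P₁K.map (algebraMap K Kh) := by
    have hdvd := minpoly.dvd Kh β hrootKh
    have hdeg' : (minpoly Kh β).natDegree = Module.finrank Kh M := by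
      rw [← IntermediateField.adjoin.finrank hβint, htop, IntermediateField.finrank_top']
    exact (Polynomial.eq_of_monic_of_dvd_of_natDegree_le (minpoly.monic hβint) hKhmonic hdvd
      (by rw [hKhdeg, hdeg'])).symm
  have hirrKh : Irreducible (P₁K.map (algebraMap K Kh)) := hminpoly ▸ minpoly.irreducible hβint
  have hsepKh : (P₁K.map (algebraMap K Kh)).Separable :=
    hminpoly ▸ Algebra.IsSeparable.isSeparable Kh β
  have hirrK : Irreducible P₁K :=
    Polynomial.Monic.irreducible_of_irreducible_map (algebraMap K Kh) P₁K hKmonic hirrKh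
  have hsepK : P₁K.Separable := Polynomial.separable_map (algebraMap K Kh) |>.mp hsepKh
  have hfact : Fact (Irreducible P₁K) := ⟨hirrK⟩
  have hne : P₁K ≠ 0 := hKmonic.ne_zero
  let pbL := AdjoinRoot.powerBasis hne
  have hfinL : FiniteDimensional K (AdjoinRoot P₁K) := pbL.finite
  have hrankL : Module.finrank K (AdjoinRoot P₁K) = Module.finrank Kh M := by
    rw [pbL.finrank, AdjoinRoot.powerBasis_dim, hKdeg]
  have hsepL : Algebra.IsSeparable K (AdjoinRoot P₁K) := by
    have hrootsep : IsSeparable K (AdjoinRoot.root P₁K) := by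
      rw [IsSeparable, AdjoinRoot.minpoly_root hne, hKmonic.leadingCoeff, inv_one, map_one,
        mul_one]
      exact hsepK
    have h1 : Algebra.IsSeparable K (IntermediateField.adjoin K {AdjoinRoot.root P₁K}) :=
      (IntermediateField.isSeparable_adjoin_simple_iff_isSeparable K _).mpr hrootsep
    have h2 : IntermediateField.adjoin K {AdjoinRoot.root P₁K} = ⊤ :=
      IntermediateField.adjoin_eq_top_of_algebra K _ (AdjoinRoot.adjoinRoot_eq_top)
    rw [h2] at h1
    exact Algebra.IsSeparable.of_algHom K _
      (IntermediateField.topEquiv (F := K) (E := AdjoinRoot P₁K)).symm.toAlgHom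
  refine ⟨AdjoinRoot P₁K, inferInstance, inferInstance, hfinL, hsepL, ?_⟩
  -- the comparison map
  have hrootK : Polynomial.eval₂ (Algebra.ofId K M : K →ₐ[K] M) β P₁K = 0 := by
    have h1 := hrootKh
    rw [Polynomial.aeval_def, Polynomial.eval₂_map] at h1
    exact h1
  let g : AdjoinRoot P₁K →ₐ[K] M := AdjoinRoot.liftAlgHom P₁K (Algebra.ofId K M) β hrootK
  let ψ : Kh ⊗[K] AdjoinRoot P₁K →ₐ[Kh] M :=
    Algebra.TensorProduct.lift (Algebra.ofId Kh M) g (fun _ _ => Commute.all _ _)
  have hψβ : ψ (1 ⊗ₜ AdjoinRoot.root P₁K) = β := by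
    simp [ψ, g]
  have hsurj : Function.Surjective ψ := by
    rw [← AlgHom.range_eq_top, eq_top_iff]
    have h1 : (⊤ : Subalgebra Kh M) = Algebra.adjoin Kh {β} := by
      rw [← IntermediateField.adjoin_simple_toSubalgebra_of_isAlgebraic hβint.isAlgebraic, htop,
        IntermediateField.top_toSubalgebra]
    rw [h1]
    refine Algebra.adjoin_le ?_
    intro x hx
    rw [Set.mem_singleton_iff.mp hx]
    exact ⟨_, hψβ⟩
  have hfinT : FiniteDimensional Kh (Kh ⊗[K] AdjoinRoot P₁K) := inferInstance
  have hrankT : Module.finrank Kh (Kh ⊗[K] AdjoinRoot P₁K) = Module.finrank Kh M := by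
    rw [Module.finrank_baseChange, hrankL]
  have hinj : Function.Injective ψ :=
    (LinearMap.injective_iff_surjective_of_finrank_eq_finrank (f := ψ.toLinearMap) hrankT).mpr hsurj
  exact ⟨AlgEquiv.ofBijective ψ ⟨hinj, hsurj⟩⟩

end Groth.Agent.S7138
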