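import Groth.Statements.S7139
import Groth.Agent.H1.InvEtale
import Groth.Agent.H1.InvEtale2
import Groth.Agent.H1.InvEtale3

set_option autoImplicit false
universe u
open EtAlg

namespace Groth.Agent.S7139

/-- A is a discrete valuation ring, K its field of fractions, and L/K is finite Galois with Galois group
G. Write B for the integral closure of A in L, equipped with the induced G-action, m a maximal ideal
of B and I ⊆ G its inertia group. Denote by B' the integral closure of A inside the fixed field L^I,
with a map to B compatible with L^I ⊆ L. Then the image of B' in B is the ring of invariants B^I,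
and A → B'_{m'} is étale, where m' = m ∩ B'. -/
theorem result (A K L B : Type u) [CommRing A] [IsDomain A]
    [IsDiscreteValuationRing A] [Field K] [Field L] [Algebra A K] [IsFractionRing A K] [Algebra K L]
    [Algebra A L] [IsScalarTower A K L] [FiniteDimensional K L] [IsGalois K L]
    [CommRing B] [Algebra A B] [Algebra B L] [IsScalarTower A B L] [IsIntegralClosure B A L]
    [MulSemiringAction (L ≃ₐ[K] L) B]
    (hact : ∀ (σ : L ≃ₐ[K] L) (b : B), algebraMap B L (σ • b) = σ (algebraMap B L b))
    (m : Ideal B) [m.IsMaximal]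
    (B' : Type u) [CommRing B'] [Algebra A B'] [Algebra B' B] [IsScalarTower A B' B] [Algebra B' L]
    [IsScalarTower B' B L]
    [Algebra B' (IntermediateField.fixedField (m.inertia (L ≃ₐ[K] L)))]
    [IsScalarTower B' (IntermediateField.fixedField (m.inertia (L ≃ₐ[K] L))) L]
    [IsIntegralClosure B' A (IntermediateField.fixedField (m.inertia (L ≃ₐ[K] L)))] :
    (∀ b : B, (∀ σ ∈ m.inertia (L ≃ₐ[K] L), σ • b = b) ↔ b ∈ Set.range (algebraMap B' B)) ∧
      Algebra.Etale A (Localization.AtPrime (m.comap (algebraMap B' B))) := by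
  classical
  have htowF : IsScalarTower A (IntermediateField.fixedField (m.inertia (L ≃ₐ[K] L))) L :=
    IsScalarTower.of_algebraMap_eq (fun _ => rfl)
  -- basic injectivity facts
  have hBL : Function.Injective (algebraMap B L) := IsIntegralClosure.algebraMap_injective B A L
  have hKL : Function.Injective (algebraMap K L) := (algebraMap K L).injective
  have hB'F : Function.Injective (algebraMap B'
      (IntermediateField.fixedField (m.inertia (L ≃ₐ[K] L)))) :=
    IsIntegralClosure.algebraMap_injective B' A _
  have hB'L : Function.Injective (algebraMap B' L) := by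
    rw [IsScalarTower.algebraMap_eq B' (IntermediateField.fixedField (m.inertia (L ≃ₐ[K] L))) L]
    exact (algebraMap _ L).injective.comp hB'F
  have hB'B : Function.Injective (algebraMap B' B) := by
    have : (algebraMap B L).comp (algebraMap B' B) = algebraMap B' L :=
      (IsScalarTower.algebraMap_eq B' B L).symm
    intro x y hxy
    apply hB'L
    rw [← this, RingHom.comp_apply, RingHom.comp_apply, hxy]
  have hB'fix : ∀ (b' : B') (σ : L ≃ₐ[K] L), σ ∈ m.inertia (L ≃ₐ[K] L) →
      σ • algebraMap B' B b' = algebraMap B' B b' := by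
    intro b' σ hσ
    apply hBL
    rw [hact, ← IsScalarTower.algebraMap_apply,
      IsScalarTower.algebraMap_apply B' (IntermediateField.fixedField (m.inertia (L ≃ₐ[K] L))) L]
    exact (IntermediateField.mem_fixedField_iff _ _).mp (Subtype.mem _) σ hσ
  have h1 : ∀ b : B, (∀ σ ∈ m.inertia (L ≃ₐ[K] L), σ • b = b) ↔
      b ∈ Set.range (algebraMap B' B) := by
    intro b
    constructor
    · intro hb
      have hmem : algebraMap B L b ∈ IntermediateField.fixedField (m.inertia (L ≃ₐ[K] L)) := by
        rw [IntermediateField.mem_fixedField_iff]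
        intro σ hσ
        rw [← hact, hb σ hσ]
      have h0 : IsIntegral A (algebraMap B L b) :=
        (IsIntegralClosure.isIntegral A L b).map (IsScalarTower.toAlgHom A B L)
      have hint : IsIntegral A (⟨algebraMap B L b, hmem⟩ :
          IntermediateField.fixedField (m.inertia (L ≃ₐ[K] L))) := by
        rw [← isIntegral_algebraMap_iff (algebraMap
          (IntermediateField.fixedField (m.inertia (L ≃ₐ[K] L))) L).injective]
        exact h0
      obtain ⟨b', hb'⟩ := IsIntegralClosure.isIntegral_iff (A := B').mp hint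
      refine ⟨b', hBL ?_⟩
      rw [← IsScalarTower.algebraMap_apply,
        IsScalarTower.algebraMap_apply B' (IntermediateField.fixedField (m.inertia (L ≃ₐ[K] L))) L,
        hb']
      rfl
    · rintro ⟨b', rfl⟩ σ hσ
      exact hB'fix b' σ hσ
  refine ⟨h1, ?_⟩
  -- invariants of the full group
  have hAL : Function.Injective (algebraMap A L) := by
    rw [IsScalarTower.algebraMap_eq A K L]
    exact hKL.comp (IsFractionRing.injective A K)
  have hAB : Function.Injective (algebraMap A B) := by
    have : (algebraMap B L).comp (algebraMap A B) = algebraMap A L :=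
      (IsScalarTower.algebraMap_eq A B L).symm
    intro x y hxy
    apply hAL
    rw [← this, RingHom.comp_apply, RingHom.comp_apply, hxy]
  have hAfix : ∀ (a : A) (σ : L ≃ₐ[K] L), σ • algebraMap A B a = algebraMap A B a := by
    intro a σ
    apply hBL
    rw [hact, ← IsScalarTower.algebraMap_apply, IsScalarTower.algebraMap_apply A K L, σ.commutes]
  have hAinv : ∀ b : B, (∀ σ : L ≃ₐ[K] L, σ • b = b) → b ∈ Set.range (algebraMap A B) := by
    intro b hb
    have hfix : ∀ σ : L ≃ₐ[K] L, σ (algebraMap B L b) = algebraMap B L b := fun σ => by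
      rw [← hact, hb σ]
    obtain ⟨k, hk⟩ := (IsGalois.mem_range_algebraMap_iff_fixed (F := K) (E := L) _).mpr hfix
    have hint : IsIntegral A k := by
      rw [← isIntegral_algebraMap_iff hKL, hk]
      exact (IsIntegralClosure.isIntegral A L b).map (IsScalarTower.toAlgHom A B L)
    obtain ⟨a, rfl⟩ := IsIntegrallyClosed.algebraMap_eq_of_integral hint
    refine ⟨a, hBL ?_⟩
    rw [← hk, ← IsScalarTower.algebraMap_apply, ← IsScalarTower.algebraMap_apply]
  -- the separating element
  obtain ⟨θB, hθinv, hθ⟩ :=
    Groth.Agent.H1.InvEt.exists_invariant_sub_notMem_of_notMem_inertia (G := L ≃ₐ[K] L) m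
  obtain ⟨θ, rfl⟩ := (h1 θB).mp hθinv
  obtain ⟨g₀, hg₀, het⟩ := Groth.Agent.H1.InvEt.exists_away_isStandardEtale_of_notMem
    (A := A) (B' := B') (R := B) (G := L ≃ₐ[K] L) hAB hAinv hAfix (m.inertia _) hB'B hB'fix θ m hθ
  -- semi-local structure of `B'`
  have htowB'F : IsScalarTower A B' (IntermediateField.fixedField (m.inertia (L ≃ₐ[K] L))) := by
    refine IsScalarTower.of_algebraMap_eq (fun a => ?_)
    apply (algebraMap (IntermediateField.fixedField (m.inertia (L ≃ₐ[K] L))) L).injective
    rw [← IsScalarTower.algebraMap_apply A _ L, ← IsScalarTower.algebraMap_apply B' _ L,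
      IsScalarTower.algebraMap_apply B' B L, ← IsScalarTower.algebraMap_apply A B' B,
      ← IsScalarTower.algebraMap_apply A B L]
  have hfinB' : Module.Finite A B' :=
    IsIntegralClosure.finite A K (IntermediateField.fixedField (m.inertia (L ≃ₐ[K] L))) B'
  have hintB' : Algebra.IsIntegral A B' :=
    IsIntegralClosure.isIntegral_algebra A (IntermediateField.fixedField (m.inertia (L ≃ₐ[K] L)))
  have hdom : IsDomain B' := hB'L.isDomain _
  have hdim : Ring.DimensionLEOne B' := Ring.DimensionLEOne.of_isIntegral A B'
  have hmaxfin : {M : Ideal B' | M.IsMaximal}.Finite := by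
    refine (Algebra.QuasiFinite.finite_primesOver (S := B') (IsLocalRing.maximalIdeal A)).subset ?_
    intro M hM
    have hM' : M.IsMaximal := hM
    refine ⟨hM'.isPrime, ⟨?_⟩⟩
    have : (M.comap (algebraMap A B')).IsMaximal :=
      Ideal.isMaximal_comap_of_isIntegral_of_isMaximal M
    exact (IsLocalRing.eq_maximalIdeal this).symm
  have hintB : Algebra.IsIntegral A B := IsIntegralClosure.isIntegral_algebra A L
  have hintB'B : Algebra.IsIntegral B' B := Algebra.IsIntegral.tower_top A
  have hm'max : (m.comap (algebraMap B' B)).IsMaximal :=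
    Ideal.isMaximal_comap_of_isIntegral_of_isMaximal m
  obtain ⟨s, hs, hsall⟩ :=
    Groth.Agent.H1.InvEt.exists_mem_all_other_maximal (m.comap (algebraMap B' B)) hmaxfin
  have hsp : ∀ 𝔓 : Ideal B', 𝔓.IsPrime → s ∉ 𝔓 → 𝔓 ≤ m.comap (algebraMap B' B) := by
    intro 𝔓 h𝔓 hs𝔓
    by_cases hbot : 𝔓 = ⊥
    · rw [hbot]; exact bot_le
    · have hmax : 𝔓.IsMaximal := hdim.maximalOfPrime hbot h𝔓
      by_cases heq : 𝔓 = m.comap (algebraMap B' B)
      · rw [heq]
      · exact absurd (hsall 𝔓 hmax heq) hs𝔓
  have hetale : Algebra.Etale A (Localization.Away g₀) := inferInstance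
  exact Groth.Agent.H1.InvEt.etale_atPrime_of_away (m.comap (algebraMap B' B)) g₀ s
    (fun h => hg₀ (Ideal.mem_comap.mp h)) hs hsp

end Groth.Agent.S7139
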