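import Groth.Statements.S7144
-- import your own Groth.Agent.* helpers here

set_option autoImplicit false
universe u
open CAlg

namespace Groth.Agent.S7144

/-- (1) ⇔ (2): let R be a nonzero ring. Then for all a, b in R one of a, b divides the other if and only
if R is local and every finitely generated ideal of R is principal. (The further equivalence with
the total ordering of the set of ideals by inclusion is standard and not restated here.) -/
theorem result (R : Type u) [CommRing R] [Nontrivial R] :
    PreValuationRing R ↔ IsLocalRing R ∧ IsBezout R := by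
  constructor
  · intro h
    refine ⟨inferInstance, ?_⟩
    classical
    rw [IsBezout.iff_span_pair_isPrincipal]
    intro x y
    rw [Ideal.span_insert]
    rcases (PreValuationRing.iff_ideal_total.mp h).total (Ideal.span {x} : Ideal R) (Ideal.span {y})
      with h | h
    · rw [sup_eq_right.mpr h]; exact ⟨⟨_, rfl⟩⟩
    · rw [sup_eq_left.mpr h]; exact ⟨⟨_, rfl⟩⟩
  · rintro ⟨_, _⟩
    refine PreValuationRing.iff_dvd_total.mpr ⟨fun a b => ?_⟩
    obtain ⟨g, e : _ = Ideal.span _⟩ := IsBezout.span_pair_isPrincipal a b
    obtain ⟨a, rfl⟩ := Ideal.mem_span_singleton'.mp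
        (show a ∈ Ideal.span {g} by rw [← e]; exact Ideal.subset_span (by simp))
    obtain ⟨b, rfl⟩ := Ideal.mem_span_singleton'.mp
        (show b ∈ Ideal.span {g} by rw [← e]; exact Ideal.subset_span (by simp))
    obtain ⟨x, y, e'⟩ := Ideal.mem_span_pair.mp
        (show g ∈ Ideal.span {a * g, b * g} by rw [e]; exact Ideal.subset_span (by simp))
    have hu : (x * a + y * b) + (1 - x * a - y * b) = 1 := by ring
    rcases IsLocalRing.isUnit_or_isUnit_of_add_one hu with h' | h'
    · have h2 : IsUnit (x * a) ∨ IsUnit (y * b) := by
        by_contra hcon
        push Not at hcon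
        exact (IsLocalRing.nonunits_add hcon.1 hcon.2) h'
      rcases h2 with h2 | h2 <;> [left; right]
      all_goals exact mul_dvd_mul_right (isUnit_iff_forall_dvd.mp (isUnit_of_mul_isUnit_right h2) _) _
    · have hg : g = 0 := by
        have : (1 - x * a - y * b) * g = 0 := by
          have : (1 - x * a - y * b) * g = g - (x * (a * g) + y * (b * g)) := by ring
          rw [this, e', sub_self]
        exact (h'.mul_right_eq_zero).mp this
      left
      simp [hg]

end Groth.Agent.S7144
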