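import Groth.Statements.S7146
import Groth.Agent.H36.HilbertSamuelBound

set_option autoImplicit false
universe u
open Filter
open CAlg

namespace Groth.Agent.S7146

theorem factorial_mul_multichoose_le (d m : ℕ) :
    d.factorial * Nat.multichoose (d + 1) m ≤ (m + d) ^ d := by
  rw [Nat.multichoose_eq]
  have h1 : d + 1 + m - 1 = m + d := by omega
  rw [h1, Nat.choose_symm_add, ← Nat.descFactorial_eq_factorial_mul_choose]
  exact Nat.descFactorial_le_pow _ _

/-- Let R be a Noetherian local ring of Krull dimension d and I the ideal generated by a system of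
parameters g_1, ..., g_d (d elements of the maximal ideal generating an ideal with radical the
maximal ideal); let e_I be the multiplicity of I, i.e. d! times the top coefficient of the numerical
polynomial n ↦ length(R/I^(n+1)), equivalently the limit of d!·length(R/Iⁿ)/n^d. Then e_I ≤
length(R/I). (Stated for a natural number e equal to that limit.) -/
theorem result (R : Type u) [CommRing R] [IsNoetherianRing R] [IsLocalRing R]
    (d : ℕ) (hd : ringKrullDim R = d) (g : Fin d → R) (hg : ∀ i, g i ∈ IsLocalRing.maximalIdeal R)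
    (hsop : IsLocalRing.maximalIdeal R ≤ (Ideal.span (Set.range g)).radical) (e : ℕ)
    (he : Tendsto (fun n : ℕ => (d.factorial : ℝ) * ((Module.length R (R ⧸ Ideal.span (Set.range g) ^ n)).toNat : ℝ) / (n : ℝ) ^ d)
      atTop (nhds (e : ℝ))) :
    (e : ℕ∞) ≤ Module.length R (R ⧸ Ideal.span (Set.range g)) := by
  by_cases htop : Module.length R (R ⧸ Ideal.span (Set.range g)) = ⊤
  · rw [htop]; exact le_top
  obtain ⟨L₀, hL₀⟩ := ENat.ne_top_iff_exists.mp htop
  rw [← hL₀]
  -- the comparison sequence
  have hb : Tendsto (fun n : ℕ => (L₀ : ℝ) * (1 + (d : ℝ) / (n : ℝ)) ^ d) atTop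
      (nhds ((L₀ : ℝ) * (1 + 0) ^ d)) :=
    (((tendsto_const_div_atTop_nhds_zero_nat (d : ℝ)).const_add 1).pow d).const_mul _
  have hle : ∀ᶠ n : ℕ in atTop,
      (d.factorial : ℝ) * ((Module.length R (R ⧸ Ideal.span (Set.range g) ^ n)).toNat : ℝ) /
        (n : ℝ) ^ d ≤ (L₀ : ℝ) * (1 + (d : ℝ) / (n : ℝ)) ^ d := by
    rw [eventually_atTop]
    refine ⟨1, fun n hn => ?_⟩
    obtain ⟨m, rfl⟩ : ∃ m, n = m + 1 := ⟨n - 1, by omega⟩
    have h1 := Groth.Agent.H36.length_quotient_pow_succ_le g m
    rw [← hL₀] at h1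
    have h2 : (Module.length R (R ⧸ Ideal.span (Set.range g) ^ (m + 1))).toNat ≤
        Nat.multichoose (d + 1) m * L₀ := by
      apply ENat.toNat_le_of_le_natCast
      exact_mod_cast h1
    have h3 : d.factorial * (Module.length R (R ⧸ Ideal.span (Set.range g) ^ (m + 1))).toNat ≤
        L₀ * (m + 1 + d) ^ d := by
      calc d.factorial * (Module.length R (R ⧸ Ideal.span (Set.range g) ^ (m + 1))).toNat
          ≤ d.factorial * (Nat.multichoose (d + 1) m * L₀) := Nat.mul_le_mul_left _ h2
        _ = (d.factorial * Nat.multichoose (d + 1) m) * L₀ := by ring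
        _ ≤ (m + d) ^ d * L₀ := Nat.mul_le_mul_right _ (factorial_mul_multichoose_le d m)
        _ ≤ (m + 1 + d) ^ d * L₀ :=
            Nat.mul_le_mul_right _ (Nat.pow_le_pow_left (by omega) d)
        _ = L₀ * (m + 1 + d) ^ d := by ring
    have hpos : (0 : ℝ) < ((m + 1 : ℕ) : ℝ) := by positivity
    have h4 : (1 + (d : ℝ) / ((m + 1 : ℕ) : ℝ)) = (((m + 1 + d : ℕ) : ℝ)) / ((m + 1 : ℕ) : ℝ) := by
      field_simp
      push_cast
      ring
    rw [h4, div_pow, ← mul_div_assoc]
    apply div_le_div_of_nonneg_right _ (by positivity)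
    exact_mod_cast h3
  have := le_of_tendsto_of_tendsto he hb hle
  rw [add_zero, one_pow, mul_one] at this
  exact_mod_cast this

end Groth.Agent.S7146
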