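import Groth.Statements.S7160
import Groth.Agent.H36.DerivedLinear

set_option autoImplicit false
universe u
open CategoryTheory CategoryTheory.Pretriangulated
attribute [local instance] HasDerivedCategory.standard
open CAlg

namespace Groth.Agent.S7160

/-- Let R be a ring, f an element of R, M an object of D(R) and C the cone of f : M → M. Suppose that
H^i(M)_f = 0 whenever i < 0 (every element of H^i(M) is killed by a power of f) and that H^i(C) = 0
whenever i < -1. Then H^i(M) vanishes for every i < 0. -/
theorem result (R : Type u) [CommRing R] (f : R) (M C : Dual.D R)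
    (g : M ⟶ C) (h : C ⟶ M⟦(1 : ℤ)⟧) (hT : Triangle.mk (f • 𝟙 M) g h ∈ distinguishedTriangles)
    (hloc : ∀ i : ℤ, i < 0 → ∀ x : Dual.HD R M i, ∃ n : ℕ, f ^ n • x = 0)
    (hC : ∀ i : ℤ, i < -1 → Subsingleton (Dual.HD R C i)) :
    ∀ i : ℤ, i < 0 → Subsingleton (Dual.HD R M i) := by
  intro i hi
  -- the connecting map from H^{i-1}(C) vanishes
  have hsub : Subsingleton (Dual.HD R C (i - 1)) := hC (i - 1) (by omega)
  have hδ : DerivedCategory.HomologySequence.δ (Triangle.mk (f • 𝟙 M) g h) (i - 1) i (by omega) = 0 := by
    apply ModuleCat.hom_ext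
    apply LinearMap.ext
    intro x
    have hx : x = 0 := @Subsingleton.elim _ hsub _ _
    rw [hx]
    simp
  have hmono : Mono ((DerivedCategory.homologyFunctor (ModuleCat.{u} R) i).map
      (Triangle.mk (f • 𝟙 M) g h).mor₁) :=
    (DerivedCategory.HomologySequence.mono_homologyMap_mor₁_iff _ hT (i - 1) i (by omega)).mpr hδ
  have hmap : (DerivedCategory.homologyFunctor (ModuleCat.{u} R) i).map
      (Triangle.mk (f • 𝟙 M) g h).mor₁ =
      f • 𝟙 ((DerivedCategory.homologyFunctor (ModuleCat.{u} R) i).obj M) :=
    Groth.Agent.H36.derivedCategory_homologyFunctor_map_smul_id R (ModuleCat.{u} R) i f M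
  rw [hmap] at hmono
  have hinj : Function.Injective (fun x : Dual.HD R M i => f • x) := by
    have := (ModuleCat.mono_iff_injective _).mp hmono
    intro x y hxy
    apply this
    exact hxy
  have hinjpow : ∀ n : ℕ, Function.Injective (fun x : Dual.HD R M i => f ^ n • x) := by
    intro n
    induction n with
    | zero => intro x y hxy; simpa using hxy
    | succ n ih =>
      intro x y hxy
      apply ih
      apply hinj
      simpa [pow_succ', mul_smul] using hxy
  refine ⟨fun x y => ?_⟩
  have key : ∀ z : Dual.HD R M i, z = 0 := by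
    intro z
    obtain ⟨n, hn⟩ := hloc i hi z
    apply hinjpow n
    simpa using hn
  rw [key x, key y]

end Groth.Agent.S7160
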