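import Mathlib
import Groth.Statements.S7173
import Groth.Agent.H35.PerfectHomReg

set_option autoImplicit false
universe u
attribute [local instance] HasDerivedCategory.standard
open FlatMor

namespace Groth.Agent.S7173

open AlgebraicGeometry CategoryTheory Limits in
/-- A morphism locally of finite type to a regular scheme S (locally Noetherian with all local rings
regular) whose affine opens have finite Krull dimension is perfect. (The published statement carries
no dimension hypothesis; its proof is the ring statement for a finite type algebra over a regular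
ring of finite dimension, so finite Krull dimension of the affine opens of S is assumed here.) -/
theorem result {X S : Scheme.{u}} (f : X ⟶ S) [LocallyOfFiniteType f] [IsLocallyNoetherian S]
    (hreg : ∀ s : S, IsRegularLocalRing (S.presheaf.stalk s))
    (hdim : ∀ V : S.Opens, IsAffineOpen V → ringKrullDim Γ(S, V) < ⊤) :
    MoreMor.IsPerfectMor f := by
  intro U V hU hV hUV
  letI := (f.appLE V U hUV).hom.toAlgebra
  haveI : IsNoetherianRing Γ(S, V) := IsLocallyNoetherian.component_noetherian ⟨V, hV⟩
  haveI : IsRegularRing Γ(S, V) := by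
    rw [isRegularRing_iff]
    intro p hp
    have hy : hV.fromSpec (⟨p, hp⟩ : PrimeSpectrum Γ(S, V)) ∈ V := by
      have := hV.range_fromSpec
      have h2 : hV.fromSpec (⟨p, hp⟩ : PrimeSpectrum Γ(S, V)) ∈ Set.range hV.fromSpec :=
        ⟨_, rfl⟩
      rw [this] at h2
      exact h2
    letI : Algebra Γ(S, V) (S.presheaf.stalk (hV.fromSpec (⟨p, hp⟩ : PrimeSpectrum Γ(S, V)))) :=
      TopCat.Presheaf.algebra_section_stalk S.presheaf
        ⟨hV.fromSpec (⟨p, hp⟩ : PrimeSpectrum Γ(S, V)), hy⟩
    haveI : IsLocalization.AtPrime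
        (S.presheaf.stalk (hV.fromSpec (⟨p, hp⟩ : PrimeSpectrum Γ(S, V)))) p :=
      hV.isLocalization_stalk' ⟨p, hp⟩ hy
    haveI := hreg (hV.fromSpec (⟨p, hp⟩ : PrimeSpectrum Γ(S, V)))
    exact IsRegularLocalRing.of_ringEquiv
      (IsLocalization.algEquiv p.primeCompl
        (S.presheaf.stalk (hV.fromSpec (⟨p, hp⟩ : PrimeSpectrum Γ(S, V))))
        (Localization.AtPrime p)).toRingEquiv
  haveI : Algebra.FiniteType Γ(S, V) Γ(X, U) :=
    HasRingHomProperty.appLE (P := @LocallyOfFiniteType) f inferInstance ⟨V, hV⟩ ⟨U, hU⟩ hUV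
  exact Groth.Agent.H35.RegGlDim.isPerfectHom_of_regular _ _ (hdim V hV)

end Groth.Agent.S7173
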