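import Groth.Statements.S7177
-- import your own Groth.Agent.* helpers here
import Groth.Agent.H70.FlatDiag.Main

set_option autoImplicit false
universe u
open FlatMor

namespace Groth.Agent.S7177

open AlgebraicGeometry CategoryTheory Limits in
/-- Let f : X → Y have flat diagonal and let F be an O_X-module flat over Y. Then F is flat as an
O_X-module. -/
theorem result {X Y : Scheme.{u}} (f : X ⟶ Y) [Flat (pullback.diagonal f)] (F : X.Modules)
    (hF : FlatMod.IsFlatOver f F) : FlatMod.IsFlat F := by
  exact Groth.Agent.H70.FlatDiag.isFlat_of_isFlatOver f inferInstance F hF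

end Groth.Agent.S7177
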