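import Groth.Statements.S7191
import Groth.Agent.H68.CD.LimitMain
-- import your own Groth.Agent.* helpers here

set_option autoImplicit false
universe u
open CategoryTheory AlgebraicGeometry
open FlatMor

namespace Groth.Agent.S7191

/-- Let S = lim S_i be a cofiltered limit of schemes with affine transition morphisms, f₀ : X₀ → Y₀ a
morphism over some S_{i₀} with Y₀ quasi-compact and quasi-separated and f₀ locally of finite
presentation, and f : X → Y its base change to S. If f is completely decomposed (every point of Y is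
the image of a point of X with the same residue field), then some base change f_i : X_i → Y_i of f₀
to an S_i, i → i₀, is completely decomposed. -/
theorem result {I : Type u} [SmallCategory I] [IsCofiltered I]
    (D : I ⥤ Scheme.{u}) (c : Limits.Cone D) (hc : Limits.IsLimit c)
    [∀ (i j : I) (a : i ⟶ j), IsAffineHom (D.map a)]
    (i0 : I) {X0 Y0 X Y : Scheme.{u}} (f0 : X0 ⟶ Y0) (q0 : Y0 ⟶ D.obj i0) [CompactSpace ↥Y0] [QuasiSeparatedSpace ↥Y0]
    [LocallyOfFinitePresentation f0]
    (f : X ⟶ Y) (q : Y ⟶ c.pt) (pY : Y ⟶ Y0) (pX : X ⟶ X0)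
    (hY : IsPullback pY q q0 (c.π.app i0)) (hX : IsPullback pX f f0 pY)
    (hcd : ∀ y : Y, ∃ x : X, f x = y ∧ Function.Bijective (f.residueFieldMap x)) :
    ∃ (i : I) (a : i ⟶ i0) (Xi Yi : Scheme.{u}) (fi : Xi ⟶ Yi) (qi : Yi ⟶ D.obj i) (pYi : Yi ⟶ Y0) (pXi : Xi ⟶ X0),
      IsPullback pYi qi q0 (D.map a) ∧ IsPullback pXi fi f0 pYi ∧
      ∀ y : Yi, ∃ x : Xi, fi x = y ∧ Function.Bijective (fi.residueFieldMap x) := by
  classical
  have hAff : ∀ {i j : I} (a : i ⟶ j), IsAffineHom (D.map a) := fun a => inferInstance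
  -- identify `Y` with the canonical pullback
  let e : Y ≅ Limits.pullback (c.π.app i0) q0 := hY.flip.isoPullback
  have he2 : e.hom ≫ Limits.pullback.snd (c.π.app i0) q0 = pY := hY.flip.isoPullback_hom_snd
  have he2' : e.inv ≫ pY = Limits.pullback.snd (c.π.app i0) q0 := by
    rw [← he2, Iso.inv_hom_id_assoc]
  have hcd' : ∀ y : (Groth.Agent.H24.pullbackCone D c i0 q0).pt,
      Groth.Agent.H68.CD.HasRatSection
        (Limits.pullback.snd f0 (Limits.pullback.snd (c.π.app i0) q0)) y := by
    intro y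
    refine Groth.Agent.H68.CD.hasRatSection_snd_of_isPullback hX e.inv
      (Limits.pullback.snd (c.π.app i0) q0) he2' ?_
    exact (Groth.Agent.H68.CD.hasRatSection_iff f _).mpr (hcd _)
  obtain ⟨φ, hφ⟩ := Groth.Agent.H68.CD.exists_stage_cd D c hc i0 f0 q0 hcd'
  refine ⟨φ.left, φ.hom, Limits.pullback f0 (Limits.pullback.snd (D.map φ.hom) q0), Limits.pullback (D.map φ.hom) q0,
    Limits.pullback.snd f0 (Limits.pullback.snd (D.map φ.hom) q0), Limits.pullback.fst (D.map φ.hom) q0,
    Limits.pullback.snd (D.map φ.hom) q0, Limits.pullback.fst f0 (Limits.pullback.snd (D.map φ.hom) q0),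
    (IsPullback.of_hasPullback (D.map φ.hom) q0).flip,
    IsPullback.of_hasPullback f0 (Limits.pullback.snd (D.map φ.hom) q0), ?_⟩
  intro y
  have hy : y ∈ Groth.Agent.H68.CD.cdSet D i0 f0 q0 φ := by rw [hφ]; trivial
  exact (Groth.Agent.H68.CD.hasRatSection_iff _ y).mp hy

end Groth.Agent.S7191
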