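import Groth.Statements.S7199
import Groth.Agent.H36.BertiniAlg
import Groth.Agent.H36.RatShift

set_option autoImplicit false
universe u
open FlatMor

namespace Groth.Agent.S7199


/-- two-element algebraically independent families from transcendence statements -/
theorem H36_pair {R B : Type*} [CommRing R] [CommRing B] [Algebra R B] (a b : B)
    (ha : Transcendental R a) (hb : Transcendental (Algebra.adjoin R {a}) b) :
    AlgebraicIndependent R ![a, b] := by
  have h1 : AlgebraicIndependent R ![a] := algebraicIndependent_iff_transcendental.mpr ha
  have hr : Set.range ![a] = {a} := by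
    ext z
    simp [eq_comm]
  have h2 := (h1.option_iff_transcendental b).mpr (by rw [hr]; exact hb)
  let e : Fin 2 ≃ Option (Fin 1) :=
    { toFun := ![some 0, none]
      invFun := fun o => o.elim 1 (fun _ => 0)
      left_inv := by intro i; fin_cases i <;> rfl
      right_inv := by
        intro o
        cases o with
        | none => rfl
        | some i => fin_cases i; rfl }
  have h3 := (algebraicIndependent_equiv e (f := fun o : Option (Fin 1) => o.elim b ![a])).mpr h2
  convert h3 using 1
  funext i
  fin_cases i <;> rfl

/-- Take a field k, an integral domain A that is a finitely generated k-algebra, n ≥ 2 and g_1, …, g_n ∈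
A, and suppose some irreducible component of the common zero locus of g_1 and g_2 in Spec A has
dimension dim A − 2. Then for suitable c_1, …, c_n ∈ k the n + 2 elements x_1, …, x_n, Σ g_i x_i, Σ
c_i g_i of the rational function field Frac(A)(x_1, …, x_n) form an algebraically independent family
over k. -/
theorem result {k A : Type u} [Field k] [CommRing A] [IsDomain A] [Algebra k A]
    [Algebra.FiniteType k A] (m : ℕ) (g : Fin (m + 2) → A)
    (p : Ideal A) (hp : p ∈ (Ideal.span {g 0, g 1}).minimalPrimes) (hdim : ringKrullDim (A ⧸ p) + 2 = ringKrullDim A) :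
    ∃ c : Fin (m + 2) → k,
      AlgebraicIndependent k
        (Sum.elim
          (fun i : Fin (m + 2) => algebraMap (MvPolynomial (Fin (m + 2)) (FractionRing A)) (FractionRing (MvPolynomial (Fin (m + 2)) (FractionRing A))) (MvPolynomial.X i))
          ![∑ i, algebraMap A (FractionRing (MvPolynomial (Fin (m + 2)) (FractionRing A))) (g i) *
              algebraMap (MvPolynomial (Fin (m + 2)) (FractionRing A)) (FractionRing (MvPolynomial (Fin (m + 2)) (FractionRing A))) (MvPolynomial.X i),
            algebraMap A (FractionRing (MvPolynomial (Fin (m + 2)) (FractionRing A))) (∑ i, c i • g i)]) := by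
  classical
  have : IsNoetherianRing A := Algebra.FiniteType.isNoetherianRing k A
  have hpp : p.IsPrime := hp.1.1
  have hht : p.height = 2 := Groth.Agent.H36.BertiniAlg.height_eq_two (k := k) p hdim
  have hnot : ¬ p.height ≤ 1 := by
    rw [hht]
    norm_num
  obtain ⟨ht0, ht1⟩ := Groth.Agent.H36.BertiniAlg.transcendental_pair (k := k) (g 0) (g 1) p hp hnot
  have hA : AlgebraicIndependent k ![g 0, g 1] := H36_pair _ _ ht0 ht1
  have hK : AlgebraicIndependent k
      ![algebraMap A (FractionRing A) (g 0), algebraMap A (FractionRing A) (g 1)] := by
    have := hA.map' (f := IsScalarTower.toAlgHom k A (FractionRing A))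
      (IsFractionRing.injective A (FractionRing A))
    convert this using 1
    funext i
    fin_cases i <;> rfl
  obtain ⟨j, -, hj⟩ := Groth.Agent.H36.RatShift.exists_algebraicIndependent
    (fun i => algebraMap A (FractionRing A) (g i)) 0 1 hK
  refine ⟨Pi.single j 1, ?_⟩
  have hsum : ∑ i, (Pi.single j (1 : k) : Fin (m + 2) → k) i • g i = g j := by
    rw [Finset.sum_eq_single j]
    · simp
    · intro b _ hb
      simp [hb]
    · intro h; exact absurd (Finset.mem_univ j) h
  rw [hsum]
  convert hj using 2
  · rfl
  · have h1 : (∑ i, (algebraMap A (FractionRing (MvPolynomial (Fin (m + 2)) (FractionRing A)))) (g i) *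
          (algebraMap (MvPolynomial (Fin (m + 2)) (FractionRing A))
              (FractionRing (MvPolynomial (Fin (m + 2)) (FractionRing A))))
            (MvPolynomial.X i)) =
        Groth.Agent.H36.RatShift.xi (fun i => (algebraMap A (FractionRing A)) (g i)) := by
      simp only [Groth.Agent.H36.RatShift.xi, Groth.Agent.H36.RatShift.xx]
      refine Finset.sum_congr rfl (fun i _ => ?_)
      rw [← IsScalarTower.algebraMap_apply]
    have h2 : (algebraMap A (FractionRing (MvPolynomial (Fin (m + 2)) (FractionRing A)))) (g j) =
        (algebraMap (FractionRing A) (FractionRing (MvPolynomial (Fin (m + 2)) (FractionRing A))))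
          ((algebraMap A (FractionRing A)) (g j)) := by
      rw [← IsScalarTower.algebraMap_apply]
    rw [h1, h2]

end Groth.Agent.S7199
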