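import Groth.Statements.S7200
import Groth.Agent.H36.BertiniMain
import Groth.Agent.H36.GeomIrrBridge
import Groth.Agent.H48.SepClosedIn

set_option autoImplicit false
universe u
open FlatMor

namespace Groth.Agent.S7200

open AlgebraicGeometry in
/-- Suppose K/k is a finitely generated field extension with K geometrically irreducible over k; let n ≥
1 and g_1, …, g_n ∈ K, and suppose some c ∈ kⁿ makes the n + 2 elements x_1, …, x_n, ξ = Σ g_i x_i,
Σ c_i g_i of Ω = K(x_1, …, x_n) algebraically independent over k. Then Ω remains geometrically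
irreducible over its subfield generated over k by x_1, …, x_n and ξ. -/
theorem result {k K : Type u} [Field k] [Field K] [Algebra k K]
    (hfg : (⊤ : IntermediateField k K).FG)
    [GeometricallyIrreducible (Spec.map (CommRingCat.ofHom (algebraMap k K)))]
    (m : ℕ) (g : Fin (m + 1) → K) (c : Fin (m + 1) → k)
    (hind : AlgebraicIndependent k
      (Sum.elim
        (fun i : Fin (m + 1) => algebraMap (MvPolynomial (Fin (m + 1)) K) (FractionRing (MvPolynomial (Fin (m + 1)) K)) (MvPolynomial.X i))
        ![∑ i, algebraMap K (FractionRing (MvPolynomial (Fin (m + 1)) K)) (g i) * algebraMap (MvPolynomial (Fin (m + 1)) K) (FractionRing (MvPolynomial (Fin (m + 1)) K)) (MvPolynomial.X i),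
          algebraMap K (FractionRing (MvPolynomial (Fin (m + 1)) K)) (∑ i, c i • g i)])) :
    GeometricallyIrreducible (Spec.map (CommRingCat.ofHom (algebraMap
      ↥(IntermediateField.adjoin k
        (Set.range (fun i : Fin (m + 1) => algebraMap (MvPolynomial (Fin (m + 1)) K) (FractionRing (MvPolynomial (Fin (m + 1)) K)) (MvPolynomial.X i)) ∪
          {∑ i, algebraMap K (FractionRing (MvPolynomial (Fin (m + 1)) K)) (g i) * algebraMap (MvPolynomial (Fin (m + 1)) K) (FractionRing (MvPolynomial (Fin (m + 1)) K)) (MvPolynomial.X i)}))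
      (FractionRing (MvPolynomial (Fin (m + 1)) K))))) := by
  classical
  have : Algebra.EssFiniteType k K := IntermediateField.fg_top_iff.mp hfg
  have hk : ∀ a : K, IsSeparable k a → a ∈ Set.range (algebraMap k K) :=
    Groth.Agent.H48.geomIrr_iff_sepClosedIn.mp
      (Groth.Agent.H36.GeomIrrBridge.geomIrr_spec_iff.mp inferInstance)
  rw [Groth.Agent.H36.GeomIrrBridge.geomIrr_spec_iff, Groth.Agent.H48.geomIrr_iff_sepClosedIn]
  intro θ hθ
  have hmem := Groth.Agent.H36.BertiniField.sepClosed_adjoin hk g c hind θ hθ
  exact ⟨⟨θ, hmem⟩, rfl⟩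

end Groth.Agent.S7200
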