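import Groth.Statements.S7211
import Groth.Agent.H33.PCPush.ClosedRel

set_option autoImplicit false
universe u
open CategoryTheory CategoryTheory.Limits AlgebraicGeometry Opposite TopologicalSpace
attribute [local instance] HasDerivedCategory.standard
open FlatMor

namespace Groth.Agent.S7211

/-- Let i : X ⟶ P be a closed immersion and g : P ⟶ S a morphism which is flat and locally of finite
presentation. Let F be a cochain complex of O_X-modules and m an integer; the termwise direct image
i_* F computes Ri_* F, direct image along a closed immersion being exact. Then: the class of F is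
m-pseudo-coherent relative to i ≫ g : X ⟶ S (chart form) if and only if i_* F is m-pseudo-coherent
on P in the absolute sense; and i_* F is m-pseudo-coherent relative to g if and only if it is
m-pseudo-coherent on P in the absolute sense. -/
theorem result {X P S : Scheme.{u}} (i : X ⟶ P)
    [IsClosedImmersion i] (g : P ⟶ S) [Flat g] [LocallyOfFinitePresentation g] (m : ℤ)
    (F : CochainComplex X.Modules ℤ) :
    (DerSch.IsPseudoCoherentRel (i ≫ g) m (DCoh.toD X F) ↔
        DCoh.IsPseudoCoherentD m (DCoh.toD P ((DerSch.pushCx i).obj F))) ∧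
      (DerSch.IsPseudoCoherentRel g m (DCoh.toD P ((DerSch.pushCx i).obj F)) ↔
        DCoh.IsPseudoCoherentD m (DCoh.toD P ((DerSch.pushCx i).obj F))) := by
  have hg : ∀ n : ℤ, DerSch.IsNPseudoCoherent g n :=
    fun n => Groth.Agent.H33.PCPush.isNPseudoCoherent_of_flat_lfp g n
  have : LocallyOfFiniteType i := inferInstance
  have : LocallyOfFiniteType g := inferInstance
  have e : (Groth.Agent.H33.PCPush.pushD i).obj (DCoh.toD X F) ≅
      DCoh.toD P ((DerSch.pushCx i).obj F) :=
    (Scheme.Modules.pushforward i).mapDerivedCategoryFactors.app F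
  refine ⟨?_, ?_⟩
  · rw [← Groth.Agent.H33.PCPush.isPseudoCoherentRel_iff_comp i g hg m,
      Groth.Agent.H33.PCPush.isPseudoCoherentRel_closedImmersion_iff]
    exact ⟨fun h => Groth.Agent.H5.PCTriangle.isPseudoCoherentD_of_iso e h,
      fun h => Groth.Agent.H5.PCTriangle.isPseudoCoherentD_of_iso e.symm h⟩
  · exact (Groth.Agent.H33.PCPush.isPseudoCoherentD_iff_isPseudoCoherentRel g hg m _).symm

end Groth.Agent.S7211
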