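import Groth.Statements.S7212
import Groth.Agent.H33.PCPush.QCohChart
import Groth.Agent.H49.RelFPScheme

set_option autoImplicit false
universe u
open CategoryTheory CategoryTheory.Limits AlgebraicGeometry Opposite TopologicalSpace
attribute [local instance] HasDerivedCategory.standard
open FlatMor

namespace Groth.Agent.S7212

/-- Let f : X ⟶ S be locally of finite type and M an O_X-module, viewed in degree 0 of D(O_X); relative
pseudo-coherence is in chart form. Then (1) M is m-pseudo-coherent relative to f for every integer m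
> 0; (2) M is 0-pseudo-coherent relative to f if and only if M is an O_X-module of finite type; (3)
M is (-1)-pseudo-coherent relative to f if and only if M is quasi-coherent and finitely presented
relative to f (on the members of suitable affine open covers of S and of the preimages, the module
of sections is finitely presented over the base ring through a polynomial surjection). -/
theorem result {X S : Scheme.{u}} (f : X ⟶ S)
    [LocallyOfFiniteType f] (M : X.Modules) :
    (∀ m : ℤ, 0 < m → DerSch.IsPseudoCoherentRel f m (DCoh.inD X M)) ∧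
      (DerSch.IsPseudoCoherentRel f 0 (DCoh.inD X M) ↔ CohB1.IsFT M) ∧
      (DerSch.IsPseudoCoherentRel f (-1) (DCoh.inD X M) ↔ (Coh.IsQCoh M ∧ Flatn.IsRelFP f M)) := by
  have h0 := Groth.Agent.H33.PCPush.isNPseudoCoherent_zero f
  have hle : (DCoh.inD X M).IsLE 0 := inferInstance
  refine ⟨fun m hm => ?_, ⟨fun H => ?_, fun H => ?_⟩, ⟨fun H => ?_, fun H => ?_⟩⟩
  · exact Groth.Agent.H33.PCPush.isPseudoCoherentRel_of_pc_level f m 0 _
      (Groth.Agent.H33.PCPush.isPseudoCoherentRel_mono f (by omega) _ h0)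
      (Groth.Agent.H33.PC.pc_of_isLE _ 0 m hle hm)
  · exact Groth.Agent.H33.PC.isFT_of_pc_single M
      (Groth.Agent.H33.PCPush.pc_of_isPseudoCoherentRel_level f 0 0 _
        (Groth.Agent.H33.PCPush.isPseudoCoherentRel_mono f (by omega) _ h0) H)
  · exact Groth.Agent.H33.PCPush.isPseudoCoherentRel_of_pc_level f 0 0 _
      (Groth.Agent.H33.PCPush.isPseudoCoherentRel_mono f (by omega) _ h0)
      (Groth.Agent.H33.PC.pc_single_of_isFT M H)
  · -- (-1)-pseudo-coherent ⇒ quasi-coherent and relatively finitely presented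
    have hpc : DCoh.IsPseudoCoherentD (-1) (DCoh.inD X M) :=
      Groth.Agent.H33.PCPush.pc_of_isPseudoCoherentRel_level f (-1) 0 _
        (Groth.Agent.H33.PCPush.isPseudoCoherentRel_mono f (by omega) _ h0) H
    have hFP : CohB1.IsFP M := Groth.Agent.H33.PC.isFP_of_pc_single M hpc
    have hQ : M.IsQuasicoherent := by
      obtain ⟨σ, _⟩ :=
        SheafOfModules.IsFinitePresentation.exists_quasicoherentData (R := X.ringCatSheaf) M
      constructor
      exact ⟨σ⟩
    refine ⟨hQ, Groth.Agent.H49.RelFP.isRelFP_of_forall (fun U V h => ?_)⟩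
    obtain ⟨n, φ, hφ⟩ := Groth.Agent.H33.PCPush.exists_isChart_of_finiteType f U.1 V.1 h
      (LocallyOfFiniteType.finiteType_appLE f V.2 U.2 h)
    have h1 := (Groth.Agent.H33.PCPush.isPseudoCoherentRel_iff_forall_chart f (-1) _).1 H
      U.1 U.2 V.1 V.2 h n φ hφ
    rw [Groth.Agent.H33.PCPush.chartPC_inD_iff M U.2 V.1 φ hφ.1,
      Groth.Agent.H28.PCohRing.isNPC_negOne_single_iff] at h1
    let _ : Algebra Γ(S, V.1) Γ(X, U.1) := (f.appLE V.1 U.1 h).hom.toAlgebra
    let φ' : MvPolynomial (Fin n) Γ(S, V.1) →ₐ[Γ(S, V.1)] Γ(X, U.1) :=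
      { φ with commutes' := fun r => congrArg (fun g => g r) hφ.2 }
    exact ⟨n, φ', hφ.1, h1⟩
  · -- quasi-coherent and relatively finitely presented ⇒ (-1)-pseudo-coherent
    obtain ⟨hQ, hR⟩ := H
    have : M.IsQuasicoherent := hQ
    rw [Groth.Agent.H49.RelFP.isRelFP_iff] at hR
    refine Groth.Agent.H33.PCPush.isPseudoCoherentRel_of_forall f (-1) _ (fun U V h => ?_)
    let _ : Algebra Γ(S, V.1) Γ(X, U.1) := (f.appLE V.1 U.1 h).hom.toAlgebra
    obtain ⟨n, φ', hφ', hfp⟩ := hR U V h
    refine ⟨n, φ'.toRingHom, ⟨hφ', ?_⟩, ?_⟩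
    · refine RingHom.ext (fun r => ?_)
      exact φ'.commutes r
    · rw [Groth.Agent.H33.PCPush.chartPC_inD_iff M U.2 V.1 φ'.toRingHom hφ',
        Groth.Agent.H28.PCohRing.isNPC_negOne_single_iff]
      exact hfp

end Groth.Agent.S7212
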