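import Groth.Statements.S7225
import Groth.Agent.H59.NLIso

set_option autoImplicit false
universe u
open CategoryTheory CategoryTheory.Limits TensorProduct
attribute [local instance] HasDerivedCategory.standard
open FlatMor

namespace Groth.Agent.S7225

/-- Let A be a ring, M a submonoid of A, A' a localization of A at M and B an A'-algebra, viewed also as
an A-algebra. Let G be a presentation of B over A by a polynomial algebra and G' the presentation of
B over A' with the same generators (G'(i) = G(i), written through the identity algebra map of B).
Then the canonical chain map NL(G) → NL(G') from the naive cotangent complex of the presentation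
over A to that of the presentation over A' is an isomorphism of complexes (so that NL_{B/A} →
NL_{B/A'} is a homotopy equivalence). -/
theorem result (A A' B : Type u) [CommRing A] [CommRing A'] [CommRing B]
    [Algebra A A'] (M : Submonoid A) [IsLocalization M A'] [Algebra A' B] [Algebra A B] [IsScalarTower A A' B]
    {ι : Type u} (G : Algebra.Generators A B ι) (G' : Algebra.Generators A' B ι) (h : ∀ i, G'.val i = algebraMap B B (G.val i)) :
    IsIso (NLCx.map (NLCx.sameVarsHom (S' := B) G G' h).toExtensionHom) := by
  letI alg0 : Algebra (MvPolynomial ι A) (MvPolynomial ι A') := MvPolynomial.algebraMvPolynomial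
  letI alg : Algebra G.toExtension.Ring G'.toExtension.Ring := alg0
  haveI : IsLocalization (M.map (MvPolynomial.C (σ := ι)) : Submonoid G.toExtension.Ring)
      G'.toExtension.Ring :=
    (MvPolynomial.isLocalization M A' : IsLocalization (M.map (MvPolynomial.C (σ := ι)))
      (MvPolynomial ι A'))
  have halg : algebraMap G.toExtension.Ring G'.toExtension.Ring =
      (NLCx.sameVarsHom (S' := B) G G' h).toExtensionHom.toRingHom := by
    apply MvPolynomial.ringHom_ext
    · intro a
      change MvPolynomial.map (algebraMap A A') (MvPolynomial.C a) =
        (NLCx.sameVarsHom (S' := B) G G' h).toAlgHom (algebraMap A (MvPolynomial ι A) a)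
      rw [MvPolynomial.map_C, AlgHom.commutes,
        IsScalarTower.algebraMap_apply A A' (MvPolynomial ι A')]
      rfl
    · intro i
      change MvPolynomial.map (algebraMap A A') (MvPolynomial.X i) =
        (NLCx.sameVarsHom (S' := B) G G' h).toAlgHom (MvPolynomial.X i)
      rw [MvPolynomial.map_X, Algebra.Generators.Hom.toAlgHom_X]
      rfl
  exact Groth.Agent.H59.NLIso.isIso_map_of_bijective _
    (Groth.Agent.H59.NLIso.cotangent_map_bijective_of_isLocalization
      (P := G.toExtension) (P' := G'.toExtension) _ (M.map (MvPolynomial.C (σ := ι))) halg)
    (Groth.Agent.H59.NLIso.cotangentSpace_map_bijective_of_sameVars G G' _ (fun _ => rfl))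

end Groth.Agent.S7225
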