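import Groth.Statements.S7237
import Mathlib.Algebra.TrivSqZeroExt.Basic
import Mathlib.RingTheory.Derivation.Basic

set_option autoImplicit false
universe u
open TensorProduct
open FlatMor

namespace Groth.Agent.S7237

section

variable (A : Type u) [CommRing A] (M : Type u) [AddCommGroup M] [Module A M]

local notation "C" => SymmetricAlgebra A M
local notation "N" => SymmetricAlgebra A M ⊗[A] M
local notation "T" => TrivSqZeroExt (SymmetricAlgebra A M) (SymmetricAlgebra A M ⊗[A] M)

/-- the linear map `m ↦ (ι m, 1 ⊗ m)` -/
noncomputable def toTsze : M →ₗ[A] T :=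
  (TrivSqZeroExt.inlAlgHom A C N).toLinearMap ∘ₗ SymmetricAlgebra.ι A M +
    ((TrivSqZeroExt.inrHom C N).restrictScalars A) ∘ₗ (TensorProduct.mk A C M 1)

/-- the algebra map `c ↦ (c, δ c)` -/
noncomputable def liftTsze : C →ₐ[A] T := SymmetricAlgebra.lift (toTsze A M)

theorem liftTsze_ι (m : M) :
    liftTsze A M (SymmetricAlgebra.ι A M m) =
      TrivSqZeroExt.inl (SymmetricAlgebra.ι A M m) + TrivSqZeroExt.inr ((1 : C) ⊗ₜ[A] m) := by
  rw [liftTsze, SymmetricAlgebra.lift_ι_apply]
  rfl

theorem fst_liftTsze (c : C) : (liftTsze A M c).fst = c := by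
  have : (TrivSqZeroExt.fstHom A C N).comp (liftTsze A M) = AlgHom.id A C := by
    apply SymmetricAlgebra.algHom_ext
    apply LinearMap.ext
    intro m
    simp [liftTsze_ι]
  exact AlgHom.congr_fun this c

/-- the derivation with `δ (ι m) = 1 ⊗ m` -/
noncomputable def delta : Derivation A C N where
  toLinearMap := ((TrivSqZeroExt.sndHom C N).restrictScalars A) ∘ₗ (liftTsze A M).toLinearMap
  map_one_eq_zero' := by simp
  leibniz' a b := by
    simp only [LinearMap.coe_comp, LinearMap.coe_restrictScalars, Function.comp_apply,
      AlgHom.toLinearMap_apply, TrivSqZeroExt.sndHom_apply, map_mul, TrivSqZeroExt.snd_mul,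
      fst_liftTsze, op_smul_eq_smul]

theorem delta_ι (m : M) : delta A M (SymmetricAlgebra.ι A M m) = (1 : C) ⊗ₜ[A] m := by
  change (liftTsze A M (SymmetricAlgebra.ι A M m)).snd = _
  rw [liftTsze_ι]
  simp

theorem derivation_ext {Q : Type*} [AddCommGroup Q] [Module A Q] [Module C Q] [IsScalarTower A C Q]
    (D₁ D₂ : Derivation A C Q)
    (h : ∀ m, D₁ (SymmetricAlgebra.ι A M m) = D₂ (SymmetricAlgebra.ι A M m)) : D₁ = D₂ := by
  ext c
  induction c using SymmetricAlgebra.induction with
  | algebraMap r => rw [Derivation.map_algebraMap, Derivation.map_algebraMap]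
  | ι m => exact h m
  | mul a b ha hb => rw [Derivation.leibniz, Derivation.leibniz, ha, hb]
  | add a b ha hb => rw [map_add, map_add, ha, hb]

end

/-- Let A be a ring and M a finitely generated A-module, and let C = Sym_A(M) be the symmetric algebra
of M with its canonical A-linear map ι : M → C. Then Ω_{C/A} = M ⊗_A C: the C-linear map C ⊗_A M →
Ω_{C/A} obtained by extending scalars in the A-linear map m ↦ d(ι m), d being the universal
A-derivation of C, is bijective. (The published lemma also computes the whole naive cotangent
complex of the presentation of C attached to a surjection A^m → M with kernel K, namely as K ⊗_A C →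
⊕_j C dy_j; only its consequence for Ω is asserted here.) -/
theorem result (A : Type u) [CommRing A] (M : Type u)
    [AddCommGroup M] [Module A M] [Module.Finite A M] :
    Function.Bijective (LinearMap.liftBaseChange (SymmetricAlgebra A M)
      ((KaehlerDifferential.D A (SymmetricAlgebra A M)).toLinearMap.restrictScalars A ∘ₗ SymmetricAlgebra.ι A M)) := by
  set Φ := LinearMap.liftBaseChange (SymmetricAlgebra A M)
      ((KaehlerDifferential.D A (SymmetricAlgebra A M)).toLinearMap.restrictScalars A ∘ₗ
        SymmetricAlgebra.ι A M) with hΦ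
  have hΦt : ∀ (c : SymmetricAlgebra A M) (m : M),
      Φ (c ⊗ₜ[A] m) = c • KaehlerDifferential.D A (SymmetricAlgebra A M) (SymmetricAlgebra.ι A M m) := by
    intro c m
    simp [hΦ]
  let Ψ := (delta A M).liftKaehlerDifferential
  have h1 : ∀ x, Ψ (Φ x) = x := by
    intro x
    induction x using TensorProduct.induction_on with
    | zero => simp
    | add x y hx hy => rw [map_add, map_add, hx, hy]
    | tmul c m =>
      rw [hΦt, map_smul, Derivation.liftKaehlerDifferential_comp_D, delta_ι,
        TensorProduct.smul_tmul', smul_eq_mul, mul_one]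
  have h2 : ∀ y, Φ (Ψ y) = y := by
    have hder : Φ.compDer (delta A M) = KaehlerDifferential.D A (SymmetricAlgebra A M) := by
      apply derivation_ext
      intro m
      change Φ (delta A M (SymmetricAlgebra.ι A M m)) = _
      rw [delta_ι, hΦt, one_smul]
    have hcomp : Φ ∘ₗ Ψ = LinearMap.id := by
      apply Derivation.liftKaehlerDifferential_unique
      ext c
      change Φ (Ψ (KaehlerDifferential.D A (SymmetricAlgebra A M) c)) =
        KaehlerDifferential.D A (SymmetricAlgebra A M) c
      rw [Derivation.liftKaehlerDifferential_comp_D]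
      exact Derivation.congr_fun hder c
    intro y
    exact LinearMap.congr_fun hcomp y
  exact ⟨Function.LeftInverse.injective h1, Function.RightInverse.surjective h2⟩

end Groth.Agent.S7237
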