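import Groth.Statements.S7260
import Groth.Agent.H16.RlimModW.LimMod
import Groth.Agent.H16.RlimLimFunctorD
import Groth.Agent.H16.FormalLim
import Groth.Agent.Lead.Coh.LocTop

set_option autoImplicit false
universe u
open CategoryTheory CategoryTheory.Limits AlgebraicGeometry
attribute [local instance] HasDerivedCategory.standard
open Perf

namespace Groth.Agent.S7260

/-- Let X be a scheme and (F_n)_{n ≥ 0} an inverse system of quasi-coherent O_X-modules whose transition
maps F_{n+1} ⟶ F_n are surjective for n ≥ 1. Then R lim F_n = lim F_n, that is, lim F_n placed in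
degree 0 is a derived limit in D(O_X) of the system (F_n[0]) (granted the countable product exists
there), and H^p(U, lim F_n) = 0 for every affine open U ⊆ X and every p > 0. (The published
statement is phrased for the system of q-th cohomology sheaves of an inverse system in D_QCoh(O_X);
the proof uses only that these form an inverse system of quasi-coherent modules with surjective
transition maps, which is the form stated here.) -/
theorem result {X : Scheme.{u}} (F : ℕ → X.Modules)
    (hF : ∀ n, Coh.IsQCoh (F n)) (t : ∀ n, F (n + 1) ⟶ F n) (ht : ∀ n, 1 ≤ n → Epi (t n))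
    [HasProduct fun n => DCoh.inD X (F n)] :
    DCoh.IsRlim (fun n => DCoh.inD X (F n)) (fun n => (DerivedCategory.singleFunctor X.Modules 0).map (t n))
        (DCoh.inD X (Limits.limit (Functor.ofOpSequence t))) ∧
      ∀ (U : X.Opens), IsAffineOpen U → ∀ p : ℕ, 0 < p →
        Subsingleton (Coh.HHon X (Limits.limit (Functor.ofOpSequence t)) U p) := by
  rename_i hP
  let G : ℕᵒᵖ ⥤ X.Modules := Functor.ofOpSequence t
  have hGmap : ∀ n : ℕ, G.map (homOfLE (Nat.le_succ n)).op = t n :=
    fun n => Functor.ofOpSequence_map_homOfLE_succ t n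
  -- vanishing of the cohomology of the terms on affine opens
  have hvan : ∀ V ∈ Groth.Agent.H16.FormalLim.Baff X, ∀ (n i : ℕ), 0 < i →
      Subsingleton (CohSite.HU ((Groth.Agent.H16.FormalLim.Fab G).obj (Opposite.op n)) i V) := by
    intro V hV n i hi
    obtain ⟨j, rfl⟩ : ∃ j, i = j + 1 := ⟨i - 1, by omega⟩
    haveI : (F n).IsQuasicoherent := hF n
    constructor
    intro x y
    have h := Groth.Agent.Lead.Coh.hVanish_of_isAffineOpen X (F n) hV j
    exact (h x).trans (h y).symm
  -- surjectivity on affine opens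
  have hsurj : ∀ V ∈ Groth.Agent.H16.FormalLim.Baff X, ∀ n : ℕ, 1 ≤ n →
      Function.Surjective
        (((SheafOfModules.toSheaf.{u} X.ringCatSheaf).map (t n)).hom.app (Opposite.op V)).hom := by
    intro V hV n hn
    haveI : (F n).IsQuasicoherent := hF n
    haveI : (F (n + 1)).IsQuasicoherent := hF (n + 1)
    let φ := t n
    haveI : Epi φ := ht n hn
    haveI : (kernel φ).IsQuasicoherent := Groth.Agent.H12.QCohAbelian.isQuasicoherent_kernel φ
    let S : ShortComplex X.Modules := ShortComplex.mk (kernel.ι φ) φ (kernel.condition φ)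
    have hS : S.ShortExact :=
      { exact := ShortComplex.exact_of_f_is_kernel S (kernelIsKernel φ)
        mono_f := inferInstanceAs (Mono (kernel.ι φ))
        epi_g := inferInstanceAs (Epi φ) }
    haveI : PreservesFiniteLimits (SheafOfModules.toSheaf.{u} X.ringCatSheaf) := inferInstance
    haveI : PreservesFiniteColimits (SheafOfModules.toSheaf.{u} X.ringCatSheaf) :=
      (Groth.Agent.H31.toSheaf_preservesColimits X.ringCatSheaf).preservesFiniteColimits
    have hS' : (S.map (SheafOfModules.toSheaf.{u} X.ringCatSheaf)).ShortExact :=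
      hS.map_of_exact (SheafOfModules.toSheaf.{u} X.ringCatSheaf)
    exact Groth.Agent.Lead.Cech.app_surjective hS' V
      (Groth.Agent.Lead.Coh.hVanish_of_isAffineOpen X (kernel φ) hV 0)
  have hsurj' : ∀ V ∈ Groth.Agent.H16.FormalLim.Baff X, ∀ n : ℕ, 1 ≤ n →
      Function.Surjective (((Groth.Agent.H16.FormalLim.Fab G).map
        (homOfLE (Nat.le_succ n)).op).hom.app (Opposite.op V)).hom := by
    intro V hV n hn
    have h := hsurj V hV n hn
    have e : (Groth.Agent.H16.FormalLim.Fab G).map (homOfLE (Nat.le_succ n)).op =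
        (SheafOfModules.toSheaf.{u} X.ringCatSheaf).map (t n) :=
      congrArg (SheafOfModules.toSheaf.{u} X.ringCatSheaf).map (hGmap n)
    rw [e]
    exact h
  -- acyclicity of the limit on affine opens
  have hlim : ∀ V ∈ Groth.Agent.H16.FormalLim.Baff X, ∀ q : ℕ,
      Subsingleton (CohSite.HU (Coh.toAb (limit G)) (q + 1) V) := by
    intro V hV q
    exact Groth.Agent.H16.RlimLimFunctor.subsingleton_HU_of_iso_limit_of_eventually_surj
      (Groth.Agent.H16.FormalLim.Fab G) (Groth.Agent.H16.FormalLim.Baff X)
      (Groth.Agent.H16.FormalLim.hB X) 1 hsurj' hvan (Coh.toAb (limit G))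
      (Groth.Agent.H16.FormalLim.limIso G) V hV q
  refine ⟨?_, ?_⟩
  · letI hD : HasDerivedCategory.{u + 1} (ModSite.Mod X.sheaf) := HasDerivedCategory.standard X.Modules
    have hP' : HasProduct (Groth.Agent.H16.RlimModW.Kn X.sheaf F) := hP
    have hvia := @Groth.Agent.H16.RlimModW.isRlimVia_limit _ _ _ X.sheaf hD F t hP'
      (Groth.Agent.H16.FormalLim.Baff X) (Groth.Agent.H16.FormalLim.hB X)
      (fun Y hY n k => hvan Y hY n (k + 1) (Nat.succ_pos k))
      (fun Y hY n hn s => by
        obtain ⟨s', hs'⟩ := hsurj Y hY n hn s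
        exact ⟨s', hs'⟩)
      (fun Y hY k => hlim Y hY k)
    obtain ⟨c, hc⟩ := hvia
    exact ⟨_, c, hc⟩
  · intro U hU p hp
    obtain ⟨q, rfl⟩ : ∃ q, p = q + 1 := ⟨p - 1, by omega⟩
    obtain ⟨e⟩ := Groth.Agent.Lead.Coh.nonempty_addEquiv_HHon_EM (limit G) U (q + 1)
    have h : Subsingleton (CohSite.HU (Coh.toAb (limit G)) (q + 1) U) := hlim U hU q
    have h' : Subsingleton (Groth.Agent.Lead.Coh.EM (limit G) U (q + 1)) := h
    exact e.toEquiv.subsingleton

end Groth.Agent.S7260
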