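import Groth.Statements.S7288
import Groth.Agent.H27.EpsExtMod

set_option autoImplicit false
open CategoryTheory CategoryTheory.Limits AlgebraicGeometry Opposite
universe u
open EtModW

namespace Groth.Agent.S7288

/-- Let X be a scheme and Λ a ring. The essential image of the pullback functor from sheaves of
Λ-modules on the small etale site of X to sheaves of Λ-modules on the small pro-etale site is a weak
Serre subcategory: the kernel and the cokernel of a morphism between objects of the essential image
lie in it, and an extension of two objects of the essential image lies in it. (Continuity of the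
inclusion of the etale site into the pro-etale site is carried as a binder.) -/
theorem result (Λ : Type (u + 1)) [CommRing Λ] (X : Scheme.{u})
    [ProEtS.EpsCont X] :
    (∀ (F G : EtModW.ModP Λ X) (φ : F ⟶ G), (EtModW.epsPullMod Λ X).essImage F →
      (EtModW.epsPullMod Λ X).essImage G →
        (EtModW.epsPullMod Λ X).essImage (kernel φ) ∧ (EtModW.epsPullMod Λ X).essImage (cokernel φ)) ∧
    ∀ (T : ShortComplex (EtModW.ModP Λ X)), T.ShortExact →
      (EtModW.epsPullMod Λ X).essImage T.X₁ → (EtModW.epsPullMod Λ X).essImage T.X₃ →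
        (EtModW.epsPullMod Λ X).essImage T.X₂ := by
  have hW := Groth.Agent.H27.WSerreTransfer.isWeakSerre_img
    (Groth.Agent.H27.EpsModAdic.epsAdjMod Λ X) ⊤
    (fun T hT A₀ ⟨e⟩ => Groth.Agent.H27.EpsExtMod.epi_push_of_shortExact Λ X T hT A₀ e)
  constructor
  · intro F G φ hF hG
    have hF' := (Groth.Agent.H27.WSerreTransfer.img_top_iff (EtModW.epsPullMod Λ X) F).mpr hF
    have hG' := (Groth.Agent.H27.WSerreTransfer.img_top_iff (EtModW.epsPullMod Λ X) G).mpr hG
    exact ⟨(Groth.Agent.H27.WSerreTransfer.img_top_iff _ _).mp
        (ObjectProperty.prop_kernel _ φ hF' hG'),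
      (Groth.Agent.H27.WSerreTransfer.img_top_iff _ _).mp
        (ObjectProperty.prop_cokernel _ φ hF' hG')⟩
  · intro T hT h1 h3
    have h1' := (Groth.Agent.H27.WSerreTransfer.img_top_iff (EtModW.epsPullMod Λ X) T.X₁).mpr h1
    have h3' := (Groth.Agent.H27.WSerreTransfer.img_top_iff (EtModW.epsPullMod Λ X) T.X₃).mpr h3
    exact (Groth.Agent.H27.WSerreTransfer.img_top_iff _ _).mp
      (ObjectProperty.prop_X₂_of_shortExact _ hT h1' h3')

end Groth.Agent.S7288
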