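import Groth.Statements.S7290
import Mathlib.RingTheory.Spectrum.Prime.ConstructibleSet

set_option autoImplicit false
open CategoryTheory CategoryTheory.Limits AlgebraicGeometry Opposite
universe u
open ProEtW

namespace Groth.Agent.S7290

open PrimeSpectrum in
/-- membership in a basic constructible set only depends on which of the finitely many
relevant elements lie in the prime -/
theorem mem_toSet_congr {A : Type u} [CommRing A] (S : ConstructibleSetData A)
    (x y : PrimeSpectrum A)
    (h : ∀ C ∈ S, (C.f ∈ x.asIdeal ↔ C.f ∈ y.asIdeal) ∧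
      ∀ j, (C.g j ∈ x.asIdeal ↔ C.g j ∈ y.asIdeal))
    (hx : x ∈ S.toSet) : y ∈ S.toSet := by
  simp only [ConstructibleSetData.toSet, BasicConstructibleSetData.toSet, Set.mem_iUnion,
    Set.mem_sdiff, mem_zeroLocus, Set.singleton_subset_iff, SetLike.mem_coe, exists_prop] at hx ⊢
  obtain ⟨C, hC, hg, hf⟩ := hx
  refine ⟨C, hC, ?_, ?_⟩
  · rintro _ ⟨j, rfl⟩
    exact ((h C hC).2 j).mp (hg ⟨j, rfl⟩)
  · exact fun hfy => hf ((h C hC).1.mpr hfy)

/-- Let A be a ring and let Spec A be the disjoint union of finitely many constructible subsets T_i.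
Then there is a finite subset E of A such that the stratification of Spec A according to which
elements of E vanish at a point refines the given one: each nonempty stratum, consisting of the
primes whose intersection with E is a prescribed subset, is contained in one of the T_i. -/
theorem result (A : Type u) [CommRing A] {ι : Type u} [Finite ι]
    (T : ι → Set (PrimeSpectrum A)) (hT : ∀ i, Topology.IsConstructible (T i))
    (hcov : ⋃ i, T i = Set.univ) (hdisj : Pairwise fun i j => Disjoint (T i) (T j)) :
    ∃ E : Finset A, ∀ E'' : Finset A, E'' ⊆ E →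
      ∀ x : PrimeSpectrum A, (∀ f ∈ E, f ∈ x.asIdeal ↔ f ∈ E'') →
        ∃ i, {y : PrimeSpectrum A | ∀ f ∈ E, f ∈ y.asIdeal ↔ f ∈ E''} ⊆ T i := by
  classical
  have := Fintype.ofFinite ι
  choose S hS using fun i => PrimeSpectrum.exists_constructibleSetData_iff.mpr (hT i)
  let E : Finset A := Finset.univ.biUnion (fun i =>
    (S i).biUnion (fun C => insert C.f (Finset.univ.image C.g)))
  have hEf : ∀ i, ∀ C ∈ S i, C.f ∈ E := by
    intro i C hC
    simp only [E, Finset.mem_biUnion, Finset.mem_univ, true_and]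
    exact ⟨i, C, hC, Finset.mem_insert_self _ _⟩
  have hEg : ∀ i, ∀ C ∈ S i, ∀ j, C.g j ∈ E := by
    intro i C hC j
    simp only [E, Finset.mem_biUnion, Finset.mem_univ, true_and]
    exact ⟨i, C, hC, Finset.mem_insert_of_mem (Finset.mem_image_of_mem _ (Finset.mem_univ j))⟩
  refine ⟨E, fun E'' _ x hx => ?_⟩
  have hxT : x ∈ ⋃ i, T i := by rw [hcov]; trivial
  obtain ⟨i, hi⟩ := Set.mem_iUnion.mp hxT
  refine ⟨i, fun y hy => ?_⟩
  rw [← hS i] at hi ⊢
  refine mem_toSet_congr (S i) x y (fun C hC => ⟨?_, fun j => ?_⟩) hi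
  · rw [hx _ (hEf i C hC), hy _ (hEf i C hC)]
  · rw [hx _ (hEg i C hC j), hy _ (hEg i C hC j)]

end Groth.Agent.S7290
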