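import Groth.Statements.S7291
import Groth.Agent.H37.VLim

set_option autoImplicit false
open CategoryTheory CategoryTheory.Limits AlgebraicGeometry Opposite
universe w u
open HTop

namespace Groth.Agent.S7291

/-- Let Y be an affine scheme and let X be the limit (as a scheme) of a cofiltered system of affine
schemes X_i over Y. Then the one-member family X over Y is a standard V covering exactly when, for
every i, the one-member family X_i over Y is a standard V covering. -/
theorem result {Y : Scheme.{u}} [IsAffine Y]
    {I : Type u} [SmallCategory I] [IsCofiltered I] (D : I ⥤ Over Y) [∀ i, IsAffine (D.obj i).left]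
    (c : Cone D) (hc : IsLimit ((Over.forget Y).mapCone c)) :
    HTop.IsStandardV (PreZeroHypercover.singleton.{w} c.pt.hom) ↔
      ∀ i, HTop.IsStandardV (PreZeroHypercover.singleton.{w} (D.obj i).hom) := by
  constructor
  · intro h i
    refine ⟨inferInstance, inferInstanceAs (Finite PUnit),
      fun _ => inferInstanceAs (IsAffine (D.obj i).left), ?_⟩
    rw [Groth.Agent.H90.hasValLift_singleton_iff]
    have h0 := (Groth.Agent.H90.hasValLift_singleton_iff _).mp h.lift
    intro V _ _ g
    obtain ⟨W, hW1, hW2, φ, hφ, g', hg'⟩ := h0 V g
    exact ⟨W, hW1, hW2, φ, hφ, g' ≫ (c.π.app i).left, by rw [Category.assoc, Over.w]; exact hg'⟩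
  · intro h
    haveI : ∀ i, IsAffine ((D ⋙ Over.forget Y).obj i) := fun i =>
      inferInstanceAs (IsAffine (D.obj i).left)
    haveI : IsAffine c.pt.left := Scheme.isAffine_of_isLimit ((Over.forget Y).mapCone c) hc
    refine ⟨inferInstance, inferInstanceAs (Finite PUnit),
      fun _ => inferInstanceAs (IsAffine c.pt.left), ?_⟩
    rw [Groth.Agent.H90.hasValLift_singleton_iff]
    exact Groth.Agent.H37.VLim.vl_of_stages D c hc
      (fun i => (Groth.Agent.H90.hasValLift_singleton_iff _).mp (h i).lift)

end Groth.Agent.S7291
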