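import Groth.Statements.S7317
import Groth.Agent.H37.NumType

set_option autoImplicit false
open Finset
open Models Models.NumericalType

namespace Groth.Agent.S7317

/-- Let T be a numerical type on n > 1 indices and i an index whose contribution m_i (w_i (g_i - 1) -
a_ii / 2) to the genus is zero (stated as m_i (2 w_i (g_i - 1) - a_ii) = 0). Then g_i = 0 and a_ii =
-2 w_i, i.e. i is a (-2)-index. -/
theorem result {n : ℕ} (T : Models.NumericalType n) (hn : 1 < n) (i : Fin n)
    (h : T.m i * (2 * T.w i * (T.g i - 1) - T.a i i) = 0) : T.IsMinusTwo i := by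
  have hm := T.m_pos i
  have hw := T.w_pos i
  have hg := T.g_nonneg i
  have hneg := Groth.Agent.H37.nt_diag_neg T hn i
  have h1 : 2 * T.w i * (T.g i - 1) - T.a i i = 0 := by
    rcases mul_eq_zero.mp h with h0 | h0
    · linarith
    · exact h0
  have hg0 : T.g i = 0 := by
    by_contra hne
    have h1' : 1 ≤ T.g i := by omega
    have : 0 ≤ 2 * T.w i * (T.g i - 1) := by
      apply mul_nonneg (by linarith)
      linarith
    linarith
  refine ⟨hg0, ?_⟩
  rw [hg0] at h1
  linarith

end Groth.Agent.S7317
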