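import Groth.Statements.S7341
import Groth.Agent.H37.NumSub

set_option autoImplicit false
open Finset
open Models Models.NumericalType

namespace Groth.Agent.S7341

/-- Classification of proper subgraphs which are chains of three vertices: let T be a numerical type on
n > 3 indices and i, j, k distinct (-2)-indices with a_ij > 0 and a_jk > 0. Then a_ik = 0 and, up to
reversing the order of i, j, k, one of the following holds for some integer w: (A3) w_i = w_j = w_k
= w, a_ij = a_jk = w, with 2 m_i ≥ m_j, 2 m_j ≥ m_i + m_k, 2 m_k ≥ m_j; (C3) w_i = w_j = w, w_k =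
2w, a_ij = w, a_jk = 2w, with 2 m_i ≥ m_j, 2 m_j ≥ m_i + 2 m_k, 2 m_k ≥ m_j; (B3) w_i = w_j = 2w,
w_k = w, a_ij = a_jk = 2w, with 2 m_i ≥ m_j, 2 m_j ≥ m_i + m_k, m_k ≥ m_j. -/
theorem result {n : ℕ} (T : Models.NumericalType n) (hn : 3 < n) (i j k : Fin n)
    (hij : i ≠ j) (hjk : j ≠ k) (hik : i ≠ k) (hi : T.IsMinusTwo i) (hj : T.IsMinusTwo j) (hk : T.IsMinusTwo k)
    (h1 : 0 < T.a i j) (h2 : 0 < T.a j k) :
    T.a i k = 0 ∧ ∃ (i' k' : Fin n) (w : ℤ), ((i' = i ∧ k' = k) ∨ (i' = k ∧ k' = i)) ∧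
      ((T.w i' = w ∧ T.w j = w ∧ T.w k' = w ∧ T.a i' j = w ∧ T.a j k' = w ∧
          T.m j ≤ 2 * T.m i' ∧ T.m i' + T.m k' ≤ 2 * T.m j ∧ T.m j ≤ 2 * T.m k') ∨
        (T.w i' = w ∧ T.w j = w ∧ T.w k' = 2 * w ∧ T.a i' j = w ∧ T.a j k' = 2 * w ∧
          T.m j ≤ 2 * T.m i' ∧ T.m i' + 2 * T.m k' ≤ 2 * T.m j ∧ T.m j ≤ 2 * T.m k') ∨
        (T.w i' = 2 * w ∧ T.w j = 2 * w ∧ T.w k' = w ∧ T.a i' j = 2 * w ∧ T.a j k' = 2 * w ∧
          T.m j ≤ 2 * T.m i' ∧ T.m i' + T.m k' ≤ 2 * T.m j ∧ T.m j ≤ T.m k')) := by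
  have hinj : Function.Injective ![i, j, k] := by
    intro s t hst
    fin_cases s <;> fin_cases t <;> simp_all
  have hwi := T.w_pos i
  have hwj := T.w_pos j
  have hwk := T.w_pos k
  have sji := Groth.Agent.H37.nt_symm T j i
  have skj := Groth.Agent.H37.nt_symm T k j
  have ski := Groth.Agent.H37.nt_symm T k i
  have hik_nn := T.offDiag_nonneg i k hik
  have hmi := T.m_pos i
  have hmj := T.m_pos j
  have hmk := T.m_pos k
  have key : ∀ ci cj ck : ℤ, 0 ≤ ci → 0 ≤ cj → 0 ≤ ck → 0 < cj →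
      0 ≤ -2 * T.w i * ci + T.a i j * cj + T.a i k * ck →
      0 ≤ T.a i j * ci + -2 * T.w j * cj + T.a j k * ck →
      0 ≤ T.a i k * ci + T.a j k * cj + -2 * T.w k * ck → False := by
    intro ci cj ck h0 h1' h2' hpos r0 r1 r2
    apply Groth.Agent.H37.nt_no_subharmonic T ![i, j, k] hinj (by omega) ![ci, cj, ck]
    · intro s; fin_cases s <;> simp <;> assumption
    · intro h; have := congrFun h 1; simp at this; omega
    · intro s
      fin_cases s
      · simp [Fin.sum_univ_succ, hi.2]; linarith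
      · simp [Fin.sum_univ_succ, hj.2, sji]; linarith
      · simp [Fin.sum_univ_succ, hk.2, skj, ski]; linarith
  have hik0 : T.a i k = 0 := by
    by_contra hne
    have g1 := Groth.Agent.H37.nt_a_ge_left T hij (ne_of_gt h1)
    have g2 := Groth.Agent.H37.nt_a_ge_right T hij (ne_of_gt h1)
    have g3 := Groth.Agent.H37.nt_a_ge_left T hjk (ne_of_gt h2)
    have g4 := Groth.Agent.H37.nt_a_ge_right T hjk (ne_of_gt h2)
    have g5 := Groth.Agent.H37.nt_a_ge_left T hik hne
    have g6 := Groth.Agent.H37.nt_a_ge_right T hik hne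
    exact key 1 1 1 (by norm_num) (by norm_num) (by norm_num) (by norm_num)
      (by linarith) (by linarith) (by linarith)
  refine ⟨hik0, ?_⟩
  have rowi := Groth.Agent.H37.nt_row_embed_le T ![i, j, k] hinj 0
  have rowj := Groth.Agent.H37.nt_row_embed_le T ![i, j, k] hinj 1
  have rowk := Groth.Agent.H37.nt_row_embed_le T ![i, j, k] hinj 2
  simp [Fin.sum_univ_succ, hi.2, hj.2, hk.2, hik0] at rowi rowj rowk
  rw [sji] at rowj
  rw [skj, ski, hik0] at rowk
  rcases Groth.Agent.H37.nt_edge T (by omega) hij hi hj (ne_of_gt h1) with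
    ⟨e1, e2⟩ | ⟨e1, e2⟩ | ⟨e1, e2⟩ | ⟨e1, e2⟩ | ⟨e1, e2⟩ <;>
  rcases Groth.Agent.H37.nt_edge T (by omega) hjk hj hk (ne_of_gt h2) with
    ⟨f1, f2⟩ | ⟨f1, f2⟩ | ⟨f1, f2⟩ | ⟨f1, f2⟩ | ⟨f1, f2⟩
  all_goals first
    | (exfalso; exact key 1 1 1 (by norm_num) (by norm_num) (by norm_num) (by norm_num)
        (by linarith) (by linarith) (by linarith))
    | (exfalso; exact key 1 2 1 (by norm_num) (by norm_num) (by norm_num) (by norm_num)
        (by linarith) (by linarith) (by linarith))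
    | (exfalso; exact key 1 2 2 (by norm_num) (by norm_num) (by norm_num) (by norm_num)
        (by linarith) (by linarith) (by linarith))
    | (exfalso; exact key 2 2 1 (by norm_num) (by norm_num) (by norm_num) (by norm_num)
        (by linarith) (by linarith) (by linarith))
    | (exfalso; exact key 3 2 1 (by norm_num) (by norm_num) (by norm_num) (by norm_num)
        (by linarith) (by linarith) (by linarith))
    | (exfalso; exact key 1 2 3 (by norm_num) (by norm_num) (by norm_num) (by norm_num)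
        (by linarith) (by linarith) (by linarith))
    | skip
  · -- (E,E): A3
    have a1 : T.a i j = T.w j := by linarith
    have a2 : T.a j k = T.w j := by linarith
    have w1 : T.w i = T.w j := by linarith
    have w3 : T.w k = T.w j := by linarith
    rw [a1, w1] at rowi
    rw [a1, a2] at rowj
    rw [a2, w3] at rowk
    refine ⟨i, k, T.w j, Or.inl ⟨rfl, rfl⟩, Or.inl ⟨w1, rfl, w3, a1, a2, ?_, ?_, ?_⟩⟩
    · exact le_of_mul_le_mul_left (a := T.w j) (by linarith) hwj
    · exact le_of_mul_le_mul_left (a := T.w j) (by linarith) hwj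
    · exact le_of_mul_le_mul_left (a := T.w j) (by linarith) hwj
  · -- (E,L2): B3, w = w_k
    have a1 : T.a i j = 2 * T.w k := by linarith
    have a2 : T.a j k = 2 * T.w k := by linarith
    have w1 : T.w i = 2 * T.w k := by linarith
    have w2 : T.w j = 2 * T.w k := by linarith
    rw [a1, w1] at rowi
    rw [a1, a2, w2] at rowj
    rw [a2] at rowk
    refine ⟨i, k, T.w k, Or.inl ⟨rfl, rfl⟩, Or.inr (Or.inr ⟨w1, w2, rfl, a1, a2, ?_, ?_, ?_⟩)⟩
    · exact le_of_mul_le_mul_left (a := T.w k) (by linarith) hwk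
    · exact le_of_mul_le_mul_left (a := T.w k) (by linarith) hwk
    · exact le_of_mul_le_mul_left (a := T.w k) (by linarith) hwk
  · -- (E,R2): C3, w = w_j
    have a1 : T.a i j = T.w j := by linarith
    have a2 : T.a j k = 2 * T.w j := by linarith
    have w1 : T.w i = T.w j := by linarith
    have w3 : T.w k = 2 * T.w j := by linarith
    rw [a1, w1] at rowi
    rw [a1, a2] at rowj
    rw [a2, w3] at rowk
    refine ⟨i, k, T.w j, Or.inl ⟨rfl, rfl⟩, Or.inr (Or.inl ⟨w1, rfl, w3, a1, a2, ?_, ?_, ?_⟩)⟩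
    · exact le_of_mul_le_mul_left (a := T.w j) (by linarith) hwj
    · exact le_of_mul_le_mul_left (a := T.w j) (by linarith) hwj
    · exact le_of_mul_le_mul_left (a := T.w j) (by linarith) hwj
  · -- (L2,E): reversed C3, w = w_j
    have a1 : T.a i j = 2 * T.w j := by linarith
    have a2 : T.a j k = T.w j := by linarith
    have w1 : T.w i = 2 * T.w j := by linarith
    have w3 : T.w k = T.w j := by linarith
    rw [a1, w1] at rowi
    rw [a1, a2] at rowj
    rw [a2, w3] at rowk
    refine ⟨k, i, T.w j, Or.inr ⟨rfl, rfl⟩, Or.inr (Or.inl ⟨w3, rfl, w1, by rw [skj]; exact a2,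
      by rw [sji]; exact a1, ?_, ?_, ?_⟩)⟩
    · exact le_of_mul_le_mul_left (a := T.w j) (by linarith) hwj
    · exact le_of_mul_le_mul_left (a := T.w j) (by linarith) hwj
    · exact le_of_mul_le_mul_left (a := T.w j) (by linarith) hwj
  · -- (R2,E): reversed B3, w = w_i
    have a1 : T.a i j = 2 * T.w i := by linarith
    have a2 : T.a j k = 2 * T.w i := by linarith
    have w2 : T.w j = 2 * T.w i := by linarith
    have w3 : T.w k = 2 * T.w i := by linarith
    rw [a1] at rowi
    rw [a1, a2, w2] at rowj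
    rw [a2, w3] at rowk
    refine ⟨k, i, T.w i, Or.inr ⟨rfl, rfl⟩, Or.inr (Or.inr ⟨w3, w2, rfl, by rw [skj]; exact a2,
      by rw [sji]; exact a1, ?_, ?_, ?_⟩)⟩
    · exact le_of_mul_le_mul_left (a := T.w i) (by linarith) hwi
    · exact le_of_mul_le_mul_left (a := T.w i) (by linarith) hwi
    · exact le_of_mul_le_mul_left (a := T.w i) (by linarith) hwi

end Groth.Agent.S7341
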