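import Groth.Statements.S7342
import Groth.Agent.H37.Gen

set_option autoImplicit false
open Finset
open Models Models.NumericalType

namespace Groth.Agent.S7342

/-- Let T be a numerical type on n indices, t ≥ 4 and n > t + 2. Then no t + 2 (-2)-indices of T,
pairwise distinct and numbered i_0, …, i_{t+1}, satisfy: a_{i_j i_{j+1}} > 0 for 1 ≤ j ≤ t - 1,
a_{i_0 i_2} > 0 and a_{i_{t-1} i_{t+1}} > 0. -/
theorem result {n : ℕ} (T : Models.NumericalType n) (t : ℕ) (ht : 4 ≤ t) (hn : t + 2 < n)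
    (v : Fin (t + 2) ↪ Fin n) (hv : ∀ j, T.IsMinusTwo (v j))
    (hchain : ∀ j j' : Fin (t + 2), 1 ≤ j.val → j.val + 1 ≤ t → j'.val = j.val + 1 → 0 < T.a (v j) (v j'))
    (h02 : ∀ j j' : Fin (t + 2), j.val = 0 → j'.val = 2 → 0 < T.a (v j) (v j'))
    (hlast : ∀ j j' : Fin (t + 2), j.val = t - 1 → j'.val = t + 1 → 0 < T.a (v j) (v j')) : False := by
  let C := Groth.Agent.H37.M2Config.ofType T v v.injective hn hv
  have adjW : ∀ x y : Fin (t + 2), x ≠ y → (0 < T.a (v x) (v y) ∨ 0 < T.a (v y) (v x)) →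
      C.W x ≤ C.A x y := by
    intro x y hxy h
    apply C.W_le_left hxy
    rcases h with h | h
    · exact ne_of_gt h
    · rw [C.A_symm x y]; exact ne_of_gt h
  have fne : ∀ (x : Fin (t + 2)) (k : ℕ) (hk : k < t + 2), x.val ≠ k → x ≠ ⟨k, hk⟩ := by
    intro x k hk h hh
    apply h
    rw [hh]
  have fne2 : ∀ (k l : ℕ) (hk : k < t + 2) (hl : l < t + 2), k ≠ l →
      (⟨k, hk⟩ : Fin (t + 2)) ≠ ⟨l, hl⟩ := by
    intro k l hk hl h hh
    exact h (congrArg Fin.val hh)
  let c : Fin (t + 2) → ℤ := fun j =>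
    if j.val = 0 ∨ j.val = 1 ∨ j.val = t ∨ j.val = t + 1 then 1 else 2
  have hc1 : ∀ (k : ℕ) (hk : k < t + 2), (k = 0 ∨ k = 1 ∨ k = t ∨ k = t + 1) → c ⟨k, hk⟩ = 1 :=
    fun k hk h => if_pos h
  have hc2 : ∀ (k : ℕ) (hk : k < t + 2), ¬ (k = 0 ∨ k = 1 ∨ k = t ∨ k = t + 1) → c ⟨k, hk⟩ = 2 :=
    fun k hk h => if_neg h
  have hc0 : ∀ j, 0 ≤ c j := by
    intro j
    by_cases h : (j.val = 0 ∨ j.val = 1 ∨ j.val = t ∨ j.val = t + 1)
    · rw [hc1 j.val j.isLt h]; norm_num
    · rw [hc2 j.val j.isLt h]; norm_num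
  apply C.no_sub c hc0
  · intro h0
    have := congrFun h0 ⟨0, by omega⟩
    rw [hc1 0 _ (Or.inl rfl)] at this
    simp at this
  · intro s
    have hws := C.W_pos s
    have hdiag := C.A_diag s
    have hslt : s.val < t + 2 := s.isLt
    by_cases k0 : s.val = 0
    · have hx : s ≠ ⟨2, by omega⟩ := fne _ _ _ (by omega)
      have hb := C.row_ge1 c hc0 hx
      have ha := adjW s ⟨2, by omega⟩ hx (Or.inl (h02 s ⟨2, by omega⟩ k0 rfl))
      rw [hc1 s.val s.isLt (Or.inl k0), hc2 2 _ (by omega), hdiag] at hb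
      linarith
    by_cases k1 : s.val = 1
    · have hx : s ≠ ⟨2, by omega⟩ := fne _ _ _ (by omega)
      have hb := C.row_ge1 c hc0 hx
      have ha := adjW s ⟨2, by omega⟩ hx
        (Or.inl (hchain s ⟨2, by omega⟩ (by omega) (by omega) (by show 2 = s.val + 1; omega)))
      rw [hc1 s.val s.isLt (Or.inr (Or.inl k1)), hc2 2 _ (by omega), hdiag] at hb
      linarith
    by_cases kt : s.val = t
    · have hx : s ≠ ⟨t - 1, by omega⟩ := fne _ _ _ (by omega)
      have hb := C.row_ge1 c hc0 hx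
      have ha := adjW s ⟨t - 1, by omega⟩ hx
        (Or.inr (hchain ⟨t - 1, by omega⟩ s (by show 1 ≤ t - 1; omega) (by show t - 1 + 1 ≤ t; omega)
          (by show s.val = t - 1 + 1; omega)))
      rw [hc1 s.val s.isLt (Or.inr (Or.inr (Or.inl kt))), hc2 (t - 1) _ (by omega), hdiag] at hb
      linarith
    by_cases kt1 : s.val = t + 1
    · have hx : s ≠ ⟨t - 1, by omega⟩ := fne _ _ _ (by omega)
      have hb := C.row_ge1 c hc0 hx
      have ha := adjW s ⟨t - 1, by omega⟩ hx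
        (Or.inr (hlast ⟨t - 1, by omega⟩ s rfl kt1))
      rw [hc1 s.val s.isLt (Or.inr (Or.inr (Or.inr kt1))), hc2 (t - 1) _ (by omega), hdiag] at hb
      linarith
    have hs2 : c s = 2 := hc2 s.val s.isLt (by omega)
    by_cases k2 : s.val = 2
    · have hx : s ≠ ⟨0, by omega⟩ := fne _ _ _ (by omega)
      have hy : s ≠ ⟨1, by omega⟩ := fne _ _ _ (by omega)
      have hz : s ≠ ⟨3, by omega⟩ := fne _ _ _ (by omega)
      have hb := C.row_ge3 c hc0 hx hy hz (fne2 _ _ _ _ (by omega)) (fne2 _ _ _ _ (by omega))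
        (fne2 _ _ _ _ (by omega))
      have ha0 := adjW s ⟨0, by omega⟩ hx (Or.inr (h02 ⟨0, by omega⟩ s rfl k2))
      have ha1 := adjW s ⟨1, by omega⟩ hy
        (Or.inr (hchain ⟨1, by omega⟩ s (by show 1 ≤ 1; omega) (by show 1 + 1 ≤ t; omega)
          (by show s.val = 1 + 1; omega)))
      have ha3 : C.W s ≤ C.A s ⟨3, by omega⟩ := by
        apply adjW s ⟨3, by omega⟩ hz
        left
        exact hchain s ⟨3, by omega⟩ (by omega) (by omega) (by show 3 = s.val + 1; omega)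
      rw [hs2, hc1 0 _ (Or.inl rfl), hc1 1 _ (Or.inr (Or.inl rfl)), hc2 3 _ (by omega), hdiag] at hb
      linarith
    by_cases ktm : s.val = t - 1
    · have hx : s ≠ ⟨t - 2, by omega⟩ := fne _ _ _ (by omega)
      have hy : s ≠ ⟨t, by omega⟩ := fne _ _ _ (by omega)
      have hz : s ≠ ⟨t + 1, by omega⟩ := fne _ _ _ (by omega)
      have hb := C.row_ge3 c hc0 hx hy hz (fne2 _ _ _ _ (by omega)) (fne2 _ _ _ _ (by omega))
        (fne2 _ _ _ _ (by omega))
      have ha0 : C.W s ≤ C.A s ⟨t - 2, by omega⟩ := by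
        apply adjW s ⟨t - 2, by omega⟩ hx
        right
        exact hchain ⟨t - 2, by omega⟩ s (by show 1 ≤ t - 2; omega) (by show t - 2 + 1 ≤ t; omega)
          (by show s.val = t - 2 + 1; omega)
      have ha1 : C.W s ≤ C.A s ⟨t, by omega⟩ := by
        apply adjW s ⟨t, by omega⟩ hy
        left
        exact hchain s ⟨t, by omega⟩ (by omega) (by omega) (by show t = s.val + 1; omega)
      have ha3 : C.W s ≤ C.A s ⟨t + 1, by omega⟩ := by
        apply adjW s ⟨t + 1, by omega⟩ hz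
        left
        exact hlast s ⟨t + 1, by omega⟩ ktm rfl
      rw [hs2, hc2 (t - 2) _ (by omega), hc1 t _ (Or.inr (Or.inr (Or.inl rfl))),
        hc1 (t + 1) _ (Or.inr (Or.inr (Or.inr rfl))), hdiag] at hb
      linarith
    · have hx : s ≠ ⟨s.val - 1, by omega⟩ := fne _ _ _ (by omega)
      have hy : s ≠ ⟨s.val + 1, by omega⟩ := fne _ _ _ (by omega)
      have hb := C.row_ge2 c hc0 hx hy (fne2 _ _ _ _ (by omega))
      have ha0 : C.W s ≤ C.A s ⟨s.val - 1, by omega⟩ := by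
        apply adjW s ⟨s.val - 1, by omega⟩ hx
        right
        exact hchain ⟨s.val - 1, by omega⟩ s (by show 1 ≤ s.val - 1; omega)
          (by show s.val - 1 + 1 ≤ t; omega) (by show s.val = s.val - 1 + 1; omega)
      have ha1 : C.W s ≤ C.A s ⟨s.val + 1, by omega⟩ := by
        apply adjW s ⟨s.val + 1, by omega⟩ hy
        left
        exact hchain s ⟨s.val + 1, by omega⟩ (by omega) (by omega) rfl
      rw [hs2, hc2 (s.val - 1) _ (by omega), hc2 (s.val + 1) _ (by omega), hdiag] at hb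
      linarith

end Groth.Agent.S7342
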