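import Groth.Statements.S7346
import Groth.Agent.H37.Config3

set_option autoImplicit false
open Finset
open Models Models.NumericalType

namespace Groth.Agent.S7346

/-- Classification of proper subgraphs of type D4 (one vertex joined to three others): let T be a
numerical type on n > 4 indices and i_1, …, i_4 distinct (-2)-indices with a_{12}, a_{13}, a_{14}
nonzero. Then for some integer w all w_{i_j} equal w, these intersection numbers equal w, all other
a_{i_j i_k} (j ≠ k) vanish, and 2 m_1 ≥ m_2 + m_3 + m_4, 2 m_2 ≥ m_1, 2 m_3 ≥ m_1, 2 m_4 ≥ m_1. -/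
theorem result {n : ℕ} (T : Models.NumericalType n) (hn : 4 < n)
    (v : Fin 4 ↪ Fin n) (hv : ∀ j, T.IsMinusTwo (v j)) (h01 : T.a (v 0) (v 1) ≠ 0) (h02 : T.a (v 0) (v 2) ≠ 0) (h03 : T.a (v 0) (v 3) ≠ 0) :
    ∃ w : ℤ, (∀ j : Fin 4, T.w (v j) = w) ∧
      T.a (v 0) (v 1) = w ∧
      T.a (v 0) (v 2) = w ∧
      T.a (v 0) (v 3) = w ∧
      T.a (v 1) (v 2) = 0 ∧
      T.a (v 1) (v 3) = 0 ∧
      T.a (v 2) (v 3) = 0 ∧
      T.m (v 1) + T.m (v 2) + T.m (v 3) ≤ 2 * T.m (v 0) ∧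
      T.m (v 0) ≤ 2 * T.m (v 1) ∧
      T.m (v 0) ≤ 2 * T.m (v 2) ∧
      T.m (v 0) ≤ 2 * T.m (v 3) := by
  let C := Groth.Agent.H37.M2Config.ofType T v v.injective hn hv
  obtain ⟨w1, w2, w3, a1, a2, a3, z12, z13, z23⟩ := C.star4 h01 h02 h03
  have hw0 := C.W_pos 0
  have r0 := C.row_le 0
  have r1 := C.row_le 1
  have r2 := C.row_le 2
  have r3 := C.row_le 3
  have y10 := C.A_symm 1 0
  have y20 := C.A_symm 2 0
  have y30 := C.A_symm 3 0
  simp [Fin.sum_univ_succ, C.A_diag] at r0 r1 r2 r3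
  rw [a1, a2, a3] at r0
  rw [y10, a1, w1, z12, z13] at r1
  rw [y20, a2, w2, C.A_symm 2 1, z12, z23] at r2
  rw [y30, a3, w3, C.A_symm 3 1, z13, C.A_symm 3 2, z23] at r3
  refine ⟨T.w (v 0), ?_, a1, a2, a3, z12, z13, z23, ?_, ?_, ?_, ?_⟩
  · intro j
    fin_cases j
    · rfl
    · exact w1
    · exact w2
    · exact w3
  · change C.M 1 + C.M 2 + C.M 3 ≤ 2 * C.M 0
    exact le_of_mul_le_mul_left (a := C.W 0) (by linarith) hw0
  · change C.M 0 ≤ 2 * C.M 1
    exact le_of_mul_le_mul_left (a := C.W 0) (by linarith) hw0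
  · change C.M 0 ≤ 2 * C.M 2
    exact le_of_mul_le_mul_left (a := C.W 0) (by linarith) hw0
  · change C.M 0 ≤ 2 * C.M 3
    exact le_of_mul_le_mul_left (a := C.W 0) (by linarith) hw0

end Groth.Agent.S7346
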