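import Groth.Statements.S7347
import Groth.Agent.H37.Config4

set_option autoImplicit false
open Finset
open Models Models.NumericalType

namespace Groth.Agent.S7347

/-- Classification of proper subgraphs of type D5 (a chain i_1 i_2 i_3 with i_4 and i_5 both joined to
i_3): let T be a numerical type on n > 5 indices and i_1, …, i_5 distinct (-2)-indices with a_{12},
a_{23}, a_{34}, a_{35} nonzero. Then for some integer w all w_{i_j} equal w, these intersection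
numbers equal w, all other a_{i_j i_k} (j ≠ k) vanish, and 2 m_1 ≥ m_2, 2 m_2 ≥ m_1 + m_3, 2 m_3 ≥
m_2 + m_4 + m_5, 2 m_4 ≥ m_3, 2 m_5 ≥ m_3. -/
theorem result {n : ℕ} (T : Models.NumericalType n) (hn : 5 < n)
    (v : Fin 5 ↪ Fin n) (hv : ∀ j, T.IsMinusTwo (v j)) (h01 : T.a (v 0) (v 1) ≠ 0) (h12 : T.a (v 1) (v 2) ≠ 0) (h23 : T.a (v 2) (v 3) ≠ 0) (h24 : T.a (v 2) (v 4) ≠ 0) :
    ∃ w : ℤ, (∀ j : Fin 5, T.w (v j) = w) ∧
      T.a (v 0) (v 1) = w ∧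
      T.a (v 1) (v 2) = w ∧
      T.a (v 2) (v 3) = w ∧
      T.a (v 2) (v 4) = w ∧
      T.a (v 0) (v 2) = 0 ∧
      T.a (v 0) (v 3) = 0 ∧
      T.a (v 0) (v 4) = 0 ∧
      T.a (v 1) (v 3) = 0 ∧
      T.a (v 1) (v 4) = 0 ∧
      T.a (v 3) (v 4) = 0 ∧
      T.m (v 1) ≤ 2 * T.m (v 0) ∧
      T.m (v 0) + T.m (v 2) ≤ 2 * T.m (v 1) ∧
      T.m (v 1) + T.m (v 3) + T.m (v 4) ≤ 2 * T.m (v 2) ∧
      T.m (v 2) ≤ 2 * T.m (v 3) ∧
      T.m (v 2) ≤ 2 * T.m (v 4) := by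
  let C := Groth.Agent.H37.M2Config.ofType T v v.injective hn hv
  obtain ⟨w0, w1, w3, w4, a0_1, a1_2, a2_3, a2_4, z0_2, z0_3, z0_4, z1_3, z1_4, z3_4⟩ := C.d5 h01 h12 h23 h24
  have hwb := C.W_pos 2
  have r0 := C.row_le 0
  have r1 := C.row_le 1
  have r2 := C.row_le 2
  have r3 := C.row_le 3
  have r4 := C.row_le 4
  have y1_0 := C.A_symm 1 0
  have y2_0 := C.A_symm 2 0
  have y3_0 := C.A_symm 3 0
  have y4_0 := C.A_symm 4 0
  have y2_1 := C.A_symm 2 1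
  have y3_1 := C.A_symm 3 1
  have y4_1 := C.A_symm 4 1
  have y3_2 := C.A_symm 3 2
  have y4_2 := C.A_symm 4 2
  have y4_3 := C.A_symm 4 3
  simp [Fin.sum_univ_succ, C.A_diag] at r0 r1 r2 r3 r4
  simp only [y1_0, y2_0, y3_0, y4_0, y2_1, y3_1, y4_1, y3_2, y4_2, y4_3] at r0 r1 r2 r3 r4
  simp only [a0_1, a1_2, a2_3, a2_4, z0_2, z0_3, z0_4, z1_3, z1_4, z3_4, w0, w1, w3, w4] at r0 r1 r2 r3 r4
  refine ⟨T.w (v 2), ?_, a0_1, a1_2, a2_3, a2_4, z0_2, z0_3, z0_4, z1_3, z1_4, z3_4, ?_, ?_, ?_, ?_, ?_⟩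
  · intro j
    fin_cases j
    · exact w0
    · exact w1
    · rfl
    · exact w3
    · exact w4
  · change C.M 1 ≤ 2 * C.M 0
    exact le_of_mul_le_mul_left (a := C.W 2) (by linarith) hwb
  · change C.M 0 + C.M 2 ≤ 2 * C.M 1
    exact le_of_mul_le_mul_left (a := C.W 2) (by linarith) hwb
  · change C.M 1 + C.M 3 + C.M 4 ≤ 2 * C.M 2
    exact le_of_mul_le_mul_left (a := C.W 2) (by linarith) hwb
  · change C.M 2 ≤ 2 * C.M 3
    exact le_of_mul_le_mul_left (a := C.W 2) (by linarith) hwb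
  · change C.M 2 ≤ 2 * C.M 4
    exact le_of_mul_le_mul_left (a := C.W 2) (by linarith) hwb

end Groth.Agent.S7347
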