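import Groth.Statements.S7348
import Groth.Agent.H37.En

set_option autoImplicit false
open Finset
open Models Models.NumericalType

namespace Groth.Agent.S7348

/-- Classification of proper subgraphs of type E6 (a chain i_1 … i_5 with i_6 joined to i_3): let T be a
numerical type on n > 6 indices and i_1, …, i_6 distinct (-2)-indices with a_{12}, a_{23}, a_{34},
a_{45}, a_{36} nonzero. Then for some integer w all w_{i_j} equal w, these intersection numbers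
equal w, all other a_{i_j i_k} (j ≠ k) vanish, and 2 m_1 ≥ m_2, 2 m_2 ≥ m_1 + m_3, 2 m_3 ≥ m_2 + m_4
+ m_6, 2 m_4 ≥ m_3 + m_5, 2 m_5 ≥ m_4, 2 m_6 ≥ m_3. (The published list of inequalities has 2 m_5 ≥
m_3 where the intersection matrix gives 2 m_5 ≥ m_4; the former fails for the extended E8
configuration of multiplicities 4, 5, 6, 4, 2 with 3 attached to the third vertex, so 2 m_5 ≥ m_4 is
stated.) -/
theorem result {n : ℕ} (T : Models.NumericalType n) (hn : 6 < n)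
    (v : Fin 6 ↪ Fin n) (hv : ∀ j, T.IsMinusTwo (v j)) (h01 : T.a (v 0) (v 1) ≠ 0) (h12 : T.a (v 1) (v 2) ≠ 0) (h23 : T.a (v 2) (v 3) ≠ 0) (h34 : T.a (v 3) (v 4) ≠ 0) (h25 : T.a (v 2) (v 5) ≠ 0) :
    ∃ w : ℤ, (∀ j : Fin 6, T.w (v j) = w) ∧
      T.a (v 0) (v 1) = w ∧
      T.a (v 1) (v 2) = w ∧
      T.a (v 2) (v 3) = w ∧
      T.a (v 3) (v 4) = w ∧
      T.a (v 2) (v 5) = w ∧
      T.a (v 0) (v 2) = 0 ∧
      T.a (v 0) (v 3) = 0 ∧
      T.a (v 0) (v 4) = 0 ∧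
      T.a (v 0) (v 5) = 0 ∧
      T.a (v 1) (v 3) = 0 ∧
      T.a (v 1) (v 4) = 0 ∧
      T.a (v 1) (v 5) = 0 ∧
      T.a (v 2) (v 4) = 0 ∧
      T.a (v 3) (v 5) = 0 ∧
      T.a (v 4) (v 5) = 0 ∧
      T.m (v 1) ≤ 2 * T.m (v 0) ∧
      T.m (v 0) + T.m (v 2) ≤ 2 * T.m (v 1) ∧
      T.m (v 1) + T.m (v 3) + T.m (v 5) ≤ 2 * T.m (v 2) ∧
      T.m (v 2) + T.m (v 4) ≤ 2 * T.m (v 3) ∧
      T.m (v 3) ≤ 2 * T.m (v 4) ∧
      T.m (v 2) ≤ 2 * T.m (v 5) := by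
  let C := Groth.Agent.H37.M2Config.ofType T v v.injective hn hv
  obtain ⟨w0, w1, w3, w4, w5, a0_1, a1_2, a2_3, a3_4, a2_5, z0_2, z0_3, z0_4, z0_5, z1_3, z1_4, z1_5, z2_4, z3_5, z4_5⟩ := C.e6 h01 h12 h23 h34 h25
  have hwb := C.W_pos 2
  have r0 := C.row_le 0
  have r1 := C.row_le 1
  have r2 := C.row_le 2
  have r3 := C.row_le 3
  have r4 := C.row_le 4
  have r5 := C.row_le 5
  have y1_0 := C.A_symm 1 0
  have y2_0 := C.A_symm 2 0
  have y3_0 := C.A_symm 3 0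
  have y4_0 := C.A_symm 4 0
  have y5_0 := C.A_symm 5 0
  have y2_1 := C.A_symm 2 1
  have y3_1 := C.A_symm 3 1
  have y4_1 := C.A_symm 4 1
  have y5_1 := C.A_symm 5 1
  have y3_2 := C.A_symm 3 2
  have y4_2 := C.A_symm 4 2
  have y5_2 := C.A_symm 5 2
  have y4_3 := C.A_symm 4 3
  have y5_3 := C.A_symm 5 3
  have y5_4 := C.A_symm 5 4
  simp [Fin.sum_univ_succ, C.A_diag] at r0 r1 r2 r3 r4 r5
  simp only [y1_0, y2_0, y3_0, y4_0, y5_0, y2_1, y3_1, y4_1, y5_1, y3_2, y4_2, y5_2, y4_3, y5_3, y5_4] at r0 r1 r2 r3 r4 r5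
  simp only [a0_1, a1_2, a2_3, a3_4, a2_5, z0_2, z0_3, z0_4, z0_5, z1_3, z1_4, z1_5, z2_4, z3_5, z4_5, w0, w1, w3, w4, w5] at r0 r1 r2 r3 r4 r5
  refine ⟨T.w (v 2), ?_, a0_1, a1_2, a2_3, a3_4, a2_5, z0_2, z0_3, z0_4, z0_5, z1_3, z1_4, z1_5, z2_4, z3_5, z4_5, ?_, ?_, ?_, ?_, ?_, ?_⟩
  · intro j
    fin_cases j
    · exact w0
    · exact w1
    · rfl
    · exact w3
    · exact w4
    · exact w5
  · change C.M 1 ≤ 2 * C.M 0
    exact le_of_mul_le_mul_left (a := C.W 2) (by linarith) hwb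
  · change C.M 0 + C.M 2 ≤ 2 * C.M 1
    exact le_of_mul_le_mul_left (a := C.W 2) (by linarith) hwb
  · change C.M 1 + C.M 3 + C.M 5 ≤ 2 * C.M 2
    exact le_of_mul_le_mul_left (a := C.W 2) (by linarith) hwb
  · change C.M 2 + C.M 4 ≤ 2 * C.M 3
    exact le_of_mul_le_mul_left (a := C.W 2) (by linarith) hwb
  · change C.M 3 ≤ 2 * C.M 4
    exact le_of_mul_le_mul_left (a := C.W 2) (by linarith) hwb
  · change C.M 2 ≤ 2 * C.M 5
    exact le_of_mul_le_mul_left (a := C.W 2) (by linarith) hwb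

end Groth.Agent.S7348
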