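import Groth.Statements.S7349
import Groth.Agent.H37.En

set_option autoImplicit false
open Finset
open Models Models.NumericalType

namespace Groth.Agent.S7349

/-- Classification of proper subgraphs of type E7 (a chain i_1 … i_6 with i_7 joined to i_4): let T be a
numerical type on n > 7 indices and i_1, …, i_7 distinct (-2)-indices with a_{12}, a_{23}, a_{34},
a_{45}, a_{56}, a_{47} nonzero. Then for some integer w all w_{i_j} equal w, these intersection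
numbers equal w, all other a_{i_j i_k} (j ≠ k) vanish, and 2 m_1 ≥ m_2, 2 m_2 ≥ m_1 + m_3, 2 m_3 ≥
m_2 + m_4, 2 m_4 ≥ m_3 + m_5 + m_7, 2 m_5 ≥ m_4 + m_6, 2 m_6 ≥ m_5, 2 m_7 ≥ m_4. -/
theorem result {n : ℕ} (T : Models.NumericalType n) (hn : 7 < n)
    (v : Fin 7 ↪ Fin n) (hv : ∀ j, T.IsMinusTwo (v j)) (h01 : T.a (v 0) (v 1) ≠ 0) (h12 : T.a (v 1) (v 2) ≠ 0) (h23 : T.a (v 2) (v 3) ≠ 0) (h34 : T.a (v 3) (v 4) ≠ 0) (h45 : T.a (v 4) (v 5) ≠ 0) (h36 : T.a (v 3) (v 6) ≠ 0) :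
    ∃ w : ℤ, (∀ j : Fin 7, T.w (v j) = w) ∧
      T.a (v 0) (v 1) = w ∧
      T.a (v 1) (v 2) = w ∧
      T.a (v 2) (v 3) = w ∧
      T.a (v 3) (v 4) = w ∧
      T.a (v 4) (v 5) = w ∧
      T.a (v 3) (v 6) = w ∧
      T.a (v 0) (v 2) = 0 ∧
      T.a (v 0) (v 3) = 0 ∧
      T.a (v 0) (v 4) = 0 ∧
      T.a (v 0) (v 5) = 0 ∧
      T.a (v 0) (v 6) = 0 ∧
      T.a (v 1) (v 3) = 0 ∧
      T.a (v 1) (v 4) = 0 ∧
      T.a (v 1) (v 5) = 0 ∧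
      T.a (v 1) (v 6) = 0 ∧
      T.a (v 2) (v 4) = 0 ∧
      T.a (v 2) (v 5) = 0 ∧
      T.a (v 2) (v 6) = 0 ∧
      T.a (v 3) (v 5) = 0 ∧
      T.a (v 4) (v 6) = 0 ∧
      T.a (v 5) (v 6) = 0 ∧
      T.m (v 1) ≤ 2 * T.m (v 0) ∧
      T.m (v 0) + T.m (v 2) ≤ 2 * T.m (v 1) ∧
      T.m (v 1) + T.m (v 3) ≤ 2 * T.m (v 2) ∧
      T.m (v 2) + T.m (v 4) + T.m (v 6) ≤ 2 * T.m (v 3) ∧
      T.m (v 3) + T.m (v 5) ≤ 2 * T.m (v 4) ∧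
      T.m (v 4) ≤ 2 * T.m (v 5) ∧
      T.m (v 3) ≤ 2 * T.m (v 6) := by
  let C := Groth.Agent.H37.M2Config.ofType T v v.injective hn hv
  obtain ⟨w0, w1, w2, w4, w5, w6, a0_1, a1_2, a2_3, a3_4, a4_5, a3_6, z0_2, z0_3, z0_4, z0_5, z0_6, z1_3, z1_4, z1_5, z1_6, z2_4, z2_5, z2_6, z3_5, z4_6, z5_6⟩ := C.e7 h01 h12 h23 h34 h45 h36
  have hwb := C.W_pos 3
  have r0 := C.row_le 0
  have r1 := C.row_le 1
  have r2 := C.row_le 2
  have r3 := C.row_le 3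
  have r4 := C.row_le 4
  have r5 := C.row_le 5
  have r6 := C.row_le 6
  have y1_0 := C.A_symm 1 0
  have y2_0 := C.A_symm 2 0
  have y3_0 := C.A_symm 3 0
  have y4_0 := C.A_symm 4 0
  have y5_0 := C.A_symm 5 0
  have y6_0 := C.A_symm 6 0
  have y2_1 := C.A_symm 2 1
  have y3_1 := C.A_symm 3 1
  have y4_1 := C.A_symm 4 1
  have y5_1 := C.A_symm 5 1
  have y6_1 := C.A_symm 6 1
  have y3_2 := C.A_symm 3 2
  have y4_2 := C.A_symm 4 2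
  have y5_2 := C.A_symm 5 2
  have y6_2 := C.A_symm 6 2
  have y4_3 := C.A_symm 4 3
  have y5_3 := C.A_symm 5 3
  have y6_3 := C.A_symm 6 3
  have y5_4 := C.A_symm 5 4
  have y6_4 := C.A_symm 6 4
  have y6_5 := C.A_symm 6 5
  simp [Fin.sum_univ_succ, C.A_diag] at r0 r1 r2 r3 r4 r5 r6
  simp only [y1_0, y2_0, y3_0, y4_0, y5_0, y6_0, y2_1, y3_1, y4_1, y5_1, y6_1, y3_2, y4_2, y5_2, y6_2, y4_3, y5_3, y6_3, y5_4, y6_4, y6_5] at r0 r1 r2 r3 r4 r5 r6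
  simp only [a0_1, a1_2, a2_3, a3_4, a4_5, a3_6, z0_2, z0_3, z0_4, z0_5, z0_6, z1_3, z1_4, z1_5, z1_6, z2_4, z2_5, z2_6, z3_5, z4_6, z5_6, w0, w1, w2, w4, w5, w6] at r0 r1 r2 r3 r4 r5 r6
  refine ⟨T.w (v 3), ?_, a0_1, a1_2, a2_3, a3_4, a4_5, a3_6, z0_2, z0_3, z0_4, z0_5, z0_6, z1_3, z1_4, z1_5, z1_6, z2_4, z2_5, z2_6, z3_5, z4_6, z5_6, ?_, ?_, ?_, ?_, ?_, ?_, ?_⟩
  · intro j
    fin_cases j
    · exact w0
    · exact w1
    · exact w2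
    · rfl
    · exact w4
    · exact w5
    · exact w6
  · change C.M 1 ≤ 2 * C.M 0
    exact le_of_mul_le_mul_left (a := C.W 3) (by linarith) hwb
  · change C.M 0 + C.M 2 ≤ 2 * C.M 1
    exact le_of_mul_le_mul_left (a := C.W 3) (by linarith) hwb
  · change C.M 1 + C.M 3 ≤ 2 * C.M 2
    exact le_of_mul_le_mul_left (a := C.W 3) (by linarith) hwb
  · change C.M 2 + C.M 4 + C.M 6 ≤ 2 * C.M 3
    exact le_of_mul_le_mul_left (a := C.W 3) (by linarith) hwb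
  · change C.M 3 + C.M 5 ≤ 2 * C.M 4
    exact le_of_mul_le_mul_left (a := C.W 3) (by linarith) hwb
  · change C.M 4 ≤ 2 * C.M 5
    exact le_of_mul_le_mul_left (a := C.W 3) (by linarith) hwb
  · change C.M 3 ≤ 2 * C.M 6
    exact le_of_mul_le_mul_left (a := C.W 3) (by linarith) hwb

end Groth.Agent.S7349
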