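import Groth.Statements.S7350
import Groth.Agent.H37.En

set_option autoImplicit false
open Finset
open Models Models.NumericalType

namespace Groth.Agent.S7350

/-- Classification of proper subgraphs of type E8 (a chain i_1 … i_7 with i_8 joined to i_5): let T be a
numerical type on n > 8 indices and i_1, …, i_8 distinct (-2)-indices with a_{12}, a_{23}, a_{34},
a_{45}, a_{56}, a_{67}, a_{58} nonzero. Then for some integer w all w_{i_j} equal w, these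
intersection numbers equal w, all other a_{i_j i_k} (j ≠ k) vanish, and 2 m_1 ≥ m_2, 2 m_2 ≥ m_1 +
m_3, 2 m_3 ≥ m_2 + m_4, 2 m_4 ≥ m_3 + m_5, 2 m_5 ≥ m_4 + m_6 + m_8, 2 m_6 ≥ m_5 + m_7, 2 m_7 ≥ m_6,
2 m_8 ≥ m_5. (The published statement lists a_{65} and a_{57} among the nonzero entries, which
contradicts its own conclusion a_{57} = 0; this row uses the edges of the E8 graph, a_{67} and
a_{58}, as the pictured graph and the matrix give them.) -/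
theorem result {n : ℕ} (T : Models.NumericalType n) (hn : 8 < n)
    (v : Fin 8 ↪ Fin n) (hv : ∀ j, T.IsMinusTwo (v j)) (h01 : T.a (v 0) (v 1) ≠ 0) (h12 : T.a (v 1) (v 2) ≠ 0) (h23 : T.a (v 2) (v 3) ≠ 0) (h34 : T.a (v 3) (v 4) ≠ 0) (h45 : T.a (v 4) (v 5) ≠ 0) (h56 : T.a (v 5) (v 6) ≠ 0) (h47 : T.a (v 4) (v 7) ≠ 0) :
    ∃ w : ℤ, (∀ j : Fin 8, T.w (v j) = w) ∧
      T.a (v 0) (v 1) = w ∧
      T.a (v 1) (v 2) = w ∧
      T.a (v 2) (v 3) = w ∧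
      T.a (v 3) (v 4) = w ∧
      T.a (v 4) (v 5) = w ∧
      T.a (v 5) (v 6) = w ∧
      T.a (v 4) (v 7) = w ∧
      T.a (v 0) (v 2) = 0 ∧
      T.a (v 0) (v 3) = 0 ∧
      T.a (v 0) (v 4) = 0 ∧
      T.a (v 0) (v 5) = 0 ∧
      T.a (v 0) (v 6) = 0 ∧
      T.a (v 0) (v 7) = 0 ∧
      T.a (v 1) (v 3) = 0 ∧
      T.a (v 1) (v 4) = 0 ∧
      T.a (v 1) (v 5) = 0 ∧
      T.a (v 1) (v 6) = 0 ∧
      T.a (v 1) (v 7) = 0 ∧
      T.a (v 2) (v 4) = 0 ∧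
      T.a (v 2) (v 5) = 0 ∧
      T.a (v 2) (v 6) = 0 ∧
      T.a (v 2) (v 7) = 0 ∧
      T.a (v 3) (v 5) = 0 ∧
      T.a (v 3) (v 6) = 0 ∧
      T.a (v 3) (v 7) = 0 ∧
      T.a (v 4) (v 6) = 0 ∧
      T.a (v 5) (v 7) = 0 ∧
      T.a (v 6) (v 7) = 0 ∧
      T.m (v 1) ≤ 2 * T.m (v 0) ∧
      T.m (v 0) + T.m (v 2) ≤ 2 * T.m (v 1) ∧
      T.m (v 1) + T.m (v 3) ≤ 2 * T.m (v 2) ∧
      T.m (v 2) + T.m (v 4) ≤ 2 * T.m (v 3) ∧
      T.m (v 3) + T.m (v 5) + T.m (v 7) ≤ 2 * T.m (v 4) ∧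
      T.m (v 4) + T.m (v 6) ≤ 2 * T.m (v 5) ∧
      T.m (v 5) ≤ 2 * T.m (v 6) ∧
      T.m (v 4) ≤ 2 * T.m (v 7) := by
  let C := Groth.Agent.H37.M2Config.ofType T v v.injective hn hv
  obtain ⟨w0, w1, w2, w3, w5, w6, w7, a0_1, a1_2, a2_3, a3_4, a4_5, a5_6, a4_7, z0_2, z0_3, z0_4, z0_5, z0_6, z0_7, z1_3, z1_4, z1_5, z1_6, z1_7, z2_4, z2_5, z2_6, z2_7, z3_5, z3_6, z3_7, z4_6, z5_7, z6_7⟩ := C.e8 h01 h12 h23 h34 h45 h56 h47
  have hwb := C.W_pos 4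
  have r0 := C.row_le 0
  have r1 := C.row_le 1
  have r2 := C.row_le 2
  have r3 := C.row_le 3
  have r4 := C.row_le 4
  have r5 := C.row_le 5
  have r6 := C.row_le 6
  have r7 := C.row_le 7
  have y1_0 := C.A_symm 1 0
  have y2_0 := C.A_symm 2 0
  have y3_0 := C.A_symm 3 0
  have y4_0 := C.A_symm 4 0
  have y5_0 := C.A_symm 5 0
  have y6_0 := C.A_symm 6 0
  have y7_0 := C.A_symm 7 0
  have y2_1 := C.A_symm 2 1
  have y3_1 := C.A_symm 3 1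
  have y4_1 := C.A_symm 4 1
  have y5_1 := C.A_symm 5 1
  have y6_1 := C.A_symm 6 1
  have y7_1 := C.A_symm 7 1
  have y3_2 := C.A_symm 3 2
  have y4_2 := C.A_symm 4 2
  have y5_2 := C.A_symm 5 2
  have y6_2 := C.A_symm 6 2
  have y7_2 := C.A_symm 7 2
  have y4_3 := C.A_symm 4 3
  have y5_3 := C.A_symm 5 3
  have y6_3 := C.A_symm 6 3
  have y7_3 := C.A_symm 7 3
  have y5_4 := C.A_symm 5 4
  have y6_4 := C.A_symm 6 4
  have y7_4 := C.A_symm 7 4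
  have y6_5 := C.A_symm 6 5
  have y7_5 := C.A_symm 7 5
  have y7_6 := C.A_symm 7 6
  simp [Fin.sum_univ_succ, C.A_diag] at r0 r1 r2 r3 r4 r5 r6 r7
  simp only [y1_0, y2_0, y3_0, y4_0, y5_0, y6_0, y7_0, y2_1, y3_1, y4_1, y5_1, y6_1, y7_1, y3_2, y4_2, y5_2, y6_2, y7_2, y4_3, y5_3, y6_3, y7_3, y5_4, y6_4, y7_4, y6_5, y7_5, y7_6] at r0 r1 r2 r3 r4 r5 r6 r7
  simp only [a0_1, a1_2, a2_3, a3_4, a4_5, a5_6, a4_7, z0_2, z0_3, z0_4, z0_5, z0_6, z0_7, z1_3, z1_4, z1_5, z1_6, z1_7, z2_4, z2_5, z2_6, z2_7, z3_5, z3_6, z3_7, z4_6, z5_7, z6_7, w0, w1, w2, w3, w5, w6, w7] at r0 r1 r2 r3 r4 r5 r6 r7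
  refine ⟨T.w (v 4), ?_, a0_1, a1_2, a2_3, a3_4, a4_5, a5_6, a4_7, z0_2, z0_3, z0_4, z0_5, z0_6, z0_7, z1_3, z1_4, z1_5, z1_6, z1_7, z2_4, z2_5, z2_6, z2_7, z3_5, z3_6, z3_7, z4_6, z5_7, z6_7, ?_, ?_, ?_, ?_, ?_, ?_, ?_, ?_⟩
  · intro j
    fin_cases j
    · exact w0
    · exact w1
    · exact w2
    · exact w3
    · rfl
    · exact w5
    · exact w6
    · exact w7
  · change C.M 1 ≤ 2 * C.M 0
    exact le_of_mul_le_mul_left (a := C.W 4) (by linarith) hwb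
  · change C.M 0 + C.M 2 ≤ 2 * C.M 1
    exact le_of_mul_le_mul_left (a := C.W 4) (by linarith) hwb
  · change C.M 1 + C.M 3 ≤ 2 * C.M 2
    exact le_of_mul_le_mul_left (a := C.W 4) (by linarith) hwb
  · change C.M 2 + C.M 4 ≤ 2 * C.M 3
    exact le_of_mul_le_mul_left (a := C.W 4) (by linarith) hwb
  · change C.M 3 + C.M 5 + C.M 7 ≤ 2 * C.M 4
    exact le_of_mul_le_mul_left (a := C.W 4) (by linarith) hwb
  · change C.M 4 + C.M 6 ≤ 2 * C.M 5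
    exact le_of_mul_le_mul_left (a := C.W 4) (by linarith) hwb
  · change C.M 5 ≤ 2 * C.M 6
    exact le_of_mul_le_mul_left (a := C.W 4) (by linarith) hwb
  · change C.M 4 ≤ 2 * C.M 7
    exact le_of_mul_le_mul_left (a := C.W 4) (by linarith) hwb

end Groth.Agent.S7350
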