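import Groth.Statements.S7352
import Groth.Agent.H37.Chain4

set_option autoImplicit false
open Finset
open Models Models.NumericalType

namespace Groth.Agent.S7352

/-- Classification of proper subgraphs which are chains of four vertices: let T be a numerical type on n
> 4 indices and i_1, …, i_4 distinct (-2)-indices with a_{i_j i_{j+1}} nonzero for j < 4. Then
a_{i_j i_l} = 0 for |j - l| ≥ 2 and, after possibly reversing the order of the indices, for some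
integer w one of the following holds: (A4) w = (w, w, w, w), consecutive a = (w, w, w), with 2m_1 ≥
m_2, 2m_2 ≥ m_1 + m_3, 2m_3 ≥ m_2 + m_4, 2m_4 ≥ m_3; (C4) w = (w, w, w, 2w), consecutive a = (w, w,
2w), with 2m_1 ≥ m_2, 2m_2 ≥ m_1 + m_3, 2m_3 ≥ m_2 + 2m_4, 2m_4 ≥ m_3; (B4) w = (2w, 2w, 2w, w),
consecutive a = (2w, 2w, 2w), with 2m_1 ≥ m_2, 2m_2 ≥ m_1 + m_3, 2m_3 ≥ m_2 + m_4, m_4 ≥ m_3; (F4) w
= (w, w, 2w, 2w), consecutive a = (w, 2w, 2w), with 2m_1 ≥ m_2, 2m_2 ≥ m_1 + 2m_3, 2m_3 ≥ m_2 + m_4,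
2m_4 ≥ m_3. -/
theorem result {n : ℕ} (T : Models.NumericalType n) (hn : 4 < n)
    (v : Fin 4 ↪ Fin n) (hv : ∀ j, T.IsMinusTwo (v j)) (h01 : T.a (v 0) (v 1) ≠ 0) (h12 : T.a (v 1) (v 2) ≠ 0) (h23 : T.a (v 2) (v 3) ≠ 0) :
    (T.a (v 0) (v 2) = 0 ∧ T.a (v 0) (v 3) = 0 ∧ T.a (v 1) (v 3) = 0) ∧
    ∃ (u : Fin 4 → Fin n) (w : ℤ), ((∀ j, u j = v j) ∨ (∀ j, u j = v (Fin.rev j))) ∧
      ((T.w (u 0) = w ∧ T.w (u 1) = w ∧ T.w (u 2) = w ∧ T.w (u 3) = w ∧ T.a (u 0) (u 1) = w ∧ T.a (u 1) (u 2) = w ∧ T.a (u 2) (u 3) = w ∧ T.m (u 1) ≤ 2 * T.m (u 0) ∧ T.m (u 0) + T.m (u 2) ≤ 2 * T.m (u 1) ∧ T.m (u 1) + T.m (u 3) ≤ 2 * T.m (u 2) ∧ T.m (u 2) ≤ 2 * T.m (u 3)) ∨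
      (T.w (u 0) = w ∧ T.w (u 1) = w ∧ T.w (u 2) = w ∧ T.w (u 3) = 2 * w ∧ T.a (u 0) (u 1) = w ∧ T.a (u 1) (u 2) = w ∧ T.a (u 2) (u 3) = 2 * w ∧ T.m (u 1) ≤ 2 * T.m (u 0) ∧ T.m (u 0) + T.m (u 2) ≤ 2 * T.m (u 1) ∧ T.m (u 1) + 2 * T.m (u 3) ≤ 2 * T.m (u 2) ∧ T.m (u 2) ≤ 2 * T.m (u 3)) ∨
      (T.w (u 0) = 2 * w ∧ T.w (u 1) = 2 * w ∧ T.w (u 2) = 2 * w ∧ T.w (u 3) = w ∧ T.a (u 0) (u 1) = 2 * w ∧ T.a (u 1) (u 2) = 2 * w ∧ T.a (u 2) (u 3) = 2 * w ∧ T.m (u 1) ≤ 2 * T.m (u 0) ∧ T.m (u 0) + T.m (u 2) ≤ 2 * T.m (u 1) ∧ T.m (u 1) + T.m (u 3) ≤ 2 * T.m (u 2) ∧ T.m (u 2) ≤ T.m (u 3)) ∨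
      (T.w (u 0) = w ∧ T.w (u 1) = w ∧ T.w (u 2) = 2 * w ∧ T.w (u 3) = 2 * w ∧ T.a (u 0) (u 1) = w ∧ T.a (u 1) (u 2) = 2 * w ∧ T.a (u 2) (u 3) = 2 * w ∧ T.m (u 1) ≤ 2 * T.m (u 0) ∧ T.m (u 0) + 2 * T.m (u 2) ≤ 2 * T.m (u 1) ∧ T.m (u 1) + T.m (u 3) ≤ 2 * T.m (u 2) ∧ T.m (u 2) ≤ 2 * T.m (u 3))) := by
  let C := Groth.Agent.H37.M2Config.ofType T v v.injective (by omega) hv
  obtain ⟨z0_2, z0_3, z1_3, hshape⟩ := C.chain4 h01 h12 h23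
  have hw0 := C.W_pos 0
  have r0 := C.row_le 0
  have hw1 := C.W_pos 1
  have r1 := C.row_le 1
  have hw2 := C.W_pos 2
  have r2 := C.row_le 2
  have hw3 := C.W_pos 3
  have r3 := C.row_le 3
  have y1_0 := C.A_symm 1 0
  have y2_0 := C.A_symm 2 0
  have y3_0 := C.A_symm 3 0
  have y2_1 := C.A_symm 2 1
  have y3_1 := C.A_symm 3 1
  have y3_2 := C.A_symm 3 2
  simp [Fin.sum_univ_succ, C.A_diag] at r0 r1 r2 r3
  simp only [y1_0, y2_0, y3_0, y2_1, y3_1, y3_2] at r0 r1 r2 r3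
  refine ⟨⟨z0_2, z0_3, z1_3⟩, ?_⟩
  rcases hshape with ⟨w1, w2, w3, a0_1, a1_2, a2_3⟩ | ⟨w1, w2, w3, a0_1, a1_2, a2_3⟩ | ⟨w0, w1, w2, a0_1, a1_2, a2_3⟩ | ⟨w1, w2, w3, a0_1, a1_2, a2_3⟩ | ⟨w0, w2, w3, a0_1, a1_2, a2_3⟩ | ⟨w1, w2, w3, a0_1, a1_2, a2_3⟩ | ⟨w0, w1, w3, a0_1, a1_2, a2_3⟩
  · simp only [a0_1, a1_2, a2_3, z0_2, z0_3, z1_3, w1, w2, w3] at r0 r1 r2 r3
    refine ⟨v, C.W 0, Or.inl (fun _ => rfl), Or.inl ⟨rfl, w1, w2, w3, a0_1, a1_2, a2_3, ?_, ?_, ?_, ?_⟩⟩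
    · change C.M 1 ≤ 2 * C.M 0
      have hh := le_of_mul_le_mul_left (a := C.W 0) (b := C.M 1) (c := 2 * C.M 0) (by linarith) hw0
      linarith
    · change C.M 0 + C.M 2 ≤ 2 * C.M 1
      have hh := le_of_mul_le_mul_left (a := C.W 0) (b := C.M 0 + C.M 2) (c := 2 * C.M 1) (by linarith) hw0
      linarith
    · change C.M 1 + C.M 3 ≤ 2 * C.M 2
      have hh := le_of_mul_le_mul_left (a := C.W 0) (b := C.M 1 + C.M 3) (c := 2 * C.M 2) (by linarith) hw0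
      linarith
    · change C.M 2 ≤ 2 * C.M 3
      have hh := le_of_mul_le_mul_left (a := C.W 0) (b := C.M 2) (c := 2 * C.M 3) (by linarith) hw0
      linarith
  · simp only [a0_1, a1_2, a2_3, z0_2, z0_3, z1_3, w1, w2, w3] at r0 r1 r2 r3
    refine ⟨v, C.W 0, Or.inl (fun _ => rfl), Or.inr (Or.inl ⟨rfl, w1, w2, w3, a0_1, a1_2, a2_3, ?_, ?_, ?_, ?_⟩)⟩
    · change C.M 1 ≤ 2 * C.M 0
      have hh := le_of_mul_le_mul_left (a := C.W 0) (b := C.M 1) (c := 2 * C.M 0) (by linarith) hw0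
      linarith
    · change C.M 0 + C.M 2 ≤ 2 * C.M 1
      have hh := le_of_mul_le_mul_left (a := C.W 0) (b := C.M 0 + C.M 2) (c := 2 * C.M 1) (by linarith) hw0
      linarith
    · change C.M 1 + 2 * C.M 3 ≤ 2 * C.M 2
      have hh := le_of_mul_le_mul_left (a := C.W 0) (b := C.M 1 + 2 * C.M 3) (c := 2 * C.M 2) (by linarith) hw0
      linarith
    · change C.M 2 ≤ 2 * C.M 3
      have hh := le_of_mul_le_mul_left (a := C.W 0) (b := 2 * C.M 2) (c := 4 * C.M 3) (by linarith) hw0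
      linarith
  · simp only [a0_1, a1_2, a2_3, z0_2, z0_3, z1_3, w0, w1, w2] at r0 r1 r2 r3
    refine ⟨v, C.W 3, Or.inl (fun _ => rfl), Or.inr (Or.inr (Or.inl ⟨w0, w1, w2, rfl, a0_1, a1_2, a2_3, ?_, ?_, ?_, ?_⟩))⟩
    · change C.M 1 ≤ 2 * C.M 0
      have hh := le_of_mul_le_mul_left (a := C.W 3) (b := 2 * C.M 1) (c := 4 * C.M 0) (by linarith) hw3
      linarith
    · change C.M 0 + C.M 2 ≤ 2 * C.M 1
      have hh := le_of_mul_le_mul_left (a := C.W 3) (b := 2 * C.M 0 + 2 * C.M 2) (c := 4 * C.M 1) (by linarith) hw3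
      linarith
    · change C.M 1 + C.M 3 ≤ 2 * C.M 2
      have hh := le_of_mul_le_mul_left (a := C.W 3) (b := 2 * C.M 1 + 2 * C.M 3) (c := 4 * C.M 2) (by linarith) hw3
      linarith
    · change C.M 2 ≤ C.M 3
      have hh := le_of_mul_le_mul_left (a := C.W 3) (b := 2 * C.M 2) (c := 2 * C.M 3) (by linarith) hw3
      linarith
  · simp only [a0_1, a1_2, a2_3, z0_2, z0_3, z1_3, w1, w2, w3] at r0 r1 r2 r3
    refine ⟨v, C.W 0, Or.inl (fun _ => rfl), Or.inr (Or.inr (Or.inr (⟨rfl, w1, w2, w3, a0_1, a1_2, a2_3, ?_, ?_, ?_, ?_⟩)))⟩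
    · change C.M 1 ≤ 2 * C.M 0
      have hh := le_of_mul_le_mul_left (a := C.W 0) (b := C.M 1) (c := 2 * C.M 0) (by linarith) hw0
      linarith
    · change C.M 0 + 2 * C.M 2 ≤ 2 * C.M 1
      have hh := le_of_mul_le_mul_left (a := C.W 0) (b := C.M 0 + 2 * C.M 2) (c := 2 * C.M 1) (by linarith) hw0
      linarith
    · change C.M 1 + C.M 3 ≤ 2 * C.M 2
      have hh := le_of_mul_le_mul_left (a := C.W 0) (b := 2 * C.M 1 + 2 * C.M 3) (c := 4 * C.M 2) (by linarith) hw0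
      linarith
    · change C.M 2 ≤ 2 * C.M 3
      have hh := le_of_mul_le_mul_left (a := C.W 0) (b := 2 * C.M 2) (c := 4 * C.M 3) (by linarith) hw0
      linarith
  · simp only [a0_1, a1_2, a2_3, z0_2, z0_3, z1_3, w0, w2, w3] at r0 r1 r2 r3
    refine ⟨(fun j => v (Fin.rev j)), C.W 1, Or.inr (fun _ => rfl), Or.inr (Or.inl ⟨w3, w2, rfl, w0, (y3_2.trans a2_3), (y2_1.trans a1_2), (y1_0.trans a0_1), ?_, ?_, ?_, ?_⟩)⟩
    · change C.M 2 ≤ 2 * C.M 3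
      have hh := le_of_mul_le_mul_left (a := C.W 1) (b := C.M 2) (c := 2 * C.M 3) (by linarith) hw1
      linarith
    · change C.M 3 + C.M 1 ≤ 2 * C.M 2
      have hh := le_of_mul_le_mul_left (a := C.W 1) (b := C.M 1 + C.M 3) (c := 2 * C.M 2) (by linarith) hw1
      linarith
    · change C.M 2 + 2 * C.M 0 ≤ 2 * C.M 1
      have hh := le_of_mul_le_mul_left (a := C.W 1) (b := 2 * C.M 0 + C.M 2) (c := 2 * C.M 1) (by linarith) hw1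
      linarith
    · change C.M 1 ≤ 2 * C.M 0
      have hh := le_of_mul_le_mul_left (a := C.W 1) (b := 2 * C.M 1) (c := 4 * C.M 0) (by linarith) hw1
      linarith
  · simp only [a0_1, a1_2, a2_3, z0_2, z0_3, z1_3, w1, w2, w3] at r0 r1 r2 r3
    refine ⟨(fun j => v (Fin.rev j)), C.W 0, Or.inr (fun _ => rfl), Or.inr (Or.inr (Or.inl ⟨w3, w2, w1, rfl, (y3_2.trans a2_3), (y2_1.trans a1_2), (y1_0.trans a0_1), ?_, ?_, ?_, ?_⟩))⟩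
    · change C.M 2 ≤ 2 * C.M 3
      have hh := le_of_mul_le_mul_left (a := C.W 0) (b := 2 * C.M 2) (c := 4 * C.M 3) (by linarith) hw0
      linarith
    · change C.M 3 + C.M 1 ≤ 2 * C.M 2
      have hh := le_of_mul_le_mul_left (a := C.W 0) (b := 2 * C.M 1 + 2 * C.M 3) (c := 4 * C.M 2) (by linarith) hw0
      linarith
    · change C.M 2 + C.M 0 ≤ 2 * C.M 1
      have hh := le_of_mul_le_mul_left (a := C.W 0) (b := 2 * C.M 0 + 2 * C.M 2) (c := 4 * C.M 1) (by linarith) hw0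
      linarith
    · change C.M 1 ≤ C.M 0
      have hh := le_of_mul_le_mul_left (a := C.W 0) (b := 2 * C.M 1) (c := 2 * C.M 0) (by linarith) hw0
      linarith
  · simp only [a0_1, a1_2, a2_3, z0_2, z0_3, z1_3, w0, w1, w3] at r0 r1 r2 r3
    refine ⟨(fun j => v (Fin.rev j)), C.W 2, Or.inr (fun _ => rfl), Or.inr (Or.inr (Or.inr (⟨w3, rfl, w1, w0, (y3_2.trans a2_3), (y2_1.trans a1_2), (y1_0.trans a0_1), ?_, ?_, ?_, ?_⟩)))⟩
    · change C.M 2 ≤ 2 * C.M 3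
      have hh := le_of_mul_le_mul_left (a := C.W 2) (b := C.M 2) (c := 2 * C.M 3) (by linarith) hw2
      linarith
    · change C.M 3 + 2 * C.M 1 ≤ 2 * C.M 2
      have hh := le_of_mul_le_mul_left (a := C.W 2) (b := 2 * C.M 1 + C.M 3) (c := 2 * C.M 2) (by linarith) hw2
      linarith
    · change C.M 2 + C.M 0 ≤ 2 * C.M 1
      have hh := le_of_mul_le_mul_left (a := C.W 2) (b := 2 * C.M 0 + 2 * C.M 2) (c := 4 * C.M 1) (by linarith) hw2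
      linarith
    · change C.M 1 ≤ 2 * C.M 0
      have hh := le_of_mul_le_mul_left (a := C.W 2) (b := 2 * C.M 1) (c := 4 * C.M 0) (by linarith) hw2
      linarith

end Groth.Agent.S7352
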