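import Groth.Statements.S7353
import Groth.Agent.H37.Chain5

set_option autoImplicit false
open Finset
open Models Models.NumericalType

namespace Groth.Agent.S7353

/-- Classification of proper subgraphs which are chains of five vertices: let T be a numerical type on n
> 5 indices and i_1, …, i_5 distinct (-2)-indices with a_{i_j i_{j+1}} nonzero for j < 5. Then
a_{i_j i_l} = 0 for |j - l| ≥ 2 and, after possibly reversing the order of the indices, for some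
integer w one of the following holds: (A5) w = (w, w, w, w, w), consecutive a = (w, w, w, w), with
2m_1 ≥ m_2, 2m_2 ≥ m_1 + m_3, 2m_3 ≥ m_2 + m_4, 2m_4 ≥ m_3 + m_5, 2m_5 ≥ m_4; (C5) w = (w, w, w, w,
2w), consecutive a = (w, w, w, 2w), with 2m_1 ≥ m_2, 2m_2 ≥ m_1 + m_3, 2m_3 ≥ m_2 + m_4, 2m_4 ≥ m_3
+ 2m_5, 2m_5 ≥ m_4; (B5) w = (2w, 2w, 2w, 2w, w), consecutive a = (2w, 2w, 2w, 2w), with 2m_1 ≥ m_2,
2m_2 ≥ m_1 + m_3, 2m_3 ≥ m_2 + m_4, 2m_4 ≥ m_3 + m_5, m_5 ≥ m_4. (The inequalities are those given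
by the rows Σ_l a_{kl} m_l = 0 of the displayed matrices; the published text has 2m_3 ≥ m_2 + 2m_4
and 2m_4 ≥ m_3 + m_5 in case C5 and m_4 ≥ m_3 in case B5, of which the first does not follow — for
the numerical type with six indices, weights (1,1,1,1,2,1), chain intersection numbers (1,1,1,2)
plus a_{16} = 1, a_{66} = -1 and multiplicities (2,2,2,2,1,2) one has 2m_3 = 4 < m_2 + 2m_4 = 6 — so
the matrix inequalities are stated.) -/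
theorem result {n : ℕ} (T : Models.NumericalType n) (hn : 5 < n)
    (v : Fin 5 ↪ Fin n) (hv : ∀ j, T.IsMinusTwo (v j)) (h01 : T.a (v 0) (v 1) ≠ 0) (h12 : T.a (v 1) (v 2) ≠ 0) (h23 : T.a (v 2) (v 3) ≠ 0) (h34 : T.a (v 3) (v 4) ≠ 0) :
    (T.a (v 0) (v 2) = 0 ∧ T.a (v 0) (v 3) = 0 ∧ T.a (v 0) (v 4) = 0 ∧ T.a (v 1) (v 3) = 0 ∧ T.a (v 1) (v 4) = 0 ∧ T.a (v 2) (v 4) = 0) ∧
    ∃ (u : Fin 5 → Fin n) (w : ℤ), ((∀ j, u j = v j) ∨ (∀ j, u j = v (Fin.rev j))) ∧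
      ((T.w (u 0) = w ∧ T.w (u 1) = w ∧ T.w (u 2) = w ∧ T.w (u 3) = w ∧ T.w (u 4) = w ∧ T.a (u 0) (u 1) = w ∧ T.a (u 1) (u 2) = w ∧ T.a (u 2) (u 3) = w ∧ T.a (u 3) (u 4) = w ∧ T.m (u 1) ≤ 2 * T.m (u 0) ∧ T.m (u 0) + T.m (u 2) ≤ 2 * T.m (u 1) ∧ T.m (u 1) + T.m (u 3) ≤ 2 * T.m (u 2) ∧ T.m (u 2) + T.m (u 4) ≤ 2 * T.m (u 3) ∧ T.m (u 3) ≤ 2 * T.m (u 4)) ∨
      (T.w (u 0) = w ∧ T.w (u 1) = w ∧ T.w (u 2) = w ∧ T.w (u 3) = w ∧ T.w (u 4) = 2 * w ∧ T.a (u 0) (u 1) = w ∧ T.a (u 1) (u 2) = w ∧ T.a (u 2) (u 3) = w ∧ T.a (u 3) (u 4) = 2 * w ∧ T.m (u 1) ≤ 2 * T.m (u 0) ∧ T.m (u 0) + T.m (u 2) ≤ 2 * T.m (u 1) ∧ T.m (u 1) + T.m (u 3) ≤ 2 * T.m (u 2) ∧ T.m (u 2) + 2 * T.m (u 4) ≤ 2 * T.m (u 3) ∧ T.m (u 3) ≤ 2 * T.m (u 4)) ∨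
      (T.w (u 0) = 2 * w ∧ T.w (u 1) = 2 * w ∧ T.w (u 2) = 2 * w ∧ T.w (u 3) = 2 * w ∧ T.w (u 4) = w ∧ T.a (u 0) (u 1) = 2 * w ∧ T.a (u 1) (u 2) = 2 * w ∧ T.a (u 2) (u 3) = 2 * w ∧ T.a (u 3) (u 4) = 2 * w ∧ T.m (u 1) ≤ 2 * T.m (u 0) ∧ T.m (u 0) + T.m (u 2) ≤ 2 * T.m (u 1) ∧ T.m (u 1) + T.m (u 3) ≤ 2 * T.m (u 2) ∧ T.m (u 2) + T.m (u 4) ≤ 2 * T.m (u 3) ∧ T.m (u 3) ≤ T.m (u 4))) := by
  let C := Groth.Agent.H37.M2Config.ofType T v v.injective hn hv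
  obtain ⟨z0_2, z0_3, z0_4, z1_3, z1_4, z2_4, hshape⟩ := C.chain5 h01 h12 h23 h34
  have hw0 := C.W_pos 0
  have r0 := C.row_le 0
  have hw1 := C.W_pos 1
  have r1 := C.row_le 1
  have hw2 := C.W_pos 2
  have r2 := C.row_le 2
  have hw3 := C.W_pos 3
  have r3 := C.row_le 3
  have hw4 := C.W_pos 4
  have r4 := C.row_le 4
  have y1_0 := C.A_symm 1 0
  have y2_0 := C.A_symm 2 0
  have y3_0 := C.A_symm 3 0
  have y4_0 := C.A_symm 4 0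
  have y2_1 := C.A_symm 2 1
  have y3_1 := C.A_symm 3 1
  have y4_1 := C.A_symm 4 1
  have y3_2 := C.A_symm 3 2
  have y4_2 := C.A_symm 4 2
  have y4_3 := C.A_symm 4 3
  simp [Fin.sum_univ_succ, C.A_diag] at r0 r1 r2 r3 r4
  simp only [y1_0, y2_0, y3_0, y4_0, y2_1, y3_1, y4_1, y3_2, y4_2, y4_3] at r0 r1 r2 r3 r4
  refine ⟨⟨z0_2, z0_3, z0_4, z1_3, z1_4, z2_4⟩, ?_⟩
  rcases hshape with ⟨w1, w2, w3, w4, a0_1, a1_2, a2_3, a3_4⟩ | ⟨w1, w2, w3, w4, a0_1, a1_2, a2_3, a3_4⟩ | ⟨w0, w1, w2, w3, a0_1, a1_2, a2_3, a3_4⟩ | ⟨w0, w2, w3, w4, a0_1, a1_2, a2_3, a3_4⟩ | ⟨w1, w2, w3, w4, a0_1, a1_2, a2_3, a3_4⟩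
  · simp only [a0_1, a1_2, a2_3, a3_4, z0_2, z0_3, z0_4, z1_3, z1_4, z2_4, w1, w2, w3, w4] at r0 r1 r2 r3 r4
    refine ⟨v, C.W 0, Or.inl (fun _ => rfl), Or.inl ⟨rfl, w1, w2, w3, w4, a0_1, a1_2, a2_3, a3_4, ?_, ?_, ?_, ?_, ?_⟩⟩
    · change C.M 1 ≤ 2 * C.M 0
      have hh := le_of_mul_le_mul_left (a := C.W 0) (b := C.M 1) (c := 2 * C.M 0) (by linarith) hw0
      linarith
    · change C.M 0 + C.M 2 ≤ 2 * C.M 1
      have hh := le_of_mul_le_mul_left (a := C.W 0) (b := C.M 0 + C.M 2) (c := 2 * C.M 1) (by linarith) hw0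
      linarith
    · change C.M 1 + C.M 3 ≤ 2 * C.M 2
      have hh := le_of_mul_le_mul_left (a := C.W 0) (b := C.M 1 + C.M 3) (c := 2 * C.M 2) (by linarith) hw0
      linarith
    · change C.M 2 + C.M 4 ≤ 2 * C.M 3
      have hh := le_of_mul_le_mul_left (a := C.W 0) (b := C.M 2 + C.M 4) (c := 2 * C.M 3) (by linarith) hw0
      linarith
    · change C.M 3 ≤ 2 * C.M 4
      have hh := le_of_mul_le_mul_left (a := C.W 0) (b := C.M 3) (c := 2 * C.M 4) (by linarith) hw0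
      linarith
  · simp only [a0_1, a1_2, a2_3, a3_4, z0_2, z0_3, z0_4, z1_3, z1_4, z2_4, w1, w2, w3, w4] at r0 r1 r2 r3 r4
    refine ⟨v, C.W 0, Or.inl (fun _ => rfl), Or.inr (Or.inl ⟨rfl, w1, w2, w3, w4, a0_1, a1_2, a2_3, a3_4, ?_, ?_, ?_, ?_, ?_⟩)⟩
    · change C.M 1 ≤ 2 * C.M 0
      have hh := le_of_mul_le_mul_left (a := C.W 0) (b := C.M 1) (c := 2 * C.M 0) (by linarith) hw0
      linarith
    · change C.M 0 + C.M 2 ≤ 2 * C.M 1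
      have hh := le_of_mul_le_mul_left (a := C.W 0) (b := C.M 0 + C.M 2) (c := 2 * C.M 1) (by linarith) hw0
      linarith
    · change C.M 1 + C.M 3 ≤ 2 * C.M 2
      have hh := le_of_mul_le_mul_left (a := C.W 0) (b := C.M 1 + C.M 3) (c := 2 * C.M 2) (by linarith) hw0
      linarith
    · change C.M 2 + 2 * C.M 4 ≤ 2 * C.M 3
      have hh := le_of_mul_le_mul_left (a := C.W 0) (b := C.M 2 + 2 * C.M 4) (c := 2 * C.M 3) (by linarith) hw0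
      linarith
    · change C.M 3 ≤ 2 * C.M 4
      have hh := le_of_mul_le_mul_left (a := C.W 0) (b := 2 * C.M 3) (c := 4 * C.M 4) (by linarith) hw0
      linarith
  · simp only [a0_1, a1_2, a2_3, a3_4, z0_2, z0_3, z0_4, z1_3, z1_4, z2_4, w0, w1, w2, w3] at r0 r1 r2 r3 r4
    refine ⟨v, C.W 4, Or.inl (fun _ => rfl), Or.inr (Or.inr (⟨w0, w1, w2, w3, rfl, a0_1, a1_2, a2_3, a3_4, ?_, ?_, ?_, ?_, ?_⟩))⟩
    · change C.M 1 ≤ 2 * C.M 0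
      have hh := le_of_mul_le_mul_left (a := C.W 4) (b := 2 * C.M 1) (c := 4 * C.M 0) (by linarith) hw4
      linarith
    · change C.M 0 + C.M 2 ≤ 2 * C.M 1
      have hh := le_of_mul_le_mul_left (a := C.W 4) (b := 2 * C.M 0 + 2 * C.M 2) (c := 4 * C.M 1) (by linarith) hw4
      linarith
    · change C.M 1 + C.M 3 ≤ 2 * C.M 2
      have hh := le_of_mul_le_mul_left (a := C.W 4) (b := 2 * C.M 1 + 2 * C.M 3) (c := 4 * C.M 2) (by linarith) hw4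
      linarith
    · change C.M 2 + C.M 4 ≤ 2 * C.M 3
      have hh := le_of_mul_le_mul_left (a := C.W 4) (b := 2 * C.M 2 + 2 * C.M 4) (c := 4 * C.M 3) (by linarith) hw4
      linarith
    · change C.M 3 ≤ C.M 4
      have hh := le_of_mul_le_mul_left (a := C.W 4) (b := 2 * C.M 3) (c := 2 * C.M 4) (by linarith) hw4
      linarith
  · simp only [a0_1, a1_2, a2_3, a3_4, z0_2, z0_3, z0_4, z1_3, z1_4, z2_4, w0, w2, w3, w4] at r0 r1 r2 r3 r4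
    refine ⟨(fun j => v (Fin.rev j)), C.W 1, Or.inr (fun _ => rfl), Or.inr (Or.inl ⟨w4, w3, w2, rfl, w0, (y4_3.trans a3_4), (y3_2.trans a2_3), (y2_1.trans a1_2), (y1_0.trans a0_1), ?_, ?_, ?_, ?_, ?_⟩)⟩
    · change C.M 3 ≤ 2 * C.M 4
      have hh := le_of_mul_le_mul_left (a := C.W 1) (b := C.M 3) (c := 2 * C.M 4) (by linarith) hw1
      linarith
    · change C.M 4 + C.M 2 ≤ 2 * C.M 3
      have hh := le_of_mul_le_mul_left (a := C.W 1) (b := C.M 2 + C.M 4) (c := 2 * C.M 3) (by linarith) hw1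
      linarith
    · change C.M 3 + C.M 1 ≤ 2 * C.M 2
      have hh := le_of_mul_le_mul_left (a := C.W 1) (b := C.M 1 + C.M 3) (c := 2 * C.M 2) (by linarith) hw1
      linarith
    · change C.M 2 + 2 * C.M 0 ≤ 2 * C.M 1
      have hh := le_of_mul_le_mul_left (a := C.W 1) (b := 2 * C.M 0 + C.M 2) (c := 2 * C.M 1) (by linarith) hw1
      linarith
    · change C.M 1 ≤ 2 * C.M 0
      have hh := le_of_mul_le_mul_left (a := C.W 1) (b := 2 * C.M 1) (c := 4 * C.M 0) (by linarith) hw1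
      linarith
  · simp only [a0_1, a1_2, a2_3, a3_4, z0_2, z0_3, z0_4, z1_3, z1_4, z2_4, w1, w2, w3, w4] at r0 r1 r2 r3 r4
    refine ⟨(fun j => v (Fin.rev j)), C.W 0, Or.inr (fun _ => rfl), Or.inr (Or.inr (⟨w4, w3, w2, w1, rfl, (y4_3.trans a3_4), (y3_2.trans a2_3), (y2_1.trans a1_2), (y1_0.trans a0_1), ?_, ?_, ?_, ?_, ?_⟩))⟩
    · change C.M 3 ≤ 2 * C.M 4
      have hh := le_of_mul_le_mul_left (a := C.W 0) (b := 2 * C.M 3) (c := 4 * C.M 4) (by linarith) hw0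
      linarith
    · change C.M 4 + C.M 2 ≤ 2 * C.M 3
      have hh := le_of_mul_le_mul_left (a := C.W 0) (b := 2 * C.M 2 + 2 * C.M 4) (c := 4 * C.M 3) (by linarith) hw0
      linarith
    · change C.M 3 + C.M 1 ≤ 2 * C.M 2
      have hh := le_of_mul_le_mul_left (a := C.W 0) (b := 2 * C.M 1 + 2 * C.M 3) (c := 4 * C.M 2) (by linarith) hw0
      linarith
    · change C.M 2 + C.M 0 ≤ 2 * C.M 1
      have hh := le_of_mul_le_mul_left (a := C.W 0) (b := 2 * C.M 0 + 2 * C.M 2) (c := 4 * C.M 1) (by linarith) hw0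
      linarith
    · change C.M 1 ≤ C.M 0
      have hh := le_of_mul_le_mul_left (a := C.W 0) (b := 2 * C.M 1) (c := 2 * C.M 0) (by linarith) hw0
      linarith

end Groth.Agent.S7353
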