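import Groth.Statements.S7354
import Groth.Agent.H37.ChainGen3

set_option autoImplicit false
open Finset
open Models Models.NumericalType

namespace Groth.Agent.S7354

/-- Let T be a numerical type on n indices, t > 5 with n > t, and i_1, …, i_t distinct (-2)-indices with
a_{i_j i_{j+1}} nonzero for j = 1, …, t - 1. Then, after possibly reversing the order of the
indices, for some integer w either (A) w_{i_1} = … = w_{i_t} = w and a_{i_j i_{j+1}} = w for all j;
or (C) w_{i_1} = … = w_{i_{t-1}} = w, w_{i_t} = 2w, a_{i_j i_{j+1}} = w for j < t - 1 and a_{i_{t-1}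
i_t} = 2w; or (B) w_{i_1} = … = w_{i_{t-1}} = 2w, w_{i_t} = w and a_{i_j i_{j+1}} = 2w for all j;
and in every case a_{i_j i_k} = 0 whenever k > j + 1. -/
theorem result {n : ℕ} (T : Models.NumericalType n) (t : ℕ) (ht : 5 < t) (hn : t < n)
    (v : Fin t ↪ Fin n) (hv : ∀ j, T.IsMinusTwo (v j))
    (hchain : ∀ j j' : Fin t, j'.val = j.val + 1 → T.a (v j) (v j') ≠ 0) :
    ∃ (u : Fin t → Fin n) (w : ℤ), ((∀ j, u j = v j) ∨ (∀ j, u j = v (Fin.rev j))) ∧
      (∀ j k : Fin t, j.val + 1 < k.val → T.a (u j) (u k) = 0) ∧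
      ((∀ j : Fin t, T.w (u j) = w) ∧ (∀ j j' : Fin t, j'.val = j.val + 1 → T.a (u j) (u j') = w) ∨
        ((∀ j : Fin t, j.val + 1 < t → T.w (u j) = w) ∧ (∀ j : Fin t, j.val + 1 = t → T.w (u j) = 2 * w) ∧
          (∀ j j' : Fin t, j'.val = j.val + 1 → j'.val + 1 < t → T.a (u j) (u j') = w) ∧
          (∀ j j' : Fin t, j'.val = j.val + 1 → j'.val + 1 = t → T.a (u j) (u j') = 2 * w)) ∨
        ((∀ j : Fin t, j.val + 1 < t → T.w (u j) = 2 * w) ∧ (∀ j : Fin t, j.val + 1 = t → T.w (u j) = w) ∧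
          (∀ j j' : Fin t, j'.val = j.val + 1 → T.a (u j) (u j') = 2 * w))) := by
  obtain ⟨s, rfl⟩ : ∃ s, t = s + 1 := ⟨t - 1, by omega⟩
  have hs : 5 ≤ s := by omega
  let C := Groth.Agent.H37.M2Config.ofType T v v.injective hn hv
  rcases Groth.Agent.H37.M2Config.chain_gen s hs C hchain with hfirst | hlast
  · obtain ⟨w, hz, h⟩ := Groth.Agent.H37.M2Config.chain_gen_fwd s hs C hchain hfirst
    exact ⟨fun j => v j, w, Or.inl (fun _ => rfl), hz, h⟩
  · have hinj : Function.Injective (fun j : Fin (s + 1) => v (Fin.rev j)) :=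
      fun a b hab => Fin.rev_injective (v.injective hab)
    let C' := Groth.Agent.H37.M2Config.ofType T (fun j : Fin (s + 1) => v (Fin.rev j)) hinj hn
      (fun j => hv _)
    have hchain' : ∀ j j' : Fin (s + 1), j'.val = j.val + 1 → C'.A j j' ≠ 0 := by
      intro j j' hjj'
      have h := hchain (Fin.rev j') (Fin.rev j) (by
        rw [Fin.val_rev, Fin.val_rev]
        have := j'.isLt
        omega)
      have hsym := C.A_symm (Fin.rev j') (Fin.rev j)
      intro h0
      apply h
      have e1 : C.A (Fin.rev j') (Fin.rev j) = T.a (v (Fin.rev j')) (v (Fin.rev j)) := rfl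
      have e2 : C.A (Fin.rev j) (Fin.rev j') = T.a (v (Fin.rev j)) (v (Fin.rev j')) := rfl
      have e3 : C'.A j j' = T.a (v (Fin.rev j)) (v (Fin.rev j')) := rfl
      rw [← e1, hsym, e2, ← e3]
      exact h0
    have r0 : Fin.rev (Groth.Agent.H37.M2Config.idx s 0) = Groth.Agent.H37.M2Config.idx s s := by
      apply Fin.ext
      rw [Fin.val_rev, Groth.Agent.H37.M2Config.idx_val (by omega),
        Groth.Agent.H37.M2Config.idx_val (by omega)]
      omega
    have r1 : Fin.rev (Groth.Agent.H37.M2Config.idx s 1) =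
        Groth.Agent.H37.M2Config.idx s (s - 1) := by
      apply Fin.ext
      rw [Fin.val_rev, Groth.Agent.H37.M2Config.idx_val (by omega),
        Groth.Agent.H37.M2Config.idx_val (by omega)]
      omega
    have hfirst' : C'.A (Groth.Agent.H37.M2Config.idx s 0) (Groth.Agent.H37.M2Config.idx s 1) =
          C'.W (Groth.Agent.H37.M2Config.idx s 1) ∧
        C'.W (Groth.Agent.H37.M2Config.idx s 0) = C'.W (Groth.Agent.H37.M2Config.idx s 1) := by
      have e1 : C'.A (Groth.Agent.H37.M2Config.idx s 0) (Groth.Agent.H37.M2Config.idx s 1) =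
          C.A (Fin.rev (Groth.Agent.H37.M2Config.idx s 0))
            (Fin.rev (Groth.Agent.H37.M2Config.idx s 1)) := rfl
      have e2 : C'.W (Groth.Agent.H37.M2Config.idx s 1) =
          C.W (Fin.rev (Groth.Agent.H37.M2Config.idx s 1)) := rfl
      have e3 : C'.W (Groth.Agent.H37.M2Config.idx s 0) =
          C.W (Fin.rev (Groth.Agent.H37.M2Config.idx s 0)) := rfl
      rw [e1, e2, e3, r0, r1]
      exact hlast
    obtain ⟨w, hz, h⟩ := Groth.Agent.H37.M2Config.chain_gen_fwd s hs C' hchain' hfirst'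
    exact ⟨fun j => v (Fin.rev j), w, Or.inr (fun _ => rfl), hz, h⟩

end Groth.Agent.S7354
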