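import Groth.Statements.S7362
import Groth.Agent.H37.Parity

set_option autoImplicit false
open Finset
open Models Models.NumericalType

namespace Groth.Agent.S7362

/-- Genus one classification: case n = 2: let T be a minimal numerical type of genus 1 on two indices.
Then for some ordering i, j of the indices and some integers m, w, either m_i = m_j = m, a_ii = a_jj
= -2w, a_ij = 2w, w_i = w_j = w, g_i = g_j = 0; or m_i = 2m, m_j = m, a_ii = -2w, a_ij = 4w, a_jj =
-8w, w_i = w, w_j = 4w, g_i = g_j = 0. Only the classification direction is stated. -/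
theorem result (T : Models.NumericalType 2) (hmin : T.IsMinimal) (hg : T.genus = 1) :
    ∃ (i j : Fin 2) (m w : ℤ), i ≠ j ∧ T.g i = 0 ∧ T.g j = 0 ∧
      ((T.m i = m ∧ T.m j = m ∧ T.a i i = -2 * w ∧ T.a i j = 2 * w ∧ T.a j j = -2 * w ∧ T.w i = w ∧ T.w j = w) ∨
        (T.m i = 2 * m ∧ T.m j = m ∧ T.a i i = -2 * w ∧ T.a i j = 4 * w ∧ T.a j j = -8 * w ∧ T.w i = w ∧ T.w j = 4 * w)) := by
  have h2 := Groth.Agent.H37.nt_genus_one_minusTwo T (by norm_num) hmin hg
  obtain ⟨g0, d0⟩ := h2 0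
  obtain ⟨g1, d1⟩ := h2 1
  have r0 := Groth.Agent.H37.nt_row_sum T 0
  have r1 := Groth.Agent.H37.nt_row_sum T 1
  rw [Fin.sum_univ_two] at r0 r1
  have hs := Groth.Agent.H37.nt_symm T 1 0
  rw [hs] at r1
  rw [d0] at r0
  rw [d1] at r1
  have hm0 := T.m_pos 0
  have hm1 := T.m_pos 1
  have hw0 := T.w_pos 0
  have hw1 := T.w_pos 1
  obtain ⟨p, hp⟩ := T.w_dvd 0 1
  obtain ⟨q, hq⟩ : T.w 1 ∣ T.a 0 1 := by rw [← hs]; exact T.w_dvd 1 0
  -- p * m1 = 2 * m0 and q * m0 = 2 * m1
  have e0 : p * T.m 1 = 2 * T.m 0 := by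
    have : T.w 0 * (p * T.m 1 - 2 * T.m 0) = 0 := by rw [hp] at r0; linarith
    rcases mul_eq_zero.mp this with h | h
    · omega
    · linarith
  have e1 : q * T.m 0 = 2 * T.m 1 := by
    have : T.w 1 * (q * T.m 0 - 2 * T.m 1) = 0 := by rw [hq] at r1; linarith
    rcases mul_eq_zero.mp this with h | h
    · omega
    · linarith
  have hp1 : 1 ≤ p := by
    by_contra hcon
    have : p ≤ 0 := by omega
    have := mul_nonpos_of_nonpos_of_nonneg this (le_of_lt hm1)
    omega
  have hq1 : 1 ≤ q := by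
    by_contra hcon
    have : q ≤ 0 := by omega
    have := mul_nonpos_of_nonpos_of_nonneg this (le_of_lt hm0)
    omega
  have hpq : p * q = 4 := by
    have : (p * q - 4) * (T.m 0 * T.m 1) = 0 := by
      have : p * T.m 1 * (q * T.m 0) = 2 * T.m 0 * (2 * T.m 1) := by rw [e0, e1]
      linarith
    rcases mul_eq_zero.mp this with h | h
    · linarith
    · have := mul_pos hm0 hm1
      omega
  have hp4 : p ≤ 4 := by nlinarith
  have hq4 : q ≤ 4 := by nlinarith
  have hww : T.w 0 * p = T.w 1 * q := by rw [← hp, ← hq]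
  interval_cases p <;> interval_cases q <;> try omega
  · -- p = 1, q = 4
    refine ⟨1, 0, T.m 0, T.w 1, by decide, g1, g0, Or.inr ⟨?_, rfl, ?_, ?_, ?_, rfl, ?_⟩⟩
    · linarith
    · rw [d1]
    · rw [hs, hq]; ring
    · rw [d0]; linarith
    · linarith
  · -- p = 2, q = 2
    refine ⟨0, 1, T.m 0, T.w 0, by decide, g0, g1, Or.inl ⟨rfl, ?_, ?_, ?_, ?_, rfl, ?_⟩⟩
    · linarith
    · rw [d0]
    · rw [hp]; ring
    · rw [d1]; linarith
    · linarith
  · -- p = 4, q = 1
    refine ⟨0, 1, T.m 1, T.w 0, by decide, g0, g1, Or.inr ⟨?_, rfl, ?_, ?_, ?_, rfl, ?_⟩⟩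
    · linarith
    · rw [d0]
    · rw [hp]; ring
    · rw [d1]; linarith
    · linarith

end Groth.Agent.S7362
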