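import Groth.Statements.S7363
import Groth.Agent.H37.Genus1N3
import Groth.Agent.H37.NumSub

set_option autoImplicit false
open Finset
open Models Models.NumericalType

namespace Groth.Agent.S7363

/-- Genus one classification: case n = 3: let T be a minimal numerical type of genus 1 on three indices.
Then all g = 0 and, for some ordering i, j, k of the indices and some integers m, w, the data (m; a;
w) is one of: (m,m,m; a_ii = a_jj = a_kk = -2w, a_ij = a_ik = a_jk = w; w,w,w); (m,2m,m; a_ii = -2w,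
a_ij = w, a_ik = 0, a_jj = -2w, a_jk = 3w, a_kk = -6w; w,w,3w); (m,2m,3m; a_ii = -6w, a_ij = 3w,
a_ik = 0, a_jj = -6w, a_jk = 3w, a_kk = -2w; 3w,3w,w); (2m,2m,m; a_ii = -2w, a_ij = 2w, a_ik = 0,
a_jj = -4w, a_jk = 4w, a_kk = -8w; w,2w,4w); (m,m,m; a_ii = -2w, a_ij = 2w, a_ik = 0, a_jj = -4w,
a_jk = 2w, a_kk = -2w; w,2w,w); (m,2m,m; a_ii = -4w, a_ij = 2w, a_ik = 0, a_jj = -2w, a_jk = 2w,
a_kk = -4w; 2w,w,2w). Only the classification direction is stated. -/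
theorem result (T : Models.NumericalType 3) (hmin : T.IsMinimal) (hg : T.genus = 1) :
    ∃ (i j k : Fin 3) (m w : ℤ), i ≠ j ∧ j ≠ k ∧ i ≠ k ∧ T.g i = 0 ∧ T.g j = 0 ∧ T.g k = 0 ∧
      ((T.m i = m ∧ T.m j = m ∧ T.m k = m ∧ T.a i i = -2 * w ∧ T.a j j = -2 * w ∧ T.a k k = -2 * w ∧
          T.a i j = w ∧ T.a i k = w ∧ T.a j k = w ∧ T.w i = w ∧ T.w j = w ∧ T.w k = w) ∨
        (T.m i = m ∧ T.m j = 2 * m ∧ T.m k = m ∧ T.a i i = -2 * w ∧ T.a i j = w ∧ T.a i k = 0 ∧ T.a j j = -2 * w ∧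
          T.a j k = 3 * w ∧ T.a k k = -6 * w ∧ T.w i = w ∧ T.w j = w ∧ T.w k = 3 * w) ∨
        (T.m i = m ∧ T.m j = 2 * m ∧ T.m k = 3 * m ∧ T.a i i = -6 * w ∧ T.a i j = 3 * w ∧ T.a i k = 0 ∧ T.a j j = -6 * w ∧
          T.a j k = 3 * w ∧ T.a k k = -2 * w ∧ T.w i = 3 * w ∧ T.w j = 3 * w ∧ T.w k = w) ∨
        (T.m i = 2 * m ∧ T.m j = 2 * m ∧ T.m k = m ∧ T.a i i = -2 * w ∧ T.a i j = 2 * w ∧ T.a i k = 0 ∧ T.a j j = -4 * w ∧
          T.a j k = 4 * w ∧ T.a k k = -8 * w ∧ T.w i = w ∧ T.w j = 2 * w ∧ T.w k = 4 * w) ∨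
        (T.m i = m ∧ T.m j = m ∧ T.m k = m ∧ T.a i i = -2 * w ∧ T.a i j = 2 * w ∧ T.a i k = 0 ∧ T.a j j = -4 * w ∧
          T.a j k = 2 * w ∧ T.a k k = -2 * w ∧ T.w i = w ∧ T.w j = 2 * w ∧ T.w k = w) ∨
        (T.m i = m ∧ T.m j = 2 * m ∧ T.m k = m ∧ T.a i i = -4 * w ∧ T.a i j = 2 * w ∧ T.a i k = 0 ∧ T.a j j = -2 * w ∧
          T.a j k = 2 * w ∧ T.a k k = -4 * w ∧ T.w i = 2 * w ∧ T.w j = w ∧ T.w k = 2 * w)) := by
  have h2 := Groth.Agent.H37.nt_genus_one_minusTwo T (by norm_num) hmin hg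
  have g0 := (h2 0).1
  have g1 := (h2 1).1
  have g2 := (h2 2).1
  by_cases z02 : T.a 0 2 = 0
  · obtain ⟨m, w, h | h⟩ := Groth.Agent.H37.chain_lemma T h2 (i := 0) (j := 1) (k := 2)
      (by decide) (by decide) (by decide) z02
    · exact ⟨0, 1, 2, m, w, by decide, by decide, by decide, g0, g1, g2, Or.inr h⟩
    · exact ⟨2, 1, 0, m, w, by decide, by decide, by decide, g2, g1, g0, Or.inr h⟩
  by_cases z01 : T.a 0 1 = 0
  · obtain ⟨m, w, h | h⟩ := Groth.Agent.H37.chain_lemma T h2 (i := 0) (j := 2) (k := 1)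
      (by decide) (by decide) (by decide) z01
    · exact ⟨0, 2, 1, m, w, by decide, by decide, by decide, g0, g2, g1, Or.inr h⟩
    · exact ⟨1, 2, 0, m, w, by decide, by decide, by decide, g1, g2, g0, Or.inr h⟩
  by_cases z12 : T.a 1 2 = 0
  · obtain ⟨m, w, h | h⟩ := Groth.Agent.H37.chain_lemma T h2 (i := 1) (j := 0) (k := 2)
      (by decide) (by decide) (by decide) z12
    · exact ⟨1, 0, 2, m, w, by decide, by decide, by decide, g1, g0, g2, Or.inr h⟩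
    · exact ⟨2, 0, 1, m, w, by decide, by decide, by decide, g2, g0, g1, Or.inr h⟩
  -- the triangle
  have d0 := (h2 0).2
  have d1 := (h2 1).2
  have d2 := (h2 2).2
  have r0 := Groth.Agent.H37.nt_row_sum T 0
  have r1 := Groth.Agent.H37.nt_row_sum T 1
  have r2 := Groth.Agent.H37.nt_row_sum T 2
  rw [Fin.sum_univ_three] at r0 r1 r2
  have s10 := Groth.Agent.H37.nt_symm T 1 0
  have s20 := Groth.Agent.H37.nt_symm T 2 0
  have s21 := Groth.Agent.H37.nt_symm T 2 1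
  rw [d0] at r0
  rw [s10, d1] at r1
  rw [s20, s21, d2] at r2
  have hm0 := T.m_pos 0
  have hm1 := T.m_pos 1
  have hm2 := T.m_pos 2
  have hw0 := T.w_pos 0
  have hw1 := T.w_pos 1
  have hw2 := T.w_pos 2
  have a1 := Groth.Agent.H37.nt_a_ge_left T (i := 0) (j := 1) (by decide) z01
  have a2 := Groth.Agent.H37.nt_a_ge_right T (i := 0) (j := 1) (by decide) z01
  have a3 := Groth.Agent.H37.nt_a_ge_left T (i := 0) (j := 2) (by decide) z02
  have a4 := Groth.Agent.H37.nt_a_ge_right T (i := 0) (j := 2) (by decide) z02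
  have a5 := Groth.Agent.H37.nt_a_ge_left T (i := 1) (j := 2) (by decide) z12
  have a6 := Groth.Agent.H37.nt_a_ge_right T (i := 1) (j := 2) (by decide) z12
  have t0 : 0 ≤ T.m 0 * (-2 * T.w 0 + T.a 0 1 + T.a 0 2) :=
    mul_nonneg (le_of_lt hm0) (by linarith)
  have t1 : 0 ≤ T.m 1 * (T.a 0 1 + -2 * T.w 1 + T.a 1 2) :=
    mul_nonneg (le_of_lt hm1) (by linarith)
  have t2 : 0 ≤ T.m 2 * (T.a 0 2 + T.a 1 2 + -2 * T.w 2) :=
    mul_nonneg (le_of_lt hm2) (by linarith)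
  have u0 : -2 * T.w 0 + T.a 0 1 + T.a 0 2 = 0 :=
    Groth.Agent.H37.cancel_pos hm0 (by nlinarith)
  have u1 : T.a 0 1 + -2 * T.w 1 + T.a 1 2 = 0 :=
    Groth.Agent.H37.cancel_pos hm1 (by nlinarith)
  have u2 : T.a 0 2 + T.a 1 2 + -2 * T.w 2 = 0 :=
    Groth.Agent.H37.cancel_pos hm2 (by nlinarith)
  have x1 : T.a 0 1 = T.w 0 := by linarith
  have x2 : T.a 0 2 = T.w 0 := by linarith
  have x3 : T.a 1 2 = T.w 0 := by linarith
  have w1 : T.w 1 = T.w 0 := by linarith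
  have w2 : T.w 2 = T.w 0 := by linarith
  rw [x1, x2] at r0
  rw [x1, x3, w1] at r1
  rw [x2, x3, w2] at r2
  have q0 : -2 * T.m 0 + T.m 1 + T.m 2 = 0 :=
    Groth.Agent.H37.cancel_pos hw0 (by linarith)
  have q1 : T.m 0 + -2 * T.m 1 + T.m 2 = 0 :=
    Groth.Agent.H37.cancel_pos hw0 (by linarith)
  refine ⟨0, 1, 2, T.m 0, T.w 0, by decide, by decide, by decide, g0, g1, g2, Or.inl ?_⟩
  refine ⟨rfl, ?_, ?_, ?_, ?_, ?_, ?_, ?_, ?_, rfl, ?_, ?_⟩ <;> linarith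

end Groth.Agent.S7363
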