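import Groth.Statements.S7371
import Groth.Agent.H37.NumGenD

set_option autoImplicit false
open Finset
open Models Models.NumericalType
open Groth.Agent.H37

namespace Groth.Agent.S7371

/-- Genus one classification: cases n ≥ 10: let T be a minimal numerical type of genus 1 on n ≥ 10
indices. Then all g_i = 0, a_{ii} = -2 w_i, and for some permutation σ of the indices and integers
m, w the type is one of: the n-cycle (all m_i = m, all w_i = w, a_{i,i+1} = a_{1n} = w); the chain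
with m = (2m,…,2m,m), w = (w,2w,…,2w,4w), a_{i,i+1} = 2w except a_{n-1,n} = 4w; the chain with all
m_i = m, w = (w,2w,…,2w,w), a_{i,i+1} = 2w; the chain with m = (m,2m,…,2m,m), w = (2w,w,…,w,2w),
a_{12} = a_{n-1,n} = 2w and a_{i,i+1} = w otherwise; the D-type graph (chain 1 … n-1 with n attached
to n-2) with m = (m,2m,…,2m,m,m), w = (2w,w,…,w), a_{12} = 2w, other edges w; the same D-type graph
with m = (2m,…,2m,m,m), w = (w,2w,…,2w), all edges 2w; the double fork (1, 2 attached to 3; chain 3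
… n-2; n-1, n attached to n-2) with m = (m,m,2m,…,2m,m,m), all w_i = w, all edges w; all
intersection numbers not listed are zero. (Indices are written 0, …, n-1 in the formal statement.
For n ≥ 10 the exceptional completed E6, E7, E8 types do not occur, so only the infinite families
remain. In the family with weights (w,2w,…,2w,w) the consecutive intersection numbers are 2w, as
divisibility by the weights forces; the published list prints w there, and omits m_{n-2} = 2m in the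
two D-type families.) Only the classification direction is stated. -/
theorem result {n : ℕ} (T : Models.NumericalType n) (hn : 10 ≤ n) (hmin : T.IsMinimal) (hg : T.genus = 1) :
    (∀ i, T.g i = 0) ∧ (∀ i, T.a i i = -2 * T.w i) ∧ ∃ (σ : Equiv.Perm (Fin n)) (m w : ℤ),
      (((∀ i : Fin n, T.m (σ i) = m) ∧
        (∀ i : Fin n, T.w (σ i) = w) ∧
        (∀ i j : Fin n, i.val < j.val → j.val = i.val + 1 → T.a (σ i) (σ j) = w) ∧
        (∀ i j : Fin n, i.val < j.val → i.val = 0 ∧ j.val + 1 = n → T.a (σ i) (σ j) = w) ∧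
        (∀ i j : Fin n, i.val < j.val → ¬ (j.val = i.val + 1) → ¬ (i.val = 0 ∧ j.val + 1 = n) → T.a (σ i) (σ j) = 0)) ∨
      ((∀ i : Fin n, i.val + 1 < n → T.m (σ i) = 2 * m) ∧
        (∀ i : Fin n, i.val + 1 = n → T.m (σ i) = m) ∧
        (∀ i : Fin n, i.val = 0 → T.w (σ i) = w) ∧
        (∀ i : Fin n, 0 < i.val ∧ i.val + 1 < n → T.w (σ i) = 2 * w) ∧
        (∀ i : Fin n, i.val + 1 = n → T.w (σ i) = 4 * w) ∧
        (∀ i j : Fin n, i.val < j.val → j.val = i.val + 1 ∧ j.val + 1 < n → T.a (σ i) (σ j) = 2 * w) ∧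
        (∀ i j : Fin n, i.val < j.val → j.val = i.val + 1 ∧ j.val + 1 = n → T.a (σ i) (σ j) = 4 * w) ∧
        (∀ i j : Fin n, i.val < j.val → ¬ (j.val = i.val + 1 ∧ j.val + 1 < n) → ¬ (j.val = i.val + 1 ∧ j.val + 1 = n) → T.a (σ i) (σ j) = 0)) ∨
      ((∀ i : Fin n, T.m (σ i) = m) ∧
        (∀ i : Fin n, i.val = 0 → T.w (σ i) = w) ∧
        (∀ i : Fin n, 0 < i.val ∧ i.val + 1 < n → T.w (σ i) = 2 * w) ∧
        (∀ i : Fin n, i.val + 1 = n → T.w (σ i) = w) ∧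
        (∀ i j : Fin n, i.val < j.val → j.val = i.val + 1 → T.a (σ i) (σ j) = 2 * w) ∧
        (∀ i j : Fin n, i.val < j.val → ¬ (j.val = i.val + 1) → T.a (σ i) (σ j) = 0)) ∨
      ((∀ i : Fin n, i.val = 0 → T.m (σ i) = m) ∧
        (∀ i : Fin n, 0 < i.val ∧ i.val + 1 < n → T.m (σ i) = 2 * m) ∧
        (∀ i : Fin n, i.val + 1 = n → T.m (σ i) = m) ∧
        (∀ i : Fin n, i.val = 0 → T.w (σ i) = 2 * w) ∧
        (∀ i : Fin n, 0 < i.val ∧ i.val + 1 < n → T.w (σ i) = w) ∧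
        (∀ i : Fin n, i.val + 1 = n → T.w (σ i) = 2 * w) ∧
        (∀ i j : Fin n, i.val < j.val → i.val = 0 ∧ j.val = 1 → T.a (σ i) (σ j) = 2 * w) ∧
        (∀ i j : Fin n, i.val < j.val → j.val = i.val + 1 ∧ 1 ≤ i.val ∧ j.val + 2 ≤ n → T.a (σ i) (σ j) = w) ∧
        (∀ i j : Fin n, i.val < j.val → j.val = i.val + 1 ∧ j.val + 1 = n → T.a (σ i) (σ j) = 2 * w) ∧
        (∀ i j : Fin n, i.val < j.val → ¬ (i.val = 0 ∧ j.val = 1) → ¬ (j.val = i.val + 1 ∧ 1 ≤ i.val ∧ j.val + 2 ≤ n) → ¬ (j.val = i.val + 1 ∧ j.val + 1 = n) → T.a (σ i) (σ j) = 0)) ∨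
      ((∀ i : Fin n, i.val = 0 → T.m (σ i) = m) ∧
        (∀ i : Fin n, 1 ≤ i.val ∧ i.val + 2 < n → T.m (σ i) = 2 * m) ∧
        (∀ i : Fin n, n ≤ i.val + 2 → T.m (σ i) = m) ∧
        (∀ i : Fin n, i.val = 0 → T.w (σ i) = 2 * w) ∧
        (∀ i : Fin n, 0 < i.val → T.w (σ i) = w) ∧
        (∀ i j : Fin n, i.val < j.val → i.val = 0 ∧ j.val = 1 → T.a (σ i) (σ j) = 2 * w) ∧
        (∀ i j : Fin n, i.val < j.val → j.val = i.val + 1 ∧ 1 ≤ i.val ∧ j.val + 2 ≤ n → T.a (σ i) (σ j) = w) ∧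
        (∀ i j : Fin n, i.val < j.val → i.val + 3 = n ∧ j.val + 1 = n → T.a (σ i) (σ j) = w) ∧
        (∀ i j : Fin n, i.val < j.val → ¬ (i.val = 0 ∧ j.val = 1) → ¬ (j.val = i.val + 1 ∧ 1 ≤ i.val ∧ j.val + 2 ≤ n) → ¬ (i.val + 3 = n ∧ j.val + 1 = n) → T.a (σ i) (σ j) = 0)) ∨
      ((∀ i : Fin n, i.val + 2 < n → T.m (σ i) = 2 * m) ∧
        (∀ i : Fin n, n ≤ i.val + 2 → T.m (σ i) = m) ∧
        (∀ i : Fin n, i.val = 0 → T.w (σ i) = w) ∧
        (∀ i : Fin n, 0 < i.val → T.w (σ i) = 2 * w) ∧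
        (∀ i j : Fin n, i.val < j.val → j.val = i.val + 1 ∧ j.val + 2 ≤ n → T.a (σ i) (σ j) = 2 * w) ∧
        (∀ i j : Fin n, i.val < j.val → i.val + 3 = n ∧ j.val + 1 = n → T.a (σ i) (σ j) = 2 * w) ∧
        (∀ i j : Fin n, i.val < j.val → ¬ (j.val = i.val + 1 ∧ j.val + 2 ≤ n) → ¬ (i.val + 3 = n ∧ j.val + 1 = n) → T.a (σ i) (σ j) = 0)) ∨
      ((∀ i : Fin n, i.val ≤ 1 → T.m (σ i) = m) ∧
        (∀ i : Fin n, 2 ≤ i.val ∧ i.val + 2 < n → T.m (σ i) = 2 * m) ∧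
        (∀ i : Fin n, n ≤ i.val + 2 → T.m (σ i) = m) ∧
        (∀ i : Fin n, T.w (σ i) = w) ∧
        (∀ i j : Fin n, i.val < j.val → i.val = 0 ∧ j.val = 2 → T.a (σ i) (σ j) = w) ∧
        (∀ i j : Fin n, i.val < j.val → i.val = 1 ∧ j.val = 2 → T.a (σ i) (σ j) = w) ∧
        (∀ i j : Fin n, i.val < j.val → j.val = i.val + 1 ∧ 2 ≤ i.val ∧ j.val + 2 ≤ n → T.a (σ i) (σ j) = w) ∧
        (∀ i j : Fin n, i.val < j.val → i.val + 3 = n ∧ j.val + 1 = n → T.a (σ i) (σ j) = w) ∧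
        (∀ i j : Fin n, i.val < j.val → ¬ (i.val = 0 ∧ j.val = 2) → ¬ (i.val = 1 ∧ j.val = 2) → ¬ (j.val = i.val + 1 ∧ 2 ≤ i.val ∧ j.val + 2 ≤ n) → ¬ (i.val + 3 = n ∧ j.val + 1 = n) → T.a (σ i) (σ j) = 0))) := by
  have h2 : ∀ i, T.IsMinusTwo i := fun i => nt_genus_one_minusTwo T (by omega) hmin hg i
  obtain ⟨e, m, w, hinj, hf⟩ := genus_one_fam T hn h2
  obtain ⟨σ, hσ⟩ := exists_perm_of_injLt e hinj
  refine ⟨fun i => (h2 i).1, fun i => (h2 i).2, σ, m, w, ?_⟩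
  simp only [hσ]
  rcases hf with hf | hf | hf | hf | hf | hf | hf
  · obtain ⟨f1, f2, f3, f4, f5⟩ := hf
    exact Or.inl ⟨fun i => f1 _ i.isLt, fun i => f2 _ i.isLt,
      fun i j hij hc => f3 _ _ hij j.isLt hc, fun i j hij hc => f4 _ _ hij j.isLt hc,
      fun i j hij h1 h2 => f5 _ _ hij j.isLt h1 h2⟩
  · obtain ⟨f1, f2, f3, f4, f5, f6, f7, f8⟩ := hf
    exact Or.inr (Or.inl ⟨fun i hc => f1 _ i.isLt hc, fun i hc => f2 _ i.isLt hc,
      fun i hc => f3 _ i.isLt hc, fun i hc => f4 _ i.isLt hc, fun i hc => f5 _ i.isLt hc,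
      fun i j hij hc => f6 _ _ hij j.isLt hc, fun i j hij hc => f7 _ _ hij j.isLt hc,
      fun i j hij h1 h2 => f8 _ _ hij j.isLt h1 h2⟩)
  · obtain ⟨f1, f2, f3, f4, f5, f6⟩ := hf
    exact Or.inr (Or.inr (Or.inl ⟨fun i => f1 _ i.isLt, fun i hc => f2 _ i.isLt hc,
      fun i hc => f3 _ i.isLt hc, fun i hc => f4 _ i.isLt hc,
      fun i j hij hc => f5 _ _ hij j.isLt hc, fun i j hij h1 => f6 _ _ hij j.isLt h1⟩))
  · obtain ⟨f1, f2, f3, f4, f5, f6, f7, f8, f9, f10⟩ := hf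
    exact Or.inr (Or.inr (Or.inr (Or.inl ⟨fun i hc => f1 _ i.isLt hc, fun i hc => f2 _ i.isLt hc,
      fun i hc => f3 _ i.isLt hc, fun i hc => f4 _ i.isLt hc, fun i hc => f5 _ i.isLt hc,
      fun i hc => f6 _ i.isLt hc,
      fun i j hij hc => f7 _ _ hij j.isLt hc, fun i j hij hc => f8 _ _ hij j.isLt hc,
      fun i j hij hc => f9 _ _ hij j.isLt hc,
      fun i j hij h1 h2 h3 => f10 _ _ hij j.isLt h1 h2 h3⟩)))
  · obtain ⟨f1, f2, f3, f4, f5, f6, f7, f8, f9⟩ := hf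
    exact Or.inr (Or.inr (Or.inr (Or.inr (Or.inl ⟨fun i hc => f1 _ i.isLt hc,
      fun i hc => f2 _ i.isLt hc,
      fun i hc => f3 _ i.isLt hc, fun i hc => f4 _ i.isLt hc, fun i hc => f5 _ i.isLt hc,
      fun i j hij hc => f6 _ _ hij j.isLt hc, fun i j hij hc => f7 _ _ hij j.isLt hc,
      fun i j hij hc => f8 _ _ hij j.isLt hc,
      fun i j hij h1 h2 h3 => f9 _ _ hij j.isLt h1 h2 h3⟩))))
  · obtain ⟨f1, f2, f3, f4, f5, f6, f7⟩ := hf
    exact Or.inr (Or.inr (Or.inr (Or.inr (Or.inr (Or.inl ⟨fun i hc => f1 _ i.isLt hc,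
      fun i hc => f2 _ i.isLt hc,
      fun i hc => f3 _ i.isLt hc, fun i hc => f4 _ i.isLt hc,
      fun i j hij hc => f5 _ _ hij j.isLt hc, fun i j hij hc => f6 _ _ hij j.isLt hc,
      fun i j hij h1 h2 => f7 _ _ hij j.isLt h1 h2⟩)))))
  · obtain ⟨f1, f2, f3, f4, f5, f6, f7, f8, f9⟩ := hf
    exact Or.inr (Or.inr (Or.inr (Or.inr (Or.inr (Or.inr ⟨fun i hc => f1 _ i.isLt hc,
      fun i hc => f2 _ i.isLt hc,
      fun i hc => f3 _ i.isLt hc, fun i => f4 _ i.isLt,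
      fun i j hij hc => f5 _ _ hij j.isLt hc, fun i j hij hc => f6 _ _ hij j.isLt hc,
      fun i j hij hc => f7 _ _ hij j.isLt hc, fun i j hij hc => f8 _ _ hij j.isLt hc,
      fun i j hij h1 h2 h3 h4 => f9 _ _ hij j.isLt h1 h2 h3 h4⟩)))))

end Groth.Agent.S7371
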