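import Groth.Statements.S7388
import Groth.Agent.H78.HomogAvoid

set_option autoImplicit false
universe u
open CategoryTheory AlgebraicGeometry
open Mor

namespace Groth.Agent.S7388

/-- Let `X` be a scheme admitting an immersion into `Proj S` for some graded ring `S`. Then any finite
set of points of `X` is contained in an affine open of `X`. -/
theorem result {R A : Type u} [CommRing R] [CommRing A] [Algebra R A]
    (𝒜 : ℕ → Submodule R A) [GradedAlgebra 𝒜] {X : Scheme.{u}} (ι : X ⟶ Proj 𝒜) [IsImmersion ι]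
    (E : Set X) (hE : E.Finite) :
    ∃ U : X.Opens, IsAffineOpen U ∧ E ⊆ U := by
  classical
  have hJ : ∀ x : Proj 𝒜, x ∈ ι.coborderRange →
      ¬ (ProjectiveSpectrum.vanishingIdeal
        ((ι.coborderRange : Set (Proj 𝒜))ᶜ)).toIdeal ≤ x.asHomogeneousIdeal.toIdeal := by
    intro x hx hle
    have h1 : x ∈ ProjectiveSpectrum.zeroLocus 𝒜
        ((ProjectiveSpectrum.vanishingIdeal ((ι.coborderRange : Set (Proj 𝒜))ᶜ) :
          HomogeneousIdeal 𝒜) : Set A) :=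
      (ProjectiveSpectrum.mem_zeroLocus 𝒜 x _).mpr hle
    rw [ProjectiveSpectrum.zeroLocus_vanishingIdeal_eq_closure] at h1
    exact (ι.coborderRange.isOpen.isClosed_compl).closure_subset h1 hx
  have hmemV : ∀ x : X, ι x ∈ ι.coborderRange := fun x =>
    subset_coborder (Set.mem_range_self x)
  obtain ⟨z, n, hn, hzn, hzJ, hz⟩ := Groth.Agent.H78.homog_prime_avoidance 𝒜
    (ProjectiveSpectrum.vanishingIdeal ((ι.coborderRange : Set (Proj 𝒜))ᶜ)).toIdeal
    (ProjectiveSpectrum.vanishingIdeal ((ι.coborderRange : Set (Proj 𝒜))ᶜ)).isHomogeneous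
    (hE.toFinset.image (fun x => (ι x).asHomogeneousIdeal.toIdeal)) (by
      intro P hP
      obtain ⟨x, -, rfl⟩ := Finset.mem_image.mp hP
      exact ⟨(ι x).isPrime, (ι x).asHomogeneousIdeal.isHomogeneous,
        (ι x).not_irrelevant_le, hJ _ (hmemV x)⟩)
  have hD : IsAffineOpen (Proj.basicOpen 𝒜 z) := Proj.isAffineOpen_basicOpen 𝒜 z hzn hn
  have hDV : Proj.basicOpen 𝒜 z ≤ ι.coborderRange := by
    intro x hx
    by_contra hxV
    have : z ∈ x.asHomogeneousIdeal :=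
      (ProjectiveSpectrum.mem_vanishingIdeal _ z).mp hzJ x hxV
    exact (Proj.mem_basicOpen 𝒜 z x).mp hx this
  have h1 : IsAffineOpen (ι.coborderRange.ι ⁻¹ᵁ Proj.basicOpen 𝒜 z) :=
    hD.preimage_of_isOpenImmersion ι.coborderRange.ι (by rwa [Scheme.Opens.opensRange_ι])
  have h2 : IsAffineOpen (ι.liftCoborder ⁻¹ᵁ (ι.coborderRange.ι ⁻¹ᵁ Proj.basicOpen 𝒜 z)) :=
    h1.preimage ι.liftCoborder
  have h3 : ι.liftCoborder ⁻¹ᵁ (ι.coborderRange.ι ⁻¹ᵁ Proj.basicOpen 𝒜 z) =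
      ι ⁻¹ᵁ Proj.basicOpen 𝒜 z := by
    rw [← Scheme.Hom.comp_preimage, ι.liftCoborder_ι]
  refine ⟨ι ⁻¹ᵁ Proj.basicOpen 𝒜 z, h3 ▸ h2, ?_⟩
  intro x hx
  show ι x ∈ Proj.basicOpen 𝒜 z
  rw [Proj.mem_basicOpen]
  exact hz _ (Finset.mem_image.mpr ⟨x, hE.mem_toFinset.mpr hx, rfl⟩)

end Groth.Agent.S7388
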