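import Groth.Statements.S7391
import Groth.Agent.H53.ProjLocal2
import Groth.Agent.H44.FiniteSections

set_option autoImplicit false
universe u
open CategoryTheory AlgebraicGeometry
open Opposite
open Mor

namespace Groth.Agent.S7391

/-- Let `F` be a quasi-coherent `O_X`-module on a scheme `X`. Then `F(U)` is a projective
`O_X(U)`-module for every affine open `U` (that is, `F` is locally projective) if and only if `X`
has a covering by affine opens `U_i` with `F(U_i)` projective over `O_X(U_i)`. -/
theorem result (X : Scheme.{u}) (F : X.Modules) [Coh.IsQCoh F] :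
    (∀ U : X.Opens, IsAffineOpen U → Module.Projective (X.ringCatSheaf.obj.obj (op U)) (F.val.obj (op U))) ↔
      ∃ (I : Type u) (U : I → X.Opens), (⨆ i, U i) = ⊤ ∧ ∀ i, IsAffineOpen (U i) ∧
        Module.Projective (X.ringCatSheaf.obj.obj (op (U i))) (F.val.obj (op (U i))) := by
  constructor
  · intro h
    refine ⟨X.affineOpens, fun U => U.1, ?_, fun U => ⟨U.2, h U.1 U.2⟩⟩
    rw [eq_top_iff]
    intro x _
    obtain ⟨_, ⟨U, hU, rfl⟩, hxU, -⟩ :=
      X.isBasis_affineOpens.exists_subset_of_mem_open (Set.mem_univ x) isOpen_univ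
    exact TopologicalSpace.Opens.mem_iSup.mpr ⟨⟨U, hU⟩, hxU⟩
  · rintro ⟨I, U, hU, hP⟩ V hV
    have hF : F.IsQuasicoherent := ‹Coh.IsQCoh F›
    let U' : I → X.affineOpens := fun i => ⟨U i, (hP i).1⟩
    have key : Module.Projective Γ(X, (⟨V, hV⟩ : X.affineOpens).1) Γ(F, (⟨V, hV⟩ : X.affineOpens).1) := by
      refine of_affine_open_cover
        (P := fun W => Module.Projective Γ(X, W.1) Γ(F, W.1)) U' hU ⟨V, hV⟩ ?_ ?_ (fun i => (hP i).2)
      · intro W g hW
        change Module.Projective Γ(X, X.basicOpen g) Γ(F, X.basicOpen g)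
        letI := Groth.Agent.H44.basicOpenModule F g
        haveI := Groth.Agent.H44.isScalarTower_basicOpen F g
        haveI := Groth.Agent.H44.isLocalizedModule_resBasicOpen F g W.2
        haveI : IsLocalization (.powers g) Γ(X, X.basicOpen g) := W.2.isLocalization_basicOpen g
        haveI : Module.Projective Γ(X, W.1) Γ(F, W.1) := hW
        exact Module.projective_of_isLocalizedModule (.powers g) (Groth.Agent.H44.resBasicOpen F g)
      · intro W s hs hPs
        have hP' : ∀ g : s, Module.Projective Γ(X, X.basicOpen g.1) Γ(F, X.basicOpen g.1) := hPs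
        letI := fun g : s => Groth.Agent.H44.basicOpenModule F g.1
        haveI := fun g : s => Groth.Agent.H44.isScalarTower_basicOpen F g.1
        haveI : ∀ g : s, IsLocalizedModule.Away g.1 (Groth.Agent.H44.resBasicOpen F g.1) :=
          fun g => Groth.Agent.H44.isLocalizedModule_resBasicOpen F g.1 W.2
        haveI : ∀ g : s, IsLocalization.Away g.1 Γ(X, X.basicOpen g.1) :=
          fun g => W.2.isLocalization_basicOpen g.1
        exact Groth.Agent.H53.ProjLocal.projective_of_localizationSpan_finite' _ _ s hs
          (fun g => Groth.Agent.H44.resBasicOpen F g.1) hP'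
    exact key

end Groth.Agent.S7391
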