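import Groth.Statements.S7397
import Mathlib.Tactic

set_option autoImplicit false
universe u
open Mor

namespace Groth.Agent.S7397

/-- Let `A ⊆ B` be a ring extension and `b ∈ B`, `b ∉ A`, with `b^n, b^(n+1) ∈ A` for some `n ≥ 2`. Then
some `b' ∈ B` with `b' ∉ A` has `b'^2 ∈ A` and `b'^3 ∈ A`. -/
theorem result {B : Type u} [CommRing B] (A : Subring B) (b : B) (hb : b ∉ A)
    (n : ℕ) (hn : 2 ≤ n) (h1 : b ^ n ∈ A) (h2 : b ^ (n + 1) ∈ A) :
    ∃ b' : B, b' ∉ A ∧ b' ^ 2 ∈ A ∧ b' ^ 3 ∈ A := by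
  classical
  have hex : ∃ N : ℕ, ∀ k, N ≤ k → b ^ k ∈ A := by
    refine ⟨n * n, fun k hk => ?_⟩
    have hnpos : 0 < n := by omega
    have hr : k % n < n := Nat.mod_lt _ hnpos
    have hq : n ≤ k / n := by
      rw [Nat.le_div_iff_mul_le hnpos]; exact hk
    have hk' : k = (k / n - k % n) * n + (k % n) * (n + 1) := by
      have h0 := Nat.div_add_mod k n
      have h3 : (k / n - k % n) * n = (k / n) * n - (k % n) * n := Nat.sub_mul _ _ _
      have h4 : (k % n) * n ≤ (k / n) * n := Nat.mul_le_mul_right _ (by omega)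
      have h5 : (k % n) * (n + 1) = (k % n) * n + k % n := by ring
      have h6 : n * (k / n) = (k / n) * n := Nat.mul_comm _ _
      omega
    rw [hk', pow_add, pow_mul', pow_mul' b (k % n)]
    exact A.mul_mem (A.pow_mem h1 _) (A.pow_mem h2 _)
  have hN := Nat.find_spec hex
  have hmin := fun m hm => Nat.find_min hex (m := m) hm
  set N := Nat.find hex with hNdef
  have hN2 : 2 ≤ N := by
    by_contra hlt
    apply hb
    have := hN 1 (by omega)
    simpa using this
  have hnot : ¬ ∀ k, N - 1 ≤ k → b ^ k ∈ A := hmin (N - 1) (by omega)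
  have hb' : b ^ (N - 1) ∉ A := by
    intro hmem
    apply hnot
    intro k hk
    rcases Nat.eq_or_lt_of_le hk with h | h
    · rw [← h]; exact hmem
    · exact hN k (by omega)
  refine ⟨b ^ (N - 1), hb', ?_, ?_⟩
  · rw [← pow_mul]; exact hN _ (by omega)
  · rw [← pow_mul]; exact hN _ (by omega)

end Groth.Agent.S7397
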