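import Groth.Statements.S7398
import Groth.Agent.H37.UHRoots

set_option autoImplicit false
universe u
open CategoryTheory AlgebraicGeometry
open Mor
open Groth.Agent.H37

namespace Groth.Agent.S7398

/-- Let `A ⊆ B` be a ring extension with `A ≠ B` such that `Spec B → Spec A` is a universal
homeomorphism whose residue field extensions are all trivial. Then some `b ∈ B` with `b ∉ A` has
`b^2 ∈ A` and `b^3 ∈ A`. (Here `A → B` is an injective, non-surjective ring map and membership in
`A` means membership in its image.) -/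
theorem result {A B : Type u} [CommRing A] [CommRing B]
    (φ : A →+* B) (hinj : Function.Injective φ) (hns : ¬ Function.Surjective φ)
    (hU : FlatMor.IsUnivHomeo (Spec.map (CommRingCat.ofHom φ)))
    (hres : ∀ x : Spec (CommRingCat.of B), Function.Surjective ((Spec.map (CommRingCat.ofHom φ)).residueFieldMap x)) :
    ∃ b : B, b ∉ φ.range ∧ b ^ 2 ∈ φ.range ∧ b ^ 3 ∈ φ.range := by
  rw [isUnivHomeo_SpecMap_iff'] at hU
  rw [resSurj_iff] at hres
  letI := φ.toAlgebra
  obtain ⟨b₀, hb₀⟩ : ∃ b₀, b₀ ∉ φ.range := by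
    by_contra h
    push Not at h
    exact hns (fun b => h b)
  have hint : IsIntegral A b₀ := hU.isIntegral b₀
  haveI : Module.Finite A (Algebra.adjoin A {b₀}) :=
    Algebra.finite_adjoin_simple_of_isIntegral hint
  have hcomp : φ = ((Algebra.adjoin A {b₀}).val : Algebra.adjoin A {b₀} →+* B).comp
      (algebraMap A (Algebra.adjoin A {b₀})) := rfl
  have hvinj : Function.Injective
      ((Algebra.adjoin A {b₀}).val : Algebra.adjoin A {b₀} →+* B) := Subtype.val_injective
  have hU' : RingUH (algebraMap A (Algebra.adjoin A {b₀})) :=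
    RingUH.of_comp _ _ hvinj (hcomp ▸ hU)
  have hres' : ResSurj (algebraMap A (Algebra.adjoin A {b₀})) :=
    ResSurj.of_comp _ _ (RingHom.IsIntegral.tower_top _ _ (hcomp ▸ hU.isIntegral)) hvinj
      (hcomp ▸ hres)
  have hns' : ¬ Function.Surjective (algebraMap A (Algebra.adjoin A {b₀})) := by
    intro h
    obtain ⟨a, ha⟩ := h ⟨b₀, Algebra.subset_adjoin rfl⟩
    exact hb₀ ⟨a, congrArg Subtype.val ha⟩
  obtain ⟨b, hb, ⟨a2, hb2⟩, ⟨a3, hb3⟩⟩ :=
    exists_sq_cube_of_finite hU'.fieldInj.comap_injective hU'.surj hres' hns'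
  refine ⟨b.val, ?_, ⟨a2, ?_⟩, ⟨a3, ?_⟩⟩
  · rintro ⟨a, ha⟩
    exact hb ⟨a, Subtype.ext ha⟩
  · exact congrArg Subtype.val hb2
  · exact congrArg Subtype.val hb3

end Groth.Agent.S7398
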