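import Groth.Statements.S7399
import Groth.Agent.H37.UHRes

set_option autoImplicit false
universe u
open CategoryTheory AlgebraicGeometry
open Mor
open Groth.Agent.H37

namespace Groth.Agent.S7399

/-- Let `A ⊆ B` be a proper ring extension inducing a universal homeomorphism `Spec B → Spec A`. Then
either there is `b ∈ B`, `b ∉ A`, with `b^2, b^3 ∈ A`, or there are a prime number `p` and `b ∈ B`,
`b ∉ A`, with `p b, b^p ∈ A`. (Here `A → B` is an injective, non-surjective ring map and membership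
in `A` means membership in its image.) -/
theorem result {A B : Type u} [CommRing A] [CommRing B]
    (φ : A →+* B) (hinj : Function.Injective φ) (hns : ¬ Function.Surjective φ)
    (hU : FlatMor.IsUnivHomeo (Spec.map (CommRingCat.ofHom φ))) :
    (∃ b : B, b ∉ φ.range ∧ b ^ 2 ∈ φ.range ∧ b ^ 3 ∈ φ.range) ∨
      ∃ (p : ℕ) (b : B), p.Prime ∧ b ∉ φ.range ∧ (p : B) * b ∈ φ.range ∧ b ^ p ∈ φ.range := by
  rw [isUnivHomeo_SpecMap_iff'] at hU
  letI := φ.toAlgebra
  obtain ⟨b₀, hb₀⟩ : ∃ b₀, b₀ ∉ φ.range := by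
    by_contra h
    push Not at h
    exact hns (fun b => h b)
  have hint : IsIntegral A b₀ := hU.isIntegral b₀
  haveI : Module.Finite A (Algebra.adjoin A {b₀}) :=
    Algebra.finite_adjoin_simple_of_isIntegral hint
  have hcomp : φ = ((Algebra.adjoin A {b₀}).val : Algebra.adjoin A {b₀} →+* B).comp
      (algebraMap A (Algebra.adjoin A {b₀})) := rfl
  have hvinj : Function.Injective
      ((Algebra.adjoin A {b₀}).val : Algebra.adjoin A {b₀} →+* B) := Subtype.val_injective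
  have hU' : RingUH (algebraMap A (Algebra.adjoin A {b₀})) :=
    RingUH.of_comp _ _ hvinj (hcomp ▸ hU)
  have hns' : ¬ Function.Surjective (algebraMap A (Algebra.adjoin A {b₀})) := by
    intro h
    obtain ⟨a, ha⟩ := h ⟨b₀, Algebra.subset_adjoin rfl⟩
    exact hb₀ ⟨a, congrArg Subtype.val ha⟩
  rcases exists_sq_cube_or_prime_of_finite hU'.fieldInj hU'.surj hns' with
    ⟨b, hb, ⟨a2, hb2⟩, ⟨a3, hb3⟩⟩ | ⟨ℓ, b, hℓ, hb, ⟨a2, hb2⟩, ⟨a3, hb3⟩⟩
  · left
    refine ⟨b.val, ?_, ⟨a2, ?_⟩, ⟨a3, ?_⟩⟩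
    · rintro ⟨a, ha⟩
      exact hb ⟨a, Subtype.ext ha⟩
    · exact congrArg Subtype.val hb2
    · exact congrArg Subtype.val hb3
  · right
    refine ⟨ℓ, b.val, hℓ, ?_, ⟨a2, ?_⟩, ⟨a3, ?_⟩⟩
    · rintro ⟨a, ha⟩
      exact hb ⟨a, Subtype.ext ha⟩
    · have h1 := congrArg Subtype.val hb2
      have h2 : ((ℓ : Algebra.adjoin A {b₀}) * b : Algebra.adjoin A {b₀}).val = (ℓ : B) * b.val := by
        simp
      exact h1.trans h2
    · exact congrArg Subtype.val hb3

end Groth.Agent.S7399
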