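import Groth.Statements.S7400
import Groth.Agent.H37.UHTowerApp

set_option autoImplicit false
universe u
open CategoryTheory AlgebraicGeometry
open Mor
open Groth.Agent.H37

namespace Groth.Agent.S7400

/-- Let `A ⊆ B` be a ring extension. The morphism `Spec B → Spec A` is a universal homeomorphism with
all residue field extensions trivial exactly when each finite subset of `B` is contained in some
`A[b_1, …, b_n] ⊆ B` such that `b_i^2` and `b_i^3` lie in `A[b_1, …, b_{i-1}]` for every `i`. (Here
`A → B` is an injective ring map and `A[b_1, …, b_{i-1}]` is the `A`-subalgebra generated by the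
earlier entries.) -/
theorem result {A B : Type u} [CommRing A] [CommRing B] [Algebra A B]
    (hinj : Function.Injective (algebraMap A B)) :
    (FlatMor.IsUnivHomeo (Spec.map (CommRingCat.ofHom (algebraMap A B))) ∧
      ∀ x : Spec (CommRingCat.of B),
        Function.Surjective ((Spec.map (CommRingCat.ofHom (algebraMap A B))).residueFieldMap x)) ↔
    ∀ E : Finset B, ∃ l : List B, (↑E : Set B) ⊆ Algebra.adjoin A {b : B | b ∈ l} ∧
      ∀ i : Fin l.length, l.get i ^ 2 ∈ Algebra.adjoin A {b : B | ∃ j : Fin l.length, j < i ∧ b = l.get j} ∧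
        l.get i ^ 3 ∈ Algebra.adjoin A {b : B | ∃ j : Fin l.length, j < i ∧ b = l.get j} := by
  rw [isUnivHomeo_SpecMap_iff', resSurj_iff]
  constructor
  · rintro ⟨hU, hres⟩ E
    obtain ⟨l, hE, hl⟩ :=
      exists_tower_of_reach_eq_top stepSC_mono (reach_eq_top_of_ringUH_resSurj hU hres) E
    exact ⟨l, hE, hl⟩
  · intro h
    have htop : reach (A := A) (B := B) StepSC stepSC_mono = ⊤ := by
      rw [eq_top_iff]
      intro b _
      obtain ⟨l, hE, hl⟩ := h {b}
      exact ⟨l, hl, hE (by simp)⟩
    exact ⟨ringUH_of_reach_eq_top hinj stepSC_mono (fun S b hb => Or.inl hb) htop,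
      resSurj_of_reach_eq_top htop⟩

end Groth.Agent.S7400
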