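import Groth.Statements.S7404
import Groth.Agent.H37.UHAlg

set_option autoImplicit false
universe u
open CategoryTheory AlgebraicGeometry
open Mor
open Groth.Agent.H37

namespace Groth.Agent.S7404

/-- Let `A → B` be a ring map and `B' ⊆ B` an `A`-subalgebra, with `f : Spec B → Spec A` and `f' : Spec
B' → Spec A` the induced morphisms. Each of the following properties passes from `f` to `f'`: being
a universal homeomorphism; being a universal homeomorphism with trivial residue field extensions;
being universally closed; being both universally closed and universally injective. -/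
theorem result {A B : Type u} [CommRing A] [CommRing B] [Algebra A B]
    (B' : Subalgebra A B) :
    (FlatMor.IsUnivHomeo (Spec.map (CommRingCat.ofHom (algebraMap A B))) →
      FlatMor.IsUnivHomeo (Spec.map (CommRingCat.ofHom (algebraMap A B')))) ∧
    ((FlatMor.IsUnivHomeo (Spec.map (CommRingCat.ofHom (algebraMap A B))) ∧
      ∀ x : Spec (CommRingCat.of B),
        Function.Surjective ((Spec.map (CommRingCat.ofHom (algebraMap A B))).residueFieldMap x)) →
      FlatMor.IsUnivHomeo (Spec.map (CommRingCat.ofHom (algebraMap A B'))) ∧
      ∀ x : Spec (CommRingCat.of B'),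
        Function.Surjective ((Spec.map (CommRingCat.ofHom (algebraMap A B'))).residueFieldMap x)) ∧
    (UniversallyClosed (Spec.map (CommRingCat.ofHom (algebraMap A B))) →
      UniversallyClosed (Spec.map (CommRingCat.ofHom (algebraMap A B')))) ∧
    (UniversallyClosed (Spec.map (CommRingCat.ofHom (algebraMap A B))) →
      UniversallyInjective (Spec.map (CommRingCat.ofHom (algebraMap A B))) →
      UniversallyClosed (Spec.map (CommRingCat.ofHom (algebraMap A B'))) ∧
      UniversallyInjective (Spec.map (CommRingCat.ofHom (algebraMap A B')))) := by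
  have hcomp : algebraMap A B = (B'.val : B' →+* B).comp (algebraMap A B') := rfl
  have hinj : Function.Injective (B'.val : B' →+* B) := Subtype.val_injective
  have key1 : RingUH (algebraMap A B) → RingUH (algebraMap A B') := fun h =>
    RingUH.of_comp _ _ hinj (hcomp ▸ h)
  have key3 : (algebraMap A B).IsIntegral → (algebraMap A B').IsIntegral := fun h =>
    RingHom.IsIntegral.tower_bot _ _ hinj (hcomp ▸ h)
  have keyψ : (algebraMap A B).IsIntegral → (B'.val : B' →+* B).IsIntegral := fun h =>
    RingHom.IsIntegral.tower_top (algebraMap A B') _ (hcomp ▸ h)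
  refine ⟨?_, ?_, ?_, ?_⟩
  · rw [isUnivHomeo_SpecMap_iff', isUnivHomeo_SpecMap_iff']
    exact key1
  · rw [isUnivHomeo_SpecMap_iff', isUnivHomeo_SpecMap_iff', resSurj_iff, resSurj_iff]
    rintro ⟨h1, h2⟩
    exact ⟨key1 h1, ResSurj.of_comp _ _ (keyψ h1.isIntegral) hinj (hcomp ▸ h2)⟩
  · rw [universallyClosed_SpecMap_iff, universallyClosed_SpecMap_iff]
    exact key3
  · rw [universallyClosed_SpecMap_iff, universallyClosed_SpecMap_iff,
      universallyInjective_SpecMap_iff, universallyInjective_SpecMap_iff]
    intro h1 h2
    exact ⟨key3 h1, FieldInj.of_comp _ _ (keyψ h1) hinj (hcomp ▸ h2)⟩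

end Groth.Agent.S7404
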