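import Groth.Statements.S7405
import Groth.Agent.H37.UHColim
import Mathlib.CategoryTheory.Limits.Preserves.Over
import Mathlib.Algebra.Category.Ring.FilteredColimits
import Mathlib.CategoryTheory.Limits.Types.Filtered

set_option autoImplicit false
universe u
open CategoryTheory AlgebraicGeometry
open Mor
open Groth.Agent.H37

namespace Groth.Agent.S7405

/-- Let `A` be a ring and `B` the colimit of a filtered diagram `j ↦ B_j` of `A`-algebras. Each of the
following properties, when it holds for every `Spec B_j → Spec A`, holds for `Spec B → Spec A`: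
being a universal homeomorphism; being a universal homeomorphism with trivial residue field
extensions; being universally closed; being both universally closed and universally injective. -/
theorem result (A : CommRingCat.{u}) {J : Type u} [SmallCategory J]
    [IsFiltered J] (F : J ⥤ Under A) (c : Limits.Cocone F) (hc : Limits.IsColimit c) :
    ((∀ j, FlatMor.IsUnivHomeo (Spec.map (F.obj j).hom)) → FlatMor.IsUnivHomeo (Spec.map c.pt.hom)) ∧
    ((∀ j, FlatMor.IsUnivHomeo (Spec.map (F.obj j).hom) ∧
        ∀ x : Spec (F.obj j).right, Function.Surjective ((Spec.map (F.obj j).hom).residueFieldMap x)) →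
      FlatMor.IsUnivHomeo (Spec.map c.pt.hom) ∧
        ∀ x : Spec c.pt.right, Function.Surjective ((Spec.map c.pt.hom).residueFieldMap x)) ∧
    ((∀ j, UniversallyClosed (Spec.map (F.obj j).hom)) → UniversallyClosed (Spec.map c.pt.hom)) ∧
    ((∀ j, UniversallyClosed (Spec.map (F.obj j).hom) ∧ UniversallyInjective (Spec.map (F.obj j).hom)) →
      UniversallyClosed (Spec.map c.pt.hom) ∧ UniversallyInjective (Spec.map c.pt.hom)) := by
  -- ring-level data
  let φ : A →+* c.pt.right := c.pt.hom.hom
  let φj : ∀ j, A →+* (F.obj j).right := fun j => (F.obj j).hom.hom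
  let ψ : ∀ j, (F.obj j).right →+* c.pt.right := fun j => (c.ι.app j).right.hom
  have hcomp : ∀ j, (ψ j).comp (φj j) = φ := by
    intro j
    have := Under.w (c.ι.app j)
    exact congrArg CommRingCat.Hom.hom this
  -- the colimit in types
  let G := Under.forget A ⋙ forget CommRingCat
  have hc' : Limits.IsColimit (G.mapCocone c) := Limits.isColimitOfPreserves G hc
  have hsurj : ∀ b : c.pt.right, ∃ j bj, ψ j bj = b := by
    intro b
    obtain ⟨j, y, hy⟩ := Limits.Types.jointly_surjective_of_isColimit hc' b
    exact ⟨j, y, hy⟩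
  have hker : ∀ a : A, φ a = 0 → ∃ j, φj j a = 0 := by
    intro a ha
    obtain ⟨j₀⟩ : Nonempty J := IsFiltered.nonempty
    have h1 : (G.mapCocone c).ι.app j₀ (φj j₀ a) = (G.mapCocone c).ι.app j₀ (0 : (F.obj j₀).right) := by
      show ψ j₀ (φj j₀ a) = ψ j₀ 0
      rw [map_zero, ← RingHom.comp_apply, hcomp]
      exact ha
    obtain ⟨k, f, g, hfg⟩ := (Limits.Types.FilteredColimit.isColimit_eq_iff _ hc').mp h1
    refine ⟨k, ?_⟩
    have h2 : (F.map f).right.hom (φj j₀ a) = (F.map g).right.hom 0 := hfg
    rw [map_zero] at h2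
    have h3 : (F.map f).right.hom (φj j₀ a) = φj k a := by
      have := Under.w (F.map f)
      exact congrArg (fun t => t.hom a) this
    rw [← h3]; exact h2
  have e0 : Spec.map c.pt.hom = Spec.map (CommRingCat.ofHom φ) := rfl
  have ej : ∀ j, Spec.map (F.obj j).hom = Spec.map (CommRingCat.ofHom (φj j)) := fun j => rfl
  simp only [e0, ej]
  refine ⟨?_, ?_, ?_, ?_⟩
  · simp only [isUnivHomeo_SpecMap_iff']
    exact ringUH_of_jointly_surjective φ φj ψ hcomp hsurj hker
  · intro h
    have h1 : ∀ j, RingUH (φj j) := fun j => (isUnivHomeo_SpecMap_iff' _).mp (h j).1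
    have h2 : ∀ j, ResSurj (φj j) := fun j => (resSurj_iff _).mp (h j).2
    exact ⟨(isUnivHomeo_SpecMap_iff' _).mpr (ringUH_of_jointly_surjective φ φj ψ hcomp hsurj hker h1),
      (resSurj_iff _).mpr (resSurj_of_jointly_surjective φ φj ψ hcomp hsurj h2)⟩
  · simp only [universallyClosed_SpecMap_iff]
    exact isIntegral_of_jointly_surjective φ φj ψ hcomp hsurj
  · simp only [universallyClosed_SpecMap_iff, universallyInjective_SpecMap_iff]
    intro h
    exact ⟨isIntegral_of_jointly_surjective φ φj ψ hcomp hsurj (fun j => (h j).1),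
      fieldInj_of_jointly_surjective φ φj ψ hcomp hsurj (fun j => (h j).2)⟩

end Groth.Agent.S7405
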