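import Groth.Statements.S7412


set_option autoImplicit false
universe u
open Desc

namespace Groth.Agent.S7412

/-- Let `R` be a ring and `f : M → N` a map of `R`-modules. Then `f` is universally injective (`f ⊗ 1_P`
is injective for every `R`-module `P`; here `P` ranges over modules in the same universe, which
suffices) if and only if the map of character modules `C(N) → C(M)`, `C(-) = Hom_ℤ(-, ℚ/ℤ)`, is a
split surjection of `R`-modules. -/
theorem result {R : Type u} [CommRing R] {M N : Type u}
    [AddCommGroup M] [Module R M] [AddCommGroup N] [Module R N] (f : M →ₗ[R] N) :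
    (∀ (P : Type u) [AddCommGroup P] [Module R P], Function.Injective (f.lTensor P)) ↔
      ∃ g : CharacterModule M →ₗ[R] CharacterModule N, (CharacterModule.dual f).comp g = LinearMap.id := by
  -- the swap construction
  have swap : ∀ {A B : Type u} [AddCommGroup A] [Module R A] [AddCommGroup B] [Module R B]
      (φ : A →ₗ[R] CharacterModule B), ∃ φ' : B →ₗ[R] CharacterModule A, ∀ a b, φ' b a = φ a b := by
    intro A B _ _ _ _ φ
    refine ⟨{ toFun := fun b => AddMonoidHom.mk' (fun a => φ a b) (fun a a' => by
                rw [map_add]; rfl)
              map_add' := fun b b' => by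
                ext a
                exact map_add (φ a) b b'
              map_smul' := fun r b => by
                ext a
                show φ a (r • b) = φ (r • a) b
                rw [LinearMap.map_smul φ r a, CharacterModule.smul_apply] }, fun a b => rfl⟩
  constructor
  · intro h
    -- evaluation map M → C(C(M))
    let ev : M →ₗ[R] CharacterModule (CharacterModule M) :=
      { toFun := fun m => AddMonoidHom.mk' (fun c => c m) (fun c c' => rfl)
        map_add' := fun m m' => by
          ext c
          exact map_add c m m'
        map_smul' := fun r m => by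
          ext c
          rfl }
    have hinj : Function.Injective (f.rTensor (CharacterModule M)) := by
      rw [← LinearMap.lTensor_inj_iff_rTensor_inj]
      exact h (CharacterModule M)
    rw [rTensor_injective_iff_lcomp_surjective] at hinj
    obtain ⟨ψ, hψ⟩ := hinj ev
    obtain ⟨g, hg⟩ := swap ψ
    refine ⟨g, ?_⟩
    ext c m
    show g c (f m) = c m
    rw [hg]
    have := congrArg (fun l => l m c) hψ
    exact this
  · rintro ⟨g, hg⟩ P _ _
    rw [LinearMap.lTensor_inj_iff_rTensor_inj, rTensor_injective_iff_lcomp_surjective]
    intro φ
    obtain ⟨φ', hφ'⟩ := swap φ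
    obtain ⟨ψ, hψ⟩ := swap (g.comp φ')
    refine ⟨ψ, ?_⟩
    ext m p
    show ψ (f m) p = φ m p
    rw [hψ]
    show g (φ' p) (f m) = φ m p
    have := congrArg (fun l => l (φ' p) m) hg
    simp only [LinearMap.comp_apply, LinearMap.id_apply] at this
    rw [← hφ']
    exact this

end Groth.Agent.S7412
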