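import Groth.Statements.S7413
import Groth.Agent.S7391
import Groth.Agent.H71.QCoh.PullbackProps

set_option autoImplicit false
universe u
open CategoryTheory AlgebraicGeometry
open Opposite
open Mor

namespace Groth.Agent.S7413

/-- Let `f : X → Y` be a morphism of schemes and `G` a quasi-coherent, locally projective `O_Y`-module
(projective sections over every affine open). Then `f^* G` is locally projective on `X`. -/
theorem result {X Y : Scheme.{u}} (f : X ⟶ Y) (G : Y.Modules) [Coh.IsQCoh G]
    (hG : ∀ V : Y.Opens, IsAffineOpen V → Module.Projective (Y.ringCatSheaf.obj.obj (op V)) (G.val.obj (op V)))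
    (U : X.Opens) (hU : IsAffineOpen U) :
    Module.Projective (X.ringCatSheaf.obj.obj (op U)) (((Scheme.Modules.pullback f).obj G).val.obj (op U)) := by
  have hG' : G.IsQuasicoherent := ‹Coh.IsQCoh G›
  have hq : Coh.IsQCoh ((Scheme.Modules.pullback f).obj G) :=
    Groth.Agent.H44.isQuasicoherent_pullback f G
  refine (Groth.Agent.S7391.result X ((Scheme.Modules.pullback f).obj G)).mpr ?_ U hU
  choose U' V' hU' hV' hxU' hUV' using Groth.Agent.H71.QCoh.exists_affine_pair f
  refine ⟨X, U', ?_, fun x => ⟨hU' x, ?_⟩⟩
  · rw [eq_top_iff]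
    intro x _
    exact TopologicalSpace.Opens.mem_iSup.mpr ⟨x, hxU' x⟩
  · exact Groth.Agent.H71.QCoh.projective_sections_pullback f G (hU' x) (hV' x) (hUV' x)
      (hG (V' x) (hV' x))

end Groth.Agent.S7413
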