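import Groth.Statements.S7423
import Groth.Agent.H37.UHAwn2

set_option autoImplicit false
universe u
open CategoryTheory AlgebraicGeometry
open HTop
open Groth.Agent.H37

namespace Groth.Agent.S7423

/-- Let `φ : A → A^awn` be an absolute weak normalization and `ψ : A → B` a ring map inducing a
universal homeomorphism on spectra. Then `B` is absolutely weakly normal exactly when the induced
map `χ : B → A^awn` with `χ ∘ ψ = φ` is an isomorphism. -/
theorem result {A B W : Type u} [CommRing A] [CommRing B] [CommRing W]
    (φ : A →+* W) (hφ : HTop.IsRingAWN φ) (ψ : A →+* B)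
    (hψ : FlatMor.IsUnivHomeo (Spec.map (CommRingCat.ofHom ψ))) (χ : B →+* W) (hχ : χ.comp ψ = φ) :
    Function.Bijective χ ↔ HTop.IsAWNRing B := by
  constructor
  · intro h
    exact isAWNRing_of_ringEquiv (RingEquiv.ofBijective χ h).symm (isAWNRing_of_isRingAWN hφ)
  · intro hB
    haveI := isReduced_of_isRingAWN hφ
    have h1 : RingUH ψ := (isUnivHomeo_SpecMap_iff' ψ).mp hψ
    have h2 : RingUH (χ.comp ψ) := by rw [hχ]; exact (isUnivHomeo_SpecMap_iff' φ).mp hφ.1
    exact bijective_of_ringUH_of_isAWNRing χ (h1.of_comp_of_ringUH h2) hB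

end Groth.Agent.S7423
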