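import Groth.Statements.S7435
import Groth.Agent.H37.BddFib2

set_option autoImplicit false
universe u
open CategoryTheory AlgebraicGeometry
open BddFib
open Groth.Agent.H37

namespace Groth.Agent.S7435

/-- If `f` is finite locally free of degree `d`, then `d` bounds the degrees of the fibres of `f`. -/
theorem result {X Y : Scheme.{u}} (f : X ⟶ Y) (d : ℕ) (hf : Mor2.IsFinLocFreeOfDeg d f) :
    BddFib.FibreDegLE f d := by
  exact (fibreDegLE_iff_schUBF f d).mpr (schUBF_of_isFinLocFreeOfDeg f d hf)

end Groth.Agent.S7435
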