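import Groth.Statements.S7443
import Groth.Agent.H37.PresUH

set_option autoImplicit false
universe u
open CategoryTheory AlgebraicGeometry
open Mor
open Groth.Agent.H37

namespace Groth.Agent.S7443

/-- Let `φ : A → B` be a ring map with `Spec B → Spec A` a universal homeomorphism. Then `B`, as an
`A`-algebra, is the colimit of a filtered diagram of finitely presented `A`-algebras `B_i`, and
every `Spec B_i → Spec A` is again a universal homeomorphism. (The colimit is taken in the category
of rings under `A`, over a small filtered index category.) -/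
theorem result {A B : Type u} [CommRing A] [CommRing B] (φ : A →+* B)
    (hφ : FlatMor.IsUnivHomeo (Spec.map (CommRingCat.ofHom φ))) :
    ∃ (J : Type u) (_ : SmallCategory J) (_ : IsFiltered J) (F : J ⥤ Under (CommRingCat.of A))
      (c : Limits.Cocone F) (_ : Limits.IsColimit c),
      (∀ j, (F.obj j).hom.hom.FinitePresentation ∧ FlatMor.IsUnivHomeo (Spec.map (F.obj j).hom)) ∧
      Nonempty (c.pt ≅ Under.mk (CommRingCat.ofHom φ)) := by
  letI : Algebra A B := φ.toAlgebra
  have hB : RingUH (algebraMap A B) := (isUnivHomeo_SpecMap_iff' φ).mp hφ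
  obtain ⟨⟨hc⟩, hdir⟩ := (scpClass A).exists_colimit (B := B) lifts_scp (reach_eq_top_of_ringUH hB)
  haveI := hdir
  refine ⟨(scpClass A).GoodIdx B, inferInstance, inferInstance, (scpClass A).diagram,
    (scpClass A).cocone, hc, ?_, ⟨Iso.refl _⟩⟩
  intro j
  refine ⟨?_, ?_⟩
  · show (algebraMap A j.1.Alg).FinitePresentation
    exact (RingHom.finitePresentation_algebraMap).mpr inferInstance
  · show FlatMor.IsUnivHomeo (Spec.map (CommRingCat.ofHom (algebraMap A j.1.Alg)))
    rw [isUnivHomeo_SpecMap_iff']
    exact ringUH_of_good_scp hB j.1 j.2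

end Groth.Agent.S7443
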