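import Groth.Statements.S7444
import Groth.Agent.H37.PresUH

set_option autoImplicit false
universe u
open CategoryTheory AlgebraicGeometry
open Mor
open Groth.Agent.H37

namespace Groth.Agent.S7444

/-- Let `φ : A → B` be a ring map such that `Spec B → Spec A` is a universal homeomorphism and all
residue field extensions are trivial (every residue field map is surjective). Then `B`, as an
`A`-algebra, is the colimit of a filtered diagram of finitely presented `A`-algebras `B_i`, each of
which has the same two properties over `A`. (The colimit is taken in the category of rings under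
`A`, over a small filtered index category.) -/
theorem result {A B : Type u} [CommRing A] [CommRing B]
    (φ : A →+* B) (hφ : FlatMor.IsUnivHomeo (Spec.map (CommRingCat.ofHom φ)))
    (hres : ∀ x : Spec (CommRingCat.of B), Function.Surjective ((Spec.map (CommRingCat.ofHom φ)).residueFieldMap x)) :
    ∃ (J : Type u) (_ : SmallCategory J) (_ : IsFiltered J) (F : J ⥤ Under (CommRingCat.of A))
      (c : Limits.Cocone F) (_ : Limits.IsColimit c),
      (∀ j, (F.obj j).hom.hom.FinitePresentation ∧ FlatMor.IsUnivHomeo (Spec.map (F.obj j).hom) ∧
        ∀ x : Spec (F.obj j).right, Function.Surjective ((Spec.map (F.obj j).hom).residueFieldMap x)) ∧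
      Nonempty (c.pt ≅ Under.mk (CommRingCat.ofHom φ)) := by
  letI : Algebra A B := φ.toAlgebra
  have hB : RingUH (algebraMap A B) := (isUnivHomeo_SpecMap_iff' φ).mp hφ
  have hres' : ResSurj (algebraMap A B) := (resSurj_iff φ).mp hres
  obtain ⟨⟨hc⟩, hdir⟩ := (scClass A).exists_colimit (B := B) lifts_sc
    (reach_eq_top_of_ringUH_resSurj hB hres')
  haveI := hdir
  refine ⟨(scClass A).GoodIdx B, inferInstance, inferInstance, (scClass A).diagram,
    (scClass A).cocone, hc, ?_, ⟨Iso.refl _⟩⟩
  intro j
  refine ⟨?_, ?_, ?_⟩
  · show (algebraMap A j.1.Alg).FinitePresentation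
    exact (RingHom.finitePresentation_algebraMap).mpr inferInstance
  · show FlatMor.IsUnivHomeo (Spec.map (CommRingCat.ofHom (algebraMap A j.1.Alg)))
    rw [isUnivHomeo_SpecMap_iff']
    exact ringUH_of_good_sc hB j.1 j.2
  · show ∀ x : Spec (CommRingCat.of j.1.Alg), Function.Surjective
      ((Spec.map (CommRingCat.ofHom (algebraMap A j.1.Alg))).residueFieldMap x)
    rw [resSurj_iff]
    exact resSurj_of_good_sc j.1 j.2

end Groth.Agent.S7444
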