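import Groth.Statements.S7451
import Groth.Agent.H37.ElemAut3

set_option autoImplicit false
universe u
open CategoryTheory AlgebraicGeometry
open Desc
open Groth.Agent.H37

namespace Groth.Agent.S7451

/-- Let `k` be a field and `n ≥ 2`. For `i ≠ j` and `d ≥ 0` let `T_{i,j,d}` be the automorphism of
`𝔸^n_k` given by `x_i ↦ x_i + x_j^d` and fixing the other coordinates. Let `W ⊆ 𝔸^n_k` be a nonempty
open subscheme with `T_{i,j,d}⁻¹(W) = W` for all `i, j, d`. Then either `W = 𝔸^n_k`, or `k` has
prime characteristic `p` and the complement `𝔸^n_k ∖ W` consists of finitely many closed points,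
each of whose coordinates `a` in the residue field satisfies `a^(p^m) = a` for some `m ≥ 1`
(equivalently, is algebraic over `𝔽_p`). -/
theorem result (k : Type u) [Field k] (n : ℕ) (hn : 2 ≤ n)
    (W : (Spec (CommRingCat.of (MvPolynomial (Fin n) k))).Opens)
    (hW : (W : Set ↥(Spec (CommRingCat.of (MvPolynomial (Fin n) k)))).Nonempty)
    (hinv : ∀ (i j : Fin n), i ≠ j → ∀ d : ℕ,
      (Spec.map (CommRingCat.ofHom (MvPolynomial.aeval (R := k)
        (Function.update MvPolynomial.X i (MvPolynomial.X i + MvPolynomial.X j ^ d) :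
          Fin n → MvPolynomial (Fin n) k)).toRingHom)) ⁻¹ᵁ W = W) :
    W = ⊤ ∨ ∃ p : ℕ, p.Prime ∧ CharP k p ∧ ((W : Set ↥(Spec (CommRingCat.of (MvPolynomial (Fin n) k))))ᶜ).Finite ∧
      ∀ x : ↥(Spec (CommRingCat.of (MvPolynomial (Fin n) k))),
        x ∉ (W : Set ↥(Spec (CommRingCat.of (MvPolynomial (Fin n) k)))) →
        IsClosed ({x} : Set ↥(Spec (CommRingCat.of (MvPolynomial (Fin n) k)))) ∧ ∀ i : Fin n, ∃ m : ℕ, 0 < m ∧
          (algebraMap (MvPolynomial (Fin n) k) x.asIdeal.ResidueField (MvPolynomial.X i)) ^ (p ^ m) =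
            algebraMap (MvPolynomial (Fin n) k) x.asIdeal.ResidueField (MvPolynomial.X i) := by
  let Z : Set (PrimeSpectrum (MvPolynomial (Fin n) k)) :=
    ((W : Set ↥(Spec (CommRingCat.of (MvPolynomial (Fin n) k))))ᶜ :)
  have hZc : IsClosed Z := W.isOpen.isClosed_compl
  have key := elemAut_main (k := k) hn Z hZc (by
      intro h
      obtain ⟨x, hx⟩ := hW
      have : x ∈ Z := by rw [h]; trivial
      exact this hx)
    (by
      intro i j hij d x hx hmem
      apply hx
      have h := hinv i j hij d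
      have h2 : x ∈ (Spec.map (CommRingCat.ofHom (MvPolynomial.aeval (R := k)
        (Function.update MvPolynomial.X i (MvPolynomial.X i + MvPolynomial.X j ^ d) :
          Fin n → MvPolynomial (Fin n) k)).toRingHom)) ⁻¹ᵁ W := hmem
      rw [h] at h2
      exact h2)
  rcases key with h | ⟨p, hp, hc, hfin, hpts⟩
  · left
    ext x
    simp only [TopologicalSpace.Opens.coe_top, Set.mem_univ, iff_true]
    by_contra hx
    have : x ∈ Z := hx
    rw [h] at this
    exact this
  · right
    exact ⟨p, hp, hc, hfin, fun x hx => hpts x hx⟩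

end Groth.Agent.S7451
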