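import Groth.Statements.S7457
-- import your own Groth.Agent.* helpers here
import Groth.Agent.H6.GrpdCalc
open Groth.Agent.H6

set_option autoImplicit false
universe u
open CategoryTheory CategoryTheory.Limits AlgebraicGeometry
open Grpd

namespace Groth.Agent.S7457

/-- Let (U, R, s, t, c) be a groupoid scheme over S. Let φ : R x_(t,U,t) R -> R x_(s,U,t) R be the
morphism sending a pair (a, b) with the same target to (a, a^{-1} composed with b), that is, the
morphism whose first component is the first projection and whose second component is c applied to (i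
composed after the first projection, second projection). Then φ is an isomorphism and composed with
c it gives the second projection. Moreover the square with sides c, the second projection R
x_(s,U,t) R -> R, s and s is cartesian. (A groupoid scheme carries U, R, s, t, c, e, i over S with
the groupoid axioms on T-points; c is defined on the fibre product of s and t and sends a pair (a,
b) with s(a) = t(b) to a composed with b.) -/
theorem result (S : Scheme.{u}) (G : Grpd.GroupoidScheme S) : (∀ φ : pullback G.t G.t ⟶ pullback G.s G.t, φ ≫ pullback.fst G.s G.t = pullback.fst G.t G.t → φ ≫ pullback.snd G.s G.t = pullback.lift (pullback.fst G.t G.t ≫ G.i) (pullback.snd G.t G.t) ((Category.assoc _ _ _).trans ((congrArg (fun x => pullback.fst G.t G.t ≫ x) G.i_s).trans pullback.condition)) ≫ G.c → IsIso φ ∧ φ ≫ G.c = pullback.snd G.t G.t) ∧ IsPullback G.c (pullback.snd G.s G.t) G.s G.s := by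
  have hc : G.c = GrpdCalc.comp G (pullback.fst G.s G.t) (pullback.snd G.s G.t)
      pullback.condition := by
    have h := GrpdCalc.lift_comp_c G (𝟙 (pullback G.s G.t))
    rw [Category.id_comp] at h
    rw [h]
    apply GrpdCalc.comp_congr <;> simp only [Category.id_comp]
  refine ⟨?_, ?_⟩
  · intro φ h1 h2
    have h2' : φ ≫ pullback.snd G.s G.t =
        GrpdCalc.comp G (pullback.fst G.t G.t ≫ G.i) (pullback.snd G.t G.t)
          ((Category.assoc _ _ _).trans ((congrArg (fun x => pullback.fst G.t G.t ≫ x) G.i_s).trans
            pullback.condition)) := h2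
    have hcs : φ ≫ G.c = pullback.snd G.t G.t := by
      rw [GrpdCalc.lift_comp_c G φ]
      have e1 := GrpdCalc.comp_inv_comp G (pullback.fst G.t G.t) (pullback.snd G.t G.t)
        pullback.condition
        ((Category.assoc _ _ _).trans ((congrArg (fun x => pullback.fst G.t G.t ≫ x) G.i_s).trans
            pullback.condition))
        (by rw [GrpdCalc.comp_t, Category.assoc, G.i_t])
      refine Eq.trans ?_ e1
      exact GrpdCalc.comp_congr G h1 h2' _ _
    refine ⟨?_, hcs⟩
    have hψ : pullback.fst G.s G.t ≫ G.t =
        GrpdCalc.comp G (pullback.fst G.s G.t) (pullback.snd G.s G.t) pullback.condition ≫ G.t := by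
      rw [GrpdCalc.comp_t]
    refine ⟨⟨pullback.lift (pullback.fst G.s G.t)
      (GrpdCalc.comp G (pullback.fst G.s G.t) (pullback.snd G.s G.t) pullback.condition) hψ,
      ?_, ?_⟩⟩
    · apply pullback.hom_ext
      · rw [Category.assoc, pullback.lift_fst, h1, Category.id_comp]
      · rw [Category.assoc, pullback.lift_snd, Category.id_comp, ← hc, hcs]
    · apply pullback.hom_ext
      · rw [Category.assoc, h1, pullback.lift_fst, Category.id_comp]
      · rw [Category.assoc, h2', Category.id_comp, GrpdCalc.precomp]
        have e2 := GrpdCalc.inv_comp_comp G (pullback.fst G.s G.t) (pullback.snd G.s G.t)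
          pullback.condition (by rw [GrpdCalc.comp_t, Category.assoc, G.i_s])
        refine Eq.trans ?_ e2
        apply GrpdCalc.comp_congr
        · rw [← Category.assoc, pullback.lift_fst]
        · rw [pullback.lift_snd]
  · have w : G.c ≫ G.s = pullback.snd G.s G.t ≫ G.s := by
      rw [hc, GrpdCalc.comp_s]
    refine ⟨⟨w⟩, ⟨PullbackCone.IsLimit.mk _
      (fun K => pullback.lift
        (GrpdCalc.comp G K.fst (K.snd ≫ G.i)
          (by rw [Category.assoc, G.i_t, K.condition])) K.snd
        (by rw [GrpdCalc.comp_s, Category.assoc, G.i_s])) ?_ ?_ ?_⟩⟩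
    · intro K
      rw [GrpdCalc.lift_comp_c]
      have e3 := GrpdCalc.comp_inv_comp' G K.fst K.snd K.condition
        (by rw [Category.assoc, G.i_t, K.condition])
        (by rw [GrpdCalc.comp_s, Category.assoc, G.i_s])
      refine Eq.trans ?_ e3
      apply GrpdCalc.comp_congr
      · rw [pullback.lift_fst]
      · rw [pullback.lift_snd]
    · intro K
      rw [pullback.lift_snd]
    · intro K m hm1 hm2
      apply pullback.hom_ext
      · rw [pullback.lift_fst]
        have hm1' := hm1
        rw [GrpdCalc.lift_comp_c] at hm1'
        have e4 := GrpdCalc.comp_comp_inv G (m ≫ pullback.fst G.s G.t) (m ≫ pullback.snd G.s G.t)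
          (by rw [Category.assoc, Category.assoc, pullback.condition])
          (by rw [GrpdCalc.comp_s, Category.assoc, Category.assoc, Category.assoc, G.i_t])
        refine Eq.trans e4.symm ?_
        apply GrpdCalc.comp_congr
        · exact hm1'
        · rw [hm2]
      · rw [pullback.lift_snd, hm2]

end Groth.Agent.S7457
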