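import Groth.Statements.S7458


set_option autoImplicit false
universe u
open CategoryTheory MonoidalCategory CartesianMonoidalCategory MonObj GrpObj AlgebraicGeometry
open GrpSch

namespace Groth.Agent.S7458

/-- For a group scheme G over a scheme S, a scheme T flat over S and a morphism ψ : T -> G over S, the
map T x_S G -> G sending (t, g) to the product ψ(t)·g is a flat morphism; taking T = G and ψ the
identity, the multiplication G x_S G -> G is flat whenever G is flat over S. -/
theorem result (S : Scheme.{u}) (G : Over S) [GrpObj G] : (∀ (T : Over S) (ψ : T ⟶ G), Flat T.hom → Flat (ψ ▷ G ≫ μ[G]).left) ∧ (Flat G.hom → Flat μ[G].left) := by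
  have key : ∀ (T : Over S) (ψ : T ⟶ G), Flat T.hom → Flat (ψ ▷ G ≫ μ[G]).left := by
    intro T ψ hT
    have hmul : ∀ {Z : Over S} (φ : T ⟶ G) (f : Z ⟶ T ⊗ G),
        f ≫ (φ ▷ G ≫ μ[G]) = (f ≫ fst T G ≫ φ) * (f ≫ snd T G) := by
      intro Z φ f
      rw [Hom.mul_def, ← Category.assoc]
      congr 1
      apply CartesianMonoidalCategory.hom_ext <;> simp
    have hinv : fst T G ≫ ψ ≫ ι[G] = (fst T G ≫ ψ)⁻¹ := by
      rw [Hom.inv_def, Category.assoc]
    -- the automorphism `(t, g) ↦ (t, ψ(t) g)` of `T ⊗ G`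
    let τ : T ⊗ G ⟶ T ⊗ G := lift (fst T G) (ψ ▷ G ≫ μ[G])
    let σ : T ⊗ G ⟶ T ⊗ G := lift (fst T G) ((ψ ≫ ι[G]) ▷ G ≫ μ[G])
    have hτ1 : τ ≫ fst T G = fst T G := lift_fst _ _
    have hτ2 : τ ≫ snd T G = (fst T G ≫ ψ) * snd T G := by
      have := hmul ψ (𝟙 _)
      simp only [Category.id_comp] at this
      rw [← this]
      exact lift_snd _ _
    have hσ1 : σ ≫ fst T G = fst T G := lift_fst _ _
    have hσ2 : σ ≫ snd T G = (fst T G ≫ ψ)⁻¹ * snd T G := by
      have := hmul (ψ ≫ ι[G]) (𝟙 _)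
      simp only [Category.id_comp] at this
      rw [← hinv, ← this]
      exact lift_snd _ _
    have h1 : τ ≫ σ = 𝟙 _ := by
      apply CartesianMonoidalCategory.hom_ext
      · rw [Category.assoc, hσ1, hτ1, Category.id_comp]
      · rw [Category.assoc, hσ2, MonObj.comp_mul, GrpObj.comp_inv, ← Category.assoc, hτ1, hτ2,
          ← _root_.mul_assoc, inv_mul_cancel, _root_.one_mul, Category.id_comp]
    have h2 : σ ≫ τ = 𝟙 _ := by
      apply CartesianMonoidalCategory.hom_ext
      · rw [Category.assoc, hτ1, hσ1, Category.id_comp]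
      · rw [Category.assoc, hτ2, MonObj.comp_mul, ← Category.assoc, hσ1, hσ2,
          ← _root_.mul_assoc, mul_inv_cancel, _root_.one_mul, Category.id_comp]
    have hτ : IsIso τ := ⟨σ, h1, h2⟩
    have hfac : ψ ▷ G ≫ μ[G] = τ ≫ snd T G := (lift_snd _ _).symm
    rw [hfac]
    have : IsIso τ.left := inferInstanceAs (IsIso ((Over.forget S).map τ))
    have : Flat (snd T G).left := by
      rw [Over.snd_left]
      infer_instance
    show Flat (τ.left ≫ (snd T G).left)
    infer_instance
  refine ⟨key, fun hG => ?_⟩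
  have := key G (𝟙 G) hG
  simpa using this

end Groth.Agent.S7458
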