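import Groth.Statements.S7469


set_option autoImplicit false
universe w u
open HTop

namespace Groth.Agent.S7469

open CategoryTheory CategoryTheory.Limits AlgebraicGeometry in
/-- The base change of a standard V covering along a morphism of affine schemes T' -> T is a standard V
covering of T'. -/
theorem result {T T' : Scheme.{u}} [IsAffine T'] (g : T' ⟶ T) (E : PreZeroHypercover.{w} T) (hE : HTop.IsStandardV E) : HTop.IsStandardV (E.pullback₁ g) := by
  have hT := hE.isAffine
  have hobj := hE.isAffine_obj
  refine ⟨inferInstance, hE.finite_index, ?_, ?_⟩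
  · intro j
    show IsAffine (pullback g (E.f j))
    infer_instance
  · intro V _ _ h
    obtain ⟨W, hW1, hW2, φ, hφ, j, g', hg'⟩ := hE.lift V (h ≫ g)
    refine ⟨W, hW1, hW2, φ, hφ, j, ?_, ?_⟩
    · exact pullback.lift (Spec.map φ ≫ h) g' (by rw [hg', Category.assoc])
    · show pullback.lift (Spec.map φ ≫ h) g' _ ≫ pullback.fst g (E.f j) = Spec.map φ ≫ h
      exact pullback.lift_fst _ _ _

end Groth.Agent.S7469
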