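import Groth.Statements.S7470


set_option autoImplicit false
universe w u
open HTop

namespace Groth.Agent.S7470

open CategoryTheory CategoryTheory.Limits AlgebraicGeometry in
/-- Let E be a standard V covering of an affine scheme T and, for every member T_j of E, let F_j be a
standard V covering of T_j. Then the composite family of all T_ji -> T is a standard V covering. -/
theorem result {T : Scheme.{u}} (E : PreZeroHypercover.{w} T) (hE : HTop.IsStandardV E) (F : ∀ j, PreZeroHypercover.{w} (E.X j)) (hF : ∀ j, HTop.IsStandardV (F j)) : HTop.IsStandardV (E.bind F) := by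
  have hfin := hE.finite_index
  have hfin' := fun j => (hF j).finite_index
  refine ⟨hE.isAffine, ?_, ?_, ?_⟩
  · show Finite (Σ (i : E.I₀), (F i).I₀)
    infer_instance
  · rintro ⟨j, i⟩
    exact (hF j).isAffine_obj i
  · intro V _ _ g
    obtain ⟨W, hW1, hW2, φ, hφ, j, g', hg'⟩ := hE.lift V g
    obtain ⟨W', hW'1, hW'2, ψ, hψ, i, g'', hg''⟩ := (hF j).lift W g'
    refine ⟨W', hW'1, hW'2, φ ≫ ψ, ?_, ⟨j, i⟩, g'', ?_⟩
    · refine ⟨?_, ?_⟩
      · rw [CommRingCat.hom_comp]
        exact hψ.1.comp hφ.1
      · rw [CommRingCat.hom_comp]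
        have := hφ.2
        have := hψ.2
        exact RingHom.isLocalHom_comp _ _
    · show g'' ≫ (F j).f i ≫ E.f j = Spec.map (φ ≫ ψ) ≫ g
      rw [← Category.assoc, hg'', Category.assoc, hg', Spec.map_comp, Category.assoc]

end Groth.Agent.S7470
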