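import Groth.Statements.S7474
import Groth.Agent.H37.VSheaf

set_option autoImplicit false
universe w u
open HTop

namespace Groth.Agent.S7474

open CategoryTheory CategoryTheory.Limits AlgebraicGeometry in
/-- A presheaf F of sets on the category of all schemes has the sheaf property for every V covering
family exactly when F is a sheaf for the Zariski topology and has the sheaf property for each
standard V covering. -/
theorem result (F : Scheme.{u}ᵒᵖ ⥤ Type w) : HTop.IsVSheaf F ↔ (Presieve.IsSheaf Scheme.zariskiTopology F ∧ ∀ (T : Scheme.{u}) (E : PreZeroHypercover.{u} T), HTop.IsStandardV E → Presieve.IsSheafFor F E.presieve₀) := by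
  constructor
  · intro h
    refine ⟨?_, ?_⟩
    · rw [Scheme.zariskiTopology, Scheme.grothendieckTopology,
        Precoverage.isSheaf_toGrothendieck_iff_of_isStableUnderBaseChange]
      intro X R hR
      obtain ⟨E, rfl⟩ := R.exists_eq_preZeroHypercover
      rw [Scheme.presieve₀_mem_precoverage_iff] at hR
      apply h
      rw [HTop.presieve₀_mem_vPrecoverage_iff]
      exact Groth.Agent.H37.isVCover_of_openImmersions E hR.2 (fun t => by
        obtain ⟨i, hi⟩ := hR.1 t
        exact ⟨i, hi⟩)
    · intro T E hE
      apply h
      rw [HTop.presieve₀_mem_vPrecoverage_iff]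
      exact Groth.Agent.H37.standardV_isVCover E hE
  · rintro ⟨hZ, hV⟩ X R hR
    obtain ⟨E, rfl⟩ := R.exists_eq_preZeroHypercover
    rw [HTop.presieve₀_mem_vPrecoverage_iff] at hR
    rw [Presieve.isSheafFor_iff_generate]
    have hgen : ∀ i, (Sieve.generate E.presieve₀) (E.f i) := fun i =>
      ⟨_, 𝟙 _, E.f i, E.presieve₀_f i, Category.id_comp _⟩
    exact Groth.Agent.H37.isSheafFor_of_isVCover F hZ hV E hR (Sieve.generate E.presieve₀) hgen

end Groth.Agent.S7474
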