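import Groth.Statements.S7475
import Groth.Agent.H37.VSheaf2
import Groth.Agent.S7474

set_option autoImplicit false
universe w u
open HTop

namespace Groth.Agent.S7475

open CategoryTheory CategoryTheory.Limits AlgebraicGeometry in
/-- Variant with a single arrow: a presheaf of sets on all schemes has the sheaf property for every V
covering family exactly when it is a Zariski sheaf and has the sheaf property for every morphism V
-> U of affine schemes that on its own forms a standard V covering. -/
theorem result (F : Scheme.{u}ᵒᵖ ⥤ Type w) : HTop.IsVSheaf F ↔ (Presieve.IsSheaf Scheme.zariskiTopology F ∧ ∀ (U V : Scheme.{u}) (f : V ⟶ U), HTop.IsStandardV (PreZeroHypercover.singleton f) → Presieve.IsSheafFor F (Presieve.singleton f)) := by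
  constructor
  · intro h
    refine ⟨((Groth.Agent.S7474.result F).mp h).1, ?_⟩
    intro U V f hf
    have h1 := h _ ((HTop.presieve₀_mem_vPrecoverage_iff _).mpr
      (Groth.Agent.H37.standardV_isVCover _ hf))
    rwa [PreZeroHypercover.presieve₀_singleton] at h1
  · rintro ⟨hZ, hS⟩
    refine (Groth.Agent.S7474.result F).mpr ⟨hZ, ?_⟩
    intro T E hE
    have hfin := hE.finite_index
    rw [← Groth.Agent.H37.isSheafFor_sigma_iff hZ E]
    exact hS _ _ _ (Groth.Agent.H37.standardV_sigma E hE)

end Groth.Agent.S7475
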