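import Groth.Statements.S7478
import Groth.Agent.H37.SchemeAux

set_option autoImplicit false
universe w u
open HTop

namespace Groth.Agent.S7478

open CategoryTheory CategoryTheory.Limits AlgebraicGeometry in
/-- The base change of a standard ph covering along a morphism of affine schemes T' -> T is a standard
ph covering of T'. -/
theorem result {T T' : Scheme.{u}} [IsAffine T'] (g : T' ⟶ T) (E : PreZeroHypercover.{w} T) (hE : HTop.IsStandardPh E) : HTop.IsStandardPh (E.pullback₁ g) := by
  have hT := hE.isAffine
  have hobj := hE.isAffine_obj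
  obtain ⟨U, f, ι, hprop, hsurj, hopen, hcomp, hcov⟩ := hE.exists_proper
  refine ⟨inferInstance, hE.finite_index, ?_, ?_⟩
  · intro j
    show IsAffine (pullback g (E.f j))
    infer_instance
  · let ι' : ∀ j, pullback g (E.f j) ⟶ pullback g f := fun j =>
      pullback.lift (pullback.fst g (E.f j)) (pullback.snd g (E.f j) ≫ ι j)
        (by rw [Category.assoc, hcomp j, pullback.condition])
    have hsq : ∀ j, IsPullback (pullback.snd g (E.f j)) (ι' j) (ι j) (pullback.snd g f) := by
      intro j
      refine IsPullback.of_bot ?_ ?_ (IsPullback.of_hasPullback g f).flip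
      · have h1 : ι' j ≫ pullback.fst g f = pullback.fst g (E.f j) := pullback.lift_fst _ _ _
        rw [h1, hcomp j]
        exact (IsPullback.of_hasPullback g (E.f j)).flip
      · exact (pullback.lift_snd _ _ _).symm
    refine ⟨pullback g f, pullback.fst g f, ι', ?_, ?_, ?_, ?_, ?_⟩
    · exact MorphismProperty.pullback_fst (P := @IsProper) g f hprop
    · exact MorphismProperty.pullback_fst (P := @Surjective) g f hsurj
    · intro j
      exact MorphismProperty.of_isPullback (P := @IsOpenImmersion) (hsq j) (hopen j)
    · intro j
      exact pullback.lift_fst _ _ _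
    · intro x
      obtain ⟨j, y, hy⟩ := hcov ((pullback.snd g f).base x)
      refine ⟨j, ?_⟩
      obtain ⟨z, hz1, hz2⟩ := Groth.Agent.H37.isPullback_exists_preimage (hsq j) y x (by rw [hy])
      exact ⟨z, hz2⟩

end Groth.Agent.S7478
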