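import Groth.Statements.S7483
import Groth.Agent.H40.DQ.Effective

set_option autoImplicit false
open CategoryTheory CategoryTheory.Limits AlgebraicGeometry
universe u
open Desc

namespace Groth.Agent.S7483

/-- Suppose p : X -> Y is surjective and finite locally free (that is, finite, flat, and locally of
finite presentation), and consider a scheme V over X with the property that any finite collection of
points of V mapping to a common point of Y lies inside some affine open subset of V. Under these
assumptions, each descent datum on V relative to p is effective, meaning it is isomorphic to the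
canonical descent datum attached to some scheme over Y. (Descent data are formulated in
functor-of-points form.) -/
theorem result {X Y : Scheme.{u}} (p : X ⟶ Y) [Surjective p] [IsFinite p] [Flat p] [LocallyOfFinitePresentation p] (D : Desc.SchDD p) (hV : ∀ (y : Y) (s : Finset ↑(D.obj.left)), (∀ v ∈ s, p (D.obj.hom v) = y) → ∃ U : D.obj.left.Opens, IsAffineOpen U ∧ ∀ v ∈ s, v ∈ U) : ∃ W : Over Y, Nonempty ((Desc.toDD p).obj W ≅ D) := by
  classical
  apply Groth.Agent.H40.DQ.exists_effective_of_orbits D
  intro x
  haveI : IsFinite (pullback.fst (D.obj.hom ≫ p) p) := inferInstance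
  have hfin : ((pullback.fst (D.obj.hom ≫ p) p) ⁻¹' {x}).Finite :=
    (pullback.fst (D.obj.hom ≫ p) p).finite_preimage_singleton x
  have hfin' : ((fun r => Groth.Agent.H40.DQ.tmor D r) '' ((pullback.fst (D.obj.hom ≫ p) p) ⁻¹' {x})).Finite :=
    hfin.image _
  obtain ⟨W, hW, hWs⟩ := hV (p (D.obj.hom x)) hfin'.toFinset (by
    intro v hv
    rw [Set.Finite.mem_toFinset] at hv
    obtain ⟨r, hr, rfl⟩ := hv
    have h1 : p (D.obj.hom (Groth.Agent.H40.DQ.tmor D r)) =
        (pullback.snd (D.obj.hom ≫ p) p ≫ p) r := by
      rw [← Groth.Agent.H40.DQ.tmor_hom_assoc]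
      rfl
    rw [h1, ← pullback.condition]
    have hr' : (pullback.fst (D.obj.hom ≫ p) p) r = x := hr
    rw [← hr']
    rfl)
  refine ⟨W, hW, fun r hr => hWs _ ?_⟩
  rw [Set.Finite.mem_toFinset]
  exact ⟨r, hr, rfl⟩

end Groth.Agent.S7483
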