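import Groth.Statements.S7484
import Groth.Agent.H40.DQ.Effective
import Groth.Agent.H40.DQ.Count

set_option autoImplicit false
open CategoryTheory CategoryTheory.Limits AlgebraicGeometry
universe u
open Desc

namespace Groth.Agent.S7484

/-- Let p : X -> Y be a surjective finite locally free morphism and d a positive integer such that for
every algebraically closed field k and every k-point of Y there are at most d k-points of X over it.
Let V be a scheme over X such that any d points of V (not necessarily distinct) lying over one point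
of Y are contained in an affine open of V. Then every descent datum on V relative to p is effective.
(Descent data are taken in functor-of-points form.) -/
theorem result {X Y : Scheme.{u}} (p : X ⟶ Y) [Surjective p] [IsFinite p] [Flat p] [LocallyOfFinitePresentation p] (d : ℕ) (hd : 0 < d) (hfib : ∀ (k : Type u) [Field k] [IsAlgClosed k] (y : Spec (CommRingCat.of k) ⟶ Y), Set.encard {x : Spec (CommRingCat.of k) ⟶ X | x ≫ p = y} ≤ d) (D : Desc.SchDD p) (hV : ∀ (y : Y) (v : Fin d → ↑(D.obj.left)), (∀ i, p (D.obj.hom (v i)) = y) → ∃ U : D.obj.left.Opens, IsAffineOpen U ∧ ∀ i, v i ∈ U) : ∃ W : Over Y, Nonempty ((Desc.toDD p).obj W ≅ D) := by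
  classical
  apply Groth.Agent.H40.DQ.exists_effective_of_orbits D
  intro x
  haveI : IsFinite (pullback.fst (D.obj.hom ≫ p) p) := inferInstance
  have hcard : Set.encard ((pullback.fst (D.obj.hom ≫ p) p) ⁻¹' {x}) ≤ d :=
    Groth.Agent.H40.DQ.encard_preimage_le p d hfib (D.obj.hom ≫ p) x
  set O : Set ↑(D.obj.left) :=
    (fun r => Groth.Agent.H40.DQ.tmor D r) '' ((pullback.fst (D.obj.hom ≫ p) p) ⁻¹' {x}) with hO
  have hOcard : Set.encard O ≤ d := (Set.encard_image_le _ _).trans hcard
  have hOfin : O.Finite := Set.finite_of_encard_le_coe hOcard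
  have hOover : ∀ w ∈ O, p (D.obj.hom w) = p (D.obj.hom x) := by
    rintro _ ⟨r, hr, rfl⟩
    have h1 : p (D.obj.hom (Groth.Agent.H40.DQ.tmor D r)) =
        (pullback.snd (D.obj.hom ≫ p) p ≫ p) r := by
      rw [← Groth.Agent.H40.DQ.tmor_hom_assoc]
      rfl
    rw [h1, ← pullback.condition]
    have hr' : (pullback.fst (D.obj.hom ≫ p) p) r = x := hr
    rw [← hr']
    rfl
  -- enumerate `O` by `Fin d`
  have hncard : O.ncard ≤ d := by
    have := hOfin.cast_ncard_eq
    rw [← this] at hOcard
    exact_mod_cast hOcard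
  haveI : Fintype O := hOfin.fintype
  let e : O ≃ Fin O.ncard := by
    have : Fintype.card O = O.ncard := (Set.ncard_eq_toFinset_card' O).symm ▸ (Set.toFinset_card O).symm
    exact (Fintype.equivFin O).trans (finCongr this)
  let f : Fin d → ↑(D.obj.left) := fun i =>
    if h : (i : ℕ) < O.ncard then (e.symm ⟨i, h⟩ : O).1 else x
  obtain ⟨W, hW, hWs⟩ := hV (p (D.obj.hom x)) f (by
    intro i
    by_cases h : (i : ℕ) < O.ncard
    · simp only [f, h, dif_pos]
      exact hOover _ (e.symm ⟨i, h⟩).2
    · simp only [f, h, dif_neg, not_false_eq_true])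
  refine ⟨W, hW, fun r hr => ?_⟩
  have hmem : Groth.Agent.H40.DQ.tmor D r ∈ O := ⟨r, hr, rfl⟩
  let j := e ⟨_, hmem⟩
  have hj : (j : ℕ) < d := lt_of_lt_of_le j.2 hncard
  have := hWs ⟨j, hj⟩
  simp only [f, j.2, dif_pos] at this
  have h2 : e.symm ⟨(j : ℕ), j.2⟩ = ⟨_, hmem⟩ := by
    rw [Fin.eta]
    exact e.symm_apply_apply _
  rw [h2] at this
  exact this

end Groth.Agent.S7484
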