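import Groth.Statements.S7485
import Groth.Agent.H40.DQ.Effective
import Groth.Agent.H67.AmpleFinite

set_option autoImplicit false
open CategoryTheory CategoryTheory.Limits AlgebraicGeometry
universe u
open Desc

namespace Groth.Agent.S7485

/-- Let p : X -> Y be a surjective finite locally free morphism and V a scheme over X which has an ample
invertible module. Then every descent datum on V relative to p is effective. (Descent data are taken
in functor-of-points form.) -/
theorem result {X Y : Scheme.{u}} (p : X ⟶ Y) [Surjective p] [IsFinite p] [Flat p] [LocallyOfFinitePresentation p] (D : Desc.SchDD p) (L : D.obj.left.Modules) (hL : CohB1.IsAmple L) : ∃ W : Over Y, Nonempty ((Desc.toDD p).obj W ≅ D) := by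
  classical
  apply Groth.Agent.H40.DQ.exists_effective_of_orbits D
  intro x
  haveI : IsFinite (pullback.fst (D.obj.hom ≫ p) p) := inferInstance
  have hfin : ((pullback.fst (D.obj.hom ≫ p) p) ⁻¹' {x}).Finite :=
    (pullback.fst (D.obj.hom ≫ p) p).finite_preimage_singleton x
  have hfin' : ((fun r => Groth.Agent.H40.DQ.tmor D r) '' ((pullback.fst (D.obj.hom ≫ p) p) ⁻¹' {x})).Finite :=
    hfin.image _
  obtain ⟨n, s, hZ, -, haff⟩ := Groth.Agent.H67.AmpleFinite.exists_affine_genLocus_of_finite hL _ hfin' ⊤
    (fun _ _ => trivial)
  refine ⟨_, haff, fun r hr => hZ ⟨r, hr, rfl⟩⟩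

end Groth.Agent.S7485
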