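import Groth.Statements.S7490
import Groth.Agent.H40.QuotShLoc

set_option autoImplicit false
open CategoryTheory CategoryTheory.Limits AlgebraicGeometry
universe u
open QuotSh

namespace Groth.Agent.S7490

/-- Let K be a precoverage on schemes (the topology τ), S a scheme, s, t : R -> U morphisms of schemes
over S (a pre-relation) and q : U -> M a morphism over S such that (1) q coequalizes s and t, (2)
the induced map of τ-sheaves h_U -> h_M is an epimorphism, and (3) the map h_R -> h_(U x_M U)
induced by (t, s) is an epimorphism of τ-sheaves. Then M, through q, represents the quotient sheaf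
U/R: the canonical map from the coequalizer of h_s, h_t to h_M is an isomorphism. (The published
statement takes τ to be the Zariski, étale, fppf, smooth or syntomic topology; this row allows the
topology generated by any precoverage K.) -/
theorem result (K : Precoverage Scheme.{u}) {S : Scheme.{u}} {R U M : Over S} (s t : R ⟶ U) (q : U ⟶ M) (w : s ≫ q = t ≫ q) (w' : t.left ≫ q.left = s.left ≫ q.left) (h₂ : Epi (QuotSh.repMap K q)) (h₃ : Epi (QuotSh.repMap K (Over.homMk (pullback.lift t.left s.left w') (((Category.assoc _ _ _).symm.trans (congrArg (fun k => k ≫ U.hom) (pullback.lift_fst t.left s.left w'))).trans (Over.w t)) : R ⟶ Over.mk (pullback.fst q.left q.left ≫ U.hom)))) : QuotSh.IsQuotient K s t q := by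
  rw [Groth.Agent.H40.QuotShLoc.isQuotient_iff]
  refine ⟨w, (Groth.Agent.H40.QuotShLoc.epi_repMap_iff K q).1 h₂, ?_⟩
  intro T a b hab
  have hab' : b.left ≫ q.left = a.left ≫ q.left := by
    rw [← Over.comp_left, ← Over.comp_left, hab]
  let c : T ⟶ Over.mk (pullback.fst q.left q.left ≫ U.hom) :=
    Over.homMk (pullback.lift b.left a.left hab') (by
      change pullback.lift b.left a.left hab' ≫ pullback.fst q.left q.left ≫ U.hom = T.hom
      rw [pullback.lift_fst_assoc]
      exact Over.w b)
  have hc := (Groth.Agent.H40.QuotShLoc.epi_repMap_iff K _).1 h₃ T c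
  refine (QuotSh.J K S).superset_covering ?_ hc
  rintro T' f ⟨r, hr⟩
  refine .rel _ _ ⟨r, ?_, ?_⟩
  · apply Over.OverMorphism.ext
    have := congr(($hr).left ≫ pullback.snd q.left q.left)
    simp only [Over.comp_left, Over.homMk_left, c, Category.assoc] at this
    rw [pullback.lift_snd, pullback.lift_snd] at this
    simpa using this
  · apply Over.OverMorphism.ext
    have := congr(($hr).left ≫ pullback.fst q.left q.left)
    simp only [Over.comp_left, Over.homMk_left, c, Category.assoc] at this
    rw [pullback.lift_fst, pullback.lift_fst] at this
    simpa using this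

end Groth.Agent.S7490
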