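import Groth.Statements.S7494
import Mathlib

set_option autoImplicit false
universe u
open CategoryTheory MonoidalCategory CartesianMonoidalCategory MonObj GrpObj AlgebraicGeometry
open AlgGrp

namespace Groth.Agent.S7494

section
variable {S : Scheme.{u}} {G X : Over S} [GrpObj G] (a : AlgGrp.Action G X)

lemma one_smul' {T : Over S} (x : T ⟶ X) : lift (toUnit T ≫ η[G]) x ≫ a.act = x := by
  have h : lift (toUnit T ≫ η[G]) x = lift (toUnit T) x ≫ (η[G] ▷ X) := by simp
  rw [h, Category.assoc, a.one_act]
  simp

lemma mul_smul' {T : Over S} (g h : T ⟶ G) (x : T ⟶ X) :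
    lift (g * h) x ≫ a.act = lift g (lift h x ≫ a.act) ≫ a.act := by
  have h1 : lift (g * h) x = lift (lift g h) x ≫ (μ[G] ▷ X) := by
    simp [Hom.mul_def]
  rw [h1, Category.assoc, a.mul_act]
  simp

end


/-- Let G be a group scheme over S acting on a scheme X over S by a. The action is free, meaning that
for every scheme T over S and all T-points g of G and x of X with g · x = x one has g = 1, if and
only if the morphism G x_S X -> X x_S X, (g, x) ↦ (a(g, x), x), is a monomorphism of schemes. -/
theorem result {S : Scheme.{u}} (G X : Over S) [GrpObj G] (a : AlgGrp.Action G X) : (∀ (T : Over S) (g : T ⟶ G) (x : T ⟶ X), lift g x ≫ a.act = x → g = toUnit T ≫ η[G]) ↔ Mono (lift a.act (snd G X)).left := by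
  have hmono : Mono (lift a.act (snd G X)).left ↔ Mono (lift a.act (snd G X)) := by
    constructor
    · intro h; exact Over.mono_of_mono_left _
    · intro h; infer_instance
  rw [hmono]
  constructor
  · intro hfree
    constructor
    intro T u v huv
    have hu : u = lift (u ≫ fst G X) (u ≫ snd G X) := by simp
    have hv : v = lift (v ≫ fst G X) (v ≫ snd G X) := by simp
    have h1 := congrArg (· ≫ fst X X) huv
    have h2 := congrArg (· ≫ snd X X) huv
    simp only [Category.assoc, lift_fst, lift_snd] at h1 h2
    set g := u ≫ fst G X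
    set x := u ≫ snd G X
    set g' := v ≫ fst G X
    set x' := v ≫ snd G X
    have hact : lift g x ≫ a.act = lift g' x ≫ a.act := by
      rw [← hu, h1, hv, ← h2]
    -- (g'⁻¹ * g) • x = x
    have h3 : lift (g'⁻¹ * g) x ≫ a.act = x := by
      rw [mul_smul', hact, ← mul_smul', inv_mul_cancel, Hom.one_def, one_smul']
    have h4 := hfree T (g'⁻¹ * g) x h3
    rw [← Hom.one_def, inv_mul_eq_one] at h4
    rw [hu, hv, ← h2, h4]
  · intro hm T g x hgx
    have h1 : lift g x ≫ lift a.act (snd G X) = lift (toUnit T ≫ η[G]) x ≫ lift a.act (snd G X) := by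
      apply CartesianMonoidalCategory.hom_ext
      · simp only [Category.assoc, lift_fst]
        rw [hgx, one_smul']
      · simp
    have h2 := (cancel_mono _).mp h1
    have h3 := congrArg (· ≫ fst G X) h2
    simpa using h3

end Groth.Agent.S7494
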