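import Groth.Statements.S7496


set_option autoImplicit false
universe w u
open CategoryTheory CategoryTheory.Limits AlgebraicGeometry
open HTop

namespace Groth.Agent.S7496

/-- Let T be a quasi-separated scheme and {f_i : T_i -> T} a family of morphisms. Then every affine open
of T is the union of the images of finitely many quasi-compact opens of the T_i (the
quasi-compactness condition in the definition of an fpqc covering) if and only if for every point t
of T there are finitely many quasi-compact opens U_j of members T_(i_j) such that the union of the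
f_(i_j)(U_j) is a neighbourhood of t. (The published statement also asks every f_i to be flat, on
both sides, and lists two more equivalent forms of the quasi-compactness condition; this row omits
flatness, which plays no part in the equivalence, and states only the equivalence of the
quasi-compactness condition with the neighbourhood condition.) -/
theorem result {T : Scheme.{u}} [QuasiSeparatedSpace T] (E : PreZeroHypercover.{w} T) : QuasiCompactCover E ↔ ∀ t : T, ∃ (n : ℕ) (i : Fin n → E.I₀) (V : ∀ j, (E.X (i j)).Opens), (∀ j, IsCompact (V j : Set (E.X (i j)))) ∧ (⋃ j, ⇑(E.f (i j)) '' (V j : Set (E.X (i j)))) ∈ nhds t := by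
  constructor
  · intro h t
    obtain ⟨_, ⟨U, hU, rfl⟩, htU, -⟩ := T.isBasis_affineOpens.exists_subset_of_mem_open
      (Set.mem_univ t) isOpen_univ
    obtain ⟨n, a, V, hV, heq⟩ :=
      QuasiCompactCover.exists_isAffineOpen_of_isCompact E (U := U) (IsAffineOpen.isCompact hU)
    exact ⟨n, a, V, fun j => (hV j).isCompact, by rw [heq]; exact U.2.mem_nhds htU⟩
  · intro h
    refine ⟨fun {U} hU => ?_⟩
    apply IsCompactOpenCovered.of_isCompact_of_forall_exists_isCompactOpenCovered hU.isCompact
    intro x hxU
    obtain ⟨n, i, V, hV, hN⟩ := h x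
    have hopen : IsOpen (interior (⋃ j, ⇑(E.f (i j)) '' (V j : Set (E.X (i j)))) ∩ (U : Set T)) :=
      isOpen_interior.inter U.2
    have hx : x ∈ interior (⋃ j, ⇑(E.f (i j)) '' (V j : Set (E.X (i j)))) ∩ (U : Set T) :=
      ⟨mem_interior_iff_mem_nhds.mpr hN, hxU⟩
    obtain ⟨_, ⟨D, hD, rfl⟩, hxD, hDsub⟩ :=
      T.isBasis_affineOpens.exists_subset_of_mem_open hx hopen
    refine ⟨D, fun y hy => (hDsub hy).2, hxD, D.2, ?_⟩
    refine IsCompactOpenCovered.of_finite (κ := Fin n) i
      (fun j => V j ⊓ (E.f (i j)) ⁻¹ᵁ D) ?_ ?_
    · intro j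
      haveI : CompactSpace ((V j : (E.X (i j)).Opens) : Scheme.{u}) :=
        isCompact_iff_compactSpace.mp (hV j)
      have hc := QuasiCompact.isCompact_preimage (f := (V j).ι ≫ E.f (i j)) _ D.2
        (IsAffineOpen.isCompact hD)
      have himg := hc.image (V j).ι.continuous
      convert himg using 1
      ext y
      constructor
      · rintro ⟨hy1, hy2⟩
        exact ⟨⟨y, hy1⟩, hy2, rfl⟩
      · rintro ⟨v, hv, rfl⟩
        exact ⟨v.2, hv⟩
    · ext y
      constructor
      · intro hy
        rw [Set.mem_iUnion] at hy
        obtain ⟨j, v, hv, rfl⟩ := hy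
        exact hv.2
      · intro hy
        have h1 := interior_subset (hDsub hy).1
        rw [Set.mem_iUnion] at h1
        obtain ⟨j, v, hv, rfl⟩ := h1
        exact Set.mem_iUnion.mpr ⟨j, v, ⟨hv, hy⟩, rfl⟩

end Groth.Agent.S7496
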