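import Groth.Statements.S7500
-- (no extra imports)

set_option autoImplicit false
universe u
open CategoryTheory CategoryTheory.Limits AlgebraicGeometry
open Grpd

namespace Groth.Agent.S7500

section
variable {S : Scheme.{u}} (G : Grpd.GroupoidScheme S)

/-- composition of T-points -/
noncomputable abbrev cmp {T : Scheme.{u}} (a b : T ⟶ G.R) (h : a ≫ G.s = b ≫ G.t) : T ⟶ G.R :=
  pullback.lift a b h ≫ G.c

lemma cmp_congr {T : Scheme.{u}} {a a' b b' : T ⟶ G.R} (h : a ≫ G.s = b ≫ G.t) (ha : a = a')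
    (hb : b = b') : cmp G a b h = cmp G a' b' (by rw [← ha, ← hb]; exact h) := by
  subst ha; subst hb; rfl

lemma precomp_cmp {T T' : Scheme.{u}} (f : T' ⟶ T) (a b : T ⟶ G.R) (h : a ≫ G.s = b ≫ G.t) :
    f ≫ cmp G a b h = cmp G (f ≫ a) (f ≫ b) (by rw [Category.assoc, Category.assoc, h]) := by
  unfold cmp
  rw [← Category.assoc]
  congr 1
  apply pullback.hom_ext
  · rw [Category.assoc, pullback.lift_fst, pullback.lift_fst]
  · rw [Category.assoc, pullback.lift_snd, pullback.lift_snd]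

lemma j_fst : G.j ≫ pullback.fst G.pU G.pU = G.t := by
  unfold GroupoidScheme.j; rw [pullback.lift_fst]

lemma j_snd : G.j ≫ pullback.snd G.pU G.pU = G.s := by
  unfold GroupoidScheme.j; rw [pullback.lift_snd]

lemma diag_fst : G.diag ≫ pullback.fst G.pU G.pU = 𝟙 _ := by
  unfold GroupoidScheme.diag; rw [pullback.lift_fst]

lemma diag_snd : G.diag ≫ pullback.snd G.pU G.pU = 𝟙 _ := by
  unfold GroupoidScheme.diag; rw [pullback.lift_snd]

/-- a T-point of `R ×_{j,j} R` has equal targets -/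
lemma eq_t_of_eq_j {T : Scheme.{u}} {a b : T ⟶ G.R} (h : a ≫ G.j = b ≫ G.j) : a ≫ G.t = b ≫ G.t := by
  have := congrArg (· ≫ pullback.fst G.pU G.pU) h
  simpa only [Category.assoc, j_fst] using this

lemma eq_s_of_eq_j {T : Scheme.{u}} {a b : T ⟶ G.R} (h : a ≫ G.j = b ≫ G.j) : a ≫ G.s = b ≫ G.s := by
  have := congrArg (· ≫ pullback.snd G.pU G.pU) h
  simpa only [Category.assoc, j_snd] using this

/-- the inclusion of the stabilizer in `R` -/
noncomputable def stabFst : G.stabilizer ⟶ G.R := pullback.fst G.j G.diag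

lemma stabFst_j : stabFst G ≫ G.j = G.stabilizerToU ≫ G.diag := pullback.condition

lemma stab_t : stabFst G ≫ G.t = G.stabilizerToU := by
  have := congrArg (fun m => m ≫ pullback.fst G.pU G.pU) (stabFst_j G)
  simp only [Category.assoc, j_fst, diag_fst, Category.comp_id] at this
  exact this

lemma stab_s : stabFst G ≫ G.s = G.stabilizerToU := by
  have := congrArg (fun m => m ≫ pullback.snd G.pU G.pU) (stabFst_j G)
  simp only [Category.assoc, j_snd, diag_snd, Category.comp_id] at this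
  exact this

/-- lift into the stabilizer -/
noncomputable def stabLift {T : Scheme.{u}} (a : T ⟶ G.R) (x : T ⟶ G.U) (hs : a ≫ G.s = x)
    (ht : a ≫ G.t = x) : T ⟶ G.stabilizer :=
  pullback.lift a x (by
    apply pullback.hom_ext
    · rw [Category.assoc, Category.assoc, j_fst, diag_fst, Category.comp_id, ht]
    · rw [Category.assoc, Category.assoc, j_snd, diag_snd, Category.comp_id, hs])

lemma stabLift_fst {T : Scheme.{u}} (a : T ⟶ G.R) (x : T ⟶ G.U) (hs : a ≫ G.s = x)
    (ht : a ≫ G.t = x) : stabLift G a x hs ht ≫ stabFst G = a :=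
  pullback.lift_fst _ _ _

lemma stabLift_toU {T : Scheme.{u}} (a : T ⟶ G.R) (x : T ⟶ G.U) (hs : a ≫ G.s = x)
    (ht : a ≫ G.t = x) : stabLift G a x hs ht ≫ G.stabilizerToU = x :=
  pullback.lift_snd _ _ _

lemma stab_hom_ext {T : Scheme.{u}} {g g' : T ⟶ G.stabilizer} (h1 : g ≫ stabFst G = g' ≫ stabFst G)
    (h2 : g ≫ G.stabilizerToU = g' ≫ G.stabilizerToU) : g = g' :=
  pullback.hom_ext h1 h2

end


/-- Let (U, R, s, t, c) be a groupoid scheme over S and G -> U its stabilizer group scheme (the base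
change of j = (t, s) along the diagonal). The action of G on R by composition, base changed to G_0 =
G x_(U, pr_0) (U x_S U), makes R a pseudo G_0-torsor over U x_S U. Concretely: let α : G x_(U, t) R
-> R x_(s, U, t) R be the morphism with components (γ viewed in R, r) and β : G x_(U, t) R -> R
x_(j, U x_S U, j) R the morphism with components (c ∘ α, r); then β is an isomorphism. (A groupoid
scheme carries U, R, s, t, c, e, i over S with the groupoid axioms on T-points; c is defined on the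
fibre product of s and t and sends a pair (a, b) with s(a) = t(b) to a composed with b.) -/
theorem result (S : Scheme.{u}) (G : Grpd.GroupoidScheme S) (α : pullback G.stabilizerToU G.t ⟶ pullback G.s G.t) (hα₁ : α ≫ pullback.fst G.s G.t = pullback.fst G.stabilizerToU G.t ≫ pullback.fst G.j G.diag) (hα₂ : α ≫ pullback.snd G.s G.t = pullback.snd G.stabilizerToU G.t) (β : pullback G.stabilizerToU G.t ⟶ pullback G.j G.j) (hβ₁ : β ≫ pullback.fst G.j G.j = α ≫ G.c) (hβ₂ : β ≫ pullback.snd G.j G.j = pullback.snd G.stabilizerToU G.t) : IsIso β := by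
  have hα₁' : α ≫ pullback.fst G.s G.t = pullback.fst G.stabilizerToU G.t ≫ stabFst G := hα₁
  -- the T-points of the source
  obtain ⟨g, hg⟩ : ∃ g : pullback G.stabilizerToU G.t ⟶ G.stabilizer,
      g = pullback.fst G.stabilizerToU G.t := ⟨_, rfl⟩
  obtain ⟨r, hr⟩ : ∃ r : pullback G.stabilizerToU G.t ⟶ G.R,
      r = pullback.snd G.stabilizerToU G.t := ⟨_, rfl⟩
  have hgr : g ≫ G.stabilizerToU = r ≫ G.t := by rw [hg, hr]; exact pullback.condition
  have hg0s : (g ≫ stabFst G) ≫ G.s = r ≫ G.t := by rw [Category.assoc, stab_s, hgr]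
  have hα : α = pullback.lift (g ≫ stabFst G) r hg0s := by
    apply pullback.hom_ext
    · rw [pullback.lift_fst, hα₁', hg]
    · rw [pullback.lift_snd, hα₂, hr]
  have hβfst : β ≫ pullback.fst G.j G.j = cmp G (g ≫ stabFst G) r hg0s := by
    rw [hβ₁, hα]
  -- the T-points of the target
  obtain ⟨r₁, hr₁⟩ : ∃ r₁ : pullback G.j G.j ⟶ G.R, r₁ = pullback.fst G.j G.j := ⟨_, rfl⟩
  obtain ⟨r₂, hr₂⟩ : ∃ r₂ : pullback G.j G.j ⟶ G.R, r₂ = pullback.snd G.j G.j := ⟨_, rfl⟩
  have hj : r₁ ≫ G.j = r₂ ≫ G.j := by rw [hr₁, hr₂]; exact pullback.condition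
  have ht := eq_t_of_eq_j G hj
  have hs := eq_s_of_eq_j G hj
  have h1 : r₁ ≫ G.s = (r₂ ≫ G.i) ≫ G.t := by rw [Category.assoc, G.i_t, hs]
  have hγs : cmp G r₁ (r₂ ≫ G.i) h1 ≫ G.s = r₂ ≫ G.t := by
    rw [G.comp_s, Category.assoc, G.i_s]
  have hγt : cmp G r₁ (r₂ ≫ G.i) h1 ≫ G.t = r₂ ≫ G.t := by rw [G.comp_t, ht]
  obtain ⟨γ, hγ⟩ : ∃ γ : pullback G.j G.j ⟶ G.stabilizer,
      γ = stabLift G (cmp G r₁ (r₂ ≫ G.i) h1) (r₂ ≫ G.t) hγs hγt := ⟨_, rfl⟩
  have hγfst : γ ≫ stabFst G = cmp G r₁ (r₂ ≫ G.i) h1 := by rw [hγ, stabLift_fst]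
  have hγU : γ ≫ G.stabilizerToU = r₂ ≫ G.t := by rw [hγ, stabLift_toU]
  refine ⟨pullback.lift γ r₂ hγU, ?_, ?_⟩
  · -- β ≫ inv = 𝟙
    apply pullback.hom_ext
    · rw [Category.assoc, pullback.lift_fst, Category.id_comp, ← hg]
      apply stab_hom_ext
      · rw [Category.assoc, hγfst, precomp_cmp]
        have e1 : β ≫ r₁ = cmp G (g ≫ stabFst G) r hg0s := by rw [hr₁]; exact hβfst
        have e2 : β ≫ r₂ = r := by rw [hr₂, hr]; exact hβ₂
        have e3 : β ≫ r₂ ≫ G.i = r ≫ G.i := by rw [← Category.assoc, e2]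
        rw [cmp_congr G _ e1 e3]
        -- cmp (cmp g₀ r) (r ≫ i) = cmp g₀ (cmp r (r ≫ i)) = cmp g₀ (r ≫ t ≫ e) = g₀
        have hri : r ≫ G.s = (r ≫ G.i) ≫ G.t := by rw [Category.assoc, G.i_t]
        have := G.assoc (g ≫ stabFst G) r (r ≫ G.i) hg0s hri
        unfold cmp
        rw [this]
        have e4 : pullback.lift r (r ≫ G.i) hri ≫ G.c = (g ≫ stabFst G) ≫ G.s ≫ G.e := by
          rw [G.comp_i, ← Category.assoc, ← hg0s, Category.assoc]
        refine Eq.trans ?_ (G.comp_e (g ≫ stabFst G))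
        congr 1
        apply pullback.hom_ext
        · rw [pullback.lift_fst, pullback.lift_fst]
        · rw [pullback.lift_snd, pullback.lift_snd, e4]
      · rw [Category.assoc, hγU, ← Category.assoc]
        have e2 : β ≫ r₂ = r := by rw [hr₂, hr]; exact hβ₂
        rw [e2, hgr]
    · rw [Category.assoc, pullback.lift_snd, Category.id_comp, hr₂, hβ₂]
  · -- inv ≫ β = 𝟙
    apply pullback.hom_ext
    · rw [Category.assoc, Category.id_comp, hβfst, precomp_cmp]
      have e1 : pullback.lift γ r₂ hγU ≫ g ≫ stabFst G = cmp G r₁ (r₂ ≫ G.i) h1 := by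
        rw [hg, ← Category.assoc, pullback.lift_fst, hγfst]
      have e2 : pullback.lift γ r₂ hγU ≫ r = r₂ := by rw [hr, pullback.lift_snd]
      rw [cmp_congr G _ e1 e2]
      -- cmp (cmp r₁ (r₂ ≫ i)) r₂ = cmp r₁ (cmp (r₂ ≫ i) r₂) = cmp r₁ (r₂ ≫ s ≫ e) = r₁
      have hir : (r₂ ≫ G.i) ≫ G.s = r₂ ≫ G.t := by rw [Category.assoc, G.i_s]
      have := G.assoc r₁ (r₂ ≫ G.i) r₂ h1 hir
      unfold cmp
      rw [this]
      have e4 : pullback.lift (r₂ ≫ G.i) r₂ hir ≫ G.c = r₁ ≫ G.s ≫ G.e := by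
        rw [G.i_comp, ← Category.assoc, ← hs, Category.assoc]
      rw [← hr₁]
      refine Eq.trans ?_ (G.comp_e r₁)
      congr 1
      apply pullback.hom_ext
      · rw [pullback.lift_fst, pullback.lift_fst]
      · rw [pullback.lift_snd, pullback.lift_snd, e4]
    · rw [Category.assoc, Category.id_comp, hβ₂, pullback.lift_snd, hr₂]

end Groth.Agent.S7500
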