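import Groth.Statements.S7501
import Groth.Agent.H37.VSheaf

set_option autoImplicit false
universe w u
open HTop

namespace Groth.Agent.S7501

open CategoryTheory CategoryTheory.Limits AlgebraicGeometry in
/-- Let F be a presheaf of sets on the category of schemes. If F is a sheaf for the Zariski topology
and, for every proper surjective morphism f : V -> U, F has the sheaf property for the one-arrow
family {f} (sections over V whose two pullbacks to V x_U V agree come from exactly one section over
U), then F has the sheaf property for every ph covering. (The published statement is an equivalence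
for presheaves on the big ph site of a base scheme and adds that, for a Zariski sheaf, the condition
on proper surjective morphisms may be asked only for affine targets; this row states, for presheaves
on all schemes, only that the two conditions imply the sheaf property for ph coverings.) -/
theorem result (F : Scheme.{u}ᵒᵖ ⥤ Type w) (h₁ : Presieve.IsSheaf Scheme.zariskiTopology F) (h₂ : ∀ (U V : Scheme.{u}) (f : V ⟶ U), IsProper f → Surjective f → Presieve.IsSheafFor F (Presieve.singleton f)) : HTop.IsPhSheaf F := by
  let J := Sheaf.finestTopologySingle F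
  have hZ : ∀ {X : Scheme.{u}} (S : Sieve X), S ∈ Scheme.zariskiTopology X → S ∈ J X := by
    intro X S hS Y f
    exact h₁ _ (Scheme.zariskiTopology.pullback_stable f hS)
  have hP : ∀ {U V : Scheme.{u}} (f : V ⟶ U), IsProper f → Surjective f →
      Sieve.generate (Presieve.singleton f) ∈ J U := by
    intro U V f hf1 hf2 Y h
    rw [← Sieve.pullbackArrows_comm, ← Presieve.isSheafFor_iff_generate,
      Presieve.pullback_singleton]
    exact h₂ _ _ _ (MorphismProperty.pullback_snd (P := @IsProper) _ _ hf1)
      (MorphismProperty.pullback_snd (P := @Surjective) _ _ hf2)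
  intro X R hR
  obtain ⟨E, rfl⟩ := R.exists_eq_preZeroHypercover
  rw [HTop.presieve₀_mem_phPrecoverage_iff] at hR
  obtain ⟨hlft, hE⟩ := hR
  rw [Presieve.isSheafFor_iff_generate]
  suffices h : Sieve.generate E.presieve₀ ∈ J X by
    have := h X (𝟙 X)
    rwa [Sieve.pullback_id] at this
  apply J.transitive (hZ _ (Groth.Agent.H37.generate_affPresieve_mem X))
  rintro Y u ⟨W, k, _, ⟨U⟩, rfl⟩
  rw [Sieve.pullback_comp]
  apply J.pullback_stable
  obtain ⟨G, hG1, hG2⟩ := hE U
  obtain ⟨P, p, ι, hprop, hsurj, hopen, hcomp, hcov⟩ := hG1.exists_proper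
  apply J.superset_covering (S := Sieve.generate G.presieve₀)
  · rw [Sieve.generate_le_iff]
    rintro _ _ ⟨j⟩
    obtain ⟨i, k', hk'⟩ := hG2 j
    show (Sieve.generate E.presieve₀) (G.f j ≫ (U : X.Opens).ι)
    rw [← hk']
    have hi : (Sieve.generate E.presieve₀) (E.f i) :=
      ⟨_, 𝟙 _, E.f i, E.presieve₀_f i, Category.id_comp _⟩
    exact (Sieve.generate E.presieve₀).downward_closed hi k'
  · apply J.transitive (hP p hprop hsurj)
    rintro Y' v ⟨W', k'', _, ⟨⟩, rfl⟩
    rw [Sieve.pullback_comp]
    apply J.pullback_stable
    apply J.superset_covering (S := Sieve.generate (Presieve.ofArrows G.X ι))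
    · rw [Sieve.generate_le_iff]
      rintro _ _ ⟨j⟩
      show (Sieve.generate G.presieve₀) (ι j ≫ p)
      rw [hcomp j]
      exact ⟨_, 𝟙 _, G.f j, G.presieve₀_f j, Category.id_comp _⟩
    · apply hZ
      apply Precoverage.generate_mem_toGrothendieck
      rw [Scheme.ofArrows_mem_precoverage_iff]
      exact ⟨hcov, hopen⟩

end Groth.Agent.S7501
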