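import Groth.Statements.S7511
import Mathlib

set_option autoImplicit false
universe u
open CategoryTheory CategoryTheory.Limits AlgebraicGeometry
open HTop

namespace Groth.Agent.S7511

lemma qc_iff {T : Scheme.{u}} (E : PreZeroHypercover.{u} T) :
    QuasiCompactCover E ↔
      QuasiCompactCover (PreZeroHypercover.singleton.{u} (Sigma.desc E.f)) := by
  constructor
  · intro h
    exact .of_hom (𝒱 := E) ⟨fun _ => ⟨⟩, fun i => Sigma.ι E.X i, fun i => by
      show Sigma.ι E.X i ≫ Limits.Sigma.desc E.f = E.f i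
      simp⟩
  · intro h
    let F : ∀ x : (PreZeroHypercover.singleton.{u} (Sigma.desc E.f)).I₀,
        PreZeroHypercover.{u} ((PreZeroHypercover.singleton.{u} (Sigma.desc E.f)).X x) :=
      fun _ => (sigmaOpenCover E.X).toPreZeroHypercover
    have : ∀ x, QuasiCompactCover (F x) := fun x => by
      dsimp only [F]; infer_instance
    have : QuasiCompactCover ((PreZeroHypercover.singleton.{u} (Sigma.desc E.f)).bind F) :=
      inferInstance
    exact .of_hom (𝒱 := (PreZeroHypercover.singleton.{u} (Sigma.desc E.f)).bind F)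
      ⟨fun p => p.2, fun p => 𝟙 _, fun p => by
        show 𝟙 (E.X p.2) ≫ E.f p.2 = Sigma.ι E.X p.2 ≫ Limits.Sigma.desc E.f
        simp⟩


/-- Let {f_i : T_i -> T} be a family of morphisms of schemes (indexed by a type in the universe of T, so
that the coproduct exists). Then it is an fpqc covering if and only if the one-arrow family
consisting of the induced morphism from the coproduct of the T_i to T is an fpqc covering. -/
theorem result {T : Scheme.{u}} (E : PreZeroHypercover.{u} T) : E.presieve₀ ∈ Scheme.fpqcPrecoverage T ↔ Presieve.singleton (Sigma.desc E.f) ∈ Scheme.fpqcPrecoverage T := by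
  have hflat : (∀ i, Flat (E.f i)) ↔ Flat (Sigma.desc E.f) := by
    rw [IsZariskiLocalAtSource.iff_of_openCover (P := @Flat) (sigmaOpenCover E.X)]
    show (∀ i : E.I₀, Flat (E.f i)) ↔ ∀ i : E.I₀, Flat (Sigma.ι E.X i ≫ Limits.Sigma.desc E.f)
    simp
  have hsurj : (∀ x, ∃ i, x ∈ Set.range (E.f i)) ↔ Function.Surjective (Sigma.desc E.f).base := by
    constructor
    · intro h x
      obtain ⟨i, y, rfl⟩ := h x
      refine ⟨Sigma.ι E.X i y, ?_⟩
      rw [← Scheme.Hom.comp_apply, Sigma.ι_desc]
    · intro h x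
      obtain ⟨y, rfl⟩ := h x
      obtain ⟨i, z, rfl⟩ := (sigmaOpenCover E.X).exists_eq y
      refine ⟨i, z, ?_⟩
      show (E.f i) z = (Sigma.ι E.X i ≫ Limits.Sigma.desc E.f) z
      rw [Limits.Sigma.ι_desc]
  have h2 : E.presieve₀ ∈ Scheme.precoverage @Flat T ↔
      Presieve.singleton (Sigma.desc E.f) ∈ Scheme.precoverage @Flat T := by
    rw [Scheme.presieve₀_mem_precoverage_iff, Scheme.singleton_mem_precoverage_iff, hflat, hsurj]
  have h1 : E.presieve₀ ∈ Scheme.qcPrecoverage T ↔
      Presieve.singleton (Sigma.desc E.f) ∈ Scheme.qcPrecoverage T := by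
    rw [← PreZeroHypercover.presieve₀_singleton.{_, _, u}, Scheme.presieve₀_mem_qcPrecoverage_iff,
      Scheme.presieve₀_mem_qcPrecoverage_iff]
    exact qc_iff E
  constructor
  · rintro ⟨a, b⟩
    exact ⟨h1.1 a, h2.1 b⟩
  · rintro ⟨a, b⟩
    exact ⟨h1.2 a, h2.2 b⟩

end Groth.Agent.S7511
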