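import Groth.Statements.S7519
import Groth.Agent.H40.CD.EqLocus
import Groth.Agent.H90.GrpUnitSection

set_option autoImplicit false
universe u
open CategoryTheory MonoidalCategory CartesianMonoidalCategory MonObj GrpObj AlgebraicGeometry
open GrpSch

namespace Groth.Agent.S7519

/-- Let G be a group scheme locally of finite type over a field k. Then the centre of G is
(representable by) a closed subgroup scheme of G: there are a scheme Z over k and a closed immersion
Z -> G over k such that for every scheme T over k, a T-valued point g of G factors through Z if and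
only if g is central, i.e. for every T' -> T over k and every T'-valued point g' of G, the
restriction of g to T' commutes with g' in the group G(T'). -/
theorem result (K : Type u) [Field K] (G : Over (Spec (CommRingCat.of K))) [GrpObj G] [LocallyOfFiniteType G.hom] : ∃ (Z : Over (Spec (CommRingCat.of K))) (incl : Z ⟶ G), IsClosedImmersion incl.left ∧ ∀ (T : Over (Spec (CommRingCat.of K))) (g : T ⟶ G), (∃ z : T ⟶ Z, z ≫ incl = g) ↔ ∀ (T' : Over (Spec (CommRingCat.of K))) (h : T' ⟶ T) (g' : T' ⟶ G), (h ≫ g) * g' = g' * (h ≫ g) := by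
  haveI : IsSeparated G.hom := Groth.Agent.H90.isSeparated_of_discrete _ G
  obtain ⟨W, i₀, hi₀, hW⟩ := Groth.Agent.H40.CD.exists_closed_eqLocus G G G
    (snd G G * fst G G) (fst G G * snd G G)
  refine ⟨Over.mk (i₀ ≫ G.hom), Over.homMk i₀, hi₀, fun T g => ?_⟩
  have h1 : (∀ (T' : Over (Spec (CommRingCat.of K))) (h : T' ⟶ T) (g' : T' ⟶ G),
      (h ≫ g) * g' = g' * (h ≫ g)) ↔
      ((G ◁ g) ≫ (snd G G * fst G G) = (G ◁ g) ≫ (fst G G * snd G G)) := by
    rw [MonObj.comp_mul, MonObj.comp_mul, whiskerLeft_fst, whiskerLeft_snd]
    constructor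
    · intro h
      exact h (G ⊗ T) (snd G T) (fst G T)
    · intro h T' t g'
      have := congrArg (fun φ => lift g' t ≫ φ) h
      simp only [MonObj.comp_mul, lift_fst, lift_snd_assoc] at this
      exact this
  rw [h1, hW]
  constructor
  · rintro ⟨z, rfl⟩
    exact ⟨z.left, rfl⟩
  · rintro ⟨w, hw⟩
    refine ⟨Over.homMk w ?_, ?_⟩
    · have := Over.w g
      dsimp at this ⊢
      rw [← Category.assoc, hw, this]
    · ext
      exact hw

end Groth.Agent.S7519
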