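import Groth.Statements.S7521
import Groth.Agent.H40.DQ.Effective
import Groth.Agent.H67.AmpleFinite

set_option autoImplicit false
open CategoryTheory CategoryTheory.Limits AlgebraicGeometry
universe u
open Desc

namespace Groth.Agent.S7521

/-- Let p : X -> Y be a surjective finite locally free morphism and V a scheme over X which has an
invertible module ample relative to V -> X. Then every descent datum on V relative to p is
effective. (A quasi-projective morphism V -> X, in particular a projective one, carries such a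
module.) (Descent data are taken in functor-of-points form.) -/
theorem result {X Y : Scheme.{u}} (p : X ⟶ Y) [Surjective p] [IsFinite p] [Flat p] [LocallyOfFinitePresentation p] (D : Desc.SchDD p) (L : D.obj.left.Modules) (hL : RelAmple.IsRelAmple D.obj.hom L) : ∃ W : Over Y, Nonempty ((Desc.toDD p).obj W ≅ D) := by
  classical
  apply Groth.Agent.H40.DQ.exists_effective_of_orbits D
  intro x
  haveI : IsFinite (pullback.fst (D.obj.hom ≫ p) p) := inferInstance
  have hfin : ((pullback.fst (D.obj.hom ≫ p) p) ⁻¹' {x}).Finite :=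
    (pullback.fst (D.obj.hom ≫ p) p).finite_preimage_singleton x
  set O : Set ↑(D.obj.left) :=
    (fun r => Groth.Agent.H40.DQ.tmor D r) '' ((pullback.fst (D.obj.hom ≫ p) p) ⁻¹' {x}) with hO
  have hOfin : O.Finite := hfin.image _
  have hOover : ∀ w ∈ O, p (D.obj.hom w) = p (D.obj.hom x) := by
    rintro _ ⟨r, hr, rfl⟩
    have h1 : p (D.obj.hom (Groth.Agent.H40.DQ.tmor D r)) =
        (pullback.snd (D.obj.hom ≫ p) p ≫ p) r := by
      rw [← Groth.Agent.H40.DQ.tmor_hom_assoc]
      rfl
    rw [h1, ← pullback.condition]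
    have hr' : (pullback.fst (D.obj.hom ≫ p) p) r = x := hr
    rw [← hr']
    rfl
  -- an affine open of `X` containing the fibre
  obtain ⟨_, ⟨Y₀, hY₀, rfl⟩, hyY₀, -⟩ :=
    Y.isBasis_affineOpens.exists_subset_of_mem_open (Set.mem_univ (p (D.obj.hom x))) isOpen_univ
  let X₀ : X.affineOpens := ⟨p ⁻¹ᵁ Y₀, hY₀.preimage p⟩
  let V₀ : D.obj.left.Opens := D.obj.hom ⁻¹ᵁ X₀.1
  have hOV₀ : O ⊆ (V₀ : Set ↑(D.obj.left)) := by
    intro w hw
    change p (D.obj.hom w) ∈ Y₀
    rw [hOover w hw]
    exact hyY₀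
  have hamp : CohB1.IsAmple (L.restrict V₀.ι) := hL.2 X₀
  have hfin' : (V₀.ι ⁻¹' O).Finite := hOfin.preimage V₀.ι.injective.injOn
  obtain ⟨n, s, hZ, -, haff⟩ :=
    Groth.Agent.H67.AmpleFinite.exists_affine_genLocus_of_finite hamp _ hfin' ⊤ (fun _ _ => trivial)
  refine ⟨V₀.ι ''ᵁ (CohB1.genLocus _ s), haff.image_of_isOpenImmersion V₀.ι, fun r hr => ?_⟩
  have hmem : Groth.Agent.H40.DQ.tmor D r ∈ O := ⟨r, hr, rfl⟩
  have hmemV : Groth.Agent.H40.DQ.tmor D r ∈ V₀ := hOV₀ hmem
  refine ⟨⟨_, hmemV⟩, hZ ?_, rfl⟩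
  exact hmem

end Groth.Agent.S7521
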