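import Groth.Statements.S7522
import Mathlib.AlgebraicGeometry.PullbackCarrier
import Mathlib.AlgebraicGeometry.ResidueField

set_option autoImplicit false
universe u
open CategoryTheory CategoryTheory.Limits AlgebraicGeometry
open Grpd

namespace Groth.Agent.S7522

/-- Let S be a scheme, U a scheme over S and j : R -> U x_S U a pre-equivalence relation, that is a
morphism such that for every scheme T the image of the T-points of R in pairs of T-points of U is an
equivalence relation; write t = pr_0 ∘ j and s = pr_1 ∘ j. Then the relation on the points of U in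
which x ∼ y when some point r of R has t(r) = x and s(r) = y is an equivalence relation. -/
theorem result {S U R : Scheme.{u}} (pU : U ⟶ S) (j : R ⟶ pullback pU pU) (hj : ∀ T : Scheme.{u}, Equivalence (fun a b : T ⟶ U => ∃ r : T ⟶ R, r ≫ j ≫ pullback.fst pU pU = a ∧ r ≫ j ≫ pullback.snd pU pU = b)) : Equivalence (fun x y : ↥U => ∃ r : R, (j ≫ pullback.fst pU pU) r = x ∧ (j ≫ pullback.snd pU pU) r = y) := by
  obtain ⟨t, ht⟩ : ∃ t : R ⟶ U, t = j ≫ pullback.fst pU pU := ⟨_, rfl⟩
  obtain ⟨s, hs⟩ : ∃ s : R ⟶ U, s = j ≫ pullback.snd pU pU := ⟨_, rfl⟩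
  have hj' : ∀ T : Scheme.{u}, Equivalence (fun a b : T ⟶ U => ∃ r : T ⟶ R, r ≫ t = a ∧ r ≫ s = b) := by
    intro T; rw [ht, hs]; exact hj T
  rw [← ht, ← hs]
  -- a point of `Spec κ`
  have hpt : ∀ (X : Scheme.{u}) (x : X), Nonempty ↥(Spec (X.residueField x)) := fun X x =>
    inferInstance
  refine ⟨fun x => ?_, fun {x y} hxy => ?_, fun {x y z} hxy hyz => ?_⟩
  · obtain ⟨r, hr1, hr2⟩ := (hj' (Spec (U.residueField x))).refl (U.fromSpecResidueField x)
    obtain ⟨p⟩ := hpt U x
    refine ⟨r p, ?_, ?_⟩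
    · have := congrArg (fun f => f p) hr1
      simp only [Scheme.Hom.comp_apply] at this
      rw [this, Scheme.fromSpecResidueField_apply]
    · have := congrArg (fun f => f p) hr2
      simp only [Scheme.Hom.comp_apply] at this
      rw [this, Scheme.fromSpecResidueField_apply]
  · obtain ⟨r, rfl, rfl⟩ := hxy
    have h1 : ∃ ρ : Spec (R.residueField r) ⟶ R, ρ ≫ t = R.fromSpecResidueField r ≫ t ∧
        ρ ≫ s = R.fromSpecResidueField r ≫ s := ⟨_, rfl, rfl⟩
    obtain ⟨ρ', hρ1, hρ2⟩ := (hj' (Spec (R.residueField r))).symm h1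
    obtain ⟨p⟩ := hpt R r
    refine ⟨ρ' p, ?_, ?_⟩
    · have := congrArg (fun f => f p) hρ1
      simp only [Scheme.Hom.comp_apply] at this
      rw [this, Scheme.fromSpecResidueField_apply]
    · have := congrArg (fun f => f p) hρ2
      simp only [Scheme.Hom.comp_apply] at this
      rw [this, Scheme.fromSpecResidueField_apply]
  · obtain ⟨r₁, rfl, hr₁⟩ := hxy
    obtain ⟨r₂, hr₂, rfl⟩ := hyz
    obtain ⟨w, hw1, hw2⟩ := Scheme.Pullback.exists_preimage_pullback (f := s) (g := t) r₁ r₂
      (hr₁.trans hr₂.symm)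
    set T := Spec ((pullback s t).residueField w)
    set ω : T ⟶ pullback s t := (pullback s t).fromSpecResidueField w
    have h1 : ∃ ρ : T ⟶ R, ρ ≫ t = (ω ≫ pullback.fst s t) ≫ t ∧
        ρ ≫ s = (ω ≫ pullback.fst s t) ≫ s := ⟨_, rfl, rfl⟩
    have h2 : ∃ ρ : T ⟶ R, ρ ≫ t = (ω ≫ pullback.fst s t) ≫ s ∧
        ρ ≫ s = (ω ≫ pullback.snd s t) ≫ s := by
      refine ⟨ω ≫ pullback.snd s t, ?_, rfl⟩
      rw [Category.assoc, Category.assoc, pullback.condition]
    obtain ⟨ρ, hρ1, hρ2⟩ := (hj' T).trans h1 h2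
    obtain ⟨p⟩ := hpt (pullback s t) w
    refine ⟨ρ p, ?_, ?_⟩
    · have := congrArg (fun f => f p) hρ1
      simp only [Scheme.Hom.comp_apply] at this
      rw [this, Scheme.fromSpecResidueField_apply, hw1]
    · have := congrArg (fun f => f p) hρ2
      simp only [Scheme.Hom.comp_apply] at this
      rw [this, Scheme.fromSpecResidueField_apply, hw2]

end Groth.Agent.S7522
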