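import Groth.Statements.S7528
import Groth.Agent.H38.SpectralDir

set_option autoImplicit false
universe u
open SpecSp

namespace Groth.Agent.S7528

/-- For a spectral space X the following are equivalent: (1) X is profinite, i.e. quasi-compact,
Hausdorff and totally disconnected (quasi-compactness being automatic); (2) X is Hausdorff; (3) X is
totally disconnected; (4) every quasi-compact open subset is closed; (5) there are no nontrivial
specializations between points; (6) every point is closed; (7) every point is the generic point of
an irreducible component; (8) the constructible topology coincides with the topology of X. -/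
theorem result (X : Type u) [tX : TopologicalSpace X] [SpectralSpace X] :
    List.TFAE [
      T2Space X ∧ TotallyDisconnectedSpace X,
      T2Space X,
      TotallyDisconnectedSpace X,
      ∀ U : Set X, IsOpen U → IsCompact U → IsClosed U,
      ∀ x y : X, x ⤳ y → x = y,
      ∀ x : X, IsClosed ({x} : Set X),
      ∀ x : X, closure ({x} : Set X) ∈ irreducibleComponents X,
      constructibleTopology X = tX] := by
  tfae_have 1 → 2 := fun h => h.1
  tfae_have 2 → 1 := fun h => ⟨h, inferInstance⟩
  tfae_have 1 → 3 := fun h => h.2
  tfae_have 3 → 5 := by
    intro h x y hxy
    have hpre : IsPreconnected (closure ({x} : Set X)) := isPreconnected_singleton.closure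
    exact hpre.subsingleton (subset_closure rfl) (specializes_iff_mem_closure.mp hxy)
  tfae_have 5 → 6 := by
    intro h x
    rw [← closure_subset_iff_isClosed]
    intro y hy
    rw [Set.mem_singleton_iff]
    exact (h x y (specializes_iff_mem_closure.mpr hy)).symm
  tfae_have 6 → 5 := by
    intro h x y hxy
    have := specializes_iff_mem_closure.mp hxy
    rw [(h x).closure_eq] at this
    exact this.symm
  tfae_have 5 → 7 := by
    intro h x
    refine ⟨isIrreducible_singleton.closure, fun Z hZ hxZ => ?_⟩
    have hgen := hZ.isGenericPoint_genericPoint_closure
    have hx : x ∈ closure Z := subset_closure (hxZ (subset_closure rfl))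
    have hspec : hZ.genericPoint ⤳ x := hgen.specializes hx
    have heq := h _ _ hspec
    calc Z ⊆ closure Z := subset_closure
      _ = closure {hZ.genericPoint} := hgen.def.symm
      _ = closure {x} := by rw [heq]
  tfae_have 7 → 5 := by
    intro h x y hxy
    have hy : y ∈ closure ({x} : Set X) := specializes_iff_mem_closure.mp hxy
    have hsub : closure ({y} : Set X) ⊆ closure {x} :=
      closure_minimal (Set.singleton_subset_iff.mpr hy) isClosed_closure
    have hmax := (h y).2 isIrreducible_singleton.closure hsub
    have hyx : y ⤳ x := specializes_iff_mem_closure.mpr (hmax (subset_closure rfl))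
    exact (hxy.antisymm hyx).eq
  tfae_have 5 → 4 := by
    intro h U hU hUc
    refine H38.isClosed_of_isClosed_constructibleTopology_of_stableUnderSpecialization
      (H38.isClosed_constructibleTopology_of_isOpen_of_isCompact hU hUc) ?_
    intro x y hxy hx
    rw [← h x y hxy]
    exact hx
  tfae_have 4 → 8 := by
    intro h
    refine le_antisymm H38.constructibleTopology_le ?_
    refine le_generateFrom ?_
    rintro s (⟨hs₁, -⟩ | ⟨hs₁, hs₂⟩)
    · exact hs₁
    · have := h _ hs₁.isOpen_compl hs₂
      rw [isClosed_compl_iff] at this
      exact this
  tfae_have 8 → 2 := by
    intro h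
    have := H38.t2Space_constructibleTopology (X := X)
    rw [h] at this
    exact this
  tfae_finish

end Groth.Agent.S7528
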