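import Groth.Statements.S7530
import Groth.Agent.H38.SpectralDir

set_option autoImplicit false
universe u
open SpecSp

namespace Groth.Agent.S7530

/-- Let f : X → Y be a map of spectral spaces which is spectral and bijective, and assume that
generalizations lift along f or that specializations lift along f. Then f is a homeomorphism. -/
theorem result {X Y : Type u} [TopologicalSpace X] [TopologicalSpace Y]
    [SpectralSpace X] [SpectralSpace Y] (f : X → Y) (hf : IsSpectralMap f) (hb : Function.Bijective f)
    (hlift : GeneralizingMap f ∨ SpecializingMap f) :
    IsHomeomorph f := by
  rcases hlift with hg | hs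
  · refine ⟨hf.continuous, ?_, hb⟩
    rw [(PrespectralSpace.isTopologicalBasis (X := X)).isOpenMap_iff]
    rintro V ⟨hV₁, hV₂⟩
    refine H38.isOpen_of_isOpen_constructibleTopology_of_stableUnderGeneralization ?_
      (hg.stableUnderGeneralization_image hV₁.stableUnderGeneralization)
    rw [← @isClosed_compl_iff Y (constructibleTopology Y), ← Set.image_compl_eq hb]
    refine H38.spectral_isClosed_image_constr hf ?_
    rw [@isClosed_compl_iff X (constructibleTopology X)]
    exact hV₂.isOpen_constructibleTopology_of_isOpen hV₁
  · rw [isHomeomorph_iff_continuous_isClosedMap_bijective]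
    refine ⟨hf.continuous, fun Z hZ => ?_, hb⟩
    refine H38.isClosed_of_isClosed_constructibleTopology_of_stableUnderSpecialization
      (H38.spectral_isClosed_image_constr hf (H38.isClosed_constructibleTopology_of_isClosed hZ))
      (hs.stableUnderSpecialization_image hZ.stableUnderSpecialization)

end Groth.Agent.S7530
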