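import Groth.Statements.S7532
import Groth.Agent.H38.Sierpinski
import Groth.Agent.H38.SpectralSub

set_option autoImplicit false
universe u
open SpecSp

namespace Groth.Agent.S7532

/-- Let W be the two-point space with one closed and one non-closed point (here the Sierpiński topology
on Prop). A topological space X is spectral exactly when, for some index type I, X admits a
topological embedding into the power W^I whose image is a closed set for the constructible topology
on W^I. -/
theorem result (X : Type u) [TopologicalSpace X] :
    SpectralSpace X ↔ ∃ (I : Type u) (f : X → (I → Prop)),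
      Topology.IsEmbedding f ∧ @IsClosed (I → Prop) (constructibleTopology (I → Prop)) (Set.range f) := by
  classical
  constructor
  · intro hX
    let I : Type u := {U : Set X // IsOpen U ∧ IsCompact U}
    let f : X → (I → Prop) := fun x U => x ∈ U.1
    have hfc : Continuous f := continuous_pi fun U => continuous_Prop.mpr U.2.1
    have hpre : ∀ F : Finset I, f ⁻¹' (Groth.Agent.H38.sierpBasic F) = ⋂ U ∈ F, U.1 := by
      intro F; ext x; simp [Groth.Agent.H38.sierpBasic, f]
    have hind : Topology.IsInducing f := by
      refine ⟨le_antisymm hfc.le_induced ?_⟩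
      rw [(PrespectralSpace.isTopologicalBasis (X := X)).eq_generateFrom]
      refine TopologicalSpace.le_generateFrom_iff_subset_isOpen.mpr ?_
      intro V hV
      refine ⟨Groth.Agent.H38.sierpBasic {⟨V, hV⟩}, Groth.Agent.H38.isOpen_sierpBasic _, ?_⟩
      rw [hpre]; simp
    have hcomp : ∀ F : Finset I, IsCompact (f ⁻¹' (Groth.Agent.H38.sierpBasic F)) := by
      intro F
      induction F using Finset.induction_on with
      | empty => rw [hpre]; simpa using isCompact_univ
      | insert a G ha ih =>
        have : f ⁻¹' (Groth.Agent.H38.sierpBasic (insert a G)) =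
            a.1 ∩ f ⁻¹' (Groth.Agent.H38.sierpBasic G) := by
          rw [hpre, hpre]; simp
        rw [this]
        exact QuasiSeparatedSpace.inter_isCompact _ _ a.2.1 a.2.2
          ((Groth.Agent.H38.isOpen_sierpBasic G).preimage hfc) ih
    have hspec : IsSpectralMap f := by
      refine ⟨hfc, fun s hs hsc => ?_⟩
      obtain ⟨t, ht, rfl⟩ := (isCompact_open_iff_eq_finite_iUnion_of_isTopologicalBasis _
        Groth.Agent.H38.isTopologicalBasis_sierpBasic Groth.Agent.H38.isCompact_sierpBasic s).mp
        ⟨hsc, hs⟩
      rw [Set.preimage_iUnion₂]
      exact ht.isCompact_biUnion fun F _ => hcomp F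
    exact ⟨I, f, ⟨hind, hind.injective⟩, Groth.Agent.H38.spectral_isClosed_range_constr hspec⟩
  · rintro ⟨I, f, hf, hcl⟩
    have hR : SpectralSpace (Set.range f) :=
      Groth.Agent.H38.spectralSpace_of_isClosed_constructibleTopology _ hcl
    let e : X ≃ₜ Set.range f := hf.toHomeomorph
    have h0 : T0Space X := hf.t0Space
    have h1 : CompactSpace X := e.symm.compactSpace
    have h2 : QuasiSober X := e.isOpenEmbedding.quasiSober
    have h3 : QuasiSeparatedSpace X := QuasiSeparatedSpace.of_isOpenEmbedding e.isOpenEmbedding
    have h4 : PrespectralSpace X := e.isOpenEmbedding.prespectralSpace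
    exact { }

end Groth.Agent.S7532
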