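import Groth.Statements.S7538
import Groth.Agent.H38.SpecLim4

set_option autoImplicit false
universe u
open CategoryTheory CategoryTheory.Limits
open SpecSp

namespace Groth.Agent.S7538

/-- Let j ↦ X_j be a cofiltered diagram of spectral spaces with spectral transition maps f_a and X its
limit with projections p_j. (1) Any quasi-compact open U ⊆ X is p_i⁻¹(U_i) for some i and some
quasi-compact open U_i ⊆ X_i. (2) If U_i ⊆ X_i and U_j ⊆ X_j are quasi-compact opens with p_i⁻¹(U_i)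
⊆ p_j⁻¹(U_j), there are k and a : k → i, b : k → j with f_a⁻¹(U_i) ⊆ f_b⁻¹(U_j). (3) If U_i and
finitely many U_{l,i} are quasi-compact opens of X_i with p_i⁻¹(U_i) = ⋃_l p_i⁻¹(U_{l,i}), then
f_a⁻¹(U_i) = ⋃_l f_a⁻¹(U_{l,i}) for some a : j → i. (4) The same with intersections. -/
theorem result {J : Type u} [SmallCategory J] [IsCofiltered J] (F : J ⥤ TopCat.{u})
    (hF : ∀ j, SpectralSpace (F.obj j))
    (hFm : ∀ {i j : J} (a : i ⟶ j), IsSpectralMap (F.map a : F.obj i → F.obj j))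
    (c : Cone F) (hc : IsLimit c) :
    (∀ U : Set c.pt, IsOpen U → IsCompact U →
      ∃ (i : J) (Ui : Set (F.obj i)), IsOpen Ui ∧ IsCompact Ui ∧ c.π.app i ⁻¹' Ui = U) ∧
    (∀ (i j : J) (Ui : Set (F.obj i)) (Uj : Set (F.obj j)),
      IsOpen Ui → IsCompact Ui → IsOpen Uj → IsCompact Uj →
      c.π.app i ⁻¹' Ui ⊆ c.π.app j ⁻¹' Uj →
      ∃ (k : J) (a : k ⟶ i) (b : k ⟶ j), F.map a ⁻¹' Ui ⊆ F.map b ⁻¹' Uj) ∧
    (∀ (i : J) (n : ℕ) (Ui : Set (F.obj i)) (V : Fin n → Set (F.obj i)),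
      IsOpen Ui → IsCompact Ui → (∀ l, IsOpen (V l) ∧ IsCompact (V l)) →
      (c.π.app i ⁻¹' Ui = ⋃ l, c.π.app i ⁻¹' V l →
        ∃ (j : J) (a : j ⟶ i), F.map a ⁻¹' Ui = ⋃ l, F.map a ⁻¹' V l) ∧
      (c.π.app i ⁻¹' Ui = ⋂ l, c.π.app i ⁻¹' V l →
        ∃ (j : J) (a : j ⟶ i), F.map a ⁻¹' Ui = ⋂ l, F.map a ⁻¹' V l)) := by
  have hFm' : ∀ {i j : J} (a : i ⟶ j), IsSpectralMap (F.map a : F.obj i → F.obj j) :=
    fun a => hFm a
  refine ⟨fun U hU hUc => ?_, fun i j Ui Uj hUi hUic hUj hUjc hsub => ?_,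
    fun i n Ui V hUi hUic hV => ⟨fun h => ?_, fun h => ?_⟩⟩
  · exact Groth.Agent.H38.mem_limBasis_of_isCompact_isOpen hF hFm' c hc hU hUc
  · let k0 := IsCofiltered.min i j
    let a0 : k0 ⟶ i := IsCofiltered.minToLeft i j
    let b0 : k0 ⟶ j := IsCofiltered.minToRight i j
    have hE : @IsClosed _ (constructibleTopology (F.obj k0)) (F.map a0 ⁻¹' Ui) :=
      Groth.Agent.H38.isClosed_constructibleTopology_of_isOpen_of_isCompact
        (hUi.preimage (hFm a0).continuous) ((hFm a0).isCompact_preimage_of_isOpen hUi hUic)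
    have hF' : @IsOpen _ (constructibleTopology (F.obj k0)) (F.map b0 ⁻¹' Uj) :=
      ((hFm b0).isCompact_preimage_of_isOpen hUj hUjc).isOpen_constructibleTopology_of_isOpen
        (hUj.preimage (hFm b0).continuous)
    have h1 : c.π.app k0 ⁻¹' (F.map a0 ⁻¹' Ui) ⊆ c.π.app k0 ⁻¹' (F.map b0 ⁻¹' Uj) := by
      intro x hx
      have hx' : c.π.app i x ∈ Ui := by
        have : F.map a0 (c.π.app k0 x) ∈ Ui := hx
        rwa [Groth.Agent.H38.lim_π_comp] at this
      have h2 : c.π.app j x ∈ Uj := hsub hx'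
      change F.map b0 (c.π.app k0 x) ∈ Uj
      rwa [Groth.Agent.H38.lim_π_comp]
    obtain ⟨k, a', ha'⟩ := (Groth.Agent.H38.lim_preimage_subset_iff hF hFm' c hc k0 _ _ hE hF').mp h1
    refine ⟨k, a' ≫ a0, a' ≫ b0, ?_⟩
    intro x hx
    have hx1 : x ∈ F.map a' ⁻¹' (F.map a0 ⁻¹' Ui) := by
      change F.map a0 (F.map a' x) ∈ Ui
      have : F.map (a' ≫ a0) x ∈ Ui := hx
      simpa using this
    have hx2 := ha' hx1
    change F.map (a' ≫ b0) x ∈ Uj
    have : F.map b0 (F.map a' x) ∈ Uj := hx2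
    simpa using this
  · have hA := Groth.Agent.H38.isClopen_constructibleTopology_of_isOpen_of_isCompact hUi hUic
    have hB : @IsClopen _ (constructibleTopology (F.obj i)) (⋃ l, V l) :=
      @isClopen_iUnion_of_finite _ (constructibleTopology (F.obj i)) _ _ _ fun l =>
        Groth.Agent.H38.isClopen_constructibleTopology_of_isOpen_of_isCompact (hV l).1 (hV l).2
    have h' : c.π.app i ⁻¹' Ui = c.π.app i ⁻¹' (⋃ l, V l) := by
      rw [Set.preimage_iUnion]; exact h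
    obtain ⟨j, a, ha⟩ := Groth.Agent.H38.lim_exists_preimage_eq hF hFm' c hc i _ _ hA hB h'
    refine ⟨j, a, ?_⟩
    rw [ha, Set.preimage_iUnion]
  · have hA := Groth.Agent.H38.isClopen_constructibleTopology_of_isOpen_of_isCompact hUi hUic
    have hB : @IsClopen _ (constructibleTopology (F.obj i)) (⋂ l, V l) :=
      @isClopen_iInter_of_finite _ (constructibleTopology (F.obj i)) _ _ _ fun l =>
        Groth.Agent.H38.isClopen_constructibleTopology_of_isOpen_of_isCompact (hV l).1 (hV l).2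
    have h' : c.π.app i ⁻¹' Ui = c.π.app i ⁻¹' (⋂ l, V l) := by
      rw [Set.preimage_iInter]; exact h
    obtain ⟨j, a, ha⟩ := Groth.Agent.H38.lim_exists_preimage_eq hF hFm' c hc i _ _ hA hB h'
    refine ⟨j, a, ?_⟩
    rw [ha, Set.preimage_iInter]

end Groth.Agent.S7538
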