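import Groth.Statements.S7546

set_option autoImplicit false
universe u
open ConstrTop

namespace Groth.Agent.S7546

/-- Let X be a topological space, Z ⊆ X irreducible and E ⊆ X a finite union of locally closed subsets
(for instance a constructible set). Then E ∩ Z is dense in Z if and only if E ∩ Z contains a subset
of the form U ∩ Z, U open in X, which is dense in Z. If moreover ξ ∈ Z is a generic point of Z,
these conditions are equivalent to ξ ∈ E. -/
theorem result {X : Type u} [TopologicalSpace X] (Z : Set X) (hZ : IsIrreducible Z)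
    {n : ℕ} (L : Fin n → Set X) (hL : ∀ i, IsLocallyClosed (L i)) (E : Set X) (hE : E = ⋃ i, L i) :
    (Z ⊆ closure (E ∩ Z) ↔ ∃ U : Set X, IsOpen U ∧ U ∩ Z ⊆ E ∧ Z ⊆ closure (U ∩ Z)) ∧
    (∀ ξ : X, ξ ∈ Z → Z ⊆ closure {ξ} → (Z ⊆ closure (E ∩ Z) ↔ ξ ∈ E)) := by
  classical
  have h1 : Z ⊆ closure (E ∩ Z) ↔ ∃ U : Set X, IsOpen U ∧ U ∩ Z ⊆ E ∧ Z ⊆ closure (U ∩ Z) := by
    constructor
    · intro h
      have hcov : Z ⊆ ⋃₀ ↑(Finset.univ.image fun i => closure (L i ∩ Z)) := by
        intro z hz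
        have hz' := h hz
        rw [hE, Set.iUnion_inter, closure_iUnion_of_finite] at hz'
        obtain ⟨i, hi⟩ := Set.mem_iUnion.mp hz'
        exact Set.mem_sUnion.mpr ⟨closure (L i ∩ Z), by simp, hi⟩
      obtain ⟨C, hC, hZC⟩ := isIrreducible_iff_sUnion_isClosed.mp hZ
        (Finset.univ.image fun i => closure (L i ∩ Z))
        (by
          intro z hz
          obtain ⟨i, -, rfl⟩ := Finset.mem_image.mp hz
          exact isClosed_closure) hcov
      obtain ⟨i, -, rfl⟩ := Finset.mem_image.mp hC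
      obtain ⟨O, C, hO, hC, hLi⟩ := hL i
      have hZsubC : Z ⊆ C := by
        refine hZC.trans (closure_minimal ?_ hC)
        rw [hLi]
        exact fun x hx => hx.1.2
      have heq : L i ∩ Z = O ∩ Z := by
        rw [hLi]
        ext x
        constructor
        · rintro ⟨⟨hxO, -⟩, hxZ⟩
          exact ⟨hxO, hxZ⟩
        · rintro ⟨hxO, hxZ⟩
          exact ⟨⟨hxO, hZsubC hxZ⟩, hxZ⟩
      refine ⟨O, hO, ?_, ?_⟩
      · rw [← heq, hE]
        exact fun x hx => Set.mem_iUnion.mpr ⟨i, hx.1⟩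
      · rw [← heq]
        exact hZC
    · rintro ⟨U, -, hUE, hZU⟩
      exact hZU.trans (closure_mono fun x hx => ⟨hUE hx, hx.2⟩)
  refine ⟨h1, fun ξ hξZ hZξ => ?_⟩
  constructor
  · intro h
    obtain ⟨U, hU, hUE, hZU⟩ := h1.mp h
    obtain ⟨z, -, this⟩ := mem_closure_iff.mp (hZU hξZ) Set.univ isOpen_univ (Set.mem_univ ξ)
    obtain ⟨w, hw, hwξ⟩ := mem_closure_iff.mp (hZξ this.2) U hU this.1
    rw [Set.mem_singleton_iff] at hwξ
    subst hwξ
    exact hUE ⟨hw, hξZ⟩
  · intro hξE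
    exact hZξ.trans (closure_mono (Set.singleton_subset_iff.mpr ⟨hξE, hξZ⟩))

end Groth.Agent.S7546
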