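import Groth.Statements.S7547

set_option autoImplicit false
universe u
open PtTop

namespace Groth.Agent.S7547

/-- Let X be a Kolmogorov topological space whose quasi-compact opens form a basis for the topology. If
X is not Jacobson, there is a point x ∈ X which is not closed but such that {x} is locally closed. -/
theorem result {X : Type u} [TopologicalSpace X]
    [T0Space X] [PrespectralSpace X] (hX : ¬ JacobsonSpace X) :
    ∃ x : X, ¬ IsClosed ({x} : Set X) ∧ IsLocallyClosed ({x} : Set X) := by
  rw [jacobsonSpace_iff_locallyClosed] at hX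
  push Not at hX
  obtain ⟨Z', hZne, hZlc, hZcl⟩ := hX
  obtain ⟨O, C, hO, hC, rfl⟩ := hZlc
  obtain ⟨z, hzO, hzC⟩ := hZne
  obtain ⟨U, ⟨hUo, hUc⟩, hzU, hUO⟩ :=
    (PrespectralSpace.isTopologicalBasis (X := X)).exists_subset_of_mem_open hzO hO
  have : CompactSpace U := isCompact_iff_compactSpace.mp hUc
  have hS : IsClosed ((Subtype.val : U → X) ⁻¹' C) := hC.preimage continuous_subtype_val
  obtain ⟨x, hxS, hxcl⟩ := hS.exists_closed_singleton ⟨⟨z, hzU⟩, hzC⟩
  refine ⟨x.1, ?_, ?_⟩
  · intro hcl
    have : x.1 ∈ O ∩ C ∩ closedPoints X := ⟨⟨hUO x.2, hxS⟩, hcl⟩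
    rw [hZcl] at this
    exact this
  · have h1 : IsLocallyClosed ((Subtype.val : U → X) '' {x}) :=
      hxcl.isLocallyClosed.image Topology.IsInducing.subtypeVal
        (by rw [Subtype.range_coe]; exact hUo.isLocallyClosed)
    rwa [Set.image_singleton] at h1

end Groth.Agent.S7547
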