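import Groth.Statements.S7548

set_option autoImplicit false
universe u
open PtTop

namespace Groth.Agent.S7548

/-- Let X be a Jacobson space and let T = ⋃ T_i be a union of subsets T_i ⊆ X each locally closed in X
(open, closed, locally closed and constructible subsets are of this form). Then T is Jacobson and
every point of T closed in T is closed in X. -/
theorem result {X : Type u} [TopologicalSpace X] [JacobsonSpace X]
    {ι : Type u} (T : ι → Set X) (hT : ∀ i, IsLocallyClosed (T i)) :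
    JacobsonSpace ↥(⋃ i, T i) ∧
      closedPoints ↥(⋃ i, T i) ⊆ (Subtype.val : ↥(⋃ i, T i) → X) ⁻¹' closedPoints X := by
  have hclosed : closedPoints ↥(⋃ i, T i) ⊆
      (Subtype.val : ↥(⋃ i, T i) → X) ⁻¹' closedPoints X := by
    rintro ⟨x, hxT⟩ hx
    rw [mem_closedPoints_iff] at hx
    change IsClosed ({x} : Set X)
    obtain ⟨i, hi⟩ := Set.mem_iUnion.mp hxT
    obtain ⟨O, C, hO, hC, hTi⟩ := hT i
    apply isClosed_singleton_of_isLocallyClosed_singleton
    -- `{x} = closure {x} ∩ O`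
    have hxO : x ∈ O := (hTi ▸ hi : x ∈ O ∩ C).1
    have hxC : x ∈ C := (hTi ▸ hi : x ∈ O ∩ C).2
    have hcl : closure ({x} : Set X) ⊆ C := closure_minimal (Set.singleton_subset_iff.mpr hxC) hC
    have heq : ({x} : Set X) = O ∩ closure {x} := by
      apply subset_antisymm
      · rintro _ rfl
        exact ⟨hxO, subset_closure rfl⟩
      · rintro y ⟨hyO, hycl⟩
        have hyT : y ∈ ⋃ i, T i := Set.mem_iUnion.mpr ⟨i, hTi ▸ ⟨hyO, hcl hycl⟩⟩
        have : (⟨y, hyT⟩ : ↥(⋃ i, T i)) ∈ closure ({⟨x, hxT⟩} : Set ↥(⋃ i, T i)) := by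
          rw [Topology.IsInducing.subtypeVal.closure_eq_preimage_closure_image, Set.image_singleton]
          exact hycl
        rw [hx.closure_eq, Set.mem_singleton_iff, Subtype.mk.injEq] at this
        exact this
    rw [heq]
    exact ⟨O, _, hO, isClosed_closure, rfl⟩
  refine ⟨?_, hclosed⟩
  rw [jacobsonSpace_iff_locallyClosed]
  intro Z hZne hZlc
  obtain ⟨Z', hZ', rfl⟩ := Topology.IsInducing.subtypeVal.isLocallyClosed_iff.mp hZlc
  obtain ⟨⟨z, hzT⟩, hz⟩ := hZne
  obtain ⟨i, hi⟩ := Set.mem_iUnion.mp hzT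
  obtain ⟨y, ⟨hyZ', hyTi⟩, hycl⟩ :=
    nonempty_inter_closedPoints (Z := Z' ∩ T i) ⟨z, hz, hi⟩ (hZ'.inter (hT i))
  have hyT : y ∈ ⋃ i, T i := Set.mem_iUnion.mpr ⟨i, hyTi⟩
  refine ⟨⟨y, hyT⟩, hyZ', ?_⟩
  rw [mem_closedPoints_iff]
  have : ({⟨y, hyT⟩} : Set ↥(⋃ i, T i)) = (Subtype.val : ↥(⋃ i, T i) → X) ⁻¹' {y} := by
    ext w
    simp [Subtype.ext_iff]
  rw [this]
  exact (mem_closedPoints_iff.mp hycl).preimage continuous_subtype_val

end Groth.Agent.S7548
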