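import Groth.Statements.S7550

set_option autoImplicit false
universe u
open PtTop

namespace Groth.Agent.S7550

/-- Let f : X → Y be a continuous and open map of topological spaces, with X Noetherian, every
irreducible closed subset of X having a generic point, and Y Kolmogorov. Then generalizations lift
along f. (Part (1), closed maps are specializing, is a library fact.) -/
theorem result {X Y : Type u} [TopologicalSpace X] [TopologicalSpace Y]
    [TopologicalSpace.NoetherianSpace X] [QuasiSober X] [T0Space Y]
    (f : X → Y) (hf : Continuous f) (hfo : IsOpenMap f) :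
    GeneralizingMap f := by
  intro x y' hy'
  -- `x` lies in the closure of the fibre over `y'`
  set W : Set X := f ⁻¹' {y'} with hW
  have hxW : x ∈ closure W := by
    rw [mem_closure_iff]
    intro U hU hxU
    have : y' ∈ f '' U := hy'.mem_open (hfo U hU) ⟨x, hxU, rfl⟩
    obtain ⟨z, hzU, hz⟩ := this
    exact ⟨z, hzU, hz⟩
  -- decompose the Noetherian subspace `W` into finitely many irreducible pieces
  obtain ⟨S, hSf, -, hSirr, hSU⟩ :=
    TopologicalSpace.NoetherianSpace.exists_finite_set_isClosed_irreducible
      (isClosed_univ (X := W))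
  have hWeq : W = ⋃₀ ((fun t : Set W => (Subtype.val : W → X) '' t) '' S) := by
    ext z
    constructor
    · intro hz
      have : (⟨z, hz⟩ : W) ∈ ⋃₀ S := hSU ▸ Set.mem_univ _
      obtain ⟨t, ht, hzt⟩ := this
      exact ⟨_, ⟨t, ht, rfl⟩, ⟨⟨z, hz⟩, hzt, rfl⟩⟩
    · rintro ⟨_, ⟨t, -, rfl⟩, ⟨w, -, rfl⟩⟩
      exact w.2
  rw [hWeq, (hSf.image _).closure_sUnion] at hxW
  simp only [Set.mem_iUnion, Set.mem_image, exists_prop] at hxW
  obtain ⟨_, ⟨t, ht, rfl⟩, hxt⟩ := hxW
  have hirr : IsIrreducible ((Subtype.val : W → X) '' t) :=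
    (hSirr t ht).image _ continuous_subtype_val.continuousOn
  have hgen := hirr.isGenericPoint_genericPoint_closure
  refine ⟨hirr.genericPoint, hgen.specializes hxt, ?_⟩
  -- the generic point maps to `y'`
  apply Inseparable.eq
  apply Specializes.antisymm
  · rw [specializes_iff_forall_open]
    intro V hV hy'V
    have hne : (closure ((Subtype.val : W → X) '' t) ∩ f ⁻¹' V).Nonempty := by
      obtain ⟨w, hw⟩ := (hSirr t ht).1
      exact ⟨w.1, subset_closure ⟨w, hw, rfl⟩, by
        have : f w.1 = y' := w.2
        simpa [this] using hy'V⟩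
    exact (hgen.mem_open_set_iff (hV.preimage hf)).mpr hne
  · rw [specializes_iff_mem_closure]
    have hsub : f '' closure ((Subtype.val : W → X) '' t) ⊆ closure {y'} := by
      refine (image_closure_subset_closure_image hf).trans (closure_mono ?_)
      rintro _ ⟨_, ⟨w, -, rfl⟩, rfl⟩
      exact w.2
    exact hsub ⟨_, hgen.mem, rfl⟩

end Groth.Agent.S7550
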