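import Groth.Statements.S7551
import Mathlib.Order.Preorder.Finite
import Mathlib.Topology.Separation.Basic

set_option autoImplicit false
universe u
open PtTop

namespace Groth.Agent.S7551

/-- Let s, t : R → U and π : U → X be continuous maps between topological spaces satisfying: (1) π is an
open map, (2) U is a sober space, (3) s and t have finite fibres, (4) generalizations lift along s
and along t, and (5) the image of (t, s) : R → U × U is an equivalence relation on U and π
identifies X, as a set, with the quotient of U by it. Then X is Kolmogorov. -/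
theorem result {R U X : Type u}
    [TopologicalSpace R] [TopologicalSpace U] [TopologicalSpace X] [QuasiSober U] [T0Space U]
    (s t : R → U) (π : U → X) (hs : Continuous s) (ht : Continuous t) (hπ : Continuous π)
    (hπo : IsOpenMap π) (hsf : ∀ u, (s ⁻¹' {u}).Finite) (htf : ∀ u, (t ⁻¹' {u}).Finite)
    (hsg : GeneralizingMap s) (htg : GeneralizingMap t)
    (hE : Equivalence fun u u' : U => ∃ r, t r = u ∧ s r = u')
    (hπs : Function.Surjective π) (hπq : ∀ u u' : U, π u = π u' ↔ ∃ r, t r = u ∧ s r = u') :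
    T0Space X := by
  -- finiteness of equivalence classes
  have hfin : ∀ u : U, {w : U | ∃ r, t r = w ∧ s r = u}.Finite := by
    intro u
    refine ((hsf u).image t).subset ?_
    rintro w ⟨r, rfl, hr⟩
    exact ⟨r, hr, rfl⟩
  -- key claim: specializations downstairs are witnessed upstairs
  have key : ∀ u u' : U, π u ⤳ π u' → ∃ w, (∃ r, t r = w ∧ s r = u) ∧ w ⤳ u' := by
    intro u u' hsp
    set W : Set U := ⋃ w ∈ {w : U | ∃ r, t r = w ∧ s r = u}, closure {w} with hW
    have hWc : IsClosed W := (hfin u).isClosed_biUnion fun _ _ => isClosed_closure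
    by_contra hcon
    have hu' : u' ∉ W := by
      intro hu'
      rw [hW, Set.mem_iUnion₂] at hu'
      obtain ⟨w, hw, hu'w⟩ := hu'
      exact hcon ⟨w, hw, specializes_iff_mem_closure.mpr hu'w⟩
    have hopen : IsOpen (π '' Wᶜ) := hπo _ hWc.isOpen_compl
    have hmem : π u ∈ π '' Wᶜ := hsp.mem_open hopen ⟨u', hu', rfl⟩
    obtain ⟨v, hvW, hv⟩ := hmem
    apply hvW
    rw [hW, Set.mem_iUnion₂]
    exact ⟨v, (hπq v u).mp hv, subset_closure rfl⟩
  rw [t0Space_iff_inseparable]
  intro x x' hxx'
  obtain ⟨u, rfl⟩ := hπs x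
  obtain ⟨u', rfl⟩ := hπs x'
  let _ := specializationPreorder U
  have hfinall : ({w : U | ∃ r, t r = w ∧ s r = u} ∪ {w : U | ∃ r, t r = w ∧ s r = u'}).Finite :=
    (hfin u).union (hfin u')
  have hne : ({w : U | ∃ r, t r = w ∧ s r = u} ∪ {w : U | ∃ r, t r = w ∧ s r = u'}).Nonempty :=
    ⟨u, Or.inl (hE.refl u)⟩
  obtain ⟨m, hm, hmax⟩ := hfinall.exists_maximal hne
  rcases hm with hm | hm
  · -- `m ~ u`; find `w' ~ u'` with `w' ⤳ m`
    have hsp : π u' ⤳ π m := by
      rw [(hπq m u).mpr hm]
      exact hxx'.specializes'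
    obtain ⟨w', hw', hw'm⟩ := key u' m hsp
    have hmw' : m ⤳ w' := hmax (Or.inr hw') hw'm
    have : w' = m := (hw'm.antisymm hmw').eq
    rw [← (hπq m u).mpr hm, ← this]
    exact ((hπq w' u').mpr hw')
  · have hsp : π u ⤳ π m := by
      rw [(hπq m u').mpr hm]
      exact hxx'.specializes
    obtain ⟨w, hw, hwm⟩ := key u m hsp
    have hmw : m ⤳ w := hmax (Or.inl hw) hwm
    have : w = m := (hwm.antisymm hmw).eq
    rw [← (hπq m u').mpr hm, ← this]
    exact ((hπq w u).mpr hw).symm

end Groth.Agent.S7551
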