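import Groth.Statements.S7552

set_option autoImplicit false
universe u
open PtTop

namespace Groth.Agent.S7552

open TopologicalSpace

/-- Lifting a chain of specializations along a generalizing surjection. -/
theorem lift_chain_gen {X Y : Type u} [TopologicalSpace X] [TopologicalSpace Y]
    (f : X → Y) (hsurj : Function.Surjective f) (hg : GeneralizingMap f) :
    ∀ (n : ℕ) (η : Fin (n + 1) → Y), (∀ i : Fin n, η i.succ ⤳ η i.castSucc) →
      ∃ x : Fin (n + 1) → X, (∀ i, f (x i) = η i) ∧ ∀ i : Fin n, x i.succ ⤳ x i.castSucc := by
  intro n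
  induction n with
  | zero =>
    intro η _
    obtain ⟨x, hx⟩ := hsurj (η 0)
    refine ⟨fun _ => x, fun i => ?_, fun i => i.elim0⟩
    rw [hx]
    congr 1
    exact (Fin.fin_one_eq_zero i).symm
  | succ n ih =>
    intro η hη
    obtain ⟨x', hx', hx'ch⟩ := ih (fun i => η i.castSucc) (fun i => hη i.castSucc)
    have hlast : η (Fin.last (n + 1)) ⤳ f (x' (Fin.last n)) := by
      rw [hx' (Fin.last n)]
      exact hη (Fin.last n)
    obtain ⟨xn, hxn, hfxn⟩ := hg hlast
    refine ⟨Fin.snoc x' xn, fun i => ?_, fun i => ?_⟩
    · refine Fin.lastCases ?_ (fun j => ?_) i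
      · simpa using hfxn
      · simpa using hx' j
    · refine Fin.lastCases ?_ (fun j => ?_) i
      · simpa using hxn
      · have h1 : (Fin.snoc x' xn : Fin (n + 2) → X) j.castSucc.succ = x' j.succ := by
          rw [← Fin.castSucc_succ, Fin.snoc_castSucc]
        have h2 : (Fin.snoc x' xn : Fin (n + 2) → X) j.castSucc.castSucc = x' j.castSucc := by
          rw [Fin.snoc_castSucc]
        rw [h1, h2]
        exact hx'ch j

/-- Lifting a chain of specializations along a specializing surjection. -/
theorem lift_chain_spec {X Y : Type u} [TopologicalSpace X] [TopologicalSpace Y]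
    (f : X → Y) (hsurj : Function.Surjective f) (hs : SpecializingMap f) :
    ∀ (n : ℕ) (η : Fin (n + 1) → Y), (∀ i : Fin n, η i.succ ⤳ η i.castSucc) →
      ∃ x : Fin (n + 1) → X, (∀ i, f (x i) = η i) ∧ ∀ i : Fin n, x i.succ ⤳ x i.castSucc := by
  intro n
  induction n with
  | zero =>
    intro η _
    obtain ⟨x, hx⟩ := hsurj (η 0)
    refine ⟨fun _ => x, fun i => ?_, fun i => i.elim0⟩
    rw [hx]
    congr 1
    exact (Fin.fin_one_eq_zero i).symm
  | succ n ih =>
    intro η hη
    obtain ⟨x', hx', hx'ch⟩ := ih (fun i => η i.succ) (fun i => hη i.succ)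
    have hfirst : f (x' 0) ⤳ η 0 := by
      rw [hx' 0]
      exact hη 0
    obtain ⟨x0, hx0, hfx0⟩ := hs hfirst
    replace hx0 : x' 0 ⤳ x0 := hx0
    refine ⟨Fin.cons x0 x', fun i => ?_, fun i => ?_⟩
    · refine Fin.cases ?_ (fun j => ?_) i
      · simpa using hfx0
      · simpa using hx' j
    · refine Fin.cases ?_ (fun j => ?_) i
      · simpa using hx0
      · have h1 : (Fin.cons x0 x' : Fin (n + 2) → X) j.succ.succ = x' j.succ := by
          rw [Fin.cons_succ]
        have h2 : (Fin.cons x0 x' : Fin (n + 2) → X) j.succ.castSucc = x' j.castSucc := by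
          rw [← Fin.succ_castSucc, Fin.cons_succ]
        rw [h1, h2]
        exact hx'ch j

/-- Let f : X → Y be a continuous surjective map of topological spaces with Y sober, and assume that
specializations lift along f or that generalizations lift along f. Then dim X ≥ dim Y (Krull
dimensions as suprema of lengths of chains of irreducible closed subsets). -/
theorem result {X Y : Type u}
    [TopologicalSpace X] [TopologicalSpace Y] [QuasiSober Y] [T0Space Y]
    (f : X → Y) (hf : Continuous f) (hsurj : Function.Surjective f)
    (hlift : SpecializingMap f ∨ GeneralizingMap f) :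
    topologicalKrullDim Y ≤ topologicalKrullDim X := by
  have hchain : ∀ (n : ℕ) (η : Fin (n + 1) → Y), (∀ i : Fin n, η i.succ ⤳ η i.castSucc) →
      ∃ x : Fin (n + 1) → X, (∀ i, f (x i) = η i) ∧ ∀ i : Fin n, x i.succ ⤳ x i.castSucc := by
    rcases hlift with h | h
    · exact lift_chain_spec f hsurj h
    · exact lift_chain_gen f hsurj h
  unfold topologicalKrullDim Order.krullDim
  refine iSup_le fun p => ?_
  -- generic points of the chain
  let η : Fin (p.length + 1) → Y := fun i => (p i).2.genericPoint
  have hη : ∀ i, IsGenericPoint (η i) (p i : Set Y) := fun i =>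
    (p i).2.isGenericPoint_genericPoint (p i).3
  have hηch : ∀ i : Fin p.length, η i.succ ⤳ η i.castSucc := by
    intro i
    apply (hη i.succ).specializes
    have hle : p i.castSucc ≤ p i.succ := (p.step i).le
    exact hle (hη i.castSucc).mem
  obtain ⟨x, hx, hxch⟩ := hchain p.length η hηch
  let q : Fin (p.length + 1) → IrreducibleCloseds X := fun i =>
    ⟨closure {x i}, isIrreducible_singleton.closure, isClosed_closure⟩
  have hq : StrictMono q := by
    rw [Fin.strictMono_iff_lt_succ]
    intro i
    have hle : q i.castSucc ≤ q i.succ := by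
      change closure {x i.castSucc} ⊆ closure {x i.succ}
      exact closure_minimal (Set.singleton_subset_iff.mpr
        (specializes_iff_mem_closure.mp (hxch i))) isClosed_closure
    refine lt_of_le_of_ne hle fun heq => ?_
    have heq' : closure ({x i.castSucc} : Set X) = closure {x i.succ} :=
      congrArg (fun Z : IrreducibleCloseds X => (Z : Set X)) heq
    have hsp : x i.castSucc ⤳ x i.succ := by
      rw [specializes_iff_mem_closure, heq']
      exact subset_closure rfl
    have hsp' : η i.castSucc ⤳ η i.succ := by
      rw [← hx, ← hx]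
      exact hsp.map hf
    have hηeq : η i.castSucc = η i.succ := (hsp'.antisymm (hηch i)).eq
    have : (p i.castSucc : Set Y) = p i.succ := by
      rw [← (hη i.castSucc).def, ← (hη i.succ).def, hηeq]
    exact (p.step i).ne (IrreducibleCloseds.ext this)
  exact le_iSup_of_le (LTSeries.mk p.length q hq) le_rfl

end Groth.Agent.S7552
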