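import Groth.Statements.S7553
import Groth.Agent.H38.SpectralConstr

set_option autoImplicit false
universe u
open ConstrTop

namespace Groth.Agent.S7553

/-- Let X be a Noetherian sober topological space and E ⊆ X. (1) A constructible E that is closed under
specialization is a closed subset. (2) A constructible E that is closed under generalization is an
open subset. -/
theorem result {X : Type u} [TopologicalSpace X]
    [TopologicalSpace.NoetherianSpace X] [QuasiSober X] [T0Space X] (E : Set X) (hE : Topology.IsConstructible E) :
    (StableUnderSpecialization E → IsClosed E) ∧ (StableUnderGeneralization E → IsOpen E) := by
  have hcl := H38.isClopen_constructibleTopology_of_isConstructible hE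
  exact ⟨fun h => H38.isClosed_of_isClosed_constructibleTopology_of_stableUnderSpecialization hcl.1 h,
    fun h => H38.isOpen_of_isOpen_constructibleTopology_of_stableUnderGeneralization hcl.2 h⟩

end Groth.Agent.S7553
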