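import Groth.Statements.S7557
import Groth.Agent.H38.TopRingLim

set_option autoImplicit false
universe u
open CategoryTheory CategoryTheory.Limits
open PtTop

namespace Groth.Agent.S7557

/-- The category of topological rings (commutative, with continuous ring homomorphisms) has limits, and
limits commute with the forgetful functors to topological spaces and to rings. -/
theorem result :
    HasLimits TopCommRingCat.{u} ∧
    PreservesLimits (forget₂ TopCommRingCat.{u} TopCat.{u}) ∧
    PreservesLimits (forget₂ TopCommRingCat.{u} CommRingCat.{u}) := by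
  refine ⟨⟨fun J _ => ⟨fun F => ?_⟩⟩, ⟨fun {J} _ => ⟨fun {F} => ?_⟩⟩, ⟨fun {J} _ => ⟨fun {F} => ?_⟩⟩⟩
  · exact Groth.Agent.H38.TopRing.hasLimit_of_hasLimit_forget₂ F
  · exact Groth.Agent.H38.TopRing.preservesLimit_forget₂_topCat F
  · exact Groth.Agent.H38.TopRing.preservesLimit_forget₂_commRingCat F

end Groth.Agent.S7557
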