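import Groth.Statements.S7559
import Groth.Agent.H38.Atoms

set_option autoImplicit false
universe u
open PtTop

namespace Groth.Agent.S7559

/-- Let X be a topological space and X = ∐ P_k a finite partition into locally closed parts. Then there
is a finite stratification of X refining it: a finite partially ordered index set I and pairwise
disjoint locally closed strata S_i covering X with closure(S_j) ⊆ ⋃_{i ≤ j} S_i, such that every
part P_k is a union of strata. -/
theorem result {X : Type u} [TopologicalSpace X]
    {n : ℕ} (P : Fin n → Set X) (hP : ∀ k, IsLocallyClosed (P k)) (hcov : ⋃ k, P k = Set.univ)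
    (hdisj : ∀ k k', k ≠ k' → Disjoint (P k) (P k')) :
    ∃ (I : Type) (_ : Fintype I) (_ : PartialOrder I) (S : I → Set X),
      (∀ i, IsLocallyClosed (S i)) ∧ (⋃ i, S i = Set.univ) ∧ (∀ i j, i ≠ j → Disjoint (S i) (S j)) ∧
      (∀ j, closure (S j) ⊆ ⋃ i ∈ Set.Iic j, S i) ∧
      (∀ i k, (S i ∩ P k).Nonempty → S i ⊆ P k) := by
  classical
  let C : Fin n ⊕ Fin n → Set X := fun c => Sum.elim (fun k => closure (P k))
    (fun k => closure (P k) \ P k) c
  have hC : ∀ c, IsClosed (C c) := by
    rintro (k | k)
    · exact isClosed_closure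
    · have := (hP k)
      rw [isLocallyClosed_iff_isOpen_coborder, coborder, isOpen_compl_iff] at this
      exact this
  have hsat : ∀ k, H38.IsSaturatedFor C (P k) := by
    intro k x y h
    have h1 := h (Sum.inl k)
    have h2 := h (Sum.inr k)
    simp only [C, Sum.elim_inl, Sum.elim_inr, Set.mem_sdiff] at h1 h2
    constructor
    · intro hx
      by_contra hy
      have hxc : x ∈ closure (P k) := subset_closure hx
      exact (h2.mpr ⟨h1.mp hxc, hy⟩).2 hx
    · intro hy
      by_contra hx
      have hyc : y ∈ closure (P k) := subset_closure hy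
      exact (h2.mp ⟨h1.mpr hyc, hx⟩).2 hy
  refine ⟨(Finset (Fin n ⊕ Fin n))ᵒᵈ, inferInstance, inferInstance,
    fun J => H38.atom C (OrderDual.ofDual J), ?_, ?_, ?_, ?_, ?_⟩
  · intro J
    exact H38.isLocallyClosed_atom_of_isClosed hC _
  · have := H38.iUnion_atom C
    rw [← this]
    apply subset_antisymm
    · exact Set.iUnion_subset fun J => Set.subset_iUnion (fun J => H38.atom C J) (OrderDual.ofDual J)
    · exact Set.iUnion_subset fun J =>
        Set.subset_iUnion (fun J : (Finset (Fin n ⊕ Fin n))ᵒᵈ => H38.atom C (OrderDual.ofDual J))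
          (OrderDual.toDual J)
  · intro J J' hJJ'
    exact H38.atom_disjoint C fun h => hJJ' (OrderDual.ofDual.injective h)
  · intro J
    refine (H38.closure_atom_subset_of_isClosed hC (OrderDual.ofDual J)).trans ?_
    intro x hx
    obtain ⟨J', hJ', hxJ'⟩ := Set.mem_iUnion₂.mp hx
    exact Set.mem_iUnion₂.mpr ⟨OrderDual.toDual J', hJ', hxJ'⟩
  · intro J k h
    exact H38.atom_subset_of_nonempty_inter (hsat k) h

end Groth.Agent.S7559
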