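import Groth.Statements.S7560
import Groth.Agent.H38.Atoms

set_option autoImplicit false
universe u
open ConstrTop

namespace Groth.Agent.S7560

/-- Let X be a topological space written as a finite union X = T_1 ∪ … ∪ T_n of constructible subsets.
Then there is a finite stratification X = ∐ S_i (pairwise disjoint locally closed strata indexed by
a finite partially ordered set, with closure(S_j) ⊆ ⋃_{i ≤ j} S_i) whose strata are constructible
and such that every T_k is a union of strata. -/
theorem result {X : Type u} [TopologicalSpace X]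
    {n : ℕ} (T : Fin n → Set X) (hT : ∀ k, Topology.IsConstructible (T k)) (hcov : ⋃ k, T k = Set.univ) :
    ∃ (I : Type) (_ : Fintype I) (_ : PartialOrder I) (S : I → Set X),
      (∀ i, IsLocallyClosed (S i) ∧ Topology.IsConstructible (S i)) ∧ (⋃ i, S i = Set.univ) ∧
      (∀ i j, i ≠ j → Disjoint (S i) (S j)) ∧
      (∀ j, closure (S j) ⊆ ⋃ i ∈ Set.Iic j, S i) ∧
      (∀ i k, (S i ∩ T k).Nonempty → S i ⊆ T k) := by
  classical
  choose ι hι O hO hsat using fun k => H38.exists_family_of_isConstructible (hT k)
  let C : (Σ k, ι k) → Set X := fun p => O p.1 p.2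
  have hC : ∀ c, IsOpen (C c) ∧ IsRetrocompact (C c) := fun c => hO c.1 c.2
  have hsat' : ∀ k, H38.IsSaturatedFor C (T k) := fun k =>
    (hsat k).comp C (fun i => ⟨k, i⟩) (fun _ => rfl)
  refine ⟨Finset (Σ k, ι k), inferInstance, inferInstance, fun J => H38.atom C J,
    ?_, ?_, ?_, ?_, ?_⟩
  · intro J
    exact ⟨H38.isLocallyClosed_atom_of_isOpen (fun c => (hC c).1) J, H38.isConstructible_atom hC J⟩
  · exact H38.iUnion_atom C
  · intro J J' hJJ'
    exact H38.atom_disjoint C hJJ'
  · intro J
    exact H38.closure_atom_subset_of_isOpen (fun c => (hC c).1) J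
  · intro J k h
    exact H38.atom_subset_of_nonempty_inter (hsat' k) h

end Groth.Agent.S7560
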