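import Groth.Statements.S7564

set_option autoImplicit false
universe u
open PtTop

namespace Groth.Agent.S7564

/-- For a continuous surjection f : X → Y, if X has finitely many irreducible components, say n of them,
then Y has at most n irreducible components. -/
theorem result {X Y : Type u} [TopologicalSpace X] [TopologicalSpace Y]
    (f : X → Y) (hf : Continuous f) (hs : Function.Surjective f) (hfin : (irreducibleComponents X).Finite) :
    (irreducibleComponents Y).Finite ∧ (irreducibleComponents Y).ncard ≤ (irreducibleComponents X).ncard := by
  classical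
  set g : Set X → Set Y := fun Z => closure (f '' Z) with hg
  have hsub : irreducibleComponents Y ⊆ g '' irreducibleComponents X := by
    intro W hW
    obtain ⟨z, hz, hWz⟩ := isIrreducible_iff_sUnion_isClosed.mp hW.1
      ((hfin.image g).toFinset)
      (by
        intro z hz
        rw [Set.Finite.mem_toFinset] at hz
        obtain ⟨Z, -, rfl⟩ := hz
        exact isClosed_closure)
      (by
        intro y _
        obtain ⟨x, rfl⟩ := hs y
        have hx : x ∈ ⋃₀ irreducibleComponents X := by
          rw [sUnion_irreducibleComponents]; exact Set.mem_univ x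
        obtain ⟨Z, hZ, hxZ⟩ := Set.mem_sUnion.mp hx
        refine Set.mem_sUnion.mpr ⟨g Z, ?_, subset_closure ⟨x, hxZ, rfl⟩⟩
        simp only [Set.Finite.coe_toFinset]
        exact ⟨Z, hZ, rfl⟩)
    rw [Set.Finite.mem_toFinset] at hz
    obtain ⟨Z, hZ, rfl⟩ := hz
    refine ⟨Z, hZ, ?_⟩
    have hirr : IsIrreducible (g Z) := (hZ.1.image f hf.continuousOn).closure
    exact (subset_antisymm (hW.2 hirr hWz) hWz)
  have hfin' : (g '' irreducibleComponents X).Finite := hfin.image g
  refine ⟨hfin'.subset hsub, ?_⟩
  calc (irreducibleComponents Y).ncard ≤ (g '' irreducibleComponents X).ncard :=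
        Set.ncard_le_ncard hsub hfin'
    _ ≤ (irreducibleComponents X).ncard := Set.ncard_image_le hfin

end Groth.Agent.S7564
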