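import Groth.Statements.S7567
import Groth.Agent.H38.Clopen

set_option autoImplicit false
universe u
open PtTop

namespace Groth.Agent.S7567

/-- Let X be a quasi-compact topological space whose quasi-compact opens form a basis, any two of them
meeting in a quasi-compact set. For a subset T ⊆ X these two conditions are equivalent: (a) T can be
written as an intersection of clopen subsets of X; (b) T is closed and is a union of connected
components of X. -/
theorem result {X : Type u} [TopologicalSpace X]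
    [CompactSpace X] [PrespectralSpace X] [QuasiSeparatedSpace X] (T : Set X) :
    (∃ S : Set (Set X), (∀ Z ∈ S, IsClopen Z) ∧ T = ⋂₀ S) ↔
      (IsClosed T ∧ ∀ x ∈ T, connectedComponent x ⊆ T) := by
  constructor
  · rintro ⟨S, hS, rfl⟩
    refine ⟨isClosed_sInter fun Z hZ => (hS Z hZ).1, fun x hx => ?_⟩
    exact Set.subset_sInter fun Z hZ =>
      (hS Z hZ).connectedComponent_subset (Set.mem_sInter.mp hx Z hZ)
  · rintro ⟨hTc, hT⟩
    refine ⟨{Z | IsClopen Z ∧ T ⊆ Z}, fun Z hZ => hZ.1, ?_⟩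
    apply subset_antisymm
    · exact Set.subset_sInter fun Z hZ => hZ.2
    · intro y hy
      by_contra hyT
      have key : ∃ Z : Set X, IsClopen Z ∧ T ⊆ Z ∧ y ∉ Z := by
        refine hTc.isCompact.induction_on (p := fun A => ∃ Z : Set X, IsClopen Z ∧ A ⊆ Z ∧ y ∉ Z)
          ⟨∅, isClopen_empty, subset_rfl, fun h => h⟩ ?_ ?_ ?_
        · rintro A B hAB ⟨Z, hZ, hBZ, hyZ⟩
          exact ⟨Z, hZ, hAB.trans hBZ, hyZ⟩
        · rintro A B ⟨Z₁, hZ₁, hAZ₁, hyZ₁⟩ ⟨Z₂, hZ₂, hBZ₂, hyZ₂⟩
          refine ⟨Z₁ ∪ Z₂, hZ₁.union hZ₂, Set.union_subset_union hAZ₁ hBZ₂, ?_⟩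
          rintro (h | h)
          · exact hyZ₁ h
          · exact hyZ₂ h
        · intro x hx
          have hyx : y ∉ connectedComponent x := fun h => hyT (hT x hx h)
          rw [H38.connectedComponent_eq_sInter_isClopen x, Set.mem_sInter] at hyx
          push Not at hyx
          obtain ⟨Z, ⟨hZ, hxZ⟩, hyZ⟩ := hyx
          exact ⟨Z, mem_nhdsWithin_of_mem_nhds (hZ.2.mem_nhds hxZ), Z, hZ, subset_rfl, hyZ⟩
      obtain ⟨Z, hZ, hTZ, hyZ⟩ := key
      exact hyZ (Set.mem_sInter.mp hy Z ⟨hZ, hTZ⟩)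

end Groth.Agent.S7567
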