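import Groth.Statements.S7568
import Groth.Agent.H38.CechRefine

set_option autoImplicit false
universe u
open PtTop

namespace Groth.Agent.S7568

/-- Let X be a Hausdorff quasi-compact space, X = ⋃ U_i an open covering, p ≥ 0 an integer, and for
every (p+1)-tuple (i_0, …, i_p) an open covering of U_{i_0} ∩ … ∩ U_{i_p} by opens W_{i_0…i_p,k}.
Then there are an open covering X = ⋃_{j ∈ J} V_j and a map α : J → I with closure(V_j) ⊆ U_{α(j)}
such that each V_{j_0} ∩ … ∩ V_{j_p} is contained in W_{α(j_0)…α(j_p),k} for some k. The published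
statement allows a covering of an empty intersection to have no members; this row requires every
covering W_{i_0…i_p} to have at least one member (possibly empty), without which the conclusion
fails. -/
theorem result {X : Type u} [TopologicalSpace X] [CompactSpace X] [T2Space X]
    {ι : Type u} (U : ι → Set X) (hU : ∀ i, IsOpen (U i)) (hcov : ⋃ i, U i = Set.univ) (p : ℕ)
    (W : (Fin (p + 1) → ι) → Set (Set X)) (hWo : ∀ t, ∀ w ∈ W t, IsOpen w)
    (hWc : ∀ t, ⋃₀ W t = ⋂ l, U (t l)) (hWne : ∀ t, (W t).Nonempty) :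
    ∃ (J : Type u) (V : J → Set X) (α : J → ι), (∀ j, IsOpen (V j)) ∧ (⋃ j, V j = Set.univ) ∧
      (∀ j, closure (V j) ⊆ U (α j)) ∧
      (∀ t : Fin (p + 1) → J, ∃ w ∈ W (α ∘ t), (⋂ l, V (t l)) ⊆ w) := by
  classical
  obtain ⟨I₀, V', hV'o, hV'cov, hV'cl, hV'emp⟩ :=
    Groth.Agent.H38.exists_finite_shrinking (Z := (Set.univ : Set X)) isCompact_univ
      (fun i A => closure A ⊆ U i)
      (fun i => by simp) (fun i A B hA hB => by
        rw [closure_union]; exact Set.union_subset hA hB)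
      (fun z _ => by
        obtain ⟨i, hi⟩ := Set.mem_iUnion.mp (hcov ▸ Set.mem_univ z : z ∈ ⋃ i, U i)
        obtain ⟨A, hAo, hzA, hAU, -⟩ := exists_open_between_and_isCompact_closure
          isCompact_singleton (hU i) (Set.singleton_subset_iff.mpr hi)
        exact ⟨i, A, hAo, Set.singleton_subset_iff.mp hzA, hAU⟩)
  have hα : ∀ x : X, ∃ i, x ∈ V' i := fun x => Set.mem_iUnion.mp (hV'cov (Set.mem_univ x))
  choose α hαx using hα
  have hmemI₀ : ∀ {i : ι} {y : X}, y ∈ V' i → i ∈ I₀ := by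
    intro i y hy
    by_contra h
    rw [hV'emp i h] at hy
    exact hy
  have hw : ∀ (x : X) (t : Fin (p + 1) → ι), ∃ w : Set X, IsOpen w ∧ x ∈ w ∧
      (x ∈ ⋂ l, U (t l) → w ∈ W t) := by
    intro x t
    by_cases hx : x ∈ ⋂ l, U (t l)
    · rw [← hWc t] at hx
      obtain ⟨w, hwW, hxw⟩ := Set.mem_sUnion.mp hx
      exact ⟨w, hWo t w hwW, hxw, fun _ => hwW⟩
    · exact ⟨Set.univ, isOpen_univ, Set.mem_univ x, fun h => absurd h hx⟩
  choose w hwo hxw hwW using hw
  let V : X → Set X := fun x => (V' (α x) ∩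
    ⋂ i ∈ I₀.filter (fun i => x ∉ closure (V' i)), (closure (V' i))ᶜ) ∩
    ⋂ t ∈ Fintype.piFinset (fun _ : Fin (p + 1) => I₀), w x t
  have hxV : ∀ x, x ∈ V x := by
    intro x
    refine ⟨⟨hαx x, ?_⟩, ?_⟩
    · rw [Set.mem_iInter₂]
      intro i hi
      exact (Finset.mem_filter.mp hi).2
    · rw [Set.mem_iInter₂]
      intro t _
      exact hxw x t
  refine ⟨X, V, α, ?_, ?_, ?_, ?_⟩
  · intro x
    refine ((hV'o (α x)).inter ?_).inter ?_
    · exact isOpen_biInter_finset fun i _ => isClosed_closure.isOpen_compl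
    · exact isOpen_biInter_finset fun t _ => hwo x t
  · exact Set.eq_univ_of_forall fun x => Set.mem_iUnion.mpr ⟨x, hxV x⟩
  · intro x
    exact (closure_mono (Set.inter_subset_left.trans Set.inter_subset_left)).trans (hV'cl (α x))
  · intro t
    by_cases hne : (⋂ l, V (t l)).Nonempty
    · obtain ⟨y, hy⟩ := hne
      rw [Set.mem_iInter] at hy
      have hyV' : ∀ l, y ∈ V' (α (t l)) := fun l => (hy l).1.1
      have hsI₀ : ∀ l, (α ∘ t) l ∈ I₀ := fun l => hmemI₀ (hyV' l)
      have hx₀ : t 0 ∈ ⋂ l, U ((α ∘ t) l) := by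
        rw [Set.mem_iInter]
        intro l
        apply hV'cl
        by_contra hcon
        have h1 := (hy 0).1.2
        rw [Set.mem_iInter₂] at h1
        have h2 := h1 ((α ∘ t) l) (Finset.mem_filter.mpr ⟨hsI₀ l, hcon⟩)
        exact h2 (subset_closure (hyV' l))
      refine ⟨w (t 0) (α ∘ t), hwW _ _ hx₀, ?_⟩
      intro z hz
      rw [Set.mem_iInter] at hz
      have h1 := (hz 0).2
      rw [Set.mem_iInter₂] at h1
      exact h1 (α ∘ t) (Fintype.mem_piFinset.mpr hsI₀)
    · obtain ⟨w₀, hw₀⟩ := hWne (α ∘ t)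
      refine ⟨w₀, hw₀, ?_⟩
      rw [Set.not_nonempty_iff_eq_empty] at hne
      rw [hne]
      exact Set.empty_subset _

end Groth.Agent.S7568
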