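import Groth.Statements.S7569
import Groth.Agent.H38.CechRefine

set_option autoImplicit false
universe u
open PtTop

namespace Groth.Agent.S7569

/-- Let X be a Hausdorff, locally quasi-compact space and Z ⊆ X a quasi-compact subset. Let p ≥ 0, let
U_i ⊆ X be opens with Z ⊆ ⋃ U_i, and for every (p+1)-tuple (i_0, …, i_p) let W_{i_0…i_p} ⊆ U_{i_0} ∩
… ∩ U_{i_p} be an open with W_{i_0…i_p} ∩ Z = U_{i_0} ∩ … ∩ U_{i_p} ∩ Z. Then there are opens V_i ⊆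
X with Z ⊆ ⋃ V_i, closure(V_i) ⊆ U_i for all i, and V_{i_0} ∩ … ∩ V_{i_p} ⊆ W_{i_0…i_p} for all
(p+1)-tuples. -/
theorem result {X : Type u} [TopologicalSpace X]
    [T2Space X] [LocallyCompactSpace X] (Z : Set X) (hZ : IsCompact Z)
    {ι : Type u} (U : ι → Set X) (hU : ∀ i, IsOpen (U i)) (hcov : Z ⊆ ⋃ i, U i) (p : ℕ)
    (W : (Fin (p + 1) → ι) → Set X) (hWo : ∀ t, IsOpen (W t)) (hWU : ∀ t, W t ⊆ ⋂ l, U (t l))
    (hWZ : ∀ t, W t ∩ Z = (⋂ l, U (t l)) ∩ Z) :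
    ∃ V : ι → Set X, (∀ i, IsOpen (V i)) ∧ (Z ⊆ ⋃ i, V i) ∧ (∀ i, closure (V i) ⊆ U i) ∧
      (∀ t : Fin (p + 1) → ι, (⋂ l, V (t l)) ⊆ W t) := by
  obtain ⟨I₀, V₀, hV₀o, hV₀cov, hV₀cl, hV₀emp⟩ :=
    Groth.Agent.H38.exists_finite_shrinking hZ (fun i A => closure A ⊆ U i)
      (fun i => by simp) (fun i A B hA hB => by
        rw [closure_union]; exact Set.union_subset hA hB)
      (fun z hz => by
        obtain ⟨i, hi⟩ := Set.mem_iUnion.mp (hcov hz)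
        obtain ⟨A, hAo, hzA, hAU, -⟩ := exists_open_between_and_isCompact_closure
          isCompact_singleton (hU i) (Set.singleton_subset_iff.mpr hi)
        exact ⟨i, A, hAo, Set.singleton_subset_iff.mp hzA, hAU⟩)
  obtain ⟨N, hNo, hZN, hN⟩ := Groth.Agent.H38.exists_nhd_refinement U p W hWo hWZ I₀ V₀
    (fun i => Set.inter_subset_left.trans (hV₀cl i)) hV₀emp
  refine ⟨fun i => V₀ i ∩ N, fun i => (hV₀o i).inter hNo, ?_, ?_, hN⟩
  · intro z hz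
    obtain ⟨i, hi⟩ := Set.mem_iUnion.mp (hV₀cov hz)
    exact Set.mem_iUnion.mpr ⟨i, hi, hZN hz⟩
  · intro i
    exact (closure_mono Set.inter_subset_left).trans (hV₀cl i)

end Groth.Agent.S7569
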