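import Groth.Statements.S7570
import Groth.Agent.H38.CechRefine

set_option autoImplicit false
universe u
open PtTop

namespace Groth.Agent.S7570

/-- Let X be a topological space and Z ⊆ X a quasi-compact subset such that any two distinct points of Z
have disjoint open neighbourhoods in X. Let p ≥ 0, let U_i ⊆ X be opens with Z ⊆ ⋃ U_i, and for
every (p+1)-tuple let W_{i_0…i_p} ⊆ U_{i_0} ∩ … ∩ U_{i_p} be an open with W_{i_0…i_p} ∩ Z = U_{i_0}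
∩ … ∩ U_{i_p} ∩ Z. Then there are opens V_i with (1) Z ⊆ ⋃ V_i, (2) V_i ⊆ U_i, (3) closure(V_i) ∩ Z
⊆ U_i, and (4) V_{i_0} ∩ … ∩ V_{i_p} ⊆ W_{i_0…i_p} for all (p+1)-tuples. -/
theorem result {X : Type u} [TopologicalSpace X]
    (Z : Set X) (hZ : IsCompact Z)
    (hZsep : ∀ z ∈ Z, ∀ z' ∈ Z, z ≠ z' → ∃ A B : Set X, IsOpen A ∧ IsOpen B ∧ z ∈ A ∧ z' ∈ B ∧ Disjoint A B)
    {ι : Type u} (U : ι → Set X) (hU : ∀ i, IsOpen (U i)) (hcov : Z ⊆ ⋃ i, U i) (p : ℕ)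
    (W : (Fin (p + 1) → ι) → Set X) (hWo : ∀ t, IsOpen (W t)) (hWU : ∀ t, W t ⊆ ⋂ l, U (t l))
    (hWZ : ∀ t, W t ∩ Z = (⋂ l, U (t l)) ∩ Z) :
    ∃ V : ι → Set X, (∀ i, IsOpen (V i)) ∧ (Z ⊆ ⋃ i, V i) ∧ (∀ i, V i ⊆ U i) ∧
      (∀ i, closure (V i) ∩ Z ⊆ U i) ∧ (∀ t : Fin (p + 1) → ι, (⋂ l, V (t l)) ⊆ W t) := by
  have hsep : ∀ z ∈ Z, ∀ i, z ∈ U i →
      ∃ A : Set X, IsOpen A ∧ z ∈ A ∧ A ⊆ U i ∧ closure A ∩ Z ⊆ U i := by
    intro z hz i hzi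
    have hL : IsCompact (Z \ U i) := hZ.diff (hU i)
    have hdisj : Disjoint (nhds z) (nhdsSet (Z \ U i)) := by
      rw [hL.disjoint_nhdsSet_right]
      intro y hy
      have hne : z ≠ y := fun h => hy.2 (h ▸ hzi)
      obtain ⟨A, B, hA, hB, hzA, hyB, hAB⟩ := hZsep z hz y hy.1 hne
      exact Filter.disjoint_iff.mpr ⟨A, hA.mem_nhds hzA, B, hB.mem_nhds hyB, hAB⟩
    obtain ⟨A, ⟨hzA, hAo⟩, B, ⟨hBo, hLB⟩, hAB⟩ :=
      ((nhds_basis_opens z).disjoint_iff (hasBasis_nhdsSet (Z \ U i))).mp hdisj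
    refine ⟨A ∩ U i, hAo.inter (hU i), ⟨hzA, hzi⟩, Set.inter_subset_right, ?_⟩
    rintro x ⟨hxc, hxZ⟩
    by_contra hxU
    have hxB : x ∈ B := hLB ⟨hxZ, hxU⟩
    have h1 : Disjoint (closure A) B := hAB.closure_left hBo
    exact Set.disjoint_left.mp h1 (closure_mono Set.inter_subset_left hxc) hxB
  obtain ⟨I₀, V₀, hV₀o, hV₀cov, hV₀P, hV₀emp⟩ :=
    Groth.Agent.H38.exists_finite_shrinking hZ (fun i A => A ⊆ U i ∧ closure A ∩ Z ⊆ U i)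
      (fun i => by simp) (fun i A B hA hB => by
        refine ⟨Set.union_subset hA.1 hB.1, ?_⟩
        rw [closure_union, Set.union_inter_distrib_right]
        exact Set.union_subset hA.2 hB.2)
      (fun z hz => by
        obtain ⟨i, hi⟩ := Set.mem_iUnion.mp (hcov hz)
        obtain ⟨A, hAo, hzA, hAU, hAcl⟩ := hsep z hz i hi
        exact ⟨i, A, hAo, hzA, hAU, hAcl⟩)
  obtain ⟨N, hNo, hZN, hN⟩ := Groth.Agent.H38.exists_nhd_refinement U p W hWo hWZ I₀ V₀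
    (fun i => (hV₀P i).2) hV₀emp
  refine ⟨fun i => V₀ i ∩ N, fun i => (hV₀o i).inter hNo, ?_, ?_, ?_, hN⟩
  · intro z hz
    obtain ⟨i, hi⟩ := Set.mem_iUnion.mp (hV₀cov hz)
    exact Set.mem_iUnion.mpr ⟨i, hi, hZN hz⟩
  · intro i
    exact Set.inter_subset_left.trans (hV₀P i).1
  · intro i
    exact (Set.inter_subset_inter_left _ (closure_mono Set.inter_subset_left)).trans (hV₀P i).2

end Groth.Agent.S7570
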