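import Groth.Statements.S7579
import Groth.Agent.H38.Spectral

set_option autoImplicit false
universe u
open SpecSp

namespace Groth.Agent.S7579

/-- Let X be a spectral space. Then X with its constructible topology is Hausdorff and totally
disconnected. The published statement also asserts that the constructible topology is quasi-compact;
this row states the Hausdorff and totally disconnected parts. -/
theorem result (X : Type u) [TopologicalSpace X] [SpectralSpace X] :
    T2Space (WithConstructibleTopology X) ∧ TotallyDisconnectedSpace (WithConstructibleTopology X) := by
  have hc : @Continuous (WithConstructibleTopology X) X _ (constructibleTopology X)
      WithTopology.ofTopology := WithTopology.continuous_ofTopology _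
  have hi : Function.Injective (WithTopology.ofTopology (t := constructibleTopology X)) :=
    WithTopology.ofTopology_injective _
  refine ⟨?_, ?_⟩
  · exact @T2Space.of_injective_continuous (WithConstructibleTopology X) X _
      (constructibleTopology X) H38.t2Space_constructibleTopology _ hi hc
  · rw [totallyDisconnectedSpace_iff]
    refine @isTotallyDisconnected_of_image (WithConstructibleTopology X) X _ Set.univ
      (constructibleTopology X) WithTopology.ofTopology ?_ hi ?_
    · exact @Continuous.continuousOn _ _ _ (constructibleTopology X) _ _ hc
    · exact @isTotallyDisconnected_of_totallyDisconnectedSpace X (constructibleTopology X)
        H38.totallyDisconnectedSpace_constructibleTopology _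

end Groth.Agent.S7579
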