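import Groth.Statements.S7580

set_option autoImplicit false
universe u
open PtTop

namespace Groth.Agent.S7580

/-- Let f : X → Y be a continuous map of topological spaces with f(X) dense in Y and Y Hausdorff. Then
the cardinality of Y is at most that of the double power set of X. -/
theorem result {X Y : Type u} [TopologicalSpace X] [TopologicalSpace Y] [T2Space Y]
    (f : X → Y) (hf : Continuous f) (hd : DenseRange f) :
    Cardinal.mk Y ≤ (2 : Cardinal.{u}) ^ ((2 : Cardinal.{u}) ^ Cardinal.mk X) := by
  let g : Y → Set (Set X) := fun y => {A | y ∈ closure (f '' A)}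
  have hg : Function.Injective g := by
    intro y y' hyy'
    by_contra hne
    obtain ⟨U, V, hU, hV, hyU, hy'V, hUV⟩ := t2_separation hne
    have h1 : f ⁻¹' U ∈ g y := by
      change y ∈ closure (f '' (f ⁻¹' U))
      rw [Set.image_preimage_eq_inter_range, mem_closure_iff]
      intro W hW hyW
      obtain ⟨z, hz, hzr⟩ := hd.inter_open_nonempty (W ∩ U) (hW.inter hU) ⟨y, hyW, hyU⟩
      exact ⟨z, hz.1, hz.2, hzr⟩
    have h2 : f ⁻¹' U ∉ g y' := by
      change y' ∉ closure (f '' (f ⁻¹' U))
      rw [mem_closure_iff]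
      push Not
      refine ⟨V, hV, hy'V, ?_⟩
      rw [Set.eq_empty_iff_forall_notMem]
      rintro z ⟨hzV, x, hxU, rfl⟩
      exact Set.disjoint_left.mp hUV hxU hzV
    rw [hyy'] at h1
    exact h2 h1
  have h := Cardinal.mk_le_of_injective hg
  rwa [Cardinal.mk_set, Cardinal.mk_set] at h

end Groth.Agent.S7580
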