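import Groth.Statements.S7581
import Groth.Agent.H62.CatenDim
-- import your own Groth.Agent.* helpers here

set_option autoImplicit false
universe u
open PtTop

open Groth.Agent.H62

namespace Groth.Agent.S7581

/-- Let X be a topological space. Then X is catenary if and only if for every pair of irreducible closed
subsets Y ⊆ Y' the codimension codim(Y, Y') is finite and for every triple Y ⊆ Y' ⊆ Y'' of
irreducible closed subsets codim(Y, Y'') = codim(Y, Y') + codim(Y', Y''). -/
theorem result (X : Type u) [TopologicalSpace X] :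
    PtTop.IsCatenarySpace X ↔
      (∀ Y Y' : TopologicalSpace.IrreducibleCloseds X, Y ≤ Y' → PtTop.codim Y (Y' : Set X) ≠ ⊤) ∧
      (∀ Y Y' Y'' : TopologicalSpace.IrreducibleCloseds X, Y ≤ Y' → Y' ≤ Y'' →
        PtTop.codim Y (Y'' : Set X) = PtTop.codim Y (Y' : Set X) + PtTop.codim Y' (Y'' : Set X)) := by
  rw [isCatenarySpace_iff_catPair]
  constructor
  · intro hX
    refine ⟨fun Y Y' h => (hX Y Y' h).1, fun Y Y' Y'' h1 h2 => ?_⟩
    exact cod_add h1 h2 (hX _ _ h1) (hX _ _ h2) (hX _ _ (h1.trans h2))
  · rintro ⟨hfin, hadd⟩ T T' hTT'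
    exact catPair_of_additive hfin hadd hTT'

end Groth.Agent.S7581
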