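import Groth.Statements.S7584
import Mathlib.Topology.Connected.Clopen

set_option autoImplicit false
universe u
open PtTop

namespace Groth.Agent.S7584

/-- Let X be a quasi-compact topological space in which each connected component equals the intersection
of all clopen sets that contain it. Then π₀(X), the set of connected components with the quotient
topology, is Hausdorff. The published statement concludes that π₀(X) is profinite; this row records
the Hausdorff property, quasi-compactness and total disconnectedness of the quotient being
automatic. -/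
theorem result (X : Type u) [TopologicalSpace X] [CompactSpace X]
    (h : ∀ x : X, connectedComponent x = ⋂₀ {Z : Set X | IsClopen Z ∧ x ∈ Z}) :
    T2Space (ConnectedComponents X) := by
  have hsat : ∀ Z : Set X, IsClopen Z →
      (ConnectedComponents.mk : X → ConnectedComponents X) ⁻¹'
        ((ConnectedComponents.mk : X → ConnectedComponents X) '' Z) = Z := by
    intro Z hZ
    apply subset_antisymm
    · rintro z ⟨w, hw, hwz⟩
      rw [ConnectedComponents.coe_eq_coe'] at hwz
      have : connectedComponent w ⊆ Z := hZ.connectedComponent_subset hw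
      rw [← connectedComponent_eq hwz] at this
      exact this mem_connectedComponent
    · exact Set.subset_preimage_image _ _
  have hopen : ∀ Z : Set X, IsClopen Z →
      IsOpen ((ConnectedComponents.mk : X → ConnectedComponents X) '' Z) := by
    intro Z hZ
    rw [← ConnectedComponents.isQuotientMap_coe.isOpen_preimage, hsat Z hZ]
    exact hZ.2
  refine ⟨fun a b hab => ?_⟩
  obtain ⟨x, rfl⟩ := ConnectedComponents.surjective_coe a
  obtain ⟨y, rfl⟩ := ConnectedComponents.surjective_coe b
  have hy : y ∉ connectedComponent x := by
    intro hy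
    exact hab (ConnectedComponents.coe_eq_coe'.mpr hy).symm
  rw [h x, Set.mem_sInter] at hy
  push Not at hy
  obtain ⟨Z, ⟨hZ, hxZ⟩, hyZ⟩ := hy
  refine ⟨ConnectedComponents.mk '' Z, ConnectedComponents.mk '' Zᶜ, hopen Z hZ,
    hopen Zᶜ hZ.compl, ⟨x, hxZ, rfl⟩, ⟨y, hyZ, rfl⟩, ?_⟩
  rw [Set.disjoint_left]
  rintro _ ⟨z, hz, rfl⟩ ⟨w, hw, hwz⟩
  have : z ∈ (ConnectedComponents.mk : X → ConnectedComponents X) ⁻¹'
      ((ConnectedComponents.mk : X → ConnectedComponents X) '' Zᶜ) := ⟨w, hw, hwz⟩
  rw [hsat Zᶜ hZ.compl] at this
  exact this hz

end Groth.Agent.S7584
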