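import Groth.Statements.S7589
import Groth.Agent.S1621
import Groth.Agent.H49.FibreDimAtBC
import Groth.Agent.H72.FlatCM

set_option autoImplicit false
universe u
open CategoryTheory CategoryTheory.Limits AlgebraicGeometry
attribute [local instance] Curv2.stalkAlgebra Curv2.resAlgebra
open Variety

namespace Groth.Agent.S7589

/-- Let X be locally of finite type over a field k, K an extension field of k, y a point of the base
change X_K and x its image in X; write a = trdeg_k κ(x) and a' = trdeg_K κ(y). Then dim O_{X_K, y} +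
a' = dim O_{X, x} + a, and the fibre ring O_{X_K, y} / m_x O_{X_K, y} has Krull dimension a - a' (in
particular a' ≤ a); dimensions in WithBot ℕ∞. -/
theorem result (k : Type u) [Field k] (X : Scheme.{u}) [X.Over (Spec (CommRingCat.of k))] [LocallyOfFiniteType (X ↘ (Spec (CommRingCat.of k)))]
    (K : Type u) [Field K] [Algebra k K] (y : ↥(Curv2.bc k X K)) (a a' : ℕ)
    (ha : Algebra.trdeg k (X.residueField (Curv2.bcFst k X K y)) = a)
    (ha' : letI : (Curv2.bc k X K).Over (Spec (CommRingCat.of K)) := ⟨Curv2.bcSnd k X K⟩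
      Algebra.trdeg K ((Curv2.bc k X K).residueField y) = a') :
    ringKrullDim ((Curv2.bc k X K).presheaf.stalk y) + (a' : WithBot ℕ∞) =
        ringKrullDim (X.presheaf.stalk (Curv2.bcFst k X K y)) + (a : WithBot ℕ∞) ∧
      ringKrullDim (↥((Curv2.bc k X K).presheaf.stalk y) ⧸ Ideal.map ((Curv2.bcFst k X K).stalkMap y).hom (IsLocalRing.maximalIdeal ↥(X.presheaf.stalk (Curv2.bcFst k X K y)))) + (a' : WithBot ℕ∞) =
        (a : WithBot ℕ∞) := by
  letI ovP : (Curv2.bc k X K).Over (Spec (CommRingCat.of K)) := ⟨Curv2.bcSnd k X K⟩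
  haveI : LocallyOfFiniteType ((Curv2.bc k X K) ↘ Spec (CommRingCat.of K)) :=
    (inferInstance : LocallyOfFiniteType (pullback.snd (X ↘ Spec (CommRingCat.of k))
      (Spec.map (CommRingCat.ofHom (algebraMap k K)))))
  haveI : IsLocallyNoetherian X :=
    LocallyOfFiniteType.isLocallyNoetherian (X ↘ Spec (CommRingCat.of k))
  haveI : IsLocallyNoetherian (Curv2.bc k X K) :=
    LocallyOfFiniteType.isLocallyNoetherian ((Curv2.bc k X K) ↘ Spec (CommRingCat.of K))
  haveI : IsNoetherianRing (X.presheaf.stalk (Curv2.bcFst k X K y)) := inferInstance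
  haveI : IsNoetherianRing ((Curv2.bc k X K).presheaf.stalk y) := inferInstance
  obtain ⟨b, hb⟩ := Groth.Agent.H72.FlatCM.exists_ringKrullDim_eq_natCast
    (X.presheaf.stalk (Curv2.bcFst k X K y))
  obtain ⟨b', hb'⟩ := Groth.Agent.H72.FlatCM.exists_ringKrullDim_eq_natCast
    ((Curv2.bc k X K).presheaf.stalk y)
  have h1 := Groth.Agent.S1621.result k X (Curv2.bcFst k X K y) a b ha hb
  have h2 := Groth.Agent.S1621.result K (Curv2.bc k X K) y a' b' ha' hb'
  have h3 := Groth.Agent.H49.FibreDimAtBC.localDim_eq_of_isPullback_field k K (algebraMap k K)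
    (X ↘ Spec (CommRingCat.of k)) (Curv2.bcFst k X K) (Curv2.bcSnd k X K)
    (IsPullback.of_hasPullback _ _) y
  rw [h1, h2] at h3
  have h3' : a' + b' = a + b := by exact_mod_cast h3
  haveI : Flat (Curv2.bcFst k X K) :=
    (inferInstance : Flat (pullback.fst (X ↘ Spec (CommRingCat.of k))
      (Spec.map (CommRingCat.ofHom (algebraMap k K)))))
  have hfl : ((Curv2.bcFst k X K).stalkMap y).hom.Flat := Flat.stalkMap (Curv2.bcFst k X K) y
  letI : Algebra (X.presheaf.stalk (Curv2.bcFst k X K y)) ((Curv2.bc k X K).presheaf.stalk y) :=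
    ((Curv2.bcFst k X K).stalkMap y).hom.toAlgebra
  haveI : IsLocalHom (algebraMap (X.presheaf.stalk (Curv2.bcFst k X K y))
      ((Curv2.bc k X K).presheaf.stalk y)) :=
    (inferInstance : IsLocalHom ((Curv2.bcFst k X K).stalkMap y).hom)
  haveI : Module.Flat (X.presheaf.stalk (Curv2.bcFst k X K y))
      ((Curv2.bc k X K).presheaf.stalk y) := hfl
  have h4 := Groth.Agent.H72.FlatCM.ringKrullDim_eq_add_of_flat
    (A := X.presheaf.stalk (Curv2.bcFst k X K y)) (B := (Curv2.bc k X K).presheaf.stalk y)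
  obtain ⟨c, hc⟩ := Groth.Agent.H72.FlatCM.exists_ringKrullDim_eq_natCast
    (((Curv2.bc k X K).presheaf.stalk y) ⧸ Ideal.map (algebraMap (X.presheaf.stalk (Curv2.bcFst k X K y))
      ((Curv2.bc k X K).presheaf.stalk y)) (IsLocalRing.maximalIdeal (X.presheaf.stalk (Curv2.bcFst k X K y))))
  rw [hb, hb', hc] at h4
  have h4' : b' = b + c := by exact_mod_cast h4
  refine ⟨?_, ?_⟩
  · rw [hb, hb']
    have : b' + a' = b + a := by omega
    exact_mod_cast this
  · have h5 : ringKrullDim (↥((Curv2.bc k X K).presheaf.stalk y) ⧸ Ideal.map ((Curv2.bcFst k X K).stalkMap y).hom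
        (IsLocalRing.maximalIdeal ↥(X.presheaf.stalk (Curv2.bcFst k X K y)))) = c := hc
    rw [h5]
    have : c + a' = a := by omega
    exact_mod_cast this


end Groth.Agent.S7589
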