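import Groth.Statements.S7590
import Groth.Agent.H7.GeomFibreBaseChange

set_option autoImplicit false
universe u
open CategoryTheory CategoryTheory.Limits AlgebraicGeometry
open Variety

namespace Groth.Agent.S7590

/-- Let k be a separably closed field, K any extension field of k and X a scheme over k. Then the
projection X_K → X induces a bijection between the sets of connected components. -/
theorem result (k : Type u) [Field k] [IsSepClosed k] (X : Scheme.{u}) [X.Over (Spec (CommRingCat.of k))]
    (K : Type u) [Field K] [Algebra k K] :
    Function.Bijective (Continuous.connectedComponentsMap (Curv2.bcFst k X K).continuous) := by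
  haveI := Groth.Agent.H7.geometricallyIrreducible_SpecMap_of_isSepClosed k K
  haveI : GeometricallyConnected (Spec.map (CommRingCat.ofHom (algebraMap k K))) :=
    Groth.Agent.H7.geometricallyConnected_of_geometricallyIrreducible _
  haveI : GeometricallyConnected (Curv2.bcFst k X K) := inferInstance
  let e := (Curv2.bcFst k X K).connectedComponentsHomeomorph (Curv2.bcFst k X K).isOpenMap
  have he : (e : _root_.ConnectedComponents _ → _root_.ConnectedComponents _) =
      Continuous.connectedComponentsMap (Curv2.bcFst k X K).continuous := by
    funext c
    obtain ⟨x, rfl⟩ := _root_.ConnectedComponents.surjective_coe c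
    rfl
  rw [← he]
  exact e.bijective

end Groth.Agent.S7590
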