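import Groth.Statements.S7592
import Groth.Agent.H38.GalAct
import Groth.Agent.H38.GalTop

set_option autoImplicit false
universe u
open CategoryTheory CategoryTheory.Limits AlgebraicGeometry
open Variety

namespace Groth.Agent.S7592

/-- Let K be a (possibly infinite) Galois extension of a field k and f : T → X a morphism of schemes
over k. If the base change T_K is connected and X_K is not connected, then X is not connected. -/
theorem result (k : Type u) [Field k] (K : Type u) [Field K] [Algebra k K] [IsGalois k K]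
    (T X : Scheme.{u}) [T.Over (Spec (CommRingCat.of k))] [X.Over (Spec (CommRingCat.of k))]
    (f : T ⟶ X) [f.IsOver (Spec (CommRingCat.of k))]
    [ConnectedSpace ↥(Curv2.bc k T K)] (hX : ¬ ConnectedSpace ↥(Curv2.bc k X K)) :
    ¬ ConnectedSpace ↥X := by
  intro hXc
  apply hX
  let fK : Curv2.bc k T K ⟶ Curv2.bc k X K :=
    pullback.map _ _ _ _ f (𝟙 _) (𝟙 _) (by simp) (by simp)
  have hfK_fst : fK ≫ Curv2.bcFst k X K = Curv2.bcFst k T K ≫ f := pullback.lift_fst _ _ _
  have hfK_snd : fK ≫ Curv2.bcSnd k X K = Curv2.bcSnd k T K := by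
    exact (pullback.lift_snd _ _ _).trans (Category.comp_id _)
  have hequiv : ∀ σ : K ≃ₐ[k] K,
      Curv2.galAct k T K σ ≫ fK = fK ≫ Curv2.galAct k X K σ := by
    intro σ
    apply pullback.hom_ext
    · change (Curv2.galAct k T K σ ≫ fK) ≫ Curv2.bcFst k X K =
        (fK ≫ Curv2.galAct k X K σ) ≫ Curv2.bcFst k X K
      rw [Category.assoc, Category.assoc, hfK_fst, Groth.Agent.H38.GalAct.galAct_fst,
        Groth.Agent.H38.GalAct.galAct_fst_assoc, hfK_fst]
    · change (Curv2.galAct k T K σ ≫ fK) ≫ Curv2.bcSnd k X K =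
        (fK ≫ Curv2.galAct k X K σ) ≫ Curv2.bcSnd k X K
      rw [Category.assoc, Category.assoc, hfK_snd, Groth.Agent.H38.GalAct.galAct_snd,
        Groth.Agent.H38.GalAct.galAct_snd, ← Category.assoc, hfK_snd]
  have hI : _root_.IsConnected (Set.range fK) := isConnected_range fK.continuous
  have hinv : ∀ σ : K ≃ₐ[k] K, Curv2.galAct k X K σ '' (Set.range fK) ⊆ Set.range fK := by
    rintro σ _ ⟨_, ⟨t, rfl⟩, rfl⟩
    refine ⟨Curv2.galAct k T K σ t, ?_⟩
    rw [← Scheme.Hom.comp_apply, hequiv, Scheme.Hom.comp_apply]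
  have hsat := Groth.Agent.H38.GalAct.preimage_image_eq_of_invariant k X K _ hinv
  have hpre := Groth.Agent.H38.GalTop.isPreconnected_preimage_of_saturated
    (Groth.Agent.H38.GalAct.isOpenMap_bcFst k X K)
    (Groth.Agent.H38.GalAct.isClosedMap_bcFst k X K) hI.nonempty hI.isPreconnected hsat.le
    (T := Set.univ) isPreconnected_univ (Set.subset_univ _)
  rw [Set.preimage_univ] at hpre
  rw [connectedSpace_iff_univ]
  obtain ⟨y, -⟩ := hI.nonempty
  exact ⟨⟨y, trivial⟩, hpre⟩

end Groth.Agent.S7592
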