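import Groth.Statements.S7593
import Groth.Agent.H38.GalTower
import Groth.Agent.H38.GalTop

set_option autoImplicit false
universe u
open CategoryTheory CategoryTheory.Limits AlgebraicGeometry
open Variety

namespace Groth.Agent.S7593

/-- Let k̄ be a separable algebraic closure of a field k, X a scheme over k and t a point of X_{k̄} with
image x in X. The connected component of t is mapped onto itself by the action of every
k-automorphism of k̄ if and only if it equals the full inverse image of the connected component T of
x in X and T is geometrically connected over k (the inverse image of T in X_K is connected for every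
extension field K of k). -/
theorem result (k : Type u) [Field k] (X : Scheme.{u}) [X.Over (Spec (CommRingCat.of k))] (t : ↥(Curv2.bc k X (SeparableClosure k))) :
    (∀ σ : SeparableClosure k ≃ₐ[k] SeparableClosure k,
        (Curv2.galAct k X (SeparableClosure k) σ).base '' connectedComponent t = connectedComponent t) ↔
      ((Curv2.bcFst k X (SeparableClosure k)).base ⁻¹' connectedComponent (Curv2.bcFst k X (SeparableClosure k) t) = connectedComponent t ∧
        ∀ (K : Type u) [Field K] [Algebra k K],
          _root_.IsConnected ((Curv2.bcFst k X K).base ⁻¹' connectedComponent (Curv2.bcFst k X (SeparableClosure k) t))) := by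
  constructor
  · intro hinv
    have hsat : (Curv2.bcFst k X (SeparableClosure k)).base ⁻¹'
        ((Curv2.bcFst k X (SeparableClosure k)).base '' connectedComponent t) =
          connectedComponent t :=
      Groth.Agent.H38.GalAct.preimage_image_eq_of_invariant k X (SeparableClosure k) _
        (fun σ => (hinv σ).le)
    have hCT : (Curv2.bcFst k X (SeparableClosure k)).base '' connectedComponent t ⊆
        connectedComponent (Curv2.bcFst k X (SeparableClosure k) t) := by
      apply IsPreconnected.subset_connectedComponent
      · exact (isPreconnected_connectedComponent).image _
          (Curv2.bcFst k X (SeparableClosure k)).continuous.continuousOn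
      · exact ⟨t, mem_connectedComponent, rfl⟩
    have hpre := Groth.Agent.H38.GalTop.isPreconnected_preimage_of_saturated
      (Groth.Agent.H38.GalAct.isOpenMap_bcFst k X (SeparableClosure k))
      (Groth.Agent.H38.GalAct.isClosedMap_bcFst k X (SeparableClosure k))
      ⟨t, mem_connectedComponent⟩ isPreconnected_connectedComponent hsat.le
      isPreconnected_connectedComponent hCT
    have heq : (Curv2.bcFst k X (SeparableClosure k)).base ⁻¹'
        connectedComponent (Curv2.bcFst k X (SeparableClosure k) t) = connectedComponent t := by
      apply subset_antisymm
      · exact hpre.subset_connectedComponent (show t ∈ _ from mem_connectedComponent)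
      · intro c hc
        exact hCT ⟨c, hc, rfl⟩
    refine ⟨heq, ?_⟩
    intro K _ _
    apply Groth.Agent.H38.GalTower.isConnected_preimage_of_sepClosure k X K _
      isClosed_connectedComponent
    rw [heq]
    exact isConnected_connectedComponent
  · rintro ⟨h, -⟩ σ
    rw [← h]
    exact Groth.Agent.H38.GalAct.galAct_image_preimage k X (SeparableClosure k) σ _

end Groth.Agent.S7593
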