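import Groth.Statements.S7595
import Groth.Agent.H38.GalAct

set_option autoImplicit false
universe u
open CategoryTheory CategoryTheory.Limits AlgebraicGeometry
open Variety

namespace Groth.Agent.S7595

/-- Let X be a scheme over a field k, K an extension field of k and T an irreducible component of X.
Then each point of the inverse image of T in X_K lies on some irreducible component of X_K that is
contained in this inverse image; so the inverse image of T is the union of the irreducible
components of X_K lying inside it. -/
theorem result (k : Type u) [Field k] (X : Scheme.{u}) [X.Over (Spec (CommRingCat.of k))] (K : Type u) [Field K] [Algebra k K]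
    (T : Set ↥X) (hT : T ∈ irreducibleComponents ↥X) :
    (Curv2.bcFst k X K).base ⁻¹' T = ⋃₀ {Z : Set ↥(Curv2.bc k X K) | Z ∈ irreducibleComponents ↥(Curv2.bc k X K) ∧ Z ⊆ (Curv2.bcFst k X K).base ⁻¹' T} := by
  apply subset_antisymm
  · intro y hy
    have hTirr : IsIrreducible T := hT.1
    have hTcl : IsClosed T := isClosed_of_mem_irreducibleComponents _ hT
    have hgen := hTirr.isGenericPoint_genericPoint hTcl
    have hspec : hTirr.genericPoint ⤳ Curv2.bcFst k X K y := by
      rw [specializes_iff_mem_closure, hgen.def]
      exact hy
    have hG : GeneralizingMap (Curv2.bcFst k X K) := Flat.generalizingMap _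
    obtain ⟨y', hy'y, hy'⟩ := hG hspec
    obtain ⟨Z, hZ, hZsub⟩ := exists_mem_irreducibleComponents_subset_of_isIrreducible
      (closure {y'}) isIrreducible_singleton.closure
    have hZirr : IsIrreducible Z := hZ.1
    have hZcl : IsClosed Z := isClosed_of_mem_irreducibleComponents _ hZ
    have hZgen := hZirr.isGenericPoint_genericPoint hZcl
    have hy'Z : y' ∈ Z := hZsub (subset_closure rfl)
    have h1 : hZirr.genericPoint ⤳ y' := by
      rw [specializes_iff_mem_closure, hZgen.def]
      exact hy'Z
    have h2 : Curv2.bcFst k X K hZirr.genericPoint ⤳ hTirr.genericPoint := by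
      rw [← hy']
      exact h1.map (Curv2.bcFst k X K).continuous
    have h3 : T ⊆ closure {Curv2.bcFst k X K hZirr.genericPoint} := by
      rw [← hgen.def]
      exact closure_minimal (Set.singleton_subset_iff.mpr (specializes_iff_mem_closure.mp h2))
        isClosed_closure
    have h4 : closure {Curv2.bcFst k X K hZirr.genericPoint} ⊆ T :=
      hT.2 isIrreducible_singleton.closure h3
    have h5 : Z ⊆ (Curv2.bcFst k X K).base ⁻¹' T := by
      have hclpre : IsClosed ((Curv2.bcFst k X K).base ⁻¹' T) :=
        hTcl.preimage (Curv2.bcFst k X K).continuous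
      refine hZgen.def.symm.le.trans (closure_minimal ?_ hclpre)
      rw [Set.singleton_subset_iff]
      exact h4 (subset_closure rfl)
    refine ⟨Z, ⟨hZ, h5⟩, hZsub ?_⟩
    exact specializes_iff_mem_closure.mp hy'y
  · rintro y ⟨Z, ⟨-, hZ⟩, hy⟩
    exact hZ hy

end Groth.Agent.S7595
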