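import Groth.Statements.S7596
import Groth.Agent.H38.RatFibre
import Groth.Agent.H38.GalAct

set_option autoImplicit false
universe u
open CategoryTheory CategoryTheory.Limits AlgebraicGeometry
open Variety

namespace Groth.Agent.S7596

/-- Let X be an irreducible scheme over a field k whose k-rational points (points x at which k → κ(x) is
onto) form a dense subset. Then X is geometrically irreducible over k. -/
theorem result (k : Type u) [Field k] (X : Scheme.{u}) [X.Over (Spec (CommRingCat.of k))] [IrreducibleSpace ↥X]
    (hd : Dense {x : ↥X | Function.Surjective (Curv2.resMap k X x)}) :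
    GeometricallyIrreducible (X ↘ (Spec (CommRingCat.of k))) := by
  refine ⟨geometrically_iff_of_commRing_of_isClosedUnderIsomorphisms.mpr fun K _ _ => ?_⟩
  change IrreducibleSpace ↥(Curv2.bc k X K)
  have hpre : IsPreirreducible ((Curv2.bcFst k X K).base ⁻¹' Set.univ) := by
    refine (IrreducibleSpace.isIrreducible_univ ↥X).isPreirreducible.preimage_of_dense_isPreirreducible_fiber
      _ (Groth.Agent.H38.GalAct.isOpenMap_bcFst k X K) ?_
    intro x _
    rw [Set.univ_inter]
    refine closure_mono ?_ (hd x)
    intro x' hx'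
    refine Set.Subsingleton.isPreirreducible ?_
    intro y hy y' hy'
    have hy1 : Curv2.bcFst k X K y = x' := hy
    have hy2 : Curv2.bcFst k X K y' = x' := hy'
    exact Groth.Agent.H38.RatFibre.eq_of_bcFst_eq_of_rational k X K y y' (hy1 ▸ hx')
      (hy1.trans hy2.symm)
  rw [Set.preimage_univ] at hpre
  haveI : Nonempty ↥(Curv2.bc k X K) := by
    obtain ⟨x⟩ := (inferInstance : Nonempty ↥X)
    obtain ⟨y, -⟩ := Groth.Agent.H38.GalAct.surjective_bcFst k X K x
    exact ⟨y⟩
  haveI : PreirreducibleSpace ↥(Curv2.bc k X K) := ⟨hpre⟩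
  exact ⟨inferInstance⟩

end Groth.Agent.S7596
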