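import Groth.Statements.S7597
import Groth.Agent.H38.GalTower

set_option autoImplicit false
universe u
open CategoryTheory CategoryTheory.Limits AlgebraicGeometry
open Variety

namespace Groth.Agent.S7597

/-- Let k̄ be a separable algebraic closure of a field k, X a scheme over k and Z an irreducible
component of X_{k̄}. Then Z is mapped onto itself by the action of every k-automorphism of k̄ if and
only if Z is the full inverse image of some irreducible component T of X which is geometrically
irreducible over k (the inverse image of T in X_K is irreducible for every extension field K of k). -/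
theorem result (k : Type u) [Field k] (X : Scheme.{u}) [X.Over (Spec (CommRingCat.of k))]
    (Z : Set ↥(Curv2.bc k X (SeparableClosure k))) (hZ : Z ∈ irreducibleComponents ↥(Curv2.bc k X (SeparableClosure k))) :
    (∀ σ : SeparableClosure k ≃ₐ[k] SeparableClosure k, (Curv2.galAct k X (SeparableClosure k) σ).base '' Z = Z) ↔
      ∃ T ∈ irreducibleComponents ↥X, (Curv2.bcFst k X (SeparableClosure k)).base ⁻¹' T = Z ∧
        ∀ (K : Type u) [Field K] [Algebra k K], IsIrreducible ((Curv2.bcFst k X K).base ⁻¹' T) := by
  constructor
  · intro hinv
    have hZirr : IsIrreducible Z := hZ.1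
    have hZcl : IsClosed Z := isClosed_of_mem_irreducibleComponents _ hZ
    have hZgen := hZirr.isGenericPoint_genericPoint hZcl
    have hTcl : IsClosed ((Curv2.bcFst k X (SeparableClosure k)).base '' Z) :=
      Groth.Agent.H38.GalAct.isClosedMap_bcFst k X (SeparableClosure k) _ hZcl
    have hTirr : IsIrreducible ((Curv2.bcFst k X (SeparableClosure k)).base '' Z) :=
      hZirr.image _ (Curv2.bcFst k X (SeparableClosure k)).continuous.continuousOn
    have hsat : (Curv2.bcFst k X (SeparableClosure k)).base ⁻¹'
        ((Curv2.bcFst k X (SeparableClosure k)).base '' Z) = Z :=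
      Groth.Agent.H38.GalAct.preimage_image_eq_of_invariant k X (SeparableClosure k) Z
        (fun σ => (hinv σ).le)
    refine ⟨(Curv2.bcFst k X (SeparableClosure k)).base '' Z, ⟨hTirr, ?_⟩, hsat, ?_⟩
    · intro S hS hTS
      have hScl : IsIrreducible (closure S) := hS.closure
      have hSgen := hScl.isGenericPoint_genericPoint isClosed_closure
      have h1 : hScl.genericPoint ⤳
          Curv2.bcFst k X (SeparableClosure k) hZirr.genericPoint := by
        rw [specializes_iff_mem_closure, hSgen.def]
        exact subset_closure (hTS ⟨_, hZgen.mem, rfl⟩)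
      have hG : GeneralizingMap (Curv2.bcFst k X (SeparableClosure k)) :=
        Flat.generalizingMap _
      obtain ⟨ζ', hζ', hζ's⟩ := hG h1
      have h2 : Z ⊆ closure {ζ'} := by
        refine hZgen.def.symm.le.trans (closure_minimal ?_ isClosed_closure)
        rw [Set.singleton_subset_iff]
        exact specializes_iff_mem_closure.mp hζ'
      have h3 : closure {ζ'} ⊆ Z := hZ.2 isIrreducible_singleton.closure h2
      have h4 : hScl.genericPoint ∈ (Curv2.bcFst k X (SeparableClosure k)).base '' Z :=
        ⟨ζ', h3 (subset_closure rfl), hζ's⟩
      calc S ⊆ closure S := subset_closure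
        _ = closure {hScl.genericPoint} := hSgen.def.symm
        _ ⊆ _ := closure_minimal (Set.singleton_subset_iff.mpr h4) hTcl
    · intro K _ _
      apply Groth.Agent.H38.GalTower.isIrreducible_preimage_of_sepClosure k X K
      rw [hsat]
      exact hZirr
  · rintro ⟨T, -, rfl, -⟩ σ
    exact Groth.Agent.H38.GalAct.galAct_image_preimage k X (SeparableClosure k) σ T

end Groth.Agent.S7597
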