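import Groth.Statements.S7598
import Groth.Agent.H38.GalAct

set_option autoImplicit false
universe u
open CategoryTheory CategoryTheory.Limits AlgebraicGeometry
open Variety

namespace Groth.Agent.S7598

/-- Let k̄ be a separable algebraic closure of a field k and X a scheme over k. Two irreducible
components Z', Z'' of X_{k̄} have the same image in X if and only if Z'' is the image of Z' under
the action of some k-automorphism of k̄ on X_{k̄} (the fibres of the map on irreducible components
are the Galois orbits). -/
theorem result (k : Type u) [Field k] (X : Scheme.{u}) [X.Over (Spec (CommRingCat.of k))]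
    (Z' Z'' : Set ↥(Curv2.bc k X (SeparableClosure k))) (hZ' : Z' ∈ irreducibleComponents ↥(Curv2.bc k X (SeparableClosure k)))
    (hZ'' : Z'' ∈ irreducibleComponents ↥(Curv2.bc k X (SeparableClosure k))) :
    (Curv2.bcFst k X (SeparableClosure k)).base '' Z' = (Curv2.bcFst k X (SeparableClosure k)).base '' Z'' ↔
      ∃ σ : SeparableClosure k ≃ₐ[k] SeparableClosure k, (Curv2.galAct k X (SeparableClosure k) σ).base '' Z' = Z'' := by
  constructor
  · intro h
    have hirr : IsIrreducible Z'' := hZ''.1
    have hcl : IsClosed Z'' := isClosed_of_mem_irreducibleComponents _ hZ''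
    have hgen := hirr.isGenericPoint_genericPoint hcl
    have hmem : hirr.genericPoint ∈ Z'' := hgen.mem
    have h1 : Curv2.bcFst k X (SeparableClosure k) hirr.genericPoint ∈
        (Curv2.bcFst k X (SeparableClosure k)).base '' Z' := by
      rw [h]
      exact ⟨_, hmem, rfl⟩
    obtain ⟨z', hz', hz'eq⟩ := h1
    obtain ⟨σ, hσ⟩ := Groth.Agent.H38.GalAct.exists_galAct_eq k X (SeparableClosure k) z'
      hirr.genericPoint hz'eq
    refine ⟨σ, ?_⟩
    have himg_irr : IsIrreducible ((Curv2.galAct k X (SeparableClosure k) σ).base '' Z') :=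
      hZ'.1.image _ (Curv2.galAct k X (SeparableClosure k) σ).continuous.continuousOn
    have himg_cl : IsClosed ((Curv2.galAct k X (SeparableClosure k) σ).base '' Z') :=
      (Groth.Agent.H38.GalAct.galHomeo k X (SeparableClosure k) σ).isClosedMap _
        (isClosed_of_mem_irreducibleComponents _ hZ')
    have hsub : Z'' ⊆ (Curv2.galAct k X (SeparableClosure k) σ).base '' Z' := by
      refine hgen.def.symm.le.trans (closure_minimal ?_ himg_cl)
      rw [Set.singleton_subset_iff]
      exact ⟨z', hz', hσ⟩
    exact subset_antisymm (hZ''.2 himg_irr hsub) hsub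
  · rintro ⟨σ, rfl⟩
    ext x
    constructor
    · rintro ⟨z, hz, rfl⟩
      exact ⟨_, ⟨z, hz, rfl⟩, Groth.Agent.H38.GalAct.bcFst_galAct_apply k X _ σ z⟩
    · rintro ⟨_, ⟨z, hz, rfl⟩, rfl⟩
      exact ⟨z, hz, (Groth.Agent.H38.GalAct.bcFst_galAct_apply k X _ σ z).symm⟩

end Groth.Agent.S7598
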