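import Groth.Statements.S7599
import Groth.Agent.H38.GeomNormalAt

set_option autoImplicit false
universe u
open CategoryTheory CategoryTheory.Limits AlgebraicGeometry
attribute [local instance] Curv2.stalkAlgebra
open scoped TensorProduct
open Variety

namespace Groth.Agent.S7599

/-- Let X be a scheme over a field k and x a point of X. These conditions are equivalent: (1) the scheme
X is geometrically normal at x (meaning: for any extension field k' and any point x' of X_{k'} over
x the local ring O_{X_{k'}, x'} is an integrally closed domain); (2) the same for the finite purely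
inseparable extensions k' of k only; (3) for every extension field k' of k the ring k' ⊗_k O_{X, x}
is normal (all its localisations at primes are integrally closed domains). Stated as (1) ↔ (2)
together with (2) ↔ (3). -/
theorem result (k : Type u) [Field k] (X : Scheme.{u}) [X.Over (Spec (CommRingCat.of k))] (x : ↥X) :
    ((∀ (k' : Type u) [Field k'] [Algebra k k'] (x' : ↥(Curv2.bc k X k')), Curv2.bcFst k X k' x' = x →
          IsDomain ↥((Curv2.bc k X k').presheaf.stalk x') ∧ IsIntegrallyClosed ↥((Curv2.bc k X k').presheaf.stalk x')) ↔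
      (∀ (k' : Type u) [Field k'] [Algebra k k'] [FiniteDimensional k k'] [IsPurelyInseparable k k'] (x' : ↥(Curv2.bc k X k')), Curv2.bcFst k X k' x' = x →
          IsDomain ↥((Curv2.bc k X k').presheaf.stalk x') ∧ IsIntegrallyClosed ↥((Curv2.bc k X k').presheaf.stalk x'))) ∧
    ((∀ (k' : Type u) [Field k'] [Algebra k k'] [FiniteDimensional k k'] [IsPurelyInseparable k k'] (x' : ↥(Curv2.bc k X k')), Curv2.bcFst k X k' x' = x →
          IsDomain ↥((Curv2.bc k X k').presheaf.stalk x') ∧ IsIntegrallyClosed ↥((Curv2.bc k X k').presheaf.stalk x')) ↔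
      ∀ (k' : Type u) [Field k'] [Algebra k k'], EGA4.IsNormalRing (k' ⊗[k] ↥(X.presheaf.stalk x))) := by
  have h31 : (∀ (k' : Type u) [Field k'] [Algebra k k'],
      EGA4.IsNormalRing (k' ⊗[k] ↥(X.presheaf.stalk x))) →
      (∀ (k' : Type u) [Field k'] [Algebra k k'] (x' : ↥(Curv2.bc k X k')),
        Curv2.bcFst k X k' x' = x →
          IsDomain ↥((Curv2.bc k X k').presheaf.stalk x') ∧
            IsIntegrallyClosed ↥((Curv2.bc k X k').presheaf.stalk x')) := by
    intro h k' _ _ x' hx'
    apply Groth.Agent.H38.GeomNormalAt.normal_stalk_of_isNormalRing k X k' x _ x' hx'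
    exact Groth.Agent.H47.isNormalRing_of_ringEquiv
      (Algebra.TensorProduct.comm k k' (X.presheaf.stalk x)).toRingEquiv (h k')
  have h23 : (∀ (k' : Type u) [Field k'] [Algebra k k'] [FiniteDimensional k k']
      [IsPurelyInseparable k k'] (x' : ↥(Curv2.bc k X k')), Curv2.bcFst k X k' x' = x →
          IsDomain ↥((Curv2.bc k X k').presheaf.stalk x') ∧
            IsIntegrallyClosed ↥((Curv2.bc k X k').presheaf.stalk x')) →
      ∀ (k' : Type u) [Field k'] [Algebra k k'],
        EGA4.IsNormalRing (k' ⊗[k] ↥(X.presheaf.stalk x)) := by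
    intro h
    apply Groth.Agent.H48.GeomNormal.isNormalRing_of_purelyInseparable
    intro k' _ _ hfin hpi
    haveI : Algebra.IsAlgebraic k k' := Algebra.IsAlgebraic.of_finite k k'
    have h1 := Groth.Agent.H38.GeomNormalAt.isNormalRing_of_normal_stalk k X k' x (h k')
    exact Groth.Agent.H47.isNormalRing_of_ringEquiv
      (Algebra.TensorProduct.comm k (X.presheaf.stalk x) k').toRingEquiv h1
  refine ⟨⟨fun h k' _ _ _ _ x' hx' => h k' x' hx', fun h => h31 (h23 h)⟩,
    ⟨h23, fun h k' _ _ _ _ x' hx' => h31 h k' x' hx'⟩⟩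

end Groth.Agent.S7599
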