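import Groth.Statements.S7600
import Groth.Agent.H38.CommonExt
import Groth.Agent.H38.FlatDescentStalk

set_option autoImplicit false
universe u
open CategoryTheory CategoryTheory.Limits AlgebraicGeometry
open Variety

namespace Groth.Agent.S7600

/-- (2) ⇒ (1): let X be a scheme over a field k, k' an extension field of k and x' a point of X_{k'}
with image x in X. If X_{k'} is geometrically normal at x' over k' (for every extension field k'' of
k' and every point x'' of (X_{k'})_{k''} over x' the local ring at x'' is an integrally closed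
domain), then X is geometrically normal at x over k. -/
theorem result (k : Type u) [Field k] (X : Scheme.{u}) [X.Over (Spec (CommRingCat.of k))] (k' : Type u) [Field k'] [Algebra k k'] (x' : ↥(Curv2.bc k X k'))
    (h : letI : (Curv2.bc k X k').Over (Spec (CommRingCat.of k')) := ⟨Curv2.bcSnd k X k'⟩
      ∀ (k'' : Type u) [Field k''] [Algebra k' k''] (x'' : ↥(Curv2.bc k' (Curv2.bc k X k') k'')), Curv2.bcFst k' (Curv2.bc k X k') k'' x'' = x' →
          IsDomain ↥((Curv2.bc k' (Curv2.bc k X k') k'').presheaf.stalk x'') ∧ IsIntegrallyClosed ↥((Curv2.bc k' (Curv2.bc k X k') k'').presheaf.stalk x'')) :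
    ∀ (K : Type u) [Field K] [Algebra k K] (y : ↥(Curv2.bc k X K)), Curv2.bcFst k X K y = (Curv2.bcFst k X k' x') →
          IsDomain ↥((Curv2.bc k X K).presheaf.stalk y) ∧ IsIntegrallyClosed ↥((Curv2.bc k X K).presheaf.stalk y) := by
  intro K _ _ y hy
  obtain ⟨Ω, _, _, _, _, _, _, u, hu1, hu2⟩ :=
    Groth.Agent.H38.CommonExt.exists_common_point k X K k' y x' hy
  letI : (Curv2.bc k X k').Over (Spec (CommRingCat.of k')) := ⟨Curv2.bcSnd k X k'⟩
  let e : Curv2.bc k X Ω ≅ Curv2.bc k' (Curv2.bc k X k') Ω :=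
    (Groth.Agent.H38.GalTower.isPullback_bcMap k X k' Ω).isoPullback
  have he : e.hom ≫ Curv2.bcFst k' (Curv2.bc k X k') Ω =
      Groth.Agent.H38.GalTower.bcMap k X k' Ω :=
    (Groth.Agent.H38.GalTower.isPullback_bcMap k X k' Ω).isoPullback_hom_fst
  have h1 := h Ω (e.hom u) (by rw [← Scheme.Hom.comp_apply, he, hu2])
  have h2 := Groth.Agent.H38.FlatDescentStalk.normal_stalk_of_flat e.inv (e.hom u) h1
  have h3 : e.inv (e.hom u) = u := by
    rw [← Scheme.Hom.comp_apply, e.hom_inv_id]
    rfl
  rw [h3] at h2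
  haveI : Flat (Groth.Agent.H38.GalTower.bcMap k X K Ω) :=
    MorphismProperty.of_isPullback (P := @Flat)
      (Groth.Agent.H38.GalTower.isPullback_bcMap k X K Ω).flip inferInstance
  have h4 := Groth.Agent.H38.FlatDescentStalk.normal_stalk_of_flat
    (Groth.Agent.H38.GalTower.bcMap k X K Ω) u h2
  rw [hu1] at h4
  exact h4

end Groth.Agent.S7600
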