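import Groth.Statements.S7602
import Groth.Agent.H38.GeomNormalAt
import Groth.Agent.H38.GeomRedField
import Groth.Agent.H47.NormalSepExt

set_option autoImplicit false
universe u
open CategoryTheory CategoryTheory.Limits AlgebraicGeometry
open Variety

namespace Groth.Agent.S7602

/-- Let X be a normal scheme over a field k and K an extension field of k which is separable over k in
the sense that Spec K → Spec k is geometrically reduced (K ⊗_k k' reduced for every field k' over
k). Then X_K is a normal scheme. -/
theorem result (k : Type u) [Field k] (X : Scheme.{u}) [X.Over (Spec (CommRingCat.of k))] (hX : Pi1.IsNormalScheme X)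
    (K : Type u) [Field K] [Algebra k K] [GeometricallyReduced (Spec.map (CommRingCat.ofHom (algebraMap k K)))] :
    Pi1.IsNormalScheme (Curv2.bc k X K) := by
  intro x'
  letI := Curv2.stalkAlgebra k X
  haveI : Algebra.IsGeometricallyReduced k K :=
    Groth.Agent.H38.GeomRedField.isGeometricallyReduced_of_specMap k K
  have hA : EGA4.IsNormalRing (X.presheaf.stalk (Curv2.bcFst k X K x')) := by
    haveI := (hX (Curv2.bcFst k X K x')).1
    haveI := (hX (Curv2.bcFst k X K x')).2
    exact Groth.Agent.H47.SN.isNormalRing_of_isIntegrallyClosed _
  have h1 := Groth.Agent.H47.NSE.isNormalRing_tensor_of_isGeometricallyReduced k K _ hA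
  have h2 := Groth.Agent.H47.isNormalRing_of_ringEquiv
    (Algebra.TensorProduct.comm k K (X.presheaf.stalk (Curv2.bcFst k X K x'))).toRingEquiv h1
  exact Groth.Agent.H38.GeomNormalAt.normal_stalk_of_isNormalRing k X K _ h2 x' rfl

end Groth.Agent.S7602
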