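import Groth.Statements.S7603
import Groth.Agent.H38.GeomIrrField
import Groth.Agent.H84.LocNoeth
import Groth.Agent.H7.GeomFibreBaseChange

set_option autoImplicit false
universe u
open CategoryTheory CategoryTheory.Limits AlgebraicGeometry
open Variety

namespace Groth.Agent.S7603

/-- (2) ⇔ (3): let X be a proper scheme over a field k which is geometrically normal (X_K is a normal
scheme for every extension field K of k). Then X is geometrically connected over k exactly when it
is geometrically irreducible over k. (The published statement lists geometric integrality as a
further equivalent condition; given geometric normality it is equivalent to geometric irreducibility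
by a direct argument, so this row omits it.) -/
theorem result (k : Type u) [Field k] (X : Scheme.{u}) [X.Over (Spec (CommRingCat.of k))] [IsProper (X ↘ (Spec (CommRingCat.of k)))]
    (hX : ∀ (K : Type u) [Field K] [Algebra k K], Pi1.IsNormalScheme (Curv2.bc k X K)) :
    GeometricallyConnected (X ↘ (Spec (CommRingCat.of k))) ↔ GeometricallyIrreducible (X ↘ (Spec (CommRingCat.of k))) := by
  constructor
  · intro h
    rw [Groth.Agent.H38.GeomIrrField.geometricallyConnected_iff_bc] at h
    rw [Groth.Agent.H38.GeomIrrField.geometricallyIrreducible_iff_bc]
    intro K _ _
    haveI := h K
    haveI : LocallyOfFiniteType (Curv2.bcSnd k X K) := inferInstance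
    haveI : IsLocallyNoetherian (Curv2.bc k X K) :=
      LocallyOfFiniteType.isLocallyNoetherian (Curv2.bcSnd k X K)
    apply Groth.Agent.H84.LocNoeth.irreducibleSpace_of_connected_of_isPrime_nilradical
    intro x
    haveI := (hX K x).1
    rw [nilradical_eq_zero]
    exact Ideal.isPrime_bot
  · intro h
    exact Groth.Agent.H7.geometricallyConnected_of_geometricallyIrreducible _

end Groth.Agent.S7603
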