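import Groth.Statements.S7604
import Groth.Agent.H38.StalkProd
import Groth.Agent.H38.TensorReduced
import Groth.Agent.H48.GeomRed

set_option autoImplicit false
universe u
open CategoryTheory CategoryTheory.Limits AlgebraicGeometry
open Variety

namespace Groth.Agent.S7604

/-- Let X and Y be schemes over a field k with Y reduced, and let x be a point of X at which X is
geometrically reduced. Then each point of X ×_k Y mapping to x has a reduced local ring. -/
theorem result (k : Type u) [Field k] (X : Scheme.{u}) [X.Over (Spec (CommRingCat.of k))] (Y : Scheme.{u}) [Y.Over (Spec (CommRingCat.of k))] [IsReduced Y]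
    (x : ↥X) (hx : Curv2.IsGeomReducedAt k X x) (z : ↥(pullback (X ↘ (Spec (CommRingCat.of k))) (Y ↘ (Spec (CommRingCat.of k)))))
    (hz : pullback.fst (X ↘ (Spec (CommRingCat.of k))) (Y ↘ (Spec (CommRingCat.of k))) z = x) :
    _root_.IsReduced ↥((pullback (X ↘ (Spec (CommRingCat.of k))) (Y ↘ (Spec (CommRingCat.of k)))).presheaf.stalk z) := by
  letI := Curv2.stalkAlgebra k X
  letI := Curv2.stalkAlgebra k Y
  have h1 : ∀ (k' : Type u) [Field k'] [Algebra k k'] [Module.Finite k k']
      [IsPurelyInseparable k k'], _root_.IsReduced (TensorProduct k k' ↥(X.presheaf.stalk x)) := by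
    intro k' _ _ _ _
    haveI : Algebra.IsAlgebraic k k' := Algebra.IsAlgebraic.of_finite k k'
    have := Groth.Agent.H38.StalkProd.isReduced_tensor_of_reduced_stalk k X x k'
      (fun x' hx' => hx k' x' hx')
    exact isReduced_of_injective (Algebra.TensorProduct.comm k k' (X.presheaf.stalk x))
      (Algebra.TensorProduct.comm k k' (X.presheaf.stalk x)).injective
  have h3 : ∀ (K : Type u) [Field K] [Algebra k K],
      _root_.IsReduced (TensorProduct k K ↥(X.presheaf.stalk x)) :=
    ((Groth.Agent.H48.GeomRed.tfae_geomRed (k := k) (R := X.presheaf.stalk x)).out 0 2).mp h1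
  set y := pullback.snd (X ↘ Spec (CommRingCat.of k)) (Y ↘ Spec (CommRingCat.of k)) z with hy
  have h4 : _root_.IsReduced (TensorProduct k ↥(Y.presheaf.stalk y) ↥(X.presheaf.stalk x)) :=
    Groth.Agent.H38.TensorReduced.isReduced_tensor_of_forall_residueField
      (fun q _ => h3 q.ResidueField)
  have h5 : _root_.IsReduced (TensorProduct k ↥(X.presheaf.stalk x) ↥(Y.presheaf.stalk y)) :=
    isReduced_of_injective
      (Algebra.TensorProduct.comm k (X.presheaf.stalk x) (Y.presheaf.stalk y))
      (Algebra.TensorProduct.comm k (X.presheaf.stalk x) (Y.presheaf.stalk y)).injective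
  exact Groth.Agent.H38.StalkProd.reduced_stalk_of_isReduced k X Y x y h5 z hz rfl

end Groth.Agent.S7604
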