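import Groth.Statements.S7610
import Groth.Agent.H11.DimFormula

set_option autoImplicit false
universe u
open CategoryTheory CategoryTheory.Limits AlgebraicGeometry
open Variety

namespace Groth.Agent.S7610

/-- Let X and Y be schemes locally of finite type over a field k and z a point of X ×_k Y lying over x
in X and y in Y. Then dim_z(X ×_k Y) = dim_x X + dim_y Y (local dimensions of the underlying
topological spaces, in WithBot ℕ∞). -/
theorem result (k : Type u) [Field k] (X : Scheme.{u}) [X.Over (Spec (CommRingCat.of k))] [LocallyOfFiniteType (X ↘ (Spec (CommRingCat.of k)))]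
    (Y : Scheme.{u}) [Y.Over (Spec (CommRingCat.of k))] [LocallyOfFiniteType (Y ↘ (Spec (CommRingCat.of k)))]
    (z : ↥(pullback (X ↘ (Spec (CommRingCat.of k))) (Y ↘ (Spec (CommRingCat.of k))))) :
    FlatMor.localDim ↥(pullback (X ↘ (Spec (CommRingCat.of k))) (Y ↘ (Spec (CommRingCat.of k)))) z =
      FlatMor.localDim ↥X (pullback.fst (X ↘ (Spec (CommRingCat.of k))) (Y ↘ (Spec (CommRingCat.of k))) z) +
        FlatMor.localDim ↥Y (pullback.snd (X ↘ (Spec (CommRingCat.of k))) (Y ↘ (Spec (CommRingCat.of k))) z) := by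
  haveI : Flat (pullback.fst (X ↘ (Spec (CommRingCat.of k))) (Y ↘ (Spec (CommRingCat.of k)))) :=
    inferInstance
  have hD := Groth.Agent.H11.DimFormula.localDim_eq_add_fibreDimAt k X
    (pullback.fst (X ↘ (Spec (CommRingCat.of k))) (Y ↘ (Spec (CommRingCat.of k)))) z
  have hpb : IsPullback (pullback.snd (X ↘ (Spec (CommRingCat.of k))) (Y ↘ (Spec (CommRingCat.of k))))
      (pullback.fst (X ↘ (Spec (CommRingCat.of k))) (Y ↘ (Spec (CommRingCat.of k))))
      (Y ↘ (Spec (CommRingCat.of k))) (X ↘ (Spec (CommRingCat.of k))) :=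
    (IsPullback.of_hasPullback _ _).flip
  have hF := Groth.Agent.H49.FibreDimAtBC.fibreDimAt_eq_of_isPullback
    (Y ↘ (Spec (CommRingCat.of k))) (X ↘ (Spec (CommRingCat.of k)))
    (pullback.fst (X ↘ (Spec (CommRingCat.of k))) (Y ↘ (Spec (CommRingCat.of k))))
    (pullback.snd (X ↘ (Spec (CommRingCat.of k))) (Y ↘ (Spec (CommRingCat.of k)))) hpb z
  have hG : ∀ y : Y, FlatMor.fibreDimAt (Y ↘ (Spec (CommRingCat.of k))) y = FlatMor.localDim ↥Y y := by
    intro y
    rw [Groth.Agent.H17.Chev.fibreDimAt_eq]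
    have hopen : IsOpen ((Y ↘ (Spec (CommRingCat.of k))).base ⁻¹'
        {(Y ↘ (Spec (CommRingCat.of k))).base y}) := by
      have huniv : ((Y ↘ (Spec (CommRingCat.of k))).base ⁻¹'
          {(Y ↘ (Spec (CommRingCat.of k))).base y}) = Set.univ := by
        ext y'
        simp only [Set.mem_preimage, Set.mem_singleton_iff, Set.mem_univ, iff_true]
        exact Subsingleton.elim _ _
      rw [huniv]
      exact isOpen_univ
    exact Groth.Agent.H17.Chev.localDim_eq_of_isOpenEmbedding hopen.isOpenEmbedding_subtypeVal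
      ⟨y, rfl⟩
  rw [hD, hF, hG]


end Groth.Agent.S7610
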