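import Groth.Statements.S7613
import Groth.Agent.H11.RatPtIrr
import Groth.Agent.H25.SmoothDense
import Groth.Agent.H25.GeomRegSmooth
import Groth.Agent.H14.RegularNormal

set_option autoImplicit false
universe u
open CategoryTheory CategoryTheory.Limits AlgebraicGeometry
open Variety

namespace Groth.Agent.S7613

/-- Let X be a variety over a field k (integral, separated and of finite type over k) with a k-rational
point x (k → κ(x) onto) such that X → Spec k is smooth at x. Then every base change of X to an
extension field of k is an integral scheme (X is geometrically integral over k). -/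
theorem result (k : Type u) [Field k] (X : Scheme.{u}) [X.Over (Spec (CommRingCat.of k))] [IsIntegral X] [IsSeparated (X ↘ (Spec (CommRingCat.of k)))]
    [LocallyOfFiniteType (X ↘ (Spec (CommRingCat.of k)))] [QuasiCompact (X ↘ (Spec (CommRingCat.of k)))]
    (x : ↥X) (hx : Function.Surjective (Curv2.resMap k X x)) (hsm : x ∈ (X ↘ (Spec (CommRingCat.of k))).smoothLocus) :
    GeometricallyIntegral (X ↘ (Spec (CommRingCat.of k))) := by
  haveI hred : GeometricallyReduced (X ↘ (Spec (CommRingCat.of k))) := by
    rw [Groth.Agent.H25.SmoothDense.geometricallyReduced_iff_dense_smooth k X]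
    refine ⟨(X ↘ Spec (CommRingCat.of k)).smoothLocus, ?_, ?_⟩
    · exact (X ↘ Spec (CommRingCat.of k)).smoothLocus.isOpen.dense ⟨x, hsm⟩
    · rw [← Scheme.Hom.smoothLocus_eq_top_iff, ← Scheme.Hom.preimage_smoothLocus_eq]
      ext y
      simp
  haveI : IsRegularLocalRing (X.presheaf.stalk x) :=
    Groth.Agent.H25.GeomRegSmooth.isRegularLocalRing_of_mem_smoothLocus k
      (X ↘ Spec (CommRingCat.of k)) x hsm
  haveI : IsIntegrallyClosed (X.presheaf.stalk x) :=
    Groth.Agent.H14.isIntegrallyClosed_of_isRegularLocalRing _
  haveI hirr : GeometricallyIrreducible (X ↘ (Spec (CommRingCat.of k))) :=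
    Groth.Agent.H11.RatPtIrr.geometricallyIrreducible_of_rational_normal k X x hx
  exact GeometricallyIntegral.of_geometricallyReduced_of_geometricallyIrreducible _


end Groth.Agent.S7613
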