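import Groth.Statements.S7614
-- import your own Groth.Agent.* helpers here
import Groth.Agent.H7.QuasiAffineDescent

set_option autoImplicit false
universe u
open CategoryTheory CategoryTheory.Limits AlgebraicGeometry
open Variety

namespace Groth.Agent.S7614

/-- Let X be a scheme over a field k and K an extension field of k. If X_K is quasi-affine, then X is
quasi-affine. -/
theorem result (k : Type u) [Field k] (X : Scheme.{u}) [X.Over (Spec (CommRingCat.of k))] (K : Type u) [Field K] [Algebra k K]
    [(Curv2.bc k X K).IsQuasiAffine] : X.IsQuasiAffine := by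
  have hfl : Flat (Spec.map (CommRingCat.ofHom (algebraMap k K))) := by
    rw [HasRingHomProperty.Spec_iff (P := @Flat)]
    simp only [CommRingCat.hom_ofHom]
    rw [RingHom.flat_algebraMap_iff]
    infer_instance
  have hsurj : Surjective (Spec.map (CommRingCat.ofHom (algebraMap k K))) := by
    constructor
    intro x
    have : Subsingleton (Spec (CommRingCat.of k)) := inferInstance
    obtain ⟨y⟩ : Nonempty (Spec (CommRingCat.of K)) := inferInstance
    exact ⟨y, Subsingleton.elim _ _⟩
  have hsurj' : Surjective (Curv2.bcFst k X K) :=
    MorphismProperty.pullback_fst (P := @Surjective) _ _ hsurj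
  have : CompactSpace X :=
    (Curv2.bcFst k X K).surjective.compactSpace (Curv2.bcFst k X K).continuous
  exact Groth.Agent.H7.isQuasiAffine_of_isPullback_of_flat_surjective
    (Spec.map (CommRingCat.ofHom (algebraMap k K))) (X ↘ Spec (CommRingCat.of k))
    (Curv2.bcFst k X K) (Curv2.bcSnd k X K) (IsPullback.of_hasPullback _ _)

end Groth.Agent.S7614
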