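import Groth.Statements.S7623
import Mathlib
import Groth.Agent.S4999
import Groth.Agent.H48.GeomNormal

set_option autoImplicit false
universe u
open CategoryTheory CategoryTheory.Limits AlgebraicGeometry
open Variety

namespace Groth.Agent.S7623

/-- Let k be a perfect field and A a reduced finite type k-algebra such that Ω_{A/k} is a projective
A-module (locally free, as it is finitely presented). Then A is smooth over k. The scheme statement,
X reduced and locally of finite type over k with Ω_{X/k} locally free is smooth over k, is this
assertion on affine opens. -/
theorem result (k A : Type u) [Field k] [PerfectField k] [CommRing A] [Algebra k A]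
    [Algebra.FiniteType k A] [_root_.IsReduced A] [Module.Projective A Ω[A⁄k]] : Algebra.Smooth k A := by
  haveI : IsNoetherianRing A := Algebra.FiniteType.isNoetherianRing k A
  apply Groth.Agent.S4999.smooth_of_projective_of_generic k A inferInstance
  intro p hp hmin
  let B := Localization.AtPrime p
  let κ := p.ResidueField
  haveI : IsNoetherianRing B := IsLocalization.isNoetherianRing p.primeCompl B inferInstance
  have hdim0 : ringKrullDim B = 0 := by
    rw [IsLocalization.AtPrime.ringKrullDim_eq_height p, Ideal.height_eq_zero_iff.mpr hmin]
    rfl
  haveI : Ring.KrullDimLE 0 B := by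
    rw [Ring.krullDimLE_iff]
    exact hdim0.le
  haveI : IsArtinianRing B := isArtinianRing_iff_krullDimLE_zero.mpr inferInstance
  haveI : _root_.IsReduced B := inferInstance
  have hB : IsField B := IsArtinianRing.isField_of_isReduced_of_isLocalRing B
  have hmax : IsLocalRing.maximalIdeal B = ⊥ := IsLocalRing.isField_iff_maximalIdeal_eq.mp hB
  have hsurjB : Function.Surjective (algebraMap B κ) := IsLocalRing.residue_surjective
  have hker : RingHom.ker (algebraMap B κ) = ⊥ := by
    rw [← hmax]
    ext x
    rw [RingHom.mem_ker, IsLocalRing.ResidueField.algebraMap_eq, IsLocalRing.residue_eq_zero_iff]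
  have hinjB : Function.Injective (algebraMap B κ) :=
    (RingHom.injective_iff_ker_eq_bot _).mpr hker
  let e : B ≃ₐ[k] κ := AlgEquiv.ofBijective (IsScalarTower.toAlgHom k B κ) ⟨hinjB, hsurjB⟩
  haveI : Algebra.IsGeometricallyReduced k κ :=
    Groth.Agent.H48.GeomNormal.isGeometricallyReduced_of_perfectField k κ
  exact Algebra.IsGeometricallyReduced.of_injective e.toAlgHom e.injective

end Groth.Agent.S7623
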