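import Groth.Statements.S7624
import Groth.Agent.H17.Val.ValMain

set_option autoImplicit false
universe u
open CategoryTheory CategoryTheory.Limits AlgebraicGeometry
open Variety

namespace Groth.Agent.S7624

/-- Let R be a valuation ring, X an irreducible scheme and f : X → Spec R a surjective morphism locally
of finite type. Then each irreducible component of the fibre of f over the closed point of Spec R
has Krull dimension equal to that of the fibre of f over the generic point. -/
theorem result (R : Type u) [CommRing R] [IsDomain R] [ValuationRing R]
    (X : Scheme.{u}) [IrreducibleSpace ↥X] (f : X ⟶ Spec (CommRingCat.of R)) [LocallyOfFiniteType f] [Surjective f]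
    (Z : Set ↥(f.fiber (IsLocalRing.closedPoint R))) (hZ : Z ∈ irreducibleComponents ↥(f.fiber (IsLocalRing.closedPoint R))) :
    topologicalKrullDim ↥Z = topologicalKrullDim ↥(f.fiber (⟨⊥, Ideal.bot_prime⟩ : PrimeSpectrum R)) := by
  haveI : IsDominant f := ⟨(Surjective.surj (f := f)).denseRange⟩
  rw [Groth.Agent.H17.Val.dim_irreducibleComponent_fiber_eq_dim_generic_fiber f _
    (Groth.Agent.H17.Val.dvd_total_stalk_of_valuationRing R _) Z hZ]
  refine Groth.Agent.H17.Val.dim_fiber_congr f ?_
  rw [genericPoint_eq_bot_of_affine]
  rfl

end Groth.Agent.S7624
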