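import Groth.Statements.S7627
import Groth.Agent.H38.FibreIso
import Groth.Agent.H51.FlatDimFormula
import Groth.Agent.H49.FibreStalk

set_option autoImplicit false
universe u
open CategoryTheory CategoryTheory.Limits AlgebraicGeometry
attribute [local instance] Curv2.resAlgebra
open scoped TensorProduct
open Variety

namespace Groth.Agent.S7627

/-- Let X be locally of finite type over a field k, K an extension field of k, y a point of X_K with
image x in X. Assume dim O_{X, x} = dim O_{X_K, y} and that κ(x) ⊗_k K is reduced (for instance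
κ(x)/k separable or K/k separable). Then m_x O_{X_K, y} = m_y. -/
theorem result (k : Type u) [Field k] (X : Scheme.{u}) [X.Over (Spec (CommRingCat.of k))] [LocallyOfFiniteType (X ↘ (Spec (CommRingCat.of k)))]
    (K : Type u) [Field K] [Algebra k K] (y : ↥(Curv2.bc k X K))
    (hdim : ringKrullDim ↥(X.presheaf.stalk (Curv2.bcFst k X K y)) = ringKrullDim ↥((Curv2.bc k X K).presheaf.stalk y))
    (hred : _root_.IsReduced (X.residueField (Curv2.bcFst k X K y) ⊗[k] K)) :
    Ideal.map ((Curv2.bcFst k X K).stalkMap y).hom (IsLocalRing.maximalIdeal ↥(X.presheaf.stalk (Curv2.bcFst k X K y))) =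
      IsLocalRing.maximalIdeal ↥((Curv2.bc k X K).presheaf.stalk y) := by
  classical
  set f := Curv2.bcFst k X K with hf
  have hXN : IsLocallyNoetherian X :=
    LocallyOfFiniteType.isLocallyNoetherian (X ↘ (Spec (CommRingCat.of k)))
  have hflatg : Flat (Spec.map (CommRingCat.ofHom (algebraMap k K))) := by
    rw [HasRingHomProperty.Spec_iff (P := @Flat)]
    exact RingHom.flat_algebraMap_iff.mpr inferInstance
  have hflat : Flat f := by
    rw [hf]
    infer_instance
  have hlft : LocallyOfFiniteType (Curv2.bcSnd k X K) := by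
    unfold Curv2.bcSnd
    infer_instance
  have hYN : IsLocallyNoetherian (Curv2.bc k X K) :=
    LocallyOfFiniteType.isLocallyNoetherian (Curv2.bcSnd k X K)
  have hdimf := Groth.Agent.H51.ringKrullDim_stalk_eq_add_of_flat f y (Flat.stalkMap f y)
  -- the fibre is reduced
  have hredSpec : IsReduced (Spec (CommRingCat.of (X.residueField (f y) ⊗[k] K))) := by
    have : _root_.IsReduced ↑(CommRingCat.of (X.residueField (f y) ⊗[k] K)) := hred
    infer_instance
  have hredF : IsReduced (f.fiber (f y)) :=
    isReduced_of_isOpenImmersion (Groth.Agent.H38.FibreIso.fibreIso k X K (f y)).hom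
  have hredS : _root_.IsReduced ((f.fiber (f y)).presheaf.stalk (f.asFiber y)) := inferInstance
  -- the fibre has dimension zero at `y`
  have hfinX : ringKrullDim (X.presheaf.stalk (f y)) < ⊤ := ringKrullDim_lt_top
  have hbotX : ringKrullDim (X.presheaf.stalk (f y)) ≠ ⊥ := ringKrullDim_ne_bot
  have hzero : ringKrullDim ((f.fiber (f y)).presheaf.stalk (f.asFiber y)) ≤ 0 := by
    rw [← hdim] at hdimf
    obtain ⟨n, hn⟩ : ∃ n : ℕ, ringKrullDim (X.presheaf.stalk (f y)) = (n : WithBot ℕ∞) := by
      generalize ringKrullDim (X.presheaf.stalk (f y)) = a at hfinX hbotX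
      induction a with
      | bot => exact absurd rfl hbotX
      | coe a =>
        induction a with
        | top => exact absurd hfinX (lt_irrefl _)
        | coe n => exact ⟨n, rfl⟩
    rw [hn] at hdimf
    generalize ringKrullDim ((f.fiber (f y)).presheaf.stalk (f.asFiber y)) = b at hdimf
    induction b with
    | bot => exact bot_le
    | coe b =>
      induction b with
      | top =>
        exfalso
        have h1 : ((n : ℕ∞) : WithBot ℕ∞) = (((n : ℕ∞) + ⊤ : ℕ∞) : WithBot ℕ∞) := hdimf
        rw [add_top] at h1
        have h2 := WithBot.coe_injective h1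
        exact ENat.natCast_ne_top n h2
      | coe m =>
        have h1 : ((n : ℕ) : WithBot ℕ∞) = ((n + m : ℕ) : WithBot ℕ∞) := by
          rw [hdimf]
          push_cast
          rfl
        have h2 : n = n + m := by exact_mod_cast h1
        have h3 : m = 0 := by omega
        rw [h3]
        rfl
  have hKD : Ring.KrullDimLE 0 ((f.fiber (f y)).presheaf.stalk (f.asFiber y)) :=
    (Ring.krullDimLE_iff).mpr hzero
  have hfield : IsField ((f.fiber (f y)).presheaf.stalk (f.asFiber y)) :=
    Ring.KrullDimLE.isField_of_isReduced
  have hfieldQ : IsField ((Curv2.bc k X K).presheaf.stalk y ⧸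
      Groth.Agent.H49.FibreStalk.fibreIdeal f y) :=
    (Groth.Agent.H49.FibreStalk.quotientEquivStalkAsFiber f y).toMulEquiv.isField hfield
  have hmax : (Groth.Agent.H49.FibreStalk.fibreIdeal f y).IsMaximal :=
    Ideal.Quotient.maximal_of_isField _ hfieldQ
  exact (IsLocalRing.eq_maximalIdeal hmax)

end Groth.Agent.S7627
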