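import Groth.Statements.S7629
-- import your own Groth.Agent.* helpers here
import Groth.Agent.H6.BiratStalk
import Groth.Agent.H6.StalkOverAffine

set_option autoImplicit false
universe u
open CategoryTheory CategoryTheory.Limits AlgebraicGeometry
open Variety

namespace Groth.Agent.S7629

/-- (2) ⇒ (3): let X and Y be varieties over a field k (integral, separated, of finite type) and suppose
the function fields k(X) and k(Y) are isomorphic as k-algebras. Then there are nonempty open
subschemes U ⊆ X and V ⊆ Y which are isomorphic as schemes over k. -/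
theorem result (k : Type u) [Field k] (X : Scheme.{u}) [X.Over (Spec (CommRingCat.of k))] [IsIntegral X] [IsSeparated (X ↘ (Spec (CommRingCat.of k)))] [LocallyOfFiniteType (X ↘ (Spec (CommRingCat.of k)))] [QuasiCompact (X ↘ (Spec (CommRingCat.of k)))]
    (Y : Scheme.{u}) [Y.Over (Spec (CommRingCat.of k))] [IsIntegral Y] [IsSeparated (Y ↘ (Spec (CommRingCat.of k)))] [LocallyOfFiniteType (Y ↘ (Spec (CommRingCat.of k)))] [QuasiCompact (Y ↘ (Spec (CommRingCat.of k)))]
    (e : X.functionField ≅ Y.functionField)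
    (he : e.hom.hom.comp (Curv2.stalkMap k X (genericPoint X)) = Curv2.stalkMap k Y (genericPoint Y)) :
    ∃ (U : X.Opens) (V : Y.Opens), (U : Set ↥X).Nonempty ∧
      ∃ φ : (U : Scheme.{u}) ≅ (V : Scheme.{u}), φ.hom ≫ V.ι ≫ (Y ↘ (Spec (CommRingCat.of k))) = U.ι ≫ (X ↘ (Spec (CommRingCat.of k))) := by
  have he' : Spec.map e.inv ≫ Y.fromSpecStalk (genericPoint Y) ≫ (Y ↘ Spec (CommRingCat.of k)) =
      X.fromSpecStalk (genericPoint X) ≫ (X ↘ Spec (CommRingCat.of k)) := by
    rw [Groth.Agent.H6.StalkOverAffine.fromSpecStalk_comp_over,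
      Groth.Agent.H6.StalkOverAffine.fromSpecStalk_comp_over, ← Spec.map_comp]
    congr 1
    ext a
    have h2 := congr(e.inv.hom ($he a))
    simp only [RingHom.comp_apply] at h2
    have h3 : e.inv.hom (e.hom.hom (Curv2.stalkMap k X (genericPoint X) a)) =
        Curv2.stalkMap k X (genericPoint X) a := by
      rw [← CommRingCat.comp_apply, e.hom_inv_id]; rfl
    rw [h3] at h2
    exact h2.symm
  obtain ⟨U, V, i, hx, hy, hi⟩ := Groth.Agent.H6.BiratStalk.exists_iso_of_stalk_iso
    (X ↘ Spec (CommRingCat.of k)) (Y ↘ Spec (CommRingCat.of k)) e he'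
    (fun φ h => spread_out_of_isGermInjective' _ _ φ h)
    (fun ψ h => spread_out_of_isGermInjective' _ _ ψ h)
  exact ⟨U, V, ⟨_, hx⟩, i, hi⟩

end Groth.Agent.S7629
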