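import Groth.Statements.S7634
import Groth.Agent.H91.UnramPoly
import Groth.Agent.H91.MvPolyStdSmooth

set_option autoImplicit false
universe u
open CategoryTheory CategoryTheory.Limits AlgebraicGeometry
open scoped TensorProduct
open Variety

namespace Groth.Agent.S7634

/-- Let A → B be a finite type ring map, q a prime of B and r = dim_{κ(q)} Ω_{B/A} ⊗_B κ(q). Then there
are g in B with g not in q, an A-algebra D which is standard smooth of relative dimension r over A,
and a surjective A-algebra homomorphism D → B[1/g]; that is, the principal open D(g) containing q is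
a closed subscheme of Spec D with D smooth of relative dimension r over A. (The published statement
is for a morphism X → S locally of finite type, a point x and an affine open V ⊆ S under it, and
gives an affine open neighbourhood of x with a closed immersion over V into a scheme smooth of
relative dimension r over V; this row states the case X = Spec B, S = Spec A, with the neighbourhood
a principal open D(g) and the smooth scheme standard smooth.) -/
theorem result (A B : Type u) [CommRing A] [CommRing B] [Algebra A B] [Algebra.FiniteType A B]
    (q : Ideal B) [q.IsPrime] (r : ℕ) (hr : Module.finrank q.ResidueField (q.ResidueField ⊗[B] Ω[B⁄A]) = r) :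
    ∃ g : B, g ∉ q ∧ ∃ (D : Type u) (_ : CommRing D) (_ : Algebra A D),
      Algebra.IsStandardSmoothOfRelativeDimension r A D ∧
        ∃ φ : D →ₐ[A] Localization.Away g, Function.Surjective φ := by
  obtain ⟨b, hb⟩ := Groth.Agent.H91.UnramPoly.exists_fin_span A B q.ResidueField r hr
  have hunr := Groth.Agent.H91.UnramPoly.isUnramifiedAt_of_span b q hb
  let _ : Algebra (MvPolynomial (Fin r) A) B :=
    (MvPolynomial.aeval b : MvPolynomial (Fin r) A →ₐ[A] B).toRingHom.toAlgebra
  have : IsScalarTower A (MvPolynomial (Fin r) A) B :=
    IsScalarTower.of_algebraMap_eq'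
      (MvPolynomial.aeval b : MvPolynomial (Fin r) A →ₐ[A] B).comp_algebraMap.symm
  have : Algebra.FiniteType (MvPolynomial (Fin r) A) B :=
    Algebra.FiniteType.of_restrictScalars_finiteType A _ _
  have : Algebra.IsUnramifiedAt (MvPolynomial (Fin r) A) q := hunr
  obtain ⟨g, hg, P, φ, hφ⟩ :=
    Algebra.IsUnramifiedAt.exists_hasStandardEtaleSurjectionOn (R := MvPolynomial (Fin r) A) q
  refine ⟨g, hg, P.Ring, inferInstance,
    ((algebraMap (MvPolynomial (Fin r) A) P.Ring).comp (algebraMap A (MvPolynomial (Fin r) A))).toAlgebra, ?_, ?_⟩
  · let _ : Algebra A P.Ring :=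
      ((algebraMap (MvPolynomial (Fin r) A) P.Ring).comp (algebraMap A (MvPolynomial (Fin r) A))).toAlgebra
    have : IsScalarTower A (MvPolynomial (Fin r) A) P.Ring := IsScalarTower.of_algebraMap_eq' rfl
    have h0 : Algebra.IsStandardSmoothOfRelativeDimension 0 (MvPolynomial (Fin r) A) P.Ring :=
      Algebra.Etale.iff_isStandardSmoothOfRelativeDimension_zero.mp inferInstance
    have := Algebra.IsStandardSmoothOfRelativeDimension.trans (n := r) (m := 0) A
      (MvPolynomial (Fin r) A) P.Ring
    simpa using this
  · let _ : Algebra A P.Ring :=
      ((algebraMap (MvPolynomial (Fin r) A) P.Ring).comp (algebraMap A (MvPolynomial (Fin r) A))).toAlgebra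
    have : IsScalarTower A (MvPolynomial (Fin r) A) P.Ring := IsScalarTower.of_algebraMap_eq' rfl
    exact ⟨φ.restrictScalars A, hφ⟩

end Groth.Agent.S7634
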