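import Groth.Statements.S7636
import Groth.Agent.H71.CohBC.FieldExt2
import Groth.Agent.H71.CohBC.HHIso
import Groth.Agent.H18.ResProp.Relative

set_option autoImplicit false
universe u
open CategoryTheory CategoryTheory.Limits AlgebraicGeometry
open Variety

namespace Groth.Agent.S7636

/-- Let X be proper of dimension at most one over a field k, let k' be a field extension of k and let E
be a finite locally free module of rank n on X. Then the degree of the pullback of E to the base
change X_{k'}, computed over k', equals the degree of E over k. -/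
theorem result (k : Type u) [Field k] (X : Scheme.{u}) [X.Over (Spec (CommRingCat.of k))] [IsProper (X ↘ (Spec (CommRingCat.of k)))]
    (hdim : topologicalKrullDim X ≤ 1) (k' : Type u) [Field k'] [Algebra k k']
    (n : ℕ) (E : X.Modules) (hE : FlatMod.IsFinLocFreeOfRank n E) :
    @Curv2.deg k' _ (Curv2.bc k X k') ⟨Curv2.bcSnd k X k'⟩
        ((Scheme.Modules.pullback (Curv2.bcFst k X k')).obj E) n = Curv2.deg k X E n := by
  have : CompactSpace X := QuasiCompact.compactSpace_of_compactSpace (X ↘ Spec (CommRingCat.of k))
  have : QuasiSeparatedSpace X := quasiSeparatedSpace_of_quasiSeparated (X ↘ Spec (CommRingCat.of k))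
  have hq : E.IsQuasicoherent :=
    Groth.Agent.H18.ResProp.isQuasicoherent_of_isFinLocFree E
      (fun x => by obtain ⟨U, hx, e⟩ := hE x; exact ⟨U, n, hx, e⟩)
  letI : (Curv2.bc k X k').Over (Spec (CommRingCat.of k')) := ⟨Curv2.bcSnd k X k'⟩
  have h1 := Groth.Agent.H71.CohBC.euler_bc k X k' E
  have h2 : Curv2.euler k' (Curv2.bc k X k') (Coh.structureModule (Curv2.bc k X k')) =
      Curv2.euler k X (Coh.structureModule X) := by
    unfold Curv2.euler
    refine finsum_congr (fun i => ?_)
    rw [Groth.Agent.H71.CohBC.finrank_hh_structureModule_baseChange k k' X (Curv2.bc k X k')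
      (Curv2.bcFst k X k') (IsPullback.of_hasPullback _ _) i]
  unfold Curv2.deg
  rw [h1, h2]

end Groth.Agent.S7636
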