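import Groth.Statements.S7651
import Groth.Agent.H38.OneDimLocal3

set_option autoImplicit false
universe u
open CategoryTheory CategoryTheory.Limits AlgebraicGeometry
open Variety

namespace Groth.Agent.S7651

/-- Let (A, m) be a Noetherian local ring of dimension one and f ∈ m. Then (1) m = √(f), (2) f lies in
no minimal prime of A, and (3) A_f ≅ ∏_{p minimal} A_p as A-algebras, are equivalent; such an f
exists; if A has depth one, for instance if A is reduced, they are also equivalent to (4) f is a
nonzerodivisor and to (5) A → A_f is the localization of A at all its nonzerodivisors; and if A is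
reduced they are also equivalent to (6) A_f ≅ ∏_{p minimal} κ(p) as A-algebras. -/
theorem result (A : Type u) [CommRing A] [IsLocalRing A]
    [IsNoetherianRing A] (hdim : ringKrullDim A = 1) :
    (∃ f ∈ IsLocalRing.maximalIdeal A, ∀ p ∈ minimalPrimes A, f ∉ p) ∧
    ∀ f ∈ IsLocalRing.maximalIdeal A,
      ((IsLocalRing.maximalIdeal A = (Ideal.span {f}).radical) ↔ (∀ p ∈ minimalPrimes A, f ∉ p)) ∧
      ((∀ p ∈ minimalPrimes A, f ∉ p) ↔
        Nonempty (Localization.Away f ≃ₐ[A] (∀ p : {p : PrimeSpectrum A // p.asIdeal ∈ minimalPrimes A}, Localization.AtPrime p.1.asIdeal))) ∧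
      ((LocCoh.depth A A = 1 ∨ IsReduced A) →
        ((∀ p ∈ minimalPrimes A, f ∉ p) ↔ f ∈ nonZeroDivisors A) ∧
        ((∀ p ∈ minimalPrimes A, f ∉ p) ↔ IsLocalization (nonZeroDivisors A) (Localization.Away f))) ∧
      (IsReduced A →
        ((∀ p ∈ minimalPrimes A, f ∉ p) ↔
          Nonempty (Localization.Away f ≃ₐ[A] (∀ p : {p : PrimeSpectrum A // p.asIdeal ∈ minimalPrimes A}, p.1.asIdeal.ResidueField)))) := by
  have hdim1 : Ring.KrullDimLE 1 A := Ring.krullDimLE_iff.mpr (le_of_eq hdim)
  refine ⟨Groth.Agent.H38.exists_mem_maximalIdeal_notMem_minimalPrimes hdim, fun f hf => ?_⟩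
  have h2 : (∀ p ∈ minimalPrimes A, f ∉ p) ↔
      Nonempty (Localization.Away f ≃ₐ[A] (∀ p : {p : PrimeSpectrum A // p.asIdeal ∈ minimalPrimes A},
        Localization.AtPrime p.1.asIdeal)) := by
    constructor
    · intro h
      have := Groth.Agent.H38.isLocalization_away_LProd hdim1 hf
        (Groth.Agent.H38.forall_minPrime_iff.mpr h)
      exact ⟨IsLocalization.algEquiv (Submonoid.powers f) (Localization.Away f) _⟩
    · rintro ⟨e⟩
      rw [← Groth.Agent.H38.forall_minPrime_iff, ← Groth.Agent.H38.isUnit_algebraMap_LProd_iff]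
      have hunit : IsUnit (algebraMap A (Localization.Away f) f) :=
        IsLocalization.Away.algebraMap_isUnit f
      have := hunit.map e
      rwa [e.commutes] at this
  refine ⟨Groth.Agent.H38.maximalIdeal_eq_radical_iff hdim hf, h2, fun hA => ⟨?_, ?_⟩, fun hred => ?_⟩
  · exact ⟨Groth.Agent.H38.mem_nonZeroDivisors_of_notMem_minimalPrimes hdim1 hA,
      Groth.Agent.H38.notMem_minimalPrimes_of_mem_nonZeroDivisors⟩
  · constructor
    · intro h
      exact Groth.Agent.H38.isLocalization_nonZeroDivisors_away hdim1 hf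
        (Groth.Agent.H38.mem_nonZeroDivisors_of_notMem_minimalPrimes hdim1 hA h)
    · intro h
      exact Groth.Agent.H38.notMem_minimalPrimes_of_mem_nonZeroDivisors
        (Groth.Agent.H38.mem_nonZeroDivisors_of_isLocalization h)
  · constructor
    · intro h
      obtain ⟨e⟩ := h2.mp h
      exact ⟨e.trans (AlgEquiv.piCongrRight fun p =>
        Groth.Agent.H38.localizationEquivResidueField p)⟩
    · rintro ⟨e⟩ p hp hfp
      have hunit : IsUnit (algebraMap A (Localization.Away f) f) :=
        IsLocalization.Away.algebraMap_isUnit f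
      have h3 := hunit.map e
      rw [e.commutes] at h3
      have h4 := (Pi.isUnit_iff.mp h3) ⟨⟨p, hp.1.1⟩, hp⟩
      rw [Pi.algebraMap_apply] at h4
      have hpp : p.IsPrime := hp.1.1
      have h5 : algebraMap A (Ideal.ResidueField p) f = 0 :=
        Ideal.algebraMap_residueField_eq_zero.mpr hfp
      exact h4.ne_zero h5

end Groth.Agent.S7651
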