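import Groth.Statements.S7653
import Groth.Agent.H38.TotalFrac4
import Mathlib.RingTheory.DiscreteValuationRing.TFAE

set_option autoImplicit false
universe u
open CategoryTheory CategoryTheory.Limits AlgebraicGeometry
open Variety

namespace Groth.Agent.S7653

/-- For a reduced local Nagata ring A of Krull dimension one, the δ-invariant of A is zero exactly when
A is a DVR (in particular a domain). -/
theorem result (A : Type u) [CommRing A] [IsLocalRing A]
    [IsReduced A] (hN : CAlg.IsNagata A) (hdim : ringKrullDim A = 1) :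
    Curv2.deltaInv A = 0 ↔ ∃ _ : IsDomain A, IsDiscreteValuationRing A := by
  have hNoeth : IsNoetherianRing A := hN.1
  have hdim1 : Ring.KrullDimLE 1 A := Ring.krullDimLE_iff.mpr (le_of_eq hdim)
  unfold Curv2.deltaInv
  rw [Module.length_eq_zero_iff, Submodule.Quotient.subsingleton_iff,
    LinearMap.range_eq_top]
  constructor
  · intro hsurj
    -- at most one minimal prime
    have hsub : ∀ p q : Groth.Agent.H38.MinPrime A, p = q := by
      classical
      intro p q
      by_contra hpq
      let y : ∀ r : Groth.Agent.H38.MinPrime A, Groth.Agent.H38.BB r := Pi.single p 1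
      obtain ⟨b, hb⟩ := Groth.Agent.H38.toBProd_surjective (A := A) y
      obtain ⟨a, rfl⟩ := hsurj b
      have hcomp : ∀ r : Groth.Agent.H38.MinPrime A,
          algebraMap A (Groth.Agent.H38.KK r) a = ((y r : Groth.Agent.H38.BB r) :
            Groth.Agent.H38.KK r) := by
        intro r
        rw [← hb, Groth.Agent.H38.toBProd_apply_coe]
        change _ = Groth.Agent.H38.toKK r (algebraMap A (FractionRing A) a)
        rw [AlgHom.commutes]
      have h1 : a - 1 ∈ p.1.asIdeal := by
        rw [← Groth.Agent.H38.algebraMap_KK_eq_zero_iff, map_sub, hcomp p, map_one]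
        simp [y]
      have h2 : a ∈ q.1.asIdeal := by
        rw [← Groth.Agent.H38.algebraMap_KK_eq_zero_iff, hcomp q]
        simp [y, Pi.single_eq_of_ne (Ne.symm hpq)]
      have hm1 : a - 1 ∈ IsLocalRing.maximalIdeal A :=
        IsLocalRing.le_maximalIdeal p.1.isPrime.ne_top h1
      have hm2 : a ∈ IsLocalRing.maximalIdeal A :=
        IsLocalRing.le_maximalIdeal q.1.isPrime.ne_top h2
      have : (1 : A) ∈ IsLocalRing.maximalIdeal A := by
        have := (IsLocalRing.maximalIdeal A).sub_mem hm2 hm1
        simp at this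
      exact (IsLocalRing.maximalIdeal.isMaximal A).ne_top
        ((Ideal.eq_top_iff_one _).mpr this)
    -- the zero ideal is prime
    obtain ⟨p0, hp0⟩ := Ideal.exists_minimalPrimes_le (I := (⊥ : Ideal A))
      (J := IsLocalRing.maximalIdeal A) bot_le
    have hp0' : p0 ∈ minimalPrimes A := hp0.1
    have hbot : p0 = ⊥ := by
      have hnil : nilradical A = p0 := by
        rw [nilradical, ← Ideal.sInf_minimalPrimes]
        apply le_antisymm
        · exact sInf_le hp0'
        · refine le_sInf fun q hq => ?_
          have := hsub ⟨⟨p0, hp0'.1.1⟩, hp0'⟩ ⟨⟨q, hq.1.1⟩, hq⟩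
          have h3 : p0 = q := congrArg (fun r : Groth.Agent.H38.MinPrime A => r.1.asIdeal) this
          rw [h3]
      rw [← hnil, nilradical_eq_zero]
      rfl
    have hprime : (⊥ : Ideal A).IsPrime := hbot ▸ hp0'.1.1
    have hdom : IsDomain A := IsDomain.of_bot_isPrime A
    refine ⟨hdom, ?_⟩
    have hic : IsIntegrallyClosed A := by
      rw [isIntegrallyClosed_iff (FractionRing A)]
      intro x hx
      obtain ⟨a, ha⟩ := hsurj ⟨x, hx⟩
      exact ⟨a, congrArg Subtype.val ha⟩
    have hmax : ∀ P : Ideal A, P ≠ ⊥ → P.IsPrime → P = IsLocalRing.maximalIdeal A := by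
      intro P hP hPp
      exact IsLocalRing.eq_maximalIdeal
        (Ring.krullDimLE_one_iff_of_noZeroDivisors.mp hdim1 P hP hPp)
    have h03 : IsPrincipalIdealRing A ↔ (IsIntegrallyClosed A ∧
        ∀ P : Ideal A, P ≠ ⊥ → P.IsPrime → P = IsLocalRing.maximalIdeal A) :=
      (tfae_of_isNoetherianRing_of_isLocalRing_of_isDomain A).out 0 3
    have hpid : IsPrincipalIdealRing A := h03.mpr ⟨hic, hmax⟩
    have hnf : IsLocalRing.maximalIdeal A ≠ ⊥ := by
      intro h
      have hf : IsField A := IsLocalRing.isField_iff_maximalIdeal_eq.mpr h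
      have := ringKrullDim_eq_zero_of_isField hf
      rw [hdim] at this
      exact one_ne_zero this
    exact { hpid with not_a_field' := hnf }
  · rintro ⟨hdom, hdvr⟩
    have hic : IsIntegrallyClosed A := inferInstance
    intro b
    obtain ⟨a, ha⟩ := (isIntegrallyClosed_iff (FractionRing A)).mp hic b.2
    exact ⟨a, Subtype.ext ha⟩

end Groth.Agent.S7653
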