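import Groth.Statements.S7655
import Groth.Agent.H38.GeomBranch3

set_option autoImplicit false
universe u
open CategoryTheory CategoryTheory.Limits AlgebraicGeometry
open Variety

namespace Groth.Agent.S7655

/-- Let (A, m) be a reduced Nagata local ring of dimension one. Then the δ-invariant of A is at least
the number of geometric branches of A minus one. -/
theorem result (A : Type u) [CommRing A] [IsLocalRing A]
    [IsReduced A] (hN : CAlg.IsNagata A) (hdim : ringKrullDim A = 1) :
    Brnch.numGeomBranches A ≤ Curv2.deltaInv A + 1 := by
  have hNoeth : IsNoetherianRing A := hN.1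
  have hfinite : (minimalPrimes A).Finite := minimalPrimes.finite_of_isNoetherianRing A
  unfold Brnch.numGeomBranches
  rw [if_pos hfinite]
  have hfin : Module.Finite A (integralClosure A (FractionRing A)) :=
    Groth.Agent.H38.finite_integralClosure fun p =>
      hN.2 p.1.asIdeal (Groth.Agent.H38.KK p) inferInstance
  have hfinB : Module.Finite A (CAlg2.normRed A) :=
    (Module.Finite.equiv (Groth.Agent.H38.normEquiv (A := A)).toLinearEquiv :
      Module.Finite A (Groth.Agent.H38.normRedSub A))
  have hker : IsLocalRing.maximalIdeal A ≤ RingHom.ker (Brnch.toClosure A) := by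
    intro a ha
    rw [RingHom.mem_ker]
    unfold Brnch.toClosure
    rw [RingHom.comp_apply, (IsLocalRing.residue_eq_zero_iff a).mpr ha, map_zero]
  have hδ : Module.length A (CAlg2.normRed A ⧸
      LinearMap.range (Algebra.linearMap A (CAlg2.normRed A))) ≤ Curv2.deltaInv A := by
    unfold Curv2.deltaInv
    let e : integralClosure A (FractionRing A) →ₗ[A] CAlg2.normRed A :=
      ((Groth.Agent.H38.normEquiv (A := A)).toLinearEquiv.toLinearMap :
        integralClosure A (FractionRing A) →ₗ[A] Groth.Agent.H38.normRedSub A)
    have he : Function.Surjective e := (Groth.Agent.H38.normEquiv (A := A)).surjective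
    have hle : LinearMap.range (Algebra.linearMap A (integralClosure A (FractionRing A))) ≤
        (LinearMap.range (Algebra.linearMap A (CAlg2.normRed A))).comap e := by
      rintro _ ⟨a, rfl⟩
      refine ⟨a, ?_⟩
      exact ((Groth.Agent.H38.normEquiv (A := A)).commutes a).symm
    refine Module.length_le_of_surjective (Submodule.mapQ _ _ e hle) ?_
    intro y
    obtain ⟨b, rfl⟩ := Submodule.mkQ_surjective _ y
    obtain ⟨x, rfl⟩ := he b
    exact ⟨Submodule.Quotient.mk x, rfl⟩
  calc ENat.card (Σ m' : MaximalSpectrum (CAlg2.normRed A), Brnch.Emb A m')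
      ≤ ENat.card {τ : CAlg2.normRed A →+* AlgebraicClosure (IsLocalRing.ResidueField A) //
        τ.comp (algebraMap A (CAlg2.normRed A)) = Brnch.toClosure A} :=
        Groth.Agent.H38.card_sigma_emb_le A
    _ ≤ Module.length A (CAlg2.normRed A ⧸
          (IsLocalRing.maximalIdeal A).map (algebraMap A (CAlg2.normRed A))) :=
        Groth.Agent.H38.card_liftHom_le (IsLocalRing.maximalIdeal A) (CAlg2.normRed A)
          (Brnch.toClosure A) hker
    _ ≤ Module.length A (CAlg2.normRed A ⧸
          LinearMap.range (Algebra.linearMap A (CAlg2.normRed A))) + 1 :=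
        Groth.Agent.H38.length_quotient_map_le _ _
    _ ≤ Curv2.deltaInv A + 1 := add_le_add_left hδ 1

end Groth.Agent.S7655
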