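import Groth.Statements.S7661
import Groth.Agent.H38.CosetAvoid

set_option autoImplicit false
universe u
open CategoryTheory CategoryTheory.Limits AlgebraicGeometry
open Variety

namespace Groth.Agent.S7661

/-- Let A be a ring, I an ideal, p_1, …, p_r prime ideals with I ⊄ p_i for all i, and let f̄ ∈ A/I. Then
f̄ lifts to an element f ∈ A with f ∉ p_i for all i. -/
theorem result (A : Type u) [CommRing A] (I : Ideal A)
    (s : Finset (Ideal A)) (hs : ∀ p ∈ s, p.IsPrime) (hI : ∀ p ∈ s, ¬ I ≤ p) (fbar : A ⧸ I) :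
    ∃ f : A, Ideal.Quotient.mk I f = fbar ∧ ∀ p ∈ s, f ∉ p := by
  obtain ⟨f₀, rfl⟩ := Ideal.Quotient.mk_surjective fbar
  obtain ⟨x, hxI, hx⟩ := Groth.Agent.H38.exists_add_mem_notMem_of_primes I s.card s rfl hs hI f₀
  refine ⟨f₀ + x, ?_, hx⟩
  rw [map_add, Ideal.Quotient.eq_zero_iff_mem.mpr hxI, add_zero]

end Groth.Agent.S7661
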