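import Groth.Statements.S7663
import Groth.Agent.H38.KADvr

set_option autoImplicit false
universe u
open CategoryTheory CategoryTheory.Limits AlgebraicGeometry
open Variety

namespace Groth.Agent.S7663

/-- Let K be a field and A, B ⊆ K subrings with fraction field K, with A Noetherian of dimension one.
Then A ⊗ B → K is not surjective (equivalently, the subring generated by A and B is not K) if and
only if some discrete valuation ring O ⊆ K with fraction field K contains both A and B. -/
theorem result (K : Type u) [Field K]
    (A : Subring K) [IsFractionRing A K] (B : Subring K) [IsFractionRing B K] [IsNoetherianRing A] (hdim : ringKrullDim A = 1) :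
    A ⊔ B ≠ ⊤ ↔ ∃ O : ValuationSubring K, IsDiscreteValuationRing O ∧ A ≤ O.toSubring ∧ B ≤ O.toSubring := by
  have hd : Ring.KrullDimLE 1 A := Ring.krullDimLE_iff.mpr (le_of_eq hdim)
  constructor
  · intro hne
    let T : Subalgebra A K :=
      { (A ⊔ B) with algebraMap_mem' := fun r => (le_sup_left : A ≤ A ⊔ B) r.2 }
    have hT : (T : Set K) ≠ Set.univ := by
      intro h
      apply hne
      rw [Subring.eq_top_iff']
      intro x
      have : x ∈ (T : Set K) := h ▸ Set.mem_univ x
      exact this
    obtain ⟨O, hO, hTO⟩ := Groth.Agent.H38.exists_dvr_of_between T hT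
    refine ⟨O, hO, ?_, ?_⟩
    · intro x hx
      exact hTO ((le_sup_left : A ≤ A ⊔ B) hx)
    · intro x hx
      exact hTO ((le_sup_right : B ≤ A ⊔ B) hx)
  · rintro ⟨O, hO, hAO, hBO⟩ htop
    have hle : A ⊔ B ≤ O.toSubring := sup_le hAO hBO
    rw [htop] at hle
    have hall : ∀ x : K, x ∈ O := fun x => hle (Subring.mem_top x)
    obtain ⟨x, hxm, hx0⟩ := Submodule.exists_mem_ne_zero_of_ne_bot
      (IsDiscreteValuationRing.not_a_field O)
    have hxK : (x : K) ≠ 0 := fun h => hx0 (Subtype.ext h)
    have hunit : IsUnit x := by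
      refine IsUnit.of_mul_eq_one ⟨(x : K)⁻¹, hall _⟩ ?_
      apply Subtype.ext
      change (x : K) * (x : K)⁻¹ = 1
      exact mul_inv_cancel₀ hxK
    exact (IsLocalRing.mem_maximalIdeal x).mp hxm hunit

end Groth.Agent.S7663
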