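import Groth.Statements.S7664
import Groth.Agent.H38.GlueSub
import Groth.Agent.H9.KrullAkizuki
import Mathlib.RingTheory.KrullDimension.Field

set_option autoImplicit false
universe u
open CategoryTheory CategoryTheory.Limits AlgebraicGeometry
open Variety

namespace Groth.Agent.S7664

/-- Let K be a field, A ⊆ K a Noetherian semi-local domain of dimension one and B ⊆ K a discrete
valuation ring, both with fraction field K, and R = A ∩ B. (a) If some unit of A does not lie in R,
then Spec A and Spec B each map to Spec R by an open immersion, Spec R is the union of the two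
images, and the natural map A ⊗_R B → K is an isomorphism. (b) If every unit of A lies in R, then B
dominates the local ring of A at one of its maximal ideals (A ⊆ B and the maximal ideal of B
contracts to a maximal ideal of A) and A ⊗ B → K is not surjective. -/
theorem result (K : Type u) [Field K]
    (A : Subring K) [IsFractionRing A K] [IsNoetherianRing A] (hdim : ringKrullDim A = 1) (hsl : Finite (MaximalSpectrum A))
    (B : ValuationSubring K) [IsDiscreteValuationRing B] :
    ((∃ u : A, IsUnit u ∧ (u : K) ∉ B) →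
      IsOpenImmersion (Spec.map (CommRingCat.ofHom (Subring.inclusion (inf_le_left : A ⊓ B.toSubring ≤ A)))) ∧
      IsOpenImmersion (Spec.map (CommRingCat.ofHom (Subring.inclusion (inf_le_right : A ⊓ B.toSubring ≤ B.toSubring)))) ∧
      Set.range (Spec.map (CommRingCat.ofHom (Subring.inclusion (inf_le_left : A ⊓ B.toSubring ≤ A)))).base ∪
        Set.range (Spec.map (CommRingCat.ofHom (Subring.inclusion (inf_le_right : A ⊓ B.toSubring ≤ B.toSubring)))).base = Set.univ ∧
      IsPushout (CommRingCat.ofHom (Subring.inclusion (inf_le_left : A ⊓ B.toSubring ≤ A)))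
        (CommRingCat.ofHom (Subring.inclusion (inf_le_right : A ⊓ B.toSubring ≤ B.toSubring)))
        (CommRingCat.ofHom A.subtype) (CommRingCat.ofHom B.toSubring.subtype)) ∧
    ((∀ u : A, IsUnit u → (u : K) ∈ B) →
      (∃ h : A ≤ B.toSubring,
        (Ideal.comap (Subring.inclusion h) (IsLocalRing.maximalIdeal B)).IsMaximal) ∧ A ⊔ B.toSubring ≠ ⊤) := by
  have hdA : Ring.KrullDimLE 1 A := Ring.krullDimLE_iff.mpr (le_of_eq hdim)
  have hAnf : ¬ IsField A := by
    intro hf
    have := ringKrullDim_eq_zero_of_isField hf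
    rw [hdim] at this
    exact one_ne_zero this
  -- `B` is not all of `K`
  have hBne : ∃ x : K, x ∉ B := by
    by_contra hall
    push Not at hall
    obtain ⟨x, hxm, hx0⟩ := Submodule.exists_mem_ne_zero_of_ne_bot
      (IsDiscreteValuationRing.not_a_field B)
    have hxK : (x : K) ≠ 0 := fun h => hx0 (Subtype.ext h)
    have hunit : IsUnit x := by
      refine IsUnit.of_mul_eq_one ⟨(x : K)⁻¹, hall _⟩ ?_
      apply Subtype.ext
      change (x : K) * (x : K)⁻¹ = 1
      exact mul_inv_cancel₀ hxK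
    exact (IsLocalRing.mem_maximalIdeal x).mp hxm hunit
  constructor
  · rintro ⟨u, hu, huB⟩
    have hdB : Ring.KrullDimLE 1 B.toSubring := (inferInstance : Ring.KrullDimLE 1 B)
    have hfB : IsFractionRing B.toSubring K := (inferInstance : IsFractionRing B K)
    have huinv : (u : K)⁻¹ ∈ B := (B.mem_or_inv_mem (u : K)).resolve_left huB
    have hu0 : (u : K) ≠ 0 := by
      intro h
      exact huB (h ▸ B.zero_mem)
    have hπJ : (⟨(u : K)⁻¹, huinv⟩ : B.toSubring) ∈ (⊥ : Ideal B.toSubring).jacobson := by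
      have h1 : (⊥ : Ideal B).jacobson = IsLocalRing.maximalIdeal B :=
        IsLocalRing.jacobson_eq_maximalIdeal ⊥ bot_ne_top
      change (⟨(u : K)⁻¹, huinv⟩ : B) ∈ (⊥ : Ideal B).jacobson
      rw [h1, IsLocalRing.mem_maximalIdeal, mem_nonunits_iff]
      intro hunit
      obtain ⟨w, hw⟩ := hunit.exists_right_inv
      have hwK : (u : K)⁻¹ * (w : K) = 1 := congrArg (fun b : B => (b : K)) hw
      have : (w : K) = u := by
        have := eq_inv_of_mul_eq_one_right hwK
        rwa [inv_inv] at this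
      exact huB (this ▸ w.2)
    have hmax : ∀ m : MaximalSpectrum A, m.asIdeal ≠ ⊥ := by
      intro m hm
      exact hAnf (Ring.isField_iff_maximal_bot.2 (hm ▸ m.isMaximal))
    obtain ⟨y, hy0, hy⟩ := Groth.Agent.H9.KA.exists_ne_zero_mem_all_maximal (B := A) hmax
    have hyK : (y : K) ≠ 0 := fun h => hy0 (Subtype.ext h)
    have hyJ : y ∈ (⊥ : Ideal A).jacobson := by
      rw [Ideal.jacobson, Ideal.mem_sInf]
      rintro M ⟨-, hMmax⟩
      exact hy ⟨M, hMmax⟩
    obtain ⟨N, hN⟩ := Groth.Agent.H38.exists_pow_mul_mem_of_mem_jacobson B.toSubring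
      ⟨(u : K)⁻¹, huinv⟩ hπJ ((y : K)⁻¹)
    have hzA : (y : K) * (u : K) ^ (N + 1) ∈ A := A.mul_mem y.2 (A.pow_mem u.2 _)
    have hzJ : (⟨(y : K) * (u : K) ^ (N + 1), hzA⟩ : A) ∈ (⊥ : Ideal A).jacobson := by
      have : (⟨(y : K) * (u : K) ^ (N + 1), hzA⟩ : A) = y * u ^ (N + 1) := rfl
      rw [this]
      exact Ideal.mul_mem_right _ _ hyJ
    have hinv : ((y : K) * (u : K) ^ (N + 1))⁻¹ = ((y : K)⁻¹ * ((u : K)⁻¹) ^ N) * (u : K)⁻¹ := by
      rw [mul_inv, pow_succ, mul_inv, inv_pow, mul_assoc]
    have hzB : ((y : K) * (u : K) ^ (N + 1))⁻¹ ∈ B.toSubring := by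
      rw [hinv]
      exact B.toSubring.mul_mem hN huinv
    have hzJ' : (⟨((y : K) * (u : K) ^ (N + 1))⁻¹, hzB⟩ : B.toSubring) ∈
        (⊥ : Ideal B.toSubring).jacobson := by
      have : (⟨((y : K) * (u : K) ^ (N + 1))⁻¹, hzB⟩ : B.toSubring) =
          ⟨(y : K)⁻¹ * ((u : K)⁻¹) ^ N, hN⟩ * ⟨(u : K)⁻¹, huinv⟩ := Subtype.ext hinv
      rw [this]
      exact Ideal.mul_mem_left _ _ hπJ
    exact Groth.Agent.H38.glue_of_jacobson A B.toSubring _
      (mul_ne_zero hyK (pow_ne_zero _ hu0)) hzA hzJ hzB hzJ'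
  · intro hU
    have hAB : A ≤ B.toSubring := Groth.Agent.H38.le_valuationSubring_of_units A B hU
    refine ⟨⟨hAB, ?_⟩, ?_⟩
    · have hprime : (Ideal.comap (Subring.inclusion hAB) (IsLocalRing.maximalIdeal B)).IsPrime :=
        Ideal.comap_isPrime _ _
      refine Ideal.IsPrime.isMaximal_of_ne_bot hprime ?_
      intro hbot
      obtain ⟨x, hx⟩ := hBne
      apply hx
      obtain ⟨a₁, a₂, ha₂, rfl⟩ := IsFractionRing.div_surjective (A := A) x
      have ha₂0 : a₂ ≠ 0 := nonZeroDivisors.ne_zero ha₂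
      have hnotmem : Subring.inclusion hAB a₂ ∉ IsLocalRing.maximalIdeal B := by
        intro hmem
        have : a₂ ∈ Ideal.comap (Subring.inclusion hAB) (IsLocalRing.maximalIdeal B) := hmem
        rw [hbot] at this
        exact ha₂0 (Ideal.mem_bot.mp this)
      have hunit : IsUnit (Subring.inclusion hAB a₂ : B) := by
        by_contra h
        exact hnotmem ((IsLocalRing.mem_maximalIdeal _).mpr h)
      obtain ⟨w, hw⟩ := hunit.exists_right_inv
      have hwK : (a₂ : K) * (w : K) = 1 := congrArg (fun b : B => (b : K)) hw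
      have hw' : (w : K) = (a₂ : K)⁻¹ := eq_inv_of_mul_eq_one_right hwK
      change (a₁ : K) / (a₂ : K) ∈ B
      rw [div_eq_mul_inv, ← hw']
      exact B.mul_mem _ _ (hAB a₁.2) w.2
    · rw [sup_eq_right.mpr hAB]
      intro htop
      obtain ⟨x, hx⟩ := hBne
      apply hx
      have : x ∈ B.toSubring := htop ▸ Subring.mem_top x
      exact this

end Groth.Agent.S7664
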