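import Groth.Statements.S7666
import Mathlib.RingTheory.Noetherian.Basic
import Mathlib.Algebra.Ring.GeomSum

set_option autoImplicit false
universe u
open CategoryTheory CategoryTheory.Limits AlgebraicGeometry
open Variety

namespace Groth.Agent.S7666

/-- Let A be a one-dimensional Noetherian local ring and L = ∏ A_p, the product over the minimal primes
of A. If a_1, a_2 ∈ m_A have the same image in L, then a_1 and a_2 have equal n-th powers for some
positive integer n. -/
theorem result (A : Type u) [CommRing A]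
    [IsLocalRing A] [IsNoetherianRing A] (hdim : ringKrullDim A = 1)
    (a₁ a₂ : A) (h₁ : a₁ ∈ IsLocalRing.maximalIdeal A) (h₂ : a₂ ∈ IsLocalRing.maximalIdeal A)
    (heq : ∀ p : {p : PrimeSpectrum A // p.asIdeal ∈ minimalPrimes A},
      algebraMap A (Localization.AtPrime p.1.asIdeal) a₁ = algebraMap A (Localization.AtPrime p.1.asIdeal) a₂) :
    ∃ n : ℕ, 0 < n ∧ a₁ ^ n = a₂ ^ n := by
  classical
  have hdim1 : Ring.KrullDimLE 1 A := Ring.krullDimLE_iff.mpr (le_of_eq hdim)
  have hprimes := Ring.krullDimLE_one_iff.mp hdim1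
  set d := a₁ - a₂ with hd
  let J : Ideal A := (Ideal.span {d}).annihilator
  have hJmem : ∀ x, x ∈ J ↔ x * d = 0 := fun x => by
    simp only [J, Submodule.mem_annihilator_span_singleton, smul_eq_mul]
  have hle : IsLocalRing.maximalIdeal A ≤ J.radical := by
    rw [Ideal.radical_eq_sInf]
    refine le_sInf ?_
    rintro q ⟨hJq, hq⟩
    rcases hprimes q hq with hmin | hmax
    · exfalso
      have := heq ⟨⟨q, hq⟩, hmin⟩
      obtain ⟨c, hc⟩ := (IsLocalization.eq_iff_exists q.primeCompl _).mp this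
      have hcJ : (c : A) ∈ J := by
        rw [hJmem, hd, mul_sub, hc, sub_self]
      exact c.2 (hJq hcJ)
    · rw [IsLocalRing.eq_maximalIdeal hmax]
  obtain ⟨N, hN⟩ := Ideal.exists_radical_pow_le_of_fg J (IsNoetherian.noetherian _)
  have hmN : IsLocalRing.maximalIdeal A ^ N ≤ J := (Ideal.pow_right_mono hle N).trans hN
  refine ⟨N + 1, Nat.succ_pos N, ?_⟩
  have hsum : (∑ i ∈ Finset.range (N + 1), a₁ ^ i * a₂ ^ (N + 1 - 1 - i)) ∈ J := by
    apply hmN
    refine Ideal.sum_mem _ fun i hi => ?_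
    have hiN : i ≤ N := Nat.lt_succ_iff.mp (Finset.mem_range.mp hi)
    have h4 : IsLocalRing.maximalIdeal A ^ N =
        IsLocalRing.maximalIdeal A ^ i * IsLocalRing.maximalIdeal A ^ (N + 1 - 1 - i) := by
      rw [← pow_add]; congr 1; omega
    rw [h4]
    exact Ideal.mul_mem_mul (Ideal.pow_mem_pow h₁ _) (Ideal.pow_mem_pow h₂ _)
  have h3 := (hJmem _).mp hsum
  rw [hd, Commute.geom_sum₂_mul (Commute.all a₁ a₂)] at h3
  exact sub_eq_zero.mp h3

end Groth.Agent.S7666
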