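import Groth.Statements.S7687
import Groth.Agent.H38.GlueSub
import Groth.Agent.S1640

set_option autoImplicit false
universe u
open CategoryTheory CategoryTheory.Limits AlgebraicGeometry
open Variety

namespace Groth.Agent.S7687

/-- Let K be a field and A, B ⊆ K Noetherian semi-local domains of dimension one with fraction field K
such that A ⊗ B → K is surjective, and R = A ∩ B. Then Spec A and Spec B each map to Spec R by an
open immersion, Spec R is the union of the two images, and the natural map A ⊗_R B → K is an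
isomorphism. -/
theorem result (K : Type u) [Field K]
    (A : Subring K) [IsFractionRing A K] (B : Subring K) [IsFractionRing B K] [IsNoetherianRing A] [IsNoetherianRing B]
    (hdimA : ringKrullDim A = 1) (hdimB : ringKrullDim B = 1)
    (hslA : Finite (MaximalSpectrum A)) (hslB : Finite (MaximalSpectrum B)) (hgen : A ⊔ B = ⊤) :
    IsOpenImmersion (Spec.map (CommRingCat.ofHom (Subring.inclusion (inf_le_left : A ⊓ B ≤ A)))) ∧
      IsOpenImmersion (Spec.map (CommRingCat.ofHom (Subring.inclusion (inf_le_right : A ⊓ B ≤ B)))) ∧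
      Set.range (Spec.map (CommRingCat.ofHom (Subring.inclusion (inf_le_left : A ⊓ B ≤ A)))).base ∪
        Set.range (Spec.map (CommRingCat.ofHom (Subring.inclusion (inf_le_right : A ⊓ B ≤ B)))).base = Set.univ ∧
      IsPushout (CommRingCat.ofHom (Subring.inclusion (inf_le_left : A ⊓ B ≤ A)))
        (CommRingCat.ofHom (Subring.inclusion (inf_le_right : A ⊓ B ≤ B)))
        (CommRingCat.ofHom A.subtype) (CommRingCat.ofHom B.subtype) := by
  have hdA : Ring.KrullDimLE 1 A := Ring.krullDimLE_iff.mpr (le_of_eq hdimA)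
  have hdB : Ring.KrullDimLE 1 B := Ring.krullDimLE_iff.mpr (le_of_eq hdimB)
  obtain ⟨x, hxA, hx0, hx⟩ := Groth.Agent.S1640.result K A 1 (fun _ => B)
    (fun _ => hdimB) (fun _ => hslB) (fun _ => hgen)
  obtain ⟨hxB, hxJ⟩ := hx 0
  obtain ⟨y, hyB, hy0, hy⟩ := Groth.Agent.S1640.result K B 1 (fun _ => A)
    (fun _ => hdimA) (fun _ => hslA) (fun _ => by rw [sup_comm]; exact hgen)
  obtain ⟨hyA, hyJ⟩ := hy 0
  have hzA : x * y⁻¹ ∈ A := A.mul_mem hxA hyA
  have hzJ : (⟨x * y⁻¹, hzA⟩ : A) ∈ (⊥ : Ideal A).jacobson := by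
    have : (⟨x * y⁻¹, hzA⟩ : A) = ⟨x, hxA⟩ * ⟨y⁻¹, hyA⟩ := rfl
    rw [this]
    exact Ideal.mul_mem_left _ _ hyJ
  have hinv : (x * y⁻¹)⁻¹ = y * x⁻¹ := by
    rw [mul_inv, inv_inv, mul_comm]
  have hzB : (x * y⁻¹)⁻¹ ∈ B := by
    rw [hinv]; exact B.mul_mem hyB hxB
  have hzJ' : (⟨(x * y⁻¹)⁻¹, hzB⟩ : B) ∈ (⊥ : Ideal B).jacobson := by
    have : (⟨(x * y⁻¹)⁻¹, hzB⟩ : B) = ⟨y, hyB⟩ * ⟨x⁻¹, hxB⟩ := Subtype.ext hinv
    rw [this]
    exact Ideal.mul_mem_left _ _ hxJ
  exact Groth.Agent.H38.glue_of_jacobson A B (x * y⁻¹) (mul_ne_zero hx0 (inv_ne_zero hy0))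
    hzA hzJ hzB hzJ'

end Groth.Agent.S7687
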