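import Groth.Statements.S8260
import Mathlib.AlgebraicGeometry.ProjectiveSpectrum.Proper

set_option autoImplicit false
universe u
open CategoryTheory CategoryTheory.Limits AlgebraicGeometry Opposite TopologicalSpace
open scoped HomogeneousIdeal
open EGA2

namespace Groth.Agent.S8260

theorem restrict_eq {Y P : Scheme.{u}} (𝒮 : RelProj.QCGrAlg Y) (p : P ⟶ Y)
    (chart : ∀ (U : Y.Opens) (hU : IsAffineOpen U), (((p ⁻¹ᵁ U : P.Opens) : Scheme.{u}) ≅ Proj (𝒮.deg U hU)))
    (hP : RelProj.IsRelProj 𝒮 p chart) (U : Y.Opens) (hU : IsAffineOpen U) :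
    p ∣_ U =
      (chart U hU).hom ≫ Proj.toSpecZero (𝒮.deg U hU) ≫ Spec.map (𝒮.strZero U hU) ≫ hU.isoSpec.inv := by
  have h1 := hP.chart_over U hU
  have h2 : p ∣_ U ≫ U.ι = (p ⁻¹ᵁ U).ι ≫ p := morphismRestrict_ι p U
  have h3 : hU.fromSpec = hU.isoSpec.inv ≫ U.ι := by
    simp [IsAffineOpen.isoSpec_inv_ι]
  rw [← cancel_mono U.ι, h2, ← h1, h3]
  simp only [Category.assoc]

theorem finiteType_aux {Y : Scheme.{u}} (𝒮 : RelProj.QCGrAlg Y) (U : Y.Opens) (hU : IsAffineOpen U)
    (hft : (𝒮.str.app (op U)).hom.FiniteType) :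
    Algebra.FiniteType (𝒮.deg U hU 0) (𝒮.presheaf.obj (op U)) ∧ (𝒮.strZero U hU).hom.FiniteType := by
  have hcomp : (algebraMap (𝒮.deg U hU 0) (𝒮.presheaf.obj (op U))).comp (𝒮.strZero U hU).hom =
      (𝒮.str.app (op U)).hom := by
    ext r
    rfl
  constructor
  · rw [← RingHom.finiteType_algebraMap]
    apply RingHom.FiniteType.of_comp_finiteType (f := (𝒮.strZero U hU).hom)
    rw [hcomp]
    exact hft
  · have h2 : (𝒮.strZero U hU).hom =
        (GradedRing.projZeroRingHom' (𝒮.deg U hU)).comp (𝒮.str.app (op U)).hom := by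
      ext r
      simp only [RingHom.comp_apply]
      have : (𝒮.str.app (op U)).hom r = ((𝒮.strZero U hU).hom r : 𝒮.presheaf.obj (op U)) := rfl
      rw [this, GradedRing.projZeroRingHom'_apply_coe]
    rw [h2]
    exact (RingHom.FiniteType.of_surjective _
      (GradedRing.projZeroRingHom'_surjective (𝒮.deg U hU))).comp hft

/-- If the quasi-coherent positively graded O_Y-algebra 𝒮 is of finite type (over every affine open U of
Y the ring 𝒮(U) is a finitely generated O_Y(U)-algebra), then its relative homogeneous spectrum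
Proj(𝒮) is of finite type over Y. -/
theorem result {Y P : Scheme.{u}} (𝒮 : RelProj.QCGrAlg Y)
    (hft : ∀ (U : Y.Opens) (hU : IsAffineOpen U), (𝒮.str.app (op U)).hom.FiniteType)
    (p : P ⟶ Y)
    (chart : ∀ (U : Y.Opens) (hU : IsAffineOpen U), (((p ⁻¹ᵁ U : P.Opens) : Scheme.{u}) ≅ Proj (𝒮.deg U hU)))
    (hP : RelProj.IsRelProj 𝒮 p chart) : LocallyOfFiniteType p ∧ QuasiCompact p := by
  constructor
  · rw [IsZariskiLocalAtTarget.iff_of_iSup_eq_top (P := @LocallyOfFiniteType)
      (fun i : Y.affineOpens => (i : Y.Opens)) (iSup_affineOpens_eq_top Y)]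
    intro U
    have hU : IsAffineOpen (U : Y.Opens) := U.2
    rw [restrict_eq 𝒮 p chart hP U hU]
    obtain ⟨h1, h2⟩ := finiteType_aux 𝒮 U hU (hft U hU)
    have : LocallyOfFiniteType (Spec.map (𝒮.strZero U hU)) := by
      rw [HasRingHomProperty.Spec_iff (P := @LocallyOfFiniteType)]
      exact h2
    infer_instance
  · rw [IsZariskiLocalAtTarget.iff_of_iSup_eq_top (P := @QuasiCompact)
      (fun i : Y.affineOpens => (i : Y.Opens)) (iSup_affineOpens_eq_top Y)]
    intro U
    have hU : IsAffineOpen (U : Y.Opens) := U.2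
    rw [restrict_eq 𝒮 p chart hP U hU]
    obtain ⟨h1, h2⟩ := finiteType_aux 𝒮 U hU (hft U hU)
    infer_instance

end Groth.Agent.S8260
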