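import Groth.Statements.S8265
import Groth.Agent.H41.RelProj

set_option autoImplicit false
universe u
open CategoryTheory CategoryTheory.Limits AlgebraicGeometry Opposite TopologicalSpace
open scoped HomogeneousIdeal
open EGA2

namespace Groth.Agent.S8265

/-- Let Y be an integral scheme and 𝒮 a quasi-coherent positively graded O_Y-algebra with 𝒮_0 = O_Y
which is essentially reduced (affine-locally, every nilpotent element of the irrelevant ideal of
𝒮(U) vanishes). If Proj(𝒮) is integral and dominant over Y, then 𝒮 is integral: over every nonempty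
affine open U, 𝒮(U) is an integral domain with nonzero irrelevant ideal (for Y integral, the
affine-local form of the stalkwise condition of the text). -/
theorem result {Y P : Scheme.{u}} [IsIntegral Y] (𝒮 : RelProj.QCGrAlg Y)
    (h0 : ∀ (U : Y.Opens) (hU : IsAffineOpen U), Function.Bijective (𝒮.strZero U hU).hom)
    (hred : ∀ (U : Y.Opens) (hU : IsAffineOpen U) (x : 𝒮.presheaf.obj (op U)),
      x ∈ (𝒮.deg U hU)₊ → IsNilpotent x → x = 0)
    (p : P ⟶ Y)
    (chart : ∀ (U : Y.Opens) (hU : IsAffineOpen U), (((p ⁻¹ᵁ U : P.Opens) : Scheme.{u}) ≅ Proj (𝒮.deg U hU)))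
    (hP : RelProj.IsRelProj 𝒮 p chart) [IsIntegral P] (hdom : DenseRange p.base)
    (U : Y.Opens) (hU : IsAffineOpen U) (hne : (U : Set Y).Nonempty) :
    IsDomain (𝒮.presheaf.obj (op U)) ∧ ((𝒮.deg U hU)₊).toIdeal ≠ ⊥ := by
  have hneP : ((p ⁻¹ᵁ U : P.Opens) : Set P).Nonempty := by
    obtain ⟨_, hyU, ⟨x, rfl⟩⟩ := hdom.inter_open_nonempty U U.isOpen hne
    exact ⟨x, hyU⟩
  have hneProj : Nonempty (Proj (𝒮.deg U hU)) := by
    obtain ⟨x, hx⟩ := hneP
    exact ⟨(chart U hU).hom.base ⟨x, hx⟩⟩
  have hintP : IsIntegral (Proj (𝒮.deg U hU)) :=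
    isIntegral_of_isOpenImmersion ((chart U hU).inv ≫ (p ⁻¹ᵁ U).ι)
  have hneU : Nonempty U := hne.to_subtype
  constructor
  · apply Groth.Agent.H41.ProjGen.isDomain_of_irreducibleSpace_proj (𝒜 := 𝒮.deg U hU)
      (fun f hf hn => hred U hU f hf hn)
    · intro x hx y hy hxy
      obtain ⟨x', hx'⟩ := (h0 U hU).2 ⟨x, hx⟩
      obtain ⟨y', hy'⟩ := (h0 U hU).2 ⟨y, hy⟩
      have hx'' : (𝒮.str.app (op U)).hom x' = x := congrArg Subtype.val hx'
      have hy'' : (𝒮.str.app (op U)).hom y' = y := congrArg Subtype.val hy'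
      have h1 : (𝒮.strZero U hU).hom (x' * y') = (𝒮.strZero U hU).hom 0 := by
        apply Subtype.ext
        change (𝒮.str.app (op U)).hom (x' * y') = (𝒮.str.app (op U)).hom 0
        rw [map_mul, hx'', hy'', hxy, map_zero]
      rcases mul_eq_zero.1 ((h0 U hU).1 h1) with h | h
      · left; rw [← hx'', h, map_zero]
      · right; rw [← hy'', h, map_zero]
    · intro x hx j hj y hy hy0 hxy
      have hnil : ¬ IsNilpotent y := fun hn =>
        hy0 (hred U hU y (HomogeneousIdeal.mem_irrelevant_of_mem _ hj hy) hn)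
      obtain ⟨x', hx'⟩ := (h0 U hU).2 ⟨x, hx⟩
      have hx'' : (𝒮.str.app (op U)).hom x' = x := congrArg Subtype.val hx'
      have hinj := Groth.Agent.H41.RelProj.strZero_away_injective 𝒮 p chart hP hdom U hU hne hj hy hnil
      have h1 : ((HomogeneousLocalization.fromZeroRingHom (𝒮.deg U hU) (Submonoid.powers y)).comp
          (𝒮.strZero U hU).hom) x' = 0 := by
        rw [RingHom.comp_apply, hx']
        apply HomogeneousLocalization.val_injective
        rw [HomogeneousLocalization.val_zero]
        change Localization.mk x 1 = 0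
        rw [Localization.mk_eq_mk', IsLocalization.mk'_eq_zero_iff]
        exact ⟨⟨y, 1, pow_one y⟩, by rw [mul_comm]; exact hxy⟩
      have h2 := hinj (h1.trans (map_zero _).symm)
      rw [← hx'', h2, map_zero]
  · intro hbot
    obtain ⟨q⟩ := hneProj
    apply q.not_irrelevant_le
    intro z hz
    have : z ∈ ((𝒮.deg U hU)₊).toIdeal := hz
    rw [hbot] at this
    rw [Ideal.mem_bot] at this
    rw [this]
    exact zero_mem _

end Groth.Agent.S8265
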