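import Groth.Statements.S8269
import Groth.Agent.H41.AffVB

set_option autoImplicit false
universe u
open CategoryTheory CategoryTheory.Limits AlgebraicGeometry Opposite TopologicalSpace
open EGA2

namespace Groth.Agent.S8269

/-- Let Y be either a quasi-compact separated scheme or a scheme with Noetherian underlying space, and X
affine and of finite type over Y. Then X is Y-isomorphic to a closed subscheme of a vector bundle
V(E) with E a quasi-coherent O_Y-module of finite type: there are such an E, its symmetric algebra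
A, and a closed immersion X → Spec(A) over Y. -/
theorem result {X Y : Scheme.{u}}
    (hY : (CompactSpace Y ∧ Y.IsSeparated) ∨ NoetherianSpace Y) (f : X ⟶ Y) [IsAffineHom f]
    [LocallyOfFiniteType f] :
    ∃ (E : Y.Modules) (_ : Coh.IsCoh E) (A : RelSpec.QCAlg Y) (j : E ⟶ A.toModule)
      (_ : RelSpec.IsSymAlg E A j) (i : X ⟶ A.spec), IsClosedImmersion i ∧ i ≫ A.π = f := by
  obtain ⟨c, hciso, hc⟩ := Groth.Agent.H41.AffVB.exists_iso_spec f
  have hB := Groth.Agent.H41.AffVB.finiteType_str f
  obtain ⟨E, j0, -, hEq, hEft, hgen⟩ : ∃ (E : Y.Modules) (j : E ⟶ (RelSpec.QCAlg.directImage f).toModule),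
      Mono j ∧ Coh.IsQCoh E ∧ CohB1.IsFT E ∧
      ∀ U : Y.affineOpens,
        Subring.closure (Set.range ((RelSpec.QCAlg.directImage f).str.app (op (U : Y.Opens))).hom ∪
          Set.range (fun e : E.val.obj (op (U : Y.Opens)) ↦
            (show (RelSpec.QCAlg.directImage f).presheaf.obj (op (U : Y.Opens)) from
              (j.val.app (op (U : Y.Opens))).hom e))) = ⊤ := by
    rcases hY with ⟨h1, h2⟩ | h
    · exact Groth.Agent.S4354.result _ hB
    · exact Groth.Agent.S4353.result _ hB
  haveI : E.IsQuasicoherent := hEq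
  refine ⟨E, ⟨hEq, hEft⟩, Groth.Agent.H41.SymSheaf.symAlg E, Groth.Agent.H41.SymSheaf.j E,
    Groth.Agent.H41.SymSheaf.isSymAlg E,
    c ≫ RelSpec.QCAlg.specMap (Groth.Agent.H41.SymSheaf.lift E _ j0), ?_, ?_⟩
  · haveI := hciso
    haveI : IsClosedImmersion (RelSpec.QCAlg.specMap (Groth.Agent.H41.SymSheaf.lift E _ j0)) :=
      Groth.Agent.H41.SymEpi.isClosedImmersion_specMap _ fun U hU =>
        Groth.Agent.H41.AffVB.lift_surjective E _ j0 U hU (hgen ⟨U, hU⟩)
    infer_instance
  · rw [Category.assoc, RelSpec.QCAlg.specMap_π, hc]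

end Groth.Agent.S8269
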