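import Groth.Statements.S8285
import Groth.Agent.H77.GrModQC
import Groth.Agent.H77.TwistQC
import Groth.Agent.H77.RestrictIso
import Groth.Agent.H77.RelTildeGlue

set_option autoImplicit false
universe u
open CategoryTheory CategoryTheory.Limits AlgebraicGeometry Opposite TopologicalSpace
open scoped HomogeneousIdeal
noncomputable section
open EGA2

namespace Groth.Agent.S8285

/-- The twisting sheaf O_P(n) on the relative homogeneous spectrum P = Proj(𝒮), given through its
chartwise identifications with the O(n) of the Proj 𝒮(U), is a quasi-coherent O_P-module. -/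
theorem result {Y P : Scheme.{u}} (𝒮 : RelProj.QCGrAlg Y) (p : P ⟶ Y)
    (chart : ∀ (U : Y.Opens) (hU : IsAffineOpen U), (((p ⁻¹ᵁ U : P.Opens) : Scheme.{u}) ≅ Proj (𝒮.deg U hU)))
    (hP : RelProj.IsRelProj 𝒮 p chart) (n : ℤ) (L : P.Modules)
    (lam : ∀ (U : Y.Opens) (hU : IsAffineOpen U),
      L ⟶ (Scheme.Modules.pushforward (RelProj.emb p chart U hU)).obj (GrTwist.twist (𝒮.deg U hU) n))
    (hL : RelProj.IsRelTwist 𝒮 p chart n L lam) : Coh.IsQCoh L := by
  have hcov : IsOpenCover (fun U : Y.affineOpens => p ⁻¹ᵁ U.1) := by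
    refine IsOpenCover.mk (top_le_iff.mp ?_)
    intro x _
    obtain ⟨_, ⟨U, hU, rfl⟩, hxU, -⟩ := Y.isBasis_affineOpens.exists_subset_of_mem_open
      (Set.mem_univ (p.base x)) isOpen_univ
    exact Opens.mem_iSup.mpr ⟨⟨U, hU⟩, hxU⟩
  refine Groth.Agent.H18.isQuasicoherent_of_isOpenCover L _ hcov (fun U => ?_)
  haveI := Groth.Agent.H77.TwistQC.twist_isQuasicoherent (𝒮.deg U.1 U.2) n
  exact Groth.Agent.H77.RestrictIso.isQuasicoherent_restrict_ι (RelProj.emb p chart U.1 U.2)
    (lam U.1 U.2)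
    (fun W hW => hL.bijective U.1 U.2 W
      (by rwa [Groth.Agent.H77.RelTildeGlue.opensRange_emb] at hW))
    (p ⁻¹ᵁ U.1) (chart U.1 U.2) (by rw [RelProj.emb, Iso.hom_inv_id_assoc])

end Groth.Agent.S8285
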