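import Groth.Statements.S8305
import Groth.Agent.H41.DiIso

set_option autoImplicit false
universe u
open CategoryTheory CategoryTheory.Limits AlgebraicGeometry Opposite TopologicalSpace
noncomputable section
open EGA2

namespace Groth.Agent.S8305

/-- Let X and Y be schemes affine over S with structure morphisms gX and gY, h : Y → X a morphism over
S, F a quasi-coherent O_X-module, G a quasi-coherent O_Y-module and v : F → h_*G a homomorphism of
O_X-modules, so that (h, v) is a morphism of pairs (Y, G) → (X, F). Then h and v are isomorphisms if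
and only if the direct-image algebra homomorphism A(h) : gX_*O_X → gY_*O_Y and the direct image A(v)
= gX_*(v) : gX_*F → gX_*h_*G are isomorphisms (the pair (A(h), A(v)) is a di-isomorphism). -/
theorem result {X Y S : Scheme.{u}} (gX : X ⟶ S) [IsAffineHom gX]
    (gY : Y ⟶ S) [IsAffineHom gY] (h : Y ⟶ X) (hh : h ≫ gX = gY)
    (F : X.Modules) (G : Y.Modules) (hF : Coh.IsQCoh F) (hG : Coh.IsQCoh G)
    (v : F ⟶ (Scheme.Modules.pushforward h).obj G) :
    (IsIso h ∧ IsIso v) ↔
      (IsIso (AffAlg.algHom gX gY h hh) ∧ IsIso ((Scheme.Modules.pushforward gX).map v)) := by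
  haveI : F.IsQuasicoherent := hF
  haveI : G.IsQuasicoherent := hG
  constructor
  · rintro ⟨h1, h2⟩
    exact ⟨Groth.Agent.H41.DiIso.isIso_algHom_of_isIso gX gY h hh, inferInstance⟩
  · rintro ⟨hA, hv⟩
    have hiso : IsIso h := Groth.Agent.H41.DiIso.isIso_of_isIso_algHom gX gY h hh hA
    haveI : ((Scheme.Modules.pushforward h).obj G).IsQuasicoherent :=
      Groth.Agent.H8.isQuasicoherent_pushforward_of_isAffineHom h G
    exact ⟨hiso, Groth.Agent.H41.DiIso.isIso_of_isIso_pushforward_map gX v hv⟩

end Groth.Agent.S8305
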