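import Groth.Statements.S8315
import Groth.Agent.H77.PushColim

set_option autoImplicit false
universe u
open CategoryTheory CategoryTheory.Limits AlgebraicGeometry Opposite TopologicalSpace
noncomputable section
open EGA2

namespace Groth.Agent.S8315

/-- Commutation with direct sums: in the form it takes for the direct image: let f : X → S be an affine
morphism and (F_i) a family of quasi-coherent O_X-modules. Then the canonical comparison morphism
from the direct sum of the f_*F_i to f_*(⊕ F_i), in the category of modules over the direct-image
algebra f_*O_X, is an isomorphism. (The published statement says that the module on X attached to a
quasi-coherent f_*O_X-module commutes with direct sums; through the equivalence on quasi-coherent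
modules this is the same as the direct image commuting with direct sums of quasi-coherent modules.) -/
theorem result {X S : Scheme.{u}} (f : X ⟶ S) [IsAffineHom f]
    {ι : Type u} (F : ι → X.Modules) (hF : ∀ i, Coh.IsQCoh (F i)) :
    IsIso (sigmaComparison (AMod.dirImg f) F) := by
  have : PreservesColimit (Discrete.functor F) (AMod.dirImg f) :=
    Groth.Agent.H77.PushColim.preservesColimit_dirImg f (Discrete.functor F) (fun j => hF j.as)
  infer_instance

end Groth.Agent.S8315
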