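import Groth.Statements.S8322
import Groth.Agent.H77.GrModQC
import Groth.Agent.H77.TwistQC
import Groth.Agent.H77.RestrictIso
import Groth.Agent.H77.RelTildeGlue

set_option autoImplicit false
universe u
open CategoryTheory CategoryTheory.Limits AlgebraicGeometry Opposite TopologicalSpace
open scoped HomogeneousIdeal
noncomputable section
open EGA2

namespace Groth.Agent.S8322

/-- Quasi-coherence: for a general quasi-coherent graded 𝒮-module ℳ: the module (ℳ(n))~ on P = Proj(𝒮),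
given through its chartwise identifications with the modules (ℳ(U)(n))~ on the Proj 𝒮(U), is a
quasi-coherent O_P-module. -/
theorem result {Y P : Scheme.{u}} (𝒮 : RelProj.QCGrAlg Y) (p : P ⟶ Y)
    (chart : ∀ (U : Y.Opens) (hU : IsAffineOpen U), (((p ⁻¹ᵁ U : P.Opens) : Scheme.{u}) ≅ Proj (𝒮.deg U hU)))
    (hP : RelProj.IsRelProj 𝒮 p chart) (ℳ : RelProj.GrModule 𝒮)
    (hℳ : Coh.IsQCoh ((AMod.toOS 𝒮.toQCAlg).obj ℳ.mod)) (n : ℤ) (F : P.Modules)
    (lam : ∀ (U : Y.Opens) (hU : IsAffineOpen U),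
      F ⟶ (Scheme.Modules.pushforward (RelProj.emb p chart U hU)).obj (GrMod.tilde (𝒮.deg U hU) (ℳ.deg U hU) n))
    (hF : RelProj.IsRelTilde 𝒮 p chart ℳ n F lam) : Coh.IsQCoh F := by
  have hcov : IsOpenCover (fun U : Y.affineOpens => p ⁻¹ᵁ U.1) := by
    refine IsOpenCover.mk (top_le_iff.mp ?_)
    intro x _
    obtain ⟨_, ⟨U, hU, rfl⟩, hxU, -⟩ := Y.isBasis_affineOpens.exists_subset_of_mem_open
      (Set.mem_univ (p.base x)) isOpen_univ
    exact Opens.mem_iSup.mpr ⟨⟨U, hU⟩, hxU⟩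
  refine Groth.Agent.H18.isQuasicoherent_of_isOpenCover F _ hcov (fun U => ?_)
  haveI := Groth.Agent.H77.GrModQC.tilde_isQuasicoherent (𝒮.deg U.1 U.2) (ℳ.deg U.1 U.2) n
  exact Groth.Agent.H77.RestrictIso.isQuasicoherent_restrict_ι (RelProj.emb p chart U.1 U.2)
    (lam U.1 U.2)
    (fun W hW => hF.bijective U.1 U.2 W
      (by rwa [Groth.Agent.H77.RelTildeGlue.opensRange_emb] at hW))
    (p ⁻¹ᵁ U.1) (chart U.1 U.2) (by rw [RelProj.emb, Iso.hom_inv_id_assoc])

end Groth.Agent.S8322
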