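import Groth.Statements.S8325
import Groth.Agent.H77.RelQC
import Groth.Agent.H77.RestrictFT
import Groth.Agent.H77.GrModFT
import Groth.Agent.H41.ProjFT

set_option autoImplicit false
universe u
open CategoryTheory CategoryTheory.Limits AlgebraicGeometry Opposite TopologicalSpace
open scoped HomogeneousIdeal
noncomputable section
open EGA2

namespace Groth.Agent.S8325

/-- Let 𝒮 be a quasi-coherent positively graded O_Y-algebra generated by 𝒮_1, with 𝒮_1 of finite type,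
and ℳ a quasi-coherent graded 𝒮-module satisfying (TF). Then the module ℳ~ on P = Proj(𝒮) (given
through its chartwise identifications) is of finite type. -/
theorem result {Y P : Scheme.{u}} (𝒮 : RelProj.QCGrAlg Y) (p : P ⟶ Y)
    (chart : ∀ (U : Y.Opens) (hU : IsAffineOpen U), (((p ⁻¹ᵁ U : P.Opens) : Scheme.{u}) ≅ Proj (𝒮.deg U hU)))
    (hP : RelProj.IsRelProj 𝒮 p chart) (hgen : 𝒮.IsGenDegOne) (hft : 𝒮.IsFTDeg 1)
    (ℳ : RelProj.GrModule 𝒮) (hℳ : Coh.IsQCoh ((AMod.toOS 𝒮.toQCAlg).obj ℳ.mod)) (hTF : ℳ.IsTF) (F : P.Modules)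
    (lam : ∀ (U : Y.Opens) (hU : IsAffineOpen U),
      F ⟶ (Scheme.Modules.pushforward (RelProj.emb p chart U hU)).obj (GrMod.tilde (𝒮.deg U hU) (ℳ.deg U hU) 0))
    (hF : RelProj.IsRelTilde 𝒮 p chart ℳ 0 F lam) : CohB1.IsFT F := by
  haveI hFq : F.IsQuasicoherent :=
    Groth.Agent.H77.RelQC.relTilde_isQuasicoherent 𝒮 p chart ℳ 0 F lam hF
  obtain ⟨n₁, hTF⟩ := hTF
  refine Groth.Agent.H77.RestrictFT.isFiniteType_of_isOpenCover F _
    (Groth.Agent.H77.RelQC.isOpenCover_preimage_affine p) (fun U => ?_)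
  obtain ⟨U, hU⟩ := U
  let _ : Algebra Γ(Y, U) (𝒮.presheaf.obj (op U)) := (𝒮.str.app (op U)).hom.toAlgebra
  obtain ⟨T, hT, hTspan⟩ := hft U hU
  have halg : ∀ r : Γ(Y, U), algebraMap Γ(Y, U) (𝒮.presheaf.obj (op U)) r ∈ 𝒮.deg U hU 0 :=
    fun r => 𝒮.str_mem U hU r
  have hT' : ∀ t ∈ T, t ∈ 𝒮.deg U hU 1 := fun t ht => hT ht
  have hspan : ∀ x ∈ 𝒮.deg U hU 1,
      x ∈ Submodule.span Γ(Y, U) (T : Set (𝒮.presheaf.obj (op U))) := by
    intro x hx
    obtain ⟨c, hc⟩ := hTspan x hx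
    rw [hc]
    refine Submodule.sum_mem _ fun t ht => ?_
    have : (𝒮.str.app (op U)).hom (c t) * t = c t • t := (Algebra.smul_def _ _).symm
    rw [this]
    exact Submodule.smul_mem _ _ (Submodule.subset_span ht)
  have hirr := Groth.Agent.H41.ProjFT.irrelevant_le_span halg T hT' hspan (hgen U hU)
  have := Groth.Agent.H77.GrModQC.tilde_isQuasicoherent (𝒮.deg U hU) (ℳ.deg U hU) 0
  have hTft := Groth.Agent.H77.GrModFT.tilde_isFiniteType (𝒮.deg U hU) (ℳ.deg U hU) T hT' hirr n₁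
    (hTF U hU)
  exact Groth.Agent.H77.RestrictFT.isFiniteType_restrict_ι (RelProj.emb p chart U hU) hTft
    (lam U hU)
    (fun W hW => hF.bijective U hU W
      (by rwa [Groth.Agent.H77.RelTildeGlue.opensRange_emb] at hW))
    (p ⁻¹ᵁ U) (chart U hU) (Groth.Agent.H77.RelQC.chart_hom_emb 𝒮 p chart U hU)

end Groth.Agent.S8325
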