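import Groth.Statements.S8346
import Groth.Agent.S8344

set_option autoImplicit false
universe u
open ConstrTop

namespace Groth.Agent.S8346

open TopologicalSpace in
open scoped Set.Notation in
/-- Let X be a topological space admitting a basis of open subsets which are retrocompact in X. Then
every locally constructible subset T of X is retrocompact in X. -/
theorem result {X : Type u} [TopologicalSpace X]
    {B : Set (Set X)} (hB : IsTopologicalBasis B) (hBr : ∀ U ∈ B, IsRetrocompact U) {T : Set X}
    (hT : Topology.IsLocallyConstructible T) : IsRetrocompact T := by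
  intro W hWc hWo
  have key : ∀ x ∈ W, ∃ V : Set X, IsOpen V ∧ x ∈ V ∧ V ⊆ W ∧ IsCompact (T ∩ V) := by
    intro x hxW
    obtain ⟨U, hxU, hUo, hUc⟩ := hT x
    have hUW : U ∩ W ∈ nhds x := Filter.inter_mem hxU (hWo.mem_nhds hxW)
    obtain ⟨V, hVB, hxV, hVUW⟩ := hB.mem_nhds_iff.mp hUW
    have hVo : IsOpen V := hB.isOpen hVB
    have hVU : V ⊆ U := hVUW.trans Set.inter_subset_left
    have hVW : V ⊆ W := hVUW.trans Set.inter_subset_right
    have hVc : IsCompact V := by
      have := hBr V hVB hWc hWo
      rwa [Set.inter_eq_left.mpr hVW] at this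
    have : CompactSpace V := isCompact_iff_compactSpace.mp hVc
    have h1 : Topology.IsConstructible (V ↓∩ T) :=
      (hUc.preimage_of_isOpenEmbedding (Topology.IsOpenEmbedding.id.restrict hVU hVo) :)
    have h2 : IsCompact (V ↓∩ T) := (Groth.Agent.S8344.result h1).isCompact
    have h3 : IsCompact (Subtype.val '' (V ↓∩ T)) := h2.image continuous_subtype_val
    rw [Subtype.image_preimage_coe] at h3
    rw [Set.inter_comm] at h3
    exact ⟨V, hVo, hxV, hVW, h3⟩
  choose! V hVo hxV hVW hVc using key
  obtain ⟨σ, hσ⟩ := hWc.elim_nhds_subcover' (fun x hx => V x)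
    (fun x hx => (hVo x hx).mem_nhds (hxV x hx))
  have : T ∩ W = ⋃ x ∈ σ, T ∩ V x := by
    apply subset_antisymm
    · rw [← Set.inter_iUnion₂]
      exact Set.inter_subset_inter_right _ hσ
    · exact Set.iUnion₂_subset fun x hx => Set.inter_subset_inter_right _ (hVW x x.2)
  rw [this]
  exact σ.isCompact_biUnion fun x _ => hVc x x.2

end Groth.Agent.S8346
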