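import Groth.Statements.S8347
import Groth.Agent.H42.SpSeq2

set_option autoImplicit false
universe v u
open CategoryTheory CategoryTheory.Limits
open SpSeq

namespace Groth.Agent.S8347

theorem isZero_gr_of_isZero_page {C : Type u} [Category.{v} C] [Abelian C] {r₀ : ℤ}
    (E : CohomologicalSpectralSequence C r₀) {H : ℤ → C} (a : SpSeq.Abutment E H)
    (r : ℤ) (hr : r₀ ≤ r) (pq : ℤ × ℤ) (m : ℤ) (hm : pq.1 + pq.2 = m)
    (h : IsZero ((E.page r hr).X pq)) :
    IsZero (SpSeq.grPiece (a.fil m) (a.anti m) pq.1) := by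
  subst hm
  refine IsZero.of_iso ?_ (a.β pq).symm
  rcases le_total r (a.rk pq) with hle | hle
  · exact Groth.Agent.H42.isZero_page_of_le E r hr pq h (a.rk pq) hle
  · obtain ⟨e⟩ := Groth.Agent.H42.nonempty_pageIso_of_stationary E pq (a.rk pq) (a.stat pq) r hle
    exact IsZero.of_iso h e

theorem main {C : Type u} [Category.{v} C] [Abelian C] {r₀ : ℤ}
    (E : CohomologicalSpectralSequence C r₀) {H : ℤ → C} (a : SpSeq.Abutment E H)
    (r : ℤ) (hr : r₀ ≤ r) (pq : ℤ × ℤ) (m : ℤ) (hm : pq.1 + pq.2 = m)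
    (hzero : ∀ p : ℤ, p ≠ pq.1 → IsZero ((E.page r hr).X (p, m - p)))
    (hdisc : (a.filObj m).IsDiscrete) (hexh : a.IsExhaustive m)
    (hst : SpSeq.StationaryAt E pq r) :
    Nonempty (H m ≅ (E.page r hr).X pq) := by
  have hz : ∀ p : ℤ, p ≠ pq.1 → IsZero (SpSeq.grPiece (a.fil m) (a.anti m) p) := fun p hp =>
    isZero_gr_of_isZero_page E a r hr (p, m - p) m (by simp) (hzero p hp)
  obtain ⟨e1⟩ := Groth.Agent.H42.nonempty_iso_grPiece_of_single (a.fil m) (a.anti m) pq.1 hz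
    hdisc hexh
  subst hm
  -- identify the graded piece with the page object
  have e2 := (a.β pq).symm
  rcases le_total r (a.rk pq) with hle | hle
  · obtain ⟨e3⟩ := Groth.Agent.H42.nonempty_pageIso_of_stationary E pq r hst (a.rk pq) hle
    exact ⟨e1 ≪≫ e2 ≪≫ e3.symm⟩
  · obtain ⟨e3⟩ := Groth.Agent.H42.nonempty_pageIso_of_stationary E pq (a.rk pq) (a.stat pq) r hle
    exact ⟨e1 ≪≫ e2 ≪≫ e3⟩

theorem result {C : Type u} [Category.{v} C] [Abelian C] {r₀ : ℤ}
    (E : CohomologicalSpectralSequence C r₀) {H : ℤ → C} (a : SpSeq.Abutment E H)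
    (r : ℤ) (hr : r₀ ≤ r) (q : ℤ → ℤ)
    (hdeg : ∀ m q' : ℤ, q' ≠ q m → IsZero ((E.page r hr).X (m - q', q')))
    (n : ℤ) (hdisc : (a.filObj n).IsDiscrete) (hexh : a.IsExhaustive n)
    (hst : SpSeq.StationaryAt E (n - q n, q n) r) :
    Nonempty (H n ≅ (E.page r hr).X (n - q n, q n)) := by
  refine main E a r hr (n - q n, q n) n (by simp) ?_ hdisc hexh hst
  intro p hp
  have h := hdeg n (n - p) (by
    intro h
    apply hp
    show p = n - q n
    omega)
  have e : n - (n - p) = p := by omega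
  rw [e] at h
  exact h

end Groth.Agent.S8347
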