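import Groth.Statements.S8348
import Mathlib.Algebra.Homology.HomologicalComplexLimits
import Mathlib.Algebra.Homology.ShortComplex.ShortExact

set_option autoImplicit false
universe v u
open CategoryTheory CategoryTheory.Limits
open HomAlg3

namespace Groth.Agent.S8348

variable {C : Type u} [Category.{v} C] [Abelian C]

/-- The short complex `Z^i ⟶ Q^i ⟶ Z^{i+1}`. -/
noncomputable abbrev cyc (Q : CochainComplex C ℕ) (i : ℕ) : ShortComplex C :=
  ShortComplex.mk (Q.iCycles i) (Q.toCycles i (i + 1)) (by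
    rw [← cancel_mono (Q.iCycles (i + 1)), Category.assoc, HomologicalComplex.toCycles_i,
      HomologicalComplex.iCycles_d, zero_comp])

theorem cyc_exact (Q : CochainComplex C ℕ) (i : ℕ) : (cyc Q i).Exact := by
  apply ShortComplex.exact_of_f_is_kernel
  exact isKernelOfComp (Q.iCycles (i + 1)) (Q.d i (i + 1))
    (Q.cyclesIsKernel i (i + 1) (by simp)) _ (Q.toCycles_i i (i + 1))

theorem cyc_epi (Q : CochainComplex C ℕ) (i : ℕ) (h : IsZero (Q.homology (i + 1))) :
    Epi (Q.toCycles i (i + 1)) :=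
  Preadditive.epi_of_isZero_cokernel' _ (Q.homologyIsCokernel i (i + 1) (by simp)) h

theorem splitting_data (Q : CochainComplex C ℕ) (i : ℕ) (h : IsZero (Q.homology (i + 1)))
    (hs : IsSplitMono (Q.iCycles i)) :
    ∃ (r : Q.X i ⟶ Q.cycles i) (σ : Q.cycles (i + 1) ⟶ Q.X i),
      Q.iCycles i ≫ r = 𝟙 _ ∧ σ ≫ Q.toCycles i (i + 1) = 𝟙 _ ∧
        r ≫ Q.iCycles i + Q.toCycles i (i + 1) ≫ σ = 𝟙 _ := by
  obtain ⟨⟨r⟩⟩ := hs
  have : Epi (cyc Q i).g := cyc_epi Q i h
  let spl := ShortComplex.Splitting.ofExactOfRetraction (cyc Q i) (cyc_exact Q i) r.retraction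
      r.id this
  exact ⟨spl.r, spl.s, spl.f_r, spl.s_g, spl.id⟩

theorem result (Q : CochainComplex C ℕ) (hinj : ∀ i : ℕ, Injective (Q.X i))
    (hac : ∀ i : ℕ, IsZero (Q.homology (i + 1)))
    (hsplit : ∀ i : ℕ, IsSplitMono (Q.iCycles i)) : Injective Q := by
  choose r σ h1 h2 h3 using fun i => splitting_data Q i (hac i) (hsplit i)
  -- cycles are injective
  have hZinj : ∀ i : ℕ, Injective (Q.cycles i) := fun i =>
    haveI := hinj i
    Retract.injective ⟨Q.iCycles i, r i, h1 i⟩
  constructor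
  intro A B g f hf
  -- the components on cycles
  let a : ∀ i : ℕ, B.X i ⟶ Q.cycles i := fun i =>
    haveI := hZinj i
    Injective.factorThru (g.f i ≫ r i) (f.f i)
  have ha : ∀ i, f.f i ≫ a i = g.f i ≫ r i := fun i =>
    haveI := hZinj i
    Injective.comp_factorThru _ _
  let h : ∀ i : ℕ, B.X i ⟶ Q.X i := fun i =>
    a i ≫ Q.iCycles i + B.d i (i + 1) ≫ a (i + 1) ≫ σ i
  have hs : ∀ i, σ i ≫ Q.d i (i + 1) = Q.iCycles (i + 1) := by
    intro i
    rw [← Q.toCycles_i i (i + 1), ← Category.assoc, h2, Category.id_comp]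
  refine ⟨{ f := h, comm' := ?_ }, ?_⟩
  · intro i j hij
    have hij' : i + 1 = j := hij
    subst hij'
    simp only [h, Preadditive.add_comp, Preadditive.comp_add, Category.assoc,
      HomologicalComplex.iCycles_d, comp_zero, zero_add, hs,
      HomologicalComplex.d_comp_d_assoc, zero_comp, add_zero]
  · ext i
    simp only [HomologicalComplex.comp_f, h, Preadditive.comp_add]
    have e1 : f.f i ≫ a i ≫ Q.iCycles i = g.f i ≫ r i ≫ Q.iCycles i := by
      rw [← Category.assoc, ha, Category.assoc]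
    have e2 : f.f i ≫ B.d i (i + 1) ≫ a (i + 1) ≫ σ i =
        g.f i ≫ Q.toCycles i (i + 1) ≫ σ i := by
      rw [← Category.assoc, f.comm i (i + 1), Category.assoc, ← Category.assoc (f.f (i + 1)),
        ha, Category.assoc, ← Category.assoc (A.d i (i+1)), ← g.comm i (i + 1)]
      rw [← Q.toCycles_i i (i + 1)]
      simp only [Category.assoc]
      rw [← Category.assoc (Q.iCycles (i + 1)), h1, Category.id_comp]
    rw [e1, e2, ← Preadditive.comp_add, h3, Category.comp_id]

end Groth.Agent.S8348
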