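import Groth.Statements.S8349
import Mathlib.Algebra.Homology.HomologicalComplexLimits
import Mathlib.Algebra.Homology.ShortComplex.ShortExact

set_option autoImplicit false
universe v u
open CategoryTheory CategoryTheory.Limits
open HomAlg3

namespace Groth.Agent.S8349

variable {C : Type u} [Category.{v} C] [Abelian C]

theorem exact_of_factor {X Y Z : C} (f : X ⟶ Y) (g : Y ⟶ Z) (w : f ≫ g = 0) (s : Y ⟶ X)
    (hs : ∀ {W : C} (φ : W ⟶ Y), φ ≫ g = 0 → φ ≫ s ≫ f = φ) :
    (ShortComplex.mk f g w).Exact := by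
  rw [ShortComplex.exact_iff_kernel_ι_comp_cokernel_π_zero]
  dsimp
  rw [← hs (kernel.ι g) (kernel.condition g)]
  simp

theorem props_of_contraction (Q : CochainComplex C ℕ) (p : ∀ i, Q.X i ⟶ Q.X i)
    (h : ∀ i, Q.X (i + 1) ⟶ Q.X i)
    (ha : ∀ i, p i ≫ Q.d i (i + 1) = 0) (hb : ∀ i, p i + Q.d i (i + 1) ≫ h i = 𝟙 _)
    (hc : ∀ i, h i ≫ Q.d i (i + 1) = p (i + 1)) :
    (∀ i : ℕ, IsZero (Q.homology (i + 1))) ∧ ∀ i : ℕ, IsSplitMono (Q.iCycles i) := by
  have hfix : ∀ (i : ℕ) {W : C} (φ : W ⟶ Q.X i), φ ≫ Q.d i (i + 1) = 0 → φ ≫ p i = φ := by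
    intro i W φ hφ
    have := congrArg (fun t => φ ≫ t) (hb i)
    simp only [Preadditive.comp_add, Category.comp_id] at this
    rw [← Category.assoc, hφ, zero_comp, add_zero] at this
    exact this
  constructor
  · intro i
    rw [← HomologicalComplex.exactAt_iff_isZero_homology,
      HomologicalComplex.exactAt_iff' Q i (i + 1) (i + 2) (by simp) (by simp)]
    apply exact_of_factor (Q.d i (i + 1)) (Q.d (i + 1) (i + 2)) (Q.d_comp_d _ _ _) (h i)
    intro W φ hφ
    rw [hc i]
    exact hfix (i + 1) φ hφ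
  · intro i
    refine ⟨⟨⟨Q.liftCycles (p i) (i + 1) (by simp) (ha i), ?_⟩⟩⟩
    rw [← cancel_mono (Q.iCycles i), Category.assoc, HomologicalComplex.liftCycles_i,
      Category.id_comp]
    exact hfix i _ (Q.iCycles_d i (i + 1))

theorem result [EnoughInjectives C] (A : CochainComplex C ℕ) :
    ∃ (Q : CochainComplex C ℕ) (f : A ⟶ Q), Mono f ∧ (∀ i : ℕ, Injective (Q.X i)) ∧
      (∀ i : ℕ, IsZero (Q.homology (i + 1))) ∧ ∀ i : ℕ, IsSplitMono (Q.iCycles i) := by
  let I : ℕ → C := fun i => Injective.under (A.X i)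
  let ι : ∀ i, A.X i ⟶ I i := fun i => Injective.ι (A.X i)
  let QX : ℕ → C := fun i => I i ⊞ I (i + 1)
  let dQ : ∀ i, QX i ⟶ QX (i + 1) := fun i => biprod.snd ≫ biprod.inl
  have sq : ∀ i, dQ i ≫ dQ (i + 1) = 0 := by
    intro i
    simp [dQ]
  let Q : CochainComplex C ℕ := CochainComplex.of QX dQ sq
  have hd : ∀ i, Q.d i (i + 1) = dQ i := fun i => CochainComplex.of_d QX dQ i
  let fi : ∀ i, A.X i ⟶ Q.X i := fun i => biprod.lift (ι i) (A.d i (i + 1) ≫ ι (i + 1))
  let f : A ⟶ Q :=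
    { f := fi
      comm' := by
        intro i j hij
        have hij' : i + 1 = j := hij
        subst hij'
        rw [hd]
        apply biprod.hom_ext
        · simp [fi, dQ]
        · simp [fi, dQ] }
  have hmono : ∀ i, Mono (f.f i) := by
    intro i
    have : f.f i ≫ (biprod.fst : I i ⊞ I (i + 1) ⟶ I i) = ι i := by
      simp [f, fi]
    have hι : Mono (ι i) := inferInstanceAs (Mono (Injective.ι (A.X i)))
    exact mono_of_mono_fac this
  refine ⟨Q, f, HomologicalComplex.mono_of_mono_f f hmono, ?_, ?_⟩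
  · intro i
    show Injective (I i ⊞ I (i + 1))
    infer_instance
  · apply props_of_contraction Q (fun i => (biprod.fst ≫ biprod.inl : QX i ⟶ QX i))
      (fun i => (biprod.fst ≫ biprod.inr : QX (i + 1) ⟶ QX i))
    · intro i
      rw [hd]; simp [dQ]
    · intro i
      rw [hd]
      simp only [dQ, Category.assoc, biprod.inl_fst_assoc]
      exact biprod.total
    · intro i
      rw [hd]; simp [dQ]

end Groth.Agent.S8349
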