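import Groth.Statements.S8352
import Groth.Agent.H42.MLSeq
import Mathlib.CategoryTheory.Limits.Types.Limits
import Mathlib.CategoryTheory.Limits.ConcreteCategory.Basic

set_option autoImplicit false
universe u
open CategoryTheory CategoryTheory.Limits Opposite
open HomAlg3

namespace Groth.Agent.S8352

/-- The image of the projection from the limit is the set of elements in every transition range. -/
theorem mem_range_π_iff (F : ℕᵒᵖ ⥤ AddCommGrpCat.{u})
    (hF : (F ⋙ forget AddCommGrpCat).IsMittagLeffler) (p : ℕ) (x : F.obj (op p)) :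
    x ∈ (limit.π F (op p)).hom.range ↔
      ∀ (k : ℕ) (hk : p ≤ k), x ∈ (F.map (homOfLE hk).op).hom.range := by
  constructor
  · rintro ⟨y, rfl⟩ k hk
    refine ⟨(limit.π F (op k)).hom y, ?_⟩
    have := limit.w F (homOfLE hk).op
    rw [← this]
    rfl
  · intro hx
    have hx' : x ∈ (F ⋙ forget AddCommGrpCat).eventualRange (op p) := by
      rw [Functor.mem_eventualRange_iff]
      intro i f
      have hle : p ≤ i.unop := leOfHom f.unop
      obtain ⟨z, hz⟩ := hx i.unop hle
      refine ⟨z, ?_⟩
      have : f = (homOfLE hle).op := Subsingleton.elim _ _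
      rw [this]
      exact hz
    obtain ⟨s, hs, hsp⟩ := Groth.Agent.H42.exists_section_of_mem_eventualRange
      (F ⋙ forget AddCommGrpCat) hF p x hx'
    let hlim := isLimitOfPreserves (forget AddCommGrpCat) (limit.isLimit F)
    let y := (Types.isLimitEquivSections hlim).symm ⟨s, hs⟩
    refine ⟨y, ?_⟩
    have := Types.isLimitEquivSections_symm_apply hlim ⟨s, hs⟩ (op p)
    rw [← hsp]
    exact this

theorem result (F : ℕᵒᵖ ⥤ AddCommGrpCat.{u})
    (hF : (F ⋙ forget AddCommGrpCat).IsMittagLeffler) :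
    (limit.π F (op 0)).hom.range = ⨅ k : ℕ, (F.map (homOfLE (Nat.zero_le k)).op).hom.range ∧
      ∀ p : ℕ, (limit.π F (op (p + 1))).hom.range ⊓ (F.map (homOfLE (Nat.le_succ p)).op).hom.ker =
        ⨅ (k : ℕ) (hk : p + 1 ≤ k),
          (F.map (homOfLE hk).op).hom.range ⊓ (F.map (homOfLE (Nat.le_succ p)).op).hom.ker := by
  constructor
  · ext x
    rw [mem_range_π_iff F hF, AddSubgroup.mem_iInf]
    exact ⟨fun h k => h k (Nat.zero_le k), fun h k _ => h k⟩
  · intro p
    ext x
    rw [AddSubgroup.mem_inf, mem_range_π_iff F hF]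
    simp only [AddSubgroup.mem_iInf, AddSubgroup.mem_inf]
    constructor
    · rintro ⟨h1, h2⟩ k hk
      exact ⟨h1 k hk, h2⟩
    · intro h
      exact ⟨fun k hk => (h k hk).1, (h (p + 1) le_rfl).2⟩

end Groth.Agent.S8352
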