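import Groth.Statements.S8353
import Groth.Agent.H42.FiltFin

set_option autoImplicit false
universe u
open HomAlg3

namespace Groth.Agent.S8353

/-- Let S be a Noetherian ring which is separated and complete for the adic topology of an ideal J, and
let M be an S-module with a decreasing filtration (F^p M)_{p ∈ ℤ} by submodules such that F^p M = M
for some p, J·F^p M ⊆ F^{p+1} M for all p, and ⋂_p F^p M = 0. Then the following are equivalent: (a)
M is a finitely generated S-module and J·F^p M = F^{p+1} M for all large p; (c) every F^p M /
F^{p+1} M is a finitely generated S-module and, for all large p, the map J ⊗ (F^p M/F^{p+1} M) ⟶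
F^{p+1} M/F^{p+2} M is surjective, that is F^{p+1} M = J·F^p M + F^{p+2} M. (The published statement
also lists a third equivalent condition, finite generation of the associated graded module over the
associated graded ring; this row states the equivalence of the other two.) -/
theorem result {S : Type u} [CommRing S] [IsNoetherianRing S]
    (J : Ideal S) [IsAdicComplete J S] {M : Type u} [AddCommGroup M] [Module S M]
    (F : ℤ → Submodule S M) (hF : Antitone F) (hcod : ∃ p₀ : ℤ, F p₀ = ⊤)
    (hJ : ∀ p : ℤ, J • F p ≤ F (p + 1)) (hsep : ⨅ p : ℤ, F p = ⊥) :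
    (Module.Finite S M ∧ ∃ p₁ : ℤ, ∀ p : ℤ, p₁ ≤ p → J • F p = F (p + 1)) ↔
      ((∀ p : ℤ, (Submodule.map (F (p + 1)).mkQ (F p)).FG) ∧
        ∃ p₁ : ℤ, ∀ p : ℤ, p₁ ≤ p → F (p + 1) = J • F p ⊔ F (p + 2)) := by
  constructor
  · rintro ⟨hfin, p₁, h1⟩
    have : IsNoetherian S M := isNoetherian_of_isNoetherianRing_of_finite S M
    refine ⟨fun p => (IsNoetherian.noetherian (F p)).map _, p₁, fun p hp => ?_⟩
    rw [h1 p hp]
    exact (sup_eq_left.2 (hF (by omega))).symm
  · rintro ⟨hfg, p₁, h2⟩
    -- successive approximation
    have key : ∀ p, p₁ ≤ p → ∀ N : Submodule S M, N.FG → N ≤ F p → F p ≤ N ⊔ F (p + 1) →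
        F p ≤ N := by
      intro p hp N hN hNF hgen
      obtain ⟨r, x, rfl⟩ := Submodule.fg_iff_exists_fin_generating_family.1 hN
      have h := Groth.Agent.H42.filt_le_of_le_sup J (fun k : ℕ => F (p + k))
        (fun k => by
          have := hJ (p + k)
          simpa [add_assoc] using this)
        (fun k => by
          have := h2 (p + k) (by omega)
          have e1 : p + ((k + 1 : ℕ) : ℤ) = p + k + 1 := by push_cast; ring
          have e2 : p + ((k + 2 : ℕ) : ℤ) = p + k + 2 := by push_cast; ring
          simp only [e1, e2]
          exact this)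
        (by
          rw [eq_bot_iff, ← hsep]
          apply le_iInf
          intro q
          refine (iInf_le _ (q - p).toNat).trans (hF ?_)
          have := Int.self_le_toNat (q - p)
          omega)
        x
        (fun i => by
          simpa using hNF (Submodule.subset_span ⟨i, rfl⟩))
        (by simpa using hgen)
      simpa using h
    -- lifting generators of the graded pieces
    have lift : ∀ p, ∃ N : Submodule S M, N.FG ∧ N ≤ F p ∧ F p ≤ N ⊔ F (p + 1) := by
      intro p
      obtain ⟨r, y, hy⟩ := Submodule.fg_iff_exists_fin_generating_family.1 (hfg p)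
      have hy' : ∀ i, ∃ x ∈ F p, (F (p + 1)).mkQ x = y i := by
        intro i
        have : y i ∈ Submodule.map (F (p + 1)).mkQ (F p) := by
          rw [← hy]; exact Submodule.subset_span ⟨i, rfl⟩
        exact this
      choose x hxF hxy using hy'
      refine ⟨Submodule.span S (Set.range x), Submodule.fg_span (Set.finite_range x),
        Submodule.span_le.2 (by rintro _ ⟨i, rfl⟩; exact hxF i), ?_⟩
      have hmap : Submodule.map (F (p + 1)).mkQ (Submodule.span S (Set.range x)) =
          Submodule.map (F (p + 1)).mkQ (F p) := by
        rw [Submodule.map_span, ← hy, ← Set.range_comp]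
        congr 2
        ext i
        exact hxy i
      calc F p ≤ Submodule.comap (F (p + 1)).mkQ (Submodule.map (F (p + 1)).mkQ (F p)) :=
            Submodule.le_comap_map _ _
        _ = Submodule.span S (Set.range x) ⊔ F (p + 1) := by
            rw [← hmap, Submodule.comap_map_eq, Submodule.ker_mkQ]
    have hFG : ∀ p, p₁ ≤ p → (F p).FG := by
      intro p hp
      obtain ⟨N, hN, hNF, hgen⟩ := lift p
      have : F p = N := le_antisymm (key p hp N hN hNF hgen) hNF
      rw [this]; exact hN
    have hJFG : J.FG := IsNoetherian.noetherian J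
    constructor
    · -- M is finite
      have hdown : ∀ n : ℕ, (F (p₁ - n)).FG := by
        intro n
        induction n with
        | zero => simpa using hFG p₁ le_rfl
        | succ n ih =>
          apply Submodule.fg_of_fg_map_of_fg_inf_ker (F (p₁ - (n + 1 : ℕ) + 1)).mkQ
            (hfg (p₁ - (n + 1 : ℕ)))
          rw [Submodule.ker_mkQ]
          have e : p₁ - ((n + 1 : ℕ) : ℤ) + 1 = p₁ - n := by push_cast; ring
          rw [inf_eq_right.2 (hF (by omega)), e]
          exact ih
      obtain ⟨p₀, hp₀⟩ := hcod
      rw [Module.finite_def, ← hp₀]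
      by_cases h : p₁ ≤ p₀
      · exact hFG p₀ h
      · have e : p₀ = p₁ - ((p₁ - p₀).toNat : ℤ) := by
          have := Int.toNat_of_nonneg (a := p₁ - p₀) (by omega)
          omega
        rw [e]; exact hdown _
    · refine ⟨p₁, fun p hp => le_antisymm (hJ p) ?_⟩
      have hN : (J • F p).FG := by
        rw [Submodule.smul_eq_map₂]
        exact Submodule.FG.map₂ _ hJFG (hFG p hp)
      apply key (p + 1) (by omega) (J • F p) hN (hJ p)
      have := h2 p hp
      have e : p + 1 + 1 = p + 2 := by ring
      rw [e, ← this]

end Groth.Agent.S8353
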