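import Groth.Statements.S8354
import Groth.Agent.H61.RDFTriangle

set_option autoImplicit false
universe w w' v v' u u'
open CategoryTheory CategoryTheory.Limits
open HomAlg3

namespace Groth.Agent.S8354

/-- Bounded-below case, exactness at the middle term. Let T : C ⥤ D be an additive functor of abelian
categories, C having enough injectives, and 0 ⟶ K₁ ⟶ K₂ ⟶ K₃ ⟶ 0 a short exact sequence of bounded
below cochain complexes of C. Let R^n T(K) denote the n-th cohomology object of R⁺T(K), where R⁺T is
the right derived functor of T on the bounded below derived category (computed with injective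
resolutions). Then R^n T(K₁) ⟶ R^n T(K₂) ⟶ R^n T(K₃) is exact for every n. (The published statement
asserts a long exact sequence with connecting morphisms; this row states exactness at the middle
term only, with the vanishing of the composite carried as a hypothesis.) -/
theorem result {C : Type u} [Category.{v} C] [Abelian C]
    [EnoughInjectives C] [HasDerivedCategory.{w} C] {D : Type u'} [Category.{v'} D] [Abelian D]
    [HasDerivedCategory.{w'} D] (T : C ⥤ D) [T.Additive] {K₁ K₂ K₃ : CochainComplex.Plus C}
    (φ : K₁ ⟶ K₂) (ψ : K₂ ⟶ K₃) (hφψ : φ.hom ≫ ψ.hom = 0)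
    (hS : (ShortComplex.mk φ.hom ψ.hom hφψ).ShortExact) (n : ℤ)
    (hz : (HomotopyCategory.Plus.quotient C ⋙ DerivedCategory.Plus.Qh ⋙ T.rightDerivedFunctorPlus ⋙
          DerivedCategory.Plus.homologyFunctor D n).map φ ≫
      (HomotopyCategory.Plus.quotient C ⋙ DerivedCategory.Plus.Qh ⋙ T.rightDerivedFunctorPlus ⋙
          DerivedCategory.Plus.homologyFunctor D n).map ψ = 0) :
    (ShortComplex.mk ((HomotopyCategory.Plus.quotient C ⋙ DerivedCategory.Plus.Qh ⋙ T.rightDerivedFunctorPlus ⋙
          DerivedCategory.Plus.homologyFunctor D n).map φ)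
      ((HomotopyCategory.Plus.quotient C ⋙ DerivedCategory.Plus.Qh ⋙ T.rightDerivedFunctorPlus ⋙
          DerivedCategory.Plus.homologyFunctor D n).map ψ) hz).Exact := by
  obtain ⟨w, hT⟩ := Groth.Agent.H61.exists_distTriang_of_shortExact φ ψ hφψ hS
  obtain ⟨T', hT', e₁, e₂, e₃, c₁, c₂⟩ :=
    Groth.Agent.H61.exists_distTriang_rightDerivedFunctorPlus T _ _ w hT
  have hT'' := DerivedCategory.Plus.ι.map_distinguished _ hT'
  let E : ∀ {A B : DerivedCategory.Plus D} (e : A ≅ B),
      (DerivedCategory.homologyFunctor D n).obj (DerivedCategory.Plus.ι.obj A) ≅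
        (DerivedCategory.homologyFunctor D n).obj (DerivedCategory.Plus.ι.obj B) :=
    fun e => (DerivedCategory.homologyFunctor D n).mapIso (DerivedCategory.Plus.ι.mapIso e)
  have hE : ∀ {A B A' B' : DerivedCategory.Plus D} (a : A ≅ A') (b : B ≅ B')
      (x : A ⟶ B) (y : A' ⟶ B') (_ : x ≫ b.hom = a.hom ≫ y),
      (DerivedCategory.homologyFunctor D n).map (DerivedCategory.Plus.ι.map x) ≫ (E b).hom =
        (E a).hom ≫ (DerivedCategory.homologyFunctor D n).map (DerivedCategory.Plus.ι.map y) := by
    intro A B A' B' a b x y hxy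
    dsimp only [E, Functor.mapIso_hom]
    rw [← Functor.map_comp, ← Functor.map_comp, ← Functor.map_comp, ← Functor.map_comp, hxy]
  have ex₂ := DerivedCategory.HomologySequence.exact₂ _ hT'' n
  refine ShortComplex.exact_of_iso (ShortComplex.isoMk (E e₁) (E e₂) (E e₃) ?_ ?_).symm ex₂
  · exact (hE e₁ e₂ _ _ c₁).symm
  · exact (hE e₂ e₃ _ _ c₂).symm

end Groth.Agent.S8354
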