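import Groth.Statements.S8357
import Groth.Agent.H42.TanAdd

set_option autoImplicit false
universe u
open CategoryTheory MonObj AlgebraicGeometry
open LieS

namespace Groth.Agent.S8357

open Groth.Agent.H42 in
/-- For a group scheme G over a scheme S and an affine S-scheme T = Spec B, the map induced on
Lie(G/S)(T) by the n-th power map of G is multiplication by n; that is, for v in Lie(G/S)(T) and an
integer n, the n-th power of v in the group law inherited from G is the rescaling of v by the image
of n in B. -/
theorem result (S : Scheme.{u}) (G : Over S) [GrpObj G] (B : Type u) [CommRing B]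
    (f : Spec (CommRingCat.of B) ⟶ S) (v : LieS.Lie G B f) (n : ℤ) :
    v ^ n = ((n : B) • v : LieS.Lie G B f) := by
  have hv : zeroSec B f ≫ v.1 = 1 := v.2
  let φ : Multiplicative B →* (dpt B f ⟶ G) :=
    { toFun := fun b => scale B f (Multiplicative.toAdd b) ≫ v.1
      map_one' := scale_zero_comp G f v.1 hv
      map_mul' := fun a b => scale_add_comp G f v.1 hv _ _ }
  apply Subtype.ext
  rw [smul_val, Subgroup.coe_zpow]
  have h1 : φ (Multiplicative.ofAdd (1 : B)) = v.1 := by
    change scale B f 1 ≫ v.1 = v.1
    rw [scale_one, Category.id_comp]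
  have h2 : Multiplicative.ofAdd ((n : B)) = (Multiplicative.ofAdd (1 : B)) ^ n := by
    rw [← ofAdd_zsmul, zsmul_one]
  have h3 : φ (Multiplicative.ofAdd ((n : B))) = scale B f (n : B) ≫ v.1 := rfl
  rw [← h3, h2, map_zpow, h1]

end Groth.Agent.S8357
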