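import Groth.Statements.S8365
import Groth.Agent.H42.TanAdd

set_option autoImplicit false
universe u
open CategoryTheory MonObj AlgebraicGeometry
open LieS

namespace Groth.Agent.S8365

open Groth.Agent.H42 in
/-- For a monoid scheme X over a scheme S (an associative unital monoid object in S-schemes) and an
affine S-scheme T = Spec B, a point of X with values in the dual numbers over T is invertible if and
only if its restriction along the zero section ε = 0 is invertible in X(T); in particular every such
point restricting to the unit section is invertible. (The published statement is for monoid-valued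
functors satisfying a tangent-space exactness condition, which every representable functor
satisfies, and its special case where the restriction is the unit section allows unital composition
laws that need not be associative; this row treats monoid schemes only.) -/
theorem result (S : Scheme.{u}) (X : Over S) [MonObj X] (B : Type u) [CommRing B]
    (f : Spec (CommRingCat.of B) ⟶ S) (v : LieS.dpt B f ⟶ X) :
    IsUnit v ↔ IsUnit (LieS.zeroSec B f ≫ v) := by
  -- restriction along the zero section and pull-back along the projection, as monoid homs
  let r : (dpt B f ⟶ X) →* (pt B f ⟶ X) :=
    { toFun := fun m => zeroSec B f ≫ m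
      map_one' := comp_one _
      map_mul' := fun a b => comp_mul _ a b }
  let p : (pt B f ⟶ X) →* (dpt B f ⟶ X) :=
    { toFun := fun m => proj B f ≫ m
      map_one' := comp_one _
      map_mul' := fun a b => comp_mul _ a b }
  have hrp : ∀ m, r (p m) = m := by
    intro m
    change zeroSec B f ≫ proj B f ≫ m = m
    rw [← Category.assoc, zeroSec_proj, Category.id_comp]
  constructor
  · intro h
    exact h.map r
  · intro h
    obtain ⟨u, hu⟩ := h
    have hu' : r v = (u : pt B f ⟶ X) := hu.symm
    -- w restricts to the unit section
    set w : dpt B f ⟶ X := v * p ((u⁻¹ : (pt B f ⟶ X)ˣ) : pt B f ⟶ X) with hw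
    have hw1 : zeroSec B f ≫ w = 1 := by
      change r w = 1
      rw [hw, map_mul, hrp, hu', Units.mul_inv]
    have hwu : IsUnit w := by
      refine ⟨⟨w, scale B f (-1) ≫ w, ?_, ?_⟩, rfl⟩
      · have h1 := scale_add_comp X f w hw1 1 (-1)
        rw [add_neg_cancel, scale_zero_comp X f w hw1, scale_one, Category.id_comp] at h1
        exact h1.symm
      · have h1 := scale_add_comp X f w hw1 (-1) 1
        rw [neg_add_cancel, scale_zero_comp X f w hw1, scale_one, Category.id_comp] at h1
        exact h1.symm
    have hv : v = w * p (u : pt B f ⟶ X) := by
      rw [hw, _root_.mul_assoc, ← map_mul, Units.inv_mul, map_one, _root_.mul_one]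
    rw [hv]
    exact hwu.mul ((u.isUnit).map p)

end Groth.Agent.S8365
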