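import Groth.Statements.S8369
import Mathlib.RingTheory.Flat.EquationalCriterion

set_option autoImplicit false
universe u v
open SGA3

namespace Groth.Agent.S8369

theorem mem_smul_of_flat_quotient (A : Type u) [CommRing A] (I : Ideal A)
    (M : Type v) [AddCommGroup M] [Module A M] (N : Submodule A M) [Module.Flat A (M ⧸ N)]
    (x : M) (hxN : x ∈ N) (hx : x ∈ I • (⊤ : Submodule A M)) : x ∈ I • N := by
  have hx' : x ∈ I • Submodule.span A (Set.range (id : M → M)) := by
    simpa using hx
  obtain ⟨a, ha, rfl⟩ := (Submodule.mem_ideal_smul_span_iff_exists_sum I (id : M → M) x).mp hx'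
  classical
  -- the relation in the quotient
  have hrel : ∑ i : a.support, a i.1 • N.mkQ i.1 = 0 := by
    have : N.mkQ (a.sum fun i c => c • i) = 0 := by
      simpa using hxN
    rw [Finsupp.sum, map_sum] at this
    rw [← this, ← Finset.sum_coe_sort a.support (fun x => N.mkQ (a x • x))]
    simp
  obtain ⟨k, b, z, hz, hb⟩ := Module.Flat.isTrivialRelation_of_sum_smul_eq_zero hrel
  choose w hw using fun j => N.mkQ_surjective (z j)
  have hn : ∀ i : a.support, i.1 - ∑ j, b i j • w j ∈ N := by
    intro i
    rw [← Submodule.Quotient.mk_eq_zero, Submodule.Quotient.mk_sub]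
    have := hz i
    simp only [Submodule.mkQ_apply] at this
    rw [this, sub_eq_zero]
    rw [← Submodule.mkQ_apply, map_sum]
    simp [hw]
  have hsum : (a.sum fun i c => c • id i) = ∑ i : a.support, a i.1 • (i.1 - ∑ j, b i j • w j) := by
    rw [Finsupp.sum, ← Finset.sum_coe_sort]
    simp only [id]
    have : ∑ i : a.support, a i.1 • (∑ j, b i j • w j) = 0 := by
      simp_rw [Finset.smul_sum, smul_smul]
      rw [Finset.sum_comm]
      apply Finset.sum_eq_zero
      intro j _
      rw [← Finset.sum_smul, hb j, zero_smul]
    simp_rw [smul_sub, Finset.sum_sub_distrib, this, sub_zero]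
  rw [hsum]
  exact Submodule.sum_mem _ fun i _ => Submodule.smul_mem_smul (ha i.1) (hn i)

/-- Let A be a commutative ring, J a nilpotent ideal, N ⊆ M A-modules with M/N flat over A. If elements
of N have images generating the image of N in M/JM, then they generate N. (The published statement
takes finitely many elements; this row allows an arbitrary set, which the same argument permits.) -/
theorem result (A : Type u) [CommRing A] (J : Ideal A) (hJ : IsNilpotent J)
    (M : Type v) [AddCommGroup M] [Module A M] (N : Submodule A M) [Module.Flat A (M ⧸ N)] (s : Set M)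
    (hs : s ⊆ N)
    (hgen : (Submodule.span A s).map (J • (⊤ : Submodule A M)).mkQ = N.map (J • (⊤ : Submodule A M)).mkQ) :
    Submodule.span A s = N := by
  have hle : Submodule.span A s ≤ N := Submodule.span_le.mpr hs
  refine le_antisymm hle ?_
  -- N ≤ span s ⊔ J • N
  have h1 : N ≤ Submodule.span A s ⊔ J • N := by
    intro n hn
    have : (J • (⊤ : Submodule A M)).mkQ n ∈ N.map (J • (⊤ : Submodule A M)).mkQ :=
      Submodule.mem_map_of_mem hn
    rw [← hgen] at this
    obtain ⟨n', hn', hnn'⟩ := this
    have hm : n - n' ∈ J • (⊤ : Submodule A M) := by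
      rw [← Submodule.Quotient.mk_eq_zero, Submodule.Quotient.mk_sub, sub_eq_zero]
      exact hnn'.symm
    have hmN : n - n' ∈ N := N.sub_mem hn (hle hn')
    have := mem_smul_of_flat_quotient A J M N (n - n') hmN hm
    have e : n = n' + (n - n') := by abel
    rw [e]
    exact Submodule.add_mem_sup hn' this
  have h2 : ∀ k : ℕ, N ≤ Submodule.span A s ⊔ J ^ k • N := by
    intro k
    induction k with
    | zero => simp
    | succ k ih =>
      refine ih.trans (sup_le le_sup_left ?_)
      calc J ^ k • N ≤ J ^ k • (Submodule.span A s ⊔ J • N) := Submodule.smul_mono le_rfl h1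
        _ = J ^ k • Submodule.span A s ⊔ J ^ k • (J • N) := Submodule.smul_sup _ _ _
        _ ≤ Submodule.span A s ⊔ J ^ (k + 1) • N := by
          refine sup_le_sup Submodule.smul_le_right ?_
          rw [← Submodule.mul_smul, pow_succ]
  obtain ⟨k, hk⟩ := hJ
  have := h2 k
  rw [hk] at this
  simpa using this

end Groth.Agent.S8369
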