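import Groth.Statements.S8376
import Groth.Agent.H74.LieFibD

set_option autoImplicit false
universe u
open scoped TensorProduct
open SGA3t2b

namespace Groth.Agent.S8376

/-- Over an affine base Spec A: let L be a Lie algebra over A which is a finitely generated projective
A-module satisfying condition (C₂): the nilpotent rank of the fibres κ(p) ⊗ L is locally constant on
Spec A and, for every A-algebra A', every quasi-regular element of A' ⊗ L is regular (lies in a
relative Cartan subalgebra). Then for every prime p such that κ(p) ⊗ L has a regular element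
(automatic when κ(p) is infinite) there is f ∉ p such that the Lie algebra A_f ⊗ L over the
localisation A_f has a Cartan subalgebra relative to A_f. -/
theorem result {A : Type u} [CommRing A] {L : Type u} [LieRing L]
    [LieAlgebra A L] [Module.Finite A L] [Module.Projective A L]
    (hC2 : ((∀ p : PrimeSpectrum A, ∃ f : A, f ∉ p.asIdeal ∧ ∀ q : PrimeSpectrum A, f ∉ q.asIdeal →
        LieAlgebra.rank q.asIdeal.ResidueField (q.asIdeal.ResidueField ⊗[A] L) =
          LieAlgebra.rank p.asIdeal.ResidueField (p.asIdeal.ResidueField ⊗[A] L)) ∧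
      ∀ (A' : Type u) [CommRing A'] [Algebra A A'] (a' : A' ⊗[A] L),
        SGA3t2b.IsQuasiRegular A' (A' ⊗[A] L) a' → SGA3t2b.IsRegularRel A' (A' ⊗[A] L) a'))
    (p : PrimeSpectrum A)
    (hp : ∃ x : p.asIdeal.ResidueField ⊗[A] L, LieAlgebra.IsRegular p.asIdeal.ResidueField x) :
    ∃ f : A, f ∉ p.asIdeal ∧
      ∃ H : LieSubalgebra (Localization.Away f) (Localization.Away f ⊗[A] L), SGA3t2b.IsCartanRel H := by
  obtain ⟨hC0, hC2'⟩ := hC2
  obtain ⟨f, hf, a, ha⟩ := Groth.Agent.H74.LieFibD.exists_regular_nhds hC0 p hp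
  refine ⟨f, hf, ?_⟩
  have hq : SGA3t2b.IsQuasiRegular (Localization.Away f) (Localization.Away f ⊗[A] L)
      ((1 : Localization.Away f) ⊗ₜ[A] a) := by
    intro Q
    rw [Groth.Agent.H74.LieFibD.isRegular_fibre_baseChange]
    apply ha ⟨Q.asIdeal.comap (algebraMap A (Localization.Away f)), inferInstance⟩
    intro hfQ
    exact Q.isPrime.ne_top (Ideal.eq_top_of_isUnit_mem _ hfQ
      (IsLocalization.Away.algebraMap_isUnit f))
  obtain ⟨_, H, hH, _⟩ := hC2' (Localization.Away f) ((1 : Localization.Away f) ⊗ₜ[A] a) hq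
  exact ⟨H, hH⟩

end Groth.Agent.S8376
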