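import Groth.Statements.S8383
import Groth.Agent.H42.DetDescent
import Mathlib.RingTheory.TensorProduct.Free
import Mathlib.LinearAlgebra.Dual.Basis
import Mathlib.LinearAlgebra.Matrix.Basis
import Mathlib.LinearAlgebra.Determinant

set_option autoImplicit false
universe u
open scoped TensorProduct
open SGA3t2b

namespace Groth.Agent.S8383

theorem general (k K : Type u) [Field k] [Field K] [Algebra k K]
    (V : Type u) [AddCommGroup V] [Module k V] [Module.Finite k V] {ι : Type} [Fintype ι]
    (θ : Module.Basis ι K (Module.Dual K (K ⊗[k] V))) :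
    ∃ x : V, ∀ i : ι, θ i ((1 : K) ⊗ₜ[k] x) ≠ 0 := by
  classical
  let n := Module.finrank k V
  let e : Module.Basis (Fin n) k V := Module.finBasis k V
  let B : Module.Basis (Fin n) K (K ⊗[k] V) := Algebra.TensorProduct.basis K e
  let σ : ι ≃ Fin n := θ.indexEquiv B.dualBasis
  let θ' : Module.Basis (Fin n) K (Module.Dual K (K ⊗[k] V)) := θ.reindex σ
  -- the matrix of values
  let N : Matrix (Fin n) (Fin n) K := Matrix.of fun i j => θ' i (B j)
  have hN : N.det ≠ 0 := by
    have h1 : IsUnit (B.dualBasis.det θ') := Module.Basis.isUnit_det B.dualBasis θ'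
    have h2 : B.dualBasis.det θ' = (B.dualBasis.toMatrix θ').det := Module.Basis.det_apply _ _
    have h3 : B.dualBasis.toMatrix θ' = N.transpose := by
      ext j i
      simp [Module.Basis.toMatrix_apply, N]
    rw [h2, h3, Matrix.det_transpose] at h1
    exact h1.ne_zero
  obtain ⟨φ, hφ⟩ := Groth.Agent.H42.exists_functionals_det_ne_zero k K N hN
  set Nk : Matrix (Fin n) (Fin n) k := Matrix.of fun i j => φ i (N i j) with hNk
  have hunit : IsUnit Nk.det := isUnit_iff_ne_zero.mpr hφ
  let c : Fin n → k := Nk⁻¹.mulVec (fun _ => 1)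
  have hc : Nk.mulVec c = fun _ => 1 := by
    simp only [c, Matrix.mulVec_mulVec, Matrix.mul_nonsing_inv Nk hunit, Matrix.one_mulVec]
  refine ⟨∑ j, c j • e j, fun i hi => ?_⟩
  -- the k-linear map x ↦ θ i (1 ⊗ x)
  let L : V →ₗ[k] K := ((θ i).restrictScalars k).comp (TensorProduct.mk k K V 1)
  have hL : L (∑ j, c j • e j) = 0 := hi
  have hLe : ∀ j, L (e j) = N (σ i) j := by
    intro j
    simp [L, N, θ', B, Algebra.TensorProduct.basis_apply]
  rw [map_sum] at hL
  simp_rw [map_smul, hLe] at hL
  have h4 : φ (σ i) (∑ j, c j • N (σ i) j) = 1 := by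
    rw [map_sum]
    simp_rw [map_smul]
    have := congrFun hc (σ i)
    simp only [Matrix.mulVec, dotProduct, hNk, Matrix.of_apply] at this
    rw [← this]
    refine Finset.sum_congr rfl fun j _ => ?_
    rw [smul_eq_mul, mul_comm]
  rw [hL, map_zero] at h4
  exact zero_ne_one h4

/-- Let k be a finite field with algebraic closure K, V a finite-dimensional vector space over k, and
θ₁, …, θₙ a basis of the dual of the K-vector space K ⊗ V. Then there is x ∈ V with θᵢ(1 ⊗ x) ≠ 0
for every i. -/
theorem result (k : Type u) [Field k] [Finite k]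
    (V : Type u) [AddCommGroup V] [Module k V] [Module.Finite k V] {ι : Type} [Fintype ι]
    (θ : Module.Basis ι (AlgebraicClosure k) (Module.Dual (AlgebraicClosure k) (AlgebraicClosure k ⊗[k] V))) :
    ∃ x : V, ∀ i : ι, θ i ((1 : AlgebraicClosure k) ⊗ₜ[k] x) ≠ 0 := by
  exact general k (AlgebraicClosure k) V θ

end Groth.Agent.S8383
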