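import Groth.Statements.S8441
import Groth.Agent.H42.Unitri

set_option autoImplicit false
universe u v w
open SGA3t2b

namespace Groth.Agent.S8441

/-- Let R be a root system with a system of simple roots a₁, …, aₙ and simple reflections rᵢ, and put θᵢ
= rₙ ⋯ rᵢ₊₁(aᵢ). Then the θᵢ form a basis of the group generated by the roots. Stated for a root
pairing over ℤ (Mathlib) with a base whose support is enumerated by Fin n: the θᵢ are ℤ-linearly
independent and their ℤ-span is the ℤ-span of all roots. -/
theorem result {ι : Type u} {M : Type v} {N : Type w} [AddCommGroup M] [Module ℤ M]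
    [AddCommGroup N] [Module ℤ N] (P : RootPairing ι ℤ M N) (b : P.Base) (n : ℕ) (e : Fin n ≃ ↥b.support) :
    LinearIndependent ℤ (fun i : Fin n =>
      ((List.finRange n).filter (fun j => i < j)).foldl (fun x j => P.reflection (e j : ι) x) (P.root (e i : ι))) ∧
    Submodule.span ℤ (Set.range (fun i : Fin n =>
      ((List.finRange n).filter (fun j => i < j)).foldl (fun x j => P.reflection (e j : ι) x) (P.root (e i : ι)))) =
      Submodule.span ℤ (Set.range P.root) := by
  classical
  have hex := fun i : Fin n => Groth.Agent.H42.foldl_reflection_unitri' P (fun j => (e j : ι)) i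
    ((List.finRange n).filter (fun j => i < j))
    (fun j hj => by simpa using (List.mem_filter.1 hj).2)
  choose c hc0 hcθ using hex
  have hLI : LinearIndependent ℤ (fun i : Fin n => P.root (e i : ι)) := by
    have h := b.linearIndepOn_root
    exact h.comp (fun i => ⟨(e i : ι), (e i).2⟩) (fun i j hij => e.injective (Subtype.ext (by
      simpa using congrArg Subtype.val hij)))
  have hspan : Submodule.span ℤ (Set.range (fun i : Fin n => P.root (e i : ι))) =
      Submodule.span ℤ (Set.range P.root) := by
    rw [← Groth.Agent.H42.span_root_support_eq P b]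
    congr 1
    ext x
    constructor
    · rintro ⟨i, rfl⟩
      exact ⟨(e i : ι), (e i).2, rfl⟩
    · rintro ⟨j, hj, rfl⟩
      exact ⟨e.symm ⟨j, hj⟩, by simp⟩
  obtain ⟨h1, h2⟩ := Groth.Agent.H42.unitri_li_span (fun i : Fin n => P.root (e i : ι)) _ c hc0 hcθ hLI
  exact ⟨h1, h2.trans hspan⟩

end Groth.Agent.S8441
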