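import Groth.Statements.S8513
import Groth.Agent.H42.Transversal

set_option autoImplicit false
open CategoryTheory MonoidalCategory CartesianMonoidalCategory MonObj GrpObj AlgebraicGeometry
universe u
open Par

namespace Groth.Agent.S8513

/-- Let G be a reductive S-group and P, Q two parabolic subgroups of G in transversal position (the
multiplication morphism P ×_S Q ⟶ G is smooth). Then P ∩ Q (a fibre product of P and Q over G) is
smooth over S. -/
theorem result {S : Scheme.{u}} {G P Q I : Over S} [GrpObj G] [GrpObj P] [GrpObj Q]
    (hG : Red.IsReductive G) (p : P ⟶ G) (q : Q ⟶ G) (hP : Red.IsParabolic p) (hQ : Red.IsParabolic q)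
    (htr : Smooth ((p ⊗ₘ q) ≫ μ[G]).left) (m : I ⟶ P) (m' : I ⟶ Q) (hI : IsPullback m m' p q) :
    Smooth I.hom := by
  have : IsMonHom p := hP.1
  have : IsMonHom q := hQ.1
  have h1 := Groth.Agent.H42.Transversal.isPullback_inter p q m m' hI
  have h2 := h1.map (Over.forget S)
  have h3 : Smooth (toUnit I).left :=
    MorphismProperty.of_isPullback (P := @Smooth) h2 htr
  have h4 : (toUnit I).left = I.hom := (Category.comp_id _).symm.trans (Over.w (toUnit I))
  rw [← h4]
  exact h3

end Groth.Agent.S8513
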