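import Groth.Statements.S8524
import Groth.Agent.H4.Stalks

set_option autoImplicit false
universe u
open CategoryTheory CategoryTheory.Limits AlgebraicGeometry Opposite
open EtAcyc

namespace Groth.Agent.S8524

/-- For the small etale site of a scheme and abelian sheaves: let L be a set of primes, F an abelian
L-torsion sheaf on the small etale site of a scheme X, and U an etale X-scheme with quasi-compact
underlying space. Then every section of F over U is killed by some positive integer all of whose
prime factors lie in L. -/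
theorem result {X : Scheme.{u}} (L : Set ℕ) (F : EtCoh.Ab X)
    (hF : EtAcyc.IsLTorsion L F) (U : X.Etale) [CompactSpace U.left] (s : EtCoh.sect F U) :
    ∃ m : ℕ, EtAcyc.PrimesIn L m ∧ m • s = 0 := by
  classical
  open Groth.Agent.H4.Stalks in
  choose V g m hv hm hs using fun x => hF U s x
  have hopen : ∀ x, IsOpen (Set.range (g x).left.base) :=
    fun x => (Groth.Agent.H4.Stalks.isOpenMap_left (g x)).isOpen_range
  have hcov : (Set.univ : Set U.left) ⊆ ⋃ x, Set.range (g x).left.base :=
    fun x _ => Set.mem_iUnion.2 ⟨x, hv x⟩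
  obtain ⟨t, ht⟩ := isCompact_univ.elim_finite_subcover _ hopen hcov
  refine ⟨∏ x ∈ t, m x, ⟨Finset.prod_pos (fun x _ => (hm x).1), ?_⟩, ?_⟩
  · intro p hp hdiv
    obtain ⟨x, hx, hpx⟩ := (Prime.dvd_finsetProd_iff hp.prime _).1 hdiv
    exact (hm x).2 p hp hpx
  · apply Groth.Agent.H4.Stalks.eq_zero_of_locally_zero
    intro p
    obtain ⟨x, hx, w, hw⟩ : ∃ x ∈ t, ∃ w, (g x).left.base w = p := by
      have := ht (Set.mem_univ p)
      simpa using this
    refine ⟨V x, g x, w, hw, ?_⟩
    rw [map_nsmul]
    obtain ⟨k, hk⟩ := Finset.dvd_prod_of_mem m hx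
    rw [hk, mul_nsmul, hs x, nsmul_zero]

end Groth.Agent.S8524
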