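import Groth.Statements.S8525
import Groth.Agent.H4.Stalks

set_option autoImplicit false
universe u
open CategoryTheory CategoryTheory.Limits AlgebraicGeometry Opposite
open EtAcyc

namespace Groth.Agent.S8525

/-- Let L be a set of primes and F an abelian sheaf on the small etale site of a scheme X. Then F is an
L-torsion sheaf if and only if for every geometric point ξ of X every element of the stalk F_ξ is
killed by a positive integer all of whose prime factors lie in L. -/
theorem result {X : Scheme.{u}} (L : Set ℕ) (F : EtCoh.Ab X) :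
    EtAcyc.IsLTorsion L F ↔
      ∀ (Ω : Type u) [Field Ω] [IsSepClosed Ω] (ξ : Spec (CommRingCat.of Ω) ⟶ X)
        (t : (EtCoh.stalk ξ).obj F), ∃ m : ℕ, EtAcyc.PrimesIn L m ∧ m • t = 0 := by
  open Groth.Agent.H4.Stalks in
  constructor
  · intro h Ω _ _ ξ t
    obtain ⟨U, x, s, rfl⟩ := germ_surjective F t
    obtain ⟨V, g, m, ⟨v, hv⟩, hm, hs⟩ := h U s x.pt
    obtain ⟨y, hy, -⟩ := Fib.exists_lift g x v hv
    refine ⟨m, hm, ?_⟩
    rw [← hy, ← germ_res, ← map_nsmul, hs, map_zero]
  · intro h U s x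
    obtain ⟨xx, hxx⟩ := Fib.exists_of_point (ξ := Groth.Agent.H4.Stalks.geomPt (U.hom x)) U x
      (Groth.Agent.H4.Stalks.geomPt_default _).symm
    obtain ⟨m, hm, ht⟩ := h _ (Groth.Agent.H4.Stalks.geomPt (U.hom x)) (germ F xx s)
    rw [← map_nsmul, ← map_zero (germ F xx).hom, germ_eq_iff] at ht
    obtain ⟨V, g, y, hy, hs⟩ := ht
    refine ⟨V, g, m, ⟨y.pt, ?_⟩, hm, ?_⟩
    · rw [← Fib.pt_map, hy, hxx]
    · rw [map_nsmul, map_zero] at hs
      exact hs

end Groth.Agent.S8525
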