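import Groth.Statements.S8532
import Groth.Agent.H21.FEtTrace2
import Groth.Agent.H21.TorsMul
import Groth.Agent.H4.ExtAdj
import Groth.Prelude.Def_EtCore
import Groth.Prelude.Def_EtBC2

set_option autoImplicit false
universe u
open CategoryTheory CategoryTheory.Limits AlgebraicGeometry Opposite
open EtAcyc

namespace Groth.Agent.S8532

/-- Let f : X' → X be finite etale of constant degree d (every geometric fibre has exactly d points), L
a set of primes such that no prime in L divides d, F an abelian L-torsion sheaf on the small etale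
site of X, and q a natural number. If H^q(X', f⁻¹F) = 0, then H^q(X, F) = 0. -/
theorem result {X X' : Scheme.{u}} (f : X' ⟶ X) [IsFinite f] [Etale f]
    (d : ℕ) (hd : ∀ (Ω : Type u) [Field Ω] [IsSepClosed Ω] (ξ : Spec (CommRingCat.of Ω) ⟶ X),
      Nat.card ↥(pullback f ξ) = d)
    (L : Set ℕ) (hL : ∀ p : ℕ, p.Prime → p ∈ L → ¬ p ∣ d) (F : EtCoh.Ab X) (hF : EtAcyc.IsLTorsion L F)
    [PreservesFiniteLimits (EtCoh.pull f)] (q : ℕ)
    (h : Subsingleton (EtCoh.H X' ((EtCoh.pull f).obj F) q)) :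
    Subsingleton (EtCoh.H X F q) := by
  open CategoryTheory.Abelian in
  have hd' : Groth.Agent.H21.FEtTrace.trUnit f F = d • 𝟙 F :=
    Groth.Agent.H21.FEtTrace2.trUnit_eq_of_geom f F d hd
  have hiso : IsIso (d • 𝟙 F) := Groth.Agent.H21.TorsMul.isIso_nsmul F L d hL hF
  have hcomp : (EtCoh.pullPushAdj f).unit.app F ≫
      (Groth.Agent.H21.FEtTrace2.pushPullAdj f).counit.app F = d • 𝟙 F :=
    (Groth.Agent.H21.FEtTrace2.unit_counit f F).trans hd'
  -- vanishing of `Ext(ℤ, f_* f⁻¹ F)`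
  have hsub : ∀ y : Abelian.Ext ((constantSheaf X.smallEtaleTopology AddCommGrpCat.{u+1}).obj
      (AddCommGrpCat.of (ULift ℤ))) ((EtCoh.push f).obj ((EtCoh.pull f).obj F)) q, y = 0 := by
    intro y
    obtain ⟨e, rfl⟩ := (Groth.Agent.H4.ExtAdj.phi_bijective (EtCoh.pullPushAdj f)
      ((constantSheaf X.smallEtaleTopology AddCommGrpCat.{u+1}).obj
        (AddCommGrpCat.of (ULift ℤ))) ((EtCoh.pull f).obj F) q).2 y
    let i := (EtCore.pullConstIso f).app (AddCommGrpCat.of (ULift ℤ))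
    have he : e = (Abelian.Ext.mk₀ i.hom).comp ((Abelian.Ext.mk₀ i.inv).comp e (zero_add q))
        (zero_add q) := by
      rw [← Abelian.Ext.comp_assoc_of_second_deg_zero, Abelian.Ext.mk₀_comp_mk₀, Iso.hom_inv_id,
        Abelian.Ext.mk₀_id_comp]
    have h0 : (Abelian.Ext.mk₀ i.inv).comp e (zero_add q) = 0 := Subsingleton.elim _ _
    rw [he, h0, Abelian.Ext.comp_zero, map_zero]
  constructor
  suffices h0 : ∀ x : EtCoh.H X F q, x = 0 by
    intro x y
    rw [h0 x, h0 y]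
  intro x
  have h1 : x.comp (Abelian.Ext.mk₀ (d • 𝟙 F)) (add_zero q) = 0 := by
    rw [← hcomp, ← Abelian.Ext.mk₀_comp_mk₀, ← Abelian.Ext.comp_assoc_of_third_deg_zero,
      hsub (x.comp (Abelian.Ext.mk₀ ((EtCoh.pullPushAdj f).unit.app F)) (add_zero q)),
      Abelian.Ext.zero_comp]
  have h2 : x = (x.comp (Abelian.Ext.mk₀ (d • 𝟙 F)) (add_zero q)).comp
      (Abelian.Ext.mk₀ (inv (d • 𝟙 F))) (add_zero q) := by
    rw [Abelian.Ext.comp_assoc_of_third_deg_zero, Abelian.Ext.mk₀_comp_mk₀, IsIso.hom_inv_id,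
      Abelian.Ext.comp_mk₀_id]
  rw [h2, h1, Abelian.Ext.zero_comp]

end Groth.Agent.S8532
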