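import Groth.Statements.S8542
import Groth.Agent.H69.ShClassifier

set_option autoImplicit false
universe u
open CategoryTheory CategoryTheory.Limits AlgebraicGeometry Opposite
open EtBC

namespace Groth.Agent.S8542

/-- Let h : Y → X be a morphism of quasi-compact quasi-separated schemes such that for every sheaf of
sets F on the small etale site of X the pullback map Γ(X, F) → Γ(Y, h^*F) is injective. Let u : F →
G be a monomorphism of sheaves of sets on X and ξ ∈ Γ(Y, h^*F) a section whose image in Γ(Y, h^*G)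
lies in the image of Γ(X, G). Then ξ lies in the image of Γ(X, F). -/
theorem result {X Y : Scheme.{u}} [CompactSpace X] [QuasiSeparatedSpace X]
    [CompactSpace Y] [QuasiSeparatedSpace Y] (h : Y ⟶ X)
    (hinj : ∀ F : EtDesc.Sh X, Function.Injective (EtDesc.secPull h F))
    {F G : EtDesc.Sh X} (u : F ⟶ G) [Mono u] (ξ : EtDesc.sect ((EtDesc.pullSh h).obj F) (EtCoh.top Y))
    (hξ : ((EtDesc.pullSh h).map u).hom.app (op (EtCoh.top Y)) ξ ∈ Set.range (EtDesc.secPull h G)) :
    ξ ∈ Set.range (EtDesc.secPull h F) := by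
  classical
  obtain ⟨t, ht⟩ := hξ
  let Ω : EtDesc.Sh X := Groth.Agent.H69.ShClassifier.Om X.smallEtaleTopology
  let a : G ⟶ Ω := Groth.Agent.H69.ShClassifier.tt G
  let b : G ⟶ Ω := Groth.Agent.H69.ShClassifier.chi u
  have hab : u ≫ b = u ≫ a := Groth.Agent.H69.ShClassifier.comp_chi u
  have key : EtDesc.secPull h Ω (b.hom.app (op (EtCoh.top X)) t) =
      EtDesc.secPull h Ω (a.hom.app (op (EtCoh.top X)) t) := by
    rw [← Groth.Agent.H69.ShClassifier.secPull_naturality,
      ← Groth.Agent.H69.ShClassifier.secPull_naturality, ht]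
    have e1 := congr($((EtDesc.pullSh h).map_comp u b).hom.app (op (EtCoh.top Y)))
    have e2 := congr($((EtDesc.pullSh h).map_comp u a).hom.app (op (EtCoh.top Y)))
    have e1' := ConcreteCategory.congr_hom e1 ξ
    have e2' := ConcreteCategory.congr_hom e2 ξ
    rw [hab] at e1'
    exact e1'.symm.trans e2'
  have hba := hinj Ω key
  obtain ⟨s, hs⟩ := Groth.Agent.H69.ShClassifier.mem_range_of_chi_eq_tt u t hba
  refine ⟨s, ?_⟩
  have hm := Groth.Agent.H69.ShClassifier.pullSh_map_mono h u
  apply Groth.Agent.H69.ShClassifier.injective_app ((EtDesc.pullSh h).map u) (op (EtCoh.top Y))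
  rw [Groth.Agent.H69.ShClassifier.secPull_naturality, hs, ht]

end Groth.Agent.S8542
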