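import Groth.Statements.S8543
import Groth.Agent.H3.StrictHensFTDvr
import Groth.Agent.H3.StrictHensFTScheme

set_option autoImplicit false
universe u
open CategoryTheory CategoryTheory.Limits AlgebraicGeometry Opposite
open EtCd

namespace Groth.Agent.S8543

/-- Let R be a discrete valuation ring, X a scheme of finite type over Spec R, x a point of X over the
closed point of Spec R, and A a strict henselization of the local ring of X at x. Then there are a
strictly henselian discrete valuation ring R' (henselian, with separably closed residue field), a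
scheme X' of finite type over Spec R', a closed point x' of X' over the closed point of Spec R', and
a local algebra structure over the local ring of X' at x' for which A is a strict henselization of
that local ring. -/
theorem result (R : Type u) [CommRing R] [IsDomain R]
    [IsDiscreteValuationRing R] {X : Scheme.{u}} (f : X ⟶ Spec (CommRingCat.of R)) [LocallyOfFiniteType f]
    [QuasiCompact f] (x : X)
    (hx : f.base x = ((IsLocalRing.closedPoint R : PrimeSpectrum R) : ↥(Spec (CommRingCat.of R))))
    (A : Type u) [CommRing A] [IsLocalRing A] [Algebra (X.presheaf.stalk x) A]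
    [IsLocalHom (algebraMap (X.presheaf.stalk x) A)] [Hensel.IsStrictHenselization (X.presheaf.stalk x) A] :
    ∃ (R' : Type u) (_ : CommRing R') (_ : IsDomain R') (_ : IsDiscreteValuationRing R') (_ : HenselianLocalRing R')
      (_ : IsSepClosed (IsLocalRing.ResidueField R'))
      (X' : Scheme.{u}) (f' : X' ⟶ Spec (CommRingCat.of R')) (_ : LocallyOfFiniteType f') (_ : QuasiCompact f')
      (x' : X') (_ : IsClosed ({x'} : Set X'))
      (_ : f'.base x' = ((IsLocalRing.closedPoint R' : PrimeSpectrum R') : ↥(Spec (CommRingCat.of R'))))
      (_ : Algebra (X'.presheaf.stalk x') A) (_ : IsLocalHom (algebraMap (X'.presheaf.stalk x') A)),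
      Hensel.IsStrictHenselization (X'.presheaf.stalk x') A := by
  obtain ⟨B, cB, aB, fB, q, hq, hcomap, aq, lq, hqA⟩ :=
    Groth.Agent.H3.StrictHensFTScheme.exists_ring_model R f x A inferInstance
  haveI hlie : q.LiesOver (IsLocalRing.maximalIdeal R) := ⟨by
    rw [Ideal.under_def, hcomap, hx]
    rfl⟩
  obtain ⟨R', cR', dR', vR', hR', sR', D, cD, aD, fD, Q, hQ, hQc, aQ, lQ, hQA⟩ :=
    Groth.Agent.H3.StrictHensFTDvr.exists_model_dvr R B q A
  obtain ⟨X', f', h1, h2, x', h3, h5, a', l', h4⟩ :=
    Groth.Agent.H3.StrictHensFTScheme.exists_scheme_model R' D Q A hQA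
  refine ⟨R', cR', dR', vR', hR', sR', X', f', h1, h2, x', h3, ?_, a', l', h4⟩
  rw [h5]
  exact PrimeSpectrum.ext hQc

end Groth.Agent.S8543
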