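import Groth.Statements.S8568
import Groth.Agent.H60.CosimpDelta
import Groth.Agent.S16463
import Groth.Agent.S16465
import Groth.Agent.S6774
-- import your own Groth.Agent.* helpers here

set_option autoImplicit false
open CategoryTheory CategoryTheory.Limits
universe u
open CohSite

namespace Groth.Agent.S8568

open Groth.Agent.H60.CosimpDelta

/-- Let F be a cosimplicial abelian sheaf on a small site. The right derived functors of the limit over
the simplex category (this limit functor is the direct image of the augmentation of the constant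
simplicial topos) are computed by the cochain complex n ↦ F([n]) whose differential is the
alternating sum of the cofaces: for every n, R^n lim F is isomorphic to the n-th cohomology sheaf of
that complex. (Existence of an isomorphism only. The two instance hypotheses, enough injectives for
cosimplicial sheaves and additivity of the limit functor, always hold. The published statement is
for bounded below complexes of modules over a ringed topos and a small indexing category equipped
with a resolution of the constant integers in its additive envelope; this row is the simplicial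
case, for one abelian sheaf placed in degree zero.) -/
theorem result {C : Type u} [SmallCategory C] (J : GrothendieckTopology C)
    [EnoughInjectives (SimplexCategory ⥤ Sheaf J AddCommGrpCat.{u})]
    [(lim : (SimplexCategory ⥤ Sheaf J AddCommGrpCat.{u}) ⥤ Sheaf J AddCommGrpCat.{u}).Additive]
    (F : SimplexCategory ⥤ Sheaf J AddCommGrpCat.{u}) (n : ℕ) :
    Nonempty (((lim : (SimplexCategory ⥤ Sheaf J AddCommGrpCat.{u}) ⥤ Sheaf J AddCommGrpCat.{u}).rightDerived n).obj F ≅
      ((AlgebraicTopology.alternatingCofaceMapComplex (Sheaf J AddCommGrpCat.{u})).obj F).homology n) := by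
  have hP : HasProducts.{0} (Sheaf J AddCommGrpCat.{u}) := inferInstance
  obtain ⟨Δ⟩ := Groth.Agent.S16463.result
    (lim : (SimplexCategory ⥤ Sheaf J AddCommGrpCat.{u}) ⥤ Sheaf J AddCommGrpCat.{u})
  have hU' : Δ.toCohDeltaFunctor.IsUniversal := Groth.Agent.S16465.result _ Δ
  have hU : (cosimpDelta (𝒜 := Sheaf J AddCommGrpCat.{u})).IsUniversal :=
    Groth.Agent.S6773.result _ isEffaceable
  have hPFL : PreservesFiniteLimits
      (lim : (SimplexCategory ⥤ Sheaf J AddCommGrpCat.{u}) ⥤ Sheaf J AddCommGrpCat.{u}) :=
    inferInstance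
  let e : (cosimpDelta (𝒜 := Sheaf J AddCommGrpCat.{u})).F 0 ≅ Δ.toCohDeltaFunctor.F 0 :=
    isoLim ≪≫ (Functor.rightDerivedZeroIsoSelf
      (lim : (SimplexCategory ⥤ Sheaf J AddCommGrpCat.{u}) ⥤ Sheaf J AddCommGrpCat.{u})).symm
  obtain ⟨φ, -, -⟩ := Groth.Agent.S6774.result
    (cosimpDelta (𝒜 := Sheaf J AddCommGrpCat.{u})) Δ.toCohDeltaFunctor hU hU' e
  have h1 : φ.hom.app n ≫ φ.inv.app n = 𝟙 _ :=
    congrArg (fun ψ => DeltaF.CohDeltaFunctor.Hom.app ψ n) φ.hom_inv_id
  have h2 : φ.inv.app n ≫ φ.hom.app n = 𝟙 _ :=
    congrArg (fun ψ => DeltaF.CohDeltaFunctor.Hom.app ψ n) φ.inv_hom_id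
  let i : (cosimpDelta (𝒜 := Sheaf J AddCommGrpCat.{u})).F n ≅ Δ.toCohDeltaFunctor.F n :=
    ⟨φ.hom.app n, φ.inv.app n, h1, h2⟩
  exact ⟨(i.app F).symm⟩

end Groth.Agent.S8568
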