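import Groth.Statements.S8579
import Groth.Agent.H43.DescentTower
import Groth.Agent.H43.DegSSBuild
import Groth.Agent.H43.SplitTower

set_option autoImplicit false
open CategoryTheory CategoryTheory.Limits TopologicalSpace
universe u
open CohTop

namespace Groth.Agent.S8579

/-- In the setting of topological spaces and abelian sheaves (where every continuous map is flat for the
inverse image of sheaves), let f : X → S be a continuous map with a continuous section s, f ∘ s =
id, and F an abelian sheaf on S. Then f is of universal cohomological descent, and the descent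
spectral sequence reads, in existence form: there is a bounded spectral sequence of abelian groups
starting at page one with E_1^{p,q} isomorphic, for p, q ≥ 0, to H^q(X_p, F|X_p), where X_p is the
(p+1)-fold fibre product of X over S and F|X_p the inverse image of F along its projection to S, and
zero otherwise, together with abutment data whose filtrations are finite on H^n(S, F) for n ≥ 0
(zero for n < 0). (The E_1 identifications and the abutment isomorphisms are asserted to exist only;
the differentials are not part of this statement.) -/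
theorem result {X S : TopCat.{u}} (f : X ⟶ S) (s : S ⟶ X)
    (hs : s ≫ f = 𝟙 S) (F : CohTop.Ab S) :
    ∃ (E : CohomologicalSpectralSequence AddCommGrpCat.{u} 1)
      (a : SpSeq.Abutment E (fun n : ℤ =>
        if 0 ≤ n then AddCommGrpCat.of (CohTop.H F n.toNat) else AddCommGrpCat.of PUnit.{u + 1})),
      (∀ n, a.IsFinite n) ∧ SpSeq.IsBounded E ∧
      ∀ p q : ℤ, Nonempty ((E.page 1 le_rfl).X (p, q) ≅
        (if 0 ≤ p ∧ 0 ≤ q then
          AddCommGrpCat.of (CohTop.H ((CohTop.pull
            (WidePullback.base (fun _ : Fin (p.toNat + 1) => f) :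
              widePullback S (fun _ : Fin (p.toNat + 1) => X) (fun _ => f) ⟶ S)).obj F) q.toNat)
         else AddCommGrpCat.of PUnit.{u + 1})) := by
  classical
  -- the tower of split monomorphisms
  have H0 := Groth.Agent.H43.DescentTower.exists_retract_zero f s hs F
  have H1 := Groth.Agent.H43.DescentTower.exists_retract_succ f s hs F
  choose i₀ r₀ h₀ using H0
  choose ι ρ hι using H1
  -- the exact augmented complexes
  let B : ℕ → AddCommGrpCat.{u} := fun q => AddCommGrpCat.of (CohTop.H F q)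
  let A : ℕ → ℕ → AddCommGrpCat.{u} := fun p q =>
    AddCommGrpCat.of (CohTop.H (Groth.Agent.H43.DescentTower.Gp f F p) q)
  let d : ∀ p q, A p q ⟶ A (p + 1) q := fun p q =>
    Groth.Agent.H43.SplitTower.d (A := fun p => A p q) (i₀ q) (r₀ q) (fun p => ι p q)
      (fun p => ρ p q) p
  have hdd : ∀ p q, d p q ≫ d (p + 1) q = 0 := fun p q =>
    Groth.Agent.H43.SplitTower.d_comp_d (A := fun p => A p q) (i₀ q) (r₀ q) (fun p => ι p q)
      (fun p => ρ p q) (h₀ q) (fun p => hι p q) p
  have hjd : ∀ q, i₀ q ≫ d 0 q = 0 := fun q =>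
    Groth.Agent.H43.SplitTower.i₀_comp_d (A := fun p => A p q) (i₀ q) (r₀ q) (fun p => ι p q)
      (fun p => ρ p q) (h₀ q)
  have hex : ∀ p q, (ShortComplex.mk (d p q) (d (p + 1) q) (hdd p q)).Exact := fun p q =>
    Groth.Agent.H43.SplitTower.exact_succ (A := fun p => A p q) (i₀ q) (r₀ q) (fun p => ι p q)
      (fun p => ρ p q) (h₀ q) (fun p => hι p q) p
  have hex₀ : ∀ q, (ShortComplex.mk (i₀ q) (d 0 q) (hjd q)).Exact := fun q =>
    Groth.Agent.H43.SplitTower.exact_zero (A := fun p => A p q) (i₀ q) (r₀ q) (fun p => ι p q)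
      (fun p => ρ p q) (h₀ q) (fun p => hι p q)
  have hmono : ∀ q, Mono (i₀ q) := fun q =>
    Groth.Agent.H43.SplitTower.mono_i₀ (A := fun p => A p q) (i₀ q) (r₀ q) (h₀ q)
  -- the first page
  let P := Groth.Agent.H43.DegSS.P₁ A d hdd
  have hP : ∀ p q : ℤ, p ≠ 0 → IsZero (P.homology (p, q)) :=
    Groth.Agent.H43.DegSS.isZero_P₁_homology A d hdd hex
  have hPX : ∀ p q : ℤ, ¬ (0 ≤ p ∧ 0 ≤ q) → IsZero (P.X (p, q)) :=
    Groth.Agent.H43.DegSS.isZero_P₁_X A d hdd
  -- the abutment isomorphisms
  have eH : ∀ n : ℤ, Nonempty (P.homology (0, n) ≅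
      (if 0 ≤ n then AddCommGrpCat.of (CohTop.H F n.toNat) else AddCommGrpCat.of PUnit.{u + 1})) := by
    intro n
    by_cases hn : 0 ≤ n
    · obtain ⟨m, rfl⟩ := Int.eq_ofNat_of_zero_le hn
      rw [if_pos hn]
      exact ⟨Groth.Agent.H43.DegSS.P₁HomologyIso B A i₀ d hdd hjd hex₀ m⟩
    · rw [if_neg hn]
      refine ⟨(Groth.Agent.H43.DegSS.isZero_P₁_homology_of_not A d hdd 0 n
        (fun h => hn h.2)).iso (AddCommGrpCat.isZero_of_subsingleton _)⟩
  refine ⟨Groth.Agent.H43.DegSS.degSS P,
    Groth.Agent.H43.DegSS.abut P (fun n => (eH n).some) hP,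
    Groth.Agent.H43.DegSS.abut_isFinite P _ hP,
    Groth.Agent.H43.DegSS.isBounded P hPX, ?_⟩
  intro p q
  have e1 : ((Groth.Agent.H43.DegSS.degSS P).page 1 le_rfl).X (p, q) ≅ P.X (p, q) :=
    (HomologicalComplex.eval _ _ (p, q)).mapIso (eqToIso (Groth.Agent.H43.DegSS.pg_one P))
  by_cases hpq : 0 ≤ p ∧ 0 ≤ q
  · rw [if_pos hpq]
    obtain ⟨p', rfl⟩ := Int.eq_ofNat_of_zero_le hpq.1
    obtain ⟨q', rfl⟩ := Int.eq_ofNat_of_zero_le hpq.2
    exact ⟨e1 ≪≫ Groth.Agent.H43.DegSS.P₁XIso A d hdd p' q'⟩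
  · rw [if_neg hpq]
    exact ⟨e1 ≪≫ (hPX p q hpq).iso (AddCommGrpCat.isZero_of_subsingleton _)⟩

end Groth.Agent.S8579
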