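import Groth.Statements.S8598
import Groth.Agent.H4.EtRestr
import Groth.Agent.H4.GlueSec

set_option autoImplicit false
universe u
open CategoryTheory CategoryTheory.Limits AlgebraicGeometry Opposite
open EtDl

namespace Groth.Agent.S8598

/-- Let u : X -> Y be an etale, separated morphism of finite type that is surjective, and F an abelian
sheaf on Y_et. The sheaves F_n = (u_n)_! u_n^* F built from the iterated fibre powers of X over Y
form a left resolution of F; in particular (the part stated here) the augmentation u_! u^* F -> F,
which is the counit of the adjunction between extension by zero u_! and restriction u^*, is an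
epimorphism. (The continuity of V ↦ (V -> X -> Y) between the small etale sites is carried as an
instance hypothesis, the prelude's convention for extension by zero along an etale morphism.) -/
theorem result {X Y : Scheme.{u}} (u : X ⟶ Y) [Etale u] [IsSeparated u]
    [LocallyOfFiniteType u] [QuasiCompact u] [Surjective u] [EtShriek.JCont u] (F : EtCoh.Ab Y) :
    Epi ((EtShriek.extZeroAdj u).counit.app F) := by
  open EtShriek EtCoh Groth.Agent.H4.EtRestr in
  rw [← Sheaf.isLocallySurjective_iff_epi']
  constructor
  intro V s
  rw [Groth.Agent.H4.GlueSec.mem_smallEtaleTopology_iff]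
  intro p
  -- a point of `X ×_Y V` above `p`
  obtain ⟨x, hx⟩ := u.surjective (V.hom p)
  obtain ⟨z, hz1, hz2⟩ := Scheme.Pullback.exists_preimage_pullback (f := V.hom) (g := u) p x hx.symm
  let W : X.Etale := (EtCoh.bc u).obj V
  let k : (compEtale u).obj W ⟶ V := (Groth.Agent.H4.EtRestr.compBcAdj u).counit.app V
  refine ⟨(compEtale u).obj W, k, z, ?_, ?_⟩
  · -- the restriction of `s` along `k` is in the image
    let G := (restrAlong u).obj F
    let s' : G.obj.obj (op W) := F.obj.map k.op s
    let m := ((extZeroAdj u).unit.app G).hom.app (op W) s'
    refine ⟨m, ?_⟩
    have ht := (extZeroAdj u).right_triangle_components F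
    have h2 := congrArg (fun φ => (ConcreteCategory.hom (φ.hom.app (op W))) s') ht
    exact h2
  · exact hz1

end Groth.Agent.S8598
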