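import Groth.Statements.S8607
import Groth.Agent.H43.Compactif

set_option autoImplicit false
universe u
open CategoryTheory CategoryTheory.Limits AlgebraicGeometry Opposite
open DEt

namespace Groth.Agent.S8607

/-- The equalizing half of 'the category of compactifications of f is cofiltering': let f : X -> Y be a
morphism of quasi-compact quasi-separated schemes, (Xbar_1, j_1, fbar_1) and (Xbar_2, j_2, fbar_2)
two compactifications of f, and r, s : Xbar_1 -> Xbar_2 two morphisms of compactifications (r ∘ j_1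
= j_2 = s ∘ j_1 and fbar_2 ∘ r = fbar_1 = fbar_2 ∘ s). Then there are a compactification (Xbar, j,
fbar) of f and a proper morphism t : Xbar -> Xbar_1 of compactifications (t ∘ j = j_1, fbar_1 ∘ t =
fbar) with r ∘ t = s ∘ t. -/
theorem result {X Y : Scheme.{u}} [CompactSpace ↥X] [QuasiSeparatedSpace ↥X]
    [CompactSpace ↥Y] [QuasiSeparatedSpace ↥Y] {f : X ⟶ Y} (c₁ c₂ : DEt.Compactification f)
    (r s : c₁.Xbar ⟶ c₂.Xbar) (hr : c₁.j ≫ r = c₂.j) (hs : c₁.j ≫ s = c₂.j)
    (hr' : r ≫ c₂.fbar = c₁.fbar) (hs' : s ≫ c₂.fbar = c₁.fbar) :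
    ∃ (c : DEt.Compactification f) (t : c.Xbar ⟶ c₁.Xbar), IsProper t ∧ c.j ≫ t = c₁.j ∧ t ≫ c₁.fbar = c.fbar ∧
      t ≫ r = t ≫ s := by
  let X' : Over Y := Over.mk c₁.fbar
  let Y' : Over Y := Over.mk c₂.fbar
  let r' : X' ⟶ Y' := Over.homMk r hr'
  let s' : X' ⟶ Y' := Over.homMk s hs'
  haveI : IsSeparated Y'.hom := by
    show IsSeparated c₂.fbar
    infer_instance
  let t : (equalizer r' s').left ⟶ c₁.Xbar := (equalizer.ι r' s').left
  haveI : IsClosedImmersion t := isClosedImmersion_equalizer_ι_left r' s'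
  let j' : Over.mk f ⟶ X' := Over.homMk c₁.j c₁.fac
  have hj' : j' ≫ r' = j' ≫ s' := by
    ext
    simp [j', r', s', hr, hs]
  let j : X ⟶ (equalizer r' s').left := (equalizer.lift j' hj').left
  have hjt : j ≫ t = c₁.j := by
    have := congrArg CommaMorphism.left (equalizer.lift_ι j' hj')
    exact this
  haveI : IsOpenImmersion (j ≫ t) := by rw [hjt]; infer_instance
  haveI : IsOpenImmersion j := Groth.Agent.H43.Compactif.isOpenImmersion_of_comp_mono j t
  refine ⟨⟨(equalizer r' s').left, j, t ≫ c₁.fbar, inferInstance, inferInstance, ?_⟩, t,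
    inferInstance, hjt, rfl, ?_⟩
  · rw [← Category.assoc, hjt, c₁.fac]
  · have := congrArg CommaMorphism.left (equalizer.condition r' s')
    exact this

end Groth.Agent.S8607
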