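import Groth.Statements.S8625
import Mathlib.Tactic.Group

set_option autoImplicit false
universe u
open SGA4h

namespace Groth.Agent.S8625

section aux

variable {G : Type u} [Group G] (F : G →* G)

theorem aux1 (g : G) (h : F (F g * g⁻¹) = F g * g⁻¹) : F (g⁻¹ * F g) = g⁻¹ * F g := by
  have h2 : F (F g) = F g * g⁻¹ * F g := by
    have : F (F g) = F (F g * g⁻¹) * F g := by
      rw [← map_mul]; congr 1; group
    rw [this, h]
  rw [map_mul, map_inv, h2]; group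

theorem aux1' (g : G) (h : F (g⁻¹ * F g) = g⁻¹ * F g) : F (F g * g⁻¹) = F g * g⁻¹ := by
  have h2 : F (F g) = F g * g⁻¹ * F g := by
    have : F (F g) = F g * F (g⁻¹ * F g) := by
      rw [← map_mul]; congr 1; group
    rw [this, h]; group
  rw [map_mul, map_inv, h2]; group

/-- if `F g g⁻¹ = F h h⁻¹` then `h⁻¹ g` is fixed. -/
theorem aux2 (g h : G) (e : F g * g⁻¹ = F h * h⁻¹) : F (h⁻¹ * g) = h⁻¹ * g := by
  have : F g = F h * h⁻¹ * g := by rw [← e]; group
  rw [map_mul, map_inv, this]; group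

/-- if `g⁻¹ F g = h⁻¹ F h` then `g h⁻¹` is fixed. -/
theorem aux3 (g h : G) (e : g⁻¹ * F g = h⁻¹ * F h) : F (g * h⁻¹) = g * h⁻¹ := by
  have : F g = g * h⁻¹ * F h := by
    have : F g = g * (g⁻¹ * F g) := by group
    rw [this, e]; group
  rw [map_mul, map_inv, this]; group

end aux

/-- Let G be a group with an endomorphism F, and assume the Lang map g ↦ F(g)g⁻¹ is surjective (for
instance the geometric points of a connected algebraic group over F_q with its Frobenius, where the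
surjectivity is the classical result of Lang; the other Lang map g ↦ g⁻¹F(g) is then surjective too,
by g ↦ g⁻¹). Let G^F be the subgroup of fixed points of F. (i) If F(g)g⁻¹ is fixed by F then so is
g⁻¹F(g). (ii), (iii) There is a bijection of the set of conjugacy classes of G^F with itself
sending, for every g with F(g)g⁻¹ ∈ G^F, the class of F(g)g⁻¹ to the class of g⁻¹F(g) (in particular
the latter class depends only on the former). -/
theorem result {G : Type u} [Group G] (F : G →* G)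
    (hL : Function.Surjective fun g : G => F g * g⁻¹) :
    (∀ g : G, F (F g * g⁻¹) = F g * g⁻¹ → F (g⁻¹ * F g) = g⁻¹ * F g) ∧
    ∃ φ : ConjClasses ↥(F.eqLocus (MonoidHom.id G)) → ConjClasses ↥(F.eqLocus (MonoidHom.id G)),
      Function.Bijective φ ∧
      ∀ (g : G) (h : F (F g * g⁻¹) = F g * g⁻¹) (h' : F (g⁻¹ * F g) = g⁻¹ * F g),
        φ (ConjClasses.mk (⟨F g * g⁻¹, h⟩ : ↥(F.eqLocus (MonoidHom.id G)))) =
          ConjClasses.mk (⟨g⁻¹ * F g, h'⟩ : ↥(F.eqLocus (MonoidHom.id G))) := by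
  classical
  refine ⟨aux1 F, ?_⟩
  -- notation
  set H := F.eqLocus (MonoidHom.id G) with hH
  have memH : ∀ x : G, x ∈ H ↔ F x = x := fun x => Iff.rfl
  -- choice of a Lang preimage
  let pre : H → G := fun a => (hL a.1).choose
  have hpre : ∀ a : H, F (pre a) * (pre a)⁻¹ = a.1 := fun a => (hL a.1).choose_spec
  have hpre' : ∀ a : H, F ((pre a)⁻¹ * F (pre a)) = (pre a)⁻¹ * F (pre a) := fun a =>
    aux1 F (pre a) (by rw [hpre a]; exact a.2)
  let φ : ConjClasses H → ConjClasses H := fun C =>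
    ConjClasses.mk ⟨(pre C.out)⁻¹ * F (pre C.out), hpre' _⟩
  -- the key property
  have key : ∀ (g : G) (h : F (F g * g⁻¹) = F g * g⁻¹) (h' : F (g⁻¹ * F g) = g⁻¹ * F g),
      φ (ConjClasses.mk (⟨F g * g⁻¹, h⟩ : H)) = ConjClasses.mk (⟨g⁻¹ * F g, h'⟩ : H) := by
    intro g h h'
    set a : H := ⟨F g * g⁻¹, h⟩
    set a' : H := (ConjClasses.mk a).out
    have hconj : IsConj a a' := by
      rw [← ConjClasses.mk_eq_mk_iff_isConj]
      exact (Quotient.out_eq (ConjClasses.mk a)).symm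
    obtain ⟨c, hc⟩ := isConj_iff.mp hconj
    -- c * a * c⁻¹ = a'
    have hc1 : (c : G) * (F g * g⁻¹) * (c : G)⁻¹ = (a' : G) := by
      have := congrArg Subtype.val hc
      simpa using this
    have hcF : F (c : G) = c := c.2
    set g₀ := pre a'
    have hg₀ : F g₀ * g₀⁻¹ = a'.1 := hpre a'
    have e1 : F ((c : G) * g) * ((c : G) * g)⁻¹ = F g₀ * g₀⁻¹ := by
      rw [hg₀, ← hc1, map_mul, hcF]; group
    have hfix : F (g₀⁻¹ * ((c : G) * g)) = g₀⁻¹ * ((c : G) * g) := aux2 F _ _ e1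
    show ConjClasses.mk (⟨g₀⁻¹ * F g₀, hpre' a'⟩ : H) = ConjClasses.mk ⟨g⁻¹ * F g, h'⟩
    rw [ConjClasses.mk_eq_mk_iff_isConj, isConj_comm, isConj_iff]
    refine ⟨⟨g₀⁻¹ * ((c : G) * g), hfix⟩, ?_⟩
    apply Subtype.ext
    simp only [Subgroup.coe_mul, Subgroup.coe_inv]
    -- e (g⁻¹ F g) e⁻¹ = g₀⁻¹ F g₀ where e = g₀⁻¹ c g
    have hFe : F g₀ = F ((c : G) * g) * (g₀⁻¹ * ((c : G) * g))⁻¹ := by
      have : F g₀ = F (((c : G) * g) * (g₀⁻¹ * ((c : G) * g))⁻¹) := by congr 1; group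
      rw [this, map_mul, map_inv, hfix]
    rw [hFe, map_mul, hcF]; group
  refine ⟨φ, ⟨?_, ?_⟩, key⟩
  · -- injective
    intro C C' hCC'
    have hC : C = ConjClasses.mk C.out := (Quotient.out_eq C).symm
    have hC' : C' = ConjClasses.mk C'.out := (Quotient.out_eq C').symm
    rw [hC, hC', ConjClasses.mk_eq_mk_iff_isConj, isConj_iff]
    have h1 : ConjClasses.mk (⟨(pre C.out)⁻¹ * F (pre C.out), hpre' _⟩ : H) =
        ConjClasses.mk ⟨(pre C'.out)⁻¹ * F (pre C'.out), hpre' _⟩ := hCC'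
    rw [ConjClasses.mk_eq_mk_iff_isConj, isConj_iff] at h1
    obtain ⟨c, hc⟩ := h1
    have hcF : F (c : G) = c := c.2
    set g := pre C.out
    set g' := pre C'.out
    have hc1 : (c : G) * (g⁻¹ * F g) * (c : G)⁻¹ = g'⁻¹ * F g' := by
      have := congrArg Subtype.val hc
      simpa using this
    -- h = g * c⁻¹ satisfies h⁻¹ F h = g'⁻¹ F g'
    have e3 : (g * (c : G)⁻¹)⁻¹ * F (g * (c : G)⁻¹) = g'⁻¹ * F g' := by
      rw [← hc1, map_mul, map_inv, hcF]; group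
    have hfix : F (g * (c : G)⁻¹ * g'⁻¹) = g * (c : G)⁻¹ * g'⁻¹ := aux3 F _ _ e3
    -- d = g c⁻¹ g'⁻¹ ; want d' * a * d'⁻¹ = a' with d' = d⁻¹
    have hfix' : F (g * (c : G)⁻¹ * g'⁻¹)⁻¹ = (g * (c : G)⁻¹ * g'⁻¹)⁻¹ := by
      rw [map_inv, hfix]
    refine ⟨⟨(g * (c : G)⁻¹ * g'⁻¹)⁻¹, hfix'⟩, ?_⟩
    apply Subtype.ext
    simp only [Subgroup.coe_mul, Subgroup.coe_inv, inv_inv]
    rw [← hpre C.out, ← hpre C'.out]
    show (g * (c : G)⁻¹ * g'⁻¹)⁻¹ * (F g * g⁻¹) * (g * (c : G)⁻¹ * g'⁻¹) = F g' * g'⁻¹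
    have hFg : F g = F (g * (c : G)⁻¹ * g'⁻¹) * F g' * c := by
      have : F g = F ((g * (c : G)⁻¹ * g'⁻¹) * g' * c) := by congr 1; group
      rw [this, map_mul, map_mul, hcF]
    rw [hFg, hfix]; group
  · -- surjective
    intro D
    set b : H := D.out
    have hD : D = ConjClasses.mk b := (Quotient.out_eq D).symm
    obtain ⟨h, hh⟩ := hL ((b : G)⁻¹)
    have hh : F h * h⁻¹ = (b : G)⁻¹ := hh
    have hb : h * (F h)⁻¹ = b := by
      have : h * (F h)⁻¹ = (F h * h⁻¹)⁻¹ := by group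
      rw [this, hh, inv_inv]
    have e : (h⁻¹)⁻¹ * F h⁻¹ = b := by rw [map_inv, inv_inv, hb]
    have hfix : F ((h⁻¹)⁻¹ * F h⁻¹) = (h⁻¹)⁻¹ * F h⁻¹ := by rw [e]; exact b.2
    refine ⟨ConjClasses.mk ⟨F h⁻¹ * (h⁻¹)⁻¹, aux1' F _ hfix⟩, ?_⟩
    rw [key _ _ hfix, hD]
    congr 1
    exact Subtype.ext e

end Groth.Agent.S8625
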