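import Groth.Statements.S8637

set_option autoImplicit false
open Zeta

namespace Groth.Agent.S8637

theorem prod_nonneg_aux {ι : Type} (s : Finset ι) (f : ι → PowerSeries ℝ)
    (h0 : ∀ i ∈ s, PowerSeries.constantCoeff (f i) = 1)
    (hpos : ∀ i ∈ s, ∀ n : ℕ, 0 ≤ PowerSeries.coeff n (f i)) :
    PowerSeries.constantCoeff (∏ j ∈ s, f j) = 1 ∧
      ∀ n : ℕ, 0 ≤ PowerSeries.coeff n (∏ j ∈ s, f j) := by
  classical
  induction s using Finset.induction_on with
  | empty =>
    refine ⟨by simp, fun n => ?_⟩
    simp only [Finset.prod_empty, PowerSeries.coeff_one]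
    split_ifs <;> norm_num
  | insert a s ha ih =>
    have h0' : ∀ i ∈ s, PowerSeries.constantCoeff (f i) = 1 :=
      fun i hi => h0 i (Finset.mem_insert_of_mem hi)
    have hpos' : ∀ i ∈ s, ∀ n : ℕ, 0 ≤ PowerSeries.coeff n (f i) :=
      fun i hi => hpos i (Finset.mem_insert_of_mem hi)
    obtain ⟨ih1, ih2⟩ := ih h0' hpos'
    rw [Finset.prod_insert ha]
    refine ⟨by rw [map_mul, ih1, h0 a (Finset.mem_insert_self a s), mul_one], fun n => ?_⟩
    rw [PowerSeries.coeff_mul]
    exact Finset.sum_nonneg fun p _ =>
      mul_nonneg (hpos a (Finset.mem_insert_self a s) p.1) (ih2 p.2)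

/-- First assertion, for a finite family: let (f_i) be finitely many formal power series with real
coefficients, each with constant term 1 and all coefficients ≥ 0, and let f be their product. Then
for every i and every n the n-th coefficient of f_i is at most the n-th coefficient of f (so the
radius of absolute convergence of f_i is at least that of f). (Stated for a finite family; for an
infinite product whose factors f_i - 1 have orders tending to infinity each coefficient is that of a
finite sub-product, so the same inequality holds.) -/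
theorem result {ι : Type} (s : Finset ι) (f : ι → PowerSeries ℝ)
    (h0 : ∀ i ∈ s, PowerSeries.constantCoeff (f i) = 1)
    (hpos : ∀ i ∈ s, ∀ n : ℕ, 0 ≤ PowerSeries.coeff n (f i)) (i : ι) (hi : i ∈ s) (n : ℕ) :
    PowerSeries.coeff n (f i) ≤ PowerSeries.coeff n (∏ j ∈ s, f j) := by
  classical
  rw [← Finset.mul_prod_erase s f hi]
  obtain ⟨h1, h2⟩ := prod_nonneg_aux (s.erase i) f
    (fun j hj => h0 j (Finset.mem_of_mem_erase hj))
    (fun j hj => hpos j (Finset.mem_of_mem_erase hj))
  rw [PowerSeries.coeff_mul]
  have hmem : (n, 0) ∈ Finset.antidiagonal n := by simp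
  calc PowerSeries.coeff n (f i)
      = PowerSeries.coeff (n, 0).1 (f i) * PowerSeries.coeff (n, 0).2 (∏ j ∈ s.erase i, f j) := by
        simp only [PowerSeries.coeff_zero_eq_constantCoeff_apply, h1, mul_one]
    _ ≤ _ := Finset.single_le_sum
        (f := fun p : ℕ × ℕ => PowerSeries.coeff p.1 (f i) * PowerSeries.coeff p.2 (∏ j ∈ s.erase i, f j))
        (fun p _ => mul_nonneg (hpos i hi p.1) (h2 p.2)) hmem

end Groth.Agent.S8637
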