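import Groth.Statements.S8708
import Groth.Agent.H42.ConstExtSplit

set_option autoImplicit false
universe u
open CategoryTheory CategoryTheory.Limits MonoidalCategory CartesianMonoidalCategory MonObj AlgebraicGeometry
open SGA7

namespace Groth.Agent.S8708

/-- Let k be a field, Z a group without non-trivial elements of finite order, P a connected k-group
scheme locally of finite type, G the constant k-group scheme Z_k (through the isomorphism eG), and u
: G → E, v : E → P homomorphisms of k-group schemes forming a sequence 1 → G → E → P → 1 which is
exact for the fppf topology. Then the extension is rigid and trivial: every automorphism of the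
k-group scheme E compatible with u and v is the identity, and there is a homomorphism of k-group
schemes s : P → E with s followed by v equal to the identity of P. (For P not connected the
published statement reduces extensions of P to extensions of its group of connected components; that
part is not stated.) -/
theorem result (k : Type u) [Field k]
    (Z : Type u) [Group Z] (hZ : ∀ z : Z, IsOfFinOrder z → z = 1)
    (P E G : Over (Spec (CommRingCat.of k))) [GrpObj P] [GrpObj E] [GrpObj G]
    [LocallyOfFiniteType P.hom] [ConnectedSpace ↥P.left]
    (eG : G ≅ TwC.const (Spec (CommRingCat.of k)) Z) (hG : TwC.IsConstGrp Z G eG)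
    (u : G ⟶ E) (v : E ⟶ P) (hex : NonAbH1.IsExactSeq Scheme.fppfPrecoverage u v) :
    (∀ φ : E ≅ E, IsMonHom φ.hom → u ≫ φ.hom = u → φ.hom ≫ v = v → φ.hom = 𝟙 E) ∧
      ∃ s : P ⟶ E, IsMonHom s ∧ s ≫ v = 𝟙 P := by
  obtain ⟨hu, hv, huv, hpb, hloc⟩ := hex
  have hGet : Etale G.hom := by
    have h1 : G.hom = eG.hom.left ≫ (TwC.const (Spec (CommRingCat.of k)) Z).hom := (Over.w eG.hom).symm
    have h2 : IsIso eG.hom.left := inferInstanceAs (IsIso ((Over.forget _).map eG.hom))
    have h3 : Etale (TwC.const (Spec (CommRingCat.of k)) Z).hom :=
      Groth.Agent.H42.ConstSch.etale_cst _ Z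
    rw [h1]
    infer_instance
  have hvet : Etale v.left :=
    Groth.Agent.H42.ConstExtSch.etale_of_isExactSeq u v hpb hloc hGet
  have hsurj : Function.Surjective v.left :=
    Groth.Agent.H42.ConstExtSch.surjective_of_isLocallyTrivialFor v hloc
  refine ⟨?_, ?_⟩
  · intro φ hφ h1 h2
    exact Groth.Agent.H42.ConstExtSch.rigid eG hG u v hpb v.left.isOpenMap hsurj φ.hom h1 h2
  · exact Groth.Agent.H42.ConstExtSplit.exists_splitting eG u v hZ hG hpb hsurj

end Groth.Agent.S8708
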