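import Groth.Statements.S8719
import Groth.Agent.H44.MvPSDecomp
import Mathlib.LinearAlgebra.Matrix.NonsingularInverse

set_option autoImplicit false
universe u
open VanCyc

namespace Groth.Agent.S8719

/-- The formal computation carried out in its proof: let k be a field and f a power series in k[[x_0,
..., x_n]] with vanishing constant and linear terms whose degree-two part is a non-degenerate
quadratic form (the Gram determinant of its polar bilinear form is a unit). Then the partial
derivatives of f generate the maximal ideal of k[[x_0, ..., x_n]] (so f together with its partial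
derivatives cut out the origin with multiplicity one). -/
theorem result (k : Type u) [Field k] (n : ℕ)
    (f : MvPowerSeries (Fin (n + 1)) k) (hf : VanCyc.NondegQuadSeries f) :
    Ideal.span (Set.range fun i : Fin (n + 1) => MvPowerSeries.pderiv k i f) =
      IsLocalRing.maximalIdeal (MvPowerSeries (Fin (n + 1)) k) := by
  classical
  obtain ⟨⟨hf0, hf1⟩, hdet⟩ := hf
  set P := VanCyc.polarMatrix (VanCyc.quadPart f) with hP
  have hdet' : IsUnit P.det := hdet
  -- constant coefficients of the partial derivatives vanish
  have hconst : ∀ i, MvPowerSeries.constantCoeff (MvPowerSeries.pderiv k i f) = 0 := by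
    intro i
    rw [← MvPowerSeries.coeff_zero_eq_constantCoeff_apply, MvPowerSeries.coeff_pderiv, zero_add,
      hf1 i, zero_mul]
  -- linear coefficients of the partial derivatives are the polar matrix
  have hlin : ∀ i j, MvPowerSeries.coeff (Finsupp.single j 1) (MvPowerSeries.pderiv k i f) =
      P i j := by
    intro i j
    rw [MvPowerSeries.coeff_pderiv, hP]
    unfold VanCyc.polarMatrix VanCyc.quadPart
    by_cases hij : i = j
    · subst hij
      simp only [if_true, Finsupp.single_eq_same, ← Finsupp.single_add]
      push_cast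
      ring
    · have hji : j ≠ i := fun h => hij h.symm
      rw [Finsupp.single_eq_of_ne hij]
      simp only [if_neg hij]
      rcases lt_or_gt_of_ne hij with hlt | hgt
      · rw [if_pos hlt, if_pos hlt, add_comm (Finsupp.single j 1)]
        push_cast
        ring
      · rw [if_neg (not_lt.mpr hgt.le), if_neg hji, if_pos hgt]
        push_cast
        ring
  apply le_antisymm
  · rw [Ideal.span_le]
    rintro _ ⟨i, rfl⟩
    rw [SetLike.mem_coe, Groth.Agent.H44.mem_maximalIdeal_iff]
    exact hconst i
  · have hfg : (IsLocalRing.maximalIdeal (MvPowerSeries (Fin (n + 1)) k)).FG := by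
      rw [Groth.Agent.H44.maximalIdeal_eq_span_X]
      exact Submodule.fg_span (Set.finite_range _)
    have hjac : IsLocalRing.maximalIdeal (MvPowerSeries (Fin (n + 1)) k) ≤ Ideal.jacobson ⊥ := by
      rw [IsLocalRing.jacobson_eq_maximalIdeal ⊥ bot_ne_top]
    apply Submodule.le_of_le_smul_of_le_jacobson_bot hfg hjac
    change IsLocalRing.maximalIdeal (MvPowerSeries (Fin (n + 1)) k) ≤
      Ideal.span (Set.range fun i => MvPowerSeries.pderiv k i f) ⊔
        IsLocalRing.maximalIdeal (MvPowerSeries (Fin (n + 1)) k) *
          IsLocalRing.maximalIdeal (MvPowerSeries (Fin (n + 1)) k)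
    conv_lhs => rw [Groth.Agent.H44.maximalIdeal_eq_span_X]
    rw [Ideal.span_le]
    rintro _ ⟨l, rfl⟩
    have hPinv : P⁻¹ * P = 1 := Matrix.nonsing_inv_mul P hdet'
    have hrem : ∀ i, MvPowerSeries.pderiv k i f - ∑ j, MvPowerSeries.C (P i j) * MvPowerSeries.X j ∈
        IsLocalRing.maximalIdeal (MvPowerSeries (Fin (n + 1)) k) *
          IsLocalRing.maximalIdeal (MvPowerSeries (Fin (n + 1)) k) := by
      intro i
      have := Groth.Agent.H44.sub_linear_mem_sq (MvPowerSeries.pderiv k i f) (hconst i)
      simpa only [hlin] using this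
    have hsum : ∑ i, MvPowerSeries.C (P⁻¹ l i) *
        (∑ j, MvPowerSeries.C (P i j) * MvPowerSeries.X j) =
        (MvPowerSeries.X l : MvPowerSeries (Fin (n + 1)) k) := by
      simp_rw [Finset.mul_sum]
      rw [Finset.sum_comm]
      have h1 : ∀ j, ∑ i, MvPowerSeries.C (P⁻¹ l i) *
          (MvPowerSeries.C (P i j) * (MvPowerSeries.X j : MvPowerSeries (Fin (n + 1)) k)) =
          MvPowerSeries.C ((P⁻¹ * P) l j) * MvPowerSeries.X j := by
        intro j
        rw [Matrix.mul_apply, map_sum, Finset.sum_mul]
        apply Finset.sum_congr rfl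
        intro i _
        rw [map_mul, mul_assoc]
      simp_rw [h1, hPinv, Matrix.one_apply]
      rw [Finset.sum_eq_single l]
      · rw [if_pos rfl, map_one, one_mul]
      · intro j _ hj
        rw [if_neg (fun h => hj h.symm), map_zero, zero_mul]
      · intro h
        exact absurd (Finset.mem_univ _) h
    have hkey : (MvPowerSeries.X l : MvPowerSeries (Fin (n + 1)) k) =
        ∑ i, MvPowerSeries.C (P⁻¹ l i) * MvPowerSeries.pderiv k i f -
        ∑ i, MvPowerSeries.C (P⁻¹ l i) *
          (MvPowerSeries.pderiv k i f - ∑ j, MvPowerSeries.C (P i j) * MvPowerSeries.X j) := by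
      rw [← Finset.sum_sub_distrib, ← hsum]
      apply Finset.sum_congr rfl
      intro i _
      ring
    rw [SetLike.mem_coe, hkey]
    apply Ideal.sub_mem
    · apply Ideal.mem_sup_left
      refine sum_mem fun i _ => ?_
      exact Ideal.mul_mem_left _ _ (Ideal.subset_span ⟨i, rfl⟩)
    · apply Ideal.mem_sup_right
      refine sum_mem fun i _ => ?_
      exact Ideal.mul_mem_left _ _ (hrem i)

end Groth.Agent.S8719
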