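import Groth.Statements.S8720
import Groth.Agent.H44.MvPSDecomp
import Mathlib.Algebra.CharP.Two
import Mathlib.LinearAlgebra.Isomorphisms
import Mathlib.LinearAlgebra.Dimension.Constructions

set_option autoImplicit false
universe u
open VanCyc

namespace Groth.Agent.S8720

/-- The formal computation carried out in its proof: let k be a field of characteristic 2, m a natural
number, and f a power series over k in the variables x_0 and x_i, x_i' (i = 1, ..., m) whose terms
of degree less than 3 are exactly those of x_0^2 + x_1 x_1' + ... + x_m x_m'. Then the ideal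
generated by f and all its partial derivatives is the ideal generated by x_0^2 and the x_i, x_i',
and the quotient of the power series ring by this ideal is two-dimensional over k. (Characteristic 2
is what makes the derivative in x_0 lose its linear term.) -/
theorem result (k : Type u) [Field k] [CharP k 2] (m : ℕ)
    (f : MvPowerSeries (Option (Fin m ⊕ Fin m)) k)
    (hf : ∀ d : Option (Fin m ⊕ Fin m) →₀ ℕ, d.degree < 3 →
      MvPowerSeries.coeff d f = MvPowerSeries.coeff d
        (MvPowerSeries.X none ^ 2 +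
          ∑ i : Fin m, MvPowerSeries.X (some (Sum.inl i)) * MvPowerSeries.X (some (Sum.inr i)))) :
    Ideal.span ({f} ∪ Set.range fun i : Option (Fin m ⊕ Fin m) => MvPowerSeries.pderiv k i f) =
      Ideal.span ({MvPowerSeries.X none ^ 2} ∪
        Set.range fun j : Fin m ⊕ Fin m => (MvPowerSeries.X (some j) : MvPowerSeries (Option (Fin m ⊕ Fin m)) k)) ∧
    Module.finrank k (MvPowerSeries (Option (Fin m ⊕ Fin m)) k ⧸
      Ideal.span ({MvPowerSeries.X none ^ 2} ∪
        Set.range fun j : Fin m ⊕ Fin m => (MvPowerSeries.X (some j) : MvPowerSeries (Option (Fin m ⊕ Fin m)) k))) = 2 := by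
  classical
  have htwo : (2 : MvPowerSeries (Option (Fin m ⊕ Fin m)) k) = 0 := by
    rw [← map_ofNat (MvPowerSeries.C (σ := Option (Fin m ⊕ Fin m)) (R := k)) 2,
      CharTwo.two_eq_zero, map_zero]
  set q : MvPowerSeries (Option (Fin m ⊕ Fin m)) k := MvPowerSeries.X none ^ 2 +
    ∑ i : Fin m, MvPowerSeries.X (some (Sum.inl i)) * MvPowerSeries.X (some (Sum.inr i)) with hq
  set J := Ideal.span ({MvPowerSeries.X none ^ 2} ∪
    Set.range fun j : Fin m ⊕ Fin m =>
      (MvPowerSeries.X (some j) : MvPowerSeries (Option (Fin m ⊕ Fin m)) k)) with hJ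
  set I := Ideal.span ({f} ∪ Set.range fun i : Option (Fin m ⊕ Fin m) =>
    MvPowerSeries.pderiv k i f) with hI
  set M := IsLocalRing.maximalIdeal (MvPowerSeries (Option (Fin m ⊕ Fin m)) k) with hM
  set h := f - q with hh_def
  have hh : ∀ d : Option (Fin m ⊕ Fin m) →₀ ℕ, d.degree < 3 → MvPowerSeries.coeff d h = 0 := by
    intro d hd
    rw [hh_def, map_sub, hf d hd, sub_self]
  have hfq : f = q + h := by rw [hh_def]; ring
  have hxJ : ∀ j : Fin m ⊕ Fin m, MvPowerSeries.X (some j) ∈ J := fun j =>
    Ideal.subset_span (Or.inr ⟨j, rfl⟩)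
  have hx0J : (MvPowerSeries.X none ^ 2 : MvPowerSeries (Option (Fin m ⊕ Fin m)) k) ∈ J :=
    Ideal.subset_span (Or.inl rfl)
  have hXM : ∀ a : Option (Fin m ⊕ Fin m), MvPowerSeries.X a ∈ M := fun a => by
    rw [hM, Groth.Agent.H44.mem_maximalIdeal_iff, MvPowerSeries.constantCoeff_X]
  -- M² ⊆ (x₀²) + M J
  have hM2 : M ^ 2 ≤ Ideal.span {MvPowerSeries.X none ^ 2} ⊔ M * J := by
    rw [pow_two]
    conv_lhs => rw [hM, Groth.Agent.H44.maximalIdeal_eq_span_X', Ideal.span_mul_span']
    rw [Ideal.span_le]
    rintro _ ⟨_, ⟨a, rfl⟩, _, ⟨b, rfl⟩, rfl⟩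
    rcases a with _ | a
    · rcases b with _ | b
      · apply Ideal.mem_sup_left
        change MvPowerSeries.X none * MvPowerSeries.X none ∈ _
        rw [← pow_two]
        exact Ideal.subset_span rfl
      · exact Ideal.mem_sup_right (Ideal.mul_mem_mul (hXM none) (hxJ b))
    · apply Ideal.mem_sup_right
      change MvPowerSeries.X (some a) * MvPowerSeries.X b ∈ M * J
      rw [mul_comm (MvPowerSeries.X (some a))]
      exact Ideal.mul_mem_mul (hXM b) (hxJ a)
  have hMJJ : M * J ≤ J := Ideal.mul_le_right
  have hM2J : M ^ 2 ≤ J := hM2.trans (sup_le (by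
    rw [Ideal.span_le]; rintro _ rfl; exact hx0J) hMJJ)
  have hM3 : M ^ 3 ≤ M * J := by
    rw [pow_succ']
    exact Ideal.mul_mono_right hM2J
  have hhM3 : h ∈ M ^ 3 := Groth.Agent.H44.mem_pow_of_coeff_eq_zero 3 h hh
  have hdh : ∀ a, MvPowerSeries.pderiv k a h ∈ M ^ 2 := fun a =>
    Groth.Agent.H44.mem_pow_of_coeff_eq_zero 2 _
      (Groth.Agent.H44.coeff_pderiv_eq_zero_of_coeff_eq_zero 2 h hh a)
  -- derivatives of q
  have hq_none : MvPowerSeries.pderiv k none q = 0 := by
    rw [hq, map_add, map_sum, MvPowerSeries.pderiv_pow, MvPowerSeries.pderiv_X_self]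
    rw [Finset.sum_eq_zero, add_zero]
    · push_cast
      rw [htwo, zero_mul, zero_mul]
    · intro i _
      rw [Derivation.leibniz, MvPowerSeries.pderiv_X_of_ne (by simp),
        MvPowerSeries.pderiv_X_of_ne (by simp), smul_zero, smul_zero, add_zero]
  have hq_inl : ∀ i : Fin m, MvPowerSeries.pderiv k (some (Sum.inl i)) q =
      MvPowerSeries.X (some (Sum.inr i)) := by
    intro i
    rw [hq, map_add, map_sum, MvPowerSeries.pderiv_pow, MvPowerSeries.pderiv_X_of_ne (by simp),
      mul_zero, zero_add, Finset.sum_eq_single i]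
    · rw [Derivation.leibniz, MvPowerSeries.pderiv_X_of_ne (by simp),
        MvPowerSeries.pderiv_X_self, smul_zero, zero_add, smul_eq_mul, mul_one]
    · intro l _ hl
      rw [Derivation.leibniz, MvPowerSeries.pderiv_X_of_ne (by simp),
        MvPowerSeries.pderiv_X_of_ne (by simpa using hl), smul_zero, smul_zero, add_zero]
    · intro hi
      exact absurd (Finset.mem_univ _) hi
  have hq_inr : ∀ i : Fin m, MvPowerSeries.pderiv k (some (Sum.inr i)) q =
      MvPowerSeries.X (some (Sum.inl i)) := by
    intro i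
    rw [hq, map_add, map_sum, MvPowerSeries.pderiv_pow, MvPowerSeries.pderiv_X_of_ne (by simp),
      mul_zero, zero_add, Finset.sum_eq_single i]
    · rw [Derivation.leibniz, MvPowerSeries.pderiv_X_self,
        MvPowerSeries.pderiv_X_of_ne (by simp), smul_zero, add_zero, smul_eq_mul, mul_one]
    · intro l _ hl
      rw [Derivation.leibniz, MvPowerSeries.pderiv_X_of_ne (by simpa using hl),
        MvPowerSeries.pderiv_X_of_ne (by simp), smul_zero, smul_zero, add_zero]
    · intro hi
      exact absurd (Finset.mem_univ _) hi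
  have hdf : ∀ a, MvPowerSeries.pderiv k a f =
      MvPowerSeries.pderiv k a q + MvPowerSeries.pderiv k a h := fun a => by
    rw [hfq, map_add]
  have hsumMJ : ∑ i : Fin m, MvPowerSeries.X (some (Sum.inl i)) *
      (MvPowerSeries.X (some (Sum.inr i)) : MvPowerSeries (Option (Fin m ⊕ Fin m)) k) ∈ M * J :=
    sum_mem fun i _ => Ideal.mul_mem_mul (hXM _) (hxJ _)
  -- first assertion
  have hIJ : I = J := by
    apply le_antisymm
    · rw [hI, Ideal.span_le]
      rintro g (rfl | ⟨a, rfl⟩)
      · -- f ∈ J
        rw [SetLike.mem_coe, hfq]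
        refine Ideal.add_mem _ (Ideal.add_mem _ hx0J (hMJJ hsumMJ)) ?_
        exact hMJJ (hM3 hhM3)
      · change MvPowerSeries.pderiv k a f ∈ J
        rw [hdf a]
        refine Ideal.add_mem _ ?_ (hM2J (hdh a))
        rcases a with _ | (i | i)
        · rw [hq_none]; exact Ideal.zero_mem _
        · rw [hq_inl]; exact hxJ _
        · rw [hq_inr]; exact hxJ _
    · have hfg : J.FG := Submodule.fg_span
        (Set.Finite.union (Set.finite_singleton _) (Set.finite_range _))
      have hjac : M ≤ Ideal.jacobson ⊥ := by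
        rw [IsLocalRing.jacobson_eq_maximalIdeal ⊥ bot_ne_top]
      apply Submodule.le_of_le_smul_of_le_jacobson_bot hfg hjac
      change J ≤ I ⊔ M * J
      have hfI : f ∈ I := Ideal.subset_span (Or.inl rfl)
      have hdI : ∀ a, MvPowerSeries.pderiv k a f ∈ I := fun a =>
        Ideal.subset_span (Or.inr ⟨a, rfl⟩)
      have hx0 : (MvPowerSeries.X none ^ 2 : MvPowerSeries (Option (Fin m ⊕ Fin m)) k) ∈
          I ⊔ M * J := by
        have e : (MvPowerSeries.X none ^ 2 : MvPowerSeries (Option (Fin m ⊕ Fin m)) k) =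
            f - (∑ i : Fin m, MvPowerSeries.X (some (Sum.inl i)) *
              MvPowerSeries.X (some (Sum.inr i)) + h) := by
          rw [hfq, hq]; ring
        rw [e]
        exact Ideal.sub_mem _ (Ideal.mem_sup_left hfI)
          (Ideal.mem_sup_right (Ideal.add_mem _ hsumMJ (hM3 hhM3)))
      have hM2' : M ^ 2 ≤ I ⊔ M * J := hM2.trans (sup_le (by
        rw [Ideal.span_le]; rintro _ rfl; exact hx0) le_sup_right)
      rw [hJ, Ideal.span_le]
      rintro g (rfl | ⟨j, rfl⟩)
      · exact hx0
      · rcases j with i | i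
        · have e : (MvPowerSeries.X (some (Sum.inl i)) :
              MvPowerSeries (Option (Fin m ⊕ Fin m)) k) =
              MvPowerSeries.pderiv k (some (Sum.inr i)) f -
                MvPowerSeries.pderiv k (some (Sum.inr i)) h := by
            rw [hdf, hq_inr]; ring
          change MvPowerSeries.X (some (Sum.inl i)) ∈ _
          rw [e]
          exact Ideal.sub_mem _ (Ideal.mem_sup_left (hdI _)) (hM2' (hdh _))
        · have e : (MvPowerSeries.X (some (Sum.inr i)) :
              MvPowerSeries (Option (Fin m ⊕ Fin m)) k) =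
              MvPowerSeries.pderiv k (some (Sum.inl i)) f -
                MvPowerSeries.pderiv k (some (Sum.inl i)) h := by
            rw [hdf, hq_inl]; ring
          change MvPowerSeries.X (some (Sum.inr i)) ∈ _
          rw [e]
          exact Ideal.sub_mem _ (Ideal.mem_sup_left (hdI _)) (hM2' (hdh _))
  refine ⟨hIJ, ?_⟩
  -- second assertion: J = {g | coeff 0 g = 0 ∧ coeff e₀ g = 0}
  have hJmem : ∀ g : MvPowerSeries (Option (Fin m ⊕ Fin m)) k, g ∈ J ↔
      MvPowerSeries.coeff 0 g = 0 ∧ MvPowerSeries.coeff (Finsupp.single none 1) g = 0 := by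
    intro g
    constructor
    · intro hg
      have key : ∀ c : MvPowerSeries (Option (Fin m ⊕ Fin m)) k,
          MvPowerSeries.coeff 0 (c * g) = 0 ∧
            MvPowerSeries.coeff (Finsupp.single none 1) (c * g) = 0 := by
        rw [hJ] at hg
        induction hg using Submodule.span_induction with
        | mem v hv =>
          intro c
          rcases hv with rfl | ⟨j, rfl⟩
          · have hdvd : (MvPowerSeries.X none ^ 2 : MvPowerSeries (Option (Fin m ⊕ Fin m)) k) ∣
                c * MvPowerSeries.X none ^ 2 := Dvd.intro_left c rfl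
            rw [MvPowerSeries.X_pow_dvd_iff] at hdvd
            exact ⟨hdvd 0 (by simp), hdvd (Finsupp.single none 1) (by simp)⟩
          · have hdvd : (MvPowerSeries.X (some j) : MvPowerSeries (Option (Fin m ⊕ Fin m)) k) ∣
                c * MvPowerSeries.X (some j) := Dvd.intro_left c rfl
            rw [MvPowerSeries.X_dvd_iff] at hdvd
            exact ⟨hdvd 0 (by simp), hdvd (Finsupp.single none 1) (by simp)⟩
        | zero => intro c; simp
        | add x y _ _ hx hy =>
          intro c
          rw [mul_add, map_add, map_add, (hx c).1, (hx c).2, (hy c).1, (hy c).2]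
          simp
        | smul a x _ hx =>
          intro c
          rw [smul_eq_mul, ← mul_assoc]
          exact hx (c * a)
      simpa using key 1
    · rintro ⟨h0, h1⟩
      obtain ⟨t, ht, htc⟩ := Groth.Agent.H44.exists_eq_sum_X_mul g
        (by rw [← MvPowerSeries.coeff_zero_eq_constantCoeff_apply]; exact h0)
      rw [ht]
      refine sum_mem fun a _ => ?_
      rcases a with _ | j
      · have ht0 : MvPowerSeries.constantCoeff (t none) = 0 := by rw [htc, h1]
        obtain ⟨s, hs, -⟩ := Groth.Agent.H44.exists_eq_sum_X_mul (t none) ht0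
        rw [hs, Finset.mul_sum]
        refine sum_mem fun b _ => ?_
        rcases b with _ | j
        · rw [← mul_assoc, ← pow_two]
          exact Ideal.mul_mem_right _ _ hx0J
        · rw [← mul_assoc, mul_comm (MvPowerSeries.X none), mul_assoc]
          exact Ideal.mul_mem_right _ _ (hxJ j)
      · exact Ideal.mul_mem_right _ _ (hxJ j)
  let φ : MvPowerSeries (Option (Fin m ⊕ Fin m)) k →ₗ[k] k × k :=
    (MvPowerSeries.coeff 0).prod (MvPowerSeries.coeff (Finsupp.single none 1))
  have hφsurj : Function.Surjective φ := by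
    rintro ⟨a, b⟩
    refine ⟨MvPowerSeries.C a + MvPowerSeries.C b * MvPowerSeries.X none, ?_⟩
    have h1 : MvPowerSeries.coeff (0 : Option (Fin m ⊕ Fin m) →₀ ℕ)
        (MvPowerSeries.C a + MvPowerSeries.C b * MvPowerSeries.X none :
          MvPowerSeries (Option (Fin m ⊕ Fin m)) k) = a := by
      simp
    have h2 : MvPowerSeries.coeff (Finsupp.single (none : Option (Fin m ⊕ Fin m)) 1)
        (MvPowerSeries.C a + MvPowerSeries.C b * MvPowerSeries.X none :
          MvPowerSeries (Option (Fin m ⊕ Fin m)) k) = b := by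
      simp [MvPowerSeries.coeff_C]
    exact Prod.ext h1 h2
  have hker : LinearMap.ker φ = J.restrictScalars k := by
    ext g
    rw [LinearMap.mem_ker, Submodule.restrictScalars_mem, hJmem]
    exact Prod.ext_iff
  have e1 : (MvPowerSeries (Option (Fin m ⊕ Fin m)) k ⧸ J) ≃ₗ[k]
      (MvPowerSeries (Option (Fin m ⊕ Fin m)) k ⧸ J.restrictScalars k) :=
    (Submodule.Quotient.restrictScalarsEquiv k J).symm
  have e2 : (MvPowerSeries (Option (Fin m ⊕ Fin m)) k ⧸ J.restrictScalars k) ≃ₗ[k]
      (MvPowerSeries (Option (Fin m ⊕ Fin m)) k ⧸ LinearMap.ker φ) :=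
    Submodule.quotEquivOfEq _ _ hker.symm
  have e3 := φ.quotKerEquivOfSurjective hφsurj
  rw [LinearEquiv.finrank_eq (e1.trans (e2.trans e3)), Module.finrank_prod, Module.finrank_self]

end Groth.Agent.S8720
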