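import Groth.Statements.S8767
import Mathlib
import Groth.Agent.H89.AdeqParaTFAE

set_option autoImplicit false
universe u
open CategoryTheory Limits AlgebraicGeometry
open Adeq

namespace Groth.Agent.S8767

/-- For an adequate `O`-module `M` on the big fppf site of `S` the following are equivalent: `M` is
parasitic; `M` is parasitic for the fppf topology; `M(U) = 0` for every open `U ⊂ S`; `M(U_i) = 0`
for the members of some affine open covering `S = ⋃ U_i`. (The published statement has a fifth
equivalent condition, the vanishing of the quasi-coherent module obtained by restriction to the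
small Zariski site; it is not included here.) -/
theorem result (S : Scheme.{u}) (M : BigSite.Mod Scheme.fppfPrecoverage S)
    (hM : Adeq.adequateMod Scheme.fppfPrecoverage S M) :
    List.TFAE [Adeq.parasitic Scheme.fppfPrecoverage S M, Adeq.parasiticFor Scheme.fppfPrecoverage S M,
      ∀ U : S.Opens, Subsingleton (BigSite.sectMod Scheme.fppfPrecoverage M ((BigSite.zarIncl S).obj U)),
      ∃ (ι : Type u) (U : ι → S.Opens), (∀ i, IsAffineOpen (U i)) ∧ (⨆ i, U i) = ⊤ ∧
        ∀ i, Subsingleton (BigSite.sectMod Scheme.fppfPrecoverage M ((BigSite.zarIncl S).obj (U i)))] := by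
  tfae_have 1 → 2 := fun h P hP V g hg => h (Over.mk g) (show Flat g from (hP.2 hg).1)
  tfae_have 2 → 3 := by
    intro h U
    let X : Bool → Scheme.{u} := fun b => match b with
      | true => ↑U
      | false => S
    let f : ∀ b, X b ⟶ S := fun b => match b with
      | true => U.ι
      | false => 𝟙 S
    have hcov : Presieve.ofArrows X f ∈ Scheme.fppfPrecoverage.coverings S := by
      apply Scheme.zariskiPrecoverage_le_fppfPrecoverage
      rw [Scheme.ofArrows_mem_precoverage_iff]
      refine ⟨fun x => ⟨false, x, rfl⟩, fun b => ?_⟩
      cases b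
      · change IsOpenImmersion (𝟙 S)
        infer_instance
      · change IsOpenImmersion U.ι
        infer_instance
    exact h hcov U.ι (Presieve.ofArrows.mk true)
  tfae_have 3 → 4 := by
    intro h
    exact ⟨S.affineOpens, fun V => V.1, fun V => V.2, AlgebraicGeometry.iSup_affineOpens_eq_top S, fun V => h V.1⟩
  tfae_have 4 → 1 := by
    rintro ⟨ι, U, hA, hcov, h0⟩
    exact Groth.Agent.H89.AQ.parasitic_of_affine_cover S M hM ι U hA hcov h0
  tfae_finish

end Groth.Agent.S8767
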