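import Groth.Statements.S8774
import Groth.Agent.H44.PureProjRes

set_option autoImplicit false
universe u
open CategoryTheory
open PureExt

namespace Groth.Agent.S8774

/-- Every `R`-module `M` has a pure projective resolution: a complex `… → P_1 → P_0` with an
augmentation to `M` such that each `P_n` is pure projective (a direct summand of a direct sum of
finitely presented modules) and `… → P_1 → P_0 → M → 0` is universally exact, i.e. the augmentation
stays a quasi-isomorphism after tensoring with any `R`-module `N`. -/
theorem result (R : Type u) [CommRing R] (M : ModuleCat.{u} R) :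
    ∃ (P : ChainComplex (ModuleCat.{u} R) ℕ) (π : P ⟶ (ChainComplex.single₀ (ModuleCat.{u} R)).obj M),
      (∀ n : ℕ, ∃ (ι : Type u) (Q : ι → Type u) (_ : ∀ i, AddCommGroup (Q i)) (_ : ∀ i, Module R (Q i)),
        (∀ i, Module.FinitePresentation R (Q i)) ∧
        ∃ (s : P.X n →ₗ[R] (Π₀ i, Q i)) (r : (Π₀ i, Q i) →ₗ[R] P.X n), r ∘ₗ s = LinearMap.id) ∧
      ∀ N : ModuleCat.{u} R,
        QuasiIso (((MonoidalCategory.tensorRight N).mapHomologicalComplex (ComplexShape.down ℕ)).map π) := by
  classical
  refine ⟨Groth.Agent.H44.pureProjComplex M, Groth.Agent.H44.pureProjAug M, ?_,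
    Groth.Agent.H44.pureProjAug_univ M⟩
  intro n
  cases n with
  | zero =>
    exact ⟨Groth.Agent.H44.CoverIdx R M, Groth.Agent.H44.CoverMod R M, fun i => inferInstance,
      fun i => inferInstance, fun i => inferInstance, LinearMap.id, LinearMap.id, rfl⟩
  | succ n =>
    exact ⟨Groth.Agent.H44.CoverIdx R (LinearMap.ker (Groth.Agent.H44.stage M n).g.hom),
      Groth.Agent.H44.CoverMod R (LinearMap.ker (Groth.Agent.H44.stage M n).g.hom),
      fun i => inferInstance, fun i => inferInstance, fun i => inferInstance,
      LinearMap.id, LinearMap.id, rfl⟩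

end Groth.Agent.S8774
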