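import Groth.Statements.S8775
import Groth.Agent.H44.PureRes

set_option autoImplicit false
universe u
open CategoryTheory
open PureExt

namespace Groth.Agent.S8775

/-- Let `M → N` be a map of `R`-modules, `P → M` an augmented complex of pure projective modules and `N'
→ N` a universally exact resolution (the augmentation is a quasi-isomorphism after tensoring with
any module). Then there is a map of complexes `P → N'` inducing the given map `M → N` on the
augmentations. -/
theorem result (R : Type u) [CommRing R] {M N : ModuleCat.{u} R}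
    (f : M ⟶ N) (P N' : ChainComplex (ModuleCat.{u} R) ℕ)
    (π : P ⟶ (ChainComplex.single₀ (ModuleCat.{u} R)).obj M)
    (ε : N' ⟶ (ChainComplex.single₀ (ModuleCat.{u} R)).obj N)
    (hP : ∀ n : ℕ, (∀ ⦃L T : Type u⦄ [AddCommGroup L] [Module R L] [AddCommGroup T] [Module R T] (g : L →ₗ[R] T),
          Function.Surjective g → CAlgX.UniversallyInjective R (LinearMap.ker g).subtype →
          ∀ φ : P.X n →ₗ[R] T, ∃ ψ : P.X n →ₗ[R] L, g ∘ₗ ψ = φ))
    (hN' : ∀ T : ModuleCat.{u} R,
      QuasiIso (((MonoidalCategory.tensorRight T).mapHomologicalComplex (ComplexShape.down ℕ)).map ε)) :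
    ∃ φ : P ⟶ N', φ ≫ ε = π ≫ (ChainComplex.single₀ (ModuleCat.{u} R)).map f := by
  classical
  obtain ⟨hsurj, hE0, hEn⟩ := (Groth.Agent.H44.univ_chain_iff N' N ε).mp hN'
  have hdd : ∀ i j k : ℕ, (N'.d j k).hom ∘ₗ (N'.d i j).hom = 0 := fun i j k => by
    rw [← ModuleCat.hom_comp, N'.d_comp_d]; rfl
  have hεd : (ε.f 0).hom ∘ₗ (N'.d 1 0).hom = 0 := by
    rw [← ModuleCat.hom_comp, ← ε.comm 1 0, HomologicalComplex.single_obj_d, Limits.comp_zero]; rfl
  have hπd : (π.f 0).hom ∘ₗ (P.d 1 0).hom = 0 := by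
    rw [← ModuleCat.hom_comp, ← π.comm 1 0, HomologicalComplex.single_obj_d, Limits.comp_zero]; rfl
  -- degree zero
  obtain ⟨z, hz⟩ := Groth.Agent.H44.lift_of_univExactAt (hP 0) (N'.d 2 1).hom (N'.d 1 0).hom
    (ε.f 0).hom (hdd 2 1 0) hεd (hEn 0) hE0 (f.hom ∘ₗ (π.f 0).hom)
    (fun p => by rw [LinearMap.range_eq_top.mpr hsurj]; trivial)
  -- degree one
  obtain ⟨o, ho⟩ := Groth.Agent.H44.lift_of_univExactAt (hP 1) (N'.d 3 2).hom (N'.d 2 1).hom
    (N'.d 1 0).hom (hdd 3 2 1) (hdd 2 1 0) (hEn 1) (hEn 0) (z ∘ₗ (P.d 1 0).hom)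
    (fun p => by
      obtain ⟨y, hy⟩ := hE0.exact (z ((P.d 1 0).hom p)) (by
        have h1 := LinearMap.congr_fun hz ((P.d 1 0).hom p)
        have h2 := LinearMap.congr_fun hπd p
        simp only [LinearMap.comp_apply, LinearMap.zero_apply] at h1 h2
        rw [h1]
        exact (congrArg (fun t => f.hom t) h2).trans (map_zero f.hom))
      exact ⟨y, hy⟩)
  let φ : P ⟶ N' := ChainComplex.mkHom P N' (ModuleCat.ofHom z) (ModuleCat.ofHom o)
    (by
      apply ModuleCat.hom_ext
      rw [ModuleCat.hom_comp, ModuleCat.hom_comp]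
      exact ho)
    (fun n p => by
      have hex : ∃ ψ : P.X (n + 2) →ₗ[R] N'.X (n + 2),
          (N'.d (n + 2) (n + 1)).hom ∘ₗ ψ = p.2.1.hom ∘ₗ (P.d (n + 2) (n + 1)).hom := by
        apply Groth.Agent.H44.lift_of_univExactAt (hP (n + 2)) (N'.d (n + 4) (n + 3)).hom
          (N'.d (n + 3) (n + 2)).hom (N'.d (n + 2) (n + 1)).hom (hdd _ _ _) (hdd _ _ _)
          (hEn (n + 2)) (hEn (n + 1))
        intro q
        obtain ⟨y, hy⟩ := (hEn n).exact (p.2.1.hom ((P.d (n + 2) (n + 1)).hom q)) (by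
          have h1 := congrArg (fun g => g.hom ((P.d (n + 2) (n + 1)).hom q)) p.2.2
          simp only [ModuleCat.hom_comp, LinearMap.comp_apply] at h1
          rw [h1]
          have h2 := congrArg (fun g => g.hom q) (P.d_comp_d (n + 2) (n + 1) n)
          simp only [ModuleCat.hom_comp, LinearMap.comp_apply] at h2
          rw [h2]
          simp)
        exact ⟨y, hy⟩
      exact ⟨ModuleCat.ofHom hex.choose, by
        apply ModuleCat.hom_ext
        rw [ModuleCat.hom_comp, ModuleCat.hom_comp]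
        exact hex.choose_spec⟩)
  refine ⟨φ, ?_⟩
  apply HomologicalComplex.to_single_hom_ext
  rw [HomologicalComplex.comp_f, HomologicalComplex.comp_f]
  have : φ.f 0 = ModuleCat.ofHom z := ChainComplex.mkHom_f_0 _ _ _ _ _ _
  rw [this]
  apply ModuleCat.hom_ext
  rw [ModuleCat.hom_comp, ModuleCat.hom_comp]
  exact hz

end Groth.Agent.S8775
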