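import Groth.Statements.S8776
import Groth.Agent.H44.PureRes

set_option autoImplicit false
universe u
open CategoryTheory
open PureExt

namespace Groth.Agent.S8776

/-- With `M → N`, an augmented complex `P → M` of pure projective modules and a universally exact
resolution `N' → N` (augmentation a quasi-isomorphism after any tensor product), two maps of
complexes `P → N'` inducing the same map `M → N` are homotopic. -/
theorem result (R : Type u) [CommRing R] {M N : ModuleCat.{u} R}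
    (f : M ⟶ N) (P N' : ChainComplex (ModuleCat.{u} R) ℕ)
    (π : P ⟶ (ChainComplex.single₀ (ModuleCat.{u} R)).obj M)
    (ε : N' ⟶ (ChainComplex.single₀ (ModuleCat.{u} R)).obj N)
    (hP : ∀ n : ℕ, (∀ ⦃L T : Type u⦄ [AddCommGroup L] [Module R L] [AddCommGroup T] [Module R T] (g : L →ₗ[R] T),
          Function.Surjective g → CAlgX.UniversallyInjective R (LinearMap.ker g).subtype →
          ∀ φ : P.X n →ₗ[R] T, ∃ ψ : P.X n →ₗ[R] L, g ∘ₗ ψ = φ))
    (hN' : ∀ T : ModuleCat.{u} R,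
      QuasiIso (((MonoidalCategory.tensorRight T).mapHomologicalComplex (ComplexShape.down ℕ)).map ε))
    (α β : P ⟶ N') (hα : α ≫ ε = π ≫ (ChainComplex.single₀ (ModuleCat.{u} R)).map f)
    (hβ : β ≫ ε = π ≫ (ChainComplex.single₀ (ModuleCat.{u} R)).map f) : Nonempty (Homotopy α β) := by
  classical
  obtain ⟨hsurj, hE0, hEn⟩ := (Groth.Agent.H44.univ_chain_iff N' N ε).mp hN'
  have hdd : ∀ i j k : ℕ, (N'.d j k).hom ∘ₗ (N'.d i j).hom = 0 := fun i j k => by
    rw [← ModuleCat.hom_comp, N'.d_comp_d]; rfl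
  have hPdd : ∀ (i j k : ℕ) (q : P.X i), (P.d j k).hom ((P.d i j).hom q) = 0 := fun i j k q => by
    have := congrArg (fun g => g.hom q) (P.d_comp_d i j k)
    exact this
  have he : (α - β) ≫ ε = 0 := by rw [Preadditive.sub_comp, hα, hβ, sub_self]
  have he0 : ∀ p, (ε.f 0).hom (((α - β).f 0).hom p) = 0 := fun p => by
    have := congrArg (fun g => (g.f 0).hom p) he
    exact this
  have hcomm : ∀ (i j : ℕ) (q : P.X i),
      (N'.d i j).hom (((α - β).f i).hom q) = ((α - β).f j).hom ((P.d i j).hom q) := fun i j q => by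
    have := congrArg (fun g => g.hom q) ((α - β).comm i j)
    exact this
  -- degree zero
  obtain ⟨z, hz⟩ := Groth.Agent.H44.lift_of_univExactAt (hP 0) (N'.d 3 2).hom (N'.d 2 1).hom
    (N'.d 1 0).hom (hdd 3 2 1) (hdd 2 1 0) (hEn 1) (hEn 0) ((α - β).f 0).hom
    (fun p => by
      obtain ⟨y, hy⟩ := hE0.exact _ (he0 p)
      exact ⟨y, hy⟩)
  -- degree one
  obtain ⟨o, ho⟩ := Groth.Agent.H44.lift_of_univExactAt (hP 1) (N'.d 4 3).hom (N'.d 3 2).hom
    (N'.d 2 1).hom (hdd 4 3 2) (hdd 3 2 1) (hEn 2) (hEn 1)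
    (((α - β).f 1).hom - z ∘ₗ (P.d 1 0).hom)
    (fun p => by
      obtain ⟨y, hy⟩ := (hEn 0).exact ((((α - β).f 1).hom - z ∘ₗ (P.d 1 0).hom) p) (by
        rw [LinearMap.sub_apply, map_sub, hcomm 1 0 p, LinearMap.comp_apply,
          ← LinearMap.comp_apply (N'.d 1 0).hom z, hz, sub_self])
      exact ⟨y, hy⟩)
  refine ⟨Homotopy.equivSubZero.symm (Homotopy.mkInductive (α - β) (ModuleCat.ofHom z) ?_
    (ModuleCat.ofHom o) ?_ ?_)⟩
  · apply ModuleCat.hom_ext
    rw [ModuleCat.hom_comp]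
    exact hz.symm
  · apply ModuleCat.hom_ext
    rw [ModuleCat.hom_add, ModuleCat.hom_comp, ModuleCat.hom_comp]
    change _ = z ∘ₗ (P.d 1 0).hom + (N'.d 2 1).hom ∘ₗ o
    rw [ho]
    abel
  · intro n p
    have hex : ∃ ψ : P.X (n + 2) →ₗ[R] N'.X (n + 3),
        (N'.d (n + 3) (n + 2)).hom ∘ₗ ψ =
          ((α - β).f (n + 2)).hom - p.2.1.hom ∘ₗ (P.d (n + 2) (n + 1)).hom := by
      apply Groth.Agent.H44.lift_of_univExactAt (hP (n + 2)) (N'.d (n + 5) (n + 4)).hom
        (N'.d (n + 4) (n + 3)).hom (N'.d (n + 3) (n + 2)).hom (hdd _ _ _) (hdd _ _ _)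
        (hEn (n + 3)) (hEn (n + 2))
      intro q
      obtain ⟨y, hy⟩ := (hEn (n + 1)).exact
        ((((α - β).f (n + 2)).hom - p.2.1.hom ∘ₗ (P.d (n + 2) (n + 1)).hom) q) (by
        have hw := congrArg (fun g => g.hom ((P.d (n + 2) (n + 1)).hom q)) p.2.2
        simp only [ModuleCat.hom_add, ModuleCat.hom_comp, LinearMap.add_apply,
          LinearMap.comp_apply] at hw
        rw [LinearMap.sub_apply, map_sub, hcomm (n + 2) (n + 1) q, LinearMap.comp_apply, hw,
          hPdd, map_zero, zero_add, sub_self])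
      exact ⟨y, hy⟩
    refine ⟨ModuleCat.ofHom hex.choose, ?_⟩
    apply ModuleCat.hom_ext
    rw [ModuleCat.hom_add, ModuleCat.hom_comp, ModuleCat.hom_comp]
    change _ = p.2.1.hom ∘ₗ (P.d (n + 2) (n + 1)).hom + (N'.d (n + 3) (n + 2)).hom ∘ₗ hex.choose
    rw [hex.choose_spec]
    abel

end Groth.Agent.S8776
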