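import Groth.Statements.S8777
import Groth.Agent.H44.PureInjRes

set_option autoImplicit false
universe u
open CategoryTheory
open PureExt

namespace Groth.Agent.S8777

/-- Every `R`-module `M` has a pure injective resolution: a complex `I^0 → I^1 → …` with a
coaugmentation from `M` such that each `I^n` is pure injective (every linear map into `I^n` extends
along every universally injective map) and `0 → M → I^0 → I^1 → …` is universally exact, i.e. the
coaugmentation stays a quasi-isomorphism after tensoring with any `R`-module. -/
theorem result (R : Type u) [CommRing R] (M : ModuleCat.{u} R) :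
    ∃ (I : CochainComplex (ModuleCat.{u} R) ℕ) (η : (CochainComplex.single₀ (ModuleCat.{u} R)).obj M ⟶ I),
      (∀ n : ℕ, (∀ ⦃K L : Type u⦄ [AddCommGroup K] [Module R K] [AddCommGroup L] [Module R L] (g : K →ₗ[R] L),
          CAlgX.UniversallyInjective R g → ∀ φ : K →ₗ[R] I.X n, ∃ ψ : L →ₗ[R] I.X n, ψ ∘ₗ g = φ)) ∧
      ∀ T : ModuleCat.{u} R,
      QuasiIso (((MonoidalCategory.tensorRight T).mapHomologicalComplex (ComplexShape.up ℕ)).map η) := by
  classical
  refine ⟨Groth.Agent.H44.pureInjComplex M, Groth.Agent.H44.pureInjAug M, ?_,
    Groth.Agent.H44.pureInjAug_univ M⟩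
  intro n
  cases n with
  | zero =>
    intro K L _ _ _ _ g hg φ
    exact Groth.Agent.H44.characterModule_pureInjective R (CharacterModule M) g hg φ
  | succ n =>
    intro K L _ _ _ _ g hg φ
    exact Groth.Agent.H44.characterModule_pureInjective R
      (CharacterModule ((Groth.Agent.H44.coStage M n).Y ⧸
        LinearMap.range (Groth.Agent.H44.coStage M n).g.hom)) g hg φ

end Groth.Agent.S8777
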