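import Groth.Statements.S8778
import Groth.Agent.H44.PureRes

set_option autoImplicit false
universe u
open CategoryTheory
open PureExt

namespace Groth.Agent.S8778

/-- Let `M → N` be a map of `R`-modules, `M → M'` a universally exact resolution (the coaugmentation is
a quasi-isomorphism after tensoring with any module) and `N → I` a coaugmented cochain complex of
pure injective modules. Then there is a map of complexes `M' → I` inducing the given map `M → N` on
the coaugmentations. -/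
theorem result (R : Type u) [CommRing R] {M N : ModuleCat.{u} R}
    (f : M ⟶ N) (M' I : CochainComplex (ModuleCat.{u} R) ℕ)
    (η : (CochainComplex.single₀ (ModuleCat.{u} R)).obj M ⟶ M')
    (ε : (CochainComplex.single₀ (ModuleCat.{u} R)).obj N ⟶ I)
    (hM' : ∀ T : ModuleCat.{u} R,
      QuasiIso (((MonoidalCategory.tensorRight T).mapHomologicalComplex (ComplexShape.up ℕ)).map η))
    (hI : ∀ n : ℕ, (∀ ⦃K L : Type u⦄ [AddCommGroup K] [Module R K] [AddCommGroup L] [Module R L] (g : K →ₗ[R] L),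
          CAlgX.UniversallyInjective R g → ∀ φ : K →ₗ[R] I.X n, ∃ ψ : L →ₗ[R] I.X n, ψ ∘ₗ g = φ)) :
    ∃ φ : M' ⟶ I, η ≫ φ = (CochainComplex.single₀ (ModuleCat.{u} R)).map f ≫ ε := by
  classical
  obtain ⟨hinj, hE0, hEn⟩ := (Groth.Agent.H44.univ_cochain_iff M' M η).mp hM'
  have hdd : ∀ i j k : ℕ, (M'.d j k).hom ∘ₗ (M'.d i j).hom = 0 := fun i j k => by
    rw [← ModuleCat.hom_comp, M'.d_comp_d]; rfl
  have hdη : (M'.d 0 1).hom ∘ₗ (η.f 0).hom = 0 := by
    rw [← ModuleCat.hom_comp, η.comm 0 1, HomologicalComplex.single_obj_d, Limits.zero_comp]; rfl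
  have hdε : (I.d 0 1).hom ∘ₗ (ε.f 0).hom = 0 := by
    rw [← ModuleCat.hom_comp, ε.comm 0 1, HomologicalComplex.single_obj_d, Limits.zero_comp]; rfl
  -- degree zero
  obtain ⟨z, hz⟩ := hI 0 (η.f 0).hom hinj ((ε.f 0).hom ∘ₗ f.hom)
  -- degree one
  obtain ⟨o, ho⟩ := Groth.Agent.H44.extend_of_univExactAt (hI 1) (η.f 0).hom (M'.d 0 1).hom
    hdη hE0 ((I.d 0 1).hom ∘ₗ z) (by
      rw [LinearMap.comp_assoc, hz, ← LinearMap.comp_assoc, hdε, LinearMap.zero_comp])
  let φ : M' ⟶ I := CochainComplex.mkHom M' I (ModuleCat.ofHom z) (ModuleCat.ofHom o)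
    (by
      apply ModuleCat.hom_ext
      rw [ModuleCat.hom_comp, ModuleCat.hom_comp]
      exact ho.symm)
    (fun n p => by
      have hex : ∃ ψ : M'.X (n + 2) →ₗ[R] I.X (n + 2),
          ψ ∘ₗ (M'.d (n + 1) (n + 2)).hom = (I.d (n + 1) (n + 2)).hom ∘ₗ p.2.1.hom := by
        apply Groth.Agent.H44.extend_of_univExactAt (hI (n + 2)) (M'.d n (n + 1)).hom
          (M'.d (n + 1) (n + 2)).hom (hdd _ _ _) (hEn n)
        have h1 := congrArg ModuleCat.Hom.hom p.2.2
        rw [ModuleCat.hom_comp, ModuleCat.hom_comp] at h1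
        rw [LinearMap.comp_assoc, ← h1, ← LinearMap.comp_assoc, ← ModuleCat.hom_comp,
          I.d_comp_d]
        rfl
      exact ⟨ModuleCat.ofHom hex.choose, by
        apply ModuleCat.hom_ext
        rw [ModuleCat.hom_comp, ModuleCat.hom_comp]
        exact hex.choose_spec.symm⟩)
  refine ⟨φ, ?_⟩
  apply HomologicalComplex.from_single_hom_ext
  rw [HomologicalComplex.comp_f, HomologicalComplex.comp_f]
  have : φ.f 0 = ModuleCat.ofHom z := CochainComplex.mkHom_f_0 _ _ _ _ _ _
  rw [this]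
  apply ModuleCat.hom_ext
  rw [ModuleCat.hom_comp, ModuleCat.hom_comp]
  exact hz

end Groth.Agent.S8778
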