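import Groth.Statements.S8779
import Groth.Agent.H44.PureRes

set_option autoImplicit false
universe u
open CategoryTheory
open PureExt

namespace Groth.Agent.S8779

/-- With `M → N` a map of `R`-modules, `M → M'` a universally exact resolution and `N → I` a coaugmented
cochain complex of pure injective modules, two maps of complexes `M' → I` inducing the same map `M →
N` are homotopic. -/
theorem result (R : Type u) [CommRing R] {M N : ModuleCat.{u} R}
    (f : M ⟶ N) (M' I : CochainComplex (ModuleCat.{u} R) ℕ)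
    (η : (CochainComplex.single₀ (ModuleCat.{u} R)).obj M ⟶ M')
    (ε : (CochainComplex.single₀ (ModuleCat.{u} R)).obj N ⟶ I)
    (hM' : ∀ T : ModuleCat.{u} R,
      QuasiIso (((MonoidalCategory.tensorRight T).mapHomologicalComplex (ComplexShape.up ℕ)).map η))
    (hI : ∀ n : ℕ, (∀ ⦃K L : Type u⦄ [AddCommGroup K] [Module R K] [AddCommGroup L] [Module R L] (g : K →ₗ[R] L),
          CAlgX.UniversallyInjective R g → ∀ φ : K →ₗ[R] I.X n, ∃ ψ : L →ₗ[R] I.X n, ψ ∘ₗ g = φ))
    (α β : M' ⟶ I) (hα : η ≫ α = (CochainComplex.single₀ (ModuleCat.{u} R)).map f ≫ ε)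
    (hβ : η ≫ β = (CochainComplex.single₀ (ModuleCat.{u} R)).map f ≫ ε) : Nonempty (Homotopy α β) := by
  classical
  obtain ⟨hinj, hE0, hEn⟩ := (Groth.Agent.H44.univ_cochain_iff M' M η).mp hM'
  have hdd : ∀ i j k : ℕ, (M'.d j k).hom ∘ₗ (M'.d i j).hom = 0 := fun i j k => by
    rw [← ModuleCat.hom_comp, M'.d_comp_d]; rfl
  have hIdd : ∀ (i j k : ℕ) (q : I.X i), (I.d j k).hom ((I.d i j).hom q) = 0 := fun i j k q => by
    have := congrArg (fun g => g.hom q) (I.d_comp_d i j k)
    exact this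
  have hdη : (M'.d 0 1).hom ∘ₗ (η.f 0).hom = 0 := by
    rw [← ModuleCat.hom_comp, η.comm 0 1, HomologicalComplex.single_obj_d, Limits.zero_comp]; rfl
  have he : η ≫ (α - β) = 0 := by rw [Preadditive.comp_sub, hα, hβ, sub_self]
  have he0 : ((α - β).f 0).hom ∘ₗ (η.f 0).hom = 0 := by
    have := congrArg (fun g => (g.f 0).hom) he
    exact this
  have hcomm : ∀ (i j : ℕ) (q : M'.X i),
      (I.d i j).hom (((α - β).f i).hom q) = ((α - β).f j).hom ((M'.d i j).hom q) := fun i j q => by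
    have := congrArg (fun g => g.hom q) ((α - β).comm i j)
    exact this
  -- degree zero
  obtain ⟨z, hz⟩ := Groth.Agent.H44.extend_of_univExactAt (hI 0) (η.f 0).hom (M'.d 0 1).hom
    hdη hE0 ((α - β).f 0).hom he0
  -- degree one
  obtain ⟨o, ho⟩ := Groth.Agent.H44.extend_of_univExactAt (hI 1) (M'.d 0 1).hom (M'.d 1 2).hom
    (hdd 0 1 2) (hEn 0) (((α - β).f 1).hom - (I.d 0 1).hom ∘ₗ z) (by
      ext q
      rw [LinearMap.comp_apply, LinearMap.sub_apply, LinearMap.comp_apply, ← hcomm 0 1 q,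
        ← LinearMap.comp_apply z, hz, sub_self, LinearMap.zero_apply])
  refine ⟨Homotopy.equivSubZero.symm (Homotopy.mkCoinductive (α - β) (ModuleCat.ofHom z) ?_
    (ModuleCat.ofHom o) ?_ ?_)⟩
  · apply ModuleCat.hom_ext
    rw [ModuleCat.hom_comp]
    exact hz.symm
  · apply ModuleCat.hom_ext
    rw [ModuleCat.hom_add, ModuleCat.hom_comp, ModuleCat.hom_comp]
    change _ = (I.d 0 1).hom ∘ₗ z + o ∘ₗ (M'.d 1 2).hom
    rw [ho]
    abel
  · intro n p
    have hex : ∃ ψ : M'.X (n + 3) →ₗ[R] I.X (n + 2),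
        ψ ∘ₗ (M'.d (n + 2) (n + 3)).hom =
          ((α - β).f (n + 2)).hom - (I.d (n + 1) (n + 2)).hom ∘ₗ p.2.1.hom := by
      apply Groth.Agent.H44.extend_of_univExactAt (hI (n + 2)) (M'.d (n + 1) (n + 2)).hom
        (M'.d (n + 2) (n + 3)).hom (hdd _ _ _) (hEn (n + 1))
      ext q
      have hw := congrArg (fun g => (I.d (n + 1) (n + 2)).hom (g.hom q)) p.2.2
      simp only [ModuleCat.hom_add, ModuleCat.hom_comp, LinearMap.add_apply,
        LinearMap.comp_apply, map_add, hIdd, zero_add] at hw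
      rw [LinearMap.comp_apply, LinearMap.sub_apply, LinearMap.comp_apply, ← hw,
        hcomm (n + 1) (n + 2) q, sub_self, LinearMap.zero_apply]
    refine ⟨ModuleCat.ofHom hex.choose, ?_⟩
    apply ModuleCat.hom_ext
    rw [ModuleCat.hom_add, ModuleCat.hom_comp, ModuleCat.hom_comp]
    change _ = (I.d (n + 1) (n + 2)).hom ∘ₗ p.2.1.hom + hex.choose ∘ₗ (M'.d (n + 2) (n + 3)).hom
    rw [hex.choose_spec]
    abel

end Groth.Agent.S8779
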