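import Groth.Statements.S8780
import Groth.Agent.H44.MVFInj
import Groth.Agent.H44.Tangent

set_option autoImplicit false
universe u
open CategoryTheory Limits
open AdeqTF

namespace Groth.Agent.S8780

/-- Take `I` injective in the category of module-valued functors on `A`-algebras. For every `A`-algebra
`B` and every short exact sequence `0 → N₁ → N → N₂ → 0` of `B`-modules, the induced map of tangent
modules `TI(B, N) → TI(B, N₂)` is surjective (`TI(B, N)` is the kernel of `I(B[N]) → I(B)`, `B[N]`
the trivial square-zero extension). (The published statement asserts that `TI(B, N₁) → TI(B, N) →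
TI(B, N₂) → 0` is exact; exactness at the middle term is false: for `A = B = ℚ`, the split sequence
`0 → ℚ → ℚ² → ℚ → 0` and the injective functor `D ↦ Map(Hom(D, ℚ[ε]/(ε²)), E)` with `E` an injective
hull of `ℚ[ε]/(ε²)`, the indicator function of the first coordinate form lies in the kernel of
`TI(B, ℚ²) → TI(B, ℚ)` and not in the image of `TI(B, ℚ) → TI(B, ℚ²)`. This row keeps the
surjectivity, which the published argument does establish.) -/
theorem result (A : Type u) [CommRing A] (I : Adeq.MVF A) [Injective I]
    (B : Adeq.Alg A) (S : ShortComplex (ModuleCat.{u} B)) (hS : S.ShortExact) :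
    Function.Surjective (AdeqTF.tangentMap B I S.g) := by
  intro ⟨y, hy⟩
  have hy0 : I.map (Adeq.ptHom (fst B S.X₃)) y = 0 := hy
  have hg : Function.Surjective S.g := (ModuleCat.epi_iff_surjective S.g).1 hS.epi_g
  have hq : Function.Surjective (map B S.g).hom := by
    intro z
    obtain ⟨n, hn⟩ := hg z.snd
    refine ⟨TrivSqZeroExt.inl z.fst + TrivSqZeroExt.inr n, ?_⟩
    change TrivSqZeroExt.map S.g.hom (TrivSqZeroExt.inl z.fst + TrivSqZeroExt.inr n) = z
    rw [map_add, TrivSqZeroExt.map_inl, TrivSqZeroExt.map_inr]
    change TrivSqZeroExt.inl z.fst + TrivSqZeroExt.inr (S.g n) = z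
    rw [hn, TrivSqZeroExt.inl_fst_add_inr_snd_eq]
  obtain ⟨x', hx'⟩ := Groth.Agent.H44.injective_map_surjective I (map B S.g) hq y
  refine ⟨Groth.Agent.H44.retr B S.X₂ I x', ?_⟩
  rw [Groth.Agent.H44.tangentMap_retr]
  have : Groth.Agent.H44.ev I (map B S.g) x' = y := hx'
  rw [this]
  exact Groth.Agent.H44.retr_of_mem B S.X₃ I ⟨y, hy⟩

end Groth.Agent.S8780
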