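import Groth.Statements.S8782
import Groth.Agent.H44.TangentExact
import Groth.Agent.H44.Chase

set_option autoImplicit false
universe u
open CategoryTheory Limits
open AdeqTF

namespace Groth.Agent.S8782

/-- If `0 → F → G → H → 0` is a short exact sequence of module-valued functors on `A`-algebras and `F`,
`H` have right exact tangent functors (for every `A`-algebra `B` and short exact `0 → N₁ → N → N₂ →
0` of `B`-modules, `T(B, N₁) → T(B, N) → T(B, N₂) → 0` is exact), so does `G`. -/
theorem result (A : Type u) [CommRing A] (C : ShortComplex (Adeq.MVF A))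
    (hC : C.ShortExact)
    (h₁ : (∀ (B : Adeq.Alg A) (S : ShortComplex (ModuleCat.{u} B)), S.ShortExact →
        Function.Surjective (AdeqTF.tangentMap B C.X₁ S.g) ∧
          (AdeqTF.tangentMap B C.X₁ S.g).ker = (AdeqTF.tangentMap B C.X₁ S.f).range))
    (h₃ : (∀ (B : Adeq.Alg A) (S : ShortComplex (ModuleCat.{u} B)), S.ShortExact →
        Function.Surjective (AdeqTF.tangentMap B C.X₃ S.g) ∧
          (AdeqTF.tangentMap B C.X₃ S.g).ker = (AdeqTF.tangentMap B C.X₃ S.f).range)) :
    (∀ (B : Adeq.Alg A) (S : ShortComplex (ModuleCat.{u} B)), S.ShortExact →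
        Function.Surjective (AdeqTF.tangentMap B C.X₂ S.g) ∧
          (AdeqTF.tangentMap B C.X₂ S.g).ker = (AdeqTF.tangentMap B C.X₂ S.f).range) := by
  intro B S hS
  obtain ⟨h1s, h1e⟩ := h₁ B S hS
  obtain ⟨h3s, h3e⟩ := h₃ B S hS
  refine Groth.Agent.H44.chase_G
    (tangentMap B C.X₁ S.f) (tangentMap B C.X₁ S.g)
    (tangentMap B C.X₂ S.f) (tangentMap B C.X₂ S.g)
    (tangentMap B C.X₃ S.f) (tangentMap B C.X₃ S.g)
    (Groth.Agent.H44.tangentApp B S.X₁ C.f)
    (Groth.Agent.H44.tangentApp B S.X₂ C.f) (Groth.Agent.H44.tangentApp B S.X₃ C.f)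
    (Groth.Agent.H44.tangentApp B S.X₁ C.g) (Groth.Agent.H44.tangentApp B S.X₂ C.g)
    (Groth.Agent.H44.tangentApp B S.X₃ C.g)
    (fun x => Groth.Agent.H44.tangentApp_tangentMap B S.f C.f x)
    (fun x => Groth.Agent.H44.tangentApp_tangentMap B S.g C.f x)
    (fun x => Groth.Agent.H44.tangentApp_tangentMap B S.f C.g x)
    (fun x => Groth.Agent.H44.tangentApp_tangentMap B S.g C.g x)
    (Groth.Agent.H44.tangentApp_injective B C hC S.X₃)
    (Groth.Agent.H44.tangentApp_surjective B C hC S.X₁)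
    (Groth.Agent.H44.tangentApp_surjective B C hC S.X₂)
    (Groth.Agent.H44.tangentApp_exact B C hC S.X₂)
    (Groth.Agent.H44.tangentApp_exact B C hC S.X₃)
    h1s h1e h3s h3e ?_
  intro x
  rw [← Groth.Agent.H44.tangentMap_comp, Groth.Agent.H44.tangentMap_congr B C.X₂ S.zero,
    Groth.Agent.H44.tangentMap_zero]

end Groth.Agent.S8782
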