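import Groth.Statements.S8783
import Groth.Agent.H44.Tangent
import Mathlib.Algebra.Homology.ShortComplex.ShortExact

set_option autoImplicit false
universe u
open CategoryTheory Limits
open AdeqTF

namespace Groth.Agent.S8783

/-- Let `F` be a module-valued functor on `A`-algebras with right exact tangent functors (for every
`A`-algebra `B` and short exact `0 → N₁ → N → N₂ → 0` of `B`-modules, `TF(B, N₁) → TF(B, N) → TF(B,
N₂) → 0` is exact). Then `TF(B, N₁ ⊕ N₂) = TF(B, N₁) ⊕ TF(B, N₂)`: the map from the product induced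
by the two inclusions is bijective. -/
theorem result (A : Type u) [CommRing A] (F : Adeq.MVF A)
    (hF : (∀ (B : Adeq.Alg A) (S : ShortComplex (ModuleCat.{u} B)), S.ShortExact →
        Function.Surjective (AdeqTF.tangentMap B F S.g) ∧
          (AdeqTF.tangentMap B F S.g).ker = (AdeqTF.tangentMap B F S.f).range))
    (B : Adeq.Alg A) (N₁ N₂ : ModuleCat.{u} B) :
    Function.Bijective ((AdeqTF.tangentMap B F (biprod.inl : N₁ ⟶ N₁ ⊞ N₂)).coprod
      (AdeqTF.tangentMap B F (biprod.inr : N₂ ⟶ N₁ ⊞ N₂))) := by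
  have hSE : (ShortComplex.mk (biprod.inl : N₁ ⟶ N₁ ⊞ N₂) (biprod.snd : N₁ ⊞ N₂ ⟶ N₂)
      (by simp)).ShortExact := (ShortComplex.Splitting.ofHasBinaryBiproduct N₁ N₂).shortExact
  obtain ⟨-, hker⟩ := hF B _ hSE
  dsimp only at hker
  constructor
  · rw [injective_iff_map_eq_zero]
    rintro ⟨a, b⟩ hab
    rw [AddMonoidHom.coprod_apply] at hab
    dsimp only at hab
    have hb : b = 0 := by
      have h := congrArg (tangentMap B F (biprod.snd : N₁ ⊞ N₂ ⟶ N₂)) hab
      rw [map_add, ← Groth.Agent.H44.tangentMap_comp, ← Groth.Agent.H44.tangentMap_comp,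
        Groth.Agent.H44.tangentMap_congr B F (biprod.inl_snd : (biprod.inl : N₁ ⟶ N₁ ⊞ N₂) ≫ _ = 0),
        Groth.Agent.H44.tangentMap_congr B F (biprod.inr_snd : (biprod.inr : N₂ ⟶ N₁ ⊞ N₂) ≫ _ = _),
        Groth.Agent.H44.tangentMap_zero, Groth.Agent.H44.tangentMap_id, zero_add, map_zero] at h
      exact h
    have ha : a = 0 := by
      have h := congrArg (tangentMap B F (biprod.fst : N₁ ⊞ N₂ ⟶ N₁)) hab
      rw [map_add, ← Groth.Agent.H44.tangentMap_comp, ← Groth.Agent.H44.tangentMap_comp,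
        Groth.Agent.H44.tangentMap_congr B F (biprod.inl_fst : (biprod.inl : N₁ ⟶ N₁ ⊞ N₂) ≫ _ = _),
        Groth.Agent.H44.tangentMap_congr B F (biprod.inr_fst : (biprod.inr : N₂ ⟶ N₁ ⊞ N₂) ≫ _ = 0),
        Groth.Agent.H44.tangentMap_zero, Groth.Agent.H44.tangentMap_id, add_zero, map_zero] at h
      exact h
    rw [ha, hb]
    rfl
  · intro t
    let b := tangentMap B F (biprod.snd : N₁ ⊞ N₂ ⟶ N₂) t
    have hmem : t - tangentMap B F (biprod.inr : N₂ ⟶ N₁ ⊞ N₂) b ∈
        (tangentMap B F (biprod.snd : N₁ ⊞ N₂ ⟶ N₂)).ker := by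
      rw [AddMonoidHom.mem_ker, map_sub, ← Groth.Agent.H44.tangentMap_comp,
        Groth.Agent.H44.tangentMap_congr B F (biprod.inr_snd : (biprod.inr : N₂ ⟶ N₁ ⊞ N₂) ≫ _ = _),
        Groth.Agent.H44.tangentMap_id, sub_self]
    rw [hker] at hmem
    obtain ⟨a, ha⟩ := hmem
    refine ⟨(a, b), ?_⟩
    rw [AddMonoidHom.coprod_apply]
    dsimp only
    rw [ha]
    abel

end Groth.Agent.S8783
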