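import Groth.Statements.S8799
import Mathlib
import Groth.Agent.H2.LCArtinian
import Groth.Agent.H2.ArtinEssConst

set_option autoImplicit false
universe u
open CategoryTheory Opposite
open LocCoh

namespace Groth.Agent.S8799

/-- Let (A, m) be a Noetherian local ring, (M_n) an inverse system of finite A-modules, and M a finite
A-module with a compatible system of maps M → M_n. Suppose that for some i the induced map H^i_m(M)
→ lim H^i_m(M_n) on local cohomology is bijective, in the sense that an element of H^i_m(M)
vanishing in every H^i_m(M_n) is zero and every compatible family in the H^i_m(M_n) comes from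
H^i_m(M). We conclude that, taking the cone formed by the given maps, essential constancy holds for
the local cohomology system (H^i_m(M_n))_n, and the value it stabilizes at is H^i_m(M). -/
theorem result (A : Type u) [CommRing A] [IsNoetherianRing A] [IsLocalRing A] (Msys : ℕᵒᵖ ⥤ ModuleCat.{u} A) (hfin : ∀ n : ℕᵒᵖ, Module.Finite A (Msys.obj n)) (M : Type u) [AddCommGroup M] [Module A M] [Module.Finite A M] (c : (Functor.const ℕᵒᵖ).obj (ModuleCat.of A M) ⟶ Msys) (i : ℕ) (Hc : (Functor.const ℕᵒᵖ).obj ((localCohomology (IsLocalRing.maximalIdeal A) i).obj (ModuleCat.of A M)) ⟶ Msys ⋙ localCohomology (IsLocalRing.maximalIdeal A) i) (hHc : ∀ n : ℕᵒᵖ, Hc.app n = (localCohomology (IsLocalRing.maximalIdeal A) i).map (c.app n)) (hinj : ∀ x : (localCohomology (IsLocalRing.maximalIdeal A) i).obj (ModuleCat.of A M), (∀ n : ℕᵒᵖ, (Hc.app n) x = 0) → x = 0) (hsurj : ∀ y : (∀ n : ℕ, (localCohomology (IsLocalRing.maximalIdeal A) i).obj (Msys.obj (op n))), (∀ (n m : ℕ) (h : n ≤ m), ((localCohomology (IsLocalRing.maximalIdeal A) i).map (Msys.map (homOfLE h).op))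 (y m) = y n) → ∃ x : (localCohomology (IsLocalRing.maximalIdeal A) i).obj (ModuleCat.of A M), ∀ n : ℕ, (Hc.app (op n)) x = y n) : DerCA.IsEssConstant (Msys ⋙ localCohomology (IsLocalRing.maximalIdeal A) i) ((localCohomology (IsLocalRing.maximalIdeal A) i).obj (ModuleCat.of A M)) Hc := by
  have hArt : ∀ n : ℕ, IsArtinian A
      ((Msys ⋙ localCohomology (IsLocalRing.maximalIdeal A) i).obj (op n)) := by
    intro n
    have := hfin (op n)
    exact Groth.Agent.H2.LCArtinian.isArtinian_H i (Msys.obj (op n))
  have hArtL : IsArtinian A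
      ((localCohomology (IsLocalRing.maximalIdeal A) i).obj (ModuleCat.of A M)) :=
    Groth.Agent.H2.LCArtinian.isArtinian_H i M
  let cmap : ∀ n : ℕ, ((localCohomology (IsLocalRing.maximalIdeal A) i).obj (ModuleCat.of A M)) →ₗ[A]
      ((Msys ⋙ localCohomology (IsLocalRing.maximalIdeal A) i).obj (op n)) :=
    fun n => (Hc.app (op n)).hom
  have key := Groth.Agent.H2.ArtinEssConst.essConst (A := A)
    (fun n : ℕ => (Msys ⋙ localCohomology (IsLocalRing.maximalIdeal A) i).obj (op n))
    (fun {n m} h => (ARSys.tr (Msys ⋙ localCohomology (IsLocalRing.maximalIdeal A) i) h).hom)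
    (by
      intro n h x
      have : (homOfLE h).op = 𝟙 (op n) := Subsingleton.elim _ _
      change ((Msys ⋙ localCohomology (IsLocalRing.maximalIdeal A) i).map (homOfLE h).op).hom x = x
      rw [this, CategoryTheory.Functor.map_id]
      rfl)
    (by
      intro n m k h1 h2 x
      change ((Msys ⋙ localCohomology (IsLocalRing.maximalIdeal A) i).map (homOfLE h1).op).hom
        (((Msys ⋙ localCohomology (IsLocalRing.maximalIdeal A) i).map (homOfLE h2).op).hom x) =
        ((Msys ⋙ localCohomology (IsLocalRing.maximalIdeal A) i).map (homOfLE (h1.trans h2)).op).hom x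
      have : (homOfLE (h1.trans h2)).op = (homOfLE h2).op ≫ (homOfLE h1).op :=
        Subsingleton.elim _ _
      rw [this, CategoryTheory.Functor.map_comp]
      rfl)
    ((localCohomology (IsLocalRing.maximalIdeal A) i).obj (ModuleCat.of A M))
    cmap
    (by
      intro n m h x
      have := Hc.naturality (homOfLE h).op
      have h2 := congrArg (fun φ => φ.hom x) this
      simp only [Functor.const_obj_obj, Functor.const_obj_map, Category.id_comp] at h2
      exact h2.symm)
    (fun x hx => hinj x (fun n => hx n.unop))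
    (fun y hy => hsurj y hy)
  obtain ⟨i₀, s, hs1, hs2⟩ := key
  refine ⟨i₀, ModuleCat.ofHom s, ?_, ?_⟩
  · ext x
    exact hs1 x
  · intro j
    obtain ⟨k, hi, hj, h⟩ := hs2 j
    refine ⟨k, hi, hj, ?_⟩
    ext y
    exact h y

end Groth.Agent.S8799
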