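import Groth.Statements.S8801
import Groth.Agent.H3.ComplQuot
import Groth.Agent.H3.EtNbhdImage
import Groth.Agent.H3.HensCompletion
import Groth.Agent.H3.HensNoeth

set_option autoImplicit false
universe u
open AdicRing

namespace Groth.Agent.S8801

/-- Let A be a Noetherian ring and I an ideal. Let C be an A-algebra of finite type and Cʰ a
henselization of the pair (C, IC), viewed as an A-algebra through C, and let J be an ideal of Cʰ.
Then there is an A-algebra B of finite type whose IB-adic completion is isomorphic as an A-algebra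
to the I(Cʰ/J)-adic completion of Cʰ/J (existence of an isomorphism only; the published statement
names no particular map). -/
theorem result (A : Type u) [CommRing A] [IsNoetherianRing A] (I : Ideal A) (C : Type u) [CommRing C] [Algebra A C] [Algebra.FiniteType A C] (Ch : Type u) [CommRing Ch] [Algebra C Ch] [Algebra A Ch] [IsScalarTower A C Ch] (hCh : Hens2.IsPairHenselization C (I.map (algebraMap A C)) Ch) (J : Ideal Ch) : ∃ (B : Type u) (_ : CommRing B) (_ : Algebra A B), Algebra.FiniteType A B ∧ Nonempty (AdicCompletion (I.map (algebraMap A B)) B ≃ₐ[A] AdicCompletion (I.map (algebraMap A (Ch ⧸ J))) (Ch ⧸ J)) := by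
  classical
  open Groth.Agent.H3 in
  have hCN : IsNoetherianRing C := Algebra.FiniteType.isNoetherianRing A C
  have hChN : IsNoetherianRing Ch := Groth.Agent.H3.HensNoeth.isNoetherianRing hCh
  obtain ⟨s, hs⟩ := (isNoetherianRing_iff_ideal_fg Ch).mp hChN J
  obtain ⟨C', _, _, hN, φ, hφ⟩ := Groth.Agent.H3.EtNbhd.inImage_finset hCh s
  have hEt : Algebra.Etale C C' := hN.etale
  letI : Algebra C' Ch := φ.toRingHom.toAlgebra
  have hφa : ∀ x, algebraMap C' Ch x = φ x := fun x => rfl
  have : IsScalarTower C C' Ch := IsScalarTower.of_algebraMap_eq fun a => (φ.commutes a).symm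
  letI : Algebra A C' := ((algebraMap C C').comp (algebraMap A C)).toAlgebra
  have : IsScalarTower A C C' := IsScalarTower.of_algebraMap_eq' rfl
  have hACh : ∀ a : A, φ (algebraMap A C' a) = algebraMap A Ch a := by
    intro a
    change φ (algebraMap C C' (algebraMap A C a)) = _
    rw [φ.commutes, ← IsScalarTower.algebraMap_apply]
  have hCh' := Groth.Agent.H3.EtNbhd.isPairHenselization_nbhd hCh hN
  set L : Ideal C' := (I.map (algebraMap A C)).map (algebraMap C C') with hL
  have hLA : L = I.map (algebraMap A C') := by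
    rw [hL, Ideal.map_map]; rfl
  have hss : ∀ (n : ℕ) (t : Ch), ∃ c : C', t - φ.toRingHom c ∈ (L ^ n).map φ.toRingHom :=
    fun n t => Groth.Agent.H3.HensCompletion.exists_sub_mem_pow hCh' n t
  have hii : ∀ (n : ℕ) (c : C'), φ.toRingHom c ∈ (L ^ n).map φ.toRingHom → c ∈ L ^ n :=
    fun n c hc => Groth.Agent.H3.HensCompletion.mem_pow_of_algebraMap_mem hCh' n hc
  have hJ : J = (J.comap φ.toRingHom).map φ.toRingHom := by
    apply le_antisymm
    · rw [← hs, Ideal.span_le]
      intro x hx
      obtain ⟨x', rfl⟩ := hφ hx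
      refine Ideal.mem_map_of_mem _ ?_
      rw [Ideal.mem_comap]
      exact Ideal.subset_span hx
    · exact Ideal.map_comap_le
  have hFT : Algebra.FiniteType A C' := by
    have : Algebra.FiniteType C C' := inferInstance
    exact Algebra.FiniteType.trans (S := C) inferInstance inferInstance
  let B := C' ⧸ J.comap φ.toRingHom
  let ψ : B →+* Ch ⧸ J := Ideal.quotientMap J φ.toRingHom le_rfl
  have hψ : ∀ a : A, ψ (algebraMap A B a) = algebraMap A (Ch ⧸ J) a := by
    intro a
    change ψ (Ideal.Quotient.mk _ (algebraMap A C' a)) = Ideal.Quotient.mk _ (algebraMap A Ch a)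
    rw [Ideal.quotientMap_mk]
    exact congrArg _ (hACh a)
  have hKB : I.map (algebraMap A B) = L.map (Ideal.Quotient.mk _) := by
    rw [hLA, Ideal.map_map]; rfl
  have hKT : I.map (algebraMap A (Ch ⧸ J)) = (L.map φ.toRingHom).map (Ideal.Quotient.mk _) := by
    rw [hLA, Ideal.map_map, Ideal.map_map]
    congr 1
    ext a
    exact (congrArg (Ideal.Quotient.mk J) (hACh a)).symm
  have hle : (I.map (algebraMap A B)).map ψ ≤ I.map (algebraMap A (Ch ⧸ J)) := by
    rw [Ideal.map_map]
    apply le_of_eq
    congr 1
    ext a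
    exact hψ a
  have hbij := Groth.Agent.H20.complMap_bijective (I.map (algebraMap A B))
    (I.map (algebraMap A (Ch ⧸ J))) ψ hle (fun n =>
      Groth.Agent.H3.ComplQuot.quotientMap_bijective φ.toRingHom L hss hii J hJ _ _ hKB hKT n _)
  refine ⟨B, inferInstance, inferInstance, ?_, ⟨?_⟩⟩
  · exact Algebra.FiniteType.of_surjective (Ideal.Quotient.mkₐ A _) Ideal.Quotient.mk_surjective
  · refine AlgEquiv.ofRingEquiv (f := RingEquiv.ofBijective _ hbij) ?_
    intro a
    change FSch.complMap _ _ ψ hle (AdicCompletion.of _ _ (algebraMap A B a)) =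
      AdicCompletion.of _ _ (algebraMap A (Ch ⧸ J) a)
    rw [Groth.Agent.H20.complMap_of, hψ]

end Groth.Agent.S8801
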