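import Groth.Statements.S8803
import Mathlib
import Groth.Agent.H2.LCArtinian

set_option autoImplicit false
universe u
open CategoryTheory
open LocCoh

namespace Groth.Agent.S8803

/-- Let (A, m) be a Noetherian local ring and (M_n) an inverse system of finite A-modules. Then for
every i the inverse system H^i_m(M_n) of local cohomology modules satisfies the Mittag-Leffler
condition. -/
theorem result (A : Type u) [CommRing A] [IsNoetherianRing A] [IsLocalRing A] (Msys : ℕᵒᵖ ⥤ ModuleCat.{u} A) (hfin : ∀ n : ℕᵒᵖ, Module.Finite A (Msys.obj n)) (i : ℕ) : ARSys.IsML (Msys ⋙ localCohomology (IsLocalRing.maximalIdeal A) i) := by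
  intro n
  have hArt : IsArtinian A ((Msys ⋙ localCohomology (IsLocalRing.maximalIdeal A) i).obj (Opposite.op n)) := by
    have := hfin (Opposite.op n)
    exact Groth.Agent.H2.LCArtinian.isArtinian_H i (Msys.obj (Opposite.op n))
  have hwf : WellFoundedLT
      (Subobject ((Msys ⋙ localCohomology (IsLocalRing.maximalIdeal A) i).obj (Opposite.op n))) :=
    (ModuleCat.subobjectModule _).toOrderEmbedding.wellFoundedLT
  have hanti : ∀ s s' : ℕ, s ≤ s' →
      Limits.imageSubobject
        (ARSys.shiftMap (Msys ⋙ localCohomology (IsLocalRing.maximalIdeal A) i) s' n) ≤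
      Limits.imageSubobject
        (ARSys.shiftMap (Msys ⋙ localCohomology (IsLocalRing.maximalIdeal A) i) s n) := by
    intro s s' hss
    have h1 : ARSys.shiftMap (Msys ⋙ localCohomology (IsLocalRing.maximalIdeal A) i) s' n =
        ARSys.tr (Msys ⋙ localCohomology (IsLocalRing.maximalIdeal A) i)
          (Nat.add_le_add_left hss n) ≫
        ARSys.shiftMap (Msys ⋙ localCohomology (IsLocalRing.maximalIdeal A) i) s n := by
      change CategoryTheory.Functor.map _ _ = CategoryTheory.Functor.map _ _ ≫ CategoryTheory.Functor.map _ _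
      rw [← CategoryTheory.Functor.map_comp]
      rfl
    rw [h1]
    exact Limits.imageSubobject_comp_le _ _
  let F : ℕ →o (Subobject
      ((Msys ⋙ localCohomology (IsLocalRing.maximalIdeal A) i).obj (Opposite.op n)))ᵒᵈ :=
    ⟨fun s => OrderDual.toDual (Limits.imageSubobject
      (ARSys.shiftMap (Msys ⋙ localCohomology (IsLocalRing.maximalIdeal A) i) s n)),
      fun s s' hss => hanti s s' hss⟩
  obtain ⟨r, hr⟩ := (wellFoundedGT_iff_monotone_chain_condition
    (α := (Subobject
      ((Msys ⋙ localCohomology (IsLocalRing.maximalIdeal A) i).obj (Opposite.op n)))ᵒᵈ)).mp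
    inferInstance F
  exact ⟨r, fun s hs => (OrderDual.toDual.injective (hr s hs)).symm⟩

end Groth.Agent.S8803
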