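import Groth.Statements.S8813
import Groth.Agent.H44.DeltaZStalk

set_option autoImplicit false
universe u
open CategoryTheory AlgebraicGeometry
open Algz

namespace Groth.Agent.S8813

/-- Let Y be a Noetherian scheme, Z ⊆ Y a closed subset, y a point of Y and z a point of Z lying in the
closure of y. Then δ_Z(y) is at most the dimension of the local ring at z of the closure of y with
its reduced structure, that is, the Krull dimension of O_{Y,z}/𝔭 where 𝔭 is the prime ideal of the
local ring O_{Y,z} given by the point of Spec O_{Y,z} that maps to y. -/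
theorem result (Y : Scheme.{u}) [IsNoetherian Y] (Z : Set Y) (hZ : IsClosed Z) (y z : Y) (h : y ⤳ z) (hz : z ∈ Z) (P : PrimeSpectrum (Y.presheaf.stalk z)) (hP : (Y.fromSpecStalk z).base P = y) : ((Algz.deltaZ Z y : ℕ∞) : WithBot ℕ∞) ≤ ringKrullDim (↥(Y.presheaf.stalk z) ⧸ P.asIdeal) := by
  subst hP
  rw [Groth.Agent.H44.ringKrullDim_quotient_eq_coheight' P]
  have hle : Algz.deltaZ Z ((Y.fromSpecStalk z).base P) ≤ Order.coheight P := by
    let S : DSystem Z ((Y.fromSpecStalk z).base P) 0 :=
      { v := fun _ => z
        w := fun _ => (Y.fromSpecStalk z).base P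
        spec := fun _ => h
        spec_succ := fun i => i.elim0
        start_mem := hz
        last_eq := rfl }
    refine le_trans (Groth.Agent.H44.deltaZ_le_delta S) ?_
    have hc : S.c 0 ≤ Order.coheight P := by
      unfold DSystem.c
      exact Groth.Agent.H44.codimPt_le_coheight (fun Q => (Y.fromSpecStalk z).base Q)
        (Y.fromSpecStalk z).isEmbedding z Scheme.range_fromSpecStalk P h
    unfold DSystem.delta
    simpa using hc
  exact_mod_cast hle

end Groth.Agent.S8813
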