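import Groth.Statements.S8816
import Groth.Agent.H44.DeltaZ

set_option autoImplicit false
universe u
open CategoryTheory AlgebraicGeometry
open Algz

namespace Groth.Agent.S8816

/-- Let Y be a Noetherian scheme and Z ⊆ Y closed. Given points y_0, …, y_k and y'_0, …, y'_{k-1} of Y
with y_0 ∈ Z such that each y'_i specializes to y_{i+1} with y'_i ≠ y_{i+1}, and each y'_i ⤳ y_i is
an immediate specialization (y'_i ≠ y_i and no point strictly between), one has δ_Z(y_k) ≤ k. (The
published statement also allows y'_i = y_{i+1}. In that generality the bound needs catenarity: for a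
Noetherian local domain of dimension 3 having a saturated chain of primes (0) ⊂ 𝔭 ⊂ 𝔪 of length 2,
with Z the closed point and the pattern y_0 = 𝔪, y'_0 = y_1 = 𝔭, y'_1 = y_2 = (0), one has k = 2 but
δ_Z((0)) = 3. The published proof handles nontrivial specializations y'_i ⤳ y_{i+1}, for which the
closures of the y_i and y'_i form a system of value k, and reduces to that case by shortening the
chain, which does not preserve immediacy; this row states the case the proof establishes.) -/
theorem result (Y : Scheme.{u}) [IsNoetherian Y] (Z : Set Y) (hZ : IsClosed Z) (k : ℕ) (y : Fin (k + 1) → Y) (y' : Fin k → Y) (h0 : y 0 ∈ Z) (hdown : ∀ i : Fin k, y' i ⤳ y i.castSucc ∧ y' i ≠ y i.castSucc ∧ ∀ z : Y, y' i ⤳ z → z ⤳ y i.castSucc → z = y' i ∨ z = y i.castSucc) (hup : ∀ i : Fin k, y' i ⤳ y i.succ ∧ y' i ≠ y i.succ) : Algz.deltaZ Z (y (Fin.last k)) ≤ k := by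
  classical
  let S : DSystem Z (y (Fin.last k)) k :=
    { v := y
      w := Fin.snoc (α := fun _ => Y) y' (y (Fin.last k))
      spec := by
        intro i
        induction i using Fin.lastCases with
        | last => rw [Fin.snoc_last]
        | cast i => rw [Fin.snoc_castSucc]; exact (hdown i).1
      spec_succ := by
        intro i
        rw [Fin.snoc_castSucc]
        exact (hup i).1
      start_mem := h0
      last_eq := by rw [Fin.snoc_last] }
  refine le_trans (Groth.Agent.H44.deltaZ_le_delta S) ?_
  have hc_last : S.c (Fin.last k) = 0 := by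
    have hw : S.w (Fin.last k) = y (Fin.last k) :=
      Fin.snoc_last (α := fun _ => Y) (y (Fin.last k)) y'
    unfold DSystem.c
    rw [Groth.Agent.H44.codimPt_congr hw rfl (S.spec _) (specializes_rfl)]
    exact Groth.Agent.H44.codimPt_self _ _
  have hc_cast : ∀ i : Fin k, S.c i.castSucc = 1 := by
    intro i
    have hw : S.w i.castSucc = y' i :=
      Fin.snoc_castSucc (α := fun _ => Y) (y (Fin.last k)) y' i
    unfold DSystem.c
    rw [Groth.Agent.H44.codimPt_congr hw rfl (S.spec _) (hdown i).1]
    exact Groth.Agent.H44.codimPt_eq_one _ _ _ (hdown i).2.1 (hdown i).2.2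
  have hb : ∀ i : Fin k, 1 ≤ S.b i := by
    intro i
    have hw : S.w i.castSucc = y' i :=
      Fin.snoc_castSucc (α := fun _ => Y) (y (Fin.last k)) y' i
    unfold DSystem.b
    rw [Groth.Agent.H44.codimPt_congr hw rfl (S.spec_succ _) (hup i).1]
    exact Groth.Agent.H44.one_le_codimPt _ _ _ (hup i).2
  unfold DSystem.delta
  have hsup : (Finset.univ.sup fun i : Fin (k + 1) =>
      (∑ j ∈ Finset.univ.filter (fun j : Fin (k + 1) => i ≤ j), S.c j) -
        ∑ j ∈ Finset.univ.filter (fun j : Fin k => i.val ≤ j.val), S.b j) = 0 := by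
    rw [← bot_eq_zero, Finset.sup_eq_bot_iff]
    intro i _
    rw [bot_eq_zero, tsub_eq_zero_iff_le, Finset.sum_filter, Finset.sum_filter,
      Fin.sum_univ_castSucc]
    have hlast : (if i ≤ Fin.last k then S.c (Fin.last k) else 0) = 0 := by
      rw [hc_last]; simp
    rw [hlast, add_zero]
    apply Finset.sum_le_sum
    intro j _
    have hiff : (i ≤ j.castSucc) ↔ (i.val ≤ j.val) := by
      rw [Fin.le_def]; rfl
    by_cases hij : i.val ≤ j.val
    · rw [if_pos (hiff.mpr hij), if_pos hij, hc_cast]
      exact hb j
    · rw [if_neg (fun h => hij (hiff.mp h)), if_neg hij]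
  rw [hsup, add_zero]

end Groth.Agent.S8816
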