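import Groth.Statements.S8821
import Groth.Agent.H44.SmulModQuot

set_option autoImplicit false
universe u
open CategoryTheory AlgebraicGeometry
open Formal2

namespace Groth.Agent.S8821

/-- Implication (4) ⇒ (2), for an O_X-module over a base ring A and f ∈ A. Let X be a scheme over Spec
A, f ∈ A and F an O_X-module on which multiplication by f is a monomorphism. Then for every n ≥ 1
there is a monomorphism i : F/fF → F/f^{n+1}F through which multiplication by f^n on F/f^{n+1}F
factors (projection to F/fF followed by i), and F/fF → F/f^{n+1}F → F/f^nF, with second map the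
transition map, is a short exact sequence. (Stated for schemes; the published statement is for
ringed spaces.) -/
theorem result (A : Type u) [CommRing A] (X : Scheme.{u}) [X.Over (Spec (CommRingCat.of A))] (f : A) (F : X.Modules) (hF : Mono (Formal.smulMod A F f)) (n : ℕ) (hn : 1 ≤ n) : ∃ i : Formal.modPow (Ideal.span ({f} : Set A)) 1 F ⟶ Formal.modPow (Ideal.span ({f} : Set A)) (n + 1) F, Mono i ∧ Formal2.modPowLE (Ideal.span ({f} : Set A)) (Nat.le_add_left 1 n) F ≫ i = Formal.smulMod A (Formal.modPow (Ideal.span ({f} : Set A)) (n + 1) F) (f ^ n) ∧ ∃ w : i ≫ Formal.modPowTrans (Ideal.span ({f} : Set A)) n F = 0, (ShortComplex.mk i (Formal.modPowTrans (Ideal.span ({f} : Set A)) n F) w).ShortExact := by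
  classical
  have hpow : Mono (Formal.smulMod A F (f ^ n)) := by
    induction n with
    | zero => rw [pow_zero, Groth.Agent.H44.smulMod_one]; infer_instance
    | succ k ih =>
      by_cases hk : 1 ≤ k
      · haveI := ih hk
        haveI := hF
        rw [pow_succ, Groth.Agent.H44.smulMod_mul]
        exact mono_comp _ _
      · have : k = 0 := by omega
        subst this
        rw [zero_add, pow_one]; exact hF
  haveI := hpow
  set I := Ideal.span ({f} : Set A) with hI
  -- the map i
  have hw : Formal.smulFamily (I ^ 1) F ≫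
      (Formal.smulMod A F (f ^ n) ≫ Formal.modPowπ I (n + 1) F) = 0 := by
    apply Groth.Agent.H44.smulFamily_span_comp_eq_zero f 1 F
    rw [← Category.assoc, ← Groth.Agent.H44.smulMod_mul, ← pow_add, add_comm 1 n]
    exact Groth.Agent.H44.smulMod_pow_comp_modPowπ f (n + 1) F
  let i : Formal.modPow I 1 F ⟶ Formal.modPow I (n + 1) F :=
    Limits.cokernel.desc (Formal.smulFamily (I ^ 1) F)
      (Formal.smulMod A F (f ^ n) ≫ Formal.modPowπ I (n + 1) F) hw
  have hi : Formal.modPowπ I 1 F ≫ i =
      Formal.smulMod A F (f ^ n) ≫ Formal.modPowπ I (n + 1) F := Limits.cokernel.π_desc _ _ _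
  have hfg : Formal.smulMod A F (f ^ 1) ≫ Formal.smulMod A F (f ^ n) =
      Formal.smulMod A F (f ^ (n + 1)) := by
    rw [← Groth.Agent.H44.smulMod_mul, ← pow_add, add_comm 1 n]
  have h₂ := Groth.Agent.H44.exact_smulMod_pow_modPowπ f (n + 1) F
  have h₃ := Groth.Agent.H44.exact_smulMod_pow_modPowπ f n F
  have w₂ : (Formal.smulMod A F (f ^ 1) ≫ Formal.smulMod A F (f ^ n)) ≫
      Formal.modPowπ I (n + 1) F = 0 := by
    rw [hfg]; exact Groth.Agent.H44.smulMod_pow_comp_modPowπ f (n + 1) F
  have h₂' : (ShortComplex.mk (Formal.smulMod A F (f ^ 1) ≫ Formal.smulMod A F (f ^ n))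
      (Formal.modPowπ I (n + 1) F) w₂).Exact := by
    have e : ShortComplex.mk (Formal.smulMod A F (f ^ 1) ≫ Formal.smulMod A F (f ^ n))
        (Formal.modPowπ I (n + 1) F) w₂ =
        ShortComplex.mk (Formal.smulMod A F (f ^ (n + 1))) (Formal.modPowπ I (n + 1) F)
          (Groth.Agent.H44.smulMod_pow_comp_modPowπ f (n + 1) F) := by
      congr 1
    rw [e]; exact h₂
  obtain ⟨hm, w, hse⟩ := Groth.Agent.H44.quot_comp_shortExact
    (Formal.smulMod A F (f ^ 1)) (Formal.smulMod A F (f ^ n))
    (Formal.modPowπ I 1 F) (Formal.modPowπ I (n + 1) F) (Formal.modPowπ I n F)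
    (Groth.Agent.H44.smulMod_pow_comp_modPowπ f 1 F) w₂
    (Groth.Agent.H44.smulMod_pow_comp_modPowπ f n F) h₂' h₃ i hi
    (Formal.modPowTrans I n F) (Formal.modPowπ_trans I n F)
  refine ⟨i, hm, ?_, w, hse⟩
  rw [← cancel_epi (Formal.modPowπ I (n + 1) F), ← Category.assoc,
    Formal2.modPowπ_modPowLE, hi]
  exact Groth.Agent.H44.smulMod_naturality A _ _

end Groth.Agent.S8821
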