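import Groth.Statements.S8822
import Groth.Agent.S8800
import Mathlib.RingTheory.AdicCompletion.Noetherian
import Mathlib.RingTheory.AdicCompletion.Exactness

set_option autoImplicit false
universe u v
open AdicRing

namespace Groth.Agent.S8822

/-- Let A be a Noetherian ring and I an ideal. Let B be an A-algebra which is complete for the IB-adic
topology and such that B/IB is of finite type over A, and let J be an ideal of B. Then B/J is
complete for the I(B/J)-adic topology (so B/J is again an object of the same category, the finite
type condition on (B/J)/I(B/J) being immediate). -/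
theorem result (A : Type u) [CommRing A] [IsNoetherianRing A] (I : Ideal A) (B : Type v) [CommRing B] [Algebra A B] [IsAdicComplete (I.map (algebraMap A B)) B] (hB : Algebra.FiniteType A (B ⧸ I.map (algebraMap A B))) (J : Ideal B) : IsAdicComplete (I.map (algebraMap A (B ⧸ J))) (B ⧸ J) := by
  have hB' : IsNoetherianRing B := Groth.Agent.S8800.result A I B hB
  have h1 : IsHausdorff (I.map (algebraMap A B)) (B ⧸ J) :=
    IsHausdorff.of_le_jacobson _ (B ⧸ J) (IsAdicComplete.le_jacobson_bot _)
  have h2 : IsPrecomplete (I.map (algebraMap A B)) (B ⧸ J) := by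
    rw [← AdicCompletion.of_surjective_iff]
    intro y
    obtain ⟨x, rfl⟩ := AdicCompletion.map_surjective (I.map (algebraMap A B))
      (f := (Submodule.mkQ J : B →ₗ[B] B ⧸ J)) (Submodule.mkQ_surjective J) y
    obtain ⟨b, rfl⟩ := AdicCompletion.of_surjective (I.map (algebraMap A B)) B x
    exact ⟨Submodule.mkQ J b, (AdicCompletion.map_of _ _ _).symm⟩
  have h3 : IsAdicComplete (I.map (algebraMap A B)) (B ⧸ J) := { h1, h2 with }
  have h4 : IsAdicComplete ((I.map (algebraMap A B)).map (algebraMap B (B ⧸ J))) (B ⧸ J) :=
    (IsAdicComplete.map_algebraMap_iff _ _).mpr h3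
  have h5 : I.map (algebraMap A (B ⧸ J)) = (I.map (algebraMap A B)).map (algebraMap B (B ⧸ J)) := by
    rw [Ideal.map_map, ← IsScalarTower.algebraMap_eq]
  rw [h5]
  exact h4

end Groth.Agent.S8822
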