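import Groth.Statements.S8823
import Groth.Agent.H78.ArtinApx.PairApprox
import Groth.Agent.S0595
import Groth.Agent.S0599

set_option autoImplicit false
universe u
open AdicRing

namespace Groth.Agent.S8823

/-- Let A be a Noetherian G-ring and I an ideal of A. Let B and C be A-algebras of finite type, φ an
A-algebra map from the IB-adic completion of B to the IC-adic completion of C, and N ≥ 1. Then one
can find an etale C-algebra C' for which the induced map C/IC → C'/IC' is a bijection, together with
a homomorphism of A-algebras ψ : B → C' that approximates φ to order N: given any b ∈ B, some c ∈ C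
satisfies ψ(b) − c ∈ I^N C', while the image of φ(b) in C/I^N C (the N-th truncation of the
completion) coincides with the class of c. -/
theorem result (A : Type u) [CommRing A] (hA : CAlg.IsGRing A) (I : Ideal A) (B C : Type u) [CommRing B] [Algebra A B] [Algebra.FiniteType A B] [CommRing C] [Algebra A C] [Algebra.FiniteType A C] (φ : (AdicCompletion (I.map (algebraMap A B)) B) →ₐ[A] (AdicCompletion (I.map (algebraMap A C)) C)) (N : ℕ) (hN : 1 ≤ N) : ∃ (C' : Type u) (_ : CommRing C') (_ : Algebra C C') (_ : Algebra A C') (_ : IsScalarTower A C C') (_ : Algebra.Etale C C') (ψ : B →ₐ[A] C'), ((∀ c' : C', ∃ c : C, algebraMap C C' c - c' ∈ I.map (algebraMap A C')) ∧ ∀ c : C, algebraMap C C' c ∈ I.map (algebraMap A C') → c ∈ I.map (algebraMap A C)) ∧ ∀ b : B, ∃ c : C, ψ b - algebraMap C C' c ∈ (I.map (algebraMap A C')) ^ N ∧ AdicCompletion.eval (I.map (algebraMap A C)) C N (φ (AdicCompletion.of (I.map (algebraMap A B)) B b)) = Submodule.Quotient.mk c := by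
  haveI : IsNoetherianRing A := hA.1
  haveI : Algebra.FinitePresentation A B := Algebra.FinitePresentation.of_finiteType.mp inferInstance
  have hC : CAlg.IsGRing C := Groth.Agent.S0599.result A hA C
  obtain ⟨M, rfl⟩ : ∃ M, N = M + 1 := ⟨N - 1, by omega⟩
  let J : Ideal C := I.map (algebraMap A C)
  let φ₀ : B →ₐ[A] AdicCompletion J C :=
    { toRingHom := φ.toRingHom.comp (algebraMap B (AdicCompletion (I.map (algebraMap A B)) B))
      commutes' := fun a => by
        change φ (algebraMap B (AdicCompletion (I.map (algebraMap A B)) B) (algebraMap A B a)) = _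
        have : algebraMap B (AdicCompletion (I.map (algebraMap A B)) B) (algebraMap A B a) =
            algebraMap A (AdicCompletion (I.map (algebraMap A B)) B) a := rfl
        rw [this, φ.commutes] }
  obtain ⟨C', _, _, _, _, hN', ψ, hψ⟩ := Groth.Agent.H78.ArtinApx.exists_etale_nbhd_approx
    (fun R _ _ Λ _ _ _ h B _ _ _ f => Groth.Agent.S0595.result R Λ h B f) hC J φ₀ M
  have hJ : I.map (algebraMap A C') = J.map (algebraMap C C') := by
    rw [Ideal.map_map, ← IsScalarTower.algebraMap_eq]
  refine ⟨C', inferInstance, inferInstance, inferInstance, inferInstance, hN'.etale, ψ,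
    ⟨fun c' => ?_, fun c hc => ?_⟩, fun b => ?_⟩
  · obtain ⟨c, hc⟩ := hN'.surj c'
    refine ⟨c, ?_⟩
    rw [hJ, ← neg_sub]
    exact Ideal.neg_mem_iff _ |>.mpr hc
  · rw [hJ] at hc
    exact hN'.inj c hc
  · obtain ⟨c, hc⟩ := Ideal.Quotient.mk_surjective (AdicCompletion.evalₐ J (M + 1) (φ₀ b))
    refine ⟨c, ?_, ?_⟩
    · rw [hJ]
      exact hψ b c hc.symm
    · have h1 : φ (AdicCompletion.of (I.map (algebraMap A B)) B b) = φ₀ b := rfl
      rw [h1, ← AdicCompletion.factor_evalₐ_eq_eval J (φ₀ b)
        (by rw [smul_eq_mul, Ideal.mul_top]), ← hc]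
      rfl

end Groth.Agent.S8823
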