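import Groth.Statements.S8825
import Mathlib
import Groth.Agent.H57.RegFibreC
import Groth.Agent.S8804
import Groth.Agent.H13.CompleteNagata

set_option autoImplicit false
universe u
open AdicRing

namespace Groth.Agent.S8825

/-- Let A be a Noetherian ring which is complete for the adic topology of an ideal I, let p be a
rig-closed prime of A (I ⊄ p and p is maximal among the primes not containing I), and let n ≥ 1.
Then the ring map from A/p to the restricted power series ring (A/p){x_1, …, x_n}, i.e. the I-adic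
completion of the polynomial ring (A/p)[x_1, …, x_n], is a regular ring map (flat, with Noetherian
and geometrically regular fibres). (The consequence for the fibre over the fraction field is not
stated.) -/
theorem result (A : Type u) [CommRing A] [IsNoetherianRing A] (I : Ideal A) [IsAdicComplete I A] (p : PrimeSpectrum A) (hp : ¬ I ≤ p.asIdeal ∧ ∀ q : PrimeSpectrum A, p ≤ q → ¬ I ≤ q.asIdeal → q = p) (n : ℕ) (hn : 1 ≤ n) : CAlg.IsRegularHom (A ⧸ p.asIdeal) (AdicCompletion (I.map (algebraMap A (MvPolynomial (Fin n) (A ⧸ p.asIdeal)))) (MvPolynomial (Fin n) (A ⧸ p.asIdeal))) := by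
  classical
  have hprime : p.asIdeal.IsPrime := p.2
  obtain ⟨hdim, hmax, hcompl⟩ := ((Groth.Agent.S8804.result A I p).out 0 2).mp hp
  -- `R = A ⧸ p` is a one-dimensional complete local domain
  have hKD : Ring.KrullDimLE 1 (A ⧸ p.asIdeal) := Ring.krullDimLE_iff.mpr hdim.le
  have hdim1 : Ring.DimensionLEOne (A ⧸ p.asIdeal) :=
    ⟨fun hP0 hP => Ring.krullDimLE_one_iff_of_noZeroDivisors.mp hKD _ hP0 hP⟩
  have hlocal : IsLocalRing (A ⧸ p.asIdeal) := by
    refine IsLocalRing.of_unique_max_ideal ?_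
    obtain ⟨m, hm⟩ := Ideal.exists_maximal (A ⧸ p.asIdeal)
    exact ⟨m, hm, fun m' hm' => (hmax m' hm').trans (hmax m hm).symm⟩
  have hmaxeq : IsLocalRing.maximalIdeal (A ⧸ p.asIdeal) =
      (I.map (Ideal.Quotient.mk p.asIdeal)).radical :=
    hmax _ (IsLocalRing.maximalIdeal.isMaximal _)
  have hcompl' : IsAdicComplete (IsLocalRing.maximalIdeal (A ⧸ p.asIdeal)) (A ⧸ p.asIdeal) := by
    rw [hmaxeq]
    exact hcompl
  have hN2 : CAlg.IsN2 (A ⧸ p.asIdeal) :=
    Groth.Agent.H13.CompleteNagata.isN2_of_complete_local_domain (A ⧸ p.asIdeal)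
  have hprimes : ∀ P : Ideal (A ⧸ p.asIdeal), P.IsPrime →
      ¬ I.map (Ideal.Quotient.mk p.asIdeal) ≤ P → P = ⊥ := by
    intro P hP hIP
    by_contra hP0
    have hPmax : P.IsMaximal := Ring.DimensionLEOne.maximalOfPrime hP0 hP
    apply hIP
    rw [hmax P hPmax]
    exact Ideal.le_radical
  have hJ : I.map (algebraMap A (MvPolynomial (Fin n) (A ⧸ p.asIdeal))) =
      (I.map (Ideal.Quotient.mk p.asIdeal)).map
        (algebraMap (A ⧸ p.asIdeal) (MvPolynomial (Fin n) (A ⧸ p.asIdeal))) := by
    rw [Ideal.map_map]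
    rfl
  exact Groth.Agent.H57.RegF.isRegularHom_restrictedPowerSeries hN2
    (I.map (Ideal.Quotient.mk p.asIdeal)) hprimes n _ hJ

end Groth.Agent.S8825
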