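import Groth.Statements.S8830
import Groth.Agent.H44.SeqLimModules

set_option autoImplicit false
universe u
open CategoryTheory AlgebraicGeometry Opposite
open Formal2

namespace Groth.Agent.S8830

/-- Implication (1) ⇒ (4) for quasi-coherent systems on a scheme, with f taken in a base ring A over
which X lives. Let (F_n)_{n ≥ 1} be an inverse system of quasi-coherent O_X-modules, indexed here so
that position n holds F_{n+1}. Assume (1): for every n ≥ 1, multiplication by f on F_{n+1} factors
as the transition map F_{n+1} → F_n followed by a monomorphism i : F_n → F_{n+1}, and F_n → F_{n+1}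
→ F_1 (second map the transition map to the first term) is short exact. Then (4): there is an
O_X-module F on which multiplication by f is a monomorphism and whose system of quotients
(F/f^nF)_{n ≥ 1} is isomorphic to (F_n) as an inverse system (existence of an isomorphism). -/
theorem result (A : Type u) [CommRing A] (X : Scheme.{u}) [X.Over (Spec (CommRingCat.of A))] (f : A) (G : ℕᵒᵖ ⥤ X.Modules) (hqc : ∀ n : ℕᵒᵖ, Coh.IsQCoh (G.obj n)) (h1 : ∀ n : ℕ, ∃ i : G.obj (op n) ⟶ G.obj (op (n + 1)), Mono i ∧ G.map (homOfLE (Nat.le_succ n)).op ≫ i = Formal.smulMod A (G.obj (op (n + 1))) f ∧ ∃ w : i ≫ G.map (homOfLE (Nat.zero_le (n + 1))).op = 0, (ShortComplex.mk i (G.map (homOfLE (Nat.zero_le (n + 1))).op) w).ShortExact) : ∃ F : X.Modules, Mono (Formal.smulMod A F f) ∧ Nonempty (Formal.completion (Ideal.span ({f} : Set A)) F ≅ G) := by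
  classical
  let φ : 𝟭 X.Modules ⟶ 𝟭 X.Modules :=
    { app := fun M => Formal.smulMod A M f
      naturality := fun M N g => (Groth.Agent.H44.smulMod_naturality A g f).symm }
  have hφ : ∀ (k : ℕ) (M : X.Modules), (Groth.Agent.H44.SeqLim.pw φ k).app M = Formal.smulMod A M (f ^ k) := by
    intro k M
    induction k with
    | zero =>
      rw [pow_zero, Groth.Agent.H44.smulMod_one]
      rfl
    | succ k ih =>
      rw [Groth.Agent.H44.SeqLim.pw_succ_app, ih, pow_succ, Groth.Agent.H44.smulMod_mul]
  choose i hi using h1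
  have H : Groth.Agent.H44.SeqLim.Hyp φ G :=
    { i := i
      mono := fun n => (hi n).1
      fac := fun n => (hi n).2.1
      w := fun n => (hi n).2.2.choose
      exact := fun n => (hi n).2.2.choose_spec }
  have hc := Limits.limit.isLimit G
  have hepi : ∀ n : ℕ, Epi (Limits.limit.π G (op n)) := fun n =>
    Groth.Agent.H44.epi_π_of_isLimit G (fun n => hqc (op n)) H.epi_t hc n
  refine ⟨Limits.limit G, Groth.Agent.H44.SeqLim.mono_φ H hc, ⟨?_⟩⟩
  have h0 : ∀ n : ℕ, Formal.smulMod A (Limits.limit G) (f ^ (n + 1)) ≫ Limits.limit.π G (op n) = 0 := by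
    intro n
    rw [← hφ]
    exact Groth.Agent.H44.SeqLim.pw_π H n
  have h0' : ∀ n : ℕ, Formal.smulFamily ((Ideal.span ({f} : Set A)) ^ (n + 1)) (Limits.limit G) ≫ Limits.limit.π G (op n) = 0 := fun n =>
    Groth.Agent.H44.smulFamily_span_comp_eq_zero f (n + 1) (Limits.limit G) _ (h0 n)
  let e : ∀ n : ℕ, Formal.modPow (Ideal.span ({f} : Set A)) (n + 1) (Limits.limit G) ⟶ G.obj (op n) := fun n =>
    Limits.cokernel.desc _ (Limits.limit.π G (op n)) (h0' n)
  have he : ∀ n : ℕ, Formal.modPowπ (Ideal.span ({f} : Set A)) (n + 1) (Limits.limit G) ≫ e n = Limits.limit.π G (op n) := fun n =>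
    Limits.cokernel.π_desc _ _ _
  have hiso : ∀ n : ℕ, IsIso (e n) := by
    intro n
    haveI : Epi (e n) := by
      haveI : Epi (Formal.modPowπ (Ideal.span ({f} : Set A)) (n + 1) (Limits.limit G) ≫ e n) := by rw [he]; exact hepi n
      exact epi_of_epi (Formal.modPowπ (Ideal.span ({f} : Set A)) (n + 1) (Limits.limit G)) (e n)
    haveI : Mono (e n) := by
      apply Preadditive.mono_of_cancel_zero
      intro T x hx
      obtain ⟨T', p, hp, x', hx'⟩ :=
        surjective_up_to_refinements_of_epi (Formal.modPowπ (Ideal.span ({f} : Set A)) (n + 1) (Limits.limit G)) x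
      have h1 : x' ≫ Limits.limit.π G (op n) = 0 := by
        rw [← he n, ← Category.assoc, ← hx', Category.assoc, hx, Limits.comp_zero]
      obtain ⟨z, hz⟩ := Groth.Agent.H44.SeqLim.exists_lift_pw H hc n x' h1
      have hzz := Groth.Agent.H44.smulMod_pow_comp_modPowπ f (n + 1) (Limits.limit G)
      have h2 : p ≫ x = 0 := by
        rw [hx', ← hz, hφ, Category.assoc]
        exact (congrArg (fun k => z ≫ k) hzz).trans Limits.comp_zero
      exact (cancel_epi p).1 (h2.trans Limits.comp_zero.symm)
    exact isIso_of_mono_of_epi (e n)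
  let α : Formal.completion (Ideal.span ({f} : Set A)) (Limits.limit G) ⟶ G := NatTrans.ofOpSequence (fun n => e n) (by
    intro n
    refine (cancel_epi (Formal.modPowπ (Ideal.span ({f} : Set A)) (n + 1 + 1) (Limits.limit G))).1 ?_
    have h3 : (Formal.completion (Ideal.span ({f} : Set A)) (Limits.limit G)).map (homOfLE (n.le_add_right 1)).op =
        Formal.modPowTrans (Ideal.span ({f} : Set A)) (n + 1) (Limits.limit G) :=
      Functor.ofOpSequence_map_homOfLE_succ _ n
    rw [h3]
    have hL : Formal.modPowπ (Ideal.span ({f} : Set A)) (n + 1 + 1) (Limits.limit G) ≫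
        (Formal.modPowTrans (Ideal.span ({f} : Set A)) (n + 1) (Limits.limit G) ≫ e n) =
        Limits.limit.π G (op n) := by
      rw [← Category.assoc, Formal.modPowπ_trans, he]
    have hR : Formal.modPowπ (Ideal.span ({f} : Set A)) (n + 1 + 1) (Limits.limit G) ≫
        (e (n + 1) ≫ G.map (homOfLE (n.le_add_right 1)).op) = Limits.limit.π G (op n) := by
      rw [← Category.assoc, he]
      exact Limits.limit.w G (homOfLE (n.le_add_right 1)).op
    exact hL.trans hR.symm)
  haveI : ∀ n : ℕᵒᵖ, IsIso (α.app n) := fun n => hiso n.unop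
  haveI : IsIso α := NatIso.isIso_of_isIso_app α
  exact asIso α

end Groth.Agent.S8830
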