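import Groth.Statements.S8834
import Groth.Agent.H44.DenseAdjoin
import Mathlib.RingTheory.Finiteness.Ideal

set_option autoImplicit false
universe u
open AdicRing

namespace Groth.Agent.S8834

/-- Let A be a Noetherian ring complete for the adic topology of an ideal I and B a Noetherian ring
complete for the adic topology of an ideal J, with an algebra map A → B sending I into the radical
of J (a continuous homomorphism of adic Noetherian topological rings; the radicals of I and J are
the ideals of topologically nilpotent elements). Assume B/√J is of finite type over A, equivalently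
over A/√I. Then B is topologically of finite type over A: there are b_1, …, b_s ∈ B such that the
A-algebra map A[x_1, …, x_s] → B with x_i ↦ b_i has dense image for the J-adic topology, that is,
for every y ∈ B and every n there is a polynomial whose value at b differs from y by an element of
J^n. -/
theorem result (A : Type u) [CommRing A] [IsNoetherianRing A] (I : Ideal A) [IsAdicComplete I A] (B : Type u) [CommRing B] [Algebra A B] [IsNoetherianRing B] (J : Ideal B) [IsAdicComplete J B] (hIJ : I.map (algebraMap A B) ≤ J.radical) (hft : Algebra.FiniteType A (B ⧸ J.radical)) : ∃ s : ℕ, ∃ b : Fin s → B, ∀ (y : B) (n : ℕ), ∃ p : MvPolynomial (Fin s) A, y - MvPolynomial.aeval b p ∈ J ^ n := by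
  classical
  have hKfg : J.radical.FG := IsNoetherian.noetherian J.radical
  obtain ⟨m, hm⟩ := Ideal.exists_radical_pow_le_of_fg J hKfg
  obtain ⟨G, hG⟩ := hKfg
  obtain ⟨t, ht⟩ := hft.out
  have hlift : ∀ x : B ⧸ J.radical, ∃ y : B, Ideal.Quotient.mk J.radical y = x :=
    Ideal.Quotient.mk_surjective
  choose lift hlift using hlift
  let T : Finset B := t.image lift ∪ G
  have ha : ∀ y : B, ∃ s ∈ Algebra.adjoin A (T : Set B), y - s ∈ J.radical := by
    intro y
    have h1 : Ideal.Quotient.mk J.radical y ∈
        (Algebra.adjoin A (T : Set B)).map (Ideal.Quotient.mkₐ A J.radical) := by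
      rw [AlgHom.map_adjoin]
      have h2 : Algebra.adjoin A (t : Set (B ⧸ J.radical)) ≤
          Algebra.adjoin A (Ideal.Quotient.mkₐ A J.radical '' (T : Set B)) := by
        apply Algebra.adjoin_mono
        intro x hx
        refine ⟨lift x, ?_, hlift x⟩
        rw [Finset.mem_coe, Finset.mem_union]
        exact Or.inl (Finset.mem_image_of_mem _ hx)
      apply h2
      rw [ht]
      exact Algebra.mem_top
    obtain ⟨s, hs, hsy⟩ := h1
    refine ⟨s, hs, ?_⟩
    rw [← Ideal.Quotient.eq]
    exact hsy.symm
  have hGT : (G : Set B) ⊆ Algebra.adjoin A (T : Set B) := fun g hg =>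
    Algebra.subset_adjoin (by
      rw [Finset.mem_coe, Finset.mem_union]
      exact Or.inr hg)
  have hdense := Groth.Agent.H44.dense_of_surjective_mod J.radical (Algebra.adjoin A (T : Set B))
    ha (G : Set B) hGT hG.symm
  refine ⟨T.card, fun i => (T.equivFin.symm i : B), fun y n => ?_⟩
  obtain ⟨s, hs, hys⟩ := hdense (m * n) y
  have hrange : Set.range (fun i => (T.equivFin.symm i : B)) = (T : Set B) := by
    ext x
    constructor
    · rintro ⟨i, rfl⟩
      exact (T.equivFin.symm i).2
    · intro hx
      exact ⟨T.equivFin ⟨x, hx⟩, by simp⟩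
  rw [← hrange, Algebra.adjoin_range_eq_range_aeval] at hs
  obtain ⟨p, rfl⟩ := hs
  refine ⟨p, ?_⟩
  have hle : J.radical ^ (m * n) ≤ J ^ n := by
    rw [pow_mul]
    exact Ideal.pow_right_mono hm n
  exact hle hys

end Groth.Agent.S8834
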