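import Groth.Statements.S8836
import Groth.Agent.H44.RigComap

set_option autoImplicit false
universe u
open AdicRing

namespace Groth.Agent.S8836

/-- Let A be a Noetherian ring complete for the adic topology of an ideal I, and B a Noetherian
A-algebra complete for the IB-adic topology, flat over A, with B/IB of finite type over A (a flat
adic morphism, topologically of finite type, of adic Noetherian topological rings). Let p be a prime
of A which is rig-closed (I ⊄ p and p maximal among the primes not containing I). The following are
equivalent: (1) the maximal ideal of the local ring A/p lies in the image of Spec(B/√(IB)) →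
Spec(A/√I), stated as: some prime Q of B containing IB lies over a maximal ideal of A containing p;
(2) there is a rig-closed prime q of B (IB ⊄ q, q maximal among the primes not containing IB) whose
inverse image in A is p. (The published statement adds that, when these hold, A/p ⊆ B/q is a finite
extension of rings and the residue field of the local ring B/q is finite over A/√I; this is not
restated here.) -/
theorem result (A : Type u) [CommRing A] [IsNoetherianRing A] (I : Ideal A) [IsAdicComplete I A] (B : Type u) [CommRing B] [Algebra A B] [IsNoetherianRing B] [IsAdicComplete (I.map (algebraMap A B)) B] (hft : Algebra.FiniteType A (B ⧸ (I.map (algebraMap A B)))) [Module.Flat A B] (p : PrimeSpectrum A) (hp : (¬ I ≤ p.asIdeal ∧ ∀ y : PrimeSpectrum A, p ≤ y → ¬ I ≤ y.asIdeal → y = p)) : (∃ Q : PrimeSpectrum B, (I.map (algebraMap A B)) ≤ Q.asIdeal ∧ p.asIdeal ≤ (PrimeSpectrum.comap (algebraMap A B) Q).asIdeal ∧ (PrimeSpectrum.comap (algebraMap A B) Q).asIdeal.IsMaximal) ↔ (∃ q : PrimeSpectrum B, (¬ (I.map (algebraMap A B)) ≤ q.asIdeal ∧ ∀ y : PrimeSpectrum B, q ≤ y → ¬ (I.map (algebraMap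 A B)) ≤ y.asIdeal → y = q) ∧ PrimeSpectrum.comap (algebraMap A B) q = p) := by
  have hp' : Groth.Agent.H44.IsRigClosed I p := hp
  constructor
  · rintro ⟨Q, _, hpQ, _⟩
    exact Groth.Agent.H44.exists_isRigClosed_comap_eq I p hp' Q hpQ
  · rintro ⟨q, hq, hqp⟩
    obtain ⟨m, hm, hqm⟩ := Ideal.exists_le_maximal q.asIdeal q.2.ne_top
    have hp'' : Groth.Agent.H44.IsRigClosed I (PrimeSpectrum.comap (algebraMap A B) q) := by
      rw [hqp]; exact hp'
    refine ⟨⟨m, hm.isPrime⟩, Groth.Agent.H44.map_le_of_isMaximal I m, ?_, ?_⟩
    · rw [← hqp]
      exact Ideal.comap_mono hqm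
    · exact Groth.Agent.H44.isMaximal_comap_of_isRigClosed_comap I q hp'' m hm hqm

end Groth.Agent.S8836
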