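import Groth.Statements.S8867
import Groth.Agent.H8.RegMero

set_option autoImplicit false
universe u
open CategoryTheory CategoryTheory.Limits AlgebraicGeometry TopologicalSpace
open SDiv

namespace Groth.Agent.S8867

/-- Let X be a locally Noetherian scheme with no embedded points, i.e. every associated point of O_X is
maximal among the associated points of O_X under specialization, and L an invertible O_X-module.
Then some meromorphic section of L is regular. -/
theorem result (X : Scheme.{u}) [IsLocallyNoetherian X]
    (hne : ∀ x : ↥X, Curv2.IsAssPoint (Coh.structureModule X) x →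
      ∀ y : ↥X, Curv2.IsAssPoint (Coh.structureModule X) y → y ⤳ x → y = x)
    (L : X.Modules) (hL : PicF.IsInvertible L) : Mero.HasRegularMero L := by
  have hX : Groth.Agent.H8.LocFinWeakAss X := Groth.Agent.H8.locFinWeakAss_of_isLocallyNoetherian X
  have hgen : ∀ x : ↥X, Curv2.IsWeakAssPoint (Coh.structureModule X) x → ∀ y : ↥X, y ⤳ x → y = x := by
    intro x hx y hyx
    obtain ⟨y', hy', hy'y⟩ := Groth.Agent.H8.exists_weakAss_specializes hX y
    have h1 : y' = x := hne x ((Groth.Agent.H8.isAssPoint_iff_isWeakAssPoint _ x).mpr hx) y'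
      ((Groth.Agent.H8.isAssPoint_iff_isWeakAssPoint _ y').mpr hy') (hy'y.trans hyx)
    exact (hyx.antisymm (h1 ▸ hy'y)).eq
  exact Groth.Agent.H8.hasRegularMero_of_locFinWeakAss hX hgen hL

end Groth.Agent.S8867
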