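import Groth.Statements.S8870
import Groth.Agent.H8.AssPoints

set_option autoImplicit false
universe u
open CategoryTheory CategoryTheory.Limits AlgebraicGeometry TopologicalSpace
open SDiv

namespace Groth.Agent.S8870

lemma mem_minimalPrimes_of_le {R : Type*} [CommRing R] {I J p : Ideal R} (hp : p ∈ I.minimalPrimes)
    (hIJ : I ≤ J) (hJp : J ≤ p) : p ∈ J.minimalPrimes :=
  ⟨⟨hp.1.1, hJp⟩, fun _ hq hqp => hp.2 ⟨hq.1, hIJ.trans hq.2⟩ hqp⟩

lemma weakAss_subset_of_injective {R : Type u} [CommRing R] {M N : Type u} [AddCommGroup M]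
    [AddCommGroup N] [Module R M] [Module R N] (f : M →ₗ[R] N) (hf : Function.Injective f) :
    FlatCA.weakAss R M ⊆ FlatCA.weakAss R N := by
  rintro p ⟨m, hm⟩
  refine ⟨f m, ?_⟩
  have : (Submodule.span R {f m}).annihilator = (Submodule.span R {m}).annihilator := by
    ext a
    rw [Submodule.mem_annihilator_span_singleton, Submodule.mem_annihilator_span_singleton,
      ← map_smul, ← f.map_zero, hf.eq_iff]
  rw [this]
  exact hm

lemma weakAss_subset_union {R : Type u} [CommRing R] {M₁ M₂ M₃ : Type u} [AddCommGroup M₁]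
    [AddCommGroup M₂] [AddCommGroup M₃] [Module R M₁] [Module R M₂] [Module R M₃]
    (f : M₁ →ₗ[R] M₂) (g : M₂ →ₗ[R] M₃) (hf : Function.Injective f)
    (hfg : ∀ m, g m = 0 → ∃ m₁, f m₁ = m) :
    FlatCA.weakAss R M₂ ⊆ FlatCA.weakAss R M₁ ∪ FlatCA.weakAss R M₃ := by
  rintro p ⟨m, hm⟩
  have hp : p.IsPrime := hm.1.1
  by_cases h : (Submodule.span R {g m}).annihilator ≤ p
  · right
    refine ⟨g m, mem_minimalPrimes_of_le hm ?_ h⟩
    intro a ha
    rw [Submodule.mem_annihilator_span_singleton] at ha ⊢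
    rw [← map_smul, ha, map_zero]
  · left
    obtain ⟨a, ha, hap⟩ := SetLike.not_le_iff_exists.mp h
    rw [Submodule.mem_annihilator_span_singleton, ← map_smul] at ha
    obtain ⟨m₁, hm₁⟩ := hfg _ ha
    refine ⟨m₁, mem_minimalPrimes_of_le hm ?_ ?_⟩
    · intro b hb
      rw [Submodule.mem_annihilator_span_singleton] at hb ⊢
      apply hf
      rw [map_smul, hm₁, map_zero, smul_comm, hb, smul_zero]
    · intro b hb
      rw [Submodule.mem_annihilator_span_singleton] at hb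
      have h1 : (b * a) • m = 0 := by
        rw [mul_smul, ← hm₁, ← map_smul, hb, map_zero]
      have h2 : b * a ∈ p := hm.1.2 (by rwa [Submodule.mem_annihilator_span_singleton])
      exact (hp.mem_or_mem h2).resolve_right hap

/-- The sections of a morphism of modules over an open, as a linear map. -/
noncomputable def appₗ {X : Scheme.{u}} {M N : X.Modules} (φ : M ⟶ N) (U : X.Opens) :
    Γ(M, U) →ₗ[Γ(X, U)] Γ(N, U) where
  toFun := φ.app U
  map_add' := map_add _
  map_smul' r m := Scheme.Modules.Hom.app_smul φ r m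

lemma exact_sections {X : Scheme.{u}} (S : ShortComplex X.Modules) (hS : S.ShortExact)
    (U : X.Opens) :
    Function.Injective (S.f.app U) ∧ ∀ m : Γ(S.X₂, U), S.g.app U m = 0 → ∃ m₁, S.f.app U m₁ = m := by
  let G : X.Modules ⥤ Ab.{u} := Scheme.Modules.toPresheaf X ⋙
    (evaluation (Opens ↥X)ᵒᵖ Ab.{u}).obj (Opposite.op U)
  have : Mono S.f := hS.mono_f
  have h1 : PreservesLimitsOfSize.{u, u} ((evaluation (Opens ↥X)ᵒᵖ Ab.{u}).obj (Opposite.op U)) :=
    inferInstance
  have hlim : PreservesLimitsOfSize.{u, u} G := comp_preservesLimits _ _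
  have hzero : G.PreservesZeroMorphisms := ⟨fun _ _ => rfl⟩
  have hex : (S.map G).Exact := hS.exact.map_of_mono_of_preservesKernel G this inferInstance
  have hmono : Mono (G.map S.f) := inferInstance
  refine ⟨?_, ?_⟩
  · exact (AddCommGrpCat.mono_iff_injective (G.map S.f)).mp hmono
  · exact (S.map G).ab_exact_iff.mp hex

set_option backward.isDefEq.respectTransparency false in
/-- Let X be a scheme and 0 → F₁ → F₂ → F₃ → 0 a short exact sequence of quasi-coherent O_X-modules.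
Then WeakAss(F₂) ⊆ WeakAss(F₁) ∪ WeakAss(F₃) and WeakAss(F₁) ⊆ WeakAss(F₂). -/
theorem result (X : Scheme.{u}) (S : ShortComplex X.Modules) (hS : S.ShortExact)
    (h₁ : Coh.IsQCoh S.X₁) (h₂ : Coh.IsQCoh S.X₂) (h₃ : Coh.IsQCoh S.X₃) :
    (∀ x : ↥X, Curv2.IsWeakAssPoint S.X₂ x → Curv2.IsWeakAssPoint S.X₁ x ∨ Curv2.IsWeakAssPoint S.X₃ x) ∧
      (∀ x : ↥X, Curv2.IsWeakAssPoint S.X₁ x → Curv2.IsWeakAssPoint S.X₂ x) := by
  have : S.X₁.IsQuasicoherent := h₁
  have : S.X₂.IsQuasicoherent := h₂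
  have : S.X₃.IsQuasicoherent := h₃
  have key : ∀ x : X, ∃ (V : X.Opens) (hV : IsAffineOpen V) (hxV : x ∈ V),
      Function.Injective (appₗ S.f V) ∧
      ∀ m : Γ(S.X₂, V), appₗ S.g V m = 0 → ∃ m₁, appₗ S.f V m₁ = m := by
    intro x
    obtain ⟨_, ⟨V, hV, rfl⟩, hxV, -⟩ :=
      X.isBasis_affineOpens.exists_subset_of_mem_open (Set.mem_univ x) isOpen_univ
    exact ⟨V, hV, hxV, exact_sections S hS V⟩
  refine ⟨fun x hx => ?_, fun x hx => ?_⟩
  · obtain ⟨V, hV, hxV, hinj, hex⟩ := key x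
    rw [Groth.Agent.H8.isWeakAssPoint_iff_mem_weakAss _ hV hxV] at hx ⊢
    rw [Groth.Agent.H8.isWeakAssPoint_iff_mem_weakAss _ hV hxV]
    exact weakAss_subset_union (appₗ S.f V) (appₗ S.g V) hinj hex hx
  · obtain ⟨V, hV, hxV, hinj, hex⟩ := key x
    rw [Groth.Agent.H8.isWeakAssPoint_iff_mem_weakAss _ hV hxV] at hx ⊢
    exact weakAss_subset_of_injective (appₗ S.f V) hinj hx

end Groth.Agent.S8870
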