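import Groth.Statements.S8877
import Groth.Agent.H44.FittSheaf

set_option autoImplicit false
universe u
open CategoryTheory CategoryTheory.Limits AlgebraicGeometry TopologicalSpace
open SDiv

namespace Groth.Agent.S8877

/-- Let S be a scheme and F a quasi-coherent O_S-module of finite type, and let Z_r ⊆ S be the closed
subset cut out by the r-th Fitting ideal of F. Then the intersection of all the Z_r is empty. -/
theorem result (S : Scheme.{u}) (F : S.Modules) (hF : Coh.IsQCoh F) (hft : CohB1.IsFT F)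
    (s : ↥S) : ∃ r : ℕ, s ∉ (Fitt.sheafIdeal F r).support := by
  haveI : F.IsQuasicoherent := hF
  haveI : SheafOfModules.IsFiniteType (R := S.ringCatSheaf) F := hft
  obtain ⟨U, hU, hsU⟩ : ∃ U : S.Opens, IsAffineOpen U ∧ s ∈ U := by
    obtain ⟨_, ⟨U, hU, rfl⟩, hsU, -⟩ :=
      S.isBasis_affineOpens.exists_subset_of_mem_open (Set.mem_univ s) isOpen_univ
    exact ⟨U, hU, hsU⟩
  haveI : Module.Finite Γ(S, U) Γ(F, U) := Groth.Agent.H44.finite_sections_of_isFiniteType F hU
  obtain ⟨n, x, hx⟩ := Module.Finite.exists_fin (R := Γ(S, U)) (M := Γ(F, U))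
  refine ⟨n, ?_⟩
  have h := Scheme.IdealSheafData.mem_support_iff_of_mem (I := Fitt.sheafIdeal F n)
    (U := (⟨U, hU⟩ : S.affineOpens)) (x := s) hsU
  rw [h, Groth.Agent.H44.sheafIdeal_ideal, Groth.Agent.Lead.fitt_ideal_eq_top_of_le x hx le_rfl]
  simp
  exact hsU

end Groth.Agent.S8877
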