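import Groth.Statements.S8889
import Groth.Agent.H8.AssPoints

set_option autoImplicit false
universe u
open CategoryTheory CategoryTheory.Limits AlgebraicGeometry TopologicalSpace
open SDiv

namespace Groth.Agent.S8889

/-- Let X be a scheme and φ : F ⟶ G a morphism of quasi-coherent O_X-modules. Assume that for every
point x of X either the stalk map F_x → G_x is injective or x is not a weakly associated point of F.
Then φ is injective. -/
theorem result (X : Scheme.{u}) {F G : X.Modules} (φ : F ⟶ G) (hF : Coh.IsQCoh F)
    (hG : Coh.IsQCoh G)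
    (h : ∀ x : ↥X, Function.Injective ((TopCat.Presheaf.stalkFunctor AddCommGrpCat.{u} x).map (Scheme.Modules.Hom.mapPresheaf φ)) ∨ ¬ Curv2.IsWeakAssPoint F x) :
    Mono φ := by
  have : F.IsQuasicoherent := hF
  have key : ∀ (W : X.Opens) (s : Γ(F, W)), φ.app W s = 0 → s = 0 := by
    intro W s hs
    by_contra hs'
    obtain ⟨y, hyW, hy, hgy⟩ := Groth.Agent.H8.exists_isWeakAssPoint_germ_ne_zero' F s hs'
    rcases h y with hinj | hn
    · apply hgy
      apply hinj
      have h1 := TopCat.Presheaf.stalkFunctor_map_germ_apply W y hyW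
        (Scheme.Modules.Hom.mapPresheaf φ) s
      have hs2 : (Scheme.Modules.Hom.mapPresheaf φ).app (Opposite.op W) s = 0 := hs
      rw [hs2, map_zero] at h1
      exact h1.trans (map_zero _).symm
    · exact hn hy
  apply (Scheme.Modules.toPresheaf X).mono_of_mono_map
  have hmono : ∀ U : (TopologicalSpace.Opens X)ᵒᵖ,
      Mono (((Scheme.Modules.toPresheaf X).map φ).app U) := by
    intro U
    rw [AddCommGrpCat.mono_iff_injective, injective_iff_map_eq_zero]
    intro s hs
    exact key U.unop s hs
  exact NatTrans.mono_of_mono_app _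

end Groth.Agent.S8889
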