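import Groth.Statements.S8916
import Groth.Agent.S8874
import Groth.Agent.H44.OmegaFitting
import Groth.Agent.H11.SmoothSpan
import Groth.Agent.H11.SmoothFree2
import Groth.Agent.H11.SmoothCartierSch2
import Groth.Agent.H11.Equidim

set_option autoImplicit false
universe u
open CategoryTheory CategoryTheory.Limits AlgebraicGeometry TopologicalSpace
open SDiv

namespace Groth.Agent.S8916

/-- Let f : X ⟶ S be flat, locally of finite presentation and quasi-separated, and d ≥ 0 such that all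
irreducible components of each nonempty fibre of f have dimension d. Then the closed subset of X
defined by the Fitting ideal Fit_d(Ω_{X/S}) is exactly the set of points at which f is not smooth,
i.e. which have no open neighbourhood on which f is smooth. The published statement does not assume
f quasi-separated; this row does, because the module Ω_{X/S} used here is defined for
quasi-separated f. -/
theorem result {X S : Scheme.{u}} (f : X ⟶ S) [Flat f] [LocallyOfFinitePresentation f] [QuasiSeparated f]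
    (d : ℕ) (hdim : ∀ s : ↥S, ∀ T ∈ irreducibleComponents ↥(f.fiber s), topologicalKrullDim ↥T = d) (x : ↥X) :
    x ∈ (Fitt.sheafIdeal (Omega.sheaf f) d).support ↔ ¬ ∃ U : X.Opens, x ∈ U ∧ Smooth (U.ι ≫ f) := by
  rw [← not_iff_not, not_not]
  have hS := Groth.Agent.S8874.result X (Omega.sheaf f) inferInstance inferInstance x d
  rw [← hS]
  haveI hlft : LocallyOfFiniteType f := inferInstance
  haveI : LocallyOfFiniteType (f.fiberToSpecResidueField (f x)) :=
    MorphismProperty.pullback_snd (P := @LocallyOfFiniteType) _ _ hlft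
  letI ovF : (f.fiber (f x)).Over (Spec (CommRingCat.of (S.residueField (f x)))) :=
    ⟨f.fiberToSpecResidueField (f x)⟩
  haveI : LocallyOfFiniteType ((f.fiber (f x)) ↘ Spec (CommRingCat.of (S.residueField (f x)))) :=
    (inferInstance : LocallyOfFiniteType (f.fiberToSpecResidueField (f x)))
  have hfd : FlatMor.fibreDimAt f x = (d : WithBot ℕ∞) :=
    Groth.Agent.H11.Equidim.localDim_eq_of_equidim
      ((f.fiber (f x)) ↘ Spec (CommRingCat.of (S.residueField (f x)))) d
      (hdim (f x)) (f.asFiber x)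
  constructor
  · rintro ⟨U, hxU, π, hπ⟩
    obtain ⟨_, ⟨V₁, hV₁, rfl⟩, hxV₁, -⟩ :=
      S.isBasis_affineOpens.exists_subset_of_mem_open (Set.mem_univ (f x)) isOpen_univ
    obtain ⟨V, hV, hxV⟩ : ∃ V : S.Opens, IsAffineOpen V ∧ f x ∈ V := ⟨V₁, hV₁, hxV₁⟩
    obtain ⟨_, ⟨U₁, hU₁, rfl⟩, hxU₁, hU₁le⟩ := X.isBasis_affineOpens.exists_subset_of_mem_open
      (show x ∈ U ⊓ f ⁻¹ᵁ V from ⟨hxU, hxV⟩) (U ⊓ f ⁻¹ᵁ V).2
    obtain ⟨U₀, hU₀, hxU₀, hU₀le⟩ : ∃ U₀ : X.Opens, IsAffineOpen U₀ ∧ x ∈ U₀ ∧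
        U₀ ≤ U ⊓ f ⁻¹ᵁ V := ⟨U₁, hU₁, hxU₁, hU₁le⟩
    have hU₀U : U₀ ≤ U := fun y hy ↦ (hU₀le hy).1
    have e₀ : U₀ ≤ f ⁻¹ᵁ V := fun y hy ↦ (hU₀le hy).2
    obtain ⟨y, hy⟩ := Groth.Agent.H44.exists_span_of_epi_freeMod (Omega.sheaf f) hU₀ hU₀U π
    letI := (f.appLE V U₀ e₀).hom.toAlgebra
    let Φ := Groth.Agent.H44.omegaSectionsEquiv f hU₀ hV e₀
    have hsp : Submodule.span Γ(X, U₀) (Set.range fun i => Φ (y i)) = ⊤ := by
      have h1 := congrArg (Submodule.map Φ.toLinearMap) hy
      rw [Submodule.map_span, Submodule.map_top, LinearEquiv.range, ← Set.range_comp] at h1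
      exact h1
    have hx : x ∈ f.smoothLocus :=
      Groth.Agent.H11.SmoothSpan.mem_smoothLocus_of_flat_of_span f x (Flat.stalkMap f x) hU₀ hV e₀
        hxU₀ d (fun i => Φ (y i)) hsp (le_of_eq hfd.symm)
    exact ⟨f.smoothLocus, hx, Groth.Agent.H25.FibreSmoothPt.smooth_smoothLocus_ι_comp f⟩
  · rintro ⟨U, hxU, hU⟩
    haveI := hU
    have hx : x ∈ f.smoothLocus :=
      (Groth.Agent.H11.SmoothCartierSch2.formallySmooth_essFiniteType_stalkMap f x U hxU).1
    obtain ⟨U', n, hxU', ⟨e⟩, hn⟩ :=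
      Groth.Agent.H11.SmoothFree.exists_free_of_mem_smoothLocus f (OmegaSh.dOmega f)
        (Groth.Agent.H44.isUniversal_dOmega f) x hx
    have hnd : n = d := by
      rw [hfd] at hn
      exact_mod_cast hn.symm
    subst hnd
    exact ⟨U', hxU', e.inv, inferInstance⟩


end Groth.Agent.S8916
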