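import Groth.Statements.S8926
-- import your own Groth.Agent.* helpers here

set_option autoImplicit false
universe u
open InjHull

open TensorProduct
namespace Groth.Agent.S8926

/-- Suppose R → S is an epimorphism of rings and E is an S-module whose underlying R-module (via
restriction of scalars) is injective; then E is injective as an S-module as well. -/
theorem result (R S : Type u) [CommRing R] [CommRing S] [Algebra R S] [Algebra.IsEpi R S] (E : Type u) [AddCommGroup E] [Module S E] [Module R E] [IsScalarTower R S E] [Module.Injective R E] : Module.Injective S E := by
  constructor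
  intro X Y _ _ _ _ f hf g
  letI : Module R X := Module.compHom X (algebraMap R S)
  letI : Module R Y := Module.compHom Y (algebraMap R S)
  haveI : IsScalarTower R S X := IsScalarTower.of_algebraMap_smul fun r x => rfl
  haveI : IsScalarTower R S Y := IsScalarTower.of_algebraMap_smul fun r x => rfl
  obtain ⟨h, hh⟩ := Module.Injective.out (R := R) (Q := E) (f.restrictScalars R) hf
    (g.restrictScalars R)
  have key : ∀ (s : S) (y : Y), h (s • y) = s • h y := by
    intro s y
    let Φ : S ⊗[R] S →ₗ[R] E := TensorProduct.lift
      (LinearMap.mk₂ R (fun a b : S => a • h (b • y))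
        (fun a a' b => by simp [add_smul])
        (fun r a b => by simp [smul_assoc])
        (fun a b b' => by simp [add_smul, smul_add])
        (fun r a b => by
          simp only [smul_assoc, map_smul]
          rw [smul_comm]))
    have h1 : Φ (1 ⊗ₜ s) = h (s • y) := by simp [Φ]
    have h2 : Φ (s ⊗ₜ 1) = s • h y := by simp [Φ]
    rw [← h1, ← h2, (Algebra.isEpi_iff_forall_one_tmul_eq R S).mp inferInstance s]
  exact ⟨{ toFun := h, map_add' := h.map_add, map_smul' := key }, hh⟩

end Groth.Agent.S8926
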