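import Groth.Statements.S8930
import Mathlib
import Groth.Agent.H97.OpenImmFactor

set_option autoImplicit false
universe u
open AlgebraicGeometry
open Disc

namespace Groth.Agent.S8930

/-- Given two factorizations A → B' → B and A → B'' → B of a ring map with A → B' and A → B'' finite and
Spec(B) → Spec(B'), Spec(B) → Spec(B'') open immersions, there is an A-subalgebra C of B which is
finite over A, contains the images of B' and B'', and is such that Spec(B) → Spec(C) is an open
immersion. (Such an A → B is quasi-finite; that hypothesis of the published statement is implied by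
the factorizations and is not repeated.) -/
theorem result (A B B' B'' : Type u) [CommRing A] [CommRing B] [CommRing B'] [CommRing B''] [Algebra A B] [Algebra A B'] [Algebra A B''] [Algebra B' B] [Algebra B'' B] [IsScalarTower A B' B] [IsScalarTower A B'' B] [Module.Finite A B'] [Module.Finite A B''] (h' : IsOpenImmersion (Spec.map (CommRingCat.ofHom (algebraMap B' B)))) (h'' : IsOpenImmersion (Spec.map (CommRingCat.ofHom (algebraMap B'' B)))) : ∃ C : Subalgebra A B, Module.Finite A C ∧ Set.range (algebraMap B' B) ⊆ (C : Set B) ∧ Set.range (algebraMap B'' B) ⊆ (C : Set B) ∧ IsOpenImmersion (Spec.map (CommRingCat.ofHom C.val.toRingHom)) := by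
  classical
  let f' : B' →ₐ[A] B := IsScalarTower.toAlgHom A B' B
  let f'' : B'' →ₐ[A] B := IsScalarTower.toAlgHom A B'' B
  let C : Subalgebra A B := f'.range ⊔ f''.range
  have hfin' : Module.Finite A f'.range :=
    Module.Finite.of_surjective f'.rangeRestrict.toLinearMap f'.rangeRestrict_surjective
  have hfin'' : Module.Finite A f''.range :=
    Module.Finite.of_surjective f''.rangeRestrict.toLinearMap f''.rangeRestrict_surjective
  have hC : Module.Finite A C := Subalgebra.finite_sup _ _
  have hle' : f'.range ≤ C := le_sup_left
  have hle'' : f''.range ≤ C := le_sup_right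
  refine ⟨C, hC, ?_, ?_, ?_⟩
  · rintro _ ⟨x, rfl⟩
    exact hle' ⟨x, rfl⟩
  · rintro _ ⟨x, rfl⟩
    exact hle'' ⟨x, rfl⟩
  · let φ : B' →ₐ[A] C := f'.codRestrict C (fun x => hle' ⟨x, rfl⟩)
    letI : Algebra B' C := φ.toRingHom.toAlgebra
    haveI : IsScalarTower B' C B := IsScalarTower.of_algebraMap_eq (fun x => rfl)
    have hinj : Function.Injective (algebraMap C B) := Subtype.val_injective
    exact Groth.Agent.H97.OpenImmFactor.isOpenImmersion_of_factor (B' := B') (C := C) (B := B) hinj h'

end Groth.Agent.S8930
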