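import Groth.Statements.S8933
import Groth.Agent.H9.RG.Smul

set_option autoImplicit false
universe u
open CategoryTheory CategoryTheory.Limits
attribute [local instance] HasDerivedCategory.standard
open LocCoh

namespace Groth.Agent.S8933

/-- For a ring A, a finitely generated ideal I and a complex K of A-modules such that multiplication by
some f ∈ I is bijective on every term of K, the object RΓ_I(K) of D(A) is zero; here RΓ_I is the
right derived functor of the I-power torsion functor, assumed to exist. -/
theorem result (A : Type u) [CommRing A] (I : Ideal A) (hI : I.FG) [DRing.HasRgammaI I] (K : CochainComplex (ModuleCat.{u} A) ℤ) (f : A) (hf : f ∈ I) (hK : ∀ n : ℤ, Function.Bijective (fun x : K.X n => f • x)) : IsZero ((DRing.RgammaI I).obj (DerivedCategory.Q.obj K)) := by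
  classical
  open Groth.Agent.H9.RG in
  obtain ⟨J, r, hJ, hr⟩ := hKinj K
  have hQr : IsIso (DerivedCategory.Q.map r) := by
    rw [DerivedCategory.isIso_Q_map_iff_quasiIso]; exact hr
  have hu : IsIso (Groth.Agent.H9.RG.u I J) := Groth.Agent.H9.RG.isIso_u I J hJ
  have hisoK : IsIso (f • 𝟙 K) := by
    have : ∀ n, IsIso ((f • 𝟙 K).f n) := fun n => by
      rw [ConcreteCategory.isIso_iff_bijective]
      exact hK n
    exact HomologicalComplex.Hom.isIso_of_components _
  have comm : (f • 𝟙 K) ≫ r = r ≫ (f • 𝟙 J) := by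
    rw [Linear.smul_comp, Linear.comp_smul, Category.id_comp, Category.comp_id]
  have hisoJ : IsIso (DerivedCategory.Q.map (f • 𝟙 J)) := by
    have : DerivedCategory.Q.map (f • 𝟙 J) =
        inv (DerivedCategory.Q.map r) ≫ DerivedCategory.Q.map (f • 𝟙 K) ≫ DerivedCategory.Q.map r := by
      rw [← Functor.map_comp, comm, Functor.map_comp, IsIso.inv_hom_id_assoc]
    rw [this]; infer_instance
  have hq : IsIso (DerivedCategory.Q.map ((Groth.Agent.H9.RG.Γc I).map (f • 𝟙 J))) := by
    have nat := Groth.Agent.H9.RG.u_naturality I (f • 𝟙 J)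
    have : DerivedCategory.Q.map ((Groth.Agent.H9.RG.Γc I).map (f • 𝟙 J)) =
        Groth.Agent.H9.RG.u I J ≫ (DRing.RgammaI I).map (DerivedCategory.Q.map (f • 𝟙 J)) ≫
          inv (Groth.Agent.H9.RG.u I J) := by
      rw [← Category.assoc, ← nat, Category.assoc, IsIso.hom_inv_id, Category.comp_id]
    rw [this]; infer_instance
  rw [DerivedCategory.isIso_Q_map_iff_quasiIso, Groth.Agent.H9.RG.Γc_map_smul] at hq
  have hz : IsZero (DerivedCategory.Q.obj ((Groth.Agent.H9.RG.Γc I).obj J)) :=
    Groth.Agent.H9.RG.isZero_Q_obj_of_isZero_homology _ (fun n =>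
      Groth.Agent.H9.RG.isZero_homology_of_quasiIsoAt_smul _ f n (hq.quasiIsoAt n)
        (fun y => Groth.Agent.H9.RG.exists_pow_smul_eq_zero_of_mem I hf (J.X n) y))
  exact IsZero.of_iso hz ((DRing.RgammaI I).mapIso (asIso (DerivedCategory.Q.map r)) ≪≫
    (asIso (Groth.Agent.H9.RG.u I J)).symm)

end Groth.Agent.S8933
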