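import Groth.Statements.S8935
import Groth.Agent.H26.OmegaGor
import Groth.Agent.H26.GorFieldAny
import Groth.Agent.H26.GorLCI
import Groth.Agent.H46.CIField
import Groth.Agent.H81.CIGor2

set_option autoImplicit false
universe u
open Disc

namespace Groth.Agent.S8935

/-- Let k be a field and B = k[x_1, …, x_n]/(f_1, …, f_n), a global complete intersection with as many
equations as variables, of Krull dimension 0. Then ω_{B/k} = Hom_k(B, k), with B acting through the
argument, is an invertible B-module; since B is Artinian this means it is free of rank one, which is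
the form stated. -/
theorem result (k : Type u) [Field k] (n : ℕ) (f : Fin n → MvPolynomial (Fin n) k) (h0 : ringKrullDim (MvPolynomial (Fin n) k ⧸ Ideal.span (Set.range f)) = 0) : Nonempty (Disc.Omega k (MvPolynomial (Fin n) k ⧸ Ideal.span (Set.range f)) ≃ₗ[MvPolynomial (Fin n) k ⧸ Ideal.span (Set.range f)] (MvPolynomial (Fin n) k ⧸ Ideal.span (Set.range f))) := by
  classical
  have hk : LocCoh.IsGorensteinRing k := Groth.Agent.H26.GorFieldAny.isGorensteinRing_of_isRegularRing k
  have hP : LocCoh.IsGorensteinRing (MvPolynomial (Fin n) k) :=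
    Groth.Agent.H26.GorLCI.isGorensteinRing_mvPolynomial k hk n
  have hht : (n : ℕ∞) ≤ (Ideal.span (Set.range f)).height := by
    rw [Ideal.height_eq_inf_minimalPrimes]
    refine le_iInf₂ fun Q hQ => ?_
    have hd : ringKrullDim (MvPolynomial (Fin n) k ⧸ Ideal.span (Set.range f)) =
        ((n - n : ℕ) : WithBot ℕ∞) := by
      rw [h0]; simp
    have := Groth.Agent.H46.CIField.height_eq_of_mem_minimalPrimes k n n le_rfl f hd Q hQ
    rw [this]
  have hB : LocCoh.IsGorensteinRing (MvPolynomial (Fin n) k ⧸ Ideal.span (Set.range f)) :=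
    Groth.Agent.H81.CIGor.isGorensteinRing_quotient_span_range (MvPolynomial (Fin n) k) n f hht
  have : IsNoetherianRing (MvPolynomial (Fin n) k ⧸ Ideal.span (Set.range f)) :=
    hB.toIsNoetherian
  have : IsArtinianRing (MvPolynomial (Fin n) k ⧸ Ideal.span (Set.range f)) := by
    rw [isArtinianRing_iff_krullDimLE_zero, Ring.KrullDimLE, Order.krullDimLE_iff, ← ringKrullDim,
      h0]
    simp
  have : Algebra.QuasiFinite k (MvPolynomial (Fin n) k ⧸ Ideal.span (Set.range f)) := by
    rw [Algebra.QuasiFinite.iff_finite_comap_preimage_singleton]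
    intro P
    exact Set.toFinite _
  have : Module.Finite k (MvPolynomial (Fin n) k ⧸ Ideal.span (Set.range f)) :=
    Module.Finite.of_quasiFinite
  obtain ⟨e⟩ := (Groth.Agent.H26.OmegaGor.field_case k
    (MvPolynomial (Fin n) k ⧸ Ideal.span (Set.range f))).mp hB
  exact ⟨e.symm⟩

end Groth.Agent.S8935
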