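import Groth.Statements.S8936
-- import your own Groth.Agent.* helpers here

set_option autoImplicit false
universe u v
open InjHull

namespace Groth.Agent.S8936

/-- For a directed system (E_i) of R-modules over a nonempty directed preorder and a compatible family
of essential injections M → E_i, the induced map from M to the direct limit of the E_i is an
essential injection. -/
theorem result (R : Type u) [CommRing R] (ι : Type v) [Preorder ι] [IsDirectedOrder ι] [DecidableEq ι] (i₀ : ι) (E : ι → Type v) [∀ i, AddCommGroup (E i)] [∀ i, Module R (E i)] (f : ∀ i j, i ≤ j → E i →ₗ[R] E j) [DirectedSystem E fun i j h => f i j h] (M : Type v) [AddCommGroup M] [Module R M] (g : ∀ i, M →ₗ[R] E i) (hg : ∀ i j (h : i ≤ j), f i j h ∘ₗ g i = g j) (he : ∀ i, InjHull.IsEssentialInj (g i)) : InjHull.IsEssentialInj (Module.DirectLimit.of R ι E f i₀ ∘ₗ g i₀) := by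
  haveI : Nonempty ι := ⟨i₀⟩
  have hcompat : ∀ i (m : M), Module.DirectLimit.of R ι E f i (g i m) =
      Module.DirectLimit.of R ι E f i₀ (g i₀ m) := by
    intro i m
    obtain ⟨k, hik, h0k⟩ := exists_ge_ge i i₀
    have h1 : f i k hik (g i m) = g k m := by
      have := hg i k hik
      exact LinearMap.congr_fun this m
    have h2 : f i₀ k h0k (g i₀ m) = g k m := by
      have := hg i₀ k h0k
      exact LinearMap.congr_fun this m
    rw [← Module.DirectLimit.of_f (hij := hik), h1, ← h2, Module.DirectLimit.of_f]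
  have hinj : Function.Injective (Module.DirectLimit.of R ι E f i₀ ∘ₗ g i₀) := by
    rw [← LinearMap.ker_eq_bot, LinearMap.ker_eq_bot']
    intro m hm
    rw [LinearMap.comp_apply] at hm
    obtain ⟨j, hij, hj⟩ := Module.DirectLimit.of.zero_exact hm
    have h2 : f i₀ j hij (g i₀ m) = g j m := LinearMap.congr_fun (hg i₀ j hij) m
    rw [h2] at hj
    exact (he j).injective (by rw [hj, map_zero])
  refine ⟨hinj, ?_⟩
  intro N hN
  rw [Ne, Submodule.eq_bot_iff] at hN
  push Not at hN
  obtain ⟨x, hxN, hx0⟩ := hN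
  obtain ⟨i, y, rfl⟩ := Module.DirectLimit.exists_of x
  have hy0 : y ≠ 0 := by
    rintro rfl
    exact hx0 (map_zero _)
  have h1 : Submodule.span R {y} ≠ ⊥ := by
    intro h0
    apply hy0
    have : y ∈ Submodule.span R {y} := Submodule.subset_span rfl
    rw [h0] at this
    simpa using this
  have h2 := (he i).essential _ h1
  rw [Ne, Submodule.eq_bot_iff] at h2
  push Not at h2
  obtain ⟨z, hz, hz0⟩ := h2
  obtain ⟨hz1, ⟨m, rfl⟩⟩ := Submodule.mem_inf.mp hz
  obtain ⟨r, hr⟩ := Submodule.mem_span_singleton.mp hz1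
  have hm0 : m ≠ 0 := by
    rintro rfl
    exact hz0 (map_zero _)
  intro hbot
  have hmem : (Module.DirectLimit.of R ι E f i₀ ∘ₗ g i₀) m ∈
      N ⊓ LinearMap.range (Module.DirectLimit.of R ι E f i₀ ∘ₗ g i₀) := by
    refine ⟨?_, ⟨m, rfl⟩⟩
    rw [LinearMap.comp_apply, ← hcompat i m, ← hr, map_smul]
    exact N.smul_mem r hxN
  rw [hbot, Submodule.mem_bot] at hmem
  exact hm0 (hinj (by rw [hmem, map_zero]))

end Groth.Agent.S8936
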