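import Mathlib
import Groth.Statements.S8938
import Groth.Agent.H35.TorU.BlowTor

set_option autoImplicit false
universe u
open CategoryTheory
attribute [local instance] HasDerivedCategory.standard
open LocCoh

namespace Groth.Agent.S8938

/-- Let A be a Noetherian ring, I an ideal generated by t + 1 listed elements a_0, …, a_t, and B =
A[I/a_0] the affine blow-up algebra. Then for some integer c the ideal I^c annihilates Tor_i^A(B, M)
for all A-modules M and all i ≥ t + 1. -/
theorem result (A : Type u) [CommRing A] [IsNoetherianRing A] (t : ℕ) (a : Fin (t + 1) → A) : ∃ c : ℕ, ∀ (M : Type u) [AddCommGroup M] [Module A M] (i : ℕ), t + 1 ≤ i → ∀ x ∈ Ideal.span (Set.range a) ^ c, ∀ y : DRing.Tor A i (BlowUp.affineAlgebra A (Ideal.span (Set.range a)) (a 0)) M, x • y = 0 := by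
  classical
  have hs : Ideal.span (Set.range a) = Ideal.span ((Finset.univ.image a : Finset A) : Set A) := by
    rw [Finset.coe_image, Finset.coe_univ, Set.image_univ]
  have hcard : (Finset.univ.image a).card ≤ t + 1 := by
    calc (Finset.univ.image a).card ≤ (Finset.univ : Finset (Fin (t + 1))).card :=
          Finset.card_image_le
      _ = t + 1 := by simp
  have h := (Groth.Agent.H35.TorU.claim_span (Finset.univ.image a)).mono hcard
  rw [← hs] at h
  obtain ⟨c, hc⟩ := h
  refine ⟨c, fun M _ _ i hi x hx y => ?_⟩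
  obtain ⟨m, rfl⟩ : ∃ m, i = m + 1 := ⟨i - 1, by omega⟩
  have ha0 : a 0 ∈ Ideal.span (Set.range a) := Ideal.subset_span ⟨0, rfl⟩
  exact Groth.Agent.H35.TorU.blow_tor_smul_eq_zero ha0 (ModuleCat.of A M) m x
    (fun q => (hc (ModuleCat.of A M) (projectiveResolution (ModuleCat.of A M)) (m + 2)
      (by omega)).1 x hx q) y

end Groth.Agent.S8938
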