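import Groth.Statements.S8939
import Groth.Agent.H45.DerConn.Homology
import Groth.Agent.H88.ExtCechLC

set_option autoImplicit false
universe u
open LocCoh

namespace Groth.Agent.S8939

/-- Given a derivation θ of a Noetherian ring A and an ideal I, each local cohomology module H^i_I(A)
carries an additive operator D with D(a • ξ) = θ(a) • ξ + a • D(ξ) (existence only; the published
statement is for any ring and a finitely generated ideal with the local cohomology of the extended
alternating Čech complex, which for Noetherian A is the local cohomology used here). -/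
theorem result (A : Type u) [CommRing A] [IsNoetherianRing A] (I : Ideal A) (θ : Derivation ℤ A A) (i : ℕ) : ∃ D : LocCoh.H I i A →+ LocCoh.H I i A, ∀ (a : A) (ξ : LocCoh.H I i A), D (a • ξ) = θ a • ξ + a • D ξ := by
  obtain ⟨s, rfl⟩ := (isNoetherianRing_iff_ideal_fg A).1 inferInstance I
  obtain ⟨cK⟩ := Groth.Agent.H45.DerConn.nonempty_cxConn_extCech (ModuleCat.of A A)
    (Groth.Agent.H45.DerConn.Conn.self θ) s.toList
  obtain ⟨e⟩ := Groth.Agent.H88.nonempty_extCechH_equiv_localCohomology s.toList i
    (ModuleCat.of A A)
  have hs : {x | x ∈ s.toList} = (↑s : Set A) := by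
    ext x
    simp
  rw [hs] at e
  have cH : Groth.Agent.H45.DerConn.Conn θ (LocCoh.H (Ideal.span (↑s : Set A)) i A) :=
    (cK.homology (i : ℤ)).ofEquiv e
  exact ⟨cH.D, cH.leib⟩

end Groth.Agent.S8939
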