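import Groth.Statements.S8944
import Groth.Agent.H78.QFFlat.Main
import Groth.Agent.H78.QFAss.OpenImm

set_option autoImplicit false
universe u
open AlgebraicGeometry
open scoped TensorProduct
open Disc

namespace Groth.Agent.S8944

/-- Let A → B be a flat homomorphism of Noetherian rings, and suppose it factors through a ring B′ as A
→ B′ → B, where B′ is finite over A and the induced map of spectra Spec(B) → Spec(B′) is an open
immersion, so that the relative dualizing module is ω_{B/A} = Hom_A(B′, A) ⊗_{B′} B (B′ acting on
Hom_A(B′, A) through the argument). Then ω_{B/A} is a flat A-module. -/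
theorem result (A B B' : Type u) [CommRing A] [CommRing B] [CommRing B'] [IsNoetherianRing A] [IsNoetherianRing B] [Algebra A B] [Module.Flat A B] [Algebra A B'] [Algebra B' B] [IsScalarTower A B' B] [Module.Finite A B'] (hopen : IsOpenImmersion (Spec.map (CommRingCat.ofHom (algebraMap B' B)))) : Module.Flat A (B ⊗[B'] Disc.Omega A B') := by
  classical
  refine Module.flat_of_isLocalized_maximal (R := A) B (B ⊗[B'] Disc.Omega A B')
    (fun P _ => Localization.AtPrime P ⊗[B] (B ⊗[B'] Disc.Omega A B'))
    (fun P _ => TensorProduct.mk B (Localization.AtPrime P) (B ⊗[B'] Disc.Omega A B') 1)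
    (fun P hP => ?_)
  haveI : P.IsPrime := hP.isPrime
  set q₀ : Ideal B' := P.comap (algebraMap B' B) with hq₀
  haveI : q₀.IsPrime := Ideal.comap_isPrime _ _
  have hbij := Groth.Agent.H78.QFAss.localRingHom_bijective_of_isOpenImmersion
    (algebraMap B' B) hopen P
  -- the `B'`-linear equivalence `B'_{q₀} ≃ B_P`
  let φ : Localization.AtPrime q₀ →ₗ[B'] Localization.AtPrime P :=
    { toFun := Localization.localRingHom q₀ P (algebraMap B' B) rfl
      map_add' := map_add _
      map_smul' := fun b x => by
        rw [RingHom.id_apply, Algebra.smul_def, map_mul, Localization.localRingHom_to_map,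
          Algebra.smul_def, ← IsScalarTower.algebraMap_apply] }
  let e : Localization.AtPrime q₀ ≃ₗ[B'] Localization.AtPrime P :=
    LinearEquiv.ofBijective φ hbij
  -- `B'_{q₀}` is `A`-flat
  haveI : Module.Flat A (Localization.AtPrime P) := inferInstance
  haveI : Module.Flat A (Localization.AtPrime q₀) :=
    Module.Flat.of_linearEquiv (e.restrictScalars A)
  have hmain := Groth.Agent.H78.QFFlat.flat_localization_omega A B' q₀
  let E1 : Localization.AtPrime P ⊗[B] (B ⊗[B'] Disc.Omega A B') ≃ₗ[Localization.AtPrime P]
      Localization.AtPrime P ⊗[B'] Disc.Omega A B' :=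
    TensorProduct.AlgebraTensorModule.cancelBaseChange B' B (Localization.AtPrime P)
      (Localization.AtPrime P) (Disc.Omega A B')
  let E2 : Localization.AtPrime q₀ ⊗[B'] Disc.Omega A B' ≃ₗ[B']
      Localization.AtPrime P ⊗[B'] Disc.Omega A B' := LinearEquiv.rTensor (Disc.Omega A B') e
  exact Module.Flat.of_linearEquiv
    ((E1.restrictScalars A).trans (E2.restrictScalars A).symm)

end Groth.Agent.S8944
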