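import Groth.Statements.S8953
import Groth.Agent.S1799
import Groth.Agent.H28.ShriekOpen
import Groth.Agent.H28.ShriekFinite
import Groth.Agent.H28.OmegaH0
import Groth.Agent.H35.LTensorRing

set_option autoImplicit false
set_option linter.style.haveILetI false
universe u
open CategoryTheory AlgebraicGeometry
open scoped TensorProduct
attribute [local instance] HasDerivedCategory.standard
open Disc

namespace Groth.Agent.S8953

/-- Let A → B be a quasi-finite map of Noetherian rings, written as a composite A → B′ → B in which the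
first map A → B′ is finite and the induced morphism Spec(B) → Spec(B′) is an open immersion, so that
ω_{B/A} = Hom_A(B′, A) ⊗_{B′} B; and let ω^•_{B/A} = φ^!(A[0]) be the algebraic relative dualizing
complex computed through a presentation ψ : A[x_1, …, x_n] → B (derived base change assumed to
exist, RHom_P(B, −) given as a right adjoint of restriction of scalars). Then there is a
(non-unique) B-linear isomorphism H^0(ω^•_{B/A}) ≅ ω_{B/A}. -/
theorem result (A B B' : Type u) [CommRing A] [CommRing B] [CommRing B'] [IsNoetherianRing A] [IsNoetherianRing B] [Algebra A B] [Algebra A B'] [Algebra B' B] [IsScalarTower A B' B] [Module.Finite A B'] (hopen : IsOpenImmersion (Spec.map (CommRingCat.ofHom (algebraMap B' B)))) (n : ℕ) (ψ : MvPolynomial (Fin n) A →ₐ[A] B) (hψ : Function.Surjective ψ) [DRing.HasLBaseChange (algebraMap A (MvPolynomial (Fin n) A))] (Rψ : Dual.D (MvPolynomial (Fin n) A) ⥤ Dual.D B) (adj : DRing.restrictD ψ.toRingHom ⊣ Rψ) : Nonempty (Dual.HD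 B (Dual2.shriekVia n Rψ (Dual.inD A A)) 0 ≃ₗ[B] (B ⊗[B'] Disc.Omega A B')) := by
  -- basic ring-theoretic facts
  haveI ftAB' : Algebra.FiniteType A B' := inferInstance
  haveI noethB' : IsNoetherianRing B' := Algebra.FiniteType.isNoetherianRing A B'
  haveI intAB' : Algebra.IsIntegral A B' := inferInstance
  haveI ftAB : Algebra.FiniteType A B :=
    Algebra.FiniteType.iff_quotient_mvPolynomial''.mpr ⟨n, ψ, hψ⟩
  haveI ftB'B : Algebra.FiniteType B' B := Algebra.FiniteType.of_restrictScalars_finiteType A B' B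
  haveI flatB'B : Module.Flat B' B := Groth.Agent.H28.ShriekOpen.flat_of_isOpenImmersion hopen
  haveI epiB'B : Algebra.IsEpi B' B := Groth.Agent.H28.ShriekOpen.isEpi_of_isOpenImmersion hopen
  -- presentations
  obtain ⟨m, ψ₁, hψ₁⟩ := Algebra.FiniteType.iff_quotient_mvPolynomial''.mp ftAB'
  obtain ⟨k, χ, hχ⟩ := Algebra.FiniteType.iff_quotient_mvPolynomial''.mp ftB'B
  haveI lb1 : DRing.HasLBaseChange (algebraMap A (MvPolynomial (Fin m) A)) :=
    Groth.Agent.H35.LT.hasLBaseChange _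
  haveI lb2 : DRing.HasLBaseChange (algebraMap B' (MvPolynomial (Fin k) B')) :=
    Groth.Agent.H35.LT.hasLBaseChange _
  haveI lb3 : DRing.HasLBaseChange (algebraMap B' B) := Groth.Agent.H35.LT.hasLBaseChange _
  obtain ⟨Rψ₁, ⟨adj₁⟩⟩ := Groth.Agent.H28.ShriekIndep.exists_rightAdjoint ψ₁.toRingHom
  obtain ⟨Rχ, ⟨adjχ⟩⟩ := Groth.Agent.H28.ShriekIndep.exists_rightAdjoint χ.toRingHom
  -- composition
  have hK0 : ∀ i : ℤ, i < 0 → Subsingleton (Dual.HD A (Dual.inD A A) i) := by
    intro i hi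
    have : (Dual.inD A A).IsGE 0 := inferInstance
    have hz := (DerivedCategory.isGE_iff (Dual.inD A A) 0).1 this i hi
    exact ModuleCat.subsingleton_of_isZero hz
  obtain ⟨e1⟩ := Groth.Agent.H26.CoextBC.nonempty_shriekVia_comp A B' B m ψ₁ hψ₁ Rψ₁ adj₁ k χ hχ
    Rχ adjχ n ψ hψ Rψ adj (Dual.inD A A) 0 hK0
  -- the finite step
  obtain ⟨e2⟩ := Groth.Agent.H28.ShriekFinite.nonempty_shriekVia_iso_rightAdjoint m ψ₁ Rψ₁ adj₁
    (Groth.Agent.H26.CoextBC.RR A B') (Groth.Agent.H26.CoextBC.adjRR A B') (Dual.inD A A)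
  -- the open immersion step
  haveI geD : ((Groth.Agent.H26.CoextBC.RR A B').obj (Dual.inD A A)).IsGE 0 :=
    Groth.Agent.H26.CoextBC.isGE_RR (Dual.inD A A) 0
  obtain ⟨e3⟩ := Groth.Agent.H28.ShriekOpen.nonempty_shriekVia_iso_of_flat_epi k χ hχ Rχ adjχ
    ((Groth.Agent.H26.CoextBC.RR A B').obj (Dual.inD A A)) 0
  -- H⁰
  obtain ⟨e4⟩ := Groth.Agent.H28.OmegaH0.nonempty_HD_rightAdjoint_equiv_omega
    (Groth.Agent.H26.CoextBC.RR A B') (Groth.Agent.H26.CoextBC.adjRR A B')
  let isoTot : Dual2.shriekVia n Rψ (Dual.inD A A) ≅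
      (Groth.Agent.H26.FlatBCHom.LB B' B).obj
        ((Groth.Agent.H26.CoextBC.RR A B').obj (Dual.inD A A)) :=
    e1 ≪≫ (shiftFunctor (Dual.D B) (k : ℤ)).mapIso (Rχ.mapIso
      ((DRing.LBaseChange (algebraMap B' (MvPolynomial (Fin k) B'))).mapIso e2)) ≪≫ e3 ≪≫
      (Groth.Agent.H26.FlatBCDual.lbcIso (A := B') (B := B)).app _
  exact ⟨((DerivedCategory.homologyFunctor (ModuleCat.{u} B) 0).mapIso isoTot).toLinearEquiv ≪≫ₗ
    Groth.Agent.H26.FlatBCDual.HD_LB_equiv _ 0 ≪≫ₗ LinearEquiv.baseChange B' B _ _ e4⟩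

end Groth.Agent.S8953
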