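import Groth.Statements.S8972
import Mathlib

set_option autoImplicit false
open Synt

namespace Groth.Agent.S8972

open MvPolynomial

section
variable (n d : ℕ)

/-- the zero exponent index -/
def z : UnivIdx n d := ⟨fun _ => 0, by simp⟩

lemma exponent_z : (z n d).exponent = 0 := by
  ext i
  simp [z, UnivIdx.exponent]

/-- index set of the variables of the polynomial ring to which `B` is isomorphic -/
abbrev σ : Type := (Fin n × {E : UnivIdx n d // E ≠ z n d}) ⊕ Fin n

/-- the polynomial ring -/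
abbrev P : Type := MvPolynomial (σ n d) ℤ

/-- image of the monomial `x^e` -/
noncomputable def xmon (e : Fin n →₀ ℕ) : P n d :=
  e.prod fun j k => (X (Sum.inr j) : P n d) ^ k

noncomputable def g (i : Fin n) : P n d :=
  ∑ E' : {E : UnivIdx n d // E ≠ z n d}, X (Sum.inl (i, E')) * xmon n d E'.1.exponent

open Classical in
noncomputable def ψ₀ : UnivBase n d →+* P n d :=
  eval₂Hom (Int.castRingHom _)
    (fun p => if h : p.2 = z n d then - g n d p.1 else X (Sum.inl (p.1, ⟨p.2, h⟩)))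

noncomputable def ψ : MvPolynomial (Fin n) (UnivBase n d) →+* P n d :=
  eval₂Hom (ψ₀ n d) (fun j => X (Sum.inr j))

lemma ψ_monomial (e : Fin n →₀ ℕ) (c : UnivBase n d) :
    ψ n d (monomial e c) = ψ₀ n d c * xmon n d e := by
  simp only [ψ, coe_eval₂Hom, eval₂_monomial, xmon]

lemma ψ₀_X_z (i : Fin n) : ψ₀ n d (X (i, z n d)) = - g n d i := by
  simp [ψ₀]

lemma ψ₀_X_ne (i : Fin n) (E : {E : UnivIdx n d // E ≠ z n d}) :
    ψ₀ n d (X (i, E.1)) = X (Sum.inl (i, E)) := by
  simp [ψ₀, E.2]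

lemma xmon_zero : xmon n d 0 = 1 := by
  simp [xmon]

lemma ψ_univPoly (i : Fin n) : ψ n d (univPoly n d i) = 0 := by
  classical
  rw [univPoly, map_sum, Fintype.sum_eq_add_sum_compl (z n d)]
  rw [ψ_monomial, ψ₀_X_z, exponent_z, xmon_zero, mul_one]
  have h2 : ∑ E ∈ ({z n d}ᶜ : Finset (UnivIdx n d)),
      ψ n d (monomial E.exponent (X (i, E))) = g n d i := by
    rw [g, Finset.sum_subtype (p := fun E => E ≠ z n d) _ (by simp)]
    refine Finset.sum_congr rfl fun E _ => ?_
    rw [ψ_monomial, ψ₀_X_ne]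
  rw [h2]
  ring

/-- the quotient map -/
noncomputable def mkR : MvPolynomial (Fin n) (UnivBase n d) →+* UnivAlg n d :=
  (UnivAlg.mk n d).toRingHom

lemma mkR_surjective : Function.Surjective (mkR n d) :=
  Ideal.Quotient.mk_surjective

lemma mkR_eq_zero {f : MvPolynomial (Fin n) (UnivBase n d)} (hf : f ∈ univIdeal n d) :
    mkR n d f = 0 :=
  Ideal.Quotient.eq_zero_iff_mem.mpr hf

noncomputable def ψbar : UnivAlg n d →+* P n d :=
  Ideal.Quotient.lift (univIdeal n d) (ψ n d) (by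
    intro a ha
    have hle : univIdeal n d ≤ RingHom.ker (ψ n d) := by
      rw [univIdeal, Ideal.span_le]
      rintro _ ⟨i, rfl⟩
      exact ψ_univPoly n d i
    exact hle ha)

lemma ψbar_mkR (f : MvPolynomial (Fin n) (UnivBase n d)) : ψbar n d (mkR n d f) = ψ n d f :=
  Ideal.Quotient.lift_mk _ _ _

noncomputable def φ : P n d →+* UnivAlg n d :=
  eval₂Hom (Int.castRingHom _)
    (Sum.elim (fun p => mkR n d (C (X (p.1, p.2.1)))) (fun j => mkR n d (X j)))

lemma φ_xmon (e : Fin n →₀ ℕ) : φ n d (xmon n d e) = mkR n d (monomial e 1) := by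
  rw [xmon, Finsupp.prod, map_prod, MvPolynomial.monomial_eq, map_one, one_mul, Finsupp.prod,
    map_prod]
  refine Finset.prod_congr rfl fun j _ => ?_
  rw [map_pow, map_pow]
  congr 1
  simp [φ]

lemma φ_X_inl (i : Fin n) (E : {E : UnivIdx n d // E ≠ z n d}) :
    φ n d (X (Sum.inl (i, E))) = mkR n d (C (X (i, E.1))) := by
  simp [φ]

lemma φ_g (i : Fin n) : φ n d (g n d i) = - mkR n d (C (X (i, z n d))) := by
  classical
  have h0 : mkR n d (univPoly n d i) = 0 :=
    mkR_eq_zero n d (Ideal.subset_span ⟨i, rfl⟩)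
  rw [univPoly, map_sum, Fintype.sum_eq_add_sum_compl (z n d), exponent_z] at h0
  have h2 : ∑ E ∈ ({z n d}ᶜ : Finset (UnivIdx n d)),
      mkR n d (monomial E.exponent (X (i, E))) = φ n d (g n d i) := by
    rw [g, map_sum, Finset.sum_subtype (p := fun E => E ≠ z n d) _ (by simp)]
    refine Finset.sum_congr rfl fun E _ => ?_
    rw [map_mul, φ_X_inl, φ_xmon, ← map_mul, MvPolynomial.C_mul_monomial, mul_one]
  rw [h2] at h0
  have h3 : (monomial (0 : Fin n →₀ ℕ) (X (i, z n d) : UnivBase n d)) = C (X (i, z n d)) := rfl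
  rw [h3] at h0
  exact eq_neg_of_add_eq_zero_right h0

lemma φ_ψ₀ : (φ n d).comp (ψ₀ n d) = (mkR n d).comp C := by
  classical
  apply MvPolynomial.ringHom_ext
  · intro k
    simp
  · rintro ⟨i, E⟩
    by_cases h : E = z n d
    · subst h
      rw [RingHom.comp_apply, ψ₀_X_z, map_neg, φ_g, neg_neg, RingHom.comp_apply]
    · rw [RingHom.comp_apply, ψ₀_X_ne n d i ⟨E, h⟩, φ_X_inl, RingHom.comp_apply]

lemma φ_ψ : (φ n d).comp (ψ n d) = mkR n d := by
  apply MvPolynomial.ringHom_ext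
  · intro c
    have := RingHom.congr_fun (φ_ψ₀ n d) c
    simpa [ψ] using this
  · intro j
    simp [ψ, φ]

lemma φ_ψbar : (φ n d).comp (ψbar n d) = RingHom.id _ := by
  ext x
  obtain ⟨f, rfl⟩ := mkR_surjective n d x
  rw [RingHom.comp_apply, ψbar_mkR, RingHom.id_apply]
  exact RingHom.congr_fun (φ_ψ n d) f

lemma ψbar_φ : (ψbar n d).comp (φ n d) = RingHom.id _ := by
  apply MvPolynomial.ringHom_ext
  · intro k
    simp
  · rintro (⟨i, E⟩ | j)
    · rw [RingHom.comp_apply, φ_X_inl, ψbar_mkR, RingHom.id_apply]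
      have : ψ n d (C (X (i, E.1))) = ψ₀ n d (X (i, E.1)) := by simp [ψ]
      rw [this, ψ₀_X_ne]
    · rw [RingHom.comp_apply, RingHom.id_apply]
      have : φ n d (X (Sum.inr j)) = mkR n d (X j) := by simp [φ]
      rw [this, ψbar_mkR]
      simp [ψ]

/-- `B` is a polynomial ring over `ℤ`. -/
noncomputable def equiv : UnivAlg n d ≃+* P n d :=
  RingEquiv.ofRingHom (ψbar n d) (φ n d) (ψbar_φ n d) (φ_ψbar n d)

end

theorem result (n d : ℕ) (hn : 1 ≤ n) (hd : 1 ≤ d) : IsDomain (Synt.UnivAlg n d) ∧ ∀ q : PrimeSpectrum (Synt.UnivAlg n d), IsRegularLocalRing (Localization.AtPrime q.asIdeal) := by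
  haveI : IsRegularRing (P n d) := inferInstance
  haveI : IsRegularRing (UnivAlg n d) := IsRegularRing.of_ringEquiv (equiv n d).symm
  refine ⟨(equiv n d).toMulEquiv.isDomain _, fun q => ?_⟩
  exact IsRegularRing.isRegularLocalRing_localization q.asIdeal

end Groth.Agent.S8972
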