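import Groth.Statements.S8974
-- import your own Groth.Agent.* helpers here

set_option autoImplicit false
universe u
open Synt

namespace Groth.Agent.S8974

/-- Let R be a ring, n, d ≥ 1 and g_1, …, g_n ∈ R[y_1, …, y_n] of total degree at most d. Then there is
a ring map φ : A = ℤ[a_{i,E}] → R (E running over exponent vectors with |E| ≤ d) such that applying
φ to the coefficients of the universal polynomial f_i = Σ_E a_{i,E} x^E gives g_i for each i. (The
published statement is for a locally quasi-finite syntomic morphism of schemes and asserts, locally,
a cartesian square with the universal family; this row is its affine core: the coefficient map.) -/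
theorem result (R : Type u) [CommRing R] (n d : ℕ) (hn : 1 ≤ n) (hd : 1 ≤ d) (g : Fin n → MvPolynomial (Fin n) R) (hg : ∀ i, (g i).totalDegree ≤ d) : ∃ φ : Synt.UnivBase n d →+* R, ∀ i, MvPolynomial.map φ (Synt.univPoly n d i) = g i := by
  classical
  refine ⟨MvPolynomial.eval₂Hom (Int.castRingHom R)
    (fun q => MvPolynomial.coeff q.2.exponent (g q.1)), ?_⟩
  intro i
  ext m
  simp only [Synt.univPoly, map_sum, MvPolynomial.map_monomial, MvPolynomial.coe_eval₂Hom,
    MvPolynomial.eval₂_X, MvPolynomial.coeff_sum, MvPolynomial.coeff_monomial]
  have hsum : ∑ j ∈ m.support, m j = ∑ j, m j := by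
    apply Finset.sum_subset (Finset.subset_univ _)
    intro j _ hj
    simpa using hj
  by_cases hm : ∑ j, m j ≤ d
  · have hlt : ∀ j, m j < d + 1 := by
      intro j
      have : m j ≤ ∑ j, m j := Finset.single_le_sum (f := fun j => m j) (fun _ _ => Nat.zero_le _)
        (Finset.mem_univ j)
      omega
    let E0 : Synt.UnivIdx n d := ⟨fun j => ⟨m j, hlt j⟩, by simpa using hm⟩
    have hE0 : E0.exponent = m := by
      ext j
      simp [Synt.UnivIdx.exponent, E0]
    rw [Finset.sum_eq_single E0]
    · simp [hE0]
    · intro E _ hE
      rw [if_neg]
      intro h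
      apply hE
      apply Subtype.ext
      funext j
      apply Fin.ext
      have := DFunLike.congr_fun h j
      simpa [Synt.UnivIdx.exponent, E0] using this
    · simp
  · rw [Finset.sum_eq_zero, eq_comm]
    · apply MvPolynomial.coeff_eq_zero_of_totalDegree_lt
      rw [hsum]
      have := hg i
      omega
    · intro E _
      rw [if_neg]
      intro h
      apply hm
      rw [← h]
      have := E.2
      simpa [Synt.UnivIdx.exponent] using this

end Groth.Agent.S8974
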