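import Groth.Statements.S8987
import Groth.Agent.H8.HSheafSquare
import Groth.Agent.H8.AlmostBlowUp2
import Groth.Agent.S1682

set_option autoImplicit false
universe u
open HTop

namespace Groth.Agent.S8987

open CategoryTheory CategoryTheory.Limits AlgebraicGeometry Opposite in
/-- An h sheaf on schemes over S turns every almost blow up square of S-schemes into a cartesian square
of sets of sections. -/
theorem result (S : Scheme.{u}) (F : HTop.ShH S) {E Z X' X : Over S} (e : E ⟶ X') (π : E ⟶ Z) (b : X' ⟶ X) (i : Z ⟶ X) (h : HTop.IsAlmostBlowUpSquare e.left π.left b.left i.left) (t : F.obj.obj (op Z)) (s' : F.obj.obj (op X')) (hts : F.obj.map π.op t = F.obj.map e.op s') : ∃! s : F.obj.obj (op X), F.obj.map i.op s = t ∧ F.obj.map b.op s = s' := by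
  have := h.isClosedImmersion
  have := h.finitePresentation_base
  have := h.isProper
  have := h.finitePresentation
  -- a morphism missing `Z` makes the ideal of `Z` the unit ideal
  have hcart : ∀ (T : Scheme.{u}) (g : T ⟶ X.left), (∀ x : T, g x ∉ Set.range i.left) →
      BlowUp.IsEffCartierIdeal (i.left.ker.comap g) := by
    intro T g hg
    have htop : i.left.ker.comap g = ⊤ := by
      rw [← Scheme.IdealSheafData.support_eq_bot_iff]
      ext x
      rw [Scheme.IdealSheafData.support_comap, TopologicalSpace.Closeds.coe_preimage,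
        Scheme.Hom.support_ker, i.left.isClosedEmbedding.isClosed_range.closure_eq]
      simp only [Set.mem_preimage, TopologicalSpace.Closeds.coe_bot, Set.mem_empty_iff_false,
        iff_false]
      exact hg x
    rw [htop]
    exact Groth.Agent.S1682.isEffCartier_top T
  refine Groth.Agent.H8.HSheafSquare.existsUnique_section_of_square F e π b i h.isPullback
    ?_ ?_ t s' hts
  · intro y
    by_cases hy : y ∈ Set.range i.left
    · exact Or.inl hy
    · right
      have hcl : IsClosed (Set.range i.left) := i.left.isClosedEmbedding.isClosed_range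
      let U : X.left.Opens := ⟨(Set.range i.left)ᶜ, hcl.isOpen_compl⟩
      have hU : BlowUp.IsEffCartierIdeal (i.left.ker.comap U.ι) := by
        apply hcart
        intro x
        have hx : U.ι x ∈ U := by simp
        exact hx
      obtain ⟨k, hk, -⟩ := h.isBlowUp.2 U U.ι hU
      have hyU : y ∈ U := hy
      refine ⟨(k ≫ (HTop.supportedOn (i.left.ker.comap b.left)).subschemeι) ⟨y, hyU⟩, ?_⟩
      rw [← Scheme.Hom.comp_apply, Category.assoc, hk]
      rfl
  · intro T m₁ m₂ h12 hx
    exact Groth.Agent.H8.AlmostBlowUp.eq_of_comp_eq_of_isEffCartier h.isBlowUp m₁ m₂ h12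
      (hcart T (m₁ ≫ b.left) hx)

end Groth.Agent.S8987
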