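import Groth.Statements.S8990
import Groth.Agent.H8.PhSheafSquare
import Groth.Agent.H20.IdealFP
import Groth.Agent.H96.BlowUpProper
import Groth.Agent.S1682

set_option autoImplicit false
universe u
open HTop

namespace Groth.Agent.S8990

open CategoryTheory CategoryTheory.Limits AlgebraicGeometry Opposite in
/-- A ph sheaf on schemes over S turns every blow up square (centre a closed subscheme of finite
presentation, X' → X the blowing up, E the inverse image of the centre) into a cartesian square of
sets of sections. -/
theorem result (S : Scheme.{u}) (F : HTop.ShPh S) {E Z X' X : Over S} (e : E ⟶ X') (π : E ⟶ Z) (b : X' ⟶ X) (i : Z ⟶ X) [IsClosedImmersion i.left] [LocallyOfFinitePresentation i.left] (hb : BlowUp.IsBlowUp b.left i.left.ker) (hE : IsPullback e.left π.left b.left i.left) (t : F.obj.obj (op Z)) (s' : F.obj.obj (op X')) (hts : F.obj.map π.op t = F.obj.map e.op s') : ∃! s : F.obj.obj (op X), F.obj.map i.op s = t ∧ F.obj.map b.op s = s' := by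
  have hprop : IsProper b.left :=
    Groth.Agent.H96.BlowUpProper.isProper_of_isBlowUp b.left i.left.ker hb (fun x => by
      obtain ⟨_, ⟨U, hU : IsAffineOpen U, rfl⟩, hxU, -⟩ :=
        X.left.isBasis_affineOpens.exists_subset_of_mem_open (Set.mem_univ x) isOpen_univ
      exact ⟨⟨U, hU⟩, hxU, Groth.Agent.H20.IdealFP.ker_ideal_fg i.left ⟨U, hU⟩⟩)
  -- a morphism missing `Z` makes the ideal of `Z` the unit ideal
  have hcart : ∀ (T : Scheme.{u}) (g : T ⟶ X.left), (∀ x : T, g x ∉ Set.range i.left) →
      BlowUp.IsEffCartierIdeal (i.left.ker.comap g) := by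
    intro T g hg
    have htop : i.left.ker.comap g = ⊤ := by
      rw [← Scheme.IdealSheafData.support_eq_bot_iff]
      ext x
      rw [Scheme.IdealSheafData.support_comap, TopologicalSpace.Closeds.coe_preimage,
        Scheme.Hom.support_ker, i.left.isClosedEmbedding.isClosed_range.closure_eq]
      simp only [Set.mem_preimage, TopologicalSpace.Closeds.coe_bot, Set.mem_empty_iff_false,
        iff_false]
      exact hg x
    rw [htop]
    exact Groth.Agent.S1682.isEffCartier_top T
  refine Groth.Agent.H8.PhSheafSquare.existsUnique_section_of_square_ph F e π b i hE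
    ?_ ?_ t s' hts
  · intro y
    by_cases hy : y ∈ Set.range i.left
    · exact Or.inl hy
    · right
      have hcl : IsClosed (Set.range i.left) := i.left.isClosedEmbedding.isClosed_range
      let U : X.left.Opens := ⟨(Set.range i.left)ᶜ, hcl.isOpen_compl⟩
      have hU : BlowUp.IsEffCartierIdeal (i.left.ker.comap U.ι) := by
        apply hcart
        intro x
        have hx : U.ι x ∈ U := by simp
        exact hx
      obtain ⟨k, hk, -⟩ := hb.2 U U.ι hU
      have hyU : y ∈ U := hy
      refine ⟨k ⟨y, hyU⟩, ?_⟩
      rw [← Scheme.Hom.comp_apply, hk]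
      rfl
  · intro T m₁ m₂ h12 hx
    obtain ⟨k, -, hku⟩ := hb.2 T (m₁ ≫ b.left) (hcart T (m₁ ≫ b.left) hx)
    rw [hku m₁ rfl, hku m₂ h12.symm]

end Groth.Agent.S8990
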