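import Groth.Statements.S8992
-- import your own Groth.Agent.* helpers here

set_option autoImplicit false
universe u
open HTop

namespace Groth.Agent.S8992

/-- An algebra over the prime field with p elements is absolutely weakly normal if and only if its p-th
power map is bijective (the algebra is perfect). -/
theorem result (p : ℕ) [Fact p.Prime] (A : Type u) [CommRing A] [Algebra (ZMod p) A] : HTop.IsAWNRing A ↔ PerfectRing A p := by
  have hp : (p : A) = 0 := by
    have : (p : A) = algebraMap (ZMod p) A (p : ZMod p) := (map_natCast _ p).symm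
    rw [this, ZMod.natCast_self, map_zero]
  have hp2 : 2 ≤ p := (Fact.out : p.Prime).two_le
  constructor
  · rintro ⟨-, h2⟩
    refine ⟨⟨?_, ?_⟩⟩
    · intro a b hab
      have hab' : a ^ p = b ^ p := hab
      obtain ⟨c, -, hc⟩ := h2 p Fact.out (a ^ p) 0 (by simp [hp, (Fact.out : p.Prime).ne_zero])
      have h1 := hc a ⟨rfl, by simp [hp]⟩
      have h3 := hc b ⟨hab', by simp [hp]⟩
      rw [h1, h3]
    · intro x
      obtain ⟨c, ⟨hc, -⟩, -⟩ := h2 p Fact.out x 0 (by simp [hp, (Fact.out : p.Prime).ne_zero])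
      exact ⟨c, hc.symm⟩
  · intro hperf
    have hinj : ∀ a b : A, a ^ p = b ^ p → a = b := fun a b h => hperf.bijective_frobenius.1 h
    have hsurj : ∀ x : A, ∃ a : A, a ^ p = x := fun x => hperf.bijective_frobenius.2 x
    have hred : ∀ (z : A) (n : ℕ), n ≤ p * p → z ^ n = 0 → z = 0 := by
      intro z n hn hz
      have h1 : z ^ (p * p) = 0 := by
        rw [← Nat.sub_add_cancel hn, pow_add, hz, mul_zero]
      rw [pow_mul] at h1
      have h2 : z ^ p = 0 := hinj _ _ (by rw [h1, zero_pow (by omega)])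
      exact hinj _ _ (by rw [h2, zero_pow (by omega)])
    refine ⟨?_, ?_⟩
    · intro x y hxy
      obtain ⟨i, j, hij⟩ : ∃ i j : ℕ, 2 * i + 3 * j = p := by
        rcases Nat.even_or_odd p with ⟨k, hk⟩ | ⟨k, hk⟩
        · exact ⟨k, 0, by omega⟩
        · exact ⟨k - 1, 1, by omega⟩
      obtain ⟨a, ha⟩ := hsurj (x ^ i * y ^ j)
      have ha2 : a ^ 2 = x := by
        apply hinj
        rw [← pow_mul, mul_comm, pow_mul, ha, mul_pow, ← pow_mul, ← pow_mul, mul_comm j 2, pow_mul y,
          ← hxy, ← pow_mul, ← pow_add]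
        congr 1
        omega
      have ha3 : a ^ 3 = y := by
        apply hinj
        rw [← pow_mul, mul_comm, pow_mul, ha, mul_pow, ← pow_mul, ← pow_mul, mul_comm i 3, pow_mul x,
          hxy, ← pow_mul, ← pow_add]
        congr 1
        omega
      refine ⟨a, ⟨ha2.symm, ha3.symm⟩, ?_⟩
      rintro b ⟨hb2, hb3⟩
      have : (b - a) ^ 3 = 0 := by
        have e1 : b ^ 2 = a ^ 2 := by rw [← hb2, ha2]
        have e2 : b ^ 3 = a ^ 3 := by rw [← hb3, ha3]
        have : (b - a) ^ 3 = b ^ 3 - 3 * (b ^ 2) * a + 3 * b * (a ^ 2) - a ^ 3 := by ring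
        rw [this, ← e1, e2, e1]
        have e3 : b * a ^ 2 = a ^ 3 := by rw [← e1, ← e2]; ring
        linear_combination 3 * e3
      have := hred _ 3 (by nlinarith) this
      exact sub_eq_zero.mp this
    · intro l hl x y hxy
      by_cases hlp : l = p
      · subst hlp
        rw [hp, zero_pow (by omega), zero_mul] at hxy
        have hy : y = 0 := hinj _ _ (by rw [← hxy, zero_pow (by omega)])
        obtain ⟨a, ha⟩ := hsurj x
        refine ⟨a, ⟨ha.symm, by rw [hp, hy, zero_mul]⟩, ?_⟩
        rintro b ⟨hb, -⟩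
        exact hinj _ _ (by rw [← hb, ha])
      · have hcop : Nat.Coprime l p := (Nat.coprime_primes hl Fact.out).mpr hlp
        have hu : IsUnit ((l : ZMod p)) := (ZMod.isUnit_iff_coprime l p).mpr hcop
        have hu' : IsUnit (l : A) := by
          have := hu.map (algebraMap (ZMod p) A)
          rwa [map_natCast] at this
        obtain ⟨u, hu⟩ := hu'
        refine ⟨(↑u⁻¹ : A) * y, ⟨?_, ?_⟩, ?_⟩
        · rw [mul_pow, ← hxy, ← hu, ← mul_assoc, ← mul_pow, Units.inv_mul, one_pow, one_mul]
        · rw [← hu, Units.mul_inv_cancel_left]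
        · rintro b ⟨-, hb⟩
          rw [hb, ← hu, Units.inv_mul_cancel_left]

end Groth.Agent.S8992
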