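import Groth.Statements.S8993
import Groth.Agent.H37.UHCharP

set_option autoImplicit false
universe u
open HTop
open Groth.Agent.H37

namespace Groth.Agent.S8993

/-- For a ring A of prime characteristic p, the map from A to the direct limit of A along Frobenius (the
perfect closure) is an absolute weak normalization of A. (The published statement also identifies,
over a base of characteristic p, the h sheafification of the structure sheaf on quasi-compact
quasi-separated objects with this colimit; that part is not stated here.) -/
theorem result (p : ℕ) [Fact p.Prime] (A : Type u) [CommRing A] [CharP A p] : HTop.IsRingAWN (PerfectClosure.of A p) := by
  exact isRingAWN_perfectClosure p A

end Groth.Agent.S8993
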