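import Groth.Statements.S9007
-- import your own Groth.Agent.* helpers here

set_option autoImplicit false
universe u
open FlatMor

namespace Groth.Agent.S9007

open CategoryTheory CategoryTheory.Limits AlgebraicGeometry in
/-- For a morphism f of compactifications of X over a quasi-compact quasi-separated S whose source
contains X as a dense open, the preimage under f of the image of X in the target is the image of X
in the source. -/
theorem result {X S : Scheme.{u}} [CompactSpace S] [QuasiSeparatedSpace S] (p : X ⟶ S) [IsSeparated p] [QuasiCompact p] [LocallyOfFiniteType p] {Y Y' : Scheme.{u}} (j : X ⟶ Y) (q : Y ⟶ S) [IsOpenImmersion j] [IsProper q] (h : j ≫ q = p) (j' : X ⟶ Y') (q' : Y' ⟶ S) [IsOpenImmersion j'] [IsProper q'] (h' : j' ≫ q' = p) (f : Y' ⟶ Y) (hf : f ≫ q = q') (hfj : j' ≫ f = j) (hd : Dense (Set.range j'.base)) : f ⁻¹ᵁ j.opensRange = j'.opensRange := by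
  set V : Y'.Opens := f ⁻¹ᵁ j.opensRange with hV
  -- `j'` lands in `V`
  have hj'V : Set.range j'.base ⊆ Set.range V.ι.base := by
    rintro _ ⟨x, rfl⟩
    rw [Scheme.Opens.range_ι]
    change f.base (j'.base x) ∈ Set.range j.base
    refine ⟨x, ?_⟩
    rw [← hfj]
    rfl
  -- `V.ι ≫ f` lands in the range of `j`
  have hVj : Set.range (V.ι ≫ f).base ⊆ Set.range j.base := by
    rintro _ ⟨v, rfl⟩
    exact v.2
  let s : X ⟶ V := IsOpenImmersion.lift V.ι j' hj'V
  let r : (V : Scheme.{u}) ⟶ X := IsOpenImmersion.lift j (V.ι ≫ f) hVj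
  have hs : s ≫ V.ι = j' := IsOpenImmersion.lift_fac _ _ _
  have hr : r ≫ j = V.ι ≫ f := IsOpenImmersion.lift_fac _ _ _
  have hsr : s ≫ r = 𝟙 X := by
    rw [← cancel_mono j, Category.assoc, hr, ← Category.assoc, hs, hfj, Category.id_comp]
  have hrp : r ≫ p = V.ι ≫ q' := by
    rw [← h, ← Category.assoc, hr, Category.assoc, hf]
  have : IsSeparated (r ≫ p) := by rw [hrp]; infer_instance
  have : IsSeparated r := IsSeparated.of_comp r p
  have : IsClosedImmersion (s ≫ r) := by rw [hsr]; infer_instance
  have hscl : IsClosedImmersion s := IsClosedImmersion.of_comp s r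
  have hclosed : IsClosed (Set.range s.base) := s.isClosedEmbedding.isClosed_range
  have hrange : Set.range s.base = V.ι.base ⁻¹' (Set.range j'.base) := by
    ext v
    constructor
    · rintro ⟨x, rfl⟩
      refine ⟨x, ?_⟩
      rw [← hs]
      rfl
    · rintro ⟨x, hx⟩
      refine ⟨x, V.ι.isOpenEmbedding.injective ?_⟩
      rw [← hx, ← hs]
      rfl
  have hdense : Dense (Set.range s.base) := by
    rw [hrange]
    exact hd.preimage V.ι.isOpenEmbedding.isOpenMap
  have huniv : Set.range s.base = Set.univ := by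
    rw [← hclosed.closure_eq]
    exact hdense.closure_eq
  apply le_antisymm
  · intro y hy
    have : (⟨y, hy⟩ : V) ∈ Set.range s.base := huniv ▸ Set.mem_univ _
    obtain ⟨x, hx⟩ := this
    refine ⟨x, ?_⟩
    have h2 : V.ι.base (s.base x) = y := by rw [hx]; rfl
    rw [← h2, ← hs]
    rfl
  · rintro _ ⟨x, rfl⟩
    change f.base (j'.base x) ∈ Set.range j.base
    refine ⟨x, ?_⟩
    rw [← hfj]
    rfl

end Groth.Agent.S9007
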