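import Groth.Statements.S9008
import Groth.Agent.H32.UnivPureBC

set_option autoImplicit false
universe u
open FlatMor

namespace Groth.Agent.S9008

/-- For Spec B → Spec A affine of finite type: a finite B-module is universally pure along the fibre
over a prime p of A exactly when every base change of it along a ring map A → A' is pure along the
fibre over every prime of A' above p. -/
theorem result {A B : Type u} [CommRing A] [CommRing B] [Algebra A B] [Algebra.FiniteType A B] (N : Type u) [AddCommGroup N] [Module B N] [Module.Finite B N] (p : Ideal A) [p.IsPrime] : FlatCA.IsUnivPureAlong A B N p ↔ ∀ (A' B' N' : Type u) [CommRing A'] [CommRing B'] [Algebra A A'] [Algebra B B'] [Algebra A' B'] [Algebra A B'] [IsScalarTower A B B'] [IsScalarTower A A' B'] [Algebra.IsPushout A B A' B'] [AddCommGroup N'] [Module B' N'] [Module B N'] [IsScalarTower B B' N'] (g : N →ₗ[B] N'), IsBaseChange B' g → ∀ (p' : Ideal A') [p'.IsPrime], p'.LiesOver p → FlatCA.IsPureAlong A' B' N' p' := by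
  constructor
  · intro hU A' B' N' _ _ _ _ _ _ _ _ hpo _ _ _ _ g hg p' _ hp'
    intro A'' B'' N'' _ _ _ _ _ _ _ _ _ _ _ _ _ _ f' t' t _ _ P _ _ himp
    letI aAA'' : Algebra A A'' := ((algebraMap A' A'').comp (algebraMap A A')).toAlgebra
    haveI tAA'A'' : IsScalarTower A A' A'' := IsScalarTower.of_algebraMap_eq fun _ => rfl
    letI aBB'' : Algebra B B'' := ((algebraMap B' B'').comp (algebraMap B B')).toAlgebra
    haveI tBB'B'' : IsScalarTower B B' B'' := IsScalarTower.of_algebraMap_eq fun _ => rfl
    letI aAB'' : Algebra A B'' := ((algebraMap A' B'').comp (algebraMap A A')).toAlgebra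
    haveI tAA'B'' : IsScalarTower A A' B'' := IsScalarTower.of_algebraMap_eq fun _ => rfl
    haveI tAA''B'' : IsScalarTower A A'' B'' := IsScalarTower.of_algebraMap_eq fun a => by
      change algebraMap A' B'' (algebraMap A A' a) = algebraMap A'' B'' (algebraMap A' A'' (algebraMap A A' a))
      rw [← IsScalarTower.algebraMap_apply A' A'' B'']
    haveI tAB'B'' : IsScalarTower A B' B'' := IsScalarTower.of_algebraMap_eq fun a => by
      change algebraMap A' B'' (algebraMap A A' a) = algebraMap B' B'' (algebraMap A B' a)
      rw [IsScalarTower.algebraMap_apply A A' B', ← IsScalarTower.algebraMap_apply A' B' B'']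
    haveI tABB'' : IsScalarTower A B B'' := IsScalarTower.of_algebraMap_eq fun a => by
      change algebraMap A' B'' (algebraMap A A' a) = algebraMap B' B'' (algebraMap B B' (algebraMap A B a))
      rw [← IsScalarTower.algebraMap_apply A B B', IsScalarTower.algebraMap_apply A A' B',
        ← IsScalarTower.algebraMap_apply A' B' B'']
    letI mBN'' : Module B N'' := Module.compHom N'' (algebraMap B B'')
    haveI tBB''N'' : IsScalarTower B B'' N'' := IsScalarTower.of_algebraMap_smul fun _ _ => rfl
    haveI tBB'N'' : IsScalarTower B B' N'' := IsScalarTower.of_algebraMap_smul fun b n => by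
      change algebraMap B B' b • n = (algebraMap B' B'' (algebraMap B B' b)) • n
      exact (algebraMap_smul B'' (algebraMap B B' b) n).symm
    exact hU A'' B'' N'' ((f'.restrictScalars B) ∘ₗ g) t' t P
      (Groth.Agent.H32.UnivPureBC.isImpurity_comp N p A' B' N' A'' B'' N'' hpo g hg p' hp' f' t' t P himp)
  · intro h A' B' N' _ _ _ _ _ _ _ _ _ _ _ _ _ _ f t' t _ _ P _ himp
    obtain ⟨hpo, hbc, hle, htp, hPt', hass, hno⟩ := himp
    haveI := hpo
    have hpure := h A' B' N' f hbc t htp
    exact hpure A' B' N' LinearMap.id t' t P (Groth.Agent.H32.UnivPureBC.isEtaleNhd_self t)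
      (Groth.Agent.H32.UnivPureBC.isImpurity_self N' N p f t' t P ⟨hpo, hbc, hle, htp, hPt', hass, hno⟩)

end Groth.Agent.S9008
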