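import Groth.Statements.S9011
import Groth.Agent.S0582
import Groth.Agent.H32.NzdUnivInj
import Groth.Agent.H32.FreeUnivInj

set_option autoImplicit false
universe u
open FlatMor

namespace Groth.Agent.S9011

open IsLocalRing in
/-- For a local ring R with maximal ideal m, an R-algebra S with S/mS Noetherian and an S-module N with
N/mN finite over S/mS which is projective as an R-module, every element of S that is a
nonzerodivisor on N/mN acts R-universally injectively on N, and the map from N to its localization
at all such elements is R-universally injective. -/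
theorem result {R S : Type u} [CommRing R] [IsLocalRing R] [CommRing S] [Algebra R S] (N : Type u) [AddCommGroup N] [Module S N] [Module R N] [IsScalarTower R S N] [IsNoetherianRing ((maximalIdeal R).Fiber S)] [Module.Finite ((maximalIdeal R).Fiber S) (FlatCA.fiberMod (maximalIdeal R) S N)] [Module.Projective R N] : (∀ s ∈ FlatCA.nzdFiber R S N, FlatCA.UnivInj R ((LinearMap.lsmul S N s).restrictScalars R)) ∧ FlatCA.UnivInj R ((LocalizedModule.mkLinearMap (FlatCA.nzdFiber R S N) N).restrictScalars R) := by
  have hfree : Module.Free R N := Groth.Agent.S0582.result R N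
  have hsm : ((maximalIdeal R).map (algebraMap R S) • (⊤ : Submodule S N)).restrictScalars R =
      maximalIdeal R • (⊤ : Submodule R N) := by
    rw [Ideal.smul_restrictScalars, Submodule.restrictScalars_top]
  have key : ∀ s ∈ FlatCA.nzdFiber R S N,
      FlatCA.UnivInj R ((LinearMap.lsmul S N s).restrictScalars R) := by
    intro s hs
    apply Groth.Agent.H32.FreeUnivInj.univInj_of_free_of_lTensor_residueField_injective
    rw [injective_iff_map_eq_zero]
    intro z hz
    obtain ⟨x, rfl⟩ := TensorProduct.mk_surjective R N (ResidueField R)
      Ideal.Quotient.mk_surjective z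
    have hker : RingHom.ker (algebraMap R (ResidueField R)) = maximalIdeal R :=
      IsLocalRing.ker_residue
    have hsurj : Function.Surjective (algebraMap R (ResidueField R)) :=
      Ideal.Quotient.mk_surjective
    have h1 : (1 : ResidueField R) ⊗ₜ[R] (s • x) = 0 := by
      simpa using hz
    rw [Groth.Agent.H32.NzdUnivInj.one_tmul_eq_zero_iff_of_surjective hsurj, hker] at h1
    have h2 : s • x ∈ (maximalIdeal R).map (algebraMap R S) • (⊤ : Submodule S N) := by
      have : s • x ∈ ((maximalIdeal R).map (algebraMap R S) •
          (⊤ : Submodule S N)).restrictScalars R := by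
        rw [hsm]; exact h1
      exact this
    have h3 := Groth.Agent.H32.NzdUnivInj.mem_smul_top_of_smul_mem_of_mem_nzdFiber N hs x h2
    have h4 : x ∈ maximalIdeal R • (⊤ : Submodule R N) := by
      rw [← hsm]; exact h3
    change (1 : ResidueField R) ⊗ₜ[R] x = 0
    rw [Groth.Agent.H32.NzdUnivInj.one_tmul_eq_zero_iff_of_surjective hsurj, hker]
    exact h4
  exact ⟨key, Groth.Agent.H32.NzdUnivInj.univInj_mkLinearMap N _ key⟩

end Groth.Agent.S9011
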