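import Groth.Statements.S9016
import Groth.Agent.H37.FpqcMod3

set_option autoImplicit false
universe u
open FlatMor
open Groth.Agent.H37

namespace Groth.Agent.S9016

open CategoryTheory CategoryTheory.Limits AlgebraicGeometry Opposite in
/-- For f : X → S and a homomorphism u : F → G of quasi-coherent O_X-modules, the functor on schemes
over S with one point on T when the base change u_T on X_T = X ×_S T is zero and empty otherwise,
written as the subfunctor of the final functor generated by that condition, satisfies the sheaf
condition for the fpqc topology. -/
theorem result {X S : Scheme.{u}} (f : X ⟶ S) {F G : X.Modules} [Coh.IsQCoh F] [Coh.IsQCoh G] (u : F ⟶ G) :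
    Presheaf.IsSheaf (QuotSh.J Scheme.fpqcPrecoverage S)
      (FlatFun.genPSp S (fun T => ((Scheme.Modules.pullback (pullback.fst f T.hom)).map u) = 0)) := by
  refine isSheaf_genPSp _ (fun T T₀ g h => zero_stable f u g h) (fun T E hE h => ?_)
  obtain ⟨hfl, hs⟩ := fpqc_data E hE
  exact zero_descent f u (fun i => Over.mk (E.f i ≫ T.hom))
    (fun i => Over.homMk (E.f i) rfl) (fun i => hfl i) (fun t => hs t) h

end Groth.Agent.S9016
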