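import Groth.Statements.S9037
import Groth.Agent.H45.QC.FreeOnCompact
import Groth.Agent.H33.BrownGA.CompactSingle
import Groth.Agent.H33.SheafMod.Grothendieck

set_option autoImplicit false
universe u
open CategoryTheory CategoryTheory.Limits Opposite
open ModSite

namespace Groth.Agent.S9037

/-- On a ringed site (C, O), if U is a quasi-compact object (h_U^# is a quasi-compact object of the
topos, which is equivalent to the site-level notion) which is weakly contractible, then j_{U!} O_U,
placed in degree zero, is a compact object of the derived category D(O). The derived category of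
O-modules and direct sums in it are instance hypotheses. -/
theorem result
    {C : Type u} [SmallCategory C] {J : GrothendieckTopology C} (O : Sheaf J CommRingCat.{u})
    [HasDerivedCategory.{u} (ModSite.Mod O)] [HasCoproducts.{u} (DerivedCategory (ModSite.Mod O))]
    (U : C) (hqc : CohCx.IsQcObject ((presheafToSheaf J (Type u)).obj (yoneda.obj U)))
    (hwc : CohSite.IsWeaklyContractible J U) :
    CohDer.IsCompactObject ((DerivedCategory.singleFunctor (ModSite.Mod O) 0).obj (ModSite.freeOn O U)) := by
  haveI : IsGrothendieckAbelian.{u} (ModSite.Mod O) :=
    Groth.Agent.H33.SheafMod.isGrothendieckAbelian J (ModSite.ringSh O)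
  haveI : Projective (ModSite.freeOn O U) := Groth.Agent.H45.QC.projective_freeOn O U hwc
  exact Groth.Agent.H33.BrownGA.isCompactObject_single (ModSite.freeOn O U)
    (Groth.Agent.H45.QC.finFactor_freeOn O U hqc)

end Groth.Agent.S9037
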