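import Groth.Statements.S9041
import Groth.Agent.H45.FinFree.FreeSlice

set_option autoImplicit false
universe u
open CategoryTheory CategoryTheory.Limits Opposite
open ModSite

namespace Groth.Agent.S9041

/-- On a ringed site (C, O), let E be a direct summand of a finite free O-module, p : G → F a surjection
of O-modules and φ : E → F a morphism. Then locally φ lifts through p: every object V has a covering
sieve such that over each of its arrows W → V there is a morphism E|_W → G|_W whose composite with
p|_W is φ|_W. (The published statement is phrased for modules over the localisation (C/U, O_U) at an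
object U and a covering of U; a localised ringed site is again a ringed site, and this row states
the conclusion at every object of an arbitrary ringed site.) -/
theorem result
    {C : Type u} [SmallCategory C] {J : GrothendieckTopology C} (O : Sheaf J CommRingCat.{u})
    (E F G : ModSite.Mod O) (hE : DCoh.IsFinFreeSummandMod (ModSite.ringSh O) E)
    (p : G ⟶ F) [Epi p] (φ : E ⟶ F) (V : C) :
    ∃ R ∈ J V, ∀ ⦃W : C⦄ (g : W ⟶ V), R g →
      ∃ l : (ModSite.restr O W).obj E ⟶ (ModSite.restr O W).obj G,
        l ≫ (ModSite.restr O W).map p = (ModSite.restr O W).map φ := by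
  obtain ⟨n, i, p', hip⟩ := hE
  let ψ : SheafOfModules.free (ULift.{u} (Fin n)) ⟶ F := p' ≫ φ
  let f : ULift.{u} (Fin n) → ((Groth.Agent.H45.forg O).obj F).obj (op V) :=
    fun k => (F.freeHomEquiv ψ k).1 (op V)
  obtain ⟨R, hR, h⟩ := (Groth.Agent.H45.FinFree.locSurj_of_epi p).exists_common f
  refine ⟨R, hR, fun W g hg => ?_⟩
  obtain ⟨γ, hγ⟩ := h g hg
  let lam : SheafOfModules.free (ULift.{u} (Fin n)) ⟶ (ModSite.restr O W).obj G :=
    (Groth.Agent.H45.FinFree.freeHomEquivTop ((ModSite.restr O W).obj G)).symm γ
  have key : lam ≫ (ModSite.restr O W).map p =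
      (Groth.Agent.H45.FinFree.restrFreeIso O W n).hom ≫ (ModSite.restr O W).map ψ := by
    apply (Groth.Agent.H45.FinFree.freeHomEquivTop _).injective
    funext k
    rw [Groth.Agent.H45.FinFree.freeHomEquivTop_comp,
      Groth.Agent.H45.FinFree.freeHomEquivTop_restr]
    have h1 : Groth.Agent.H45.FinFree.freeHomEquivTop ((ModSite.restr O W).obj G) lam k = γ k := by
      simp only [lam, Equiv.apply_symm_apply]
    rw [h1]
    refine (hγ k).trans ?_
    exact PresheafOfModules.sections_property (F.freeHomEquiv ψ k) g.op
  refine ⟨(ModSite.restr O W).map i ≫ (Groth.Agent.H45.FinFree.restrFreeIso O W n).inv ≫ lam, ?_⟩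
  rw [Category.assoc, Category.assoc, key, Iso.inv_hom_id_assoc, ← Functor.map_comp]
  congr 1
  rw [← Category.assoc, hip, Category.id_comp]

end Groth.Agent.S9041
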