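import Groth.Statements.S9063
import Groth.Agent.H4.TorsSh
import Groth.Agent.H4.TorsDer
import Groth.Agent.H33.KInj.Main

set_option autoImplicit false
universe u
open CategoryTheory CategoryTheory.Limits Opposite
attribute [local instance] HasDerivedCategory.standard
open SiteCmp

namespace Groth.Agent.S9063

/-- Let C be a site and A ⊂ Ab(C) the Serre subcategory of torsion abelian sheaves. Then the functor
from D(A) to D_A(C) gives an equivalence: the canonical functor D(A) → D(Ab(C)) induced by the exact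
inclusion is fully faithful, and a complex lies in its essential image exactly when every cohomology
sheaf of it is torsion. That torsion abelian sheaves form a Serre subcategory is carried as an
instance hypothesis. -/
theorem result
    {C : Type u} [SmallCategory C] (J : GrothendieckTopology C)
    [(SiteCmp.torsionSh J).IsSerreClass] :
    (WSerre.toDerived (SiteCmp.torsionSh J)).Full ∧ (WSerre.toDerived (SiteCmp.torsionSh J)).Faithful ∧
      ∀ K : DerivedCategory (Sheaf J AddCommGrpCat.{u}),
        WSerre.cohIn (SiteCmp.torsionSh J) K ↔ (WSerre.toDerived (SiteCmp.torsionSh J)).essImage K := by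
  have hadd : (Groth.Agent.H4.TorsSh.tau J).Additive :=
    (Groth.Agent.H4.TorsSh.adj J).right_adjoint_additive
  have hKinj : ∀ K : CochainComplex (Sheaf J AddCommGrpCat.{u}) ℤ,
      ∃ (I : CochainComplex (Sheaf J AddCommGrpCat.{u}) ℤ) (f : K ⟶ I),
        I.IsKInjective ∧ QuasiIso f ∧ ∀ n, Injective (I.X n) := fun K => by
    obtain ⟨I, f, h1, h2, -, h3⟩ := Groth.Agent.H33.KInj.exists_kInjective_resolution K
    exact ⟨I, f, h1, h2, h3⟩
  have hmono : ∀ X, Mono ((Groth.Agent.H4.TorsSh.adj J).counit.app X) := fun X =>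
    inferInstanceAs (Mono (Groth.Agent.H4.TorsSh.torsι X))
  have hkill : ∀ (Y : Sheaf J AddCommGrpCat.{u}) (n : ℕ), 0 < n → n • 𝟙 Y = 0 →
      SiteCmp.torsionSh J Y := fun Y n hn h =>
    Groth.Agent.H4.TorsSh.torsionSh_of_nsmul_eq_zero Y n hn h
  have hzero : ∀ Y : Sheaf J AddCommGrpCat.{u}, SiteCmp.torsionSh J Y →
      (∀ n : ℕ, 0 < n → Mono (n • 𝟙 Y)) → IsZero Y := fun Y hY h =>
    Groth.Agent.H4.TorsSh.isZero_of_torsion_of_mono Y hY h
  have hinj : ∀ (X : Sheaf J AddCommGrpCat.{u}), Injective X → ∀ (n : ℕ), 0 < n →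
      Epi (n • 𝟙 X) := fun X hX n hn =>
    Groth.Agent.H4.TorsSh.epi_nsmul_of_injective X n hn
  have hff := Groth.Agent.H4.TorsDer.full_faithful (SiteCmp.torsionSh J)
    (Groth.Agent.H4.TorsSh.adj J) hKinj hmono hkill hzero hinj
  exact ⟨hff.1, hff.2, fun K => Groth.Agent.H4.TorsDer.cohIn_iff_essImage (SiteCmp.torsionSh J)
    (Groth.Agent.H4.TorsSh.adj J) hKinj hmono hkill hzero hinj K⟩

end Groth.Agent.S9063
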