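import Groth.Statements.S9071
import Groth.Agent.H45.RlimModW.UnboundedSite
import Groth.Agent.H45.SiteEps.UnitIso
import Groth.Agent.H45.SiteEps.PushEpi
import Groth.Agent.H45.SiteEps.WeakSerreImage
import Groth.Agent.H45.SiteEps.Refine

set_option autoImplicit false
universe u
open CategoryTheory CategoryTheory.Limits Opposite
attribute [local instance] HasDerivedCategory.standard
open SiteCmp

namespace Groth.Agent.S9071

/-- Let τ' be a coarser topology than τ on a category C, O a τ-sheaf of rings and ε the comparison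
morphism from (C_τ, O) to (C_τ', O). Let B be a set of objects and A a full subcategory of
presheaves of O-modules such that (1) every object of A is a τ-sheaf, (2) A forms a weak Serre
subcategory inside Mod(O_τ), (3) each object of C admits a τ'-covering by members of B, and (4)
H^p_τ(U, F) = 0 for U ∈ B, F ∈ A, p > 0. Then the essential image of A under ε_* forms a weak Serre
subcategory inside Mod(O_τ') and ε^*, Rε_* are quasi-inverse equivalences between D_A(O_τ') and
D_A(O_τ): on objects with cohomology sheaves in the respective subcategory, ε^* and Rε_* preserve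
that condition and the unit and counit are isomorphisms. In the order of topologies used here the
finer topology τ is the larger one, J, and τ' is J' ≤ J; A is given as a property of τ-sheaves of
modules (condition (1) built in); flatness of ε, existence of the unbounded Rε_* and an adjunction
ε^* ⊣ Rε_* are hypotheses. -/
theorem result
    {C : Type u} [SmallCategory C] {J J' : GrothendieckTopology C} (h : J' ≤ J) (O : Sheaf J CommRingCat.{u})
    [PreservesFiniteLimits (SiteCmp.eps h O).pull] [SiteCmp.HasRpushD (SiteCmp.eps h O)]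
    (adj : SiteCmp.pullD (SiteCmp.eps h O) ⊣ SiteCmp.RpushD (SiteCmp.eps h O))
    (A : ObjectProperty (ModSite.Mod O)) [WSerre.IsWeakSerre A] (B : Set C)
    (h3 : ∀ U : C, ∃ (ι : Type u) (Y : ι → C) (g : ∀ i, Y i ⟶ U), Sieve.ofArrows Y g ∈ J' U ∧ ∀ i, Y i ∈ B)
    (h4 : ∀ U ∈ B, ∀ F : ModSite.Mod O, A F → ∀ p : ℕ, 0 < p → Subsingleton (ModSite.HU O F p U)) :
    WSerre.IsWeakSerre (A.map (SiteCmp.eps h O).push) ∧
    (∀ Y : DerivedCategory (ModSite.Mod (SiteCmp.epsRing h O)), WSerre.cohIn (A.map (SiteCmp.eps h O).push) Y →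
      WSerre.cohIn A ((SiteCmp.pullD (SiteCmp.eps h O)).obj Y) ∧ IsIso (adj.unit.app Y)) ∧
    (∀ X : DerivedCategory (ModSite.Mod O), WSerre.cohIn A X →
      WSerre.cohIn (A.map (SiteCmp.eps h O).push) ((SiteCmp.RpushD (SiteCmp.eps h O)).obj X) ∧
      IsIso (adj.counit.app X)) := by
  have hE : ∀ S : ShortComplex (ModSite.Mod O), S.ShortExact → A S.X₁ →
      Epi ((SiteCmp.eps h O).push.map S.g) := fun S hS hA =>
    Groth.Agent.H45.SiteEps.epi_push_map h O B h3 S hS
      (fun V hV => h4 V hV S.X₁ hA 1 Nat.one_pos)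
  haveI hWS : WSerre.IsWeakSerre (A.map (SiteCmp.eps h O).push) :=
    Groth.Agent.H45.SiteEps.isWeakSerre_map (SiteCmp.eps h O).adj A hE
  have h2a : ∀ F' : ModSite.Mod (SiteCmp.epsRing h O), (A.map (SiteCmp.eps h O).push) F' →
      A ((SiteCmp.eps h O).pull.obj F') := fun F' hF' =>
    Groth.Agent.H45.SiteEps.prop_F_of_map (SiteCmp.eps h O).adj A F' hF'
  have h2c : ∀ F : ModSite.Mod O, A F → ∃ F' : ModSite.Mod (SiteCmp.epsRing h O),
      (A.map (SiteCmp.eps h O).push) F' ∧ Nonempty ((SiteCmp.eps h O).pull.obj F' ≅ F) :=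
    fun F hF => ⟨(SiteCmp.eps h O).push.obj F, A.prop_map_obj _ hF,
      ⟨asIso ((SiteCmp.eps h O).adj.counit.app F)⟩⟩
  have h3' : ∀ F' : ModSite.Mod (SiteCmp.epsRing h O), (A.map (SiteCmp.eps h O).push) F' →
      IsIso (adj.unit.app (SiteCmp.inD (SiteCmp.epsRing h O) F')) := by
    rintro F' ⟨F, hF, ⟨e⟩⟩
    exact Groth.Agent.H45.SiteEps.isIso_unit_single h O adj B h3 F
      (fun U hU p hp => h4 U hU F hF p hp) F' e
  have hBJ : ∀ U : C, ∃ (ι : Type u) (Y : ι → C) (g : ∀ i, Y i ⟶ U),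
      Sieve.ofArrows Y g ∈ J U ∧ ∀ i, Y i ∈ B := by
    intro U
    obtain ⟨ι, Y, g, hcov, hY⟩ := h3 U
    exact ⟨ι, Y, g, h _ hcov, hY⟩
  have hgood : ∀ U ∈ B, Groth.Agent.H45.RlimModW.Good O A 0 U :=
    fun U hU F hF k hk => h4 U hU F hF k hk
  have hAJ : ∀ V ∈ B, ∃ d : ℕ, ∀ T ∈ J V, ∃ (ι : Type u) (Y : ι → C) (g : ∀ i, Y i ⟶ V),
      (∀ i, T.arrows (g i)) ∧ Sieve.ofArrows Y g ∈ J V ∧
      ∀ i, Groth.Agent.H45.RlimModW.Good O A d (Y i) := by
    intro V _
    refine ⟨0, fun T hT => ?_⟩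
    obtain ⟨ι, Y, g, hgT, hcov, hY⟩ := Groth.Agent.H45.SiteEps.exists_refinement J B hBJ V T hT
    exact ⟨ι, Y, g, hgT, hcov, fun i => hgood _ (hY i)⟩
  have hAJ' : ∀ V ∈ B, ∃ d : ℕ, ∀ T ∈ J' V, ∃ (ι : Type u) (Y : ι → C) (g : ∀ i, Y i ⟶ V),
      (∀ i, T.arrows (g i)) ∧ Sieve.ofArrows Y g ∈ J' V ∧
      ∀ i, Groth.Agent.H45.RlimModW.Good O A d ((SiteCmp.eps h O).fn.obj (Y i)) := by
    intro V _
    refine ⟨0, fun T hT => ?_⟩
    obtain ⟨ι, Y, g, hgT, hcov, hY⟩ := Groth.Agent.H45.SiteEps.exists_refinement J' B h3 V T hT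
    exact ⟨ι, Y, g, hgT, hcov, fun i => hgood _ (hY i)⟩
  have hstab : Groth.Agent.H45.UEq.StabHyp (SiteCmp.RpushD (SiteCmp.eps h O)) A :=
    Groth.Agent.H45.RlimModW.stabHyp_of_good (SiteCmp.eps h O) adj A
      (A.map (SiteCmp.eps h O).push) h2c h3'
      (fun X hX _ => Groth.Agent.H45.RlimModW.rlimHyp_of_good A B hBJ hAJ X hX) B h3 hAJ'
  exact ⟨hWS, Groth.Agent.H45.UEq.equivalence_cohIn' (SiteCmp.eps h O).pull adj A
    (A.map (SiteCmp.eps h O).push) h2a h2c h3' hstab⟩

end Groth.Agent.S9071
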