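import Groth.Statements.S9072
import Groth.Agent.H33.DerComp
import Groth.Agent.H33.SheafMod.Grothendieck
import Groth.Agent.H33.KInj.Main

set_option autoImplicit false
universe u
open CategoryTheory CategoryTheory.Limits Opposite
attribute [local instance] HasDerivedCategory.standard
open SiteCmp

namespace Groth.Agent.S9072

/-- Let f be a flat morphism from the ringed site (C, O_C) to the ringed site (D, O_D), so that the
derived pullback is f^* applied termwise, and let Rf_* be the total derived direct image on
unbounded derived categories (its existence is an instance hypothesis). Then f^* and Rf_* are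
adjoint: there is an adjunction f^* ⊣ Rf_* between D(O_D) and D(O_C). Only the existence of an
adjunction is asserted; the published statement covers arbitrary morphisms of ringed topoi with
Lf^*. -/
theorem result
    {C : Type u} [SmallCategory C] {J : GrothendieckTopology C} {O_C : Sheaf J CommRingCat.{u}}
    {D : Type u} [SmallCategory D] {K : GrothendieckTopology D} {O_D : Sheaf K CommRingCat.{u}}
    (f : ModSite.RMor O_C O_D) [PreservesFiniteLimits f.pull] [SiteCmp.HasRpushD f] :
    Nonempty (SiteCmp.pullD f ⊣ SiteCmp.RpushD f) := by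
  have hG : IsGrothendieckAbelian.{u} (ModSite.Mod O_C) :=
    Groth.Agent.H33.SheafMod.isGrothendieckAbelian J (ModSite.ringSh O_C)
  have hK : ∀ K : CochainComplex (ModSite.Mod O_C) ℤ, ∃ (I : CochainComplex (ModSite.Mod O_C) ℤ)
      (g : K ⟶ I), I.IsKInjective ∧ QuasiIso g := fun K => by
    obtain ⟨I, g, hI, hg, -, -⟩ := Groth.Agent.H33.KInj.exists_kInjective_resolution K
    exact ⟨I, g, hI, hg⟩
  let α : DerivedCategory.Qh ⋙ SiteCmp.pullD f ≅
      f.pull.mapHomotopyCategory (ComplexShape.up ℤ) ⋙ DerivedCategory.Qh :=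
    f.pull.mapDerivedCategoryFactorsh
  have h1 : (SiteCmp.pullD f).IsLeftDerivedFunctor α.hom
      (HomotopyCategory.quasiIso (ModSite.Mod O_D) (ComplexShape.up ℤ)) :=
    Functor.isLeftDerivedFunctor_of_inverts _ _ α
  have h2 : (SiteCmp.pullD f ⋙ SiteCmp.RpushD f).IsLeftDerivedFunctor
      ((Functor.associator _ _ _).inv ≫ Functor.whiskerRight α.hom (SiteCmp.RpushD f))
      (HomotopyCategory.quasiIso (ModSite.Mod O_D) (ComplexShape.up ℤ)) :=
    Functor.isLeftDerivedFunctor_of_inverts _ _
      ((Functor.associator _ _ _).symm ≪≫ Functor.isoWhiskerRight α (SiteCmp.RpushD f))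
  have h3 : (SiteCmp.RpushD f ⋙ SiteCmp.pullD f).IsRightDerivedFunctor
      (Functor.whiskerRight (Groth.Agent.H33.DerComp.RFunit (SiteCmp.pushKh f)) (SiteCmp.pullD f) ≫
        (Functor.associator _ _ _).hom)
      (HomotopyCategory.quasiIso (ModSite.Mod O_C) (ComplexShape.up ℤ)) :=
    Groth.Agent.H33.DerComp.isRightDerivedFunctor_postcomp hK (SiteCmp.pushKh f) (SiteCmp.pullD f)
  exact ⟨(Groth.Agent.H33.DerAdjU.homotopyAdj f.adj (ComplexShape.up ℤ)).derived
    (HomotopyCategory.quasiIso (ModSite.Mod O_D) (ComplexShape.up ℤ))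
    (HomotopyCategory.quasiIso (ModSite.Mod O_C) (ComplexShape.up ℤ)) α.hom
    (Groth.Agent.H33.DerComp.RFunit (SiteCmp.pushKh f))⟩

end Groth.Agent.S9072
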