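import Groth.Statements.S9089
-- import your own Groth.Agent.* helpers here

set_option autoImplicit false
universe u
open CategoryTheory Opposite
open ModSite

namespace Groth.Agent.S9089

/-- Part (1): ⇔ (2), for a ringed site (C, O) with C small and O a sheaf of commutative rings: the
following are equivalent. (1) For every object U and every section f of O over U there is a covering
sieve on U on each of whose arrows either f or 1 - f restricts to a unit. (2) For every object U,
every n ≥ 1 and all sections f₁, …, fₙ of O over U generating the unit ideal of O(U), there is a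
covering sieve on U on each of whose arrows some fᵢ restricts to a unit. -/
theorem result {C : Type u} [SmallCategory C] (J : GrothendieckTopology C)
    (O : Sheaf J CommRingCat.{u}) :
    (∀ (U : C) (f : O.obj.obj (op U)), ∃ S ∈ J U, ∀ ⦃V : C⦄ (g : V ⟶ U), S g →
        IsUnit ((O.obj.map g.op).hom f) ∨ IsUnit ((O.obj.map g.op).hom (1 - f))) ↔
    (∀ (U : C) (n : ℕ) (f : Fin n → O.obj.obj (op U)), 1 ≤ n → Ideal.span (Set.range f) = ⊤ →
        ∃ S ∈ J U, ∀ ⦃V : C⦄ (g : V ⟶ U), S g → ∃ i, IsUnit ((O.obj.map g.op).hom (f i))) := by
  constructor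
  · intro h1 U n
    induction n generalizing U with
    | zero => intro f hn; omega
    | succ n ih =>
      intro f _ hspan
      rw [Ideal.eq_top_iff_one, Ideal.mem_span_range_iff_exists_fun] at hspan
      obtain ⟨a, ha⟩ := hspan
      rw [Fin.sum_univ_castSucc] at ha
      obtain ⟨S, hS, hS'⟩ := h1 U (a (Fin.last n) * f (Fin.last n))
      have key : ∀ ⦃V : C⦄ (g : V ⟶ U), S g → ∃ R ∈ J V, ∀ ⦃W : C⦄ (k : W ⟶ V), R k →
          ∃ i, IsUnit ((O.obj.map (k ≫ g).op).hom (f i)) := by
        intro V g hg
        rcases hS' g hg with hu | hu
        · refine ⟨⊤, J.top_mem V, fun W k _ => ⟨Fin.last n, ?_⟩⟩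
          rw [map_mul] at hu
          have hu2 : IsUnit ((O.obj.map g.op).hom (f (Fin.last n))) := isUnit_of_mul_isUnit_right hu
          have := hu2.map (O.obj.map k.op).hom
          rw [op_comp, Functor.map_comp]
          exact this
        · have hsum : (1 : O.obj.obj (op U)) - a (Fin.last n) * f (Fin.last n) =
              ∑ i : Fin n, a i.castSucc * f i.castSucc := by
            rw [← ha]; ring
          rw [hsum] at hu
          by_cases hn0 : n = 0
          · subst hn0
            simp only [Finset.univ_eq_empty, Finset.sum_empty, map_zero] at hu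
            refine ⟨⊤, J.top_mem V, fun W k _ => ⟨Fin.last 0, ?_⟩⟩
            have h01 : (0 : O.obj.obj (op V)) = 1 := by
              obtain ⟨u, hu⟩ := hu
              have := u.mul_inv
              rw [hu, zero_mul] at this
              exact this
            have h01W : (0 : O.obj.obj (op W)) = 1 := by
              have := congrArg (O.obj.map k.op).hom h01
              simpa using this
            haveI : Subsingleton (O.obj.obj (op W)) := subsingleton_of_zero_eq_one h01W
            exact isUnit_of_subsingleton _
          · obtain ⟨R, hR, hR'⟩ := ih V (fun i => (O.obj.map g.op).hom (f i.castSucc)) (by omega) (by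
              rw [Ideal.eq_top_iff_one, Ideal.mem_span_range_iff_exists_fun]
              obtain ⟨u, hu⟩ := hu
              refine ⟨fun i => (↑u⁻¹ : O.obj.obj (op V)) * (O.obj.map g.op).hom (a i.castSucc), ?_⟩
              simp only [mul_assoc, ← Finset.mul_sum, ← map_mul, ← map_sum]
              rw [← hu, Units.inv_mul])
            refine ⟨R, hR, fun W k hk => ?_⟩
            obtain ⟨i, hi⟩ := hR' k hk
            refine ⟨i.castSucc, ?_⟩
            rw [op_comp, Functor.map_comp]
            exact hi
      choose R hR hR' using key
      refine ⟨Sieve.bind S R, J.bind_covering hS (fun _ _ H => hR _ H), ?_⟩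
      rintro W k ⟨V, k', g, hg, hk', rfl⟩
      exact hR' g hg k' hk'
  · intro h2 U f
    obtain ⟨S, hS, hS'⟩ := h2 U 2 ![f, 1 - f] (by omega) (by
      rw [Ideal.eq_top_iff_one]
      have h1 : f ∈ Ideal.span (Set.range ![f, 1 - f]) := Ideal.subset_span ⟨0, rfl⟩
      have h2 : 1 - f ∈ Ideal.span (Set.range ![f, 1 - f]) := Ideal.subset_span ⟨1, rfl⟩
      have := Ideal.add_mem _ h1 h2
      simpa using this)
    refine ⟨S, hS, fun V g hg => ?_⟩
    obtain ⟨i, hi⟩ := hS' g hg
    fin_cases i
    · left; exact hi
    · right; exact hi

end Groth.Agent.S9089
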