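import Groth.Statements.S9091
-- import your own Groth.Agent.* helpers here

set_option autoImplicit false
universe u
open CategoryTheory Opposite
open ModSite

namespace Groth.Agent.S9091

/-- If the germ of `r` at `x` is a unit in the stalk, then `r` becomes a unit on a neighbourhood. -/
lemma exists_isUnit_of_isUnit_germ {C : Type u} [SmallCategory C] {J : GrothendieckTopology C}
    (O : Sheaf J CommRingCat.{u}) (p : GrothendieckTopology.Point.{u} J) (U : C)
    (x : p.fiber.obj U) (r : O.obj.obj (op U))
    (hr : IsUnit ((p.toPresheafFiber U x O.obj).hom r)) :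
    ∃ (V : C) (g : V ⟶ U) (y : p.fiber.obj V), p.fiber.map g y = x ∧
      IsUnit ((O.obj.map g.op).hom r) := by
  obtain ⟨b, hb⟩ := hr.exists_right_inv
  obtain ⟨X', x', b₀, rfl⟩ := p.toPresheafFiber_jointly_surjective (P := O.obj) b
  let W := IsCofiltered.min (Functor.elementsMk p.fiber U x) (Functor.elementsMk p.fiber X' x')
  let gU := IsCofiltered.minToLeft (Functor.elementsMk p.fiber U x)
    (Functor.elementsMk p.fiber X' x')
  let gX := IsCofiltered.minToRight (Functor.elementsMk p.fiber U x)
    (Functor.elementsMk p.fiber X' x')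
  have hU : (p.toPresheafFiber U x O.obj).hom r =
      (p.toPresheafFiber W.1 W.2 O.obj).hom ((O.obj.map gU.1.op).hom r) :=
    ((congrArg (fun t => (p.toPresheafFiber U t O.obj).hom r) gU.2).symm).trans
      (p.toPresheafFiber_w_apply gU.1 W.2 O.obj r).symm
  have hX : (p.toPresheafFiber X' x' O.obj).hom b₀ =
      (p.toPresheafFiber W.1 W.2 O.obj).hom ((O.obj.map gX.1.op).hom b₀) :=
    ((congrArg (fun t => (p.toPresheafFiber X' t O.obj).hom b₀) gX.2).symm).trans
      (p.toPresheafFiber_w_apply gX.1 W.2 O.obj b₀).symm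
  have h1 : (p.toPresheafFiber W.1 W.2 O.obj).hom
      ((O.obj.map gU.1.op).hom r * (O.obj.map gX.1.op).hom b₀) =
      (p.toPresheafFiber W.1 W.2 O.obj).hom 1 := by
    rw [map_mul, map_one, ← hU, ← hX]
    exact hb
  obtain ⟨Y, g, y, hy, hg⟩ := (p.toPresheafFiber_eq_iff' (P := O.obj) W.1 W.2 _ _).1 h1
  refine ⟨Y, g ≫ gU.1, y, ?_, ?_⟩
  · rw [Functor.map_comp]
    change p.fiber.map gU.1 (p.fiber.map g y) = x
    rw [hy]
    exact gU.2
  · have hg' : (O.obj.map g.op).hom ((O.obj.map gU.1.op).hom r * (O.obj.map gX.1.op).hom b₀) =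
        (O.obj.map g.op).hom 1 := hg
    rw [map_mul, map_one] at hg'
    have e : (O.obj.map (g ≫ gU.1).op).hom r = (O.obj.map g.op).hom ((O.obj.map gU.1.op).hom r) := by
      rw [op_comp, Functor.map_comp]
      rfl
    rw [e]
    exact IsUnit.of_mul_eq_one _ hg'


/-- Part (2): ⇒ (1) when the site has enough points, for a ringed site (C, O) with C small and O a sheaf
of commutative rings: if at every point p of the site the stalk O_p is the zero ring or is local,
then for every object U and every section f of O over U there is a covering sieve on U on each of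
whose arrows either f or 1 - f restricts to a unit. -/
theorem result {C : Type u} [SmallCategory C] {J : GrothendieckTopology C}
    (O : Sheaf J CommRingCat.{u}) [GrothendieckTopology.HasEnoughPoints.{u} J]
    (h : ∀ p : GrothendieckTopology.Point.{u} J, Subsingleton (ModSite.stalkRing p O) ∨ IsLocalRing (ModSite.stalkRing p O))
    (U : C) (f : O.obj.obj (op U)) :
    ∃ S ∈ J U, ∀ ⦃V : C⦄ (g : V ⟶ U), S g →
        IsUnit ((O.obj.map g.op).hom f) ∨ IsUnit ((O.obj.map g.op).hom (1 - f)) := by
  obtain ⟨P, hPsmall, hP⟩ := GrothendieckTopology.HasEnoughPoints.exists_objectProperty.{u} J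
  let ι : Type u := Σ (V : C), {g : V ⟶ U // IsUnit ((O.obj.map g.op).hom f) ∨
    IsUnit ((O.obj.map g.op).hom (1 - f))}
  let Y : ι → C := fun i => i.1
  let gs : ∀ i : ι, Y i ⟶ U := fun i => i.2.1
  refine ⟨Sieve.ofArrows Y gs, ?_, ?_⟩
  · rw [hP.jointly_reflect_ofArrows_mem_of_small]
    intro Φ x
    have hloc := h Φ.obj
    have hcases : IsUnit ((Φ.obj.toPresheafFiber U x O.obj).hom f) ∨
        IsUnit ((Φ.obj.toPresheafFiber U x O.obj).hom (1 - f)) := by
      rcases hloc with hsub | hlocal
      · left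
        haveI : Subsingleton ↑(Φ.obj.presheafFiber.obj O.obj) := hsub
        exact isUnit_of_subsingleton _
      · rw [map_sub, map_one]
        haveI : IsLocalRing ↑(Φ.obj.presheafFiber.obj O.obj) := hlocal
        exact IsLocalRing.isUnit_or_isUnit_one_sub_self _
    rcases hcases with hu | hu
    · obtain ⟨V, g, y, hy, hg⟩ := exists_isUnit_of_isUnit_germ O Φ.obj U x f hu
      exact ⟨⟨V, g, Or.inl hg⟩, y, hy⟩
    · obtain ⟨V, g, y, hy, hg⟩ := exists_isUnit_of_isUnit_germ O Φ.obj U x (1 - f) hu
      exact ⟨⟨V, g, Or.inr hg⟩, y, hy⟩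
  · rintro V g ⟨W, k, _, ⟨i⟩, rfl⟩
    have e : ∀ r : O.obj.obj (op U), (O.obj.map (k ≫ gs i).op).hom r =
        (O.obj.map k.op).hom ((O.obj.map (gs i).op).hom r) := by
      intro r
      rw [op_comp, Functor.map_comp]
      rfl
    rcases i.2.2 with hu | hu
    · left
      rw [e]
      exact hu.map _
    · right
      rw [e]
      exact hu.map _

end Groth.Agent.S9091
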