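import Groth.Statements.S9103
import Groth.Agent.H45.QC.SectionsCoprod
import Groth.Agent.H45.QC.FreeOnHom
import Groth.Agent.H45.SheafTensor.ToSheaf

set_option autoImplicit false
universe u
open CategoryTheory Opposite
open ModSite

namespace Groth.Agent.S9103

open CategoryTheory.Limits in
/-- On a small ringed site (C, O) with O commutative: let U be an object of C which is quasi-compact, in
the sense that the sheaf of sets h_U^# associated to U is a quasi-compact object of the topos. Then
the additive functor Hom_O(j_{U!}O_U, -) from O-modules to abelian groups commutes with arbitrary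
direct sums (coproducts indexed by a small type). -/
theorem result {C : Type u} [SmallCategory C] {J : GrothendieckTopology C}
    (O : Sheaf J CommRingCat.{u}) (U : C)
    (hU : CohCx.IsQcObject ((presheafToSheaf J (Type u)).obj (yoneda.obj U))) (ι : Type u) :
    PreservesColimitsOfShape (Discrete ι) (preadditiveCoyoneda.obj (op (ModSite.freeOn O U))) := by
  haveI : PreservesColimitsOfShape (Discrete ι) (SheafOfModules.toSheaf.{u} (ModSite.ringSh O)) :=
    (Groth.Agent.H45.preservesColimits_toSheaf O).preservesColimitsOfShape
  haveI := Groth.Agent.H45.QC.preservesColimitsOfShape_sections hU ι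
  haveI : PreservesColimitsOfShape (Discrete ι) (Groth.Agent.H45.QC.secMod O U) :=
    comp_preservesColimitsOfShape _ _
  exact preservesColimitsOfShape_of_natIso (Groth.Agent.H45.QC.coyonedaFreeOnIso O U).symm

end Groth.Agent.S9103
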