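import Groth.Statements.S9108
import Mathlib.CategoryTheory.Adjunction.Triple
import Mathlib.CategoryTheory.Functor.KanExtension.Adjunction
-- import your own Groth.Agent.* helpers here

set_option autoImplicit false
universe u
open CategoryTheory
open CohSite

namespace Groth.Agent.S9108

/-- Let u : C ⥤ D be a functor between small sites which is cocontinuous, continuous (restriction along
u preserves sheaves, and u sends covering families to covering families) and fully faithful; let g
be the morphism of topoi attached to u, so that g⁻¹ is restriction along u, g_* its right adjoint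
and g_! its left adjoint on abelian sheaves. Then for every abelian sheaf F on C the canonical maps
F → g⁻¹g_!F (unit) and g⁻¹g_*F → F (counit) are isomorphisms. -/
theorem result {C D : Type u} [SmallCategory C] [SmallCategory D]
    (J : GrothendieckTopology C) (K : GrothendieckTopology D) (u : C ⥤ D)
    [u.IsCocontinuous J K] [u.IsContinuous J K] (hu : CoverPreserving J K u) [u.Full] [u.Faithful]
    (F : Sheaf J AddCommGrpCat.{u}) :
    IsIso ((u.sheafAdjunctionContinuous AddCommGrpCat.{u} J K).unit.app F) ∧
      IsIso ((u.sheafAdjunctionCocontinuous AddCommGrpCat.{u} J K).counit.app F) := by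
  have hco : ∀ G : Sheaf J AddCommGrpCat.{u},
      IsIso ((u.sheafAdjunctionCocontinuous AddCommGrpCat.{u} J K).counit.app G) := by
    intro G
    have h1 : IsIso ((sheafToPresheaf J AddCommGrpCat.{u}).map
        ((u.sheafAdjunctionCocontinuous AddCommGrpCat.{u} J K).counit.app G)) := by
      show IsIso ((u.sheafAdjunctionCocontinuous AddCommGrpCat.{u} J K).counit.app G).hom
      rw [Functor.sheafAdjunctionCocontinuous_counit_app_hom]
      exact Functor.instIsIsoAppCounitRanAdjunctionOfHasPointwiseRightKanExtension (L := u.op)
        (H := AddCommGrpCat.{u}) G.obj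
    exact isIso_of_fully_faithful (sheafToPresheaf J AddCommGrpCat.{u}) _
  have hco' : IsIso (u.sheafAdjunctionCocontinuous AddCommGrpCat.{u} J K).counit :=
    NatIso.isIso_of_isIso_app _
  let t : Adjunction.Triple (u.sheafPullback AddCommGrpCat.{u} J K)
      (u.sheafPushforwardContinuous AddCommGrpCat.{u} J K)
      (u.sheafPushforwardCocontinuous AddCommGrpCat.{u} J K) :=
    ⟨u.sheafAdjunctionContinuous AddCommGrpCat.{u} J K,
      u.sheafAdjunctionCocontinuous AddCommGrpCat.{u} J K⟩
  have hunit : IsIso (u.sheafAdjunctionContinuous AddCommGrpCat.{u} J K).unit :=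
    t.isIso_unit_iff_isIso_counit.mpr hco'
  exact ⟨inferInstance, hco F⟩

end Groth.Agent.S9108
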