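import Groth.Statements.S9109
import Groth.Agent.H45.PiExact
-- import your own Groth.Agent.* helpers here

set_option autoImplicit false
universe u
open CategoryTheory CategoryTheory.Limits
open CohSite

namespace Groth.Agent.S9109

/-- Part (1): on a small site (C, J) with a point p: the skyscraper functor p_* from abelian groups to
abelian sheaves on C (right adjoint to the stalk functor at p; its value on A is the sheaf U ↦ ∏_{x
∈ p⁻¹U} A) is exact. As a right adjoint it preserves limits; the statement here is that it also
preserves finite colimits. -/
theorem result {C : Type u} [SmallCategory C] {J : GrothendieckTopology C}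
    (p : GrothendieckTopology.Point.{u} J) :
    PreservesFiniteColimits (p.skyscraperSheafFunctor (A := AddCommGrpCat.{u})) := by
  have h2 : PreservesFiniteColimits (p.skyscraperPresheafFunctor (A := AddCommGrpCat.{u})) := by
    constructor
    intro K _ _
    apply preservesColimitsOfShape_of_evaluation
    intro X
    have := Groth.Agent.H45.preservesFiniteColimits_piFunctor_flip_obj (p.fiber.obj X.unop)
    exact this.preservesFiniteColimits K
  constructor
  intro K _ _
  constructor
  intro F
  have : PreservesColimit F (p.skyscraperSheafFunctor (A := AddCommGrpCat.{u}) ⋙
      sheafToPresheaf J AddCommGrpCat.{u}) := by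
    have h3 : PreservesColimit F (p.skyscraperPresheafFunctor (A := AddCommGrpCat.{u})) :=
      (h2.preservesFiniteColimits K).preservesColimit
    exact h3
  exact preservesColimit_of_reflects_of_preserves _ (sheafToPresheaf J AddCommGrpCat.{u})

end Groth.Agent.S9109
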