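import Groth.Statements.S9112
import Groth.Agent.H45.SheafTensor.ToSheaf
import Mathlib.Algebra.Homology.ShortComplex.Ab
import Mathlib.Algebra.Homology.ShortComplex.ExactFunctor

set_option autoImplicit false
universe u
open CategoryTheory
open ModSite

namespace Groth.Agent.S9112

/-- Part (1): on a small ringed site (C, O) with O commutative, for a point p of the site: the stalk
functor F ↦ F_p from O-modules to O_p-modules is exact. Stated on a short exact sequence 0 → F₁ → F₂
→ F₃ → 0 of O-modules: the induced O_p-linear map F₁,p → F₂,p is injective, F₂,p → F₃,p is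
surjective, and the range of the first is the kernel of the second. -/
theorem result {C : Type u} [SmallCategory C] {J : GrothendieckTopology C}
    (O : Sheaf J CommRingCat.{u}) (S : ShortComplex (ModSite.Mod O)) (hS : S.ShortExact)
    (p : GrothendieckTopology.Point.{u} J) :
    Function.Injective (ModSite.stalkMap p S.f).hom ∧ Function.Surjective (ModSite.stalkMap p S.g).hom ∧
      LinearMap.range (ModSite.stalkMap p S.f).hom = LinearMap.ker (ModSite.stalkMap p S.g).hom := by
  let G : ModSite.Mod O ⥤ AddCommGrpCat.{u} :=
    SheafOfModules.toSheaf.{u} (ModSite.ringSh O) ⋙ p.sheafFiber (A := AddCommGrpCat.{u})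
  have hGl : Limits.PreservesFiniteLimits G := inferInstance
  have hGc : Limits.PreservesFiniteColimits G := inferInstance
  have hG : G.Additive := Functor.additive_of_preserves_binary_products G
  have hS' : (S.map G).ShortExact := hS.map_of_exact G
  have h1 := hS'.ab_injective_f
  have h2 := hS'.ab_surjective_g
  have h3 := (ShortComplex.ab_exact_iff_function_exact (S.map G)).1 hS'.exact
  refine ⟨h1, h2, ?_⟩
  ext x
  constructor
  · rintro ⟨y, rfl⟩
    exact (h3 _).2 ⟨y, rfl⟩
  · intro hx
    obtain ⟨y, hy⟩ := (h3 x).1 hx
    exact ⟨y, hy⟩

end Groth.Agent.S9112
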