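import Groth.Statements.S9121
import Mathlib.Algebra.Homology.ShortComplex.ExactFunctor
import Mathlib.CategoryTheory.Sites.EpiMono
-- import your own Groth.Agent.* helpers here

set_option autoImplicit false
universe u
open CategoryTheory CategoryTheory.Limits
open CohSite

namespace Groth.Agent.S9121

/-- Part (1): for the morphism of topoi f : Sh(C) → Sh(D) attached to a continuous functor u : D ⥤ C
between small sites whose induced pullback of sheaves of sets is exact (f_* is restriction along u):
if f_* transforms epimorphisms of sheaves of sets into epimorphisms, then f_* on abelian sheaves is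
exact; being a right adjoint it preserves finite limits, and the statement is that it also preserves
finite colimits. -/
theorem result {C D : Type u} [SmallCategory C] [SmallCategory D]
    (J : GrothendieckTopology C) (K : GrothendieckTopology D) (u : D ⥤ C) [u.IsContinuous K J]
    [PreservesFiniteLimits (u.sheafPullback (Type u) K J)]
    [(u.sheafPushforwardContinuous (Type u) K J).PreservesEpimorphisms] :
    PreservesFiniteColimits (u.sheafPushforwardContinuous AddCommGrpCat.{u} K J) := by
  have hadd : (u.sheafPushforwardContinuous AddCommGrpCat.{u} K J).Additive :=
    inferInstanceAs (CohSite.push J K u).Additive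
  have hlim : PreservesFiniteLimits (u.sheafPushforwardContinuous AddCommGrpCat.{u} K J) := by
    have : PreservesLimitsOfSize.{0, 0} (u.sheafPushforwardContinuous AddCommGrpCat.{u} K J) :=
      (u.sheafAdjunctionContinuous AddCommGrpCat.{u} K J).rightAdjoint_preservesLimits
    exact PreservesLimitsOfSize.preservesFiniteLimits _
  rw [Functor.preservesFiniteColimits_iff_forall_exact_map_and_epi]
  intro S hS
  refine ⟨?_, ?_⟩
  · exact ((Functor.preservesFiniteLimits_iff_forall_exact_map_and_mono _).mp hlim S hS).1
  · have h0 : Epi S.g := hS.epi_g
    have h1 : Sheaf.IsLocallySurjective S.g := (Sheaf.isLocallySurjective_iff_epi' (φ := S.g)).mpr h0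
    have h3 : Epi ((sheafCompose J (forget AddCommGrpCat.{u})).map S.g) := inferInstance
    have h4 : Epi ((u.sheafPushforwardContinuous (Type u) K J).map
        ((sheafCompose J (forget AddCommGrpCat.{u})).map S.g)) := inferInstance
    have h5 : Sheaf.IsLocallySurjective ((u.sheafPushforwardContinuous (Type u) K J).map
        ((sheafCompose J (forget AddCommGrpCat.{u})).map S.g)) :=
      (Sheaf.isLocallySurjective_iff_epi _).mpr h4
    have h6 : Sheaf.IsLocallySurjective
        ((u.sheafPushforwardContinuous AddCommGrpCat.{u} K J).map S.g) :=
      (Presheaf.isLocallySurjective_iff_whisker_forget K _).mpr h5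
    infer_instance

end Groth.Agent.S9121
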