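import Groth.Statements.S9124
import Groth.Agent.H46.Catenary
-- import your own Groth.Agent.* helpers here

set_option autoImplicit false
universe u
open CAlg

namespace Groth.Agent.S9124

/-- A localization of a catenary ring is catenary. -/
theorem result (A : Type u) [CommRing A] (S : Submonoid A)
    (B : Type u) [CommRing B] [Algebra A B] [IsLocalization S B]
    (hA : CAlg.IsCatenary A) : CAlg.IsCatenary B := by
  refine Groth.Agent.H46.isCatenary_of_convex_embedding
    (PrimeSpectrum.comap (algebraMap A B)) ?_ ?_ hA
  · intro p q
    constructor
    · intro h
      have h' : p.asIdeal.comap (algebraMap A B) ≤ q.asIdeal.comap (algebraMap A B) := h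
      have := Ideal.map_mono (f := algebraMap A B) h'
      rw [IsLocalization.map_under S B, IsLocalization.map_under S B] at this
      exact this
    · intro h
      exact Ideal.comap_mono h
  · intro p q y _ hyq
    rw [PrimeSpectrum.localization_comap_range B S]
    have hq : PrimeSpectrum.comap (algebraMap A B) q ∈
        Set.range (PrimeSpectrum.comap (algebraMap A B)) := ⟨q, rfl⟩
    rw [PrimeSpectrum.localization_comap_range B S] at hq
    exact Set.disjoint_of_subset_right hyq hq

end Groth.Agent.S9124
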