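import Groth.Statements.S9127
import Groth.Agent.H46.Catenary
import Mathlib.RingTheory.Spectrum.Prime.RingHom

set_option autoImplicit false
universe u
open CAlg

namespace Groth.Agent.S9127

/-- A Noetherian ring is catenary if and only if its quotient by every minimal prime is catenary. -/
theorem result (R : Type u) [CommRing R] [IsNoetherianRing R] :
    CAlg.IsCatenary R ↔ ∀ p ∈ minimalPrimes R, CAlg.IsCatenary (R ⧸ p) := by
  have hf : ∀ (𝔭 : Ideal R) (p q : PrimeSpectrum (R ⧸ 𝔭)),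
      PrimeSpectrum.comap (Ideal.Quotient.mk 𝔭) p ≤ PrimeSpectrum.comap (Ideal.Quotient.mk 𝔭) q ↔
        p ≤ q := by
    intro 𝔭 p q
    change Ideal.comap (Ideal.Quotient.mk 𝔭) p.asIdeal ≤ Ideal.comap (Ideal.Quotient.mk 𝔭) q.asIdeal ↔
      p.asIdeal ≤ q.asIdeal
    exact Ideal.comap_le_comap_iff_of_surjective _ Ideal.Quotient.mk_surjective _ _
  have hrange : ∀ (𝔭 : Ideal R) (y : PrimeSpectrum R), 𝔭 ≤ y.asIdeal →
      y ∈ Set.range (PrimeSpectrum.comap (Ideal.Quotient.mk 𝔭)) := by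
    intro 𝔭 y hy
    rw [range_comap_of_surjective _ _ Ideal.Quotient.mk_surjective,
      PrimeSpectrum.mem_zeroLocus, Ideal.mk_ker]
    exact hy
  have hup : ∀ (𝔭 : Ideal R) (p : PrimeSpectrum (R ⧸ 𝔭)) (y : PrimeSpectrum R),
      PrimeSpectrum.comap (Ideal.Quotient.mk 𝔭) p ≤ y →
      y ∈ Set.range (PrimeSpectrum.comap (Ideal.Quotient.mk 𝔭)) := by
    intro 𝔭 p y hy
    apply hrange
    refine le_trans ?_ hy
    intro x hx
    change Ideal.Quotient.mk 𝔭 x ∈ p.asIdeal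
    rw [Ideal.Quotient.eq_zero_iff_mem.mpr hx]
    exact p.asIdeal.zero_mem
  constructor
  · intro h 𝔭 _
    exact Groth.Agent.H46.isCatenary_of_convex_embedding
      (PrimeSpectrum.comap (Ideal.Quotient.mk 𝔭)) (hf 𝔭) (fun p q y hy _ => hup 𝔭 p y hy) h
  · intro h
    apply Groth.Agent.H46.isCatenary_of_upperSet_embeddings
    intro P
    obtain ⟨𝔭, h𝔭, h𝔭P⟩ := Ideal.exists_minimalPrimes_le (bot_le : (⊥ : Ideal R) ≤ P.asIdeal)
    exact ⟨R ⧸ 𝔭, inferInstance, PrimeSpectrum.comap (Ideal.Quotient.mk 𝔭), hf 𝔭, hup 𝔭,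
      hrange 𝔭 P h𝔭P, h 𝔭 h𝔭⟩

end Groth.Agent.S9127
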