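import Groth.Statements.S9128
import Groth.Agent.H24.Catenary
import Mathlib

set_option autoImplicit false
universe u
open CAlg

namespace Groth.Agent.S9128

/-- A Noetherian local ring A is catenary if and only if the assignment sending a prime p to the Krull
dimension of A/p is a dimension function on Spec A, i.e. it decreases strictly along strict
inclusions of primes and drops by exactly one along inclusions with no prime strictly in between. -/
theorem result (A : Type u) [CommRing A] [IsNoetherianRing A]
    [IsLocalRing A] :
    CAlg.IsCatenary A ↔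
      ∀ p q : PrimeSpectrum A, p < q →
        ringKrullDim (A ⧸ q.asIdeal) < ringKrullDim (A ⧸ p.asIdeal) ∧
          (p ⋖ q → ringKrullDim (A ⧸ p.asIdeal) = ringKrullDim (A ⧸ q.asIdeal) + 1) := by
  have _i1 : WellFoundedLT (PrimeSpectrum A) := Groth.Agent.H24.wellFoundedLT_primeSpectrum
  have _i2 : WellFoundedGT (PrimeSpectrum A) := Groth.Agent.H24.wellFoundedGT_primeSpectrum
  have hdim : ∀ p : PrimeSpectrum A, ringKrullDim (A ⧸ p.asIdeal) =
      ((Order.coheight p : ℕ∞) : WithBot ℕ∞) :=
    fun p => (Groth.Agent.H24.coheight_eq_ringKrullDim_quotient p).symm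
  have hfin : ∀ p : PrimeSpectrum A, Order.coheight p < ⊤ := by
    intro p
    have h1 : ((Order.coheight p : ℕ∞) : WithBot ℕ∞) ≤ ringKrullDim A :=
      Order.coheight_le_krullDim p
    have h2 : ringKrullDim A < ⊤ := ringKrullDim_lt_top
    have h3 : ((Order.coheight p : ℕ∞) : WithBot ℕ∞) < ((⊤ : ℕ∞) : WithBot ℕ∞) :=
      lt_of_le_of_lt h1 h2
    exact_mod_cast h3
  -- reformulate in terms of coheight
  have hreform : (∀ p q : PrimeSpectrum A, p < q →
        ringKrullDim (A ⧸ q.asIdeal) < ringKrullDim (A ⧸ p.asIdeal) ∧
          (p ⋖ q → ringKrullDim (A ⧸ p.asIdeal) = ringKrullDim (A ⧸ q.asIdeal) + 1)) ↔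
      (∀ p q : PrimeSpectrum A, p ⋖ q → Order.coheight p = Order.coheight q + 1) := by
    constructor
    · intro h p q hpq
      have := (h p q hpq.lt).2 hpq
      rw [hdim, hdim] at this
      exact_mod_cast this
    · intro h p q hpq
      refine ⟨?_, fun hcov => ?_⟩
      · rw [hdim, hdim]
        exact_mod_cast Order.coheight_strictAnti hpq (hfin q)
      · rw [hdim, hdim]
        exact_mod_cast h p q hcov
  rw [hreform]
  set m : PrimeSpectrum A := IsLocalRing.closedPoint A with hm_def
  have hm : ∀ a : PrimeSpectrum A, a ≤ m := fun a => IsLocalRing.le_maximalIdeal a.2.ne_top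
  constructor
  · rintro ⟨_, hc⟩ p q hpq
    apply le_antisymm
    · obtain ⟨t', ht'h, ht'l⟩ := Groth.Agent.H24.exists_satSeries_of_le (hm q)
      have hle := Groth.Agent.H24.coheight_head_le_length_of_catenaryCond hc m hm
        (t'.cons p (by rw [ht'h]; exact hpq)) (by simpa using ht'l)
      simp only [RelSeries.head_cons, RelSeries.cons_length] at hle
      have h2 : (t'.length : ℕ∞) ≤ Order.coheight q := by
        have := Order.length_le_coheight_head (p := t'.toLT)
        rwa [Groth.Agent.H24.SatSeries.toLT_head, ht'h] at this
      calc Order.coheight p ≤ ((t'.length + 1 : ℕ) : ℕ∞) := hle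
        _ = (t'.length : ℕ∞) + 1 := by push_cast; rfl
        _ ≤ Order.coheight q + 1 := by gcongr
    · exact Order.coheight_add_one_le hpq.lt
  · intro h
    have key : ∀ s : LTSeries (PrimeSpectrum A),
        (∀ i : Fin s.length, s (Fin.castSucc i) ⋖ s (Fin.succ i)) →
        Order.coheight s.head = Order.coheight s.last + s.length := by
      intro s hs
      have : ∀ (i : ℕ) (hi : i < s.length + 1),
          Order.coheight s.head = Order.coheight (s ⟨i, hi⟩) + i := by
        intro i
        induction i with
        | zero => intro hi; simp [RelSeries.head]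
        | succ i ih =>
          intro hi
          have h1 := ih (by omega)
          have h2 := h _ _ (hs ⟨i, by omega⟩)
          have e1 : (Fin.castSucc (⟨i, by omega⟩ : Fin s.length)) = ⟨i, by omega⟩ := rfl
          have e2 : (Fin.succ (⟨i, by omega⟩ : Fin s.length)) = ⟨i + 1, hi⟩ := rfl
          rw [e1, e2] at h2
          rw [h1, h2]
          push_cast
          rw [add_assoc, add_comm (1 : ℕ∞)]
      have := this s.length (by omega)
      exact this
    constructor
    · intro p q _
      refine ⟨(Order.coheight p).toNat, fun s hs _ => ?_⟩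
      have h1 : (s.length : ℕ∞) ≤ Order.coheight p := by
        rw [← hs]; exact Order.length_le_coheight_head
      have h2 : Order.coheight p = ((Order.coheight p).toNat : ℕ∞) :=
        (ENat.natCast_toNat (hfin p).ne).symm
      rw [h2] at h1
      exact_mod_cast h1
    · intro s t hh hl hs ht
      have h1 := key s hs
      have h2 := key t ht
      rw [hh, hl, h2] at h1
      have h3 : Order.coheight t.last ≠ ⊤ := (hfin _).ne
      have := (ENat.add_right_injective_of_ne_top h3) h1
      exact_mod_cast this.symm

end Groth.Agent.S9128
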