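import Groth.Statements.S9137
import Groth.Agent.H46.ZMTLocal

set_option autoImplicit false
universe u
open CAlg

namespace Groth.Agent.S9137

/-- Let R → S be a local ring homomorphism between local rings, essentially of finite type, such that
the residue field of S is finite over that of R and S/m_R S has dimension zero. Then S is, as an
R-algebra, the localization of a finite R-algebra at a prime. -/
theorem result (R S : Type u) [CommRing R] [CommRing S]
    [IsLocalRing R] [IsLocalRing S] [Algebra R S] [IsLocalHom (algebraMap R S)]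
    [Algebra.EssFiniteType R S]
    (hres : Module.Finite (IsLocalRing.ResidueField R) (IsLocalRing.ResidueField S))
    (hdim : ringKrullDim (S ⧸ (IsLocalRing.maximalIdeal R).map (algebraMap R S)) = 0) :
    ∃ (S' : Type u) (_ : CommRing S') (_ : Algebra R S') (_ : Algebra S' S) (_ : IsScalarTower R S' S)
      (q : Ideal S') (_ : q.IsPrime), Module.Finite R S' ∧ IsLocalization.AtPrime S q := by
  classical
  have hfinq := Groth.Agent.H46.finite_quotient_of_dim_zero_of_finite_residueField R S hres hdim
  let T := Algebra.EssFiniteType.subalgebra R S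
  let 𝔮 : Ideal T := (IsLocalRing.maximalIdeal S).comap (algebraMap T S)
  have h𝔮 : 𝔮.IsPrime := Ideal.comap_isPrime _ _
  have hsub : Algebra.EssFiniteType.submonoid R S = 𝔮.primeCompl := by
    ext t
    simp only [Algebra.EssFiniteType.submonoid, Submonoid.mem_comap, Ideal.mem_primeCompl_iff,
      𝔮, Ideal.mem_comap, IsLocalRing.mem_maximalIdeal, mem_nonunits_iff, not_not]
    rfl
  have hloc : IsLocalization.AtPrime S 𝔮 := by
    have := Algebra.EssFiniteType.isLocalization R S
    rw [hsub] at this
    exact this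
  have hunder : 𝔮.under R = IsLocalRing.maximalIdeal R := by
    have h4 := ((IsLocalRing.local_hom_TFAE (algebraMap R S)).out 0 4).mp ‹_›
    rw [← h4]
    simp only [Ideal.under, 𝔮, Ideal.comap_comap]
    congr 1
  have hweak : Algebra.WeaklyQuasiFiniteAt R 𝔮 := by
    rw [Algebra.weaklyQuasiFiniteAt_iff]
    let e : Localization.AtPrime 𝔮 ≃ₐ[T] S := IsLocalization.algEquiv 𝔮.primeCompl _ _
    let e' : Localization.AtPrime 𝔮 ≃ₐ[R] S := e.restrictScalars R
    let E := Ideal.quotientEquivAlg ((𝔮.under R).map (algebraMap R (Localization.AtPrime 𝔮)))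
      ((IsLocalRing.maximalIdeal R).map (algebraMap R S)) e' (by
        rw [Ideal.map_map, hunder]
        congr 1
        ext r
        exact (e'.commutes r).symm)
    have : Algebra.QuasiFinite R (S ⧸ (IsLocalRing.maximalIdeal R).map (algebraMap R S)) :=
      inferInstance
    exact (Algebra.QuasiFinite.iff_of_algEquiv E).mpr this
  obtain ⟨S', hS', r, hr, hbij⟩ :=
    Algebra.QuasiFiniteAt.exists_fg_and_exists_notMem_and_awayMap_bijective (R := R) 𝔮
  -- every element of `T` is, up to a power of `r`, in `S'`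
  have hpow : ∀ t : T, ∃ (N : ℕ) (a : S'), (a : T) = (r : T) ^ N * t := by
    intro t
    obtain ⟨w, hw⟩ := hbij.2 (algebraMap T (Localization.Away (r : T)) t)
    obtain ⟨a, ⟨_, n, rfl⟩, rfl⟩ := IsLocalization.exists_mk'_eq (Submonoid.powers r) w
    rw [Localization.awayMap, IsLocalization.Away.map, IsLocalization.map_mk'] at hw
    have hw2 := (IsLocalization.mk'_eq_iff_eq_mul).mp hw
    have hw3 : algebraMap T (Localization.Away (r : T)) (a : T) =
        algebraMap T (Localization.Away (r : T)) (t * (r : T) ^ n) := by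
      rw [map_mul]
      exact hw2
    obtain ⟨⟨_, k, rfl⟩, hk⟩ := (IsLocalization.eq_iff_exists (Submonoid.powers (r : T)) _).mp hw3
    refine ⟨k + n, r ^ k * a, ?_⟩
    push_cast
    rw [hk]
    ring
  let φ : S' →ₐ[R] S := T.val.comp S'.val
  have hφinj : Function.Injective φ := by
    intro x y hxy
    exact Subtype.ext (Subtype.ext hxy)
  let q : Ideal S' := 𝔮.comap S'.val
  have hq : q.IsPrime := Ideal.comap_isPrime _ _
  have hfin : Module.Finite R S' := ⟨(Submodule.fg_top _).mpr hS'⟩
  have hunit : ∀ t : T, t ∉ 𝔮 → IsUnit (algebraMap T S t) := by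
    intro t ht
    by_contra hnu
    exact ht hnu
  refine ⟨S', inferInstance, inferInstance, φ.toRingHom.toAlgebra,
    @IsScalarTower.of_algebraMap_eq' R S' S _ _ _ _ φ.toRingHom.toAlgebra _
      (by ext x; exact (φ.commutes x).symm), q, hq, hfin, ?_⟩
  let : Algebra S' S := φ.toRingHom.toAlgebra
  have halg : ∀ x : S', algebraMap S' S x = algebraMap T S (x : T) := fun _ => rfl
  refine (isLocalization_iff _ _).mpr ⟨?_, ?_, ?_⟩
  · rintro ⟨y, hy⟩
    exact hunit (y : T) hy
  · intro z
    obtain ⟨⟨t, u, hu⟩, hz⟩ := IsLocalization.surj 𝔮.primeCompl z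
    obtain ⟨N₁, a, ha⟩ := hpow t
    obtain ⟨N₂, b, hb⟩ := hpow u
    have hmem : r ^ N₁ * b ∈ q.primeCompl := by
      change ((r ^ N₁ * b : S') : T) ∉ 𝔮
      push_cast
      rw [hb]
      intro hcon
      rcases h𝔮.mem_or_mem hcon with h1 | h1
      · exact hr (h𝔮.mem_of_pow_mem _ h1)
      · rcases h𝔮.mem_or_mem h1 with h2 | h2
        · exact hr (h𝔮.mem_of_pow_mem _ h2)
        · exact hu h2
    refine ⟨(r ^ N₂ * a, ⟨r ^ N₁ * b, hmem⟩), ?_⟩
    simp only [halg]
    push_cast
    rw [ha, hb]
    simp only [map_mul, map_pow] at hz ⊢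
    calc z * (algebraMap T S r ^ N₁ * (algebraMap T S r ^ N₂ * algebraMap T S u))
        = (algebraMap T S r ^ N₁ * algebraMap T S r ^ N₂) * (z * algebraMap T S u) := by ring
      _ = (algebraMap T S r ^ N₁ * algebraMap T S r ^ N₂) * algebraMap T S t := by rw [hz]
      _ = _ := by ring
  · intro x y hxy
    exact ⟨1, by rw [hφinj hxy]⟩

end Groth.Agent.S9137
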