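import Groth.Statements.S9139
import Groth.Agent.H46.NilNakayama
-- import your own Groth.Agent.* helpers here

set_option autoImplicit false
universe u
open CAlg

namespace Groth.Agent.S9139

/-- Let I be a locally nilpotent ideal of a ring R (every element of I is nilpotent) and S → S' a map of
R-algebras with S' of finite type over R. If S → S'/IS' is surjective then so is S → S'. -/
theorem result (R S S' : Type u) [CommRing R] [CommRing S]
    [CommRing S'] [Algebra R S] [Algebra R S'] [Algebra.FiniteType R S'] (I : Ideal R)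
    (hI : ∀ x ∈ I, IsNilpotent x) (f : S →ₐ[R] S')
    (hf : Function.Surjective ((Ideal.Quotient.mk (I.map (algebraMap R S'))).comp f.toRingHom)) :
    Function.Surjective f := by
  classical
  obtain ⟨t, ht⟩ := (Algebra.FiniteType.out : (⊤ : Subalgebra R S').FG)
  set J : Ideal S' := I.map (algebraMap R S') with hJ
  -- every element is congruent to an element of the image modulo `J`
  have h1 : ∀ x : S', ∃ s : S, x - f s ∈ J := by
    intro x
    obtain ⟨s, hs⟩ := hf (Ideal.Quotient.mk _ x)
    refine ⟨s, ?_⟩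
    rw [← Ideal.Quotient.eq]
    exact hs.symm
  -- choose finitely generated subideals handling the generators
  have h2 : ∀ x : S', ∃ (s : S) (I₀ : Ideal R), I₀.FG ∧ I₀ ≤ I ∧
      x - f s ∈ I₀.map (algebraMap R S') := by
    intro x
    obtain ⟨s, hs⟩ := h1 x
    obtain ⟨I₀, h, h', h''⟩ := Groth.Agent.H46.exists_fg_le_mem_map _ I _ hs
    exact ⟨s, I₀, h, h', h''⟩
  choose sx Ix hIx1 hIx2 hIx3 using h2
  set I₀ : Ideal R := t.sup Ix with hI₀
  have hI₀fg : I₀.FG := Submodule.fg_finset_sup t Ix (fun i _ => hIx1 i)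
  have hI₀le : I₀ ≤ I := Finset.sup_le (fun i _ => hIx2 i)
  have hnil : IsNilpotent I₀ := by
    rw [Ideal.FG.isNilpotent_iff_le_nilradical hI₀fg]
    intro a ha
    exact (mem_nilradical).mpr (hI a (hI₀le ha))
  obtain ⟨N, hN⟩ := hnil
  set J₀ : Ideal S' := I₀.map (algebraMap R S') with hJ₀
  have h3 : ∀ x ∈ t, x - f (sx x) ∈ J₀ := by
    intro x hx
    exact Ideal.map_mono (Finset.le_sup hx) (hIx3 x)
  -- every element is congruent to an element of the image modulo `J₀`
  have h4 : ∀ y : S', ∃ s : S, y - f s ∈ J₀ := by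
    intro y
    have hy : y ∈ Algebra.adjoin R (t : Set S') := by rw [ht]; exact Algebra.mem_top
    induction hy using Algebra.adjoin_induction with
    | mem x hx => exact ⟨sx x, h3 x hx⟩
    | algebraMap r => exact ⟨algebraMap R S r, by rw [AlgHom.commutes, sub_self]; exact J₀.zero_mem⟩
    | add x y _ _ hx hy =>
      obtain ⟨s, hs⟩ := hx
      obtain ⟨s', hs'⟩ := hy
      refine ⟨s + s', ?_⟩
      have : x + y - f (s + s') = (x - f s) + (y - f s') := by rw [map_add]; ring
      rw [this]
      exact J₀.add_mem hs hs'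
    | mul x y _ _ hx hy =>
      obtain ⟨s, hs⟩ := hx
      obtain ⟨s', hs'⟩ := hy
      refine ⟨s * s', ?_⟩
      have : x * y - f (s * s') = x * (y - f s') + f s' * (x - f s) := by rw [map_mul]; ring
      rw [this]
      exact J₀.add_mem (J₀.mul_mem_left _ hs') (J₀.mul_mem_left _ hs)
  -- Nakayama for the nilpotent ideal `I₀`
  have h5 : LinearMap.range f.toLinearMap ⊔ I₀ • (⊤ : Submodule R S') = ⊤ := by
    rw [eq_top_iff]
    intro y _
    obtain ⟨s, hs⟩ := h4 y
    have : y = f s + (y - f s) := by ring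
    rw [this]
    refine Submodule.add_mem_sup ⟨s, rfl⟩ ?_
    rw [Ideal.smul_top_eq_map]
    exact hs
  have h6 := Groth.Agent.H46.eq_top_of_sup_smul_top_eq_top_of_pow_eq_bot _ I₀ h5 N hN
  intro y
  have : y ∈ LinearMap.range f.toLinearMap := by rw [h6]; exact Submodule.mem_top
  obtain ⟨s, hs⟩ := this
  exact ⟨s, hs⟩

end Groth.Agent.S9139
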