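import Groth.Statements.S9140
import Groth.Agent.S9139
import Groth.Agent.H46.FlatKer
import Mathlib.RingTheory.Nakayama
-- import your own Groth.Agent.* helpers here

set_option autoImplicit false
universe u
open CAlg

namespace Groth.Agent.S9140

/-- Let I be a locally nilpotent ideal of a ring R and S → S' a map of R-algebras with S of finite type
over R and S' of finite presentation and flat over R. If the induced map S/IS → S'/IS' is bijective
(stated as: S → S'/IS' is surjective with kernel IS), then S → S' is bijective. -/
theorem result (R S S' : Type u)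
    [CommRing R] [CommRing S] [CommRing S'] [Algebra R S] [Algebra R S'] [Algebra.FiniteType R S]
    [Algebra.FinitePresentation R S'] [Module.Flat R S'] (I : Ideal R) (hI : ∀ x ∈ I, IsNilpotent x)
    (f : S →ₐ[R] S')
    (hsurj : Function.Surjective ((Ideal.Quotient.mk (I.map (algebraMap R S'))).comp f.toRingHom))
    (hker : ∀ s : S, f s ∈ I.map (algebraMap R S') → s ∈ I.map (algebraMap R S)) :
    Function.Bijective f := by
  have hsurjf : Function.Surjective f := Groth.Agent.S9139.result R S S' I hI f hsurj
  refine ⟨?_, hsurjf⟩
  -- the kernel is finitely generated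
  have hKfg : (RingHom.ker f.toRingHom).FG := by
    obtain ⟨n, g, hg⟩ := Algebra.FiniteType.iff_quotient_mvPolynomial''.mp
      (inferInstance : Algebra.FiniteType R S)
    have h1 := (Algebra.FinitePresentation.ker_fg_of_mvPolynomial (f.comp g)
      (hsurjf.comp hg)).map g.toRingHom
    have h2 : Ideal.map g.toRingHom (RingHom.ker (f.comp g).toRingHom) = RingHom.ker f.toRingHom := by
      simp_rw [RingHom.ker_eq_comap_bot, AlgHom.toRingHom_eq_coe, AlgHom.comp_toRingHom]
      rw [← Ideal.comap_comap,
        Ideal.map_comap_of_surjective (g : MvPolynomial (Fin n) R →+* S) hg]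
    rw [h2] at h1
    exact h1
  set K : Ideal S := RingHom.ker f.toRingHom with hK
  set J : Ideal S := I.map (algebraMap R S) with hJ
  -- K ≤ J • K
  have hle : K ≤ J • K := by
    intro k hk
    have hk0 : f k = 0 := hk
    have hk1 : k ∈ LinearMap.ker f.toLinearMap := hk0
    have hk2 : k ∈ I • (⊤ : Submodule R S) := by
      rw [Ideal.smul_top_eq_map]
      apply hker k
      rw [hk0]
      exact Ideal.zero_mem _
    have hk3 := Groth.Agent.H46.mem_smul_ker_of_flat f.toLinearMap hsurjf I k hk1 hk2
    have hsub : I • LinearMap.ker f.toLinearMap ≤ (J • K).restrictScalars R := by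
      rw [Submodule.smul_le]
      intro a ha x hx
      have hx0 : x ∈ K := hx
      change a • x ∈ J • K
      rw [← algebraMap_smul S a x]
      exact Submodule.smul_mem_smul (Ideal.mem_map_of_mem (algebraMap R S) ha) hx0
    exact hsub hk3
  have hJjac : J ≤ Ideal.jacobson ⊥ := by
    have h1 : J ≤ nilradical S := by
      rw [hJ, Ideal.map_le_iff_le_comap]
      intro a ha
      exact mem_nilradical.mpr ((hI a ha).map (algebraMap R S))
    exact h1.trans Ideal.radical_le_jacobson
  have hK0 : K = ⊥ := Submodule.eq_bot_of_le_smul_of_le_jacobson_bot J K hKfg hle hJjac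
  rw [injective_iff_map_eq_zero]
  intro a ha
  have : a ∈ K := ha
  rw [hK0] at this
  exact this

end Groth.Agent.S9140
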