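import Groth.Statements.S9157
-- import your own Groth.Agent.* helpers here

set_option autoImplicit false
universe u
open CAlg

namespace Groth.Agent.S9157

/-- If the localization S⁻¹M of an R-module M is finitely presented over S⁻¹R, then some finitely
presented R-module M' maps to M inducing an isomorphism S⁻¹M' → S⁻¹M. -/
theorem result (R : Type u) [CommRing R] (S : Submonoid R)
    (M : Type u) [AddCommGroup M] [Module R M]
    [Module.FinitePresentation (Localization S) (LocalizedModule S M)] :
    ∃ (M' : Type u) (_ : AddCommGroup M') (_ : Module R M') (φ : M' →ₗ[R] M),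
      Module.FinitePresentation R M' ∧ Function.Bijective (LocalizedModule.map S φ) := by
  classical
  have hrep : ∀ {P : Type u} [AddCommGroup P] [Module R P] (x : LocalizedModule S P),
      ∃ m : P, ∃ s : S, LocalizedModule.mk m s = x := by
    intro P _ _ x
    induction x with
    | _ m s => exact ⟨m, s, rfl⟩
  have hzero : ∀ {P : Type u} [AddCommGroup P] [Module R P] (m : P) (s : S),
      LocalizedModule.mk m s = 0 → ∃ u : S, (u : R) • m = 0 := by
    intro P _ _ m s h
    rw [← LocalizedModule.zero_mk (1 : S), LocalizedModule.mk_eq] at h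
    obtain ⟨u, hu⟩ := h
    refine ⟨u, ?_⟩
    rw [one_smul, smul_zero, smul_zero] at hu
    exact hu
  -- generators
  obtain ⟨σ, hσ⟩ :=
    (Module.Finite.fg_top : (⊤ : Submodule (Localization S) (LocalizedModule S M)).FG)
  choose mf sf hmf using fun x : LocalizedModule S M => hrep x
  let m : σ → M := fun x => mf x.1
  let ψ : (σ → R) →ₗ[R] M := Fintype.linearCombination R m
  have hψsurj : Function.Surjective (LocalizedModule.map S ψ) := by
    rw [← LinearMap.range_eq_top, eq_top_iff, ← hσ, Submodule.span_le]
    intro x hx
    refine ⟨LocalizedModule.mk (Pi.single (⟨x, hx⟩ : σ) (1 : R)) (sf x), ?_⟩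
    rw [LocalizedModule.map_mk, Fintype.linearCombination_apply_single, one_smul]
    exact hmf x
  obtain ⟨τ, hτ⟩ := Module.FinitePresentation.fg_ker (LocalizedModule.map S ψ) hψsurj
  choose vf tf hvf using fun k : LocalizedModule S (σ → R) => hrep k
  have hu : ∀ k : τ, ∃ u : S, (u : R) • ψ (vf k.1) = 0 := by
    intro k
    have hk : k.1 ∈ LinearMap.ker (LocalizedModule.map S ψ) := by
      rw [← hτ]; exact Submodule.subset_span k.2
    rw [LinearMap.mem_ker, ← hvf k.1, LocalizedModule.map_mk] at hk
    exact hzero _ _ hk
  choose uf huf using hu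
  let w : τ → (σ → R) := fun k => (uf k : R) • vf k.1
  let W : Submodule R (σ → R) := Submodule.span R (Set.range w)
  have hWker : W ≤ LinearMap.ker ψ := by
    rw [Submodule.span_le]
    rintro _ ⟨k, rfl⟩
    change ψ ((uf k : R) • vf k.1) = 0
    rw [map_smul]
    exact huf k
  have hfp : Module.FinitePresentation R ((σ → R) ⧸ W) := by
    apply Module.finitePresentation_of_surjective W.mkQ W.mkQ_surjective
    rw [Submodule.ker_mkQ]
    exact Submodule.fg_span (Set.finite_range w)
  refine ⟨(σ → R) ⧸ W, inferInstance, inferInstance, W.liftQ ψ hWker, hfp, ?_, ?_⟩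
  · -- injective
    rw [injective_iff_map_eq_zero]
    intro x hx
    obtain ⟨y, t, rfl⟩ := hrep x
    obtain ⟨v, rfl⟩ := Submodule.Quotient.mk_surjective W y
    rw [LocalizedModule.map_mk, Submodule.liftQ_apply] at hx
    have hmem : LocalizedModule.mk v t ∈ LinearMap.ker (LocalizedModule.map S ψ) := by
      rw [LinearMap.mem_ker, LocalizedModule.map_mk]; exact hx
    rw [← hτ] at hmem
    have key : ∀ z ∈ Submodule.span (Localization S) (τ : Set (LocalizedModule S (σ → R))),
        LocalizedModule.map S W.mkQ z = 0 := by
      intro z hz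
      induction hz using Submodule.span_induction with
      | mem z hz =>
        obtain ⟨k, rfl⟩ : ∃ k : τ, k.1 = z := ⟨⟨z, hz⟩, rfl⟩
        have h1 : LocalizedModule.mk (w k) (tf k.1) =
            (algebraMap R (Localization S) (uf k : R)) • k.1 := by
          rw [algebraMap_smul]
          have : (uf k : R) • LocalizedModule.mk (vf k.1) (tf k.1) =
              LocalizedModule.mk ((uf k : R) • vf k.1) (tf k.1) := LocalizedModule.smul'_mk _ _ _
          rw [hvf] at this
          rw [this]
        have hunit : IsUnit (algebraMap R (Localization S) (uf k : R)) :=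
          IsLocalization.map_units _ (uf k)
        have h2 : LocalizedModule.map S W.mkQ (LocalizedModule.mk (w k) (tf k.1)) = 0 := by
          rw [LocalizedModule.map_mk]
          have : W.mkQ (w k) = 0 := by
            rw [Submodule.mkQ_apply, Submodule.Quotient.mk_eq_zero]
            exact Submodule.subset_span ⟨_, rfl⟩
          rw [this, LocalizedModule.zero_mk]
        rw [h1, map_smul] at h2
        exact (hunit.smul_eq_zero).mp h2
      | zero => exact map_zero _
      | add a b _ _ ha hb => rw [map_add, ha, hb, add_zero]
      | smul c a _ ha => rw [map_smul, ha, smul_zero]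
    have := key _ hmem
    rw [LocalizedModule.map_mk] at this
    exact this
  · -- surjective
    intro y
    obtain ⟨x, rfl⟩ := hψsurj y
    obtain ⟨v, t, rfl⟩ := hrep x
    refine ⟨LocalizedModule.mk (Submodule.Quotient.mk v) t, ?_⟩
    rw [LocalizedModule.map_mk, LocalizedModule.map_mk, Submodule.liftQ_apply]

end Groth.Agent.S9157
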