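import Groth.Statements.S9160
import Mathlib.RingTheory.KrullDimension.NonZeroDivisors
import Mathlib.RingTheory.HopkinsLevitzki
import Mathlib.RingTheory.FiniteLength
import Mathlib.RingTheory.Ideal.Quotient.Noetherian

set_option autoImplicit false
universe u
open CAlg

namespace Groth.Agent.S9160

theorem finite_length_quot (R : Type u) [CommRing R] [IsNoetherianRing R]
    (hdim : ringKrullDim R = 1) (a : R) (ha : IsRegular a) :
    Module.length R (R ⧸ Ideal.span ({a} : Set R)) ≠ ⊤ := by
  have ha' : a ∈ nonZeroDivisors R := ha.mem_nonZeroDivisors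
  have h1 := ringKrullDim_quotient_succ_le_of_nonZeroDivisor ha'
  rw [hdim] at h1
  have h2 : ringKrullDim (R ⧸ Ideal.span ({a} : Set R)) ≤ 0 := by
    generalize ringKrullDim (R ⧸ Ideal.span ({a} : Set R)) = x at h1
    induction x using WithBot.recBotCoe with
    | bot => exact bot_le
    | coe n =>
      have h3 : ((n + 1 : ℕ∞) : WithBot ℕ∞) ≤ ((0 + 1 : ℕ∞) : WithBot ℕ∞) := by
        rw [zero_add]; exact_mod_cast h1
      rw [WithBot.coe_le_coe, ENat.add_le_add_iff_right ENat.one_ne_top] at h3
      exact_mod_cast h3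
  have hK : Ring.KrullDimLE 0 (R ⧸ Ideal.span ({a} : Set R)) := by
    rw [Ring.krullDimLE_iff]
    exact h2
  have hArt : IsArtinianRing (R ⧸ Ideal.span ({a} : Set R)) :=
    isArtinianRing_iff_krullDimLE_zero.mpr hK
  rw [Module.length_ne_top_iff, isFiniteLength_iff_isNoetherian_isArtinian]
  refine ⟨inferInstance, ?_⟩
  exact isArtinian_of_surjective_algebraMap (S := R) (R := R ⧸ Ideal.span ({a} : Set R))
    (M := R ⧸ Ideal.span ({a} : Set R)) Ideal.Quotient.mk_surjective


/-- In a semi-local Noetherian ring of dimension one, for nonzerodivisors a and b the length of R/(ab)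
is the sum of the lengths of R/(a) and R/(b), and these lengths are finite. -/
theorem result (R : Type u) [CommRing R] [IsNoetherianRing R]
    (hsemi : Finite (MaximalSpectrum R)) (hdim : ringKrullDim R = 1) (a b : R) (ha : IsRegular a)
    (hb : IsRegular b) :
    Module.length R (R ⧸ Ideal.span ({a * b} : Set R)) =
        Module.length R (R ⧸ Ideal.span ({a} : Set R)) + Module.length R (R ⧸ Ideal.span ({b} : Set R)) ∧
      Module.length R (R ⧸ Ideal.span ({a} : Set R)) ≠ ⊤ ∧
      Module.length R (R ⧸ Ideal.span ({b} : Set R)) ≠ ⊤ := by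
  refine ⟨?_, finite_length_quot R hdim a ha, finite_length_quot R hdim b hb⟩
  have h1 : Ideal.span ({a} : Set R) ≤
      Submodule.comap (LinearMap.mulLeft R b) (Ideal.span ({a * b} : Set R)) := by
    rw [Ideal.span_le, Set.singleton_subset_iff]
    change b * a ∈ Ideal.span ({a * b} : Set R)
    rw [mul_comm]
    exact Ideal.subset_span rfl
  have h2 : Ideal.span ({a * b} : Set R) ≤
      Submodule.comap (LinearMap.id : R →ₗ[R] R) (Ideal.span ({b} : Set R)) := by
    rw [Ideal.span_le, Set.singleton_subset_iff]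
    change a * b ∈ Ideal.span ({b} : Set R)
    exact Ideal.mul_mem_left _ a (Ideal.subset_span rfl)
  let f : (R ⧸ Ideal.span ({a} : Set R)) →ₗ[R] (R ⧸ Ideal.span ({a * b} : Set R)) :=
    Submodule.mapQ _ _ (LinearMap.mulLeft R b) h1
  let g : (R ⧸ Ideal.span ({a * b} : Set R)) →ₗ[R] (R ⧸ Ideal.span ({b} : Set R)) :=
    Submodule.mapQ _ _ LinearMap.id h2
  have hfmk : ∀ x : R, f (Submodule.Quotient.mk x) = Submodule.Quotient.mk (b * x) := fun x => rfl
  have hgmk : ∀ x : R, g (Submodule.Quotient.mk x) = Submodule.Quotient.mk x := fun x => rfl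
  apply Module.length_eq_add_of_exact f g
  · rw [injective_iff_map_eq_zero]
    intro y hy
    obtain ⟨x, rfl⟩ := Submodule.Quotient.mk_surjective _ y
    rw [hfmk, Submodule.Quotient.mk_eq_zero, Ideal.mem_span_singleton'] at hy
    obtain ⟨c, hc⟩ := hy
    rw [Submodule.Quotient.mk_eq_zero, Ideal.mem_span_singleton']
    refine ⟨c, ?_⟩
    apply hb.left
    change b * (c * a) = b * x
    rw [← hc]; ring
  · intro y
    obtain ⟨x, rfl⟩ := Submodule.Quotient.mk_surjective _ y
    exact ⟨Submodule.Quotient.mk x, rfl⟩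
  · intro y
    obtain ⟨x, rfl⟩ := Submodule.Quotient.mk_surjective _ y
    rw [hgmk, Submodule.Quotient.mk_eq_zero, Ideal.mem_span_singleton']
    constructor
    · rintro ⟨c, hc⟩
      refine ⟨Submodule.Quotient.mk c, ?_⟩
      rw [hfmk, ← hc, mul_comm b c]
    · rintro ⟨z, hz⟩
      obtain ⟨c, rfl⟩ := Submodule.Quotient.mk_surjective _ z
      rw [hfmk, Submodule.Quotient.eq, Ideal.mem_span_singleton'] at hz
      obtain ⟨d, hd⟩ := hz
      refine ⟨c - d * a, ?_⟩
      have : x = b * c - d * (a * b) := by rw [hd]; ring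
      rw [this]; ring

end Groth.Agent.S9160
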