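import Groth.Statements.S9161
import Mathlib.Tactic.Abel
-- import your own Groth.Agent.* helpers here

set_option autoImplicit false
universe u
open CAlg

namespace Groth.Agent.S9161

/-- If two two-term complexes of R-modules A₁ → A₀ and B₁ → B₀ are homotopy equivalent (maps of
complexes both ways whose composites are homotopic to the identity maps), then A₁ ⊕ B₀ and B₁ ⊕ A₀
are isomorphic R-modules. -/
theorem result (R : Type u) [CommRing R]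
    (A₁ A₀ B₁ B₀ : Type u) [AddCommGroup A₁] [Module R A₁] [AddCommGroup A₀] [Module R A₀]
    [AddCommGroup B₁] [Module R B₁] [AddCommGroup B₀] [Module R B₀]
    (dA : A₁ →ₗ[R] A₀) (dB : B₁ →ₗ[R] B₀) (φ₁ : A₁ →ₗ[R] B₁) (φ₀ : A₀ →ₗ[R] B₀)
    (ψ₁ : B₁ →ₗ[R] A₁) (ψ₀ : B₀ →ₗ[R] A₀) (hφ : dB ∘ₗ φ₁ = φ₀ ∘ₗ dA) (hψ : dA ∘ₗ ψ₁ = ψ₀ ∘ₗ dB)
    (h : A₀ →ₗ[R] A₁) (hh₁ : LinearMap.id - ψ₁ ∘ₗ φ₁ = h ∘ₗ dA) (hh₀ : LinearMap.id - ψ₀ ∘ₗ φ₀ = dA ∘ₗ h)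
    (h' : B₀ →ₗ[R] B₁) (hh'₁ : LinearMap.id - φ₁ ∘ₗ ψ₁ = h' ∘ₗ dB)
    (hh'₀ : LinearMap.id - φ₀ ∘ₗ ψ₀ = dB ∘ₗ h') :
    Nonempty ((A₁ × B₀) ≃ₗ[R] (B₁ × A₀)) := by
  have e1 : ∀ a, a - ψ₁ (φ₁ a) = h (dA a) := fun a => LinearMap.congr_fun hh₁ a
  have e0 : ∀ a, a - ψ₀ (φ₀ a) = dA (h a) := fun a => LinearMap.congr_fun hh₀ a
  have e1' : ∀ b, b - φ₁ (ψ₁ b) = h' (dB b) := fun b => LinearMap.congr_fun hh'₁ b
  have e0' : ∀ b, b - φ₀ (ψ₀ b) = dB (h' b) := fun b => LinearMap.congr_fun hh'₀ b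
  have eφ : ∀ a, dB (φ₁ a) = φ₀ (dA a) := fun a => LinearMap.congr_fun hφ a
  have eψ : ∀ b, dA (ψ₁ b) = ψ₀ (dB b) := fun b => LinearMap.congr_fun hψ b
  let F : (A₁ × B₀) →ₗ[R] (B₁ × A₀) := (φ₁.coprod (-h')).prod (dA.coprod ψ₀)
  let G : (B₁ × A₀) →ₗ[R] (A₁ × B₀) := (ψ₁.coprod h).prod ((-dB).coprod φ₀)
  have hF : ∀ a₁ b₀, F (a₁, b₀) = (φ₁ a₁ - h' b₀, dA a₁ + ψ₀ b₀) := by
    intro a₁ b₀
    ext <;> simp [F, sub_eq_add_neg]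
  have hG : ∀ b₁ a₀, G (b₁, a₀) = (ψ₁ b₁ + h a₀, - dB b₁ + φ₀ a₀) := by
    intro b₁ a₀
    ext <;> simp [G]
  have hGF : ∀ a₁ b₀, G (F (a₁, b₀)) = (a₁ + (h (ψ₀ b₀) - ψ₁ (h' b₀)), b₀) := by
    intro a₁ b₀
    rw [hF, hG]
    ext
    · simp only [map_add, map_sub]
      have := e1 a₁
      rw [← this]; abel
    · simp only [map_add, map_sub]
      have := e0' b₀
      rw [eφ, ← this]; abel
  have hFG : ∀ b₁ a₀, F (G (b₁, a₀)) = (b₁ + (φ₁ (h a₀) - h' (φ₀ a₀)), a₀) := by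
    intro b₁ a₀
    rw [hG, hF]
    ext
    · simp only [map_add, map_neg]
      have := e1' b₁
      rw [← this]; abel
    · simp only [map_add, map_neg]
      have := e0 a₀
      rw [eψ, ← this]; abel
  have hinj : Function.Injective F := by
    rw [injective_iff_map_eq_zero]
    rintro ⟨a₁, b₀⟩ hx
    have := hGF a₁ b₀
    rw [hx, map_zero] at this
    have hb : b₀ = 0 := (congrArg Prod.snd this).symm
    have ha := congrArg Prod.fst this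
    simp only [Prod.fst_zero, hb, map_zero, sub_zero, add_zero] at ha
    rw [Prod.mk_eq_zero]
    exact ⟨ha.symm, hb⟩
  have hsurj : Function.Surjective F := by
    rintro ⟨b₁, a₀⟩
    refine ⟨G (b₁ - (φ₁ (h a₀) - h' (φ₀ a₀)), a₀), ?_⟩
    rw [hFG]
    simp
  exact ⟨LinearEquiv.ofBijective F ⟨hinj, hsurj⟩⟩

end Groth.Agent.S9161
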