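import Groth.Statements.S9162
import Groth.Agent.S9161
import Mathlib.RingTheory.Extension.Cotangent.Basic
import Mathlib.RingTheory.Kaehler.Polynomial
-- import your own Groth.Agent.* helpers here

set_option autoImplicit false
universe u
open CAlg

namespace Groth.Agent.S9162

/-- Let S be an R-algebra and α : R[x_1, …, x_n] → S, β : R[y_1, …, y_m] → S surjective R-algebra maps
(presentations by polynomial rings in finitely many variables; the kernels I and J need not be
finitely generated). Then I/I² ⊕ S^m and J/J² ⊕ S^n are isomorphic S-modules. -/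
theorem result (R S : Type u) [CommRing R] [CommRing S]
    [Algebra R S] (n m : ℕ) (α : MvPolynomial (Fin n) R →ₐ[R] S) (hα : Function.Surjective α)
    (β : MvPolynomial (Fin m) R →ₐ[R] S) (hβ : Function.Surjective β) :
    Nonempty (((Algebra.Extension.ofSurjective α hα).Cotangent × (Fin m → S)) ≃ₗ[S]
      ((Algebra.Extension.ofSurjective β hβ).Cotangent × (Fin n → S))) := by
  classical
  let P := Algebra.Extension.ofSurjective α hα
  let Q := Algebra.Extension.ofSurjective β hβ
  have hPalg : ∀ x : P.Ring, algebraMap P.Ring S x = α x := fun _ => rfl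
  have hQalg : ∀ x : Q.Ring, algebraMap Q.Ring S x = β x := fun _ => rfl
  -- homs of extensions in both directions
  let σQ : S → MvPolynomial (Fin m) R := fun y => (hβ y).choose
  have hσQ : ∀ y, β (σQ y) = y := fun y => (hβ y).choose_spec
  let σP : S → MvPolynomial (Fin n) R := fun y => (hα y).choose
  have hσP : ∀ y, α (σP y) = y := fun y => (hα y).choose_spec
  let f0 : MvPolynomial (Fin n) R →ₐ[R] MvPolynomial (Fin m) R :=
    MvPolynomial.aeval (fun i => σQ (α (MvPolynomial.X i)))
  let g0 : MvPolynomial (Fin m) R →ₐ[R] MvPolynomial (Fin n) R :=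
    MvPolynomial.aeval (fun i => σP (β (MvPolynomial.X i)))
  have hf0 : β.comp f0 = α := by
    apply MvPolynomial.algHom_ext
    intro i
    simp only [AlgHom.comp_apply, f0, MvPolynomial.aeval_X, hσQ]
  have hg0 : α.comp g0 = β := by
    apply MvPolynomial.algHom_ext
    intro i
    simp only [AlgHom.comp_apply, g0, MvPolynomial.aeval_X, hσP]
  let f : P.Hom Q := Algebra.Extension.Hom.ofAlgHom f0 (by
    ext x
    exact DFunLike.congr_fun hf0 _)
  let g : Q.Hom P := Algebra.Extension.Hom.ofAlgHom g0 (by
    ext x
    exact DFunLike.congr_fun hg0 _)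
  -- the equivalence from the two term homotopy lemma
  obtain ⟨e⟩ := Groth.Agent.S9161.result S P.Cotangent P.CotangentSpace Q.Cotangent Q.CotangentSpace
    P.cotangentComplex Q.cotangentComplex
    (Algebra.Extension.Cotangent.map f) (Algebra.Extension.CotangentSpace.map f)
    (Algebra.Extension.Cotangent.map g) (Algebra.Extension.CotangentSpace.map g)
    (by
      ext x
      exact (Algebra.Extension.CotangentSpace.map_cotangentComplex f x).symm)
    (by
      ext x
      exact (Algebra.Extension.CotangentSpace.map_cotangentComplex g x).symm)
    ((Algebra.Extension.Hom.id P).sub (g.comp f))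
    (by
      have := Algebra.Extension.Cotangent.map_sub_map (Algebra.Extension.Hom.id P) (g.comp f)
      rw [Algebra.Extension.Cotangent.map_id, Algebra.Extension.Cotangent.map_comp] at this
      exact this)
    (by
      have := Algebra.Extension.CotangentSpace.map_sub_map (Algebra.Extension.Hom.id P) (g.comp f)
      rw [Algebra.Extension.CotangentSpace.map_id, Algebra.Extension.CotangentSpace.map_comp] at this
      exact this)
    ((Algebra.Extension.Hom.id Q).sub (f.comp g))
    (by
      have := Algebra.Extension.Cotangent.map_sub_map (Algebra.Extension.Hom.id Q) (f.comp g)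
      rw [Algebra.Extension.Cotangent.map_id, Algebra.Extension.Cotangent.map_comp] at this
      exact this)
    (by
      have := Algebra.Extension.CotangentSpace.map_sub_map (Algebra.Extension.Hom.id Q) (f.comp g)
      rw [Algebra.Extension.CotangentSpace.map_id, Algebra.Extension.CotangentSpace.map_comp] at this
      exact this)
  -- cotangent spaces are free
  let bP : Module.Basis (Fin n) S P.CotangentSpace :=
    letI : Algebra (MvPolynomial (Fin n) R) S := α.toAlgebra
    (KaehlerDifferential.mvPolynomialBasis R (Fin n)).baseChange S
  let bQ : Module.Basis (Fin m) S Q.CotangentSpace :=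
    letI : Algebra (MvPolynomial (Fin m) R) S := β.toAlgebra
    (KaehlerDifferential.mvPolynomialBasis R (Fin m)).baseChange S
  exact ⟨((LinearEquiv.refl S P.Cotangent).prodCongr bQ.equivFun.symm).trans
    (e.trans ((LinearEquiv.refl S Q.Cotangent).prodCongr bP.equivFun))⟩

end Groth.Agent.S9162
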