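import Groth.Statements.S9163
import Mathlib.Algebra.Polynomial.Lifts
import Mathlib.RingTheory.IntegralClosure.IsIntegral.Basic
-- import your own Groth.Agent.* helpers here

set_option autoImplicit false
universe u
open CAlg

namespace Groth.Agent.S9163

/-- If S is integral over R, then any finitely many elements of R and of S lie in a pair R₀ ⊆ R, S₀ ⊆ S
with R₀ a finite type ℤ-subalgebra, S₀ an R₀-subalgebra of S, and S₀ finite as an R₀-module; so R →
S is the directed colimit of finite maps between finite type ℤ-algebras. -/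
theorem result (R S : Type u) [CommRing R] [CommRing S] [Algebra R S]
    [Algebra.IsIntegral R S] (E : Finset R) (F : Finset S) :
    ∃ (R₀ : Subalgebra ℤ R) (S₀ : Subalgebra R₀ S), Algebra.FiniteType ℤ R₀ ∧ (E : Set R) ⊆ R₀ ∧
      (F : Set S) ⊆ S₀ ∧ Module.Finite R₀ S₀ := by
  classical
  -- monic annihilating polynomials
  have hint : ∀ x : S, ∃ p : Polynomial R, p.Monic ∧ Polynomial.eval₂ (algebraMap R S) x p = 0 :=
    fun x => Algebra.IsIntegral.isIntegral (R := R) x
  choose P hPmonic hPeval using hint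
  -- the finite set of elements of `R` we need
  let T : Finset R := E ∪ F.biUnion (fun x => (P x).coeffs)
  let R₀ : Subalgebra ℤ R := Algebra.adjoin ℤ (T : Set R)
  have hT : (T : Set R) ⊆ R₀ := Algebra.subset_adjoin
  have hR₀ft : Algebra.FiniteType ℤ R₀ := by
    rw [← Subalgebra.fg_iff_finiteType]
    exact Subalgebra.fg_adjoin_finset T
  have hE : (E : Set R) ⊆ R₀ := by
    intro a ha
    exact hT (by simp [T, Finset.mem_coe.mp ha])
  have hcoef : ∀ x ∈ F, ∀ n, (P x).coeff n ∈ R₀ := by
    intro x hx n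
    by_cases h0 : (P x).coeff n = 0
    · rw [h0]; exact R₀.zero_mem
    · apply hT
      have : (P x).coeff n ∈ (P x).coeffs := Polynomial.coeff_mem_coeffs h0
      simp only [T, Finset.coe_union, Finset.coe_biUnion, Set.mem_union, Set.mem_iUnion]
      exact Or.inr ⟨x, hx, this⟩
  have hintR₀ : ∀ x ∈ F, IsIntegral R₀ x := by
    intro x hx
    have hl : P x ∈ Polynomial.lifts (algebraMap R₀ R) := by
      rw [Polynomial.lifts_iff_coeff_lifts]
      intro n
      exact ⟨⟨_, hcoef x hx n⟩, rfl⟩
    obtain ⟨q, hq, -, hqm⟩ := Polynomial.lifts_and_natDegree_eq_and_monic hl (hPmonic x)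
    refine ⟨q, hqm, ?_⟩
    have : algebraMap R₀ S = (algebraMap R S).comp (algebraMap R₀ R) := rfl
    rw [this, ← Polynomial.eval₂_map, hq]
    exact hPeval x
  refine ⟨R₀, Algebra.adjoin R₀ (F : Set S), hR₀ft, hE, Algebra.subset_adjoin, ?_⟩
  exact Algebra.finite_adjoin_of_finite_of_isIntegral F.finite_toSet hintR₀

end Groth.Agent.S9163
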