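import Groth.Statements.S9164
import Groth.Agent.H73.LatticeDimOne

set_option autoImplicit false
universe u
open CAlg

namespace Groth.Agent.S9164

/-- Let R be a one-dimensional Noetherian local domain with fraction field K and V a finite-dimensional
K-vector space; a lattice is a finitely generated R-submodule of V spanning V over K. (1) For a
lattice M and an R-submodule M' ⊇ M: M' is a lattice iff M'/M has finite length over R iff M' is
finitely generated. (2) For a lattice M and M' ⊆ M: M' is a lattice iff M/M' has finite length. (3)
The intersection of two lattices is a lattice. (The published statement also asserts that the sum M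
+ M' of two lattices is a lattice and two identities between lengths of quotients of nested
lattices; this row states (1), (2) and the intersection half of (3).) -/
theorem result (R K V : Type u) [CommRing R] [IsDomain R]
    [IsNoetherianRing R] [IsLocalRing R] (hdim : ringKrullDim R = 1) [Field K] [Algebra R K]
    [IsFractionRing R K] [AddCommGroup V] [Module K V] [Module R V] [IsScalarTower R K V]
    [FiniteDimensional K V] (M : Submodule R V) [Submodule.IsLattice K M] :
    (∀ M' : Submodule R V, M ≤ M' →
        (Submodule.IsLattice K M' ↔ Module.length R (M' ⧸ Submodule.comap M'.subtype M) ≠ ⊤) ∧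
          (Submodule.IsLattice K M' ↔ M'.FG)) ∧
      (∀ M' : Submodule R V, M' ≤ M →
        (Submodule.IsLattice K M' ↔ Module.length R (M ⧸ Submodule.comap M.subtype M') ≠ ⊤)) ∧
      ∀ M' : Submodule R V, Submodule.IsLattice K M' → Submodule.IsLattice K (M ⊓ M') := by
  haveI : Ring.KrullDimLE 1 R := Ring.krullDimLE_iff.mpr (by rw [hdim]; rfl)
  have hRnf : ¬ IsField R := by
    intro h
    have h0 := ringKrullDim_eq_zero_of_isField h
    rw [hdim] at h0
    exact one_ne_zero h0
  have hMfg : M.FG := Submodule.IsLattice.fg
  have hMspan : Submodule.span K (M : Set V) = ⊤ := Submodule.IsLattice.span_eq_top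
  haveI : IsNoetherian R M := isNoetherian_of_fg_of_noetherian M hMfg
  have hsubfg : ∀ N : Submodule R V, N ≤ M → N.FG := by
    intro N hN
    have h1 : (Submodule.comap M.subtype N).FG := IsNoetherian.noetherian _
    have h2 := h1.map M.subtype
    rwa [Submodule.map_comap_subtype, inf_eq_right.mpr hN] at h2
  refine ⟨fun M' hle => ?_, fun M' hle => ?_, fun M' hM' => ?_⟩
  · have h1 : Submodule.IsLattice K M' ↔ M'.FG :=
      ⟨fun h => h.fg, fun h => Submodule.IsLattice.of_le_of_isLattice_of_fg K hle h⟩
    refine ⟨?_, h1⟩
    rw [h1]
    constructor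
    · intro hfg
      obtain ⟨d, hd, hdm⟩ :=
        Groth.Agent.H73.LatticeDimOne.exists_smul_le_of_span_eq_top (K := K) M M' hMspan hfg
      exact Module.length_ne_top_iff.mpr
        (Groth.Agent.H73.LatticeDimOne.isFiniteLength_quotient_of_smul_le (M := M) hfg hd hdm)
    · intro hlen
      have hfl : IsFiniteLength R (M' ⧸ Submodule.comap M'.subtype M) :=
        Module.length_ne_top_iff.mp hlen
      haveI : IsNoetherian R (M' ⧸ Submodule.comap M'.subtype M) :=
        (isFiniteLength_iff_isNoetherian_isArtinian.mp hfl).1
      haveI : Module.Finite R (M' ⧸ Submodule.comap M'.subtype M) := inferInstance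
      haveI : Module.Finite R M := Module.Finite.iff_fg.mpr hMfg
      haveI : Module.Finite R (Submodule.comap M'.subtype M) :=
        Module.Finite.equiv (Submodule.comapSubtypeEquivOfLe hle).symm
      haveI : Module.Finite R M' := Module.Finite.of_submodule_quotient (Submodule.comap M'.subtype M)
      exact Module.Finite.iff_fg.mp inferInstance
  · constructor
    · intro hM'
      obtain ⟨d, hd, hdm⟩ :=
        Groth.Agent.H73.LatticeDimOne.exists_smul_le_of_span_eq_top (K := K) M' M
          hM'.span_eq_top hMfg
      exact Module.length_ne_top_iff.mpr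
        (Groth.Agent.H73.LatticeDimOne.isFiniteLength_quotient_of_smul_le (M := M') hMfg hd hdm)
    · intro hlen
      have hfl : IsFiniteLength R (M ⧸ Submodule.comap M.subtype M') :=
        Module.length_ne_top_iff.mp hlen
      obtain ⟨d, hd, hdq⟩ :=
        Groth.Agent.H73.LatticeDimOne.exists_smul_eq_zero_of_isFiniteLength hRnf hfl
      refine ⟨hsubfg M' hle, ?_⟩
      refine Groth.Agent.H73.LatticeDimOne.span_eq_top_of_smul_le (K := K) M' M hMspan hd ?_
      intro n hn
      have := hdq (Submodule.Quotient.mk ⟨n, hn⟩)
      rw [← Submodule.Quotient.mk_smul, Submodule.Quotient.mk_eq_zero] at this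
      exact this
  · refine ⟨hsubfg _ inf_le_left, ?_⟩
    obtain ⟨d, hd, hdm⟩ :=
      Groth.Agent.H73.LatticeDimOne.exists_smul_le_of_span_eq_top (K := K) M M' hMspan hM'.fg
    refine Groth.Agent.H73.LatticeDimOne.span_eq_top_of_smul_le (K := K) (M ⊓ M') M'
      hM'.span_eq_top hd ?_
    intro n hn
    exact ⟨hdm n hn, M'.smul_mem _ hn⟩

end Groth.Agent.S9164
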