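import Groth.Statements.S9166
import Groth.Agent.H87.AwayIso

set_option autoImplicit false
universe u
open CAlg

namespace Groth.Agent.S9166

/-- Let I be an ideal of a ring R, S → S' a surjective homomorphism of R-algebras with S of finite type
and S' of finite presentation over R, and q a prime of S containing IS. Assume S'_q is flat over R
and that S_q/IS_q → S'_q/IS'_q is an isomorphism, which for a surjection says: every element of the
kernel of S → S' maps into I·S_q. Then for some g ∉ q the localized map S_g → S'_g is bijective. -/
theorem result (R S S' : Type u) [CommRing R] [CommRing S]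
    [CommRing S'] [Algebra R S] [Algebra R S'] [Algebra.FiniteType R S] [Algebra.FinitePresentation R S']
    (I : Ideal R) (f : S →ₐ[R] S') (hf : Function.Surjective f) (q : Ideal S) [q.IsPrime]
    (hq : I.map (algebraMap R S) ≤ q)
    (hker : ∀ j : S, f j = 0 →
      algebraMap S (Localization.AtPrime q) j ∈ I.map (algebraMap R (Localization.AtPrime q)))
    (hflat : letI : Module S S' := f.toRingHom.toModule
      Module.Flat R (LocalizedModule q.primeCompl S')) :
    ∃ g : S, g ∉ q ∧ Function.Bijective (Localization.awayMap f.toRingHom g) := by
  classical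
  let inst : Module S S' := f.toRingHom.toModule
  have : IsScalarTower R S S' := ⟨fun r s x => by
    change f (r • s) * x = r • (f s * x)
    rw [map_smul, smul_mul_assoc]⟩
  let π₀ : S →ₗ[S] S' :=
    { toFun := f
      map_add' := map_add f
      map_smul' := fun c x => by
        change f (c * x) = f c * f x
        exact map_mul f c x }
  have hK : (LinearMap.ker π₀).FG := by
    obtain ⟨n, g, hg⟩ := (Algebra.FiniteType.iff_quotient_mvPolynomial'' (R := R) (S := S)).1
      inferInstance
    have h1 := (Algebra.FinitePresentation.ker_fg_of_mvPolynomial (f.comp g) (hf.comp hg)).map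
      g.toRingHom
    have h2 : Ideal.map g.toRingHom (RingHom.ker (f.comp g).toRingHom) = RingHom.ker f.toRingHom := by
      simp_rw [RingHom.ker_eq_comap_bot, AlgHom.toRingHom_eq_coe, AlgHom.comp_toRingHom]
      rw [← Ideal.comap_comap, Ideal.map_comap_of_surjective (g : MvPolynomial (Fin n) R →+* S) hg]
    rw [h2] at h1
    exact h1
  have := hflat
  obtain ⟨g, hg, hg'⟩ := Groth.Agent.H87.AwayIso.key R S S' I π₀ hf q hq hK hker
  refine ⟨g, hg, ?_, ?_⟩
  · rw [Localization.awayMap_injective_iff]
    intro a ha
    exact ⟨1, by rw [pow_one]; exact hg' a ha⟩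
  · rw [Localization.awayMap_surjective_iff]
    intro a
    obtain ⟨b, rfl⟩ := hf a
    exact ⟨b, 0, by simp⟩

end Groth.Agent.S9166
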