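import Groth.Statements.S9168
import Groth.Agent.H46.LocalSubring

set_option autoImplicit false
universe u
open CAlg

namespace Groth.Agent.S9168

/-- For a local homomorphism of local rings R → S and finite subsets E ⊆ R, F ⊆ S there are local
subrings R₀ ⊆ R and S₀ ⊆ S containing E and F, with R → S mapping R₀ into S₀, such that the
inclusions and the induced map R₀ → S₀ are local homomorphisms, R₀ is essentially of finite type
over ℤ and S₀ is essentially of finite type over R₀. (So R → S is the directed colimit of such R₀ →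
S₀.) -/
theorem result (R S : Type u) [CommRing R] [CommRing S] [IsLocalRing R]
    [IsLocalRing S] [Algebra R S] [IsLocalHom (algebraMap R S)] (E : Finset R) (F : Finset S) :
    ∃ (R₀ : Subring R) (S₀ : Subring S) (h : ∀ x ∈ R₀, algebraMap R S x ∈ S₀),
      (E : Set R) ⊆ R₀ ∧ (F : Set S) ⊆ S₀ ∧ ∃ (_ : IsLocalRing R₀) (_ : IsLocalRing S₀),
        IsLocalHom R₀.subtype ∧ IsLocalHom S₀.subtype ∧
          IsLocalHom ((algebraMap R S).restrict R₀ S₀ h) ∧
          (algebraMap ℤ R₀).EssFiniteType ∧ ((algebraMap R S).restrict R₀ S₀ h).EssFiniteType := by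
  classical
  obtain ⟨BR, hBR1, hBR2, hBR3⟩ :=
    Groth.Agent.H46.essFiniteType_codRestrict_fracSubring (algebraMap ℤ R) E
  let R₀ := Groth.Agent.H46.fracSubring BR
  obtain ⟨BS, hBS1, hBS2, hBS3⟩ :=
    Groth.Agent.H46.essFiniteType_codRestrict_fracSubring ((algebraMap R S).comp R₀.subtype) F
  let S₀ := Groth.Agent.H46.fracSubring BS
  have h : ∀ x ∈ R₀, algebraMap R S x ∈ S₀ := fun x hx =>
    Groth.Agent.H46.le_fracSubring BS (hBS1 ⟨x, hx⟩)
  have hloc1 : IsLocalRing R₀ := Groth.Agent.H46.isLocalRing_fracSubring BR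
  have hloc2 : IsLocalRing S₀ := Groth.Agent.H46.isLocalRing_fracSubring BS
  refine ⟨R₀, S₀, h, fun x hx => Groth.Agent.H46.le_fracSubring BR (hBR2 hx),
    fun x hx => Groth.Agent.H46.le_fracSubring BS (hBS2 hx), hloc1, hloc2,
    Groth.Agent.H46.isLocalHom_fracSubring_subtype BR,
    Groth.Agent.H46.isLocalHom_fracSubring_subtype BS, ?_, ?_, ?_⟩
  · constructor
    intro x hx
    have h1 : IsUnit (algebraMap R S (x : R)) := by
      have := hx.map S₀.subtype
      exact this
    have h2 : IsUnit (x : R) := isUnit_of_map_unit (algebraMap R S) _ h1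
    exact (Groth.Agent.H46.isUnit_fracSubring_iff BR x).mpr h2
  · have e : algebraMap ℤ R₀ = (algebraMap ℤ R).codRestrict R₀
        (fun a => Groth.Agent.H46.le_fracSubring BR (hBR1 a)) := Subsingleton.elim _ _
    rw [e]
    exact hBR3 _
  · have e : (algebraMap R S).restrict R₀ S₀ h =
        ((algebraMap R S).comp R₀.subtype).codRestrict S₀
          (fun a => Groth.Agent.H46.le_fracSubring BS (hBS1 a)) := by
      ext a
      rfl
    rw [e]
    exact hBS3 _

end Groth.Agent.S9168
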