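import Groth.Statements.S9180
import Groth.Agent.H29.FibDimBC
import Groth.Agent.S2141
import Groth.Agent.S2142
import Groth.Agent.H17.Chev.TopLocalDim

set_option autoImplicit false
universe u
open CAlg

namespace Groth.Agent.S9180

set_option linter.style.haveILetI false

open TensorProduct Groth.Agent.H29.FibDimBC in
theorem aux (k S K : Type u) [Field k] [CommRing S] [Algebra k S]
    [Algebra.FiniteType k S] [Field K] [Algebra k K] (q : Ideal S) [q.IsPrime] (r : ℕ)
    (hr : Algebra.trdeg k q.ResidueField = r) (qK : Ideal (S ⊗[k] K)) [qK.IsPrime] [qK.LiesOver q]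
    (rK : ℕ)
    (hrK : letI : Algebra K (S ⊗[k] K) := Algebra.TensorProduct.rightAlgebra
      Algebra.trdeg K qK.ResidueField = rK) :
    ringKrullDim (EGA4.FibLocRing S (S ⊗[k] K) qK) + ringKrullDim (Localization.AtPrime q) =
        ringKrullDim (Localization.AtPrime qK) ∧
      ringKrullDim (EGA4.FibLocRing S (S ⊗[k] K) qK) + (rK : WithBot ℕ∞) = (r : WithBot ℕ∞) ∧
      ∃ (q' : Ideal (S ⊗[k] K)) (_ : q'.IsPrime), q'.LiesOver q ∧
        ringKrullDim (EGA4.FibLocRing S (S ⊗[k] K) q') = 0 := by
  letI : Algebra K (S ⊗[k] K) := Algebra.TensorProduct.rightAlgebra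
  haveI : Algebra.FiniteType K (S ⊗[k] K) :=
    Algebra.FiniteType.equiv (inferInstance : Algebra.FiniteType K (K ⊗[k] S))
      (Algebra.TensorProduct.commRight k K S)
  haveI : IsNoetherianRing S := Algebra.FiniteType.isNoetherianRing k S
  haveI : IsNoetherianRing (S ⊗[k] K) := Algebra.FiniteType.isNoetherianRing K (S ⊗[k] K)
  haveI : Module.Flat S (S ⊗[k] K) := inferInstance
  have hover : q = qK.comap (algebraMap S (S ⊗[k] K)) := Ideal.LiesOver.over
  have h1 := ringKrullDim_atPrime_eq_add_fibLocRing S (S ⊗[k] K) qK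
  have hS := Groth.Agent.S2141.result (k := k) q r hr
  have hT := Groth.Agent.S2141.result (k := K) qK rK hrK
  -- transport along the commutativity isomorphism
  let e : (S ⊗[k] K) ≃+* (K ⊗[k] S) := (Algebra.TensorProduct.comm k S K).toRingEquiv
  let ψ := PrimeSpectrum.homeomorphOfRingEquiv e
  have hψ := Groth.Agent.H17.Chev.localDim_eq_of_isOpenEmbedding ψ.isOpenEmbedding
    (⟨qK, inferInstance⟩ : PrimeSpectrum (S ⊗[k] K))
  haveI : (ψ ⟨qK, inferInstance⟩).asIdeal.IsPrime := (ψ ⟨qK, inferInstance⟩).2
  have hq' : (ψ ⟨qK, inferInstance⟩).asIdeal.comap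
      (Algebra.TensorProduct.includeRight.toRingHom : S →+* K ⊗[k] S) = q := by
    rw [hover]
    change (qK.comap (e.symm : (K ⊗[k] S) →+* (S ⊗[k] K))).comap _ = _
    rw [Ideal.comap_comap]
    congr 1
  have h2142 := Groth.Agent.S2142.result (k := k) (S := S) (K := K) q
    (ψ ⟨qK, inferInstance⟩).asIdeal hq'
  subst hover
  obtain ⟨a, ha⟩ := Groth.Agent.H72.FlatCM.exists_ringKrullDim_eq_natCast
    (Localization.AtPrime (qK.comap (algebraMap S (S ⊗[k] K))))
  obtain ⟨b, hb⟩ := Groth.Agent.H72.FlatCM.exists_ringKrullDim_eq_natCast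
    (Localization.AtPrime qK)
  have hloc : ringKrullDim (Localization.AtPrime qK) + (rK : WithBot ℕ∞) =
      ringKrullDim (Localization.AtPrime (qK.comap (algebraMap S (S ⊗[k] K)))) +
        (r : WithBot ℕ∞) := by
    rw [← hS, ← hT, hψ]
    exact h2142
  refine ⟨?_, ?_, ?_⟩
  · rw [h1, add_comm]
  · rw [ha, hb] at h1 hloc
    generalize ringKrullDim (EGA4.FibLocRing S (S ⊗[k] K) qK) = F at h1 ⊢
    induction F with
    | bot => simp at h1
    | coe F =>
      induction F with
      | top =>
        exfalso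
        have : (b : WithBot ℕ∞) ≠ (a : WithBot ℕ∞) + ((⊤ : ℕ∞) : WithBot ℕ∞) := by
          rw [← WithBot.coe_natCast, ← WithBot.coe_natCast, ← WithBot.coe_add, Ne,
            WithBot.coe_inj]
          simp
        exact this h1
      | coe n =>
        have h3 : b = a + n := by exact_mod_cast h1
        have h4 : b + rK = a + r := by exact_mod_cast hloc
        have h5 : n + rK = r := by omega
        exact_mod_cast h5
  · obtain ⟨q', hq'min, hq'le⟩ := Ideal.exists_minimalPrimes_le
      (I := (qK.comap (algebraMap S (S ⊗[k] K))).map (algebraMap S (S ⊗[k] K))) (J := qK)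
      Ideal.map_comap_le
    haveI : q'.IsPrime := hq'min.1.1
    have hq'over : q'.comap (algebraMap S (S ⊗[k] K)) = qK.comap (algebraMap S (S ⊗[k] K)) :=
      le_antisymm (Ideal.comap_mono hq'le) (Ideal.map_le_iff_le_comap.mp hq'min.1.2)
    refine ⟨q', inferInstance, ⟨hq'over.symm⟩, ?_⟩
    have h0 := ringKrullDim_quotient_map_eq_zero_of_mem_minimalPrimes _ q' hq'min
    have hI : (q'.comap (algebraMap S (S ⊗[k] K))).map
        (algebraMap S (Localization.AtPrime q')) =
        ((qK.comap (algebraMap S (S ⊗[k] K))).map (algebraMap S (S ⊗[k] K))).map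
          (algebraMap (S ⊗[k] K) (Localization.AtPrime q')) := by
      rw [hq'over, Ideal.map_map, ← IsScalarTower.algebraMap_eq]
    exact (ringKrullDim_eq_of_ringEquiv (Ideal.quotEquivOfEq hI)).trans h0

open TensorProduct in
/-- Let S be of finite type over a field k, K an extension field of k, S_K = S ⊗_k K, q a prime of S
whose residue field has transcendence degree r over k, and q_K a prime of S_K lying over q whose
residue field has transcendence degree r_K over K. Then the local ring at q_K of the fibre of S →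
S_K over q has dimension dim (S_K)_{q_K} − dim S_q = r − r_K (stated additively), and there is a
prime of S_K over q for which this dimension is zero. -/
theorem result (k S K : Type u) [Field k] [CommRing S] [Algebra k S]
    [Algebra.FiniteType k S] [Field K] [Algebra k K] (q : Ideal S) [q.IsPrime] (r : ℕ)
    (hr : Algebra.trdeg k q.ResidueField = r) (qK : Ideal (S ⊗[k] K)) [qK.IsPrime] [qK.LiesOver q]
    (rK : ℕ)
    (hrK : letI : Algebra K (S ⊗[k] K) := Algebra.TensorProduct.rightAlgebra
      Algebra.trdeg K qK.ResidueField = rK) :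
    ringKrullDim (EGA4.FibLocRing S (S ⊗[k] K) qK) + ringKrullDim (Localization.AtPrime q) =
        ringKrullDim (Localization.AtPrime qK) ∧
      ringKrullDim (EGA4.FibLocRing S (S ⊗[k] K) qK) + (rK : WithBot ℕ∞) = (r : WithBot ℕ∞) ∧
      ∃ (q' : Ideal (S ⊗[k] K)) (_ : q'.IsPrime), q'.LiesOver q ∧
        ringKrullDim (EGA4.FibLocRing S (S ⊗[k] K) q') = 0 := by
  exact aux k S K q r hr qK rK hrK

end Groth.Agent.S9180
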