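import Groth.Statements.S9185
import Groth.Agent.H46.UnivDiffOp
import Mathlib.LinearAlgebra.Quotient.Basic
import Mathlib.LinearAlgebra.Quotient.Defs
-- import your own Groth.Agent.* helpers here

set_option autoImplicit false
universe u
open Diff16

namespace Groth.Agent.S9185

open TensorProduct Groth.Agent.H46 in
/-- For a ring map R → S, an S-module M and k ≥ 0 there is an S-module P together with a differential
operator D : M → P of order at most k (relative to R → S) such that every differential operator of
order at most k from M to an S-module N is α ∘ D for a unique S-linear map α : P → N; that is,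
differential operators of order ≤ k out of M are represented by P. (Target modules N are taken in
the same universe.) -/
theorem result (R S : Type u) [CommRing R] [CommRing S] [Algebra R S] (M : Type u)
    [AddCommGroup M] [Module S M] [Module R M] [IsScalarTower R S M] (k : ℕ) :
    ∃ (P : Type u) (_ : AddCommGroup P) (_ : Module S P) (_ : Module R P) (_ : IsScalarTower R S P)
      (D : M →ₗ[R] P), Diff16.IsDiffOpLE R S M P k D ∧
        ∀ (N : Type u) [AddCommGroup N] [Module S N] [Module R N] [IsScalarTower R S N] (D' : M →ₗ[R] N),
          Diff16.IsDiffOpLE R S M N k D' → ∃! α : P →ₗ[S] N, α.restrictScalars R ∘ₗ D = D' := by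
  let Q := relSub R S M k
  let D : M →ₗ[R] ((S ⊗[R] M) ⧸ Q) :=
    (Q.mkQ.restrictScalars R) ∘ₗ (TensorProduct.mk R S M 1)
  have hD : LinearMap.liftBaseChange S D = Q.mkQ := by
    apply TensorProduct.AlgebraTensorModule.ext
    intro s m
    simp only [LinearMap.liftBaseChange_tmul, D, LinearMap.comp_apply,
      LinearMap.restrictScalars_apply, TensorProduct.mk_apply, Submodule.mkQ_apply]
    rw [← Submodule.Quotient.mk_smul, TensorProduct.smul_tmul', smul_eq_mul, mul_one]
  refine ⟨(S ⊗[R] M) ⧸ Q, inferInstance, inferInstance, inferInstance, inferInstance, D, ?_, ?_⟩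
  · rw [isDiffOpLE_iff_relSub_le, hD, Submodule.ker_mkQ]
  · intro N _ _ _ _ D' hD'
    rw [isDiffOpLE_iff_relSub_le] at hD'
    refine ⟨Q.liftQ (LinearMap.liftBaseChange S D') hD', ?_, ?_⟩
    · ext m
      simp [D]
    · intro α hα
      apply Submodule.linearMap_qext
      apply TensorProduct.AlgebraTensorModule.ext
      intro s m
      have h1 : α (Q.mkQ ((1 : S) ⊗ₜ[R] m)) = D' m := by
        rw [← hα]
        simp [D]
      simp only [LinearMap.comp_apply, Submodule.liftQ_mkQ]
      have h2 : s ⊗ₜ[R] m = s • ((1 : S) ⊗ₜ[R] m) := by
        rw [TensorProduct.smul_tmul', smul_eq_mul, mul_one]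
      rw [h2, map_smul, map_smul, map_smul, h1]
      simp

end Groth.Agent.S9185
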