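import Groth.Statements.S9197
import Groth.Agent.H24.LimitFinLocFree

set_option autoImplicit false
universe u
open CategoryTheory AlgebraicGeometry
open Lim

namespace Groth.Agent.S9197

/-- Let S = lim S_i be a cofiltered limit of schemes with affine transition morphisms, S_{i₀} a
quasi-compact quasi-separated stage, f₀ : X₀ → Y₀ a morphism of quasi-compact quasi-separated
schemes over S_{i₀}, and f : X → Y its base change along S → S_{i₀} (base changes expressed by
pullback squares). Let d be a natural number. If f₀ is locally of finite presentation and f is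
finite locally free of degree d (finite, flat, locally of finite presentation, with rank function
constant equal to d), then for some index i over i₀ the base change f_i : X_i → Y_i of f₀ along S_i
→ S_{i₀} is finite locally free of degree d. -/
theorem result {I : Type u} [SmallCategory I] [IsCofiltered I]
    (D : I ⥤ Scheme.{u}) (c : Limits.Cone D) (hc : Limits.IsLimit c)
    [∀ (i j : I) (f : i ⟶ j), IsAffineHom (D.map f)] (i₀ : I) [CompactSpace (D.obj i₀)]
    [QuasiSeparatedSpace (D.obj i₀)] {X₀ Y₀ : Scheme.{u}} (f₀ : X₀ ⟶ Y₀) (g₀ : Y₀ ⟶ D.obj i₀)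
    [CompactSpace X₀] [QuasiSeparatedSpace X₀] [CompactSpace Y₀] [QuasiSeparatedSpace Y₀]
    [LocallyOfFinitePresentation f₀] (d : ℕ)
    {X Y : Scheme.{u}} (f : X ⟶ Y) (g : Y ⟶ c.pt) (qY : Y ⟶ Y₀) (qX : X ⟶ X₀)
    (hY : IsPullback qY g g₀ (c.π.app i₀)) (hX : IsPullback qX f f₀ qY) (hf : Mor2.IsFinLocFreeOfDeg d f) :
    ∃ (i : I) (φ : i ⟶ i₀) (Xi Yi : Scheme.{u}) (fi : Xi ⟶ Yi) (gi : Yi ⟶ D.obj i) (pY : Yi ⟶ Y₀)
      (pX : Xi ⟶ X₀), IsPullback pY gi g₀ (D.map φ) ∧ IsPullback pX fi f₀ pY ∧ Mor2.IsFinLocFreeOfDeg d fi := by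
  open Limits in
  have haff : ∀ {i j : I} (f : i ⟶ j), IsAffineHom (D.map f) := fun f => inferInstance
  obtain ⟨⟨hfin, hflat, -⟩, hrank⟩ := hf
  obtain ⟨e₁, e₂, hlim, -, -⟩ := Groth.Agent.H24.exists_iso_limMap D c i₀ f₀ g₀ f g qY qX hY hX
  have h1 : IsFinite (Groth.Agent.H24.limMap D c i₀ f₀ g₀) := by rw [hlim]; infer_instance
  have h2 : Flat (Groth.Agent.H24.limMap D c i₀ f₀ g₀) := by rw [hlim]; infer_instance
  have h3 : ∀ y, (Groth.Agent.H24.limMap D c i₀ f₀ g₀).finrank y = d := by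
    intro y
    have hF : IsFinite (f ≫ e₂.hom) := inferInstance
    have hFl : Flat (f ≫ e₂.hom) := inferInstance
    rw [hlim, Scheme.Hom.finrank_comp_left_of_isIso]
    have sq : IsPullback (𝟙 X) (f ≫ e₂.hom) f e₂.inv :=
      IsPullback.of_horiz_isIso ⟨by simp⟩
    rw [Scheme.Hom.finrank_of_isPullback _ _ _ _ sq y]
    exact hrank _
  obtain ⟨ψ, hψ1, hψ2, hψ3⟩ :=
    Groth.Agent.H24.exists_finite_flat_finrank_stageMap D c i₀ f₀ g₀ hc d h1 h2 h3
  exact ⟨ψ.left, ψ.hom, pullback (D.map ψ.hom) (f₀ ≫ g₀), pullback (D.map ψ.hom) g₀,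
    Groth.Agent.H24.stageMap D i₀ f₀ g₀ ψ, pullback.fst (D.map ψ.hom) g₀,
    pullback.snd (D.map ψ.hom) g₀, pullback.snd (D.map ψ.hom) (f₀ ≫ g₀),
    (IsPullback.of_hasPullback (D.map ψ.hom) g₀).flip,
    Groth.Agent.H24.isPullback_stageMap D i₀ f₀ g₀ ψ,
    ⟨⟨hψ1, hψ2, MorphismProperty.of_isPullback (P := @LocallyOfFinitePresentation)
      (Groth.Agent.H24.isPullback_stageMap D i₀ f₀ g₀ ψ) inferInstance⟩, hψ3⟩⟩

end Groth.Agent.S9197
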