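import Groth.Statements.S9212
import Groth.Agent.H22.CompLift
import Groth.Agent.S9211

set_option autoImplicit false
universe u
open CategoryTheory CategoryTheory.Limits AlgebraicGeometry
open Lim

namespace Groth.Agent.S9212

/-- Let S be a locally Noetherian scheme and f : X → S a morphism of finite type. Then f is proper if
and only if: for every generic point η of an irreducible component of X, every discrete valuation
ring A contained in the residue field κ(η) with fraction field κ(η) (a valuation subring of κ(η)
which is a discrete valuation ring), and every morphism Spec A → S whose restriction to Spec κ(η) is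
the canonical morphism Spec κ(η) → X followed by f, there is exactly one morphism Spec A → X over S
restricting to the canonical morphism on Spec κ(η). -/
theorem result {X S : Scheme.{u}} [IsLocallyNoetherian S] (f : X ⟶ S)
    [LocallyOfFiniteType f] [QuasiCompact f] :
    IsProper f ↔ ∀ (η : X), closure {η} ∈ irreducibleComponents (X : Type u) →
      ∀ (A : ValuationSubring (X.residueField η)), IsDiscreteValuationRing A →
        ∀ y : Spec (CommRingCat.of A) ⟶ S,
          Spec.map (CommRingCat.ofHom A.subtype) ≫ y = X.fromSpecResidueField η ≫ f →
          ∃! l : Spec (CommRingCat.of A) ⟶ X,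
            l ≫ f = y ∧ Spec.map (CommRingCat.ofHom A.subtype) ≫ l = X.fromSpecResidueField η := by
  classical
  constructor
  · intro hprop η _ A hA y w
    obtain ⟨l, hl1, hl2⟩ := Groth.Agent.H22.CenterDense.existsLiftAt_of_universallyClosed f
      (X.fromSpecResidueField η) A y w.symm
    refine ⟨l, ⟨hl2, hl1⟩, ?_⟩
    rintro l' ⟨hl'1, hl'2⟩
    exact Groth.Agent.H22.CenterCor.uniqueLiftAt_of_isSeparated f (X.fromSpecResidueField η) A
      l' l hl'2 hl1 (hl'1.trans hl2.symm)
  · intro H
    have hsep : IsSeparated f := by
      rw [Groth.Agent.S9211.result f]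
      intro η hη A hA l₁ l₂ h12 h1 h2
      exact (H η hη A hA (l₁ ≫ f) (by rw [← Category.assoc, h1])).unique ⟨rfl, h1⟩ ⟨h12.symm, h2⟩
    have hLift : ∀ (η : X), closure {η} ∈ irreducibleComponents (X : Type u) → ∀ y₀ : S,
        Groth.Agent.H22.CompLift.LiftHyp f η y₀ := by
      intro η hη y₀ K _ R hR a t ha hbij w ht
      subst ha
      set θ : X.residueField (a (IsLocalRing.closedPoint K)) ⟶ .of K :=
        X.descResidueField (Scheme.stalkClosedPointTo a) with hθdef
      have hθa : Spec.map θ ≫ X.fromSpecResidueField (a (IsLocalRing.closedPoint K)) = a :=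
        Scheme.descResidueField_stalkClosedPointTo_fromSpecResidueField K X a
      have hθiso : IsIso θ := (ConcreteCategory.isIso_iff_bijective θ).mpr hbij
      let A : ValuationSubring (X.residueField (a (IsLocalRing.closedPoint K))) := R.comap θ.hom
      let ψ : A →+* R := θ.hom.restrict A.toSubring R.toSubring (fun x hx => hx)
      have hψ : Function.Bijective ψ := by
        constructor
        · intro x x' hxx'
          apply Subtype.ext
          apply hbij.1
          exact congrArg Subtype.val hxx'
        · intro r
          obtain ⟨c, hc⟩ := hbij.2 r.1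
          refine ⟨⟨c, ?_⟩, Subtype.ext hc⟩
          change θ.hom c ∈ R
          rw [hc]; exact r.2
      let e : A ≃+* R := RingEquiv.ofBijective ψ hψ
      have hA : IsDiscreteValuationRing A := IsDiscreteValuationRing.RingEquivClass.isDiscreteValuationRing e.symm
      have he1 : CommRingCat.ofHom (e.symm : R →+* A) ≫ CommRingCat.ofHom A.subtype ≫ θ =
          CommRingCat.ofHom R.subtype := by
        ext r
        change θ.hom ((e.symm r : A) : X.residueField (a (IsLocalRing.closedPoint K))) = r
        have : ψ (e.symm r) = r := e.apply_symm_apply r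
        exact congrArg Subtype.val this
      have he2 : CommRingCat.ofHom (e : A →+* R) ≫ CommRingCat.ofHom R.subtype =
          CommRingCat.ofHom A.subtype ≫ θ := by
        ext x
        rfl
      have he3 : CommRingCat.ofHom (e.symm : R →+* A) ≫ CommRingCat.ofHom (e : A →+* R) =
          𝟙 _ := by
        ext r
        exact congrArg Subtype.val (e.apply_symm_apply r)
      have hcond : Spec.map (CommRingCat.ofHom A.subtype) ≫
          (Spec.map (CommRingCat.ofHom (e.symm : R →+* A)) ≫ t) =
            X.fromSpecResidueField (a (IsLocalRing.closedPoint K)) ≫ f := by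
        rw [← cancel_epi (Spec.map θ)]
        calc Spec.map θ ≫ Spec.map (CommRingCat.ofHom A.subtype) ≫
              Spec.map (CommRingCat.ofHom (e.symm : R →+* A)) ≫ t
            = Spec.map (CommRingCat.ofHom (e.symm : R →+* A) ≫
                CommRingCat.ofHom A.subtype ≫ θ) ≫ t := by
              simp only [Spec.map_comp, Category.assoc]
              rfl
          _ = Spec.map (CommRingCat.ofHom R.subtype) ≫ t := by rw [he1]
          _ = a ≫ f := w.symm
          _ = Spec.map θ ≫ X.fromSpecResidueField (a (IsLocalRing.closedPoint K)) ≫ f := by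
              rw [← Category.assoc, hθa]
      obtain ⟨lA, ⟨hlA1, hlA2⟩, -⟩ := H _ hη A hA _ hcond
      refine ⟨Spec.map (CommRingCat.ofHom (e : A →+* R)) ≫ lA, ?_, ?_⟩
      · rw [Category.assoc, hlA1, ← Category.assoc, ← Spec.map_comp, he3, Spec.map_id,
          Category.id_comp]
      · rw [← Category.assoc, ← Spec.map_comp, he2, Spec.map_comp, Category.assoc, hlA2, hθa]
    have hUC : UniversallyClosed f := by
      apply UniversallyClosed.of_valuativeCriterion
      intro sq
      obtain ⟨η, hη⟩ := QuasiSober.sober
        (isIrreducible_irreducibleComponent (x := sq.i₁ (IsLocalRing.closedPoint sq.K)))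
        isClosed_irreducibleComponent
      have hη1 : closure {η} ∈ irreducibleComponents (X : Type u) := by
        rw [hη.def]
        exact irreducibleComponent_mem_irreducibleComponents _
      have hη2 : sq.i₁ (IsLocalRing.closedPoint sq.K) ∈ closure {η} := by
        rw [hη.def]
        exact mem_irreducibleComponent
      obtain ⟨U, hyU, hU⟩ := Groth.Agent.H22.CompLift.exists_open_lift f η
        (sq.i₂ (IsLocalRing.closedPoint sq.R)) (hLift η hη1 _)
      obtain ⟨l, hl1, hl2, -⟩ := hU sq.R sq.K sq.i₁ sq.i₂ hη2 sq.commSq.w hyU
      exact ⟨⟨l, hl2, hl1⟩⟩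
    exact { }


end Groth.Agent.S9212
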