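import Groth.Statements.S9220
import Groth.Agent.H20.IdealFP
import Groth.Agent.S0591
import Groth.Agent.S9189

set_option autoImplicit false
universe u
open CategoryTheory AlgebraicGeometry
open Lim

namespace Groth.Agent.S9220

/-- Let S = lim S_i be a cofiltered limit of quasi-compact quasi-separated schemes with affine
transition morphisms, and let I be a quasi-coherent sheaf of ideals of finite type on S (its ideal
of sections on every affine open is finitely generated). Then for some index i there is a
quasi-coherent sheaf of ideals of finite type I_i on S_i such that I = I_i · O_S, the pullback ideal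
sheaf along S → S_i. -/
theorem result {I : Type u} [SmallCategory I] [IsCofiltered I]
    (D : I ⥤ Scheme.{u}) (c : Limits.Cone D) (hc : Limits.IsLimit c)
    [∀ (i j : I) (f : i ⟶ j), IsAffineHom (D.map f)] [∀ i, CompactSpace (D.obj i)]
    [∀ i, QuasiSeparatedSpace (D.obj i)] (J : c.pt.IdealSheafData)
    (hJ : ∀ U : c.pt.affineOpens, (J.ideal U).FG) :
    ∃ (i : I) (Ji : (D.obj i).IdealSheafData), (∀ U : (D.obj i).affineOpens, (Ji.ideal U).FG) ∧
      Ji.comap (c.π.app i) = J := by
  open Limits in
  have hfp := Groth.Agent.H20.IdealFP.locallyOfFinitePresentation_subschemeι J hJ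
  obtain ⟨i, Zi, fi, g, h1, h2, h3, hpb⟩ :=
    Groth.Agent.S0591.result D c hc J.subscheme J.subschemeι
  have hcZ : CompactSpace Zi := QuasiCompact.compactSpace_of_compactSpace fi
  have hqZ : QuasiSeparatedSpace Zi := quasiSeparatedSpace_of_quasiSeparated fi
  obtain ⟨i', φ, Xi, Yi, fi', gi, pY, pX, hpY, hpX, hci⟩ :=
    Groth.Agent.S9189.result D c hc i (f₀ := fi) (g₀ := 𝟙 _) (f := J.subschemeι) (g := 𝟙 _)
      (qY := c.π.app i) (qX := g) (IsPullback.id_vert (c.π.app i)) hpb
  have hgi : IsIso gi := by
    have := hpY.flip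
    exact MorphismProperty.of_isPullback (P := MorphismProperty.isomorphisms Scheme) hpY
      (by simp only [MorphismProperty.isomorphisms.iff]; infer_instance)
  have hfi' : LocallyOfFinitePresentation fi' :=
    MorphismProperty.of_isPullback (P := @LocallyOfFinitePresentation) hpX h1
  have hbig : IsPullback pX (fi' ≫ gi) (fi ≫ 𝟙 _) (D.map φ) := hpX.paste_vert hpY
  rw [Category.comp_id] at hbig
  have hw : c.π.app i' ≫ D.map φ = c.π.app i := c.w φ
  obtain ⟨k, hk1, hk2⟩ := hbig.exists_lift g (J.subschemeι ≫ c.π.app i')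
    (by rw [hpb.w, Category.assoc, hw])
  have hleft : IsPullback k J.subschemeι (fi' ≫ gi) (c.π.app i') := by
    refine IsPullback.of_right ?_ hk2 hbig
    rw [hk1, hw]
    exact hpb
  refine ⟨i', (fi' ≫ gi).ker, fun U => Groth.Agent.H20.IdealFP.ker_ideal_fg (fi' ≫ gi) U, ?_⟩
  rw [← Scheme.IdealSheafData.ker_fst_of_isClosedImmersion]
  have h3 := hleft.flip.isoPullback_hom_fst
  rw [← Scheme.Hom.ker_comp_of_isIso hleft.flip.isoPullback.hom, h3,
    Scheme.IdealSheafData.ker_subschemeι]

end Groth.Agent.S9220
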