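import Groth.Statements.S9224
import Groth.Agent.H24.PolySystem
import Groth.Agent.H24.OverBC

set_option autoImplicit false
universe u
open CategoryTheory CategoryTheory.Limits AlgebraicGeometry
open Lim

namespace Groth.Agent.S9224

/-- Let f : X → S be a quasi-compact morphism, g : T → S a morphism, t a point of T and Z a closed
subset of X_T = X ×_S T which does not meet the fibre of X_T → T over t. Then there exist an affine
open neighbourhood V of t in T, an affine scheme T' with a morphism b : T' → S locally of finite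
presentation, a morphism a : V → T' whose composite with b is the restriction of g, and a closed
subset Z' of X_{T'} = X ×_S T' which does not meet the fibre over t' = a(t), such that the induced
morphism X_V → X_{T'} maps every point of X_V lying over Z (under X_V → X_T) into Z'. The morphisms
X_V → X_T and X_V → X_{T'} are the canonical ones, characterised by their projections. -/
theorem result {X S T : Scheme.{u}} (f : X ⟶ S) [QuasiCompact f] (g : T ⟶ S) (t : T)
    (Z : Set ↥(pullback f g)) (hZ : IsClosed Z) (hZt : ∀ z ∈ Z, (pullback.snd f g).base z ≠ t) :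
    ∃ (V : T.Opens) (ht : t ∈ V) (T' : Scheme.{u}) (b : T' ⟶ S) (a : (V : Scheme.{u}) ⟶ T')
      (n : pullback f (V.ι ≫ g) ⟶ pullback f g) (m : pullback f (V.ι ≫ g) ⟶ pullback f b)
      (Z' : Set ↥(pullback f b)),
      IsAffineOpen V ∧ IsAffine T' ∧ LocallyOfFinitePresentation b ∧ a ≫ b = V.ι ≫ g ∧
      n ≫ pullback.fst f g = pullback.fst f (V.ι ≫ g) ∧ n ≫ pullback.snd f g = pullback.snd f (V.ι ≫ g) ≫ V.ι ∧
      m ≫ pullback.fst f b = pullback.fst f (V.ι ≫ g) ∧ m ≫ pullback.snd f b = pullback.snd f (V.ι ≫ g) ≫ a ∧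
      IsClosed Z' ∧ (∀ z' ∈ Z', (pullback.snd f b).base z' ≠ a.base ⟨t, ht⟩) ∧
      ∀ z : ↥(pullback f (V.ι ≫ g)), n.base z ∈ Z → m.base z ∈ Z' := by
  classical
  -- affine neighbourhoods
  obtain ⟨U, hU, hsU⟩ : ∃ U : S.Opens, IsAffineOpen U ∧ g.base t ∈ U := by
    obtain ⟨_, ⟨U, hU, rfl⟩, hs, -⟩ := (S.isBasis_affineOpens).exists_subset_of_mem_open
      (Set.mem_univ (g.base t)) isOpen_univ
    exact ⟨U, hU, hs⟩
  obtain ⟨V, hV, htV, hVU⟩ : ∃ V : T.Opens, IsAffineOpen V ∧ t ∈ V ∧ V ≤ g ⁻¹ᵁ U := by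
    obtain ⟨_, ⟨V, hV, rfl⟩, ht, hVU⟩ := (T.isBasis_affineOpens).exists_subset_of_mem_open
      (show t ∈ (g ⁻¹ᵁ U : Set T) from hsU) (g ⁻¹ᵁ U).2
    exact ⟨V, hV, ht, hVU⟩
  let A₀ : Type u := Γ(S, U)
  let B₀ : Type u := Γ(T, V)
  let φ : Γ(S, U) ⟶ Γ(T, V) := g.appLE U V hVU
  have hφ : Spec.map φ ≫ hU.fromSpec = hV.fromSpec ≫ g :=
    IsAffineOpen.SpecMap_appLE_fromSpec g hU hV hVU
  -- the system of polynomial algebras
  let D : (Finset B₀)ᵒᵖ ⥤ Scheme.{u} := H24.PolySystem.specDiagram A₀ B₀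
  let c : Cone D := H24.PolySystem.specCone A₀ B₀
  have hc : IsLimit c := H24.PolySystem.isLimitSpecCone A₀ B₀
  let tD : D ⟶ (Functor.const _).obj S :=
    { app := fun F => Spec.map (H24.PolySystem.str A₀ F.unop) ≫ hU.fromSpec
      naturality := fun F F' k => by
        change Spec.map (H24.PolySystem.tr A₀ (leOfHom k.unop)) ≫
          Spec.map (H24.PolySystem.str A₀ F'.unop) ≫ hU.fromSpec =
          (Spec.map (H24.PolySystem.str A₀ F.unop) ≫ hU.fromSpec) ≫ 𝟙 S
        rw [Category.comp_id, ← Category.assoc, ← Spec.map_comp, H24.PolySystem.str_tr] }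
  let tS : c.pt ⟶ S := Spec.map (H24.PolySystem.strBig A₀ B₀) ≫ hU.fromSpec
  have htS : ∀ F, c.π.app F ≫ tD.app F = tS := fun F => by
    change Spec.map (H24.PolySystem.toBig A₀ F.unop) ≫
      Spec.map (H24.PolySystem.str A₀ F.unop) ≫ hU.fromSpec = _
    rw [← Category.assoc, ← Spec.map_comp, H24.PolySystem.str_toBig]
    rfl
  haveI hDaff : ∀ {i j : (Finset B₀)ᵒᵖ} (k : i ⟶ j), IsAffineHom (D.map k) := fun k => by
    change IsAffineHom (Spec.map _)
    infer_instance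
  let E := H24.OverBC.bcDiagram D tD f
  let cE : Cone E := H24.OverBC.bcCone D tD f c tS htS
  haveI : IsConnected (Finset B₀)ᵒᵖ := IsCofiltered.isConnected _
  have hcE : IsLimit cE := H24.OverBC.isLimitBcCone D tD f c tS htS hc
  haveI hEaff : ∀ {i j : (Finset B₀)ᵒᵖ} (k : i ⟶ j), IsAffineHom (E.map k) := fun k =>
    inferInstance
  -- the closed immersion `V ⟶ Spec A[x_B]`
  let evB : CommRingCat.of (MvPolynomial B₀ A₀) ⟶ Γ(T, V) := H24.PolySystem.evBig φ.hom
  have hevB : H24.PolySystem.strBig A₀ B₀ ≫ evB = φ := H24.PolySystem.strBig_evBig φ.hom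
  let ι'' : (V : Scheme.{u}) ⟶ c.pt := hV.isoSpec.hom ≫ Spec.map evB
  haveI : IsClosedImmersion (Spec.map evB) :=
    IsClosedImmersion.spec_of_surjective evB (H24.PolySystem.evBig_surjective φ.hom)
  haveI : IsClosedImmersion ι'' := by
    change IsClosedImmersion (hV.isoSpec.hom ≫ Spec.map evB)
    infer_instance
  have hι'' : ι'' ≫ tS = V.ι ≫ g := by
    change (hV.isoSpec.hom ≫ Spec.map evB) ≫ Spec.map (H24.PolySystem.strBig A₀ B₀) ≫
      hU.fromSpec = _
    rw [Category.assoc, ← Category.assoc (Spec.map evB), ← Spec.map_comp, hevB, hφ,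
      ← Category.assoc, hV.isoSpec_hom_fromSpec]
  let M : pullback f (V.ι ≫ g) ⟶ pullback f tS := H24.OverBC.baseMap f (V.ι ≫ g) tS ι'' hι''
  have sqM := H24.OverBC.isPullback_baseMap f (V.ι ≫ g) tS ι'' hι''
  haveI : IsClosedImmersion M :=
    MorphismProperty.of_isPullback (P := @IsClosedImmersion) sqM.flip inferInstance
  let n : pullback f (V.ι ≫ g) ⟶ pullback f g := H24.OverBC.baseMap f (V.ι ≫ g) g V.ι rfl
  have hn_snd : n ≫ pullback.snd f g = pullback.snd f (V.ι ≫ g) ≫ V.ι :=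
    H24.OverBC.baseMap_snd f (V.ι ≫ g) g V.ι rfl
  have hn_fst : n ≫ pullback.fst f g = pullback.fst f (V.ι ≫ g) :=
    H24.OverBC.baseMap_fst f (V.ι ≫ g) g V.ι rfl
  have hM_snd : M ≫ pullback.snd f tS = pullback.snd f (V.ι ≫ g) ≫ ι'' :=
    H24.OverBC.baseMap_snd f (V.ι ≫ g) tS ι'' hι''
  have hM_fst : M ≫ pullback.fst f tS = pullback.fst f (V.ι ≫ g) :=
    H24.OverBC.baseMap_fst f (V.ι ≫ g) tS ι'' hι''
  let tV : (V : Scheme.{u}) := ⟨t, htV⟩
  let t'' : c.pt := ι''.base tV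
  let sndS : pullback f tS ⟶ c.pt := pullback.snd f tS
  let ZV : Set ↥(pullback f (V.ι ≫ g)) := n.base ⁻¹' Z
  have hZV : IsClosed ZV := hZ.preimage n.continuous
  let Z'' : Set ↥(pullback f tS) := M.base '' ZV
  have hZ'' : IsClosed Z'' := M.isClosedEmbedding.isClosedMap _ hZV
  have hK : IsCompact (sndS.base ⁻¹' {t''}) := Scheme.Hom.isCompact_preimage_singleton sndS t''
  have hKZ : sndS.base ⁻¹' {t''} ⊆ Z''ᶜ := by
    rintro x hx ⟨z, hz, rfl⟩
    have h1 : ι''.base ((pullback.snd f (V.ι ≫ g)).base z) = ι''.base tV := by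
      rw [← Scheme.Hom.comp_apply, ← hM_snd, Scheme.Hom.comp_apply]
      exact hx
    have h2 : (pullback.snd f (V.ι ≫ g)).base z = tV := ι''.isClosedEmbedding.injective h1
    apply hZt (n.base z) hz
    rw [← Scheme.Hom.comp_apply, hn_snd, Scheme.Hom.comp_apply, h2]
    rfl
  obtain ⟨W₁, hW₁c, hKW₁, hW₁Z⟩ : ∃ W₁ : (pullback f tS).Opens,
      IsCompact (W₁ : Set ↥(pullback f tS)) ∧
      sndS.base ⁻¹' {t''} ⊆ (W₁ : Set ↥(pullback f tS)) ∧
      (W₁ : Set ↥(pullback f tS)) ⊆ Z''ᶜ := by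
    have hb := (pullback f tS).isBasis_affineOpens
    have : ∀ x ∈ sndS.base ⁻¹' {t''}, ∃ W : (pullback f tS).Opens,
        IsAffineOpen W ∧ x ∈ W ∧ (W : Set _) ⊆ Z''ᶜ := fun x hx => by
      obtain ⟨_, ⟨W, hW, rfl⟩, hxW, hWZ⟩ :=
        hb.exists_subset_of_mem_open (hKZ hx) hZ''.isOpen_compl
      exact ⟨W, hW, hxW, hWZ⟩
    choose W hW hxW hWZ using this
    obtain ⟨s, hs⟩ := hK.elim_nhds_subcover' (fun x hx => (W x hx : Set _))
      (fun x hx => (W x hx).2.mem_nhds (hxW x hx))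
    refine ⟨⟨⋃ x ∈ s, (W x.1 x.2 : Set _), isOpen_biUnion fun x _ => (W x.1 x.2).2⟩, ?_, hs, ?_⟩
    · exact s.isCompact_biUnion fun x _ => (hW x.1 x.2).isCompact
    · intro y hy
      simp only [TopologicalSpace.Opens.coe_mk, Set.mem_iUnion] at hy
      obtain ⟨x, _, hyx⟩ := hy
      exact hWZ x.1 x.2 hyx
  obtain ⟨F, WF, hWFc, hWF⟩ := exists_preimage_eq E cE hcE W₁ hW₁c
  let evF : CommRingCat.of (MvPolynomial F.unop A₀) ⟶ Γ(T, V) := H24.PolySystem.ev φ.hom F.unop
  have hevF : H24.PolySystem.str A₀ F.unop ≫ evF = φ := H24.PolySystem.str_ev φ.hom F.unop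
  have htoBig : H24.PolySystem.toBig A₀ F.unop ≫ evB = evF :=
    H24.PolySystem.toBig_evBig φ.hom F.unop
  let a : (V : Scheme.{u}) ⟶ D.obj F := hV.isoSpec.hom ≫ Spec.map evF
  have ha : a ≫ tD.app F = V.ι ≫ g := by
    change (hV.isoSpec.hom ≫ Spec.map evF) ≫ Spec.map (H24.PolySystem.str A₀ F.unop) ≫
      hU.fromSpec = _
    rw [Category.assoc, ← Category.assoc (Spec.map evF), ← Spec.map_comp, hevF, hφ,
      ← Category.assoc, hV.isoSpec_hom_fromSpec]
  have hιa : ι'' ≫ c.π.app F = a := by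
    change (hV.isoSpec.hom ≫ Spec.map evB) ≫ Spec.map (H24.PolySystem.toBig A₀ F.unop) = _
    rw [Category.assoc, ← Spec.map_comp, htoBig]
    rfl
  let WF' : (pullback f (tD.app F)).Opens := WF
  let πF : pullback f tS ⟶ pullback f (tD.app F) := H24.OverBC.bcπ D tD f c tS htS F
  have hπF_fst : πF ≫ pullback.fst _ _ = pullback.fst _ _ := H24.OverBC.bcπ_fst D tD f c tS htS F
  have hπF_snd : πF ≫ pullback.snd _ _ = pullback.snd _ _ ≫ c.π.app F :=
    H24.OverBC.bcπ_snd D tD f c tS htS F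
  have sq : IsPullback πF sndS (pullback.snd f (tD.app F)) (c.π.app F) :=
    H24.OverBC.isPullback_bcπ D tD f c tS htS F
  let m : pullback f (V.ι ≫ g) ⟶ pullback f (tD.app F) := M ≫ πF
  have hWF' : πF.base ⁻¹' (WF' : Set ↥(pullback f (tD.app F))) = (W₁ : Set ↥(pullback f tS)) :=
    congrArg (fun W : (pullback f tS).Opens => (W : Set ↥(pullback f tS))) hWF
  refine ⟨V, htV, D.obj F, tD.app F, a, n, m, ((WF' : Set ↥(pullback f (tD.app F))))ᶜ, hV, ?_, ?_,
    ha, hn_fst, hn_snd, ?_, ?_, WF'.2.isClosed_compl, ?_, ?_⟩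
  · change IsAffine (Spec _)
    infer_instance
  · change LocallyOfFinitePresentation (Spec.map (H24.PolySystem.str A₀ F.unop) ≫ hU.fromSpec)
    haveI : LocallyOfFinitePresentation (Spec.map (H24.PolySystem.str A₀ F.unop)) :=
      HasRingHomProperty.Spec_iff.mpr (H24.PolySystem.str_finitePresentation A₀ F.unop)
    infer_instance
  · rw [Category.assoc, hπF_fst, hM_fst]
  · rw [Category.assoc, hπF_snd, ← Category.assoc, hM_snd, Category.assoc, hιa]
  · intro z' hz' heq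
    apply hz'
    have h0 : (pullback.snd f (tD.app F)).base z' = (c.π.app F).base t'' := by
      rw [heq, ← hιa, Scheme.Hom.comp_apply]
    obtain ⟨z₀, hz₀1, hz₀2⟩ := Scheme.Pullback.exists_preimage_pullback
      (f := pullback.snd f (tD.app F)) (g := c.π.app F) z' t'' h0
    let z'' : ↥(pullback f tS) := sq.isoPullback.inv.base z₀
    have h1 : πF.base z'' = z' := by
      rw [← Scheme.Hom.comp_apply, sq.isoPullback_inv_fst]
      exact hz₀1
    have h2 : sndS.base z'' = t'' := by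
      rw [← Scheme.Hom.comp_apply, sq.isoPullback_inv_snd]
      exact hz₀2
    have h3 : z'' ∈ (W₁ : Set ↥(pullback f tS)) := hKW₁ h2
    rw [← hWF'] at h3
    rw [← h1]
    exact h3
  · intro z hz hmz
    have h3 : M.base z ∈ (W₁ : Set ↥(pullback f tS)) := by
      rw [← hWF']
      exact hmz
    exact hW₁Z h3 ⟨z, hz, rfl⟩

end Groth.Agent.S9224
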