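import Groth.Statements.S9252
import Groth.Agent.H94.RegDescentQuasi

set_option autoImplicit false
universe u
attribute [local instance] HasDerivedCategory.standard
open CategoryTheory
open PP16

namespace Groth.Agent.S9252

/-- Let A → B be faithfully flat and I an ideal of A. If IB is a quasi-regular ideal of B then I is a
quasi-regular ideal of A. -/
theorem result (A B : Type u) [CommRing A] [CommRing B]
    [Algebra A B] [Module.FaithfullyFlat A B] (I : Ideal A)
    (h : PP16.IsLocallyQuasiRegular B (Ideal.map (algebraMap A B) I)) :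
    PP16.IsLocallyQuasiRegular A I := by
  have hflat : (algebraMap A B).Flat :=
    (RingHom.flat_algebraMap_iff (R := A) (S := B)).mpr inferInstance
  have hofFn : ∀ {R : Type u} [CommRing R] {r : ℕ} (f : Fin r → R),
      Ideal.ofList (List.ofFn f) = Ideal.span (Set.range f) := by
    intro R _ r f
    unfold Ideal.ofList
    congr 1
    ext x
    simp [List.mem_ofFn]
  have H : Groth.Agent.H94.RegDescent.LocGen (fun R _ l => CAlgX.IsQuasiRegular l.get)
      (I.map (algebraMap A B)) := by
    intro q hq
    obtain ⟨g, hg, r, f, hf, hspan⟩ := h q.asIdeal hq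
    refine ⟨g, hg, List.ofFn f, ?_, ?_⟩
    · exact Groth.Agent.H39.RelRegAlg.isQuasiRegular_get_of_eq_ofFn f hf _ rfl
    · rw [hofFn, hspan]
  have H' := Groth.Agent.H94.RegDescent.main (algebraMap A B) I
    Groth.Agent.H94.RegDescent.descOK_quasi hflat
    PrimeSpectrum.comap_surjective_of_faithfullyFlat H
  intro P _ hP
  obtain ⟨a, ha, l, hl, hspan⟩ := H' ⟨P, inferInstance⟩ hP
  exact ⟨a, ha, l.length, l.get, hl, by
    rw [Groth.Agent.H39.RelRegAlg.span_range_get, hspan]⟩

end Groth.Agent.S9252
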