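import Groth.Statements.S9254
import Groth.Agent.S9170
import Groth.Agent.S15821
import Groth.Agent.H94.RegDescentKoszul

set_option autoImplicit false
universe u
attribute [local instance] HasDerivedCategory.standard
open CategoryTheory
open Synt

namespace Groth.Agent.S9254

/-- Let R be a ring and F_1, ..., F_c polynomials in R[x_1, ..., x_n] that present R[x_1, ...,
x_n]/(F_1, ..., F_c) as a relative global complete intersection over R. Then the Koszul complex of
F_1, ..., F_c over the polynomial ring is exact outside degree zero, that is, F_1, ..., F_c form a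
Koszul-regular sequence. -/
theorem result (R : Type u) [CommRing R] (n c : ℕ)
    (F : Fin c → MvPolynomial (Fin n) R) (h : Synt.IsRelGCI R n c F) :
    LCI.IsKoszulRegularSeq (MvPolynomial (Fin n) R) (List.ofFn F) := by
  apply Groth.Agent.H94.RegDescent.koszul_loc
  intro Q _
  by_cases hQ : Ideal.span (Set.range F) ≤ Q
  · obtain ⟨hreg, -⟩ := Groth.Agent.S9170.result R n c F h Q hQ
    exact (Groth.Agent.S15821.result _ _ hreg.toIsWeaklyRegular).1
  · apply Groth.Agent.H94.RegDescent.koszul_unit
    obtain ⟨y, hy, hyQ⟩ := Set.not_subset.mp (fun hsub => hQ (Ideal.span_le.mpr hsub))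
    obtain ⟨i, rfl⟩ := hy
    rw [Ideal.eq_top_iff_one]
    have hu : IsUnit (algebraMap (MvPolynomial (Fin n) R) (Localization.AtPrime Q) (F i)) :=
      IsLocalization.map_units (Localization.AtPrime Q) (⟨F i, hyQ⟩ : Q.primeCompl)
    have hmem : algebraMap (MvPolynomial (Fin n) R) (Localization.AtPrime Q) (F i) ∈
        Ideal.ofList ((List.ofFn F).map (algebraMap (MvPolynomial (Fin n) R)
          (Localization.AtPrime Q))) := by
      apply Ideal.subset_span
      exact List.mem_map.mpr ⟨F i, List.mem_ofFn.mpr ⟨i, rfl⟩, rfl⟩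
    exact (Ideal.eq_top_of_isUnit_mem _ hmem hu) ▸ Submodule.mem_top

end Groth.Agent.S9254
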