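import Mathlib
import Groth.Statements.S9257
import Groth.Agent.H72.GRingGeneric2
-- import your own Groth.Agent.* helpers here

set_option autoImplicit false
universe u
open CAlg

namespace Groth.Agent.S9257

open IsLocalRing

/-- A Noetherian ring R is a G-ring exactly when, for all primes q ⊆ p of R, the completion of the local
domain (R/q)_p tensored with its fraction field κ(q) is geometrically regular over κ(q). Here the
pairs q ⊆ p are enumerated as primes P of R/q. -/
theorem result (R : Type u) [CommRing R] [IsNoetherianRing R] :
    CAlg.IsGRing R ↔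
      ∀ (q : Ideal R) [q.IsPrime] (P : Ideal (R ⧸ q)) [P.IsPrime],
        CAlg.IsGeometricallyRegular (⊥ : Ideal (Localization.AtPrime P)).ResidueField
          (EGA4.formalFibre (Localization.AtPrime P) (⊥ : Ideal (Localization.AtPrime P))) := by
  constructor
  · intro hG q hq P hP
    haveI : P.LiesOver (Ideal.comap (algebraMap R (R ⧸ q)) P) := ⟨rfl⟩
    have hqp : q ≤ Ideal.comap (algebraMap R (R ⧸ q)) P := by
      intro x hx
      rw [Ideal.mem_comap]
      have : algebraMap R (R ⧸ q) x = 0 := Ideal.Quotient.eq_zero_iff_mem.mpr hx
      rw [this]; exact P.zero_mem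
    have hdisj : Disjoint ((Ideal.comap (algebraMap R (R ⧸ q)) P).primeCompl : Set R) (q : Set R) := by
      rw [Set.disjoint_left]
      intro x hx hxq
      exact hx (hqp hxq)
    haveI hQprime : (q.map (algebraMap R
        (Localization.AtPrime (Ideal.comap (algebraMap R (R ⧸ q)) P)))).IsPrime :=
      IsLocalization.isPrime_of_isPrime_disjoint
        (Ideal.comap (algebraMap R (R ⧸ q)) P).primeCompl _ q hq hdisj
    have hle : P.primeCompl ≤ nonZeroDivisors (R ⧸ q) := by
      intro x hx
      exact mem_nonZeroDivisors_of_ne_zero (fun h0 => hx (by rw [h0]; exact P.zero_mem))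
    have hQ : (q.map (algebraMap R
        (Localization.AtPrime (Ideal.comap (algebraMap R (R ⧸ q)) P)))).comap
          (algebraMap R (Localization.AtPrime (Ideal.comap (algebraMap R (R ⧸ q)) P))) =
        (⊥ : Ideal (Localization.AtPrime P)).comap (algebraMap R (Localization.AtPrime P)) := by
      have e0 : (q.map (algebraMap R
          (Localization.AtPrime (Ideal.comap (algebraMap R (R ⧸ q)) P)))).comap
            (algebraMap R (Localization.AtPrime (Ideal.comap (algebraMap R (R ⧸ q)) P))) = q :=
        IsLocalization.under_map_of_isPrime_disjoint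
          (Ideal.comap (algebraMap R (R ⧸ q)) P).primeCompl _ hq hdisj
      rw [e0]
      ext x
      rw [Ideal.mem_comap, Ideal.mem_bot,
        IsScalarTower.algebraMap_apply R (R ⧸ q) (Localization.AtPrime P),
        map_eq_zero_iff _ (IsLocalization.injective (Localization.AtPrime P) hle)]
      exact (Ideal.Quotient.eq_zero_iff_mem).symm
    exact Groth.Agent.H72.QFFormal.isGeometricallyRegular_formalFibre R (R ⧸ q)
      (Ideal.comap (algebraMap R (R ⧸ q)) P) P ⊥ _ hQ
      ((hG.2 (Ideal.comap (algebraMap R (R ⧸ q)) P)).2 _).2
  · intro H
    refine ⟨inferInstance, fun p hp => ?_⟩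
    haveI : IsNoetherianRing (Localization.AtPrime p) :=
      IsLocalization.isNoetherianRing p.primeCompl _ inferInstance
    haveI : IsNoetherianRing (EGA4.Cpl (Localization.AtPrime p)) :=
      Groth.Agent.H20.isNoetherianRing_adicCompletion _
    refine ⟨inferInstance, fun Q' hQ' =>
      ⟨Groth.Agent.H26.SkFlat.isNoetherianRing_fiber (EGA4.Cpl (Localization.AtPrime p)) Q', ?_⟩⟩
    apply Groth.Agent.H72.GRingGeneric.isGeometricallyRegular_formalFibre_of_quotient
    have hq : (Q'.comap (algebraMap R (Localization.AtPrime p))).IsPrime := Ideal.comap_isPrime _ _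
    have hqp : Q'.comap (algebraMap R (Localization.AtPrime p)) ≤ p := by
      intro x hx
      have h1 : algebraMap R (Localization.AtPrime p) x ∈ maximalIdeal (Localization.AtPrime p) :=
        IsLocalRing.le_maximalIdeal hQ'.ne_top hx
      exact (IsLocalization.AtPrime.to_map_mem_maximal_iff (Localization.AtPrime p) p x).mp h1
    haveI hP : (p.map (Ideal.Quotient.mk (Q'.comap (algebraMap R (Localization.AtPrime p))))).IsPrime :=
      Ideal.map_isPrime_of_surjective Ideal.Quotient.mk_surjective (by rw [Ideal.mk_ker]; exact hqp)
    have hmap : (Q'.comap (algebraMap R (Localization.AtPrime p))).map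
        (algebraMap R (Localization.AtPrime p)) = Q' :=
      IsLocalization.map_under p.primeCompl (Localization.AtPrime p) Q'
    haveI hloc : IsLocalization.AtPrime
        (Localization.AtPrime p ⧸ (Q'.comap (algebraMap R (Localization.AtPrime p))).map
          (algebraMap R (Localization.AtPrime p)))
        (p.map (Ideal.Quotient.mk (Q'.comap (algebraMap R (Localization.AtPrime p))))) :=
      Groth.Agent.H47.CMSlice.isLocalization_atPrime_quotient
        (Q'.comap (algebraMap R (Localization.AtPrime p))) (Localization.AtPrime p) p hqp
    let e₁ : Localization.AtPrime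
          (p.map (Ideal.Quotient.mk (Q'.comap (algebraMap R (Localization.AtPrime p))))) ≃ₐ[
          R ⧸ Q'.comap (algebraMap R (Localization.AtPrime p))]
        (Localization.AtPrime p ⧸ (Q'.comap (algebraMap R (Localization.AtPrime p))).map
          (algebraMap R (Localization.AtPrime p))) :=
      IsLocalization.algEquiv
        (p.map (Ideal.Quotient.mk (Q'.comap (algebraMap R (Localization.AtPrime p))))).primeCompl
        _ _
    let e₂ : (Localization.AtPrime p ⧸ (Q'.comap (algebraMap R (Localization.AtPrime p))).map
          (algebraMap R (Localization.AtPrime p))) ≃+* (Localization.AtPrime p ⧸ Q') :=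
      Ideal.quotEquivOfEq hmap
    let e := e₁.toRingEquiv.trans e₂
    haveI : IsNoetherianRing (Localization.AtPrime
        (p.map (Ideal.Quotient.mk (Q'.comap (algebraMap R (Localization.AtPrime p)))))) :=
      IsLocalization.isNoetherianRing
        (p.map (Ideal.Quotient.mk (Q'.comap (algebraMap R (Localization.AtPrime p))))).primeCompl
        _ inferInstance
    exact Groth.Agent.H72.GRingGeneric.isGeometricallyRegular_formalFibre_of_ringEquiv e ⊥ ⊥
      (Ideal.comap_bot_of_injective _ e.injective).symm
      (H (Q'.comap (algebraMap R (Localization.AtPrime p)))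
        (p.map (Ideal.Quotient.mk (Q'.comap (algebraMap R (Localization.AtPrime p))))))

end Groth.Agent.S9257
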