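import Groth.Statements.S9261
import Mathlib.LinearAlgebra.TensorProduct.Pi
import Mathlib.LinearAlgebra.TensorProduct.RightExactness

set_option autoImplicit false
universe u
open CAlg

namespace Groth.Agent.S9261

open TensorProduct in
/-- Let G be a finite group acting on a ring R, S = R^G its ring of invariants (here: S → R injective
with image the invariants) and A a flat S-algebra. Then the map A → A ⊗_S R is injective with image
the invariants of G acting on A ⊗_S R through the second factor; that is, A → (A ⊗_S R)^G is an
isomorphism. -/
theorem result (S R A G : Type u) [CommRing S] [CommRing R] [Algebra S R]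
    [FaithfulSMul S R] [Group G] [Finite G] [MulSemiringAction G R] [SMulCommClass G S R]
    [Algebra.IsInvariant S R G] [CommRing A] [Algebra S A] [Module.Flat S A] :
    Function.Injective (algebraMap A (TensorProduct S A R)) ∧
      ∀ x : TensorProduct S A R,
        (∀ σ : G, Algebra.TensorProduct.map (AlgHom.id S A) (MulSemiringAction.toAlgHom S R σ) x = x) →
          x ∈ Set.range (algebraMap A (TensorProduct S A R)) := by
  classical
  have : Fintype G := Fintype.ofFinite G
  let f : S →ₗ[S] R := Algebra.linearMap S R
  let g : R →ₗ[S] (G → R) :=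
    LinearMap.pi (fun σ => (MulSemiringAction.toAlgHom S R σ).toLinearMap - LinearMap.id)
  have hg : ∀ r σ, g r σ = σ • r - r := fun r σ => rfl
  have hfinj : Function.Injective f := FaithfulSMul.algebraMap_injective S R
  have hexact : Function.Exact f g := by
    intro r
    constructor
    · intro h
      have hinv : ∀ σ : G, σ • r = r := by
        intro σ
        have := congrFun h σ
        rw [hg, Pi.zero_apply, sub_eq_zero] at this
        exact this
      obtain ⟨s, hs⟩ := Algebra.IsInvariant.isInvariant (A := S) (G := G) r hinv
      exact ⟨s, hs⟩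
    · rintro ⟨s, rfl⟩
      funext σ
      rw [hg, Pi.zero_apply, sub_eq_zero]
      exact smul_algebraMap σ s
  have hex2 : Function.Exact (f.lTensor A) (g.lTensor A) := Module.Flat.lTensor_exact A hexact
  have hinj2 : Function.Injective (f.lTensor A) :=
    Module.Flat.lTensor_preserves_injective_linearMap f hfinj
  have halg : ∀ a : A, algebraMap A (A ⊗[S] R) a = (f.lTensor A) (a ⊗ₜ[S] (1 : S)) := by
    intro a
    rw [LinearMap.lTensor_tmul, Algebra.TensorProduct.algebraMap_apply]
    simp [f]
  have hrange : ∀ y : A ⊗[S] S, ∃ a : A, (f.lTensor A) y = algebraMap A (A ⊗[S] R) a := by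
    intro y
    refine ⟨TensorProduct.rid S A y, ?_⟩
    rw [halg]
    congr 1
    have := (TensorProduct.rid S A).symm_apply_apply y
    rw [TensorProduct.rid_symm_apply] at this
    exact this.symm
  let e := TensorProduct.piRight S S A (fun _ : G => R)
  have hcomp : ∀ (x : A ⊗[S] R) (σ : G), e ((g.lTensor A) x) σ =
      Algebra.TensorProduct.map (AlgHom.id S A) (MulSemiringAction.toAlgHom S R σ) x - x := by
    intro x σ
    induction x using TensorProduct.induction_on with
    | zero => simp
    | tmul a r =>
      rw [LinearMap.lTensor_tmul]
      change TensorProduct.piRight S S A (fun _ : G => R) (a ⊗ₜ[S] g r) σ = _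
      rw [TensorProduct.piRight_apply, TensorProduct.piRightHom_tmul]
      change a ⊗ₜ[S] g r σ = _
      rw [hg, tmul_sub, Algebra.TensorProduct.map_tmul]
      rfl
    | add x y hx hy =>
      rw [map_add, map_add, Pi.add_apply, hx, hy, map_add]
      abel
  constructor
  · intro a b hab
    rw [halg, halg] at hab
    have h1 := hinj2 hab
    have h2 := congrArg (TensorProduct.rid S A) h1
    simpa using h2
  · intro x hx
    have h0 : (g.lTensor A) x = 0 := by
      apply e.injective
      rw [map_zero]
      funext σ
      rw [hcomp, hx σ, sub_self, Pi.zero_apply]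
    obtain ⟨y, hy⟩ := (hex2 x).mp h0
    obtain ⟨a, ha⟩ := hrange y
    exact ⟨a, by rw [← ha, hy]⟩

end Groth.Agent.S9261
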