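import Groth.Statements.S9263
import Groth.Agent.H46.CoconeContractible

set_option autoImplicit false
universe u
attribute [local instance] HasDerivedCategory.standard
open CategoryTheory
open DerCA

namespace Groth.Agent.S9263

/-- Let R be a ring, f_1, ..., f_r elements of R such that some f_i is a unit, and M an R-module. Then
the extended alternating Cech complex of M with respect to f_1, ..., f_r is homotopy equivalent to
zero: its identity map is null-homotopic. -/
theorem result (R : Type u) [CommRing R] (fs : List R)
    (hf : ∃ f ∈ fs, IsUnit f) (M : ModuleCat.{u} R) :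
    Nonempty (Homotopy (𝟙 (DerCA.extCech M fs)) 0) := by
  induction fs with
  | nil => simp at hf
  | cons f fs ih =>
    change Nonempty (Homotopy (𝟙 (CochainComplex.mappingCocone
      (DerCA.locCxUnit (Submonoid.powers f) (DerCA.extCech M fs)))) 0)
    by_cases hfu : IsUnit f
    · have hS : ∀ s ∈ Submonoid.powers f, IsUnit s := by
        rintro s ⟨n, rfl⟩
        exact hfu.pow n
      have : ∀ i, IsIso ((DerCA.locCxUnit (Submonoid.powers f) (DerCA.extCech M fs)).f i) := by
        intro i
        exact (ConcreteCategory.isIso_iff_bijective _).mpr
          (Groth.Agent.H46.mkLinearMap_bijective_of_units _ hS _)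
      have : IsIso (DerCA.locCxUnit (Submonoid.powers f) (DerCA.extCech M fs)) :=
        HomologicalComplex.Hom.isIso_of_components _
      exact Groth.Agent.H46.contractible_mappingCocone_of_isIso _
    · have hfs : ∃ f' ∈ fs, IsUnit f' := by
        obtain ⟨g, hg, hgu⟩ := hf
        rcases List.mem_cons.mp hg with rfl | hg'
        · exact absurd hgu hfu
        · exact ⟨g, hg', hgu⟩
      obtain ⟨h⟩ := ih hfs
      refine Groth.Agent.H46.contractible_mappingCocone_of_contractible _ ⟨h⟩ ?_
      have h' := (DerCA.locFunctor (Submonoid.powers f)).mapHomotopy h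
      refine ⟨(Homotopy.ofEq ?_).trans (h'.trans (Homotopy.ofEq ?_))⟩
      · simp
      · simp

end Groth.Agent.S9263
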