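import Groth.Statements.S9268
import Mathlib
import Groth.Agent.H23.AdicLocal

set_option autoImplicit false
universe u
open CAlg

namespace Groth.Agent.S9268

/-- Suppose A is a Noetherian ring and B is a finitely generated A-algebra, and consider a prime q of B
lying over p in A. Then A → B is smooth at q (meaning some g not in q makes A → B_g smooth) exactly
when the induced map A_p → B_q is formally smooth with respect to the adic topology defined by the
maximal ideal of B_q. -/
theorem result (A B : Type u) [CommRing A] [IsNoetherianRing A]
    [CommRing B] [Algebra A B] [Algebra.FiniteType A B] (q : Ideal B) [q.IsPrime] :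
    (∃ g : B, g ∉ q ∧ Algebra.Smooth A (Localization.Away g)) ↔
      letI := (Localization.localRingHom (Ideal.comap (algebraMap A B) q) q (algebraMap A B) rfl).toAlgebra
      CAlgX.IsAdicFormallySmooth (Localization.AtPrime (Ideal.comap (algebraMap A B) q))
        (Localization.AtPrime q) (IsLocalRing.maximalIdeal (Localization.AtPrime q)) := by
  classical
  set p : Ideal A := Ideal.comap (algebraMap A B) q with hp
  letI alg : Algebra (Localization.AtPrime p) (Localization.AtPrime q) :=
    (Localization.localRingHom p q (algebraMap A B) rfl).toAlgebra
  have htower : IsScalarTower A (Localization.AtPrime p) (Localization.AtPrime q) := by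
    apply IsScalarTower.of_algebraMap_eq
    intro a
    change _ = Localization.localRingHom p q (algebraMap A B) rfl (algebraMap A _ a)
    rw [Localization.localRingHom_to_map, IsScalarTower.algebraMap_apply A B (Localization.AtPrime q)]
  have hfp : Algebra.FinitePresentation A B := Algebra.FinitePresentation.of_finiteType.mp inferInstance
  -- Step 1 : smooth at q iff formally smooth A B_q
  have h1 : (∃ g : B, g ∉ q ∧ Algebra.Smooth A (Localization.Away g)) ↔
      Algebra.FormallySmooth A (Localization.AtPrime q) := by
    constructor
    · rintro ⟨g, hg, hsm⟩
      have : Algebra.FormallySmooth A (Localization.Away g) := hsm.formallySmooth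
      -- B_q is a localization of B_g
      have hle : Submonoid.powers g ≤ q.primeCompl := by
        rintro _ ⟨n, rfl⟩
        exact fun h => hg (Ideal.IsPrime.mem_of_pow_mem inferInstance n h)
      letI : Algebra (Localization.Away g) (Localization.AtPrime q) :=
        (IsLocalization.map (M := Submonoid.powers g) (T := q.primeCompl) (Localization.AtPrime q)
          (RingHom.id B) hle).toAlgebra
      have ht2 : IsScalarTower B (Localization.Away g) (Localization.AtPrime q) := by
        apply IsScalarTower.of_algebraMap_eq
        intro b
        change _ = IsLocalization.map (M := Submonoid.powers g) (T := q.primeCompl)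
          (Localization.AtPrime q) (RingHom.id B) hle (algebraMap B _ b)
        rw [IsLocalization.map_eq]; rfl
      have ht3 : IsScalarTower A (Localization.Away g) (Localization.AtPrime q) := by
        apply IsScalarTower.of_algebraMap_eq
        intro a
        rw [IsScalarTower.algebraMap_apply A B (Localization.AtPrime q),
          IsScalarTower.algebraMap_apply B (Localization.Away g) (Localization.AtPrime q),
          ← IsScalarTower.algebraMap_apply A B (Localization.Away g)]
      have hloc : IsLocalization (Submonoid.map (algebraMap B (Localization.Away g)) q.primeCompl)
          (Localization.AtPrime q) :=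
        IsLocalization.isLocalization_of_submonoid_le (Localization.Away g) (Localization.AtPrime q)
          (Submonoid.powers g) q.primeCompl hle
      have : Algebra.FormallySmooth (Localization.Away g) (Localization.AtPrime q) :=
        Algebra.FormallySmooth.of_isLocalization
          (Submonoid.map (algebraMap B (Localization.Away g)) q.primeCompl)
      exact Algebra.FormallySmooth.comp A (Localization.Away g) (Localization.AtPrime q)
    · intro h
      have : Algebra.IsSmoothAt A q := h
      exact Algebra.IsSmoothAt.exists_notMem_smooth A q
  rw [h1]
  constructor
  · intro h
    exact Groth.Agent.H23.AdicLocal.adic_of_formallySmooth_of_isLocalization (A := A)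
      p.primeCompl _
  · intro h
    have h' : CAlgX.IsAdicFormallySmooth A (Localization.AtPrime q)
        (IsLocalRing.maximalIdeal (Localization.AtPrime q)) :=
      Groth.Agent.H23.AdicLocal.adic_of_adic_isLocalization (A' := Localization.AtPrime p)
        p.primeCompl _ h
    obtain ⟨n, f, hf⟩ := Algebra.FiniteType.iff_quotient_mvPolynomial''.mp
      (inferInstance : Algebra.FiniteType A B)
    letI : Algebra (MvPolynomial (Fin n) A) B := f.toRingHom.toAlgebra
    have : IsScalarTower A (MvPolynomial (Fin n) A) B :=
      IsScalarTower.of_algebraMap_eq (fun a => (f.commutes a).symm)
    exact Groth.Agent.H23.AdicLocal.formallySmooth_of_adic_atPrime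
      (B := MvPolynomial (Fin n) A) hf q h'

end Groth.Agent.S9268
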