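import Mathlib
import Groth.Statements.S9289
import Groth.Agent.H72.QFFormal5
-- import your own Groth.Agent.* helpers here

set_option autoImplicit false
universe u
open CAlg

namespace Groth.Agent.S9289

/-- Let R and R' be Noetherian rings with R' of finite type over R and quasi-finite at the prime p' of
R', lying over p. If R_p has geometrically regular formal fibres, so does R'_{p'}; stated as: if the
completion map of R_p is regular, so is that of R'_{p'}. -/
theorem result (R R' : Type u) [CommRing R]
    [CommRing R'] [IsNoetherianRing R] [IsNoetherianRing R'] [Algebra R R'] [Algebra.FiniteType R R']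
    (p' : Ideal R') [p'.IsPrime] [Algebra.QuasiFiniteAt R p']
    (h : CAlg.IsRegularHom (Localization.AtPrime (Ideal.comap (algebraMap R R') p'))
      (AdicCompletion (IsLocalRing.maximalIdeal (Localization.AtPrime (Ideal.comap (algebraMap R R') p')))
        (Localization.AtPrime (Ideal.comap (algebraMap R R') p')))) :
    CAlg.IsRegularHom (Localization.AtPrime p')
      (AdicCompletion (IsLocalRing.maximalIdeal (Localization.AtPrime p')) (Localization.AtPrime p')) := by
  haveI : p'.LiesOver (Ideal.comap (algebraMap R R') p') := ⟨rfl⟩
  letI := Localization.AtPrime.algebraOfLiesOver (Ideal.comap (algebraMap R R') p') p'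
  haveI : IsNoetherianRing (Localization.AtPrime p') :=
    IsLocalization.isNoetherianRing p'.primeCompl _ inferInstance
  haveI : IsNoetherianRing (EGA4.Cpl (Localization.AtPrime p')) :=
    Groth.Agent.H20.isNoetherianRing_adicCompletion _
  refine ⟨inferInstance, fun Q' hQ' =>
    ⟨Groth.Agent.H26.SkFlat.isNoetherianRing_fiber (EGA4.Cpl (Localization.AtPrime p')) Q', ?_⟩⟩
  haveI : (Q'.comap (algebraMap (Localization.AtPrime (Ideal.comap (algebraMap R R') p'))
      (Localization.AtPrime p'))).IsPrime := Ideal.comap_isPrime _ _
  exact Groth.Agent.H72.QFFormal.isGeometricallyRegular_formalFibre R R'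
    (Ideal.comap (algebraMap R R') p') p' Q'
    (Q'.comap (algebraMap (Localization.AtPrime (Ideal.comap (algebraMap R R') p'))
      (Localization.AtPrime p')))
    (by rw [Ideal.comap_comap, ← IsScalarTower.algebraMap_eq])
    (h.2 _).2

end Groth.Agent.S9289
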