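import Mathlib
import Groth.Statements.S9274
import Groth.Agent.S9289
import Groth.Agent.H23.GRCrit
import Groth.Agent.H72.FinFreeCover
import Groth.Agent.H72.FinFreeGRing
-- import your own Groth.Agent.* helpers here

set_option autoImplicit false
universe u
open CAlg

namespace Groth.Agent.S9274

/-- For a Noetherian ring R, being a G-ring is equivalent to the following: whenever S is an R-algebra
that is finite and free as an R-module, every formal fibre of every local ring of S is a regular
ring. -/
theorem result (R : Type u) [CommRing R] [IsNoetherianRing R] :
    CAlg.IsGRing R ↔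
      ∀ (S : Type u) [CommRing S] [Algebra R S] [Module.Finite R S] [Module.Free R S]
        (q : Ideal S) [q.IsPrime] (p : Ideal (Localization.AtPrime q)) [p.IsPrime],
        IsRegularRing (EGA4.formalFibre (Localization.AtPrime q) p) := by
  constructor
  · intro hG S _ _ _ _ q _ p _
    haveI : IsNoetherianRing S := IsNoetherianRing.of_finite R S
    haveI : Algebra.QuasiFiniteAt R q := inferInstance
    have h1 := Groth.Agent.S9289.result R S q (hG.2 (Ideal.comap (algebraMap R S) q))
    have h2 := (h1.2 p).2 p.ResidueField (Module.Finite.self _)
    exact @IsRegularRing.of_ringEquiv _ _ _ _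
      (Algebra.TensorProduct.lid p.ResidueField
        (p.Fiber (EGA4.Cpl (Localization.AtPrime q)))).toRingEquiv h2
  · intro H
    refine Groth.Agent.H23.GR.isGRing_of_GF R ?_
    intro D _ _ _ _
    obtain ⟨S, _, _, _, _, f, hf⟩ := Groth.Agent.H72.FinFreeCover.exists_cover R D
    letI algSD : Algebra S D := f.toRingHom.toAlgebra
    haveI : IsScalarTower R S D := IsScalarTower.of_algebraMap_eq fun r => (f.commutes r).symm
    haveI : Module.Finite S D := Module.Finite.of_restrictScalars_finite R S D
    haveI : IsNoetherianRing S := IsNoetherianRing.of_finite R S
    intro n _ Q _ hQ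
    haveI : IsScalarTower S D (FractionRing D) := inferInstance
    refine Groth.Agent.H23.GRTransfer.isRegularLocalRing_completion_atPrime_of_tensor S n
      (FractionRing D) ?_ Q hQ
    exact Groth.Agent.H72.FinFreeGRing.isRegularRing_tensor_fractionRing S D hf n
      (FractionRing D) _ (fun p _ => H S _ p)

end Groth.Agent.S9274
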