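import Groth.Statements.S9275
import Mathlib.RingTheory.RingHom.Etale

set_option autoImplicit false
universe u
open EtAlg

namespace Groth.Agent.S9275

/-- Let A → B be a ring map and J an ideal of B such that A → B is étale at every prime of V(J), in the
sense that every prime q ⊇ J has some h ∉ q with A → B_h étale. Then there is g ∈ B mapping to a
unit of B/J such that A → B_g is étale. -/
theorem result (A B : Type u) [CommRing A] [CommRing B]
    [Algebra A B] (J : Ideal B)
    (h : ∀ (q : Ideal B) [q.IsPrime], J ≤ q → ∃ h : B, h ∉ q ∧ Algebra.Etale A (Localization.Away h)) :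
    ∃ g : B, IsUnit (Ideal.Quotient.mk J g) ∧ Algebra.Etale A (Localization.Away g) := by
  classical
  let T : Set B := {t : B | Algebra.Etale A (Localization.Away t)}
  have htop : J ⊔ Ideal.span T = ⊤ := by
    by_contra hne
    obtain ⟨𝔪, h𝔪, hle⟩ := Ideal.exists_le_maximal _ hne
    have := h𝔪.isPrime
    obtain ⟨t, ht𝔪, htT⟩ := h 𝔪 (le_sup_left.trans hle)
    exact ht𝔪 (hle (Ideal.mem_sup_right (Ideal.subset_span htT)))
  have h1 : (1 : B) ∈ J ⊔ Ideal.span T := by rw [htop]; trivial
  rw [Submodule.mem_sup] at h1
  obtain ⟨j, hj, g, hg, hjg⟩ := h1
  refine ⟨g, ?_, ?_⟩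
  · have : Ideal.Quotient.mk J g = 1 := by
      rw [← map_one (Ideal.Quotient.mk J), ← hjg, map_add, Ideal.Quotient.eq_zero_iff_mem.mpr hj,
        zero_add]
    rw [this]
    exact isUnit_one
  · rw [← RingHom.etale_algebraMap]
    apply RingHom.Etale.ofLocalizationSpanTarget (algebraMap A (Localization.Away g))
      ((algebraMap B (Localization.Away g)) '' T)
    · rw [← Ideal.map_span, Ideal.eq_top_iff_one]
      have hu : IsUnit (algebraMap B (Localization.Away g) g) :=
        IsLocalization.Away.algebraMap_isUnit g
      have hmem : algebraMap B (Localization.Away g) g ∈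
          (Ideal.span T).map (algebraMap B (Localization.Away g)) := Ideal.mem_map_of_mem _ hg
      exact (Ideal.eq_top_of_isUnit_mem _ hmem hu) ▸ Submodule.mem_top
    · rintro ⟨_, t, ht, rfl⟩
      have hEt : Algebra.Etale A (Localization.Away t) := ht
      -- T₂ = (B_t)_g is étale over A
      have hEt2 : Algebra.Etale A (Localization.Away (algebraMap B (Localization.Away t) g)) :=
        inferInstance
      -- both are localizations of B away from t * g
      let e : Localization.Away (algebraMap B (Localization.Away t) g) ≃ₐ[B]
          Localization.Away (algebraMap B (Localization.Away g) t) :=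
        IsLocalization.algEquiv (Submonoid.powers (t * g)) _ _
      have hEt1 : Algebra.Etale A (Localization.Away (algebraMap B (Localization.Away g) t)) :=
        Algebra.Etale.of_equiv (e.restrictScalars A)
      have := RingHom.etale_algebraMap.mpr hEt1
      rw [IsScalarTower.algebraMap_eq A (Localization.Away g)
        (Localization.Away (algebraMap B (Localization.Away g) t))] at this
      exact this

end Groth.Agent.S9275
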