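import Groth.Statements.S9283
-- import your own Groth.Agent.* helpers here

set_option autoImplicit false
universe u
open CAlg

namespace Groth.Agent.S9283

/-- Let R be an auto-associated ring, that is, a local ring whose maximal ideal is weakly associated to
R: some nonzero x ∈ R is killed by a power of every element of the maximal ideal. Then every proper
finitely generated ideal of R has a nonzero annihilator. -/
theorem result (R : Type u) [CommRing R] [IsLocalRing R]
    (h : ∃ x : R, x ≠ 0 ∧ ∀ f ∈ IsLocalRing.maximalIdeal R, ∃ n : ℕ, f ^ n * x = 0)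
    (I : Ideal R) (hI : I.FG) (hI' : I ≠ ⊤) : I.annihilator ≠ ⊥ := by
  classical
  obtain ⟨x, hx0, hx⟩ := h
  obtain ⟨s, hs⟩ := hI
  have hIm : I ≤ IsLocalRing.maximalIdeal R := IsLocalRing.le_maximalIdeal hI'
  have hsm : ∀ f ∈ s, f ∈ IsLocalRing.maximalIdeal R := fun f hf =>
    hIm (hs ▸ Ideal.subset_span hf)
  have key : ∀ t : Finset R, (∀ f ∈ t, f ∈ IsLocalRing.maximalIdeal R) →
      ∃ y : R, y ≠ 0 ∧ (∃ c : R, y = c * x) ∧ ∀ f ∈ t, f * y = 0 := by
    intro t
    induction t using Finset.induction_on with
    | empty => intro _; exact ⟨x, hx0, ⟨1, (one_mul x).symm⟩, by simp⟩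
    | insert a t hat ih =>
      intro ht
      obtain ⟨y, hy0, ⟨c, hc⟩, hy⟩ := ih (fun f hf => ht f (Finset.mem_insert_of_mem hf))
      have ham : a ∈ IsLocalRing.maximalIdeal R := ht a (Finset.mem_insert_self a t)
      have hex : ∃ n : ℕ, a ^ n * y = 0 := by
        obtain ⟨n, hn⟩ := hx a ham
        exact ⟨n, by rw [hc, mul_left_comm, hn, mul_zero]⟩
      have hn0 : Nat.find hex ≠ 0 := by
        intro h0
        have := Nat.find_spec hex
        rw [h0, pow_zero, one_mul] at this
        exact hy0 this
      obtain ⟨k, hk⟩ := Nat.exists_eq_succ_of_ne_zero hn0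
      have hk' : a ^ k * y ≠ 0 := by
        intro h0
        have := Nat.find_min' hex h0
        omega
      refine ⟨a ^ k * y, hk', ⟨a ^ k * c, by rw [hc, mul_assoc]⟩, ?_⟩
      intro f hf
      rw [Finset.mem_insert] at hf
      rcases hf with rfl | hf
      · have := Nat.find_spec hex
        rw [hk, pow_succ, mul_comm (f ^ k) f, mul_assoc] at this
        exact this
      · rw [mul_left_comm, hy f hf, mul_zero]
  obtain ⟨y, hy0, -, hy⟩ := key s hsm
  intro hbot
  apply hy0
  have : y ∈ I.annihilator := by
    rw [Submodule.mem_annihilator]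
    intro z hz
    rw [← hs] at hz
    refine Submodule.span_induction ?_ ?_ ?_ ?_ hz
    · intro f hf
      rw [smul_eq_mul, mul_comm]
      exact hy f hf
    · simp
    · intro a b _ _ ha hb
      rw [smul_add, ha, hb, add_zero]
    · intro c a _ ha
      rw [smul_comm, ha, smul_zero]
  rw [hbot] at this
  exact this

end Groth.Agent.S9283
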