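import Groth.Statements.S9285
-- import your own Groth.Agent.* helpers here

set_option autoImplicit false
universe u
open CAlg

namespace Groth.Agent.S9285

/-- A ring R has the property that every proper finitely generated ideal has a nonzero annihilator if
and only if every injective linear map R → R^n admits a retraction. -/
theorem result (R : Type u) [CommRing R] :
    (∀ I : Ideal R, I.FG → I ≠ ⊤ → I.annihilator ≠ ⊥) ↔
      ∀ (n : ℕ) (u : R →ₗ[R] (Fin n → R)), Function.Injective u →
        ∃ v : (Fin n → R) →ₗ[R] R, v.comp u = LinearMap.id := by
  constructor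
  · intro hP n u hu
    let I : Ideal R := Ideal.span (Set.range (u 1))
    have hfg : I.FG := by
      classical
      exact ⟨Finset.univ.image (u 1), by simp [I]⟩
    have hann : I.annihilator = ⊥ := by
      rw [eq_bot_iff]
      intro a ha
      rw [Submodule.mem_annihilator] at ha
      have h0 : u a = 0 := by
        have : u a = a • u 1 := by rw [← map_smul, smul_eq_mul, mul_one]
        rw [this]
        funext i
        simp only [Pi.smul_apply, Pi.zero_apply]
        exact ha (u 1 i) (Ideal.subset_span ⟨i, rfl⟩)
      have : a = 0 := hu (by rw [h0, map_zero])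
      exact this
    have htop : I = ⊤ := by
      by_contra hne
      exact hP I hfg hne hann
    have h1 : (1 : R) ∈ Ideal.span (Set.range (u 1)) := by
      change (1 : R) ∈ I
      rw [htop]; exact Submodule.mem_top
    rw [Ideal.mem_span_range_iff_exists_fun] at h1
    obtain ⟨c, hc⟩ := h1
    refine ⟨∑ i, c i • LinearMap.proj i, ?_⟩
    apply LinearMap.ext_ring
    simp only [LinearMap.comp_apply, LinearMap.sum_apply, LinearMap.smul_apply, LinearMap.proj_apply,
      LinearMap.id_apply, smul_eq_mul]
    exact hc
  · intro h I hfg hne hann
    obtain ⟨s, hs⟩ := hfg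
    obtain ⟨n, g, hg⟩ : ∃ (n : ℕ) (g : Fin n → R), Set.range g = (s : Set R) := by
      refine ⟨s.card, fun i => (s.equivFin.symm i : R), ?_⟩
      ext x
      constructor
      · rintro ⟨i, rfl⟩
        exact (s.equivFin.symm i).2
      · intro hx
        exact ⟨s.equivFin ⟨x, hx⟩, by simp⟩
    let u : R →ₗ[R] (Fin n → R) := LinearMap.toSpanSingleton R (Fin n → R) g
    have hu : Function.Injective u := by
      rw [injective_iff_map_eq_zero]
      intro a ha
      have ha' : a ∈ I.annihilator := by
        rw [Submodule.mem_annihilator]
        intro x hx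
        rw [← hs, ← hg] at hx
        refine Submodule.span_induction ?_ ?_ ?_ ?_ hx
        · rintro _ ⟨i, rfl⟩
          have := congrFun ha i
          simpa [u, LinearMap.toSpanSingleton_apply] using this
        · simp
        · intro x y _ _ hx hy
          rw [smul_add, hx, hy, add_zero]
        · intro c x _ hx
          rw [smul_comm, hx, smul_zero]
      rw [hann] at ha'
      exact ha'
    obtain ⟨v, hv⟩ := h n u hu
    apply hne
    rw [Ideal.eq_top_iff_one]
    have h1 : v (u 1) = 1 := by
      have := LinearMap.congr_fun hv 1
      simpa using this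
    have hu1 : u 1 = g := by simp [u, LinearMap.toSpanSingleton_apply]
    rw [hu1] at h1
    have hg' : g = ∑ i, g i • (Pi.single i (1 : R) : Fin n → R) := by
      funext j
      simp [Finset.sum_apply, Pi.single_apply]
    rw [hg', map_sum] at h1
    rw [← h1]
    refine Submodule.sum_mem _ fun i _ => ?_
    rw [map_smul, smul_eq_mul]
    refine Ideal.mul_mem_right _ _ ?_
    rw [← hs, ← hg]
    exact Ideal.subset_span ⟨i, rfl⟩

end Groth.Agent.S9285
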