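import Groth.Statements.S9292
import Mathlib.RingTheory.Etale.Pi
import Mathlib.RingTheory.Localization.Ideal
import Mathlib.RingTheory.Localization.Away.Basic

set_option autoImplicit false
universe u
open EtAlg

namespace Groth.Agent.S9292

/-- Let A be a ring, I an ideal, and e_1, ..., e_n a complete system of orthogonal idempotents of A/I
(equivalently a finite disjoint open covering of Spec(A/I)). Then one can find an A-algebra A' that
is étale over A, such that the induced map A/I → A'/IA' is bijective, together with a complete
system of orthogonal idempotents of A' lifting the e_j. -/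
theorem result (A : Type u) [CommRing A] (I : Ideal A)
    (n : ℕ) (e : Fin n → A ⧸ I) (he : CompleteOrthogonalIdempotents e) :
    ∃ (A' : Type u) (_ : CommRing A') (_ : Algebra A A'), Algebra.Etale A A' ∧
      Function.Bijective (Ideal.quotientMap (Ideal.map (algebraMap A A') I) (algebraMap A A')
        Ideal.le_comap_map) ∧
      ∃ e' : Fin n → A', CompleteOrthogonalIdempotents e' ∧
        ∀ j, Ideal.Quotient.mk (Ideal.map (algebraMap A A') I) (e' j) =
          Ideal.quotientMap (Ideal.map (algebraMap A A') I) (algebraMap A A') Ideal.le_comap_map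
            (e j) := by
  classical
  choose a ha using fun j => Ideal.Quotient.mk_surjective (e j)
  let A' := ∀ j : Fin n, Localization.Away (a j)
  set IA' : Ideal A' := Ideal.map (algebraMap A A') I with hIA'
  -- componentwise description of IA'
  have M1 : ∀ z ∈ IA', ∀ j, z j ∈ I.map (algebraMap A (Localization.Away (a j))) := by
    intro z hz j
    have hle : IA' ≤ Ideal.comap (Pi.evalRingHom (fun j => Localization.Away (a j)) j)
        (I.map (algebraMap A (Localization.Away (a j)))) := by
      rw [hIA', Ideal.map_le_iff_le_comap]
      intro x hx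
      exact Ideal.mem_map_of_mem _ hx
    exact hle hz
  have M2single : ∀ (j : Fin n) (w : Localization.Away (a j)),
      w ∈ I.map (algebraMap A (Localization.Away (a j))) → (Pi.single j w : A') ∈ IA' := by
    intro j w hw
    induction hw using Submodule.span_induction with
    | mem w hw =>
      obtain ⟨x, hx, rfl⟩ := hw
      have : (Pi.single j (algebraMap A (Localization.Away (a j)) x) : A') =
          algebraMap A A' x * Pi.single j 1 := by
        funext k
        rw [Pi.mul_apply]
        by_cases hk : k = j
        · subst hk
          rw [Pi.single_eq_same, Pi.single_eq_same, mul_one]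
          rfl
        · rw [Pi.single_eq_of_ne hk, Pi.single_eq_of_ne hk, mul_zero]
      rw [this]
      exact IA'.mul_mem_right _ (Ideal.mem_map_of_mem _ hx)
    | zero => rw [Pi.single_zero]; exact IA'.zero_mem
    | add x y _ _ hx hy => rw [Pi.single_add]; exact IA'.add_mem hx hy
    | smul c x _ hx =>
      have : (Pi.single j (c • x) : A') = Pi.single j c * Pi.single j x := by
        rw [smul_eq_mul, Pi.single_mul]
      rw [this]
      exact IA'.mul_mem_left _ hx
  have M2 : ∀ z : A', (∀ j, z j ∈ I.map (algebraMap A (Localization.Away (a j)))) → z ∈ IA' := by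
    intro z hz
    rw [← Finset.univ_sum_single z]
    exact IA'.sum_mem fun j _ => M2single j _ (hz j)
  -- criterion in each localization
  have crit : ∀ (j : Fin n) (x : A), a j * x ∈ I →
      algebraMap A (Localization.Away (a j)) x ∈ I.map (algebraMap A (Localization.Away (a j))) := by
    intro j x hx
    rw [IsLocalization.algebraMap_mem_map_algebraMap_iff (Submonoid.powers (a j))]
    exact ⟨a j, Submonoid.mem_powers _, hx⟩
  -- facts about the idempotents
  have hidem : ∀ j, e j * e j = e j := fun j => he.idem j
  have hpow : ∀ j (N : ℕ), e j * e j ^ N = e j := by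
    intro j N
    induction N with
    | zero => rw [pow_zero, mul_one]
    | succ N ih => rw [pow_succ, ← mul_assoc, ih, hidem]
  have hortho : ∀ j k, j ≠ k → e j * e k = 0 := fun j k hjk => he.ortho hjk
  have hsum : ∑ j, e j = 1 := he.complete
  have hmem : ∀ x : A, x ∈ I ↔ Ideal.Quotient.mk I x = 0 := fun x =>
    Ideal.Quotient.eq_zero_iff_mem.symm
  refine ⟨A', inferInstance, inferInstance, inferInstance, ⟨?_, ?_⟩, ?_⟩
  · -- injective
    rw [injective_iff_map_eq_zero]
    intro xb hxb
    obtain ⟨x, rfl⟩ := Ideal.Quotient.mk_surjective xb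
    rw [Ideal.quotientMap_mk, Ideal.Quotient.eq_zero_iff_mem] at hxb
    have h1 : ∀ j, e j * Ideal.Quotient.mk I x = 0 := by
      intro j
      have h2 := M1 _ hxb j
      change algebraMap A (Localization.Away (a j)) x ∈ _ at h2
      rw [IsLocalization.algebraMap_mem_map_algebraMap_iff (Submonoid.powers (a j))] at h2
      obtain ⟨m, ⟨N, rfl⟩, hm⟩ := h2
      rw [hmem, map_mul, map_pow, ha] at hm
      rw [← hpow j N, mul_assoc, hm, mul_zero]
    calc Ideal.Quotient.mk I x = (∑ j, e j) * Ideal.Quotient.mk I x := by rw [hsum, one_mul]
      _ = ∑ j, e j * Ideal.Quotient.mk I x := Finset.sum_mul _ _ _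
      _ = 0 := Finset.sum_eq_zero fun j _ => h1 j
  · -- surjective
    intro zb
    obtain ⟨z, rfl⟩ := Ideal.Quotient.mk_surjective zb
    have hrep : ∀ j, ∃ (y : A) (N : ℕ), algebraMap A (Localization.Away (a j)) (a j ^ N) * z j =
        algebraMap A (Localization.Away (a j)) y := by
      intro j
      obtain ⟨⟨y, ⟨_, N, rfl⟩⟩, hy⟩ := IsLocalization.surj (Submonoid.powers (a j)) (z j)
      exact ⟨y, N, by rw [mul_comm]; exact hy⟩
    choose y N hy using hrep
    refine ⟨Ideal.Quotient.mk I (∑ j, a j * y j), ?_⟩
    rw [Ideal.quotientMap_mk, Ideal.Quotient.eq]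
    apply M2
    intro k
    have hunit : IsUnit (algebraMap A (Localization.Away (a k)) (a k ^ N k)) :=
      IsLocalization.map_units _ (⟨a k ^ N k, N k, rfl⟩ : Submonoid.powers (a k))
    rw [← Ideal.unit_mul_mem_iff_mem _ hunit]
    have : algebraMap A (Localization.Away (a k)) (a k ^ N k) *
        ((algebraMap A A' (∑ j, a j * y j) - z) k) =
        algebraMap A (Localization.Away (a k)) (a k ^ N k * (∑ j, a j * y j) - y k) := by
      rw [Pi.sub_apply, mul_sub, hy k, map_sub, map_mul]
      rfl
    rw [this]
    apply crit
    rw [hmem, map_mul, map_sub, map_mul, map_pow, map_sum, ha, mul_sub, ← mul_assoc, hpow,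
      Finset.mul_sum]
    rw [Finset.sum_eq_single k]
    · rw [map_mul, ha, ← mul_assoc, hidem, sub_self]
    · intro j _ hjk
      rw [map_mul, ha, ← mul_assoc, hortho k j (Ne.symm hjk), zero_mul]
    · intro h; exact absurd (Finset.mem_univ k) h
  · refine ⟨fun j => Pi.single j 1, CompleteOrthogonalIdempotents.single _, ?_⟩
    intro j
    rw [← ha j, Ideal.quotientMap_mk, Ideal.Quotient.eq]
    apply M2
    intro k
    by_cases hk : k = j
    · subst hk
      have : ((Pi.single k 1 : A') - algebraMap A A' (a k)) k =
          algebraMap A (Localization.Away (a k)) (1 - a k) := by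
        rw [Pi.sub_apply, Pi.single_eq_same, map_sub, map_one]
        rfl
      rw [this]
      apply crit
      rw [hmem, map_mul, map_sub, map_one, ha, mul_sub, mul_one, hidem, sub_self]
    · have : ((Pi.single j 1 : A') - algebraMap A A' (a j)) k =
          algebraMap A (Localization.Away (a k)) (- a j) := by
        rw [Pi.sub_apply, Pi.single_eq_of_ne hk, zero_sub, map_neg]
        rfl
      rw [this]
      apply crit
      rw [hmem, map_mul, map_neg, ha, ha, mul_neg, hortho k j hk, neg_zero]

end Groth.Agent.S9292
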