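import Groth.Statements.S9299
import Mathlib
import Groth.Agent.H23.GRGeneric
import Groth.Agent.H23.GRComplete
import Groth.Agent.H73.GRDerivFT

set_option autoImplicit false
universe u
open CAlg

namespace Groth.Agent.S9299

/-- Let k be a field of characteristic p, A = k[[x_1, ..., x_n]][y_1, ..., y_m] with fraction field K,
and P a prime of A. Then A_P^ ⊗_A K, the generic formal fibre of the local ring A_P, is
geometrically regular over K. (The ring A is a domain; this is recorded as an instance hypothesis.) -/
theorem result (p : ℕ) [Fact p.Prime]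
    (k : Type u) [Field k] [CharP k p] (n m : ℕ)
    [IsDomain (MvPolynomial (Fin m) (MvPowerSeries (Fin n) k))]
    (P : Ideal (MvPolynomial (Fin m) (MvPowerSeries (Fin n) k))) [P.IsPrime] :
    CAlg.IsGeometricallyRegular (@Ideal.ResidueField (Localization.AtPrime P) _ ⊥ _)
      (EGA4.formalFibre (Localization.AtPrime P) (⊥ : Ideal (Localization.AtPrime P))) := by
  classical
  haveI : IsRegularLocalRing (MvPowerSeries (Fin n) k) :=
    Groth.Agent.H23.GR.isRegularLocalRing_ps k (Or.inl (Field.toIsField k)) n
  haveI : IsRegularRing (MvPowerSeries (Fin n) k) :=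
    Groth.Agent.H23.GR.isRegularRing_of_isRegularLocalRing _
  haveI : IsRegularRing (MvPolynomial (Fin m) (MvPowerSeries (Fin n) k)) := inferInstance
  haveI : IsNoetherianRing (MvPolynomial (Fin m) (MvPowerSeries (Fin n) k)) := inferInstance
  have hCinj : Function.Injective
      (algebraMap (MvPowerSeries (Fin n) k) (MvPolynomial (Fin m) (MvPowerSeries (Fin n) k))) :=
    MvPolynomial.C_injective _ _
  haveI : CharP (MvPowerSeries (Fin n) k) p :=
    charP_of_injective_ringHom (MvPowerSeries.C_injective (σ := Fin n) (R := k)) p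
  haveI : CharP (MvPolynomial (Fin m) (MvPowerSeries (Fin n) k)) p :=
    charP_of_injective_ringHom hCinj p
  have hder : Groth.Agent.H23.GR.HasDer p (MvPolynomial (Fin m) (MvPowerSeries (Fin n) k)) := by
    intro B _ _ _ _ hinj f hf
    letI : Algebra (MvPowerSeries (Fin n) k) B :=
      ((algebraMap (MvPolynomial (Fin m) (MvPowerSeries (Fin n) k)) B).comp
        (algebraMap (MvPowerSeries (Fin n) k) _)).toAlgebra
    haveI : IsScalarTower (MvPowerSeries (Fin n) k)
        (MvPolynomial (Fin m) (MvPowerSeries (Fin n) k)) B :=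
      IsScalarTower.of_algebraMap_eq (fun _ => rfl)
    haveI : Algebra.FiniteType (MvPowerSeries (Fin n) k) B :=
      Algebra.FiniteType.trans (S := MvPolynomial (Fin m) (MvPowerSeries (Fin n) k))
        inferInstance inferInstance
    have hinj' : Function.Injective (algebraMap (MvPowerSeries (Fin n) k) B) := by
      rw [IsScalarTower.algebraMap_eq (MvPowerSeries (Fin n) k)
        (MvPolynomial (Fin m) (MvPowerSeries (Fin n) k)) B]
      exact hinj.comp hCinj
    exact Groth.Agent.H73.GRDeriv.exists_derivation_ft p k n B hinj' f hf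
  have hA : Groth.Agent.H23.GR.GF (MvPolynomial (Fin m) (MvPowerSeries (Fin n) k)) :=
    Groth.Agent.H23.GR.GF_of_isRegularRing _
  exact Groth.Agent.H23.GR.geomReg_generic_of_GF _
    (fun D _ _ _ _ hinj => Groth.Agent.H23.GR.GF_of_finite p _ hder hA D hinj) P ⊥ rfl

end Groth.Agent.S9299
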