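import Groth.Statements.S9302
import Groth.Agent.H46.HenselLimit

set_option autoImplicit false
universe u
open CategoryTheory
open EtAlg

namespace Groth.Agent.S9302

open Limits Polynomial Groth.Agent.H46 in
/-- Henselian pairs are preserved under limits: for an inverse system (A_j, I_j) of henselian pairs over
a preordered set J, the limit A = lim A_j with the ideal I = lim I_j (elements all of whose
projections lie in the I_j) is a henselian pair. -/
theorem result (J : Type u) [Preorder J] (F : J ⥤ CommRingCat.{u})
    (I : ∀ j : J, Ideal (F.obj j))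
    (hI : ∀ (i j : J) (φ : i ⟶ j), Ideal.map (F.map φ).hom (I i) ≤ I j)
    (h : ∀ j : J, HenselianRing (F.obj j) (I j)) :
    HenselianRing ((Limits.limit F : CommRingCat.{u}) : Type u)
      (⨅ j : J, Ideal.comap (Limits.limit.π F j).hom (I j)) := by
  have hjac : ∀ j, I j ≤ Ideal.jacobson ⊥ := fun j => (h j).jac
  have hI' : ∀ (i j : J) (φ : i ⟶ j) (x : F.obj i), x ∈ I i → (F.map φ).hom x ∈ I j :=
    fun i j φ x hx => hI i j φ (Ideal.mem_map_of_mem _ hx)
  have hmem : ∀ x : (limit F : CommRingCat.{u}),
      x ∈ (⨅ j : J, Ideal.comap (limit.π F j).hom (I j)) ↔ ∀ j, (limit.π F j).hom x ∈ I j := by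
    intro x
    simp only [Ideal.mem_iInf, Ideal.mem_comap]
  refine ⟨?_, ?_⟩
  · intro x hx
    rw [Ideal.mem_jacobson_bot]
    intro y
    apply commRingCat_limit_isUnit
    intro j
    rw [map_add, map_mul, map_one]
    exact Ideal.mem_jacobson_bot.mp (hjac j ((hmem x).mp hx j)) _
  · intro f hf a₀ h1 h2
    rw [hmem] at h1
    -- a unit inverse mod I
    obtain ⟨c, hc⟩ := isUnit_iff_exists_inv.mp h2
    obtain ⟨c, rfl⟩ := Ideal.Quotient.mk_surjective c
    rw [← map_mul, ← map_one (Ideal.Quotient.mk _), Ideal.Quotient.eq, hmem] at hc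
    -- the data at each stage
    have hf' : ∀ j, (f.map (limit.π F j).hom).Monic := fun j => hf.map _
    have h1' : ∀ j, (f.map (limit.π F j).hom).eval ((limit.π F j).hom a₀) ∈ I j := by
      intro j
      rw [Polynomial.eval_map_apply]
      exact h1 j
    have h2' : ∀ j, IsUnit (Ideal.Quotient.mk (I j)
        ((f.map (limit.π F j).hom).derivative.eval ((limit.π F j).hom a₀))) := by
      intro j
      rw [Polynomial.derivative_map, Polynomial.eval_map_apply]
      refine IsUnit.of_mul_eq_one (Ideal.Quotient.mk (I j) ((limit.π F j).hom c)) ?_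
      rw [← map_mul, ← map_one (Ideal.Quotient.mk _), Ideal.Quotient.eq, ← map_mul,
        ← map_one (limit.π F j).hom, ← map_sub]
      exact hc j
    choose a ha1 ha2 using fun j => (h j).is_henselian _ (hf' j) _ (h1' j) (h2' j)
    -- compatibility by uniqueness
    have hcompat : ∀ (i j : J) (φ : i ⟶ j), (F.map φ).hom (a i) = a j := by
      intro i j φ
      have hmapf : (f.map (limit.π F i).hom).map (F.map φ).hom = f.map (limit.π F j).hom := by
        rw [Polynomial.map_map]
        congr 1
        ext x
        exact commRingCat_limit_π_map F x φ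
      symm
      apply root_unique (hjac j) (f.map (limit.π F j).hom)
      · exact ha1 j
      · rw [← hmapf]
        have := ha1 i
        rw [Polynomial.IsRoot.def] at this ⊢
        rw [Polynomial.eval_map_apply, this, map_zero]
      · have e1 : (F.map φ).hom (a i) - a j =
            (F.map φ).hom (a i - (limit.π F i).hom a₀) - (a j - (limit.π F j).hom a₀) := by
          rw [map_sub, commRingCat_limit_π_map]; ring
        rw [e1]
        exact (I j).sub_mem (hI' i j φ _ (ha2 i)) (ha2 j)
      · -- derivative at a j is a unit mod I j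
        have e2 : Ideal.Quotient.mk (I j) ((f.map (limit.π F j).hom).derivative.eval (a j)) =
            Ideal.Quotient.mk (I j)
              ((f.map (limit.π F j).hom).derivative.eval ((limit.π F j).hom a₀)) := by
          rw [Ideal.Quotient.eq]
          exact Ideal.mem_of_dvd _ (Polynomial.sub_dvd_eval_sub _ _ _) (ha2 j)
        rw [e2]
        exact h2' j
    obtain ⟨b, hb⟩ := commRingCat_limit_exists F a hcompat
    refine ⟨b, ?_, ?_⟩
    · rw [Polynomial.IsRoot.def]
      apply commRingCat_limit_ext
      intro j
      rw [map_zero, ← Polynomial.eval_map_apply, hb]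
      exact ha1 j
    · rw [hmem]
      intro j
      rw [map_sub, hb]
      exact ha2 j

end Groth.Agent.S9302
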