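import Groth.Statements.S9303
import Groth.Agent.H27.IdemGlue

set_option autoImplicit false
universe u
open CAlg

namespace Groth.Agent.S9303

/-- Let A be a ring, I a finitely generated ideal and A → C a ring map such that for every f ∈ I the map
A_f → C_f is the localization of A_f at an idempotent. Then there is a surjection A → C' (C' = A/K
for an ideal K) such that A_f → (C × C')_f is an isomorphism for every f ∈ I. -/
theorem result (A : Type u) [CommRing A]
    (I : Ideal A) (hI : I.FG) (C : Type u) [CommRing C] [Algebra A C]
    (h : ∀ f ∈ I, ∃ e : Localization.Away f, IsIdempotentElem e ∧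
      IsLocalization.Away e (Localization (Algebra.algebraMapSubmonoid C (Submonoid.powers f)))) :
    ∃ K : Ideal A, ∀ f ∈ I, Function.Bijective
      (algebraMap (Localization.Away f)
        (Localization (Algebra.algebraMapSubmonoid (C × (A ⧸ K)) (Submonoid.powers f)))) := by
  obtain ⟨K, hK⟩ := Groth.Agent.H27.IdemGlue.main (C := C) I hI
    (fun f hf => Groth.Agent.H27.IdemGlue.exists_isData_of_away f (h f hf))
  exact ⟨K, fun f hf =>
    Groth.Agent.H27.IdemGlue.bijective_algebraMap_away f (hK f hf).1 (hK f hf).2⟩

end Groth.Agent.S9303
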