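import Groth.Statements.S9311
import Groth.Agent.H75.LinSubst2

set_option autoImplicit false
universe u
open CAlg

namespace Groth.Agent.S9311

/-- Let Λ be a Cohen ring (a complete discrete valuation ring whose maximal ideal is generated by a
prime number p), B = Λ[[x_1, ..., x_n]], and y_1, ..., y_n ∈ B with zero constant terms such that p,
y_1, ..., y_n is a regular system of parameters of B (these n + 1 elements generate the maximal
ideal). Then the substitution map Λ[[y_1, ..., y_n]] → B is an isomorphism: f ↦ f(y_1, ..., y_n) is
a bijection of Λ[[x_1, ..., x_n]] onto itself. (The published statement allows the y_i to have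
constant terms in pΛ, the substitution being defined through the (p, x)-adic topology of B; this row
asks the constant terms to vanish, the case in which substitution is defined coefficientwise with no
topology on Λ.) -/
theorem result (Λ : Type u) [CommRing Λ] [IsDomain Λ]
    [IsDiscreteValuationRing Λ] [IsAdicComplete (IsLocalRing.maximalIdeal Λ) Λ] (p : ℕ) (hp : p.Prime)
    (hm : IsLocalRing.maximalIdeal Λ = Ideal.span {(p : Λ)}) (n : ℕ)
    (y : Fin n → MvPowerSeries (Fin n) Λ) (hy0 : ∀ i, MvPowerSeries.constantCoeff (y i) = 0)
    (hy : Ideal.span (insert (p : MvPowerSeries (Fin n) Λ) (Set.range y)) =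
      IsLocalRing.maximalIdeal (MvPowerSeries (Fin n) Λ)) :
    Function.Bijective (MvPowerSeries.subst y : MvPowerSeries (Fin n) Λ → MvPowerSeries (Fin n) Λ) := by
  have hp' : (p : Λ) ∈ IsLocalRing.maximalIdeal Λ := by
    rw [hm]; exact Ideal.mem_span_singleton_self _
  refine Groth.Agent.H75.subst_bijective_of_span_insert (p : Λ) hp' n y hy0 ?_
  intro j
  have e : (MvPowerSeries.C (p : Λ) : MvPowerSeries (Fin n) Λ) = (p : MvPowerSeries (Fin n) Λ) :=
    map_natCast _ p
  rw [e, hy, IsLocalRing.mem_maximalIdeal, mem_nonunits_iff, MvPowerSeries.isUnit_iff_constantCoeff,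
    MvPowerSeries.constantCoeff_X]
  exact not_isUnit_zero

end Groth.Agent.S9311
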