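import Groth.Statements.S9315
import Groth.Agent.H46.AdicSmoothLocal

set_option autoImplicit false
universe u
open CAlg

namespace Groth.Agent.S9315

open IsLocalRing Groth.Agent.H46 in
/-- Let `R → S` be a local homomorphism of local rings (no Noetherian hypothesis). Then `R → S` is
formally smooth for the adic topology of the maximal ideal of `S` if and only if the following
lifting property holds: for every local ring `A` with a local structure map `R → A`, every ideal `J`
of `A` of square zero such that some power of the maximal ideal of `A` is zero, and every local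
`R`-algebra homomorphism `ψ : S → A/J` inducing a bijection on residue fields, there is an
`R`-algebra homomorphism `S → A` lifting `ψ`. -/
theorem result {R S : Type u} [CommRing R] [CommRing S]
    [IsLocalRing R] [IsLocalRing S] [Algebra R S] [IsLocalHom (algebraMap R S)] :
    CAlgX.IsAdicFormallySmooth R S (maximalIdeal S) ↔
      ∀ (A : Type u) [CommRing A] [IsLocalRing A] [Algebra R A] [IsLocalHom (algebraMap R A)]
        (J : Ideal A), J ^ 2 = ⊥ → (∃ n : ℕ, maximalIdeal A ^ n = ⊥) →
        ∀ [IsLocalRing (A ⧸ J)] (ψ : S →ₐ[R] A ⧸ J) [IsLocalHom ψ.toRingHom],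
          Function.Bijective (ResidueField.map ψ.toRingHom) →
          ∃ χ : S →ₐ[R] A, (Ideal.Quotient.mkₐ R J).comp χ = ψ := by
  constructor
  · intro h A _ _ _ _ J hJ hn _ ψ _ _
    obtain ⟨n, hn⟩ := hn
    apply h A J hJ ψ
    refine ⟨n, ?_⟩
    intro x hx
    have h1 : (maximalIdeal S).map ψ.toRingHom ≤ (maximalIdeal A).map (Ideal.Quotient.mk J) := by
      rw [Ideal.map_le_iff_le_comap]
      intro s hs
      rw [Ideal.mem_comap]
      obtain ⟨a, ha⟩ := Ideal.Quotient.mk_surjective (ψ.toRingHom s)
      rw [← ha]
      apply Ideal.mem_map_of_mem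
      rw [mem_maximalIdeal, mem_nonunits_iff] at hs ⊢
      intro hau
      apply hs
      have : IsUnit (ψ.toRingHom s) := by rw [← ha]; exact hau.map _
      exact isUnit_of_map_unit ψ.toRingHom s this
    have h2 : ψ.toRingHom x ∈ (maximalIdeal S ^ n).map ψ.toRingHom := Ideal.mem_map_of_mem _ hx
    rw [Ideal.map_pow] at h2
    have h3 := Ideal.pow_right_mono h1 n h2
    rw [← Ideal.map_pow, hn, Ideal.map_bot] at h3
    exact h3
  · intro H
    apply isAdicFormallySmooth_of_surjLift
    intro t A' _ _ p hp hK
    obtain ⟨hA', hRA', hQ, ψ', hψ', hnil, -, hbij, hfin⟩ := local_data t A' p hp hK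
    obtain ⟨χ, hχ⟩ := H A' (RingHom.ker p) hK ⟨_, hnil⟩ ψ' hbij
    exact ⟨χ, hfin χ hχ⟩

end Groth.Agent.S9315
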