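import Groth.Statements.S9321
import Groth.Agent.H46.PowerSeriesSmooth

set_option autoImplicit false
open CAlg

namespace Groth.Agent.S9321

/-- Let `K` be a field of characteristic zero and `n ≥ 0`. Then `ℚ → K[[x_1, …, x_n]]` is formally
smooth for the adic topology of the maximal ideal of the power series ring. (`K` is taken in the
lowest universe, where `ℚ` lives.) -/
theorem result (K : Type) [Field K] [CharZero K] (n : ℕ) :
    CAlgX.IsAdicFormallySmooth ℚ (MvPowerSeries (Fin n) K)
      (IsLocalRing.maximalIdeal (MvPowerSeries (Fin n) K)) := by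
  have : Algebra.FormallySmooth ℚ K := Groth.Agent.H46.formallySmooth_rat_of_charZero K
  exact Groth.Agent.H46.isAdicFormallySmooth_mono (Groth.Agent.H46.span_X_le_maximalIdeal K n)
    (Groth.Agent.H46.isAdicFormallySmooth_mvPowerSeries ℚ K n)

end Groth.Agent.S9321
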