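import Groth.Statements.S9323
import Groth.Agent.H47.CohenPS

set_option autoImplicit false
open CAlg

namespace Groth.Agent.S9323

/-- Let `Λ` be a Cohen ring (a complete discrete valuation ring whose maximal ideal is generated by a
prime number) and `n ≥ 0`. Then `ℤ → Λ[[x_1, …, x_n]]` is formally smooth for the adic topology of
the maximal ideal of the power series ring. (`Λ` is taken in the lowest universe, where `ℤ` lives.) -/
theorem result (Λ : Type) [CommRing Λ] [IsLocalRing Λ]
    (hΛ : CAlg.IsCohenRing Λ) (n : ℕ) :
    CAlgX.IsAdicFormallySmooth ℤ (MvPowerSeries (Fin n) Λ)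
      (IsLocalRing.maximalIdeal (MvPowerSeries (Fin n) Λ)) := by
  exact Groth.Agent.H47.CohenPS.isAdicFormallySmooth_mvPowerSeries Λ hΛ n

end Groth.Agent.S9323
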