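import Groth.Statements.S9331
import Mathlib.AlgebraicGeometry.Morphisms.Integral
import Mathlib.AlgebraicGeometry.Fiber

set_option autoImplicit false
universe u
open QFin

namespace Groth.Agent.S9331

open AlgebraicGeometry CategoryTheory in
/-- Let f : X → S be a morphism of schemes, x ∈ X, s = f x. If κ(x) is algebraic over κ(s) (through the
residue field map of f at x), then x is a closed point of the fibre X_s, and if in addition s is
closed in S then x is closed in X. -/
theorem result {X S : Scheme.{u}} (f : X ⟶ S) (x : X)
    (halg : @Algebra.IsAlgebraic (S.residueField (f.base x)) (X.residueField x) _ _ (f.residueFieldMap x).hom.toAlgebra) :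
    IsClosed ({f.asFiber x} : Set ↑(f.fiber (f.base x))) ∧
      (IsClosed ({f.base x} : Set ↑S) → IsClosed ({x} : Set ↑X)) := by
  classical
  set F := f.fiber (f.base x) with hF
  set y := f.asFiber x with hy
  set a := f.asFiberHom x with ha
  set p := f.fiberToSpecResidueField (f.base x) with hp
  -- the composite is an integral morphism
  have hint : IsIntegralHom (a ≫ p) := by
    rw [ha, hp, Scheme.Hom.asFiberHom_fiberToSpecResidueField, IsIntegralHom.SpecMap_iff]
    intro t
    letI := (f.residueFieldMap x).hom.toAlgebra
    haveI := halg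
    exact (Algebra.IsIntegral.isIntegral (R := S.residueField (f.base x)) t)
  -- part 1
  have hclosed : IsClosed ({y} : Set ↑F) := by
    rw [← closure_eq_iff_isClosed]
    refine Set.Subset.antisymm ?_ subset_closure
    intro z hz
    rw [Set.mem_singleton_iff]
    obtain ⟨U, hU, hzU, -⟩ := exists_isAffineOpen_mem_and_subset (U := ⊤) (x := z) (by simp)
    have hyU : y ∈ U := by
      obtain ⟨w, hwU, hw⟩ := mem_closure_iff.mp hz U.1 U.2 hzU
      rw [Set.mem_singleton_iff] at hw
      rwa [hw] at hwU
    have hrange : Set.range a.base ⊆ Set.range U.ι.base := by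
      rw [ha, Scheme.Hom.range_asFiberHom, Scheme.Opens.range_ι]
      rintro _ rfl
      exact hyU
    let a' : Spec (X.residueField x) ⟶ ↑U := IsOpenImmersion.lift U.ι a hrange
    have ha' : a' ≫ U.ι = a := IsOpenImmersion.lift_fac _ _ _
    haveI : IsAffine (↑U : Scheme) := hU
    haveI : IsIntegralHom (a' ≫ (U.ι ≫ p)) := by
      rw [← Category.assoc, ha']; exact hint
    haveI : IsIntegralHom a' := IsIntegralHom.of_comp a' (U.ι ≫ p)
    have hcl : IsClosed (Set.range a'.base) := a'.isClosedMap.isClosed_range
    -- the points of U
    let y' : ↑U := ⟨y, hyU⟩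
    let z' : ↑U := ⟨z, hzU⟩
    have hra' : Set.range a'.base = {y'} := by
      ext w
      simp only [Set.mem_range, Set.mem_singleton_iff]
      constructor
      · rintro ⟨t, rfl⟩
        apply U.ι.isEmbedding.injective
        rw [← Scheme.Hom.comp_apply, ha']
        show a.base t = y
        rw [ha, Scheme.Hom.asFiberHom_apply]
      · rintro rfl
        refine ⟨default, ?_⟩
        apply U.ι.isEmbedding.injective
        rw [← Scheme.Hom.comp_apply, ha']
        show a.base default = y
        rw [ha, Scheme.Hom.asFiberHom_apply]
    rw [hra'] at hcl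
    have hsp : y ⤳ z := specializes_iff_mem_closure.mpr hz
    have hsp' : y' ⤳ z' := (U.ι.isEmbedding.isInducing.specializes_iff).mp hsp
    have := hsp'.mem_closed hcl (Set.mem_singleton y')
    exact congrArg Subtype.val (Set.mem_singleton_iff.mp this)
  refine ⟨hclosed, fun hs => ?_⟩
  rw [← closure_eq_iff_isClosed]
  refine Set.Subset.antisymm ?_ subset_closure
  intro z hz
  rw [Set.mem_singleton_iff]
  have hsp : x ⤳ z := specializes_iff_mem_closure.mpr hz
  have hfz : f.base z = f.base x := by
    have := (hsp.map f.base.hom.continuous).mem_closed hs (Set.mem_singleton _)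
    exact Set.mem_singleton_iff.mp this
  have hzr : z ∈ Set.range (f.fiberι (f.base x)).base := by
    rw [Scheme.Hom.range_fiberι]; exact hfz
  obtain ⟨z'', rfl⟩ := hzr
  have hsp2 : (f.fiberι (f.base x)).base y ⤳ (f.fiberι (f.base x)).base z'' := by
    rw [show (f.fiberι (f.base x)).base y = x from f.fiberι_asFiber x]; exact hsp
  have hsp' : y ⤳ z'' := ((f.fiberι (f.base x)).isEmbedding.isInducing.specializes_iff).mp hsp2
  have := hsp'.mem_closed hclosed (Set.mem_singleton y)
  rw [Set.mem_singleton_iff.mp this]
  exact (f.fiberι_asFiber x)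

end Groth.Agent.S9331
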