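import Groth.Statements.S9335
import Mathlib.AlgebraicGeometry.Noetherian
import Mathlib.AlgebraicGeometry.Morphisms.QuasiFinite
import Mathlib.Topology.DiscreteSubset

set_option autoImplicit false
universe u
open QFin

namespace Groth.Agent.S9335

open AlgebraicGeometry CategoryTheory in
/-- If f : X → S is of finite type and s ∈ S, then f is quasi-finite at only finitely many points of the
fibre over s. -/
theorem result {X S : Scheme.{u}} (f : X ⟶ S) [LocallyOfFiniteType f] [QuasiCompact f] (s : S) :
    {x : ↑X | f.base x = s ∧ f.QuasiFiniteAt x}.Finite := by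
  classical
  haveI : LocallyOfFiniteType (f.fiberToSpecResidueField s) :=
    MorphismProperty.pullback_snd _ _ inferInstance
  haveI : IsLocallyNoetherian (f.fiber s) :=
    LocallyOfFiniteType.isLocallyNoetherian (f.fiberToSpecResidueField s)
  haveI : IsNoetherian (f.fiber s) := { }
  let E : Set ↑(f.fiber s) := {y | IsOpen ({y} : Set ↑(f.fiber s))}
  have hEdisc : _root_.IsDiscrete E := by
    rw [isDiscrete_iff_forall_mem_exists_isOpen]
    intro y hy
    refine ⟨{y}, hy, ?_⟩
    ext z
    simp only [Set.mem_inter_iff, Set.mem_singleton_iff]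
    constructor
    · exact fun h => h.1
    · rintro rfl; exact ⟨rfl, hy⟩
  have hEfin : E.Finite := (TopologicalSpace.NoetherianSpace.isCompact E).finite hEdisc
  refine (hEfin.image (f.fiberι s).base).subset ?_
  rintro x ⟨rfl, hx⟩
  refine ⟨f.asFiber x, ?_, f.fiberι_asFiber x⟩
  exact Scheme.Hom.quasiFiniteAt_iff_isOpen_singleton_asFiber.mp hx

end Groth.Agent.S9335
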