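import Groth.Statements.S9336
import Groth.Agent.S9332
import Groth.Agent.S9334
import Mathlib.AlgebraicGeometry.ZariskisMainTheorem

set_option autoImplicit false
universe u
open QFin

namespace Groth.Agent.S9336

open AlgebraicGeometry CategoryTheory in
/-- Let f : X → Y be surjective and g : Y → S locally of finite type. If g ∘ f is locally quasi-finite
(and locally of finite type), then g is locally quasi-finite. -/
theorem result {X Y S : Scheme.{u}} (f : X ⟶ Y) (g : Y ⟶ S) [Surjective f]
    [LocallyQuasiFinite (f ≫ g)] [LocallyOfFiniteType (f ≫ g)] [LocallyOfFiniteType g] :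
    LocallyQuasiFinite g := by
  rw [← Scheme.Hom.quasiFiniteLocus_eq_top_iff, eq_top_iff]
  -- all points of Y are closed in their fibre
  have hclosed : ∀ y' : Y, IsClosed ({g.asFiber y'} : Set ↑(g.fiber (g.base y'))) := by
    intro y'
    obtain ⟨x', rfl⟩ := f.surjective y'
    rw [Groth.Agent.S9332.result]
    have h1 : (f ≫ g).QuasiFiniteAt x' := (f ≫ g).quasiFiniteAt x'
    have h2 := ((Groth.Agent.S9334.result (f ≫ g) x').mp h1).1
    rw [Groth.Agent.S9332.result] at h2
    set φ := (g.residueFieldMap (f.base x')).hom with hφ
    set ψ := (f.residueFieldMap x').hom with hψ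
    have h2' : (ψ.comp φ).Finite := by
      rw [Scheme.residueFieldMap_comp] at h2
      exact h2
    letI : Algebra (S.residueField (g.base (f.base x'))) (Y.residueField (f.base x')) := φ.toAlgebra
    letI : Algebra (Y.residueField (f.base x')) (X.residueField x') := ψ.toAlgebra
    letI : Algebra (S.residueField (g.base (f.base x'))) (X.residueField x') :=
      (ψ.comp φ).toAlgebra
    haveI : IsScalarTower (S.residueField (g.base (f.base x'))) (Y.residueField (f.base x'))
        (X.residueField x') := IsScalarTower.of_algebraMap_eq (fun _ => rfl)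
    haveI : Module.Finite (S.residueField (g.base (f.base x'))) (X.residueField x') := h2'
    haveI : IsNoetherian (S.residueField (g.base (f.base x'))) (X.residueField x') :=
      isNoetherian_of_isNoetherianRing_of_finite _ _
    exact Module.Finite.of_injective
      (IsScalarTower.toAlgHom (S.residueField (g.base (f.base x'))) (Y.residueField (f.base x'))
        (X.residueField x')).toLinearMap ψ.injective
  have hclosed' : ∀ (s : S) (z : ↑(g.fiber s)), IsClosed ({z} : Set ↑(g.fiber s)) := by
    intro s z
    obtain ⟨y', hy'⟩ : ∃ y', (g.fiberι s).base z = y' := ⟨_, rfl⟩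
    have hs : g.base y' = s := by
      have : (g.fiberι s).base z ∈ Set.range (g.fiberι s).base := ⟨z, rfl⟩
      rw [Scheme.Hom.range_fiberι] at this
      rw [← hy']; exact this
    subst hs
    have hz : z = g.asFiber y' := by
      apply (g.fiberι (g.base y')).isEmbedding.injective
      rw [hy', Scheme.Hom.fiberι_asFiber]
    rw [hz]; exact hclosed y'
  intro y _
  show g.QuasiFiniteAt y
  rw [Groth.Agent.S9334.result]
  refine ⟨hclosed y, fun z hz => ?_⟩
  have := hz.mem_closed (hclosed' _ z) (Set.mem_singleton z)
  exact (Set.mem_singleton_iff.mp this).symm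

end Groth.Agent.S9336
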