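import Groth.Statements.S9342
import Groth.Agent.H47.Goldman
import Mathlib.AlgebraicGeometry.Morphisms.Finite
import Mathlib.AlgebraicGeometry.Morphisms.ClosedImmersion
import Mathlib.AlgebraicGeometry.ResidueField

set_option autoImplicit false
universe u
open FtPts

namespace Groth.Agent.S9342

open AlgebraicGeometry CategoryTheory in
/-- The finite type points of a scheme S are exactly the points that are closed in some affine open
neighbourhood. -/
theorem result (S : Scheme.{u}) (s : S) :
    LocallyOfFiniteType (S.fromSpecResidueField s) ↔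
      ∃ U : S.Opens, IsAffineOpen U ∧ ∃ hs : s ∈ U, IsClosed ({⟨s, hs⟩} : Set ↥U) := by
  classical
  constructor
  · intro hlft
    obtain ⟨U₀, hU₀, hsU₀, -⟩ := exists_isAffineOpen_mem_and_subset (U := ⊤) (x := s) (by simp)
    have hrange : s ∈ Set.range hU₀.fromSpec.base := by rw [hU₀.range_fromSpec]; exact hsU₀
    obtain ⟨p, rfl⟩ := hrange
    have h1 : LocallyOfFiniteType ((Spec Γ(S, U₀)).fromSpecResidueField p ≫ hU₀.fromSpec) := by
      rw [← Scheme.Hom.SpecMap_residueFieldMap_fromSpecResidueField]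
      infer_instance
    have h2 : LocallyOfFiniteType ((Spec Γ(S, U₀)).fromSpecResidueField p) :=
      locallyOfFiniteType_of_comp _ hU₀.fromSpec
    rw [← Scheme.Spec.map_residueFieldIso_inv_eq_fromSpecResidueField,
      MorphismProperty.cancel_left_of_respectsIso (P := @LocallyOfFiniteType),
      HasRingHomProperty.Spec_iff (P := @LocallyOfFiniteType)] at h2
    -- algebra
    haveI hft : Algebra.FiniteType Γ(S, U₀) p.asIdeal.ResidueField :=
      RingHom.finiteType_algebraMap.mp h2
    haveI : Algebra.FiniteType (Γ(S, U₀) ⧸ p.asIdeal) p.asIdeal.ResidueField :=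
      Algebra.FiniteType.of_restrictScalars_finiteType Γ(S, U₀) _ _
    haveI : FaithfulSMul (Γ(S, U₀) ⧸ p.asIdeal) p.asIdeal.ResidueField :=
      (faithfulSMul_iff_algebraMap_injective _ _).mpr
        (IsFractionRing.injective (Γ(S, U₀) ⧸ p.asIdeal) p.asIdeal.ResidueField)
    obtain ⟨g, hg0, hg⟩ := Groth.Agent.H47.exists_ne_zero_forall_prime_mem
      (Γ(S, U₀) ⧸ p.asIdeal) p.asIdeal.ResidueField
    obtain ⟨r, rfl⟩ := Ideal.Quotient.mk_surjective g
    have hrp : r ∉ p.asIdeal := fun h => hg0 (Ideal.Quotient.eq_zero_iff_mem.mpr h)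
    -- the affine open
    have hU : IsAffineOpen (S.basicOpen r) := hU₀.basicOpen r
    have hmem : ∀ q : Spec Γ(S, U₀), hU₀.fromSpec.base q ∈ S.basicOpen r ↔ r ∉ q.asIdeal := by
      intro q
      have : hU₀.fromSpec.base q ∈ S.basicOpen r ↔ q ∈ hU₀.fromSpec ⁻¹ᵁ S.basicOpen r := Iff.rfl
      rw [this, hU₀.fromSpec_preimage_basicOpen]
      exact PrimeSpectrum.mem_basicOpen r q
    have hsU : hU₀.fromSpec.base p ∈ S.basicOpen r := (hmem p).mpr hrp
    refine ⟨S.basicOpen r, hU, hsU, ?_⟩
    rw [← closure_eq_iff_isClosed]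
    refine Set.Subset.antisymm ?_ subset_closure
    rintro ⟨z, hzU⟩ hz
    rw [Set.mem_singleton_iff]
    have hsp' : (⟨hU₀.fromSpec.base p, hsU⟩ : ↥(S.basicOpen r)) ⤳ ⟨z, hzU⟩ :=
      specializes_iff_mem_closure.mpr hz
    have hsp : hU₀.fromSpec.base p ⤳ z := hsp'.map continuous_subtype_val
    have hzU₀ : z ∈ Set.range hU₀.fromSpec.base := by
      rw [hU₀.range_fromSpec]; exact S.basicOpen_le r hzU
    obtain ⟨q, rfl⟩ := hzU₀
    have hpq : p ⤳ q := (hU₀.fromSpec.isOpenEmbedding.isInducing.specializes_iff).mp hsp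
    have hle : p.asIdeal ≤ q.asIdeal := (PrimeSpectrum.le_iff_specializes p q).mpr hpq
    have hrq : r ∉ q.asIdeal := (hmem q).mp hzU
    -- the prime q / p of the quotient
    have hqbot : q.asIdeal.map (Ideal.Quotient.mk p.asIdeal) = ⊥ := by
      by_contra hne
      have hprime : (q.asIdeal.map (Ideal.Quotient.mk p.asIdeal)).IsPrime :=
        Ideal.map_isPrime_of_surjective Ideal.Quotient.mk_surjective (by rwa [Ideal.mk_ker])
      have := hg _ hprime hne
      rw [Ideal.mem_map_iff_of_surjective _ Ideal.Quotient.mk_surjective] at this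
      obtain ⟨r', hr'q, hr'⟩ := this
      rw [Ideal.Quotient.eq] at hr'
      have : r ∈ q.asIdeal := by
        have h3 : r = r' - (r' - r) := by ring
        rw [h3]
        exact Ideal.sub_mem _ hr'q (hle hr')
      exact hrq this
    have hqp : q = p := by
      apply PrimeSpectrum.ext
      apply le_antisymm _ hle
      intro x hx
      have : Ideal.Quotient.mk p.asIdeal x ∈ q.asIdeal.map (Ideal.Quotient.mk p.asIdeal) :=
        Ideal.mem_map_of_mem _ hx
      rw [hqbot, Ideal.mem_bot, Ideal.Quotient.eq_zero_iff_mem] at this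
      exact this
    subst hqp
    rfl
  · rintro ⟨U, hU, hs, hcl⟩
    have h1 : IsClosedImmersion ((↑U : Scheme).fromSpecResidueField ⟨s, hs⟩) :=
      isClosed_singleton_iff_isClosedImmersion.mp hcl
    have h2 : LocallyOfFiniteType ((↑U : Scheme).fromSpecResidueField ⟨s, hs⟩ ≫ U.ι) :=
      inferInstance
    rw [← Scheme.Hom.SpecMap_residueFieldMap_fromSpecResidueField,
      MorphismProperty.cancel_left_of_respectsIso (P := @LocallyOfFiniteType)] at h2
    exact h2

end Groth.Agent.S9342
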