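import Groth.Statements.S9337
import Groth.Agent.S9342
import Groth.Agent.H47.FtPoint

set_option autoImplicit false
universe u
open FtPts

namespace Groth.Agent.S9337

open AlgebraicGeometry CategoryTheory in
/-- Let k be a field and f : Spec k → S a morphism of schemes with image point u. Then f is locally of
finite type if and only if some affine open U ∋ u of S has u as a closed point and the residue field
of Spec k (that is, k) is finite over κ(u). -/
theorem result (S : Scheme.{u}) (k : Type u) [Field k] (f : Spec (CommRingCat.of k) ⟶ S) :
    LocallyOfFiniteType f ↔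
      ∃ U : S.Opens, IsAffineOpen U ∧ ∃ hu : f.base (IsLocalRing.closedPoint k) ∈ U,
        IsClosed ({⟨f.base (IsLocalRing.closedPoint k), hu⟩} : Set ↥U) ∧
          (f.residueFieldMap (IsLocalRing.closedPoint k)).hom.Finite := by
  classical
  set pt : Spec (CommRingCat.of k) := IsLocalRing.closedPoint k with hpt
  -- the residue field inclusion of `Spec k` is an isomorphism
  have hiso : IsIso ((Spec (CommRingCat.of k)).fromSpecResidueField pt) := by
    rw [← Scheme.Spec.map_residueFieldIso_inv_eq_fromSpecResidueField]
    have : IsIso (CommRingCat.ofHom (algebraMap k pt.asIdeal.ResidueField)) := by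
      have hbij : Function.Bijective (algebraMap k pt.asIdeal.ResidueField) :=
        (Ideal.algEquivResidueFieldOfField pt.asIdeal).bijective
      exact (ConcreteCategory.isIso_iff_bijective _).mpr hbij
    infer_instance
  have hcomp := Scheme.Hom.SpecMap_residueFieldMap_fromSpecResidueField (f := f) pt
  constructor
  · intro hlft
    obtain ⟨U, hU, hs, hcl⟩ :=
      Groth.Agent.H47.exists_isAffineOpen_isClosed_singleton_of_locallyOfFiniteType k f pt
    refine ⟨U, hU, hs, hcl, ?_⟩
    have h1 : LocallyOfFiniteType (S.fromSpecResidueField (f.base pt)) :=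
      (Groth.Agent.S9342.result S (f.base pt)).mpr ⟨U, hU, hs, hcl⟩
    have h2 : LocallyOfFiniteType
        (Spec.map (f.residueFieldMap pt) ≫ S.fromSpecResidueField (f.base pt)) := by
      rw [hcomp]; infer_instance
    have h3 : LocallyOfFiniteType (Spec.map (f.residueFieldMap pt)) :=
      locallyOfFiniteType_of_comp _ (S.fromSpecResidueField (f.base pt))
    have h4 := (isFinite_iff_locallyOfFiniteType_of_jacobsonSpace
      (f := Spec.map (f.residueFieldMap pt))).mpr h3
    exact (IsFinite.SpecMap_iff _).mp h4
  · rintro ⟨U, hU, hs, hcl, hfin⟩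
    have h1 : LocallyOfFiniteType (S.fromSpecResidueField (f.base pt)) :=
      (Groth.Agent.S9342.result S (f.base pt)).mpr ⟨U, hU, hs, hcl⟩
    have h2 : IsFinite (Spec.map (f.residueFieldMap pt)) := (IsFinite.SpecMap_iff _).mpr hfin
    have h3 : LocallyOfFiniteType
        (Spec.map (f.residueFieldMap pt) ≫ S.fromSpecResidueField (f.base pt)) := inferInstance
    rw [hcomp, MorphismProperty.cancel_left_of_respectsIso (P := @LocallyOfFiniteType)] at h3
    exact h3

end Groth.Agent.S9337
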