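import Groth.Statements.S9338
import Groth.Agent.H47.ArtinFT
import Mathlib.AlgebraicGeometry.Morphisms.FiniteType
import Mathlib.AlgebraicGeometry.Morphisms.ClosedImmersion

set_option autoImplicit false
universe u
open FtPts

namespace Groth.Agent.S9338

open AlgebraicGeometry CategoryTheory in
/-- For an Artinian local ring A with residue field κ, a morphism f : Spec A → S is (locally) of finite
type exactly when the composite Spec κ → Spec A → S is. -/
theorem result (S : Scheme.{u}) (A : Type u) [CommRing A] [IsArtinianRing A] [IsLocalRing A]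
    (f : Spec (CommRingCat.of A) ⟶ S) :
    LocallyOfFiniteType f ↔
      LocallyOfFiniteType (Spec.map (CommRingCat.ofHom (IsLocalRing.residue A)) ≫ f) := by
  classical
  haveI : IsClosedImmersion (Spec.map (CommRingCat.ofHom (IsLocalRing.residue A))) :=
    IsClosedImmersion.spec_of_surjective _ IsLocalRing.residue_surjective
  constructor
  · intro h
    infer_instance
  · intro hlft
    set pt : Spec (CommRingCat.of A) := IsLocalRing.closedPoint A with hpt
    obtain ⟨U₀, hU₀, hsU₀, -⟩ :=
      exists_isAffineOpen_mem_and_subset (U := ⊤) (x := f.base pt) (by simp)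
    have hrange : Set.range f.base ⊆ Set.range hU₀.fromSpec.base := by
      rintro _ ⟨w, rfl⟩
      rw [hU₀.range_fromSpec]
      have hsp : w ⤳ pt := IsLocalRing.specializes_closedPoint w
      exact (hsp.map f.base.hom.continuous).mem_open U₀.2 hsU₀
    let f' : Spec (CommRingCat.of A) ⟶ Spec Γ(S, U₀) := IsOpenImmersion.lift hU₀.fromSpec f hrange
    have hf' : f' ≫ hU₀.fromSpec = f := IsOpenImmersion.lift_fac _ _ _
    obtain ⟨ψ, hψ⟩ := Spec.map_surjective f'
    have h1 : LocallyOfFiniteType
        ((Spec.map (CommRingCat.ofHom (IsLocalRing.residue A)) ≫ Spec.map ψ) ≫ hU₀.fromSpec) := by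
      rw [Category.assoc, hψ, hf']; exact hlft
    have h2 : LocallyOfFiniteType
        (Spec.map (CommRingCat.ofHom (IsLocalRing.residue A)) ≫ Spec.map ψ) :=
      locallyOfFiniteType_of_comp _ hU₀.fromSpec
    rw [← Spec.map_comp, HasRingHomProperty.Spec_iff (P := @LocallyOfFiniteType)] at h2
    letI : Algebra Γ(S, U₀) A := ψ.hom.toAlgebra
    haveI : Algebra.FiniteType Γ(S, U₀) (IsLocalRing.ResidueField A) := h2
    have h3 : Algebra.FiniteType Γ(S, U₀) A :=
      Groth.Agent.H47.finiteType_of_finiteType_residueField Γ(S, U₀) A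
    have h4 : LocallyOfFiniteType (Spec.map ψ) := by
      rw [HasRingHomProperty.Spec_iff (P := @LocallyOfFiniteType)]
      exact h3
    rw [← hf', ← hψ]
    infer_instance

end Groth.Agent.S9338
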