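import Groth.Statements.S9339
import Groth.Agent.S9342
import Groth.Agent.H47.FtPoint

set_option autoImplicit false
universe u
open FtPts

namespace Groth.Agent.S9339

open AlgebraicGeometry CategoryTheory in
/-- A morphism locally of finite type maps finite type points (points s whose canonical morphism Spec
κ(s) → S is locally of finite type) to finite type points. -/
theorem result {T S : Scheme.{u}} (f : T ⟶ S) [LocallyOfFiniteType f] :
    f.base '' {t : ↑T | LocallyOfFiniteType (T.fromSpecResidueField t)} ⊆
      {s : ↑S | LocallyOfFiniteType (S.fromSpecResidueField s)} := by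
  rintro _ ⟨t, ht, rfl⟩
  show LocallyOfFiniteType (S.fromSpecResidueField (f.base t))
  haveI : LocallyOfFiniteType (T.fromSpecResidueField t) := ht
  haveI : LocallyOfFiniteType (T.fromSpecResidueField t ≫ f) := inferInstance
  obtain ⟨U, hU, hs, hcl⟩ :=
    Groth.Agent.H47.exists_isAffineOpen_isClosed_singleton_of_locallyOfFiniteType
      (T.residueField t) (T.fromSpecResidueField t ≫ f) default
  have hpt : (T.fromSpecResidueField t ≫ f).base default = f.base t := by
    rw [Scheme.Hom.comp_apply, Scheme.fromSpecResidueField_apply]
  rw [Groth.Agent.S9342.result]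
  refine ⟨U, hU, hpt ▸ hs, ?_⟩
  convert hcl using 2
  exact Subtype.ext hpt.symm

end Groth.Agent.S9339
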