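import Groth.Statements.S9340
import Groth.Agent.S9339
import Groth.Agent.S9342
import Groth.Agent.H47.FtPoint
import Mathlib.AlgebraicGeometry.Fiber

set_option autoImplicit false
universe u
open FtPts

namespace Groth.Agent.S9340

open AlgebraicGeometry CategoryTheory in
/-- A surjective morphism locally of finite type maps the set of finite type points of the source onto
the set of finite type points of the target. -/
theorem result {T S : Scheme.{u}} (f : T ⟶ S) [LocallyOfFiniteType f] [Surjective f] :
    f.base '' {t : ↑T | LocallyOfFiniteType (T.fromSpecResidueField t)} =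
      {s : ↑S | LocallyOfFiniteType (S.fromSpecResidueField s)} := by
  classical
  apply Set.Subset.antisymm (Groth.Agent.S9339.result f)
  intro s hs
  have hs' : LocallyOfFiniteType (S.fromSpecResidueField s) := hs
  obtain ⟨t0, rfl⟩ := f.surjective s
  -- a closed point of the fibre
  obtain ⟨W, hW, hyW, -⟩ :=
    exists_isAffineOpen_mem_and_subset (U := ⊤) (x := f.asFiber t0) (by simp)
  haveI : CompactSpace ↥W := isCompact_iff_compactSpace.mp hW.isCompact
  obtain ⟨⟨y, hyW'⟩, -, hcl⟩ :=
    (isClosed_univ : IsClosed (Set.univ : Set ↥W)).exists_closed_singleton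
      ⟨⟨_, hyW⟩, trivial⟩
  have hycl : IsClosed ({y} : Set ↑(f.fiber (f.base t0))) := by
    apply isClosed_singleton_of_isLocallyClosed_singleton
    obtain ⟨Z, hZ, hZeq⟩ := isClosed_induced_iff.mp hcl
    refine ⟨W.1, Z, W.2, hZ, ?_⟩
    ext z
    simp only [Set.mem_singleton_iff, Set.mem_inter_iff]
    constructor
    · intro hzy
      rw [hzy]
      refine ⟨hyW', ?_⟩
      have : (⟨y, hyW'⟩ : ↥W) ∈ Subtype.val ⁻¹' Z := by rw [hZeq]; rfl
      exact this
    · rintro ⟨hzW, hzZ⟩
      have : (⟨z, hzW⟩ : ↥W) ∈ ({⟨y, hyW'⟩} : Set ↥W) := by rw [← hZeq]; exact hzZ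
      exact congrArg Subtype.val (Set.mem_singleton_iff.mp this)
  -- the point of T
  refine ⟨(f.fiberι (f.base t0)).base y, ?_, ?_⟩
  · show LocallyOfFiniteType (T.fromSpecResidueField ((f.fiberι (f.base t0)).base y))
    haveI : IsClosedImmersion ((f.fiber (f.base t0)).fromSpecResidueField y) :=
      isClosed_singleton_iff_isClosedImmersion.mp hycl
    haveI : LocallyOfFiniteType (f.fiberι (f.base t0)) :=
      MorphismProperty.pullback_fst _ _ hs'
    have h1 : LocallyOfFiniteType
        ((f.fiber (f.base t0)).fromSpecResidueField y ≫ f.fiberι (f.base t0)) := inferInstance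
    rw [← Scheme.Hom.SpecMap_residueFieldMap_fromSpecResidueField] at h1
    obtain ⟨U, hU, hmem, hclU⟩ :=
      Groth.Agent.H47.exists_isAffineOpen_isClosed_singleton_of_locallyOfFiniteType
        ((f.fiber (f.base t0)).residueField y)
        (Spec.map ((f.fiberι (f.base t0)).residueFieldMap y) ≫
          T.fromSpecResidueField ((f.fiberι (f.base t0)).base y)) default
    have hpt : (Spec.map ((f.fiberι (f.base t0)).residueFieldMap y) ≫
        T.fromSpecResidueField ((f.fiberι (f.base t0)).base y)).base default
        = (f.fiberι (f.base t0)).base y := by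
      rw [Scheme.Hom.comp_apply, Scheme.fromSpecResidueField_apply]
    rw [Groth.Agent.S9342.result]
    refine ⟨U, hU, hpt ▸ hmem, ?_⟩
    convert hclU using 2
    exact Subtype.ext hpt.symm
  · have : (f.fiberι (f.base t0)).base y ∈ Set.range (f.fiberι (f.base t0)).base := ⟨y, rfl⟩
    rw [Scheme.Hom.range_fiberι] at this
    exact this

end Groth.Agent.S9340
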