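import Groth.Statements.S9341
import Groth.Agent.S9342
import Mathlib.Topology.LocallyClosed

set_option autoImplicit false
universe u
open FtPts

namespace Groth.Agent.S9341

open AlgebraicGeometry CategoryTheory in
/-- Every nonempty locally closed subset of a scheme S contains a finite type point of S; in particular
for a closed subset Z the finite type points lying in Z are dense in Z. -/
theorem result (S : Scheme.{u}) :
    (∀ Z : Set ↑S, IsLocallyClosed Z → Z.Nonempty →
        (Z ∩ {s : ↑S | LocallyOfFiniteType (S.fromSpecResidueField s)}).Nonempty) ∧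
      ∀ Z : Set ↑S, IsClosed Z →
        Z ⊆ closure (Z ∩ {s : ↑S | LocallyOfFiniteType (S.fromSpecResidueField s)}) := by
  classical
  have part1 : ∀ Z : Set ↑S, IsLocallyClosed Z → Z.Nonempty →
      (Z ∩ {s : ↑S | LocallyOfFiniteType (S.fromSpecResidueField s)}).Nonempty := by
    rintro Z ⟨O, C, hO, hC, rfl⟩ ⟨z, hzO, hzC⟩
    obtain ⟨W, hW, hzW, hWO⟩ :=
      exists_isAffineOpen_mem_and_subset (U := ⟨O, hO⟩) (x := z) hzO
    haveI : CompactSpace ↥W := isCompact_iff_compactSpace.mp hW.isCompact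
    let C' : Set ↥W := Subtype.val ⁻¹' C
    have hC' : IsClosed C' := hC.preimage continuous_subtype_val
    have hne : C'.Nonempty := ⟨⟨z, hzW⟩, hzC⟩
    obtain ⟨⟨s, hs⟩, hsC, hcl⟩ := hC'.exists_closed_singleton hne
    refine ⟨s, ⟨hWO hs, hsC⟩, ?_⟩
    exact (Groth.Agent.S9342.result S s).mpr ⟨W, hW, hs, hcl⟩
  refine ⟨part1, ?_⟩
  intro Z hZ z hz
  rw [mem_closure_iff]
  intro O hO hzO
  obtain ⟨s, ⟨hsZ, hsO⟩, hs⟩ := part1 (Z ∩ O) (hZ.isLocallyClosed.inter hO.isLocallyClosed)
    ⟨z, hz, hzO⟩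
  exact ⟨s, hsO, hsZ, hs⟩

end Groth.Agent.S9341
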