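import Groth.Statements.S9343
import Groth.Agent.H47.PullbackRange
import Groth.Agent.H47.QCRange

set_option autoImplicit false
universe u
open Dom

namespace Groth.Agent.S9343

open AlgebraicGeometry CategoryTheory in
/-- The base change of a quasi-compact dominant morphism f : X → S along a morphism g : S' → S along
which generalizations lift is dominant. -/
theorem result {X S X' S' : Scheme.{u}} (f : X ⟶ S) [QuasiCompact f] [IsDominant f]
    (g : S' ⟶ S) (g' : X' ⟶ X) (f' : X' ⟶ S') (hsq : IsPullback g' f' f g) (hg : GeneralizingMap g.base) :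
    IsDominant f' := by
  refine ⟨?_⟩
  rw [DenseRange, Groth.Agent.H47.range_snd_of_isPullback hsq]
  intro s'
  have h1 : g s' ∈ closure (Set.range f) := (IsDominant.denseRange (f := f)) (g s')
  obtain ⟨x, hx⟩ := Groth.Agent.H47.exists_specializes_of_mem_closure_range f (g s') h1
  obtain ⟨t', ht', hgt'⟩ := hg hx
  have h2 : t' ∈ g ⁻¹' Set.range f := ⟨x, hgt'.symm⟩
  exact ht'.mem_closed isClosed_closure (subset_closure h2)

end Groth.Agent.S9343
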