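import Groth.Statements.S9345
import Mathlib.AlgebraicGeometry.Properties

set_option autoImplicit false
universe u
open Dom

namespace Groth.Agent.S9345

open AlgebraicGeometry CategoryTheory in
/-- For a morphism f : X → S whose source has only finitely many irreducible components, the image of f
is dense exactly when it contains the generic point of each irreducible component of S, and then S
too has finitely many. -/
theorem result {X S : Scheme.{u}} (f : X ⟶ S)
    (hX : (irreducibleComponents (↑X : Type u)).Finite) :
    (IsDominant f ↔ ∀ s : ↑S, closure {s} ∈ irreducibleComponents (↑S : Type u) → s ∈ Set.range f.base) ∧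
      (IsDominant f → (irreducibleComponents (↑S : Type u)).Finite) := by
  classical
  -- the finite set of closures of images of generic points
  let T : Set (Set S) := (fun C : Set X => closure (f '' C)) '' irreducibleComponents X
  have hTfin : Set.Finite T := hX.image _
  have hTclosed : ∀ Z ∈ T, IsClosed Z := by
    rintro _ ⟨C, -, rfl⟩; exact isClosed_closure
  have hTirr : ∀ Z ∈ T, ∃ ξ : X, Z = closure {f ξ} := by
    rintro _ ⟨C, hC, rfl⟩
    obtain ⟨ξ, hξ⟩ := QuasiSober.sober hC.1 (isClosed_of_mem_irreducibleComponents C hC)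
    refine ⟨ξ, ?_⟩
    rw [← hξ.def]
    apply Set.Subset.antisymm
    · apply closure_minimal _ isClosed_closure
      have := image_closure_subset_closure_image (s := ({ξ} : Set X)) f.continuous
      rwa [Set.image_singleton] at this
    · apply closure_mono
      rw [Set.singleton_subset_iff]
      exact ⟨ξ, subset_closure rfl, rfl⟩
  have hrange : Set.range f ⊆ ⋃₀ T := by
    rintro _ ⟨x, rfl⟩
    have hx : x ∈ ⋃₀ irreducibleComponents X := by
      rw [sUnion_irreducibleComponents]; trivial
    obtain ⟨C, hC, hxC⟩ := hx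
    exact ⟨closure (f '' C), ⟨C, hC, rfl⟩, subset_closure ⟨x, hxC, rfl⟩⟩
  have hclosedT : IsClosed (⋃₀ T) := by
    rw [Set.sUnion_eq_biUnion]
    exact hTfin.isClosed_biUnion hTclosed
  -- dominant implies every irreducible component of `S` lies in `T`
  have hkey : IsDominant f → ∀ Z ∈ irreducibleComponents S, Z ∈ T := by
    intro hdom Z hZ
    have huniv : (⋃₀ T) = Set.univ := by
      apply Set.eq_univ_of_univ_subset
      rw [← (IsDominant.denseRange (f := f)).closure_range]
      exact closure_minimal hrange hclosedT
    have hZT : Z ⊆ ⋃₀ (↑hTfin.toFinset : Set (Set S)) := by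
      rw [hTfin.coe_toFinset, huniv]; exact Set.subset_univ _
    obtain ⟨W, hW, hZW⟩ := isIrreducible_iff_sUnion_isClosed.mp hZ.1 hTfin.toFinset
      (fun W hW => hTclosed W (hTfin.mem_toFinset.mp hW)) hZT
    rw [hTfin.mem_toFinset] at hW
    obtain ⟨ξ, hξ⟩ := hTirr W hW
    have hWirr : IsIrreducible W := by rw [hξ]; exact isIrreducible_singleton.closure
    have : W ⊆ Z := hZ.2 hWirr hZW
    rw [Set.Subset.antisymm hZW this]
    exact hW
  refine ⟨⟨fun hdom s hs => ?_, fun H => ?_⟩, fun hdom => hTfin.subset (hkey hdom)⟩
  · obtain ⟨ξ, hξ⟩ := hTirr _ (hkey hdom _ hs)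
    exact ⟨ξ, (((inseparable_iff_closure_eq).mpr hξ).eq).symm⟩
  · refine ⟨fun s => ?_⟩
    have hs : s ∈ ⋃₀ irreducibleComponents S := by
      rw [sUnion_irreducibleComponents]; trivial
    obtain ⟨Z, hZ, hsZ⟩ := hs
    obtain ⟨η, hη⟩ := QuasiSober.sober hZ.1 (isClosed_of_mem_irreducibleComponents Z hZ)
    have hηZ : closure {η} = Z := hη.def
    have hηr : η ∈ Set.range f := H η (by rw [hηZ]; exact hZ)
    rw [← hηZ] at hsZ
    exact closure_mono (Set.singleton_subset_iff.mpr hηr) hsZ

end Groth.Agent.S9345
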