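import Groth.Statements.S9348
import Groth.Agent.H47.PullbackRange
import Mathlib.AlgebraicGeometry.AffineScheme

set_option autoImplicit false
universe u
open Dom

namespace Groth.Agent.S9348

open AlgebraicGeometry CategoryTheory in
/-- Let f : X → Y be a morphism and g : Y' → Y open and surjective. If the base change f' : X ×_Y Y' →
Y' of f is quasi-compact, then so is f. -/
theorem result {X Y X' Y' : Scheme.{u}} (f : X ⟶ Y) (g : Y' ⟶ Y) [Surjective g]
    (hg : IsOpenMap g.base) (g' : X' ⟶ X) (f' : X' ⟶ Y') (hsq : IsPullback g' f' f g) [QuasiCompact f'] :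
    QuasiCompact f := by
  refine ⟨fun U hUo hUc => ?_⟩
  -- index type: affine opens of `Y'` contained in the preimage of `U`
  let ι := {W : Y'.Opens // IsAffineOpen W ∧ (W : Set Y') ⊆ g ⁻¹' U}
  have hcov : U ⊆ ⋃ W : ι, g '' (W.1 : Set Y') := by
    intro y hy
    obtain ⟨y', rfl⟩ := g.surjective y
    have hopen : IsOpen (g ⁻¹' U) := hUo.preimage g.continuous
    obtain ⟨_, ⟨W, hW, rfl⟩, hyW, hWU⟩ :=
      Y'.isBasis_affineOpens.exists_subset_of_mem_open (show y' ∈ g ⁻¹' U from hy) hopen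
    exact Set.mem_iUnion.mpr ⟨⟨W, hW, hWU⟩, y', hyW, rfl⟩
  obtain ⟨t, ht⟩ := hUc.elim_finite_subcover (fun W : ι => g '' (W.1 : Set Y'))
    (fun W => hg _ W.1.isOpen) hcov
  have heq : f ⁻¹' U = ⋃ W ∈ t, g' '' (f' ⁻¹' (W.1 : Set Y')) := by
    ext x
    simp only [Set.mem_preimage, Set.mem_iUnion, Set.mem_image, exists_prop]
    constructor
    · intro hx
      obtain ⟨W, hWt, y', hy'W, hy'⟩ : ∃ W ∈ t, ∃ y' ∈ (W.1 : Set Y'), g y' = f x := by
        have := ht hx
        simp only [Set.mem_iUnion, Set.mem_image, exists_prop] at this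
        exact this
      obtain ⟨x', hx'1, hx'2⟩ := Groth.Agent.H47.exists_preimage_of_isPullback hsq x y' hy'.symm
      exact ⟨W, hWt, x', by rw [hx'2]; exact hy'W, hx'1⟩
    · rintro ⟨W, hWt, x', hx'W, rfl⟩
      have hw : f (g' x') = g (f' x') := by
        rw [← Scheme.Hom.comp_apply, ← Scheme.Hom.comp_apply, hsq.w]
      rw [hw]
      exact W.2.2 hx'W
  rw [heq]
  refine t.isCompact_biUnion fun W _ => ?_
  have hWc : IsCompact (f' ⁻¹' (W.1 : Set Y')) :=
    QuasiCompact.isCompact_preimage (f := f') _ W.1.isOpen W.2.1.isCompact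
  exact hWc.image g'.continuous

end Groth.Agent.S9348
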