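import Groth.Statements.S9356
import Groth.Agent.H11.FtChart

set_option autoImplicit false
universe u
open FibDim

namespace Groth.Agent.S9356

open AlgebraicGeometry CategoryTheory in
/-- Let f : X → S be locally of finite type and x ⤳ x' a nontrivial specialization of points of the
fibre X_s. Then dim_x(X_s) ≤ dim_{x'}(X_s) and dim O_{X_s,x} < dim O_{X_s,x'}. (The assertion on
transcendence degrees of residue fields is a separate statement.) -/
theorem result {X S : Scheme.{u}} (f : X ⟶ S) [LocallyOfFiniteType f] (s : S)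
    (x x' : ↑(f.fiber s)) (hsp : x ⤳ x') (hne : x ≠ x') :
    FlatMor.localDim ↑(f.fiber s) x ≤ FlatMor.localDim ↑(f.fiber s) x' ∧
      ringKrullDim ((f.fiber s).presheaf.stalk x) < ringKrullDim ((f.fiber s).presheaf.stalk x') := by
  letI : (f.fiber s).Over (Spec (CommRingCat.of (S.residueField s))) :=
    ⟨f.fiberToSpecResidueField s⟩
  haveI : LocallyOfFiniteType ((f.fiber s) ↘ Spec (CommRingCat.of (S.residueField s))) := by
    change LocallyOfFiniteType (Limits.pullback.snd f (S.fromSpecResidueField s))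
    infer_instance
  obtain ⟨_, ⟨U, hU, rfl⟩, hxU, -⟩ := (f.fiber s).isBasis_affineOpens.exists_subset_of_mem_open
    (Set.mem_univ x') isOpen_univ
  have hU' : IsAffineOpen U := hU
  have hx' : x' ∈ U := hxU
  have hx : x ∈ U := hsp.mem_open U.isOpen hx'
  letI := Groth.Agent.H11.FtChart.secAlgebra (S.residueField s) (f.fiber s) U
  haveI := Groth.Agent.H11.FtChart.finiteType_sec (S.residueField s) (f.fiber s) hU'
  haveI : IsNoetherianRing Γ(f.fiber s, U) :=
    Algebra.FiniteType.isNoetherianRing (S.residueField s) _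
  have hle : hU'.primeIdealOf ⟨x, hx⟩ ≤ hU'.primeIdealOf ⟨x', hx'⟩ :=
    (Groth.Agent.H11.FtChart.le_iff_specializes hU' x hx x' hx').mpr hsp
  have hne' : hU'.primeIdealOf ⟨x, hx⟩ ≠ hU'.primeIdealOf ⟨x', hx'⟩ := by
    intro h
    apply hne
    have h1 := hU'.fromSpec_primeIdealOf ⟨x, hx⟩
    have h2 := hU'.fromSpec_primeIdealOf ⟨x', hx'⟩
    rw [h] at h1
    exact h1.symm.trans h2
  have hlt : hU'.primeIdealOf ⟨x, hx⟩ < hU'.primeIdealOf ⟨x', hx'⟩ := lt_of_le_of_ne hle hne'
  constructor
  · rw [Groth.Agent.H11.FtChart.localDim_eq hU' x hx,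
      Groth.Agent.H11.FtChart.localDim_eq hU' x' hx']
    apply Groth.Agent.H11.FtDim.localDim_le (k := S.residueField s)
    intro q hq hqp
    haveI : q.IsPrime := hq.1.1
    exact Groth.Agent.H11.FtDim.localDim_ge (k := S.residueField s) _ q (hqp.trans hle)
  · rw [← Groth.Agent.H11.FtChart.height_eq hU' x hx,
      ← Groth.Agent.H11.FtChart.height_eq hU' x' hx']
    have hfin : Order.height (hU'.primeIdealOf ⟨x, hx⟩) < ⊤ := by
      rw [← PrimeSpectrum.height_eq_orderHeight]
      exact Ideal.height_lt_top (hU'.primeIdealOf ⟨x, hx⟩).2.ne_top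
    have := Order.height_strictMono hlt hfin
    exact_mod_cast this


end Groth.Agent.S9356
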