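import Groth.Statements.S9357
import Groth.Agent.H51.RelDimIff
import Groth.Agent.H51.FibCompMain

set_option autoImplicit false
universe u
open FibDim

namespace Groth.Agent.S9357

open AlgebraicGeometry CategoryTheory in
/-- Suppose both f : X → Y and g : Y → Z are morphisms locally of finite type. When the relative
dimension of f is at most d and that of g is at most e, the composite g ∘ f has relative dimension
at most d + e. Moreover, when f is flat of relative dimension exactly d and g is of relative
dimension exactly e, the composite g ∘ f is of relative dimension exactly d + e (every nonempty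
fibre equidimensional of that dimension). -/
theorem result {X Y Z : Scheme.{u}} (f : X ⟶ Y) (g : Y ⟶ Z) [LocallyOfFiniteType f] [LocallyOfFiniteType g] (d e : ℕ) :
    ((∀ x : ↑X, FlatMor.fibreDimAt f x ≤ d) → (∀ y : ↑Y, FlatMor.fibreDimAt g y ≤ e) →
        ∀ x : ↑X, FlatMor.fibreDimAt (f ≫ g) x ≤ (d + e : ℕ)) ∧
      (Cyc.HasRelDim f d → Cyc.HasRelDim g e → Flat f → Cyc.HasRelDim (f ≫ g) (d + e)) := by
  have hcast : (((d + e : ℕ) : ℕ) : WithBot ℕ∞) = (d : WithBot ℕ∞) + (e : WithBot ℕ∞) := by
    push_cast; rfl
  refine ⟨fun hf hg x => ?_, fun hf hg hfl => ?_⟩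
  · rw [hcast]
    exact (Groth.Agent.H51.fibreDimAt_comp_le f g x).1.trans (add_le_add (hf x) (hg _))
  · rw [Groth.Agent.H51.hasRelDim_iff] at hf hg ⊢
    intro x
    rw [hcast, (Groth.Agent.H51.fibreDimAt_comp_le f g x).2 (Flat.stalkMap f x), hf, hg]

end Groth.Agent.S9357
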