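import Groth.Statements.S9362
import Groth.Agent.H12.StratA
import Groth.Agent.H33.SheafMod.Grothendieck

set_option autoImplicit false
universe u
open QCohSub

namespace Groth.Agent.S9362

open AlgebraicGeometry CategoryTheory in
/-- Let F be a quasi-coherent O_X-module and G ⊆ F an O_X-submodule. There is a quasi-coherent submodule
G' ⊆ G such that Hom(H, G') → Hom(H, G) is bijective for every quasi-coherent O_X-module H; in
particular G' is the largest quasi-coherent submodule of F contained in G (it is unique up to unique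
isomorphism over G). -/
theorem result (X : Scheme.{u}) (F G : X.Modules) (hF : Coh.IsQCoh F) (j : G ⟶ F) [Mono j] :
    ∃ (G' : X.Modules) (k : G' ⟶ G), Coh.IsQCoh G' ∧ Mono k ∧
      ∀ H : X.Modules, Coh.IsQCoh H → Function.Bijective (fun φ : H ⟶ G' => φ ≫ k) := by
  classical
  have hFq : F.IsQuasicoherent := hF
  have hGA : IsGrothendieckAbelian.{u} X.Modules :=
    Groth.Agent.H33.SheafMod.isGrothendieckAbelian _ X.ringCatSheaf
  have hWP : WellPowered.{u} X.Modules := IsGrothendieckAbelian.wellPowered _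
  let ι' : Type (u + 1) := {P : Subobject G // (P : X.Modules).IsQuasicoherent}
  have hsmall : Small.{u} ι' := inferInstance
  let Hfam : Shrink.{u} ι' → X.Modules := fun s => (((equivShrink ι').symm s).1 : X.Modules)
  have hHq : ∀ s, (Hfam s).IsQuasicoherent := fun s => ((equivShrink ι').symm s).2
  let Φ : (∐ Hfam) ⟶ G := Limits.Sigma.desc (fun s => ((equivShrink ι').symm s).1.arrow)
  have key : ∀ P : ι', ∃ t : (P.1 : X.Modules) ⟶ ∐ Hfam, t ≫ Φ = P.1.arrow := by
    intro P
    obtain ⟨s, rfl⟩ : ∃ s, (equivShrink ι').symm s = P :=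
      ⟨equivShrink ι' P, Equiv.symm_apply_apply _ _⟩
    exact ⟨Limits.Sigma.ι Hfam s, Limits.Sigma.ι_desc _ _⟩
  have hcq : (∐ Hfam).IsQuasicoherent := Groth.Agent.H12.StratA.isQuasicoherent_coprod Hfam hHq
  have hw : Limits.kernel.ι (Φ ≫ j) ≫ Φ = 0 := by
    rw [← cancel_mono j, Category.assoc, Limits.kernel.condition, Limits.zero_comp]
  let k : Abelian.coimage (Φ ≫ j) ⟶ G := Limits.cokernel.desc (Limits.kernel.ι (Φ ≫ j)) Φ hw
  have hπk : Abelian.coimage.π (Φ ≫ j) ≫ k = Φ := Limits.cokernel.π_desc _ _ _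
  have hkj : k ≫ j = Abelian.factorThruCoimage (Φ ≫ j) := by
    rw [← cancel_epi (Abelian.coimage.π (Φ ≫ j)), ← Category.assoc, hπk]
    exact (Abelian.coimage.fac (Φ ≫ j)).symm
  have hkm : Mono k := by
    have : Mono (k ≫ j) := by rw [hkj]; infer_instance
    exact mono_of_mono k j
  refine ⟨Abelian.coimage (Φ ≫ j), k,
    Groth.Agent.H12.QCohAbelian.isQuasicoherent_coimage (Φ ≫ j), hkm, fun H hH => ⟨?_, ?_⟩⟩
  · intro a b hab
    exact (cancel_mono k).1 hab
  · intro ψ
    have hHq' : H.IsQuasicoherent := hH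
    have hw' : Limits.kernel.ι (ψ ≫ j) ≫ ψ = 0 := by
      rw [← cancel_mono j, Category.assoc, Limits.kernel.condition, Limits.zero_comp]
    let m : Abelian.coimage (ψ ≫ j) ⟶ G := Limits.cokernel.desc (Limits.kernel.ι (ψ ≫ j)) ψ hw'
    have hpm : Abelian.coimage.π (ψ ≫ j) ≫ m = ψ := Limits.cokernel.π_desc _ _ _
    have hmj : m ≫ j = Abelian.factorThruCoimage (ψ ≫ j) := by
      rw [← cancel_epi (Abelian.coimage.π (ψ ≫ j)), ← Category.assoc, hpm]
      exact (Abelian.coimage.fac (ψ ≫ j)).symm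
    have hmm : Mono m := by
      have : Mono (m ≫ j) := by rw [hmj]; infer_instance
      exact mono_of_mono m j
    have hIq : (Abelian.coimage (ψ ≫ j)).IsQuasicoherent :=
      Groth.Agent.H12.QCohAbelian.isQuasicoherent_coimage (ψ ≫ j)
    have hPq : ((Subobject.mk m : Subobject G) : X.Modules).IsQuasicoherent :=
      Groth.Agent.H12.QCohAbelian.isQuasicoherent_of_iso (Subobject.underlyingIso m).symm
    obtain ⟨t, ht⟩ := key ⟨Subobject.mk m, hPq⟩
    refine ⟨Abelian.coimage.π (ψ ≫ j) ≫ (Subobject.underlyingIso m).inv ≫ t ≫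
      Abelian.coimage.π (Φ ≫ j), ?_⟩
    show (Abelian.coimage.π (ψ ≫ j) ≫ (Subobject.underlyingIso m).inv ≫ t ≫
      Abelian.coimage.π (Φ ≫ j)) ≫ k = ψ
    simp only [Category.assoc]
    rw [hπk, ht, Subobject.underlyingIso_arrow, hpm]

end Groth.Agent.S9362
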