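import Groth.Statements.S9380
import Groth.Agent.H18.AffAlgBij
import Groth.Agent.H18.RelSpecGamma
import Mathlib.AlgebraicGeometry.QuasiAffine

set_option autoImplicit false
universe u
open QAff

namespace Groth.Agent.S9380

open AlgebraicGeometry CategoryTheory in
/-- A quasi-compact quasi-separated morphism f : X → S is quasi-affine if and only if the canonical
S-morphism X → Spec_S(f_*O_X) (the one inducing the comparison map on direct-image algebras) exists
as a quasi-compact open immersion. -/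
theorem result {X S : Scheme.{u}} (f : X ⟶ S) [QuasiCompact f] [QuasiSeparated f] :
    MoreMor.IsQuasiAffineHom f ↔
      ∃ (c : X ⟶ (RelSpec.QCAlg.directImage f).spec) (e : c ≫ (RelSpec.QCAlg.directImage f).π = f),
        (RelSpec.QCAlg.directImage f).gammaMap = AffAlg.algHom (RelSpec.QCAlg.directImage f).π f c e ∧
          QuasiCompact c ∧ IsOpenImmersion c := by
  constructor
  · rintro ⟨_, hqa⟩
    obtain ⟨⟨c, e⟩, hc⟩ := Groth.Agent.H18.algOf_surjective (RelSpec.QCAlg.directImage f).π f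
      ⟨(RelSpec.QCAlg.directImage f).gammaMap, (RelSpec.QCAlg.directImage f).π_c_gammaMap⟩
    have hc' : AffAlg.algHom (RelSpec.QCAlg.directImage f).π f c e =
        (RelSpec.QCAlg.directImage f).gammaMap := congrArg Subtype.val hc
    refine ⟨c, e, hc'.symm, ?_, ?_⟩
    · have : QuasiCompact (c ≫ (RelSpec.QCAlg.directImage f).π) := by rw [e]; infer_instance
      exact QuasiCompact.of_comp c (RelSpec.QCAlg.directImage f).π
    · refine IsZariskiLocalAtTarget.of_forall_source_exists_preimage c fun x => ?_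
      obtain ⟨_, ⟨V, hV : IsAffineOpen V, rfl⟩, hxV, -⟩ :=
        S.isBasis_affineOpens.exists_subset_of_mem_open
          (Set.mem_univ ((RelSpec.QCAlg.directImage f).π (c x))) isOpen_univ
      refine ⟨(RelSpec.QCAlg.directImage f).π ⁻¹ᵁ V, hxV, ?_⟩
      have hW : IsAffineOpen ((RelSpec.QCAlg.directImage f).π ⁻¹ᵁ V) :=
        hV.preimage (RelSpec.QCAlg.directImage f).π
      have hpre : c ⁻¹ᵁ ((RelSpec.QCAlg.directImage f).π ⁻¹ᵁ V) = f ⁻¹ᵁ V := by
        rw [← Scheme.Hom.comp_preimage, e]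
      rw [Groth.Agent.H18.ι_comp_eq_toSpecΓ c hW _ le_rfl]
      have hq : Scheme.IsQuasiAffine
          (c ⁻¹ᵁ ((RelSpec.QCAlg.directImage f).π ⁻¹ᵁ V) : Scheme) := by
        rw [hpre]; exact hqa V hV
      have hiso : ∀ (U : X.Opens) (_ : U = f ⁻¹ᵁ V)
          (hle : U ≤ c ⁻¹ᵁ ((RelSpec.QCAlg.directImage f).π ⁻¹ᵁ V)),
          IsIso (c.appLE ((RelSpec.QCAlg.directImage f).π ⁻¹ᵁ V) U hle) := by
        rintro U rfl hle
        have h1 := Groth.Agent.H18.algHom_app_eq_appLE (RelSpec.QCAlg.directImage f).π f c e V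
        rw [hc', (RelSpec.QCAlg.directImage f).gammaMap_app V hV] at h1
        rw [← h1]
        exact Groth.Agent.H18.isIso_gammaAff _ V hV
      have := hiso _ hpre le_rfl
      have : IsOpenImmersion (c ⁻¹ᵁ ((RelSpec.QCAlg.directImage f).π ⁻¹ᵁ V)).toSpecΓ := by
        unfold Scheme.Opens.toSpecΓ
        infer_instance
      infer_instance
  · rintro ⟨c, e, -, hqc, hoi⟩
    refine ⟨inferInstance, fun V hV => ?_⟩
    have hW : IsAffineOpen ((RelSpec.QCAlg.directImage f).π ⁻¹ᵁ V) :=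
      hV.preimage (RelSpec.QCAlg.directImage f).π
    have hle : f ⁻¹ᵁ V ≤ c ⁻¹ᵁ ((RelSpec.QCAlg.directImage f).π ⁻¹ᵁ V) := by
      rw [← Scheme.Hom.comp_preimage, e]
    have : IsAffine ((RelSpec.QCAlg.directImage f).π ⁻¹ᵁ V : Scheme) := hW
    have : CompactSpace (f ⁻¹ᵁ V : Scheme) :=
      isCompact_iff_compactSpace.mp (f.isCompact_preimage hV.isCompact)
    exact Scheme.IsQuasiAffine.of_isImmersion
      (c.resLE ((RelSpec.QCAlg.directImage f).π ⁻¹ᵁ V) (f ⁻¹ᵁ V) hle)

end Groth.Agent.S9380
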