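import Groth.Statements.S9391
import Groth.Agent.H47.IntClosureLoc
import Mathlib.RingTheory.Localization.FractionRing
import Mathlib.RingTheory.Localization.LocalizationLocalization

set_option autoImplicit false
universe u
open CAlg

namespace Groth.Agent.S9391

/-- A localization of an N-1 domain which is again a domain is N-1. -/
theorem result (R : Type u) [CommRing R] [IsDomain R] (M : Submonoid R)
    (S : Type u) [CommRing S] [IsDomain S] [Algebra R S] [IsLocalization M S]
    (h : CAlg.IsN1 R) : CAlg.IsN1 S := by
  unfold CAlg.IsN1 at h ⊢
  have hM : M ≤ nonZeroDivisors R := by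
    intro m hm
    rw [mem_nonZeroDivisors_iff_ne_zero]
    rintro rfl
    have := IsLocalization.map_units S (⟨0, hm⟩ : M)
    simp at this
  have hinj : Function.Injective (algebraMap R S) := IsLocalization.injective S hM
  have hloc : IsLocalization ((nonZeroDivisors S).comap (algebraMap R S)) (FractionRing S) :=
    IsLocalization.localization_localization_isLocalization_of_has_all_units M (nonZeroDivisors S)
      (FractionRing S) (fun x hx => hx.mem_nonZeroDivisors)
  have hcomap : (nonZeroDivisors S).comap (algebraMap R S) = nonZeroDivisors R := by
    ext x
    simp only [Submonoid.mem_comap, mem_nonZeroDivisors_iff_ne_zero]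
    rw [Ne, map_eq_zero_iff _ hinj]
  rw [hcomap] at hloc
  have : IsFractionRing R (FractionRing S) := hloc
  let e : FractionRing R ≃ₐ[R] FractionRing S := FractionRing.algEquiv R (FractionRing S)
  have h1 : Module.Finite R (integralClosure R (FractionRing S)) :=
    Module.Finite.equiv (e.mapIntegralClosure.toLinearEquiv)
  exact Groth.Agent.H47.finite_integralClosure_of_isLocalization M h1

end Groth.Agent.S9391
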