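import Groth.Statements.S9392
import Groth.Agent.H47.IntClosureLoc
import Mathlib.RingTheory.Localization.FractionRing
import Mathlib.RingTheory.Localization.LocalizationLocalization

set_option autoImplicit false
universe u
open CAlg

namespace Groth.Agent.S9392

/-- A localization of an N-2 (Japanese) domain which is again a domain is N-2. -/
theorem result (R : Type u) [CommRing R] [IsDomain R] (M : Submonoid R)
    (S : Type u) [CommRing S] [IsDomain S] [Algebra R S] [IsLocalization M S]
    (h : CAlg.IsN2 R) : CAlg.IsN2 S := by
  unfold CAlg.IsN2 at h ⊢
  intro L _ _ _ _ hfd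
  have hM : M ≤ nonZeroDivisors R := by
    intro m hm
    rw [mem_nonZeroDivisors_iff_ne_zero]
    rintro rfl
    have := IsLocalization.map_units S (⟨0, hm⟩ : M)
    simp at this
  have hinj : Function.Injective (algebraMap R S) := IsLocalization.injective S hM
  have hloc : IsLocalization ((nonZeroDivisors S).comap (algebraMap R S)) (FractionRing S) :=
    IsLocalization.localization_localization_isLocalization_of_has_all_units M (nonZeroDivisors S)
      (FractionRing S) (fun x hx => hx.mem_nonZeroDivisors)
  have hcomap : (nonZeroDivisors S).comap (algebraMap R S) = nonZeroDivisors R := by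
    ext x
    simp only [Submonoid.mem_comap, mem_nonZeroDivisors_iff_ne_zero]
    rw [Ne, map_eq_zero_iff _ hinj]
  rw [hcomap] at hloc
  have : IsFractionRing R (FractionRing S) := hloc
  let e : FractionRing R ≃ₐ[R] FractionRing S := FractionRing.algEquiv R (FractionRing S)
  letI : Algebra R L := ((algebraMap S L).comp (algebraMap R S)).toAlgebra
  haveI : IsScalarTower R S L := IsScalarTower.of_algebraMap_eq (fun _ => rfl)
  letI : Algebra (FractionRing R) (FractionRing S) := e.toRingEquiv.toRingHom.toAlgebra
  letI : Algebra (FractionRing R) L :=
    ((algebraMap (FractionRing S) L).comp (algebraMap (FractionRing R) (FractionRing S))).toAlgebra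
  haveI : IsScalarTower (FractionRing R) (FractionRing S) L :=
    IsScalarTower.of_algebraMap_eq (fun _ => rfl)
  haveI : IsScalarTower R (FractionRing R) L := IsScalarTower.of_algebraMap_eq (fun x => by
    show algebraMap S L (algebraMap R S x)
      = algebraMap (FractionRing S) L (e (algebraMap R (FractionRing R) x))
    rw [e.commutes, IsScalarTower.algebraMap_apply R S (FractionRing S),
      ← IsScalarTower.algebraMap_apply S (FractionRing S) L])
  haveI : Module.Finite (FractionRing R) (FractionRing S) :=
    Module.Finite.of_surjective (Algebra.linearMap (FractionRing R) (FractionRing S)) e.surjective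
  haveI : FiniteDimensional (FractionRing R) L := Module.Finite.trans (FractionRing S) L
  have h1 : Module.Finite R (integralClosure R L) := h L this
  exact Groth.Agent.H47.finite_integralClosure_of_isLocalization M h1

end Groth.Agent.S9392
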