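import Groth.Statements.S9393
import Groth.Agent.H47.IntClosureCover
import Mathlib.RingTheory.Localization.FractionRing
import Mathlib.RingTheory.Localization.LocalizationLocalization
import Mathlib.RingTheory.Localization.Away.Basic

set_option autoImplicit false
universe u
open CAlg

namespace Groth.Agent.S9393

/-- Being N-1 can be checked on a finite cover of Spec R by principal opens whose rings are N-1 domains. -/
theorem result (R : Type u) [CommRing R] [IsDomain R]
    {ι : Type u} [Finite ι] (f : ι → R) (hf : Ideal.span (Set.range f) = ⊤)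
    (Rf : ι → Type u) [∀ i, CommRing (Rf i)] [∀ i, IsDomain (Rf i)] [∀ i, Algebra R (Rf i)]
    [∀ i, IsLocalization.Away (f i) (Rf i)] (h : ∀ i, CAlg.IsN1 (Rf i)) : CAlg.IsN1 R := by
  unfold CAlg.IsN1 at h ⊢
  have hne : ∀ i, IsUnit (algebraMap R (FractionRing R) (f i)) := by
    intro i
    have h0 : f i ≠ 0 := by
      rintro h0
      have := IsLocalization.Away.algebraMap_isUnit (S := Rf i) (f i)
      rw [h0, map_zero] at this
      exact not_isUnit_zero this
    exact (IsUnit.mk0 _ (by simpa using h0))
  letI : ∀ i, Algebra (Rf i) (FractionRing R) := fun i =>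
    (IsLocalization.Away.lift (f i) (g := algebraMap R (FractionRing R)) (hne i)).toAlgebra
  haveI : ∀ i, IsScalarTower R (Rf i) (FractionRing R) := fun i =>
    IsScalarTower.of_algebraMap_eq (fun x => (IsLocalization.Away.lift_eq (f i) (hne i) x).symm)
  refine Groth.Agent.H47.finite_integralClosure_of_span_eq_top f hf Rf (fun i => ?_)
  haveI : IsFractionRing (Rf i) (FractionRing R) :=
    IsFractionRing.isFractionRing_of_isDomain_of_isLocalization (Submonoid.powers (f i)) (Rf i)
      (FractionRing R)
  let e : FractionRing (Rf i) ≃ₐ[Rf i] FractionRing R := FractionRing.algEquiv (Rf i) (FractionRing R)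
  haveI := h i
  exact Module.Finite.equiv (e.mapIntegralClosure.toLinearEquiv)

end Groth.Agent.S9393
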