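import Groth.Statements.S9396
import Groth.Agent.H13.PowerSeriesN2
import Groth.Agent.H13.PowerSeriesFinite
import Groth.Agent.H13.N2FiniteDescent
import Groth.Agent.H38.FieldNagata
import Groth.Agent.H38.N2Frac
-- import your own Groth.Agent.* helpers here

set_option autoImplicit false
universe u
open CAlg

namespace Groth.Agent.S9396

/-- If R is a Noetherian N-2 (Japanese) domain, then the power series ring R[[X]] is an N-2 domain. (R
is not assumed integrally closed.) -/
theorem result (R : Type u) [CommRing R] [IsDomain R] [IsNoetherianRing R]
    (h : CAlg.IsN2 R) : CAlg.IsN2 (PowerSeries R) := by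
  let R' := integralClosure R (FractionRing R)
  haveI : Module.Finite R R' :=
    Groth.Agent.H38.finite_integralClosure_of_isN2 R (FractionRing R) h
  haveI : IsNoetherianRing R' := Algebra.FiniteType.isNoetherianRing R R'
  haveI : IsIntegrallyClosed R' :=
    integralClosure.isIntegrallyClosedOfFiniteExtension (FractionRing R)
  have hinj : Function.Injective (algebraMap R R') := by
    intro x y hxy
    have := congrArg (algebraMap R' (FractionRing R)) hxy
    rw [← IsScalarTower.algebraMap_apply, ← IsScalarTower.algebraMap_apply] at this
    exact IsFractionRing.injective R (FractionRing R) this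
  haveI : FaithfulSMul R R' := (faithfulSMul_iff_algebraMap_injective R R').mpr hinj
  have hR' : CAlg.IsN2 R' := Groth.Agent.H38.FieldNagata.isN2_of_finite_injective (R := R) h
  have hPS : CAlg.IsN2 (PowerSeries R') := Groth.Agent.H13.PowerSeriesN2.isN2_powerSeries R' hR'
  haveI : Module.Finite (PowerSeries R) (PowerSeries R') :=
    Groth.Agent.H13.PowerSeriesFinite.finite_powerSeries R R'
  haveI : FaithfulSMul (PowerSeries R) (PowerSeries R') :=
    (faithfulSMul_iff_algebraMap_injective _ _).mpr
      (Groth.Agent.H13.PowerSeriesFinite.map_injective (algebraMap R R') hinj)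
  exact Groth.Agent.H13.N2FiniteDescent.isN2_of_finite_injective hPS

end Groth.Agent.S9396
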