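import Groth.Statements.S9397
import Groth.Agent.H47.N2ofN1

set_option autoImplicit false
universe u
open CAlg

namespace Groth.Agent.S9397

/-- A ring R is universally Japanese provided that each R-algebra of finite type which is a domain is
N-1. -/
theorem result (R : Type u) [CommRing R]
    (h : ∀ (S : Type u) [CommRing S] [IsDomain S] [Algebra R S], Algebra.FiniteType R S → CAlg.IsN1 S) :
    CAlg.IsUniversallyJapanese R := by
  intro S _ _ _ hft
  unfold CAlg.IsN2
  intro L _ _ _ _ hfd
  haveI : FiniteDimensional (FractionRing S) L := hfd
  obtain ⟨S', hS'fg, hS'fin, hS'frac⟩ :=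
    Groth.Agent.H47.exists_finite_subalgebra_isFractionRing S (FractionRing S) L
  letI : Algebra R L := ((algebraMap S L).comp (algebraMap R S)).toAlgebra
  haveI : IsScalarTower R S L := IsScalarTower.of_algebraMap_eq (fun _ => rfl)
  haveI : IsScalarTower R S S' := IsScalarTower.of_algebraMap_eq (fun _ => rfl)
  haveI : Algebra.FiniteType S S' := (Subalgebra.fg_iff_finiteType S').mp hS'fg
  have hft' : Algebra.FiniteType R S' := Algebra.FiniteType.trans hft inferInstance
  have hN1 : CAlg.IsN1 S' := h S' hft'
  exact Groth.Agent.H47.finite_integralClosure_of_subalgebra S' hN1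

end Groth.Agent.S9397
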