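import Groth.Statements.S9399
import Groth.Agent.S9394
import Mathlib.RingTheory.Localization.Away.AdjoinRoot
import Mathlib.RingTheory.FiniteType

set_option autoImplicit false
universe u
open CAlg

namespace Groth.Agent.S9399

/-- Being universally Japanese can be checked on a finite cover of Spec R by principal opens. -/
theorem result (R : Type u) [CommRing R]
    {ι : Type u} [Finite ι] (f : ι → R) (hf : Ideal.span (Set.range f) = ⊤)
    (h : ∀ i, CAlg.IsUniversallyJapanese (Localization.Away (f i))) :
    CAlg.IsUniversallyJapanese R := by
  classical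
  intro S _ _ _ hft
  haveI : Algebra.FiniteType R S := hft
  let ι' := {i : ι // algebraMap R S (f i) ≠ 0}
  let f' : ι' → S := fun i => algebraMap R S (f i.1)
  have hf' : Ideal.span (Set.range f') = ⊤ := by
    have h1 : Ideal.span ((algebraMap R S) '' (Set.range f)) = ⊤ := by
      rw [← Ideal.map_span, hf, Ideal.map_top]
    rw [eq_top_iff, ← h1, Ideal.span_le]
    rintro _ ⟨_, ⟨i, rfl⟩, rfl⟩
    by_cases hi : algebraMap R S (f i) = 0
    · rw [hi]; exact Ideal.zero_mem _
    · exact Ideal.subset_span ⟨⟨i, hi⟩, rfl⟩
  haveI hdom : ∀ i : ι', IsDomain (Localization.Away (f' i)) := fun i =>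
    IsLocalization.isDomain_localization
      (powers_le_nonZeroDivisors_of_noZeroDivisors i.2)
  refine Groth.Agent.S9394.result S f' hf' (fun i => Localization.Away (f' i)) (fun i => ?_)
  -- the algebra structure over `Localization.Away (f i)`
  have hunit : IsUnit (algebraMap R (Localization.Away (f' i)) (f i.1)) := by
    rw [IsScalarTower.algebraMap_apply R S (Localization.Away (f' i))]
    exact IsLocalization.Away.algebraMap_isUnit (f' i)
  letI : Algebra (Localization.Away (f i.1)) (Localization.Away (f' i)) :=
    (IsLocalization.Away.lift (f i.1) (g := algebraMap R (Localization.Away (f' i))) hunit).toAlgebra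
  haveI : IsScalarTower R (Localization.Away (f i.1)) (Localization.Away (f' i)) :=
    IsScalarTower.of_algebraMap_eq (fun x => (IsLocalization.Away.lift_eq (f i.1) hunit x).symm)
  haveI : Algebra.FiniteType R (Localization.Away (f' i)) := inferInstance
  have hft' : Algebra.FiniteType (Localization.Away (f i.1)) (Localization.Away (f' i)) :=
    Algebra.FiniteType.of_restrictScalars_finiteType R _ _
  exact h i.1 (Localization.Away (f' i)) hft'

end Groth.Agent.S9399
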