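import Groth.Statements.S9403
import Mathlib.Tactic.LinearCombination
import Mathlib.Tactic.Ring
import Mathlib.RingTheory.Filtration

set_option autoImplicit false
universe u
open CAlg

namespace Groth.Agent.S9403

/-- Let R → S be a ring map with S a Noetherian local ring which is an algebra over the rationals, and f
∈ S such that some S-linear form on the module of differentials of S over R sends df to 1 (df spans
a free direct summand of rank one). Then f is a nonzerodivisor of S. (The published statement asks
only that S·df be a direct summand of the module of differentials, which also holds for the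
rationals with a square-zero element adjoined, where f is a zero divisor; this row asks for an
S-linear form on the differentials sending df to 1, as the published proof uses.) -/
theorem result (R : Type u) [CommRing R]
    (S : Type u) [CommRing S] [IsLocalRing S] [IsNoetherianRing S] [Algebra R S] [Algebra ℚ S]
    (f : S) (θ : Ω[S⁄R] →ₗ[S] S) (hθ : θ (KaehlerDifferential.D R S f) = 1) : f ∈ nonZeroDivisors S := by
  classical
  by_cases hfu : IsUnit f
  · exact hfu.mem_nonZeroDivisors
  have hfm : f ∈ IsLocalRing.maximalIdeal S := (IsLocalRing.mem_maximalIdeal f).mpr hfu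
  -- the derivation `D = θ ∘ d`
  set D : S → S := fun s => θ (KaehlerDifferential.D R S s) with hD
  have hDmul : ∀ a b : S, D (a * b) = a * D b + b * D a := by
    intro a b
    simp only [hD, Derivation.leibniz, map_add, map_smul, smul_eq_mul]
  have hDf : D f = 1 := hθ
  have hDpow : ∀ n : ℕ, D (f ^ (n + 1)) = ((n + 1 : ℕ) : S) * f ^ n := by
    intro n
    simp only [hD, Derivation.leibniz_pow, map_nsmul, map_smul, hθ, add_tsub_cancel_right,
      nsmul_eq_mul, smul_eq_mul, mul_one]
  have hunit : ∀ n : ℕ, IsUnit ((n + 1 : ℕ) : S) := by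
    intro n
    have : ((n + 1 : ℕ) : S) = algebraMap ℚ S ((n + 1 : ℕ) : ℚ) := by simp
    rw [this]
    exact IsUnit.map _ (IsUnit.mk0 _ (by exact_mod_cast Nat.succ_ne_zero n))
  -- any `g` with `f * g = 0` lies in all powers of `(f)`
  have key : ∀ g : S, f * g = 0 → ∀ n : ℕ, g ∈ Ideal.span {f} ^ n := by
    intro g hg n
    induction n with
    | zero => simp
    | succ n ih =>
      rw [Ideal.span_singleton_pow, Ideal.mem_span_singleton'] at ih
      obtain ⟨h, rfl⟩ := ih
      have h0 : f ^ (n + 1) * h = 0 := by
        rw [pow_succ']; rw [mul_assoc]; rw [mul_comm h] at hg; exact hg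
      have h1 : D (f ^ (n + 1) * h) = 0 := by
        rw [h0]
        have := hDmul 0 0
        simpa using this
      rw [hDmul, hDpow] at h1
      -- (n+1) f^n h = - f^(n+1) D h
      have h2 : ((n + 1 : ℕ) : S) * (h * f ^ n) = f ^ (n + 1) * (- D h) := by
        linear_combination h1
      obtain ⟨u, hu⟩ := hunit n
      have h3 : h * f ^ n = f ^ (n + 1) * ((↑u⁻¹ : S) * (- D h)) := by
        have h4 : (↑u⁻¹ : S) * (((n + 1 : ℕ) : S) * (h * f ^ n)) = (↑u⁻¹ : S) * (f ^ (n + 1) * -D h) := by
          rw [h2]
        rw [← hu, ← mul_assoc, Units.inv_mul, one_mul] at h4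
        rw [h4]; ring
      rw [Ideal.span_singleton_pow, Ideal.mem_span_singleton']
      exact ⟨(↑u⁻¹ : S) * (- D h), by rw [h3]; ring⟩
  rw [mem_nonZeroDivisors_iff]
  have hle : Ideal.span {f} ≤ IsLocalRing.maximalIdeal S := by
    rw [Ideal.span_singleton_le_iff_mem]; exact hfm
  have hne : Ideal.span {f} ≠ ⊤ := by
    intro h; rw [h] at hle; exact (IsLocalRing.maximalIdeal.isMaximal S).ne_top (top_le_iff.mp hle)
  have hinf := Ideal.iInf_pow_eq_bot_of_isLocalRing (Ideal.span {f}) hne
  have hzero : ∀ g : S, f * g = 0 → g = 0 := by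
    intro g hg
    have : g ∈ (⨅ i, Ideal.span {f} ^ i : Ideal S) := by
      rw [Ideal.mem_iInf]; exact key g hg
    rw [hinf] at this
    exact this
  refine ⟨fun g hg => hzero g hg, fun g hg => hzero g (by rw [mul_comm]; exact hg)⟩

end Groth.Agent.S9403
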