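import Groth.Statements.S9412
import Groth.Agent.H47.NormalLoc
import Mathlib.RingTheory.IsTensorProduct

set_option autoImplicit false
universe u
open EGA4

namespace Groth.Agent.S9412

/-- A localization of a geometrically normal algebra over a field k is geometrically normal over k. -/
theorem result (k : Type u) [Field k] (A : Type u) [CommRing A]
    [Algebra k A] (M : Submonoid A) (B : Type u) [CommRing B] [Algebra A B] [IsLocalization M B]
    [Algebra k B] [IsScalarTower k A B] (h : EGA4.IsGeomNormal k A) :
    EGA4.IsGeomNormal k B := by
  intro k' _ _ hfin
  -- mirrored tensor products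
  have hE : IsNormalRing (TensorProduct k A k') :=
    Groth.Agent.H47.isNormalRing_of_ringEquiv
      (Algebra.TensorProduct.comm k k' A).toRingEquiv (h k' hfin)
  let τ : TensorProduct k A k' →ₐ[k] TensorProduct k B k' :=
    Algebra.TensorProduct.map (IsScalarTower.toAlgHom k A B) (AlgHom.id k k')
  letI algEF : Algebra (TensorProduct k A k') (TensorProduct k B k') := τ.toRingHom.toAlgebra
  haveI : IsScalarTower A (TensorProduct k A k') (TensorProduct k B k') :=
    IsScalarTower.of_algebraMap_eq (fun a => by
      show algebraMap A (TensorProduct k B k') a = τ (algebraMap A (TensorProduct k A k') a)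
      rw [Algebra.TensorProduct.algebraMap_apply, Algebra.TensorProduct.algebraMap_apply]
      simp [τ])
  have hpush : Algebra.IsPushout A B (TensorProduct k A k') (TensorProduct k B k') :=
    Algebra.IsPushout.tensorProduct_tensorProduct k k' A B (by
      ext x
      show τ (TensorProduct.tmul k (1 : A) x) = TensorProduct.tmul k (1 : B) x
      simp [τ])
  haveI : IsLocalization (Algebra.algebraMapSubmonoid (TensorProduct k A k') M)
      (TensorProduct k B k') :=
    (Algebra.isLocalization_iff_isPushout M B).mpr hpush.symm
  have hF : IsNormalRing (TensorProduct k B k') :=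
    Groth.Agent.H47.isNormalRing_of_isLocalization
      (Algebra.algebraMapSubmonoid (TensorProduct k A k') M) hE
  exact Groth.Agent.H47.isNormalRing_of_ringEquiv
    (Algebra.TensorProduct.comm k B k').toRingEquiv hF

end Groth.Agent.S9412
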