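import Groth.Statements.S9425
import Groth.Agent.S9424
import Groth.Agent.H47.DirColim

set_option autoImplicit false
universe u
open CAlg

namespace Groth.Agent.S9425

/-- A directed colimit of formally étale R-algebras is formally étale over R. The colimit is encoded by
compatible R-algebra maps S_i → S which are jointly surjective and whose kernels die further along
the system. -/
theorem result {ι : Type u} [Preorder ι] [IsDirected ι (· ≤ ·)] [Nonempty ι]
    (R : Type u) [CommRing R] (G : ι → Type u) [∀ i, CommRing (G i)] [∀ i, Algebra R (G i)]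
    (f : ∀ i j, i ≤ j → (G i →ₐ[R] G j)) (S : Type u) [CommRing S] [Algebra R S]
    (g : ∀ i, G i →ₐ[R] S) (hg : ∀ i j (h : i ≤ j), (g j).comp (f i j h) = g i)
    (hsurj : ∀ s : S, ∃ i, ∃ x : G i, g i x = s)
    (hker : ∀ i (x : G i), g i x = 0 → ∃ j, ∃ h : i ≤ j, f i j h x = 0)
    (h : ∀ i, Algebra.FormallyEtale R (G i)) : Algebra.FormallyEtale R S := by
  have hunr : Algebra.FormallyUnramified R S :=
    Groth.Agent.S9424.result R G f S g hg hsurj hker (fun i => inferInstance)
  rw [Algebra.FormallyEtale.iff_comp_bijective]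
  intro B _ _ I hI
  refine ⟨Algebra.FormallyUnramified.comp_injective I hI, ?_⟩
  intro φ
  -- lift each stage
  have hbij := fun i => Algebra.FormallyEtale.comp_bijective R (G i) I hI
  choose ψ hψ using fun i => (hbij i).2 (φ.comp (g i))
  have huniq : ∀ i (α β : G i →ₐ[R] B),
      (Ideal.Quotient.mkₐ R I).comp α = (Ideal.Quotient.mkₐ R I).comp β → α = β :=
    fun i α β h => (hbij i).1 h
  have hcompat : ∀ i j (h : i ≤ j), (ψ j).comp (f i j h) = ψ i := by
    intro i j h
    apply huniq
    rw [← AlgHom.comp_assoc, hψ j, AlgHom.comp_assoc, hg i j h, hψ i]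
  have hwd : ∀ i j (x : G i) (y : G j), g i x = g j y → ψ i x = ψ j y := by
    intro i j x y hxy
    obtain ⟨k, hik, hjk⟩ := exists_ge_ge i j
    have h0 : g k (f i k hik x - f j k hjk y) = 0 := by
      rw [map_sub, sub_eq_zero]
      have h1 := DFunLike.congr_fun (hg i k hik) x
      have h2 := DFunLike.congr_fun (hg j k hjk) y
      simp only [AlgHom.comp_apply] at h1 h2
      rw [h1, h2, hxy]
    obtain ⟨l, hkl, hl⟩ := hker k _ h0
    rw [map_sub, sub_eq_zero] at hl
    have e1 : ψ i x = ψ l (f k l hkl (f i k hik x)) := by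
      have := DFunLike.congr_fun (hcompat i k hik) x
      have h2 := DFunLike.congr_fun (hcompat k l hkl) (f i k hik x)
      simp only [AlgHom.comp_apply] at this h2
      rw [h2, this]
    have e2 : ψ j y = ψ l (f k l hkl (f j k hjk y)) := by
      have := DFunLike.congr_fun (hcompat j k hjk) y
      have h2 := DFunLike.congr_fun (hcompat k l hkl) (f j k hjk y)
      simp only [AlgHom.comp_apply] at this h2
      rw [h2, this]
    rw [e1, e2, hl]
  obtain ⟨Ψ, hΨ⟩ := Groth.Agent.H47.exists_algHom_of_compatible R G f S g hg hsurj ψ hwd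
  refine ⟨Ψ, ?_⟩
  ext s
  obtain ⟨i, x, rfl⟩ := hsurj s
  have h1 := DFunLike.congr_fun (hΨ i) x
  have h2 := DFunLike.congr_fun (hψ i) x
  simp only [AlgHom.comp_apply] at h1 h2 ⊢
  rw [h1, h2]

end Groth.Agent.S9425
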