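import Groth.Statements.S9428
import Mathlib.RingTheory.Etale.Basic
import Mathlib.RingTheory.Smooth.Basic
import Mathlib.RingTheory.Unramified.Basic

set_option autoImplicit false
universe u
open CAlg

namespace Groth.Agent.S9428

/-- If R → S is formally étale and J ⊆ S is an ideal with R → S/J surjective, I ⊆ R its kernel (the
preimage of J), then R/I^n → S/J^n is bijective for all n. (The published statement adds that the
associated graded rings are then isomorphic, which follows from these bijections.) -/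
theorem result (R : Type u) [CommRing R] (S : Type u)
    [CommRing S] [Algebra R S] [Algebra.FormallyEtale R S] (J : Ideal S)
    (hJ : Function.Surjective (algebraMap R (S ⧸ J))) (n : ℕ) :
    Function.Bijective (Ideal.quotientMap (J ^ n) (algebraMap R S)
      (le_of_le_of_eq (Ideal.le_comap_pow (algebraMap R S) n) rfl :
        (J.comap (algebraMap R S)) ^ n ≤ (J ^ n).comap (algebraMap R S))) := by
  classical
  set I : Ideal R := J.comap (algebraMap R S) with hI
  rcases Nat.eq_zero_or_pos n with rfl | hn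
  · -- both quotients are trivial rings
    haveI : Subsingleton (R ⧸ I ^ 0) := by
      rw [pow_zero, Ideal.one_eq_top]; exact Ideal.Quotient.subsingleton_iff.mpr rfl
    haveI : Subsingleton (S ⧸ J ^ 0) := by
      rw [pow_zero, Ideal.one_eq_top]; exact Ideal.Quotient.subsingleton_iff.mpr rfl
    exact ⟨fun a b _ => Subsingleton.elim a b, fun b => ⟨0, Subsingleton.elim _ _⟩⟩
  -- the map `g : R / I^n → S / J`
  have hIn : ∀ a ∈ I ^ n, (Algebra.ofId R (S ⧸ J)) a = 0 := by
    intro a ha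
    have : a ∈ I := Ideal.pow_le_self (Nat.pos_iff_ne_zero.mp hn) ha
    rw [hI, Ideal.mem_comap] at this
    show algebraMap R (S ⧸ J) a = 0
    rw [IsScalarTower.algebraMap_apply R S (S ⧸ J), Ideal.Quotient.algebraMap_eq,
      Ideal.Quotient.eq_zero_iff_mem]
    exact this
  let g : (R ⧸ I ^ n) →ₐ[R] (S ⧸ J) := Ideal.Quotient.liftₐ (I ^ n) (Algebra.ofId R (S ⧸ J)) hIn
  have hg_mk : ∀ r : R, g (Ideal.Quotient.mk _ r) = algebraMap R (S ⧸ J) r := fun r => rfl
  have hg : Function.Surjective g := by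
    intro y
    obtain ⟨r, rfl⟩ := hJ y
    exact ⟨Ideal.Quotient.mk _ r, hg_mk r⟩
  have hkerg : RingHom.ker (g : (R ⧸ I ^ n) →+* (S ⧸ J)) ≤ I.map (Ideal.Quotient.mk (I ^ n)) := by
    intro x hx
    obtain ⟨r, rfl⟩ := Ideal.Quotient.mk_surjective x
    rw [RingHom.mem_ker] at hx
    have hx' : algebraMap R (S ⧸ J) r = 0 := hx
    rw [IsScalarTower.algebraMap_apply R S (S ⧸ J), Ideal.Quotient.algebraMap_eq,
      Ideal.Quotient.eq_zero_iff_mem] at hx'
    exact Ideal.mem_map_of_mem _ (by rw [hI, Ideal.mem_comap]; exact hx')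
  have hg' : IsNilpotent (RingHom.ker (g : (R ⧸ I ^ n) →+* (S ⧸ J))) := by
    refine ⟨n, ?_⟩
    rw [Ideal.zero_eq_bot, eq_bot_iff]
    calc RingHom.ker (g : (R ⧸ I ^ n) →+* (S ⧸ J)) ^ n
        ≤ (I.map (Ideal.Quotient.mk (I ^ n))) ^ n := Ideal.pow_right_mono hkerg n
      _ = (I ^ n).map (Ideal.Quotient.mk (I ^ n)) := (Ideal.map_pow _ _ _).symm
      _ = ⊥ := by rw [Ideal.map_quotient_self]
  let f : S →ₐ[R] (S ⧸ J) := Ideal.Quotient.mkₐ R J
  let φ : S →ₐ[R] (R ⧸ I ^ n) := Algebra.FormallySmooth.liftOfSurjective f g hg hg'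
  have hφ : ∀ x, g (φ x) = Ideal.Quotient.mk J x :=
    Algebra.FormallySmooth.liftOfSurjective_apply f g hg hg'
  -- φ kills J^n
  have hφJ : ∀ x ∈ J ^ n, φ x = 0 := by
    intro x hx
    have h1 : J ≤ (RingHom.ker (g : (R ⧸ I ^ n) →+* (S ⧸ J))).comap (φ : S →+* (R ⧸ I ^ n)) := by
      intro y hy
      rw [Ideal.mem_comap, RingHom.mem_ker]
      show g (φ y) = 0
      rw [hφ, Ideal.Quotient.eq_zero_iff_mem]; exact hy
    have h2 : J ^ n ≤ (RingHom.ker (g : (R ⧸ I ^ n) →+* (S ⧸ J)) ^ n).comap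
        (φ : S →+* (R ⧸ I ^ n)) :=
      (Ideal.pow_right_mono h1 n).trans (Ideal.le_comap_pow _ n)
    have h3 : RingHom.ker (g : (R ⧸ I ^ n) →+* (S ⧸ J)) ^ n = ⊥ := by
      rw [eq_bot_iff]
      calc RingHom.ker (g : (R ⧸ I ^ n) →+* (S ⧸ J)) ^ n
          ≤ (I.map (Ideal.Quotient.mk (I ^ n))) ^ n := Ideal.pow_right_mono hkerg n
        _ = (I ^ n).map (Ideal.Quotient.mk (I ^ n)) := (Ideal.map_pow _ _ _).symm
        _ = ⊥ := by rw [Ideal.map_quotient_self]
    have := h2 hx
    rw [h3, Ideal.mem_comap, Ideal.mem_bot] at this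
    exact this
  set α := Ideal.quotientMap (J ^ n) (algebraMap R S)
      (le_of_le_of_eq (Ideal.le_comap_pow (algebraMap R S) n) rfl :
        (J.comap (algebraMap R S)) ^ n ≤ (J ^ n).comap (algebraMap R S)) with hα
  have hα_mk : ∀ r : R, α (Ideal.Quotient.mk _ r) = Ideal.Quotient.mk _ (algebraMap R S r) :=
    fun r => rfl
  -- α as an algebra map
  let α' : (R ⧸ I ^ n) →ₐ[R] (S ⧸ J ^ n) :=
    { α with
      commutes' := fun r => by
        show α (Ideal.Quotient.mk _ r) = _
        rw [hα_mk]; rfl }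
  have hα' : ∀ x, α' x = α x := fun _ => rfl
  constructor
  · -- injective: ψ ∘ α = id
    intro a b hab
    obtain ⟨r, rfl⟩ := Ideal.Quotient.mk_surjective a
    obtain ⟨r', rfl⟩ := Ideal.Quotient.mk_surjective b
    rw [hα_mk, hα_mk] at hab
    have h1 : φ (algebraMap R S r) = φ (algebraMap R S r') := by
      rw [← sub_eq_zero, ← map_sub]
      apply hφJ
      rw [← Ideal.Quotient.eq]; exact hab
    rw [φ.commutes, φ.commutes] at h1
    exact h1
  · -- surjective: α ∘ φ = mk
    have key : α'.comp φ = Ideal.Quotient.mkₐ R (J ^ n) := by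
      have hJn : J ^ n ≤ J := Ideal.pow_le_self (Nat.pos_iff_ne_zero.mp hn)
      let f' : (S ⧸ J ^ n) →+* (S ⧸ J) := Ideal.Quotient.factor hJn
      have hf' : IsNilpotent (RingHom.ker f') := by
        refine ⟨n, ?_⟩
        rw [Ideal.zero_eq_bot, eq_bot_iff]
        have hk : RingHom.ker f' ≤ J.map (Ideal.Quotient.mk (J ^ n)) := by
          intro x hx
          obtain ⟨s, rfl⟩ := Ideal.Quotient.mk_surjective x
          rw [RingHom.mem_ker] at hx
          have : Ideal.Quotient.mk J s = 0 := hx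
          rw [Ideal.Quotient.eq_zero_iff_mem] at this
          exact Ideal.mem_map_of_mem _ this
        calc RingHom.ker f' ^ n ≤ (J.map (Ideal.Quotient.mk (J ^ n))) ^ n :=
              Ideal.pow_right_mono hk n
          _ = (J ^ n).map (Ideal.Quotient.mk (J ^ n)) := (Ideal.map_pow _ _ _).symm
          _ = ⊥ := by rw [Ideal.map_quotient_self]
      apply Algebra.FormallyUnramified.ext' f' hf'
      intro x
      have h1 : ∀ y : R ⧸ I ^ n, f' (α y) = g y := by
        intro y
        obtain ⟨r, rfl⟩ := Ideal.Quotient.mk_surjective y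
        rw [hα_mk, hg_mk]
        rfl
      show f' (α (φ x)) = f' (Ideal.Quotient.mk _ x)
      rw [h1, hφ]
      rfl
    intro y
    obtain ⟨s, rfl⟩ := Ideal.Quotient.mk_surjective y
    exact ⟨φ s, AlgHom.congr_fun key s⟩

end Groth.Agent.S9428
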