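import Groth.Statements.S9432
import Groth.Agent.H47.QF.Main

set_option autoImplicit false
universe u
open CAlg

namespace Groth.Agent.S9432

/-- For a faithfully flat ring map R → S of finite presentation there is a quasi-finite (of finite type
with finite fibres), faithfully flat, finitely presented R-algebra S' together with an R-algebra map
S → S'. -/
theorem result (R : Type u) [CommRing R]
    (S : Type u) [CommRing S] [Algebra R S] [Module.FaithfullyFlat R S]
    [Algebra.FinitePresentation R S] :
    ∃ (S' : Type u) (_ : CommRing S') (_ : Algebra R S'),
      Algebra.QuasiFinite R S' ∧ Algebra.FiniteType R S' ∧ Module.FaithfullyFlat R S' ∧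
        Algebra.FinitePresentation R S' ∧ Nonempty (S →ₐ[R] S') := by
  exact Groth.Agent.H47.QF.main R S

end Groth.Agent.S9432
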