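import Groth.Statements.S9434
import Mathlib
import Groth.Agent.H88.SplitFactorLocal

set_option autoImplicit false
universe u
open CAlg

namespace Groth.Agent.S9434

/-- Let R → S be a local homomorphism of local rings with S the localization of an étale R-algebra at a
prime. Then there is a finite, finitely presented, faithfully flat R-algebra S' such that for every
maximal ideal m' of S' the structure map R → S'_{m'} factors through some R-algebra map S → S'_{m'}. -/
theorem result (R : Type u) [CommRing R] [IsLocalRing R] (T : Type u) [CommRing T] [Algebra R T]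
    [Algebra.Etale R T] (q : Ideal T) [q.IsPrime] (S : Type u) [CommRing S] [IsLocalRing S]
    [Algebra T S] [IsLocalization.AtPrime S q] [Algebra R S] [IsScalarTower R T S]
    [IsLocalHom (algebraMap R S)] :
    ∃ (S' : Type u) (_ : CommRing S') (_ : Algebra R S'),
      Module.Finite R S' ∧ Algebra.FinitePresentation R S' ∧ Module.FaithfullyFlat R S' ∧
        ∀ (m' : Ideal S') [m'.IsMaximal], Nonempty (S →ₐ[R] Localization.AtPrime m') := by
  classical
  haveI : Algebra.IsEtaleAt R q := Algebra.FormallyEtale.comp R T (Localization.AtPrime q)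
  obtain ⟨s, hsq, hse⟩ := Algebra.IsEtaleAt.exists_isStandardEtale (R := R) q
  obtain ⟨P⟩ := hse.nonempty_standardEtalePresentation
  obtain ⟨S', _, _, hfin, hfree, hfp, hff, hsurj, t, ht⟩ :=
    Groth.Agent.H88.exists_split_cover R P.f P.monic_f
  refine ⟨S', inferInstance, inferInstance, hfin, hfp, hff, ?_⟩
  intro m' _
  have hdisj : Disjoint (Submonoid.powers s : Set T) (q : Set T) :=
    (Ideal.disjoint_powers_iff_notMem_of_isPrime _).mpr hsq
  haveI hqs : (q.map (algebraMap T (Localization.Away s))).IsPrime :=
    IsLocalization.isPrime_of_isPrime_disjoint (.powers s) _ _ ‹q.IsPrime› hdisj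
  have hcomap : (q.map (algebraMap T (Localization.Away s))).comap
      (algebraMap T (Localization.Away s)) = q :=
    IsLocalization.comap_map_of_isPrime_disjoint (.powers s) _ ‹q.IsPrime› hdisj
  -- `q` lies over the maximal ideal of `R`
  have hq : q.under R = IsLocalRing.maximalIdeal R := by
    have h1 : (IsLocalRing.maximalIdeal S).comap (algebraMap T S) = q :=
      IsLocalization.AtPrime.under_maximalIdeal S q
    have h2 : (IsLocalRing.maximalIdeal S).comap (algebraMap R S) = IsLocalRing.maximalIdeal R :=
      ((IsLocalRing.local_hom_TFAE (algebraMap R S)).out 0 4).mp ‹_›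
    rw [← h2, IsScalarTower.algebraMap_eq R T S, ← Ideal.comap_comap, h1]
  have hm' : m'.under R = IsLocalRing.maximalIdeal R := by
    haveI : Algebra.IsIntegral R S' := Algebra.IsIntegral.of_finite R S'
    haveI : (m'.under R).IsMaximal := Ideal.IsMaximal.under R m'
    exact IsLocalRing.eq_maximalIdeal this
  have hunder : m'.under R = (q.map (algebraMap T (Localization.Away s))).under R := by
    rw [hm', ← hq]
    conv_lhs => rw [← hcomap]
    rw [Ideal.under, Ideal.under, Ideal.comap_comap, ← IsScalarTower.algebraMap_eq]
  obtain ⟨ψ, hψ⟩ := Groth.Agent.H88.exists_atPrime_factor_of_split P t ht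
    (q.map (algebraMap T (Localization.Away s))) m' hunder
  let ψ' : T →ₐ[R] Localization.AtPrime m' :=
    ψ.comp (IsScalarTower.toAlgHom R T (Localization.Away s))
  have hψ' : (IsLocalRing.maximalIdeal (Localization.AtPrime m')).comap ψ' = q := by
    rw [← hcomap, ← hψ]
    rfl
  have hunits : ∀ y : q.primeCompl, IsUnit (ψ' y) := by
    intro y
    by_contra hnu
    have h1 : ψ' y ∈ IsLocalRing.maximalIdeal (Localization.AtPrime m') :=
      (IsLocalRing.mem_maximalIdeal _).mpr hnu
    have h2 : (y : T) ∈ (IsLocalRing.maximalIdeal (Localization.AtPrime m')).comap ψ' :=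
      Ideal.mem_comap.mpr h1
    have h3 : ∀ (z : T) (J : Ideal T), J = q → z ∈ J → z ∈ q := by
      intro z J hJ hz
      exact hJ ▸ hz
    exact y.2 (h3 _ _ hψ' h2)
  exact ⟨IsLocalization.liftAlgHom (M := q.primeCompl) hunits⟩

end Groth.Agent.S9434
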