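import Groth.Statements.S9440
import Groth.Agent.H13.NagataAnUnram
import Groth.Agent.H13.ComplFiniteRed
import Groth.Agent.H13.JacobsonFinite
import Groth.Agent.H13.LocalSub
import Groth.Agent.H13.AnUnramN1
import Groth.Agent.H10.NagataDesc
import Groth.Agent.H47.N2ofN1
-- import your own Groth.Agent.* helpers here

set_option autoImplicit false
universe u
open CAlg

namespace Groth.Agent.S9440

/-- (1) ⇔ (3): a Noetherian local ring R is a Nagata ring if and only if for every finite local
homomorphism R → S of local rings with S a domain, the completion of S is reduced. -/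
theorem result (R : Type u) [CommRing R]
    [IsLocalRing R] [IsNoetherianRing R] :
    CAlg.IsNagata R ↔ ∀ (S : Type u) [CommRing S] [IsDomain S] [IsLocalRing S] [Algebra R S]
      [IsLocalHom (algebraMap R S)] [Module.Finite R S],
      IsReduced (AdicCompletion (IsLocalRing.maximalIdeal S) S) := by
  constructor
  · -- Nagata ⟹ finite local domains are analytically unramified
    intro hR S _ _ _ _ _ _
    haveI : Algebra.IsIntegral R S := Algebra.IsIntegral.of_finite R S
    obtain ⟨e, he⟩ := Groth.Agent.H13.JacobsonFinite.exists_jacobson_pow_le R S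
    rw [IsLocalRing.jacobson_eq_maximalIdeal ⊥ bot_ne_top] at he
    exact Groth.Agent.H13.ComplFiniteRed.isReduced_adicCompletion_of_finite R S _
      (Groth.Agent.H13.JacobsonFinite.map_maximalIdeal_le_of_isMaximal R S _) e he
      (Groth.Agent.H13.NagataAnUnram.isReduced_tensor_of_isDomain R hR.2 S)
  · intro H
    refine ⟨inferInstance, fun p hp => ?_⟩
    by_cases hpm : p = IsLocalRing.maximalIdeal R
    · apply Groth.Agent.H10.NagataDesc.isN2_of_isField
      rw [← Ideal.Quotient.maximal_ideal_iff_isField_quotient, hpm]
      infer_instance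
    · have hle : p ≤ IsLocalRing.maximalIdeal R := IsLocalRing.le_maximalIdeal hp.ne_top
      obtain ⟨t, htm, htp⟩ := SetLike.exists_of_lt (lt_of_le_of_ne hle hpm)
      -- `R → R ⧸ p` reflects units
      have hunit : ∀ a : R, IsUnit (Ideal.Quotient.mk p a) → IsUnit a := by
        intro a ha
        obtain ⟨b, hb⟩ := ha.exists_right_inv
        obtain ⟨b, rfl⟩ := Ideal.Quotient.mk_surjective b
        rw [← map_mul, ← map_one (Ideal.Quotient.mk p), Ideal.Quotient.eq] at hb
        by_contra hna
        have ham : a ∈ IsLocalRing.maximalIdeal R := (IsLocalRing.mem_maximalIdeal a).mpr hna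
        have h1 : (1 : R) ∈ IsLocalRing.maximalIdeal R := by
          have h2 : a * b - 1 ∈ IsLocalRing.maximalIdeal R := hle hb
          have h3 : a * b ∈ IsLocalRing.maximalIdeal R := Ideal.mul_mem_right _ _ ham
          have : (1 : R) = a * b - (a * b - 1) := by ring
          rw [this]
          exact Ideal.sub_mem _ h3 h2
        exact (Ideal.ne_top_iff_one _).mp (Ideal.IsPrime.ne_top inferInstance) h1
      haveI : IsLocalRing (R ⧸ p) :=
        IsLocalRing.of_surjective' (Ideal.Quotient.mk p) Ideal.Quotient.mk_surjective
      have htm' : Ideal.Quotient.mk p t ∈ IsLocalRing.maximalIdeal (R ⧸ p) := by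
        rw [IsLocalRing.mem_maximalIdeal, mem_nonunits_iff]
        intro hu
        exact (IsLocalRing.mem_maximalIdeal t).mp htm (hunit t hu)
      intro L _ _ _ _ hfd
      haveI := hfd
      obtain ⟨S₀, -, hfin, hfrac⟩ :=
        Groth.Agent.H47.exists_finite_subalgebra_isFractionRing (R ⧸ p) (FractionRing (R ⧸ p)) L
      haveI := hfin
      haveI := hfrac
      have hinjL : Function.Injective (algebraMap (R ⧸ p) L) := by
        rw [IsScalarTower.algebraMap_eq (R ⧸ p) (FractionRing (R ⧸ p)) L]
        exact (algebraMap (FractionRing (R ⧸ p)) L).injective.comp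
          (IsFractionRing.injective (R ⧸ p) _)
      have ht0 : algebraMap (R ⧸ p) L (Ideal.Quotient.mk p t) ≠ 0 := by
        rw [Ne, map_eq_zero_iff _ hinjL, Ideal.Quotient.eq_zero_iff_mem]
        exact htp
      let S := Groth.Agent.H13.LocalSub.sub S₀ (Ideal.Quotient.mk p t)
      haveI : Module.Finite (R ⧸ p) S := Groth.Agent.H13.LocalSub.finite_sub S₀ _
      haveI : IsFractionRing S L := Groth.Agent.H13.LocalSub.isFractionRing_sub S₀ _ ht0
      haveI : IsLocalRing S := Groth.Agent.H13.LocalSub.isLocalRing_sub S₀ _ htm'
      haveI hloc1 : IsLocalHom (algebraMap (R ⧸ p) S) :=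
        Groth.Agent.H13.LocalSub.isLocalHom_sub S₀ _ htm'
      letI : Algebra R L := ((algebraMap (R ⧸ p) L).comp (algebraMap R (R ⧸ p))).toAlgebra
      haveI : IsScalarTower R (R ⧸ p) L := IsScalarTower.of_algebraMap_eq (fun _ => rfl)
      haveI : IsScalarTower R (R ⧸ p) S := inferInstance
      haveI : Module.Finite R S := Module.Finite.trans (R ⧸ p) S
      haveI : IsLocalHom (algebraMap R S) := by
        constructor
        intro a ha
        rw [IsScalarTower.algebraMap_apply R (R ⧸ p) S] at ha
        exact hunit a (hloc1.map_nonunit _ ha)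
      haveI : IsNoetherianRing S := Algebra.FiniteType.isNoetherianRing R S
      haveI : IsReduced (AdicCompletion (IsLocalRing.maximalIdeal S) S) := H S
      have hN1 : CAlg.IsN1 S := Groth.Agent.H13.AnUnramN1.isN1_of_isReduced_completion S
      exact Groth.Agent.H47.finite_integralClosure_of_subalgebra S hN1

end Groth.Agent.S9440
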