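import Groth.Statements.S9445
import Groth.Agent.S9428
import Mathlib.RingTheory.RingHom.Smooth
import Mathlib.RingTheory.RingHom.Unramified
import Mathlib.RingTheory.IsTensorProduct

set_option autoImplicit false
universe u
open CAlg

namespace Groth.Agent.S9445

open TensorProduct in
/-- For ring maps R → S → S' with S → S' formally étale and k ≥ 0, let J' ⊆ S' ⊗_R S' be the kernel of
multiplication and I ⊆ S' ⊗_R S its preimage under the map induced by S → S' (I is the kernel of S'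
⊗_R S → S', and (S' ⊗_R S)/I^{k+1} is S' ⊗_S P^k_{S/R}); then (S' ⊗_R S)/I^{k+1} → (S' ⊗_R
S')/J'^{k+1} is bijective. (The consequence S' ⊗_S Ω_{S/R} ≅ Ω_{S'/R} is Mathlib's
KaehlerDifferential.isBaseChange_of_formallyEtale.) -/
theorem result (R : Type u) [CommRing R]
    (S : Type u) [CommRing S] [Algebra R S] (S' : Type u) [CommRing S'] [Algebra R S']
    [Algebra S S'] [IsScalarTower R S S'] [Algebra.FormallyEtale S S'] (k : ℕ) :
    Function.Bijective (Ideal.quotientMap (KaehlerDifferential.ideal R S' ^ (k + 1))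
      (Algebra.TensorProduct.map (AlgHom.id S' S') (IsScalarTower.toAlgHom R S S')).toRingHom
      (Ideal.le_comap_pow
        (Algebra.TensorProduct.map (AlgHom.id S' S') (IsScalarTower.toAlgHom R S S')).toRingHom
        (K := KaehlerDifferential.ideal R S') (k + 1))) := by
  classical
  -- the mirrored map `S ⊗ S' → S' ⊗ S'`
  let τ' : S ⊗[R] S' →ₐ[R] S' ⊗[R] S' :=
    Algebra.TensorProduct.map (IsScalarTower.toAlgHom R S S') (AlgHom.id R S')
  letI alg' : Algebra (S ⊗[R] S') (S' ⊗[R] S') := τ'.toRingHom.toAlgebra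
  haveI : IsScalarTower S (S ⊗[R] S') (S' ⊗[R] S') := IsScalarTower.of_algebraMap_eq (fun s => by
    show algebraMap S (S' ⊗[R] S') s = τ' (algebraMap S (S ⊗[R] S') s)
    rw [Algebra.TensorProduct.algebraMap_apply, Algebra.TensorProduct.algebraMap_apply]
    simp [τ'])
  have hpush : Algebra.IsPushout S S' (S ⊗[R] S') (S' ⊗[R] S') :=
    Algebra.IsPushout.tensorProduct_tensorProduct R S' S S' (by
      ext x
      show τ' ((1 : S) ⊗ₜ[R] x) = (1 : S') ⊗ₜ[R] x
      simp [τ'])
  have h1 : (algebraMap (S ⊗[R] S') (S' ⊗[R] S')).FormallySmooth :=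
    RingHom.FormallySmooth.isStableUnderBaseChange S S' (S ⊗[R] S') (S' ⊗[R] S')
      (RingHom.formallySmooth_algebraMap.mpr inferInstance)
  have h2 : (algebraMap (S ⊗[R] S') (S' ⊗[R] S')).FormallyUnramified :=
    RingHom.FormallyUnramified.isStableUnderBaseChange S S' (S ⊗[R] S') (S' ⊗[R] S')
      (RingHom.formallyUnramified_algebraMap.mpr inferInstance)
  let cP : S' ⊗[R] S ≃ₐ[R] S ⊗[R] S' := Algebra.TensorProduct.comm R S' S
  let cQ : S' ⊗[R] S' ≃ₐ[R] S' ⊗[R] S' := Algebra.TensorProduct.comm R S' S'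
  set τ : S' ⊗[R] S →ₐ[R] S' ⊗[R] S' :=
    Algebra.TensorProduct.map (AlgHom.id S' S') (IsScalarTower.toAlgHom R S S') |>.restrictScalars R
    with hτ
  have hτeq : τ.toRingHom =
      (cQ.toRingEquiv.toRingHom.comp (algebraMap (S ⊗[R] S') (S' ⊗[R] S'))).comp
        cP.toRingEquiv.toRingHom := by
    have : τ = (cQ.toAlgHom.comp τ').comp cP.toAlgHom := by
      apply Algebra.TensorProduct.ext'
      intro a b
      simp [τ, τ', cP, cQ]
    rw [this]
    rfl
  have h1' : τ.toRingHom.FormallySmooth := by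
    rw [hτeq]
    exact RingHom.FormallySmooth.respectsIso.2 _ _ (RingHom.FormallySmooth.respectsIso.1 _ _ h1)
  have h2' : τ.toRingHom.FormallyUnramified := by
    rw [hτeq]
    exact RingHom.FormallyUnramified.respectsIso.2 _ _
      (RingHom.FormallyUnramified.respectsIso.1 _ _ h2)
  letI algτ : Algebra (S' ⊗[R] S) (S' ⊗[R] S') := τ.toRingHom.toAlgebra
  haveI : Algebra.FormallyEtale (S' ⊗[R] S) (S' ⊗[R] S') :=
    Algebra.FormallyEtale.iff_formallyUnramified_and_formallySmooth.mpr ⟨h2', h1'⟩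
  have hsurj : Function.Surjective
      (algebraMap (S' ⊗[R] S) ((S' ⊗[R] S') ⧸ KaehlerDifferential.ideal R S')) := by
    intro y
    obtain ⟨q, rfl⟩ := Ideal.Quotient.mk_surjective y
    refine ⟨(Algebra.TensorProduct.lmul' R q) ⊗ₜ[R] (1 : S), ?_⟩
    rw [IsScalarTower.algebraMap_apply (S' ⊗[R] S) (S' ⊗[R] S')
      ((S' ⊗[R] S') ⧸ KaehlerDifferential.ideal R S'), Ideal.Quotient.algebraMap_eq,
      Ideal.Quotient.eq]
    show τ ((Algebra.TensorProduct.lmul' R q) ⊗ₜ[R] (1 : S)) - q ∈ KaehlerDifferential.ideal R S'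
    rw [RingHom.mem_ker, map_sub]
    simp [τ]
  exact Groth.Agent.S9428.result (S' ⊗[R] S) (S' ⊗[R] S') (KaehlerDifferential.ideal R S') hsurj (k + 1)

end Groth.Agent.S9445
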