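import Groth.Statements.S9449
import Groth.Agent.H21.AlgDecompSch
import Groth.Agent.H21.AlgDecompMulti

set_option autoImplicit false
universe u
open Unram

namespace Groth.Agent.S9449

open TensorProduct in
/-- For an unramified ring map R → S and a prime p of R there exist an étale R-algebra R', a prime p' of
R' lying over p and a decomposition R' ⊗_R S ≅ A_1 × ⋯ × A_n × B of R'-algebras with every R' → A_i
surjective, p'A_i a prime ideal of A_i whose preimage in R' is p', and no prime of B lying over p'. -/
theorem result (R : Type u) [CommRing R]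
    (S : Type u) [CommRing S] [Algebra R S] [Algebra.Unramified R S] (p : Ideal R) [p.IsPrime] :
    ∃ (R' : Type u) (_ : CommRing R') (_ : Algebra R R') (_ : Algebra.Etale R R') (p' : Ideal R')
      (_ : p'.IsPrime) (_ : p'.LiesOver p) (n : ℕ) (A : Fin n → Type u) (_ : ∀ i, CommRing (A i))
      (_ : ∀ i, Algebra R' (A i)) (B : Type u) (_ : CommRing B) (_ : Algebra R' B),
      Nonempty ((R' ⊗[R] S) ≃ₐ[R'] ((∀ i, A i) × B)) ∧
        (∀ i, Function.Surjective (algebraMap R' (A i)) ∧
          (p'.map (algebraMap R' (A i))).IsPrime ∧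
          (p'.map (algebraMap R' (A i))).comap (algebraMap R' (A i)) = p') ∧
        ∀ (q : Ideal B) [q.IsPrime], q.comap (algebraMap R' B) ≠ p' := by
  classical
  let ppt : PrimeSpectrum R := ⟨p, inferInstance⟩
  have hft : Algebra.FiniteType R S := inferInstance
  have hfu : Algebra.FormallyUnramified R S := inferInstance
  have hqf : Algebra.QuasiFinite R S := inferInstance
  have hfin : (PrimeSpectrum.comap (algebraMap R S) ⁻¹' {ppt}).Finite :=
    Algebra.QuasiFinite.finite_comap_preimage_singleton ppt
  have := hfin.to_subtype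
  obtain ⟨n₀, ⟨e₀⟩⟩ := Finite.exists_equiv_fin ↥(PrimeSpectrum.comap (algebraMap R S) ⁻¹' {ppt})
  let x : Fin n₀ → PrimeSpectrum S := fun i => (e₀.symm i).1
  have hinj : Function.Injective x := Subtype.val_injective.comp e₀.symm.injective
  have hs : ∀ i, PrimeSpectrum.comap (algebraMap R S) (x i) = ppt := fun i => (e₀.symm i).2
  have hall : ∀ y : PrimeSpectrum S, PrimeSpectrum.comap (algebraMap R S) y = ppt →
      ∃ i, x i = y := fun y hy => ⟨e₀ ⟨y, hy⟩, by simp only [x, Equiv.symm_apply_apply]⟩
  have hlft : AlgebraicGeometry.LocallyOfFiniteType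
      (AlgebraicGeometry.Spec.map (CommRingCat.ofHom (algebraMap R S))) :=
    (AlgebraicGeometry.HasRingHomProperty.Spec_iff
      (P := @AlgebraicGeometry.LocallyOfFiniteType)).mpr (RingHom.finiteType_algebraMap.mpr hft)
  have hunr : AlgebraicGeometry.FormallyUnramified
      (AlgebraicGeometry.Spec.map (CommRingCat.ofHom (algebraMap R S))) :=
    (AlgebraicGeometry.HasRingHomProperty.Spec_iff
      (P := @AlgebraicGeometry.FormallyUnramified)).mpr
      (RingHom.formallyUnramified_algebraMap.mpr hfu)
  obtain ⟨R', _, _, het, p', hp', K, hK, W, V, hcov, hWV, hVV, hV, hW⟩ :=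
    Groth.Agent.H21.AlgDecomp.exists_affine_etale_decomposition R S ppt x hinj hs
      (fun i => ⟨⊤, trivial, inferInstance,
        CategoryTheory.MorphismProperty.comp_mem _ _ _ inferInstance inferInstance⟩)
  obtain ⟨n, A, _, _, B, _, _, he, hA, hB⟩ :=
    Groth.Agent.H21.AlgDecomp.exists_prod_decomposition_multi p' W V hcov hVV hV
      (fun z hzW hzp => by
        obtain ⟨i, hi⟩ := hall (PrimeSpectrum.comap
          (Algebra.TensorProduct.includeRight : S →ₐ[R] R' ⊗[R] S).toRingHom z) (by
            apply PrimeSpectrum.ext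
            rw [← hp', ← hzp]
            change (z.asIdeal.comap _).comap _ = (z.asIdeal.comap _).comap _
            rw [Ideal.comap_comap, Ideal.comap_comap]
            congr 1
            ext r
            simp [Algebra.TensorProduct.algebraMap_apply])
        exact hW z i hzW hzp hi.symm)
  exact ⟨R', inferInstance, inferInstance, het, p'.asIdeal, p'.isPrime,
    ⟨(congrArg PrimeSpectrum.asIdeal hp').symm⟩, n, A, inferInstance, inferInstance, B,
    inferInstance, inferInstance, he, hA, fun q _ => hB q⟩

end Groth.Agent.S9449
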