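import Groth.Statements.S9452
import Groth.Agent.H21.AlgDecompSch

set_option autoImplicit false
universe u
open Unram

namespace Groth.Agent.S9452

open TensorProduct in
/-- Let R → S be of finite type and unramified at a prime q lying over p. Then there are an étale
R-algebra R', a prime p' of R' over p and an R'-algebra isomorphism e : R' ⊗_R S ≅ A × B with R' → A
surjective and p'A a prime ideal of A lying over p' whose pull-back along S → R' ⊗_R S ≅ A × B → A
is q. -/
theorem result (R : Type u) [CommRing R]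
    (S : Type u) [CommRing S] [Algebra R S] [Algebra.FiniteType R S] (q : Ideal S) [q.IsPrime]
    [Algebra.IsUnramifiedAt R q] :
    ∃ (R' : Type u) (_ : CommRing R') (_ : Algebra R R') (_ : Algebra.Etale R R') (p' : Ideal R')
      (_ : p'.IsPrime) (_ : p'.LiesOver (q.under R)) (A : Type u) (_ : CommRing A) (_ : Algebra R' A)
      (B : Type u) (_ : CommRing B) (_ : Algebra R' B) (e : (R' ⊗[R] S) ≃ₐ[R'] (A × B)),
      Function.Surjective (algebraMap R' A) ∧ (p'.map (algebraMap R' A)).IsPrime ∧
        (p'.map (algebraMap R' A)).comap (algebraMap R' A) = p' ∧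
        (p'.map (algebraMap R' A)).comap (((RingHom.fst A B).comp e.toRingHom).comp
          (Algebra.TensorProduct.includeRight : S →ₐ[R] R' ⊗[R] S).toRingHom) = q := by
  classical
  let qpt : PrimeSpectrum S := ⟨q, inferInstance⟩
  let ppt : PrimeSpectrum R := PrimeSpectrum.comap (algebraMap R S) qpt
  have hunrq : Algebra.IsUnramifiedAt R qpt.asIdeal := ‹_›
  obtain ⟨W₀, hqW₀, hlft, hunr⟩ := Groth.Agent.H21.AlgDecomp.exists_unramified_nhd_SpecMap R S qpt
  obtain ⟨R', _, _, het, p', hp', K, hK, W, V, hcov, hWV, hVV, hV, hW⟩ :=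
    Groth.Agent.H21.AlgDecomp.exists_affine_etale_decomposition R S ppt (fun _ : Unit => qpt)
      (fun _ _ _ => rfl) (fun _ => rfl) (fun _ => ⟨W₀, hqW₀, hlft, hunr⟩)
  have sq : CategoryTheory.IsPullback
      (AlgebraicGeometry.Spec.map (CommRingCat.ofHom
        (Algebra.TensorProduct.includeRight : S →ₐ[R] R' ⊗[R] S).toRingHom))
      (AlgebraicGeometry.Spec.map (CommRingCat.ofHom
        (Algebra.TensorProduct.includeLeftRingHom : R' →+* R' ⊗[R] S)))
      (AlgebraicGeometry.Spec.map (CommRingCat.ofHom (algebraMap R S)))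
      (AlgebraicGeometry.Spec.map (CommRingCat.ofHom (algebraMap R R'))) :=
    (AlgebraicGeometry.isPullback_SpecMap_of_isPushout _ _ _ _
      (CommRingCat.isPushout_tensorProduct R R' S)).flip
  obtain ⟨z, hz1, hz2⟩ := Groth.Agent.H21.AlgDecomp.exists_preimage_of_isPullback sq qpt p'
    hp'.symm
  have hzW : z ∉ W := fun h => hW z () h hz2 hz1
  have hzmem : z ∈ W ⊔ (⨆ k, V k) := by rw [hcov]; trivial
  obtain ⟨k₀, hk₀⟩ : ∃ k, z ∈ V k := by
    rcases hzmem with h | h
    · exact (hzW h).elim
    · exact TopologicalSpace.Opens.mem_iSup.1 h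
  have hcl : IsClosed (V k₀ : Set ↥(AlgebraicGeometry.Spec (CommRingCat.of (R' ⊗[R] S)))) := by
    have := (hV k₀).1
    exact Groth.Agent.H21.EtNbhd.isClosed_of_universallyClosed_ι_comp
      (AlgebraicGeometry.Spec.map (CommRingCat.ofHom (algebraMap R' (R' ⊗[R] S)))) (V k₀)
  obtain ⟨A, _, _, B, _, _, e, h1, h2, h3, h4⟩ :=
    Groth.Agent.H21.AlgDecomp.exists_prod_decomposition_single (V k₀) hcl (hV k₀).1 z hk₀
      p'.asIdeal (congrArg PrimeSpectrum.asIdeal hz2) q (congrArg PrimeSpectrum.asIdeal hz1)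
  refine ⟨R', inferInstance, inferInstance, het, p'.asIdeal, p'.isPrime, ⟨?_⟩, A, inferInstance,
    inferInstance, B, inferInstance, inferInstance, e, h1, h2, h3, h4⟩
  exact (congrArg PrimeSpectrum.asIdeal hp').symm

end Groth.Agent.S9452
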