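import Groth.Statements.S9454
import Mathlib
import Groth.Agent.H88.SplitFactor
import Groth.Agent.H88.SplitAlgList

set_option autoImplicit false
universe u
open CAlg

namespace Groth.Agent.S9454

/-- For an étale ring map R → S which is surjective on spectra there is a finite, finitely presented,
flat R-algebra S' with Spec S' → Spec R surjective such that, Zariski locally on S', the structure
map factors through S: every prime q' of S' has some g' ∉ q' and an R-algebra map S → S'_{g'}. -/
theorem result (R : Type u) [CommRing R]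
    (S : Type u) [CommRing S] [Algebra R S] [Algebra.Etale R S]
    (hs : Function.Surjective (PrimeSpectrum.comap (algebraMap R S))) :
    ∃ (S' : Type u) (_ : CommRing S') (_ : Algebra R S'),
      Module.Finite R S' ∧ Algebra.FinitePresentation R S' ∧ Module.Flat R S' ∧
        Function.Surjective (PrimeSpectrum.comap (algebraMap R S')) ∧
        ∀ (q' : Ideal S') [q'.IsPrime], ∃ (g' : S') (_ : g' ∉ q'),
          Nonempty (S →ₐ[R] Localization.Away g') := by
  classical
  -- for each prime, a standard étale principal localisation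
  have key : ∀ Q : PrimeSpectrum S, ∃ s : S, s ∉ Q.asIdeal ∧
      Algebra.IsStandardEtale R (Localization.Away s) := by
    intro Q
    haveI : Algebra.IsEtaleAt R Q.asIdeal :=
      Algebra.FormallyEtale.comp R S (Localization.AtPrime Q.asIdeal)
    exact Algebra.IsEtaleAt.exists_isStandardEtale Q.asIdeal
  choose s hsQ hse using key
  have htop : Ideal.span (Set.range s) = ⊤ := by
    by_contra hne
    obtain ⟨m, hm, hle⟩ := Ideal.exists_le_maximal _ hne
    exact hsQ ⟨m, hm.isPrime⟩ (hle (Ideal.subset_span ⟨_, rfl⟩))
  obtain ⟨T, hT, hTtop⟩ := (Ideal.span_eq_top_iff_finite _).mp htop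
  have hP : ∀ x ∈ T, Nonempty (StandardEtalePresentation R (Localization.Away x)) := by
    intro x hx
    obtain ⟨Q, rfl⟩ := hT hx
    exact (hse Q).nonempty_standardEtalePresentation
  let f : S → Polynomial R := fun x ↦ if h : x ∈ T then (hP x h).some.f else 1
  have hfm : ∀ i ∈ T, (f i).Monic := by
    intro i hi
    simp only [f, hi, dif_pos]
    exact (hP i hi).some.monic_f
  obtain ⟨S', _, _, hfin, hfree, hfp, hff, hsurj, hsplit⟩ :=
    Groth.Agent.H88.exists_split_cover_finset R T f hfm
  refine ⟨S', inferInstance, inferInstance, hfin, hfp, inferInstance, hsurj, ?_⟩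
  intro q' _
  obtain ⟨Q, hQ⟩ := hs ⟨q'.under R, inferInstance⟩
  obtain ⟨x, hxT, hxQ⟩ : ∃ x ∈ T, x ∉ Q.asIdeal := by
    by_contra hcon
    push Not at hcon
    have hle : Ideal.span (T : Set S) ≤ Q.asIdeal := Ideal.span_le.mpr hcon
    rw [hTtop] at hle
    exact Q.2.ne_top (top_le_iff.mp hle)
  obtain ⟨n, t, ht⟩ := hsplit x hxT
  have ht' : (hP x hxT).some.f.map (algebraMap R S') =
      ∏ j, (Polynomial.X - Polynomial.C (t j)) := by
    simpa only [f, hxT, dif_pos] using ht
  have hdisj : Disjoint (Submonoid.powers x : Set S) (Q.asIdeal : Set S) :=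
    (Ideal.disjoint_powers_iff_notMem_of_isPrime _).mpr hxQ
  haveI hqx : (Q.asIdeal.map (algebraMap S (Localization.Away x))).IsPrime :=
    IsLocalization.isPrime_of_isPrime_disjoint (.powers x) _ _ Q.2 hdisj
  have hcomap : (Q.asIdeal.map (algebraMap S (Localization.Away x))).comap
      (algebraMap S (Localization.Away x)) = Q.asIdeal :=
    IsLocalization.comap_map_of_isPrime_disjoint (.powers x) _ Q.2 hdisj
  have hunder : q'.under R =
      (Q.asIdeal.map (algebraMap S (Localization.Away x))).under R := by
    have h1 : Q.asIdeal.comap (algebraMap R S) = q'.under R := congrArg PrimeSpectrum.asIdeal hQ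
    rw [← h1]
    conv_lhs => rw [← hcomap]
    rw [Ideal.under, Ideal.comap_comap, ← IsScalarTower.algebraMap_eq]
  obtain ⟨g', hg', φ, -⟩ := Groth.Agent.H88.exists_factor_of_split (hP x hxT).some t ht'
    (Q.asIdeal.map (algebraMap S (Localization.Away x))) q' hunder
  exact ⟨g', hg', ⟨φ.comp (IsScalarTower.toAlgHom R S (Localization.Away x))⟩⟩

end Groth.Agent.S9454
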