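import Groth.Statements.S9458
import Groth.Agent.H3.HensQFFinite

set_option autoImplicit false
universe u
open Hensel

namespace Groth.Agent.S9458

/-- Let R → S be of finite type and quasi-finite at a prime q lying over p, and let R_p^h, S_q^h be
henselizations of the local rings, S_q^h carrying the compatible R_p^h-algebra structure (the
canonical local map R_p^h → S_q^h). Then S_q^h is finite over R_p^h. (The published statement also
identifies S_q^h with a localization of R_p^h ⊗_{R_p} S_q; this row states only that S_q^h is finite
over R_p^h.) -/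
theorem result (R : Type u) [CommRing R] (S : Type u)
    [CommRing S] [Algebra R S] [Algebra.FiniteType R S] (p : Ideal R) [p.IsPrime] (q : Ideal S)
    [q.IsPrime] [q.LiesOver p] [Algebra.QuasiFiniteAt R q]
    (Rh : Type u) [CommRing Rh] [IsLocalRing Rh] [Algebra (Localization.AtPrime p) Rh]
    [IsLocalHom (algebraMap (Localization.AtPrime p) Rh)]
    [Hensel.IsHenselization (Localization.AtPrime p) Rh]
    (Sh : Type u) [CommRing Sh] [IsLocalRing Sh] [Algebra (Localization.AtPrime q) Sh]
    [IsLocalHom (algebraMap (Localization.AtPrime q) Sh)]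
    [Hensel.IsHenselization (Localization.AtPrime q) Sh]
    [Algebra (Localization.AtPrime p) (Localization.AtPrime q)]
    [IsScalarTower R (Localization.AtPrime p) (Localization.AtPrime q)]
    [Algebra Rh Sh] [Algebra (Localization.AtPrime p) Sh]
    [IsScalarTower (Localization.AtPrime p) Rh Sh]
    [IsScalarTower (Localization.AtPrime p) (Localization.AtPrime q) Sh] :
    Module.Finite Rh Sh := by
  classical
  letI aRRh : Algebra R Rh := ((algebraMap (Localization.AtPrime p) Rh).comp
    (algebraMap R (Localization.AtPrime p))).toAlgebra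
  haveI t1 : IsScalarTower R (Localization.AtPrime p) Rh :=
    IsScalarTower.of_algebraMap_eq (fun _ => rfl)
  letI aSSh : Algebra S Sh := ((algebraMap (Localization.AtPrime q) Sh).comp
    (algebraMap S (Localization.AtPrime q))).toAlgebra
  haveI t2 : IsScalarTower S (Localization.AtPrime q) Sh :=
    IsScalarTower.of_algebraMap_eq (fun _ => rfl)
  letI aRSh : Algebra R Sh := ((algebraMap S Sh).comp (algebraMap R S)).toAlgebra
  haveI t3 : IsScalarTower R S Sh := IsScalarTower.of_algebraMap_eq (fun _ => rfl)
  have key : ∀ x : Localization.AtPrime p, algebraMap Rh Sh (algebraMap (Localization.AtPrime p) Rh x) =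
      algebraMap (Localization.AtPrime q) Sh
        (algebraMap (Localization.AtPrime p) (Localization.AtPrime q) x) := by
    intro x
    rw [← IsScalarTower.algebraMap_apply (Localization.AtPrime p) Rh Sh,
      ← IsScalarTower.algebraMap_apply (Localization.AtPrime p) (Localization.AtPrime q) Sh]
  haveI t4 : IsScalarTower R Rh Sh := by
    refine IsScalarTower.of_algebraMap_eq (fun r => ?_)
    change algebraMap (Localization.AtPrime q) Sh (algebraMap S (Localization.AtPrime q)
      (algebraMap R S r)) = algebraMap Rh Sh (algebraMap (Localization.AtPrime p) Rh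
        (algebraMap R (Localization.AtPrime p) r))
    rw [key, ← IsScalarTower.algebraMap_apply R S (Localization.AtPrime q),
      ← IsScalarTower.algebraMap_apply R (Localization.AtPrime p) (Localization.AtPrime q)]
  haveI l1 : IsLocalHom (algebraMap (Localization.AtPrime p) (Localization.AtPrime q)) := by
    apply Groth.Agent.H3.HensTensorPrime.isLocalHom_of_map_le p
    intro x hx
    rw [← IsScalarTower.algebraMap_apply R (Localization.AtPrime p) (Localization.AtPrime q),
      IsScalarTower.algebraMap_apply R S (Localization.AtPrime q),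
      IsLocalization.AtPrime.to_map_mem_maximal_iff (Localization.AtPrime q) q]
    have h1 := Ideal.over_def q p
    rw [h1] at hx
    exact hx
  have hRh : Hensel.IsHenselization (Localization.AtPrime p) Rh := inferInstance
  haveI l2 : IsLocalHom (algebraMap Rh Sh) := by
    refine ((IsLocalRing.local_hom_TFAE (algebraMap Rh Sh)).out 0 2).mpr ?_
    rw [Groth.Agent.H3.HensLocal.maximalIdeal_eq
      (Groth.Agent.H3.HensIso.isPairHenselization_of_isHenselization hRh), Ideal.map_map,
      Ideal.map_le_iff_le_comap]
    intro x hx
    rw [Ideal.mem_comap]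
    change algebraMap Rh Sh (algebraMap (Localization.AtPrime p) Rh x) ∈ _
    rw [key, IsLocalRing.mem_maximalIdeal, mem_nonunits_iff]
    intro hu
    have h1 := isUnit_of_map_unit (algebraMap (Localization.AtPrime q) Sh) _ hu
    have h2 := isUnit_of_map_unit (algebraMap (Localization.AtPrime p) (Localization.AtPrime q)) _ h1
    exact (IsLocalRing.mem_maximalIdeal _).mp hx h2
  haveI hhRh : HenselianLocalRing Rh := hRh.henselian
  have hH := Groth.Agent.H3.HensTensorPrime.isHenselization R S p q Rh Sh
  haveI hT : HenselianLocalRing (Localization.AtPrime (Groth.Agent.H3.HensTensorPrime.Q R S Rh Sh)) :=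
    Groth.Agent.H3.HensQFFinite.henselian_T R S q Rh Sh
  have hself := Groth.Agent.H3.HensQFFinite.isHenselization_self
    (Localization.AtPrime (Groth.Agent.H3.HensTensorPrime.Q R S Rh Sh))
  letI aT : Algebra (Localization.AtPrime (Groth.Agent.H3.HensTensorPrime.Q R S Rh Sh)) Sh :=
    (Groth.Agent.H3.HensTensorPrime.psi R S Rh Sh).toAlgebra
  haveI lT : IsLocalHom (algebraMap (Localization.AtPrime
      (Groth.Agent.H3.HensTensorPrime.Q R S Rh Sh)) Sh) :=
    Groth.Agent.H3.HensTensorPrime.isLocalHom_psi R S Rh Sh
  obtain ⟨e, he⟩ := Groth.Agent.H3.HensIso.exists_ringEquiv_of_isHenselization hself hH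
  have hsurj : Function.Surjective (Groth.Agent.H3.HensTensorPrime.psi R S Rh Sh) := by
    intro y
    obtain ⟨x, rfl⟩ := e.surjective y
    refine ⟨x, ?_⟩
    exact (congrArg (fun φ : Localization.AtPrime (Groth.Agent.H3.HensTensorPrime.Q R S Rh Sh) →+* Sh =>
      φ x) he).symm
  exact Groth.Agent.H3.HensQFFinite.finite_of_surjective R S q Rh Sh hsurj

end Groth.Agent.S9458
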