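import Groth.Statements.S9461
import Groth.Agent.H3.HensQFFinite

set_option autoImplicit false
universe u
open Hensel

namespace Groth.Agent.S9461

/-- Let R → S be of finite type and quasi-finite at a prime q over p, and R^{sh}, S^{sh} strict
henselizations of R_p and S_q with a compatible local map R^{sh} → S^{sh} (over R). Then R^{sh} →
S^{sh} is finite and its residue field extension is finite and purely inseparable. (The published
statement also identifies S^{sh} with a localization of R^{sh} ⊗_{R_p} S_q; this row states only the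
finiteness and the residue-field assertions.) -/
theorem result (R : Type u) [CommRing R] (S : Type u)
    [CommRing S] [Algebra R S] [Algebra.FiniteType R S] (p : Ideal R) [p.IsPrime] (q : Ideal S)
    [q.IsPrime] [q.LiesOver p] [Algebra.QuasiFiniteAt R q]
    (Rh : Type u) [CommRing Rh] [IsLocalRing Rh] [Algebra (Localization.AtPrime p) Rh]
    [IsLocalHom (algebraMap (Localization.AtPrime p) Rh)]
    [Hensel.IsStrictHenselization (Localization.AtPrime p) Rh] [Algebra R Rh]
    [IsScalarTower R (Localization.AtPrime p) Rh]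
    (Sh : Type u) [CommRing Sh] [IsLocalRing Sh] [Algebra (Localization.AtPrime q) Sh]
    [IsLocalHom (algebraMap (Localization.AtPrime q) Sh)]
    [Hensel.IsStrictHenselization (Localization.AtPrime q) Sh] [Algebra S Sh]
    [IsScalarTower S (Localization.AtPrime q) Sh] [Algebra R Sh] [IsScalarTower R S Sh]
    [Algebra Rh Sh] [IsScalarTower R Rh Sh] [IsLocalHom (algebraMap Rh Sh)] :
    Module.Finite Rh Sh ∧
      Module.Finite (IsLocalRing.ResidueField Rh) (IsLocalRing.ResidueField Sh) ∧
      IsPurelyInseparable (IsLocalRing.ResidueField Rh) (IsLocalRing.ResidueField Sh) := by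
  classical
  have hRh : Hensel.IsStrictHenselization (Localization.AtPrime p) Rh := inferInstance
  haveI hhRh : HenselianLocalRing Rh := hRh.henselian
  haveI scRh : IsSepClosed (IsLocalRing.ResidueField Rh) := hRh.isSepClosure.sep_closed
  have hH := Groth.Agent.H3.StrictHensTensorPrime.isStrictHenselization R S p q Rh Sh
  haveI hT : HenselianLocalRing (Localization.AtPrime (Groth.Agent.H3.HensTensorPrime.Q R S Rh Sh)) :=
    Groth.Agent.H3.HensQFFinite.henselian_T R S q Rh Sh
  haveI fT : Module.Finite Rh (Localization.AtPrime (Groth.Agent.H3.HensTensorPrime.Q R S Rh Sh)) :=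
    Groth.Agent.H3.HensQFFinite.finite_T R S q Rh Sh
  haveI lRT : IsLocalHom (algebraMap Rh
      (Localization.AtPrime (Groth.Agent.H3.HensTensorPrime.Q R S Rh Sh))) := by
    haveI : IsLocalHom ((Groth.Agent.H3.HensTensorPrime.psi R S Rh Sh).comp (algebraMap Rh
        (Localization.AtPrime (Groth.Agent.H3.HensTensorPrime.Q R S Rh Sh)))) := by
      have : (Groth.Agent.H3.HensTensorPrime.psi R S Rh Sh).comp (algebraMap Rh
        (Localization.AtPrime (Groth.Agent.H3.HensTensorPrime.Q R S Rh Sh))) = algebraMap Rh Sh := by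
        ext r
        exact Groth.Agent.H3.HensQFFinite.psi_algebraMap_left R S Rh Sh r
      rw [this]
      infer_instance
    exact isLocalHom_of_comp _ (Groth.Agent.H3.HensTensorPrime.psi R S Rh Sh)
  haveI aT : Algebra.IsAlgebraic (IsLocalRing.ResidueField Rh) (IsLocalRing.ResidueField
      (Localization.AtPrime (Groth.Agent.H3.HensTensorPrime.Q R S Rh Sh))) :=
    Algebra.IsAlgebraic.of_finite _ _
  haveI scT : IsSepClosed (IsLocalRing.ResidueField
      (Localization.AtPrime (Groth.Agent.H3.HensTensorPrime.Q R S Rh Sh))) :=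
    Algebra.IsAlgebraic.isSepClosed (F := IsLocalRing.ResidueField Rh)
  have hself := Groth.Agent.H3.HensQFFinite.isStrictHenselization_self
    (Localization.AtPrime (Groth.Agent.H3.HensTensorPrime.Q R S Rh Sh))
  letI algT : Algebra (Localization.AtPrime (Groth.Agent.H3.HensTensorPrime.Q R S Rh Sh)) Sh :=
    (Groth.Agent.H3.HensTensorPrime.psi R S Rh Sh).toAlgebra
  haveI lT : IsLocalHom (algebraMap (Localization.AtPrime
      (Groth.Agent.H3.HensTensorPrime.Q R S Rh Sh)) Sh) :=
    Groth.Agent.H3.HensTensorPrime.isLocalHom_psi R S Rh Sh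
  obtain ⟨e⟩ := Groth.Agent.H3.SH.exists_algEquiv hself hH
  have hsurj : Function.Surjective (Groth.Agent.H3.HensTensorPrime.psi R S Rh Sh) := by
    intro y
    obtain ⟨x, rfl⟩ := e.surjective y
    refine ⟨x, ?_⟩
    exact (e.commutes x).symm
  haveI fin : Module.Finite Rh Sh :=
    Groth.Agent.H3.HensQFFinite.finite_of_surjective R S q Rh Sh hsurj
  haveI aS : Algebra.IsAlgebraic (IsLocalRing.ResidueField Rh) (IsLocalRing.ResidueField Sh) :=
    Algebra.IsAlgebraic.of_finite _ _
  exact ⟨fin, inferInstance, inferInstance⟩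

end Groth.Agent.S9461
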