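import Groth.Statements.S9463
-- import your own Groth.Agent.* helpers here

set_option autoImplicit false
universe u
open OmegaSh

namespace Groth.Agent.S9463

/-- Let A → B be formally unramified, π : B' → B a universal first order thickening of B relative to A,
and S ⊆ A a multiplicative subset. Localizing everything at S (A_S, B_S and B'_S with compatible
algebra structures, π_S : B'_S → B_S the A_S-algebra map induced by π), the map π_S is a universal
first order thickening of B_S relative to A_S. (The published statement adds the consequence that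
the conormal module localizes accordingly.) -/
theorem result (A B B' : Type u) [CommRing A] [CommRing B]
    [CommRing B'] [Algebra A B] [Algebra.FormallyUnramified A B] [Algebra A B'] (π : B' →ₐ[A] B)
    (hπ : OmegaSh.IsUnivThickeningRing A B B' π) (S : Submonoid A)
    (AS BS B'S : Type u) [CommRing AS] [CommRing BS] [CommRing B'S]
    [Algebra A AS] [IsLocalization S AS]
    [Algebra B BS] [IsLocalization (Algebra.algebraMapSubmonoid B S) BS]
    [Algebra B' B'S] [IsLocalization (Algebra.algebraMapSubmonoid B' S) B'S]
    [Algebra AS BS] [Algebra A BS] [IsScalarTower A AS BS] [IsScalarTower A B BS]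
    [Algebra AS B'S] [Algebra A B'S] [IsScalarTower A AS B'S] [IsScalarTower A B' B'S]
    (πS : B'S →ₐ[AS] BS) (hπS : ∀ x : B', πS (algebraMap B' B'S x) = algebraMap B BS (π x)) :
    OmegaSh.IsUnivThickeningRing AS BS B'S πS := by
  obtain ⟨hsurj, hker, huniv⟩ := hπ
  have hπA : ∀ t : A, π (algebraMap A B' t) = algebraMap A B t := fun t => π.commutes t
  refine ⟨?_, ?_, ?_⟩
  · -- surjectivity
    intro y
    obtain ⟨⟨b, s⟩, hbs⟩ := IsLocalization.surj (Algebra.algebraMapSubmonoid B S) y
    obtain ⟨t, ht, hts⟩ := s.2
    obtain ⟨b', rfl⟩ := hsurj b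
    have hmem : algebraMap A B' t ∈ Algebra.algebraMapSubmonoid B' S := ⟨t, ht, rfl⟩
    refine ⟨IsLocalization.mk' B'S b' ⟨algebraMap A B' t, hmem⟩, ?_⟩
    have hu : IsUnit (algebraMap B BS (s : B)) := IsLocalization.map_units BS s
    apply hu.mul_left_injective
    dsimp only
    rw [hbs, ← hts, ← hπA, ← hπS, ← map_mul, IsLocalization.mk'_spec, hπS]
  · -- square zero kernel
    have key : ∀ x ∈ RingHom.ker πS.toRingHom, ∃ (k : B') (u : B'S), π k = 0 ∧ IsUnit u ∧
        x * u = algebraMap B' B'S k := by
      intro x hx
      obtain ⟨⟨b', s'⟩, hbs⟩ := IsLocalization.surj (Algebra.algebraMapSubmonoid B' S) x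
      have h0 : algebraMap B BS (π b') = 0 := by
        rw [← hπS, ← hbs, map_mul, show πS x = 0 from hx, zero_mul]
      obtain ⟨c, hc⟩ := (IsLocalization.map_eq_zero_iff (Algebra.algebraMapSubmonoid B S) BS _).mp h0
      obtain ⟨t, ht, htc⟩ := c.2
      have hmem : algebraMap A B' t ∈ Algebra.algebraMapSubmonoid B' S := ⟨t, ht, rfl⟩
      refine ⟨algebraMap A B' t * b', algebraMap B' B'S (s' * algebraMap A B' t), ?_, ?_, ?_⟩
      · rw [map_mul, hπA, htc]; exact hc
      · exact IsLocalization.map_units B'S (s' * ⟨algebraMap A B' t, hmem⟩)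
      · rw [map_mul, ← mul_assoc, hbs, map_mul, mul_comm]
    rw [eq_bot_iff, pow_two, Ideal.mul_le]
    intro x hx y hy
    obtain ⟨k, u, hk, hu, hxu⟩ := key x hx
    obtain ⟨l, v, hl, hv, hyv⟩ := key y hy
    have hkl : k * l = 0 := by
      have : k * l ∈ RingHom.ker π.toRingHom ^ 2 := by
        rw [pow_two]; exact Ideal.mul_mem_mul hk hl
      rwa [hker] at this
    rw [Ideal.mem_bot]
    apply (hu.mul hv).mul_left_injective
    dsimp only
    rw [zero_mul, mul_mul_mul_comm, hxu, hyv, ← map_mul, hkl, map_zero]
  · intro C _ _ I hI a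
    letI : Algebra A C := ((algebraMap AS C).comp (algebraMap A AS)).toAlgebra
    haveI : IsScalarTower A AS C := IsScalarTower.of_algebraMap_eq (fun _ => rfl)
    let a₀ : B →ₐ[A] C ⧸ I := (a.restrictScalars A).comp (IsScalarTower.toAlgHom A B BS)
    obtain ⟨a₀', h1, h2⟩ := huniv C I hI a₀
    have h1' : ∀ b', Ideal.Quotient.mk I (a₀' b') = a (algebraMap B BS (π b')) := fun b' =>
      congrArg (fun f => f b') h1
    have hunits : ∀ y : Algebra.algebraMapSubmonoid B' S, IsUnit (a₀'.toRingHom y) := by
      rintro ⟨y, t, ht, rfl⟩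
      change IsUnit (a₀' (algebraMap A B' t))
      rw [a₀'.commutes]
      change IsUnit (algebraMap AS C (algebraMap A AS t))
      exact (IsLocalization.map_units AS ⟨t, ht⟩).map _
    let ar : B'S →+* C := IsLocalization.lift (M := Algebra.algebraMapSubmonoid B' S) hunits
    have har : ∀ b', ar (algebraMap B' B'S b') = a₀' b' := fun b' =>
      IsLocalization.lift_eq hunits b'
    have hcomm : ∀ r : AS, ar (algebraMap AS B'S r) = algebraMap AS C r := by
      have : (ar.comp (algebraMap AS B'S)) = algebraMap AS C := by
        refine IsLocalization.ringHom_ext S ?_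
        ext t
        change ar (algebraMap AS B'S (algebraMap A AS t)) = algebraMap AS C (algebraMap A AS t)
        rw [← IsScalarTower.algebraMap_apply A AS B'S, IsScalarTower.algebraMap_apply A B' B'S, har,
          a₀'.commutes]
        rfl
      intro r
      exact congrArg (fun f => f r) this
    let a' : B'S →ₐ[AS] C := { ar with commutes' := hcomm }
    have ha' : ∀ b', a' (algebraMap B' B'S b') = a₀' b' := har
    refine ⟨a', ?_, ?_⟩
    · have : ((Ideal.Quotient.mkₐ AS I).comp a').toRingHom = (a.comp πS).toRingHom := by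
        refine IsLocalization.ringHom_ext (Algebra.algebraMapSubmonoid B' S) ?_
        ext b'
        change Ideal.Quotient.mk I (a' (algebraMap B' B'S b')) = a (πS (algebraMap B' B'S b'))
        rw [ha', h1', hπS]
      exact AlgHom.ext (fun x => congrArg (fun f => f x) this)
    · intro a'' ha''
      let a₀'' : B' →ₐ[A] C := (a''.restrictScalars A).comp (IsScalarTower.toAlgHom A B' B'S)
      have h3 : a₀'' = a₀' := by
        apply h2
        refine AlgHom.ext (fun b' => ?_)
        change Ideal.Quotient.mk I (a'' (algebraMap B' B'S b')) = a (algebraMap B BS (π b'))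
        have := congrArg (fun f => f (algebraMap B' B'S b')) ha''
        change Ideal.Quotient.mk I (a'' (algebraMap B' B'S b')) = a (πS (algebraMap B' B'S b')) at this
        rw [this, hπS]
      have : a''.toRingHom = a'.toRingHom := by
        refine IsLocalization.ringHom_ext (Algebra.algebraMapSubmonoid B' S) ?_
        ext b'
        change a'' (algebraMap B' B'S b') = a' (algebraMap B' B'S b')
        rw [ha', ← h3]
        rfl
      exact AlgHom.ext (fun x => congrArg (fun f => f x) this)

end Groth.Agent.S9463
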