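import Groth.Statements.S9469
import Groth.Agent.H47.EtalePairs2
import Mathlib.RingTheory.FinitePresentation

set_option autoImplicit false
universe u
open Hensel

namespace Groth.Agent.S9469

/-- Let R be a ring and p a prime of R. Consider pairs (S, q) with S an étale R-algebra and q a prime of
S lying over p such that κ(p) → κ(q) is bijective; a morphism of pairs is an R-algebra map pulling
the second prime back to the first. Then any two parallel morphisms of pairs φ, ψ : (S₁, q₁) → (S₂,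
q₂) are coequalized by a morphism of pairs (S₂, q₂) → (S₃, q₃). -/
theorem result (R : Type u) [CommRing R]
    (p : Ideal R) [p.IsPrime] (S₁ : Type u) [CommRing S₁] [Algebra R S₁] [Algebra.Etale R S₁] (q₁ : Ideal S₁) [q₁.IsPrime] (hq₁ : p = q₁.comap (algebraMap R S₁))
    (hq₁κ : Function.Bijective (Ideal.ResidueField.map p q₁ (algebraMap R S₁) hq₁))
    (S₂ : Type u) [CommRing S₂] [Algebra R S₂] [Algebra.Etale R S₂] (q₂ : Ideal S₂) [q₂.IsPrime] (hq₂ : p = q₂.comap (algebraMap R S₂))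
    (hq₂κ : Function.Bijective (Ideal.ResidueField.map p q₂ (algebraMap R S₂) hq₂))
    (φ ψ : S₁ →ₐ[R] S₂) (hφ : q₂.comap φ.toRingHom = q₁) (hψ : q₂.comap ψ.toRingHom = q₁) :
    ∃ (S₃ : Type u) (_ : CommRing S₃) (_ : Algebra R S₃) (_ : Algebra.Etale R S₃) (q₃ : Ideal S₃)
      (_ : q₃.IsPrime) (hq₃ : p = q₃.comap (algebraMap R S₃)),
      Function.Bijective (Ideal.ResidueField.map p q₃ (algebraMap R S₃) hq₃) ∧
        ∃ χ : S₂ →ₐ[R] S₃, q₃.comap χ.toRingHom = q₂ ∧ χ.comp φ = χ.comp ψ := by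
  classical
  obtain ⟨ρ₂, hρ₂⟩ := Groth.Agent.H47.exists_algHom_residueField_of_bijective R p S₂ q₂ hq₂ hq₂κ
  -- the two composites `S₁ → κ(p)` agree
  have hσ : ρ₂.comp φ = ρ₂.comp ψ := by
    apply Groth.Agent.H47.algHom_residueField_ext R p S₁ q₁ hq₁ hq₁κ
    · rw [← hφ, ← hρ₂]; rfl
    · rw [← hψ, ← hρ₂]; rfl
  -- idempotent generating the diagonal ideal
  obtain ⟨e, he, hJ⟩ := Groth.Agent.H47.exists_idempotent_kaehler_ideal R S₁
  let θ : TensorProduct R S₁ S₁ →ₐ[R] S₂ := Algebra.TensorProduct.productMap φ ψ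
  let 𝔞 : Ideal S₂ := Ideal.span {θ e}
  have hθe : IsIdempotentElem (θ e) := he.map θ
  -- `S₂ ⧸ 𝔞` is étale over `S₂`
  haveI : Algebra.FormallyEtale S₂ (S₂ ⧸ 𝔞) := by
    rw [Algebra.FormallyEtale.iff_of_surjective Ideal.Quotient.mk_surjective]
    have : RingHom.ker (algebraMap S₂ (S₂ ⧸ 𝔞)) = 𝔞 := Ideal.mk_ker
    rw [this]
    show 𝔞 * 𝔞 = 𝔞
    rw [Ideal.span_singleton_mul_span_singleton, hθe.eq]
  haveI : Algebra.FinitePresentation S₂ (S₂ ⧸ 𝔞) :=
    Algebra.FinitePresentation.quotient ⟨{θ e}, by simp [𝔞]⟩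
  haveI : Algebra.Etale S₂ (S₂ ⧸ 𝔞) := ⟨inferInstance, inferInstance⟩
  haveI : Algebra.Etale R (S₂ ⧸ 𝔞) := Algebra.Etale.comp R S₂ (S₂ ⧸ 𝔞)
  -- ρ₂ kills 𝔞
  have hρθ : ∀ x, ρ₂ (θ x) = (ρ₂.comp φ) (Algebra.TensorProduct.lmul' R x) := by
    intro x
    induction x using TensorProduct.induction_on with
    | zero => simp
    | tmul a b =>
      have : ρ₂ (ψ b) = ρ₂ (φ b) := (AlgHom.congr_fun hσ b).symm
      simp [θ, this]
    | add x y hx hy => simp only [map_add, hx, hy]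
  have heJ : Algebra.TensorProduct.lmul' R e = 0 := by
    have : e ∈ KaehlerDifferential.ideal R S₁ := by rw [hJ]; exact Ideal.mem_span_singleton_self e
    exact this
  have h𝔞 : ∀ a ∈ 𝔞, ρ₂ a = 0 := by
    intro a ha
    obtain ⟨c, rfl⟩ := Ideal.mem_span_singleton'.mp ha
    rw [map_mul, hρθ, heJ, map_zero, mul_zero]
  let ρ₃ : (S₂ ⧸ 𝔞) →ₐ[R] p.ResidueField := Ideal.Quotient.liftₐ 𝔞 ρ₂ h𝔞
  obtain ⟨hprime, hq₃, hbij⟩ := Groth.Agent.H47.ker_algHom_residueField R p (S₂ ⧸ 𝔞) ρ₃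
  refine ⟨S₂ ⧸ 𝔞, inferInstance, inferInstance, inferInstance, RingHom.ker ρ₃, hprime,
    hq₃, hbij, Ideal.Quotient.mkₐ R 𝔞, ?_, ?_⟩
  · ext x
    rw [Ideal.mem_comap, RingHom.mem_ker, ← hρ₂, RingHom.mem_ker]
    rfl
  · ext a
    show Ideal.Quotient.mk 𝔞 (φ a) = Ideal.Quotient.mk 𝔞 (ψ a)
    rw [Ideal.Quotient.eq]
    have h1 : TensorProduct.tmul R a (1 : S₁) - TensorProduct.tmul R (1 : S₁) a
        ∈ KaehlerDifferential.ideal R S₁ := by
      show Algebra.TensorProduct.lmul' R _ = 0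
      simp
    rw [hJ] at h1
    obtain ⟨c, hc⟩ := Ideal.mem_span_singleton'.mp h1
    have h2 : φ a - ψ a = θ c * θ e := by
      rw [← map_mul, hc, map_sub]
      simp [θ]
    rw [h2]
    exact Ideal.mul_mem_left _ _ (Ideal.mem_span_singleton_self _)

end Groth.Agent.S9469
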