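import Groth.Statements.S9474
import Groth.Agent.H27.UnramModel

set_option autoImplicit false
universe u
open CAlg

namespace Groth.Agent.S9474

open TensorProduct in
/-- If R → S is unramified (of finite type with vanishing module of differentials), then there are a
finite type ℤ-algebra R₀, an unramified R₀-algebra S₀, a ring map R₀ → R, and a surjective R-algebra
map from R ⊗_{R₀} S₀ onto S. -/
theorem result (R : Type u) [CommRing R] (S : Type u)
    [CommRing S] [Algebra R S] [Algebra.Unramified R S] :
    ∃ (R₀ : Type u) (_ : CommRing R₀) (_ : Algebra.FiniteType ℤ R₀) (S₀ : Type u) (_ : CommRing S₀)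
      (_ : Algebra R₀ S₀) (_ : Algebra.Unramified R₀ S₀) (_ : Algebra R₀ R)
      (ψ : R ⊗[R₀] S₀ →ₐ[R] S), Function.Surjective ψ := by
  classical
  obtain ⟨n, ⟨P⟩⟩ := Algebra.FiniteType.iff_exists_generators.mp
    (inferInstance : Algebra.FiniteType R S)
  obtain ⟨R₁, I₀, hft, hunr, ψ, hψ⟩ := Groth.Agent.H27.UnramModel.exists_model_of_generators P
  have hft' : Algebra.FiniteType R₁ (MvPolynomial (Fin n) R₁ ⧸ I₀) :=
    (Algebra.Generators.naive (I := I₀)).finiteType
  exact ⟨R₁, inferInstance, hft, MvPolynomial (Fin n) R₁ ⧸ I₀, inferInstance, inferInstance,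
    ⟨hunr, hft'⟩, inferInstance, ψ, hψ⟩

end Groth.Agent.S9474
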