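import Groth.Statements.S9495
-- import your own Groth.Agent.* helpers here

set_option autoImplicit false
universe u
open SchMor

namespace Groth.Agent.S9495

open AlgebraicGeometry in
open CategoryTheory in
/-- For a quasi-compact morphism of schemes f : X → S, the image f(X) is closed in S if and only if it
is stable under specialization. -/
theorem result
    {X S : Scheme.{u}} (f : X ⟶ S) [QuasiCompact f] :
    IsClosed (Set.range f) ↔ StableUnderSpecialization (Set.range f) := by
  refine ⟨fun h => h.stableUnderSpecialization, fun H => ?_⟩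
  rw [TopologicalSpace.IsOpenCover.isClosed_iff_coe_preimage (iSup_affineOpens_eq_top S)]
  intro U
  have hU : IsAffineOpen U.1 := U.2
  -- the preimage of the affine open is quasi-compact
  have hc : IsCompact ((f ⁻¹ᵁ U.1 : X.Opens) : Set X) :=
    QuasiCompact.isCompact_preimage (f := f) _ U.1.isOpen hU.isCompact
  obtain ⟨R, g, hg⟩ := isCompact_iff_exists.mp hc
  -- factor `g ≫ f` through `Spec Γ(S, U)`
  have hrange : Set.range (g ≫ f) ⊆ Set.range hU.fromSpec := by
    rw [hU.range_fromSpec]
    rintro _ ⟨z, rfl⟩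
    have : g z ∈ Set.range g := ⟨z, rfl⟩
    rw [hg] at this
    exact this
  let h : Spec R ⟶ Spec Γ(S, U.1) := IsOpenImmersion.lift hU.fromSpec (g ≫ f) hrange
  have hfac : h ≫ hU.fromSpec = g ≫ f := IsOpenImmersion.lift_fac _ _ _
  have hfac' : ∀ z, hU.fromSpec (h z) = f (g z) := by
    intro z
    rw [← Scheme.Hom.comp_apply, ← Scheme.Hom.comp_apply, hfac]
  have hinj : Function.Injective hU.fromSpec := hU.fromSpec.isOpenEmbedding.injective
  -- the range of `h` is the preimage of the range of `f`
  have hrh : Set.range h = hU.fromSpec ⁻¹' (Set.range f) := by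
    ext y
    constructor
    · rintro ⟨z, rfl⟩
      exact ⟨g z, (hfac' z).symm⟩
    · rintro ⟨x, hx⟩
      have hxU : x ∈ Set.range g := by
        rw [hg]
        change f x ∈ (U.1 : Set S)
        rw [hx, ← hU.range_fromSpec]
        exact ⟨y, rfl⟩
      obtain ⟨z, rfl⟩ := hxU
      refine ⟨z, hinj ?_⟩
      rw [hfac' z, hx]
  have hcl : IsClosed (Set.range h) := by
    obtain ⟨φ, hφ⟩ := Spec.homEquiv.symm.surjective h
    rw [hrh]
    have H' : StableUnderSpecialization (hU.fromSpec ⁻¹' (Set.range f)) :=
      H.preimage hU.fromSpec.continuous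
    rw [← hrh, ← hφ] at H' ⊢
    exact PrimeSpectrum.isClosed_range_of_stableUnderSpecialization φ.hom H'
  have hpre : (Subtype.val ⁻¹' Set.range f : Set U.1) = hU.isoSpec.hom ⁻¹' (Set.range h) := by
    rw [hrh]
    ext u
    change u.1 ∈ Set.range f ↔ hU.fromSpec (hU.isoSpec.hom u) ∈ Set.range f
    have : hU.fromSpec (hU.isoSpec.hom u) = u.1 := by
      rw [← Scheme.Hom.comp_apply, hU.isoSpec_hom_fromSpec]
      rfl
    rw [this]
  change IsClosed (Subtype.val ⁻¹' Set.range f : Set U.1)
  rw [hpre]
  exact hcl.preimage hU.isoSpec.hom.continuous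

end Groth.Agent.S9495
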