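import Groth.Statements.S9503
import Groth.Agent.H31.TildeHom2
import Groth.Agent.H31.SheafHomFlasque

set_option autoImplicit false
universe u
open AffSch

namespace Groth.Agent.S9503

open AlgebraicGeometry in
open CategoryTheory in
/-- Let A be a commutative ring, M a finitely presented A-module and N an A-module, with associated
O_X-modules M~ and N~ on X = Spec A, and let Hom_{O_X}(M~, -) denote the sheaf-Hom functor (the
right adjoint of M~ ⊗ -, assumed to exist). Then Hom_{O_X}(M~, N~) is isomorphic to the O_X-module
associated to the A-module Hom_A(M, N) (existence of an isomorphism only; the prelude's sheaf Hom is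
a chosen right adjoint, so no particular map is singled out). -/
theorem result
    (A : Type u) [CommRing A] (M N : Type u) [AddCommGroup M] [Module A M]
    [Module.FinitePresentation A M] [AddCommGroup N] [Module A N]
    [DCoh.HasSheafHom (tilde (R := CommRingCat.of A) (ModuleCat.of A M))] :
    Nonempty ((DCoh.sheafHom (tilde (R := CommRingCat.of A) (ModuleCat.of A M))).obj
        (tilde (R := CommRingCat.of A) (ModuleCat.of A N)) ≅
      tilde (R := CommRingCat.of A) (ModuleCat.of A (M →ₗ[A] N))) := by
  have hsh := Groth.Agent.H31.SheafHomFlasque.hasSheafHom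
    (tilde (R := CommRingCat.of A) (ModuleCat.of A M))
  have hfp : Module.FinitePresentation (CommRingCat.of A)
      (ModuleCat.of (CommRingCat.of A) M : ModuleCat.{u} (CommRingCat.of A)) :=
    ‹Module.FinitePresentation A M›
  let e1 := (Groth.Agent.H31.SheafHomFlasque.sheafHomIso
    (tilde (R := CommRingCat.of A) (ModuleCat.of A M))).app
      (tilde (R := CommRingCat.of A) (ModuleCat.of A N))
  let e2 := Groth.Agent.H31.TildeHom.sheafHomTildeIso (CommRingCat.of A)
    (ModuleCat.of (CommRingCat.of A) M) (ModuleCat.of (CommRingCat.of A) N)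
  let e3 : ModuleCat.of (CommRingCat.of A)
      ((ModuleCat.of (CommRingCat.of A) M : ModuleCat.{u} (CommRingCat.of A)) ⟶
        ModuleCat.of (CommRingCat.of A) N) ≅ ModuleCat.of A (M →ₗ[A] N) :=
    (ModuleCat.homLinearEquiv (S := A)).toModuleIso
  exact ⟨e1 ≪≫ e2 ≪≫ (tilde.functor (CommRingCat.of A)).mapIso e3⟩

end Groth.Agent.S9503
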