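import Groth.Statements.S9507
import Groth.Agent.H87.LRSFactor

set_option autoImplicit false
universe u
open LRSImm

namespace Groth.Agent.S9507

open AlgebraicGeometry in
open CategoryTheory Opposite TopologicalSpace in
/-- Take a morphism i : Z → X of locally ringed spaces that is a closed immersion (a homeomorphism onto
a closed subset, O_X → i_*O_Z surjective as a map of sheaves, kernel I locally generated by
sections), and let f : Y → X be a morphism of locally ringed spaces. Then f factors through i if and
only if the composite I → O_X → f_*O_Y vanishes, i.e. every local section of O_X that maps to zero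
in i_*O_Z maps to zero in f_*O_Y (equivalently f^*I → O_Y is zero); moreover the factorisation Y → Z
is unique. (The published statement is phrased for the closed subspace cut out by a sheaf of ideals
locally generated by sections; here it is phrased for any closed immersion of locally ringed spaces
with I the kernel of O_X → i_*O_Z, which is the situation its proof treats.) -/
theorem result
    {Z X Y : LocallyRingedSpace.{u}} (i : Z ⟶ X) (hi : LRSImm.IsClosedImmersion i) (f : Y ⟶ X) :
    ((∃ g : Y ⟶ Z, g ≫ i = f) ↔
      ∀ (U : Opens X.toTopCat) (s : X.presheaf.obj (op U)),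
        i.c.app (op U) s = 0 → f.c.app (op U) s = 0) ∧
    ∀ g g' : Y ⟶ Z, g ≫ i = f → g' ≫ i = f → g = g' := by
  have hs := Groth.Agent.H87.LRSFactor.hs_of_isClosedImmersion hi
  obtain ⟨hemb, -, -⟩ := hi
  refine ⟨⟨?_, ?_⟩, ?_⟩
  · rintro ⟨g, rfl⟩ U s h0
    have e : (g ≫ i).c.app (op U) s = g.c.app (op ((Opens.map i.base).obj U)) (i.c.app (op U) s) :=
      rfl
    rw [e, h0]
    exact map_zero _
  · intro h
    have h₂ : Groth.Agent.H87.LRSFactor.KerLE i f := fun U s h0 => h U s h0
    have hopen : IsOpen (((⊤ : Opens X.toTopCat) : Set X.toTopCat) \ Set.range i.base) := by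
      have : (((⊤ : Opens X.toTopCat) : Set X.toTopCat) \ Set.range i.base) =
          (Set.range i.base)ᶜ := by
        ext x
        simp
      rw [this]
      exact hemb.isClosed_range.isOpen_compl
    exact Groth.Agent.H87.LRSFactor.exists_fac hs hemb.isEmbedding
      (Groth.Agent.H87.LRSFactor.range_subset_of_kerLE ⊤ hopen (fun _ _ => trivial) h₂) h₂
  · intro g g' h1 h2
    exact Groth.Agent.H87.LRSFactor.fac_unique hs hemb.injective g g' (h1.trans h2.symm)

end Groth.Agent.S9507
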