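import Groth.Statements.S9508
import Groth.Agent.H47.QSep

set_option autoImplicit false
universe u
open SchMor

namespace Groth.Agent.S9508

open AlgebraicGeometry in
open CategoryTheory in
/-- (1) ⇔ (2): A morphism of schemes f : X → S is quasi-separated if and only if, whenever two affine
opens U and V of X both lie in the preimage f⁻¹(W) of one affine open W of S, their intersection U ∩
V is quasi-compact (equivalently, is covered by finitely many affine opens). -/
theorem result
    {X S : Scheme.{u}} (f : X ⟶ S) :
    QuasiSeparated f ↔
      ∀ (U V : X.affineOpens) (W : S.affineOpens),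
        (U : X.Opens) ≤ f ⁻¹ᵁ (W : S.Opens) → (V : X.Opens) ≤ f ⁻¹ᵁ (W : S.Opens) →
          IsCompact ((U : Set X) ∩ (V : Set X)) := by
  rw [HasAffineProperty.iff_of_iSup_eq_top (P := @QuasiSeparated)
    (fun W : S.affineOpens => W) (iSup_affineOpens_eq_top S)]
  constructor
  · intro H U V W hU hV
    have := H W
    change QuasiSeparatedSpace ↥(f ⁻¹ᵁ (W : S.Opens)) at this
    rw [Groth.Agent.H47.quasiSeparatedSpace_opens_iff] at this
    exact this U V hU hV
  · intro H W
    change QuasiSeparatedSpace ↥(f ⁻¹ᵁ (W : S.Opens))
    rw [Groth.Agent.H47.quasiSeparatedSpace_opens_iff]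
    intro U V hU hV
    exact H U V W hU hV

end Groth.Agent.S9508
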