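import Groth.Statements.S9512
import Mathlib.AlgebraicGeometry.AffineScheme

set_option autoImplicit false
universe u
open LRSImm

namespace Groth.Agent.S9512

open AlgebraicGeometry in
open CategoryTheory Opposite in
/-- Let X be a locally ringed space, Y = Spec R an affine scheme and f : X → Y a morphism of locally
ringed spaces. Given a point x of X, the image f(x) is the prime of R obtained as the inverse image
of the maximal ideal of O_{X,x} under the composite R = Γ(Y, O_Y) → Γ(X, O_X) → O_{X,x}. -/
theorem result
    (X : LocallyRingedSpace.{u}) (R : CommRingCat.{u})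
    (f : X ⟶ (Spec R).toLocallyRingedSpace) (x : X.toTopCat) :
    f.base x = PrimeSpectrum.comap
      ((Scheme.ΓSpecIso R).inv ≫ f.c.app (op ⊤) ≫ X.presheaf.germ ⊤ x trivial).hom
      (IsLocalRing.closedPoint (X.presheaf.stalk x)) := by
  apply PrimeSpectrum.ext
  ext r
  rw [PrimeSpectrum.comap_asIdeal, Ideal.mem_comap]
  change r ∈ (f.base x).asIdeal ↔ _ ∈ IsLocalRing.maximalIdeal _
  rw [IsLocalRing.mem_maximalIdeal, mem_nonunits_iff]
  -- the stalk map is a local ring hom
  have hloc : IsLocalHom (f.stalkMap x).hom := inferInstance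
  have key : (X.presheaf.germ ⊤ x trivial).hom ((f.c.app (op ⊤)).hom ((Scheme.ΓSpecIso R).inv.hom r)) =
      (f.stalkMap x).hom (((Spec R).presheaf.germ ⊤ (f.base x) trivial).hom ((Scheme.ΓSpecIso R).inv.hom r)) := by
    have := LocallyRingedSpace.stalkMap_germ f ⊤ x trivial
    exact (congrArg (fun g => g.hom ((Scheme.ΓSpecIso R).inv.hom r)) this).symm
  change _ ↔ ¬ IsUnit ((X.presheaf.germ ⊤ x trivial).hom ((f.c.app (op ⊤)).hom ((Scheme.ΓSpecIso R).inv.hom r)))
  rw [key, isUnit_map_iff]
  generalize (f.base x : PrimeSpectrum R) = y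
  haveI := y.isPrime
  have h2 : ((Spec R).presheaf.germ ⊤ y trivial).hom ((Scheme.ΓSpecIso R).inv.hom r) =
      (Spec.stalkIso R y).inv.hom (algebraMap R (Localization.AtPrime y.asIdeal) r) := by
    have := Spec.algebraMap_stalkIso_inv (R := R) y
    exact (congrArg (fun g => g.hom r) this).symm
  rw [h2]
  have h3 : IsUnit ((Spec.stalkIso R y).inv.hom (algebraMap R (Localization.AtPrime y.asIdeal) r)) ↔
      IsUnit (algebraMap R (Localization.AtPrime y.asIdeal) r) := by
    constructor
    · intro h
      have := h.map (Spec.stalkIso R y).hom.hom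
      simpa using this
    · intro h
      exact h.map _
  rw [h3, IsLocalization.AtPrime.isUnit_to_map_iff _ y.asIdeal]
  simp

end Groth.Agent.S9512
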