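import Groth.Statements.S9516
import Groth.Agent.Lead.Coh.SubRange
import Groth.Agent.H47.IdealPowKill
import Groth.Agent.H33.Supp.Basic

set_option autoImplicit false
universe u
open CategoryTheory CategoryTheory.Limits AlgebraicGeometry
attribute [local instance] HasDerivedCategory.standard
open Coherent

namespace Groth.Agent.S9516

/-- Let X be a Noetherian scheme, F a quasi-coherent O_X-module, G a coherent O_X-module and I a
quasi-coherent sheaf of ideals, with U the open complement of the closed subset cut out by I. If a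
morphism ψ : I^n G → F restricts to zero on U, then ψ vanishes on I^N G for some N: there is a
morphism ι : I^N G → I^n G commuting with the inclusions into G and with ι ≫ ψ = 0. (Together with
the surjectivity statement this says that colim_n Hom(I^n G, F) → Hom(G|_U, F|_U) is bijective.) -/
theorem result (X : Scheme.{u}) [IsNoetherian X] (F G : X.Modules)
    (hF : Coh.IsQCoh F) (hG : Coh.IsCoh G) (I : X.IdealSheafData)
    (U : X.Opens) (hU : (U : Set X) = (I.support : Set X)ᶜ) (n : ℕ)
    (ψ : (Dual3.idealMul (I ^ n)).obj G ⟶ F)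
    (hψ : (Scheme.Modules.restrictFunctor U.ι).map ψ = 0) :
    ∃ (N : ℕ) (ι : (Dual3.idealMul (I ^ N)).obj G ⟶ (Dual3.idealMul (I ^ n)).obj G),
      ι ≫ Dual3.idealMulι (I ^ n) G = Dual3.idealMulι (I ^ N) G ∧ ι ≫ ψ = 0 := by
  classical
  obtain ⟨hGq, hGf⟩ := hG
  haveI : F.IsQuasicoherent := hF
  haveI : G.IsQuasicoherent := hGq
  haveI : SheafOfModules.IsFiniteType (R := X.ringCatSheaf) G := hGf
  -- `A = I^n G` is coherent
  haveI hAq : ∀ m : ℕ, ((Dual3.idealMul (I ^ m)).obj G).IsQuasicoherent :=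
    fun m => Groth.Agent.Lead.SubRange.isQuasicoherent_idealMul _ G
  haveI hAf : SheafOfModules.IsFiniteType (R := X.ringCatSheaf) ((Dual3.idealMul (I ^ n)).obj G) :=
    Groth.Agent.H71.QCoh.isFiniteType_of_mono (Dual3.idealMulι (I ^ n) G)
  -- the image `Q` of `ψ`
  let e : (Dual3.idealMul (I ^ n)).obj G ⟶ Abelian.image ψ := Abelian.factorThruImage ψ
  let m : Abelian.image ψ ⟶ F := Abelian.image.ι ψ
  have hem : e ≫ m = ψ := Abelian.image.fac ψ
  haveI hQq : (Abelian.image ψ).IsQuasicoherent :=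
    Groth.Agent.H12.QCohAbelian.isQuasicoherent_image ψ
  haveI hQf : SheafOfModules.IsFiniteType (R := X.ringCatSheaf) (Abelian.image ψ) :=
    @Groth.Agent.H71.QCoh.isFiniteType_of_epi X _ _ (hAq n) hQq hAf e
      (inferInstance : Epi (Abelian.factorThruImage ψ))
  -- `Q` vanishes on `U`
  have hz : IsZero ((Scheme.Modules.restrictFunctor U.ι).obj (Abelian.image ψ)) := by
    have h1 : (Scheme.Modules.restrictFunctor U.ι).map e ≫
        (Scheme.Modules.restrictFunctor U.ι).map m = 0 := by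
      rw [← Functor.map_comp, hem, hψ]
    haveI : Mono m := (inferInstance : Mono (Abelian.image.ι ψ))
    haveI : Epi e := (inferInstance : Epi (Abelian.factorThruImage ψ))
    haveI : Mono ((Scheme.Modules.restrictFunctor U.ι).map m) := inferInstance
    haveI : Epi ((Scheme.Modules.restrictFunctor U.ι).map e) := inferInstance
    have h2 : (Scheme.Modules.restrictFunctor U.ι).map e = 0 := by
      rw [← cancel_mono ((Scheme.Modules.restrictFunctor U.ι).map m), h1, zero_comp]
    exact IsZero.of_epi_eq_zero _ h2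
  have hsupp : CohB1.support (Abelian.image ψ) ⊆ (I.support : Set X) := by
    intro x hx
    by_contra hxI
    have hxU : x ∈ U := by
      have : x ∈ (U : Set X) := by rw [hU]; exact hxI
      exact this
    exact hx (Groth.Agent.H33.Supp.subsingleton_stalk_of_isZero_restrictOpen _ U hz hxU)
  obtain ⟨k, hk⟩ := @Groth.Agent.H47.IdealPowKill.main X _ (Abelian.image ψ) hQq hQf I hsupp
  -- the inclusion `I^(n+k) G ⟶ I^n G`
  obtain ⟨ι', hι'⟩ := Groth.Agent.Lead.IdealMul.exists_fac_of_range_le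
    (Dual3.idealMulι (I ^ (n + k)) G) (Dual3.idealMulι (I ^ n) G) (fun V hV s => by
      have h1 : (Dual3.idealMulι (I ^ (n + k)) G).app V s ∈
          Groth.Agent.Lead.SubRange.rng (Dual3.idealMulι (I ^ (n + k)) G) V := ⟨s, rfl⟩
      rw [Groth.Agent.Lead.SubRange.rng_idealMulι _ hV] at h1
      have h2 : ((I ^ (n + k)).ideal ⟨V, hV⟩) • (⊤ : Submodule Γ(X, V) Γ(G, V)) ≤
          ((I ^ n).ideal ⟨V, hV⟩) • (⊤ : Submodule Γ(X, V) Γ(G, V)) :=
        Submodule.smul_mono_left (Ideal.pow_le_pow_right (Nat.le_add_right n k))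
      have h3 := h2 h1
      rw [← Groth.Agent.Lead.SubRange.rng_idealMulι _ hV] at h3
      exact h3)
  refine ⟨n + k, ι', hι', ?_⟩
  refine Groth.Agent.Lead.IdealMul.hom_ext_affine _ _ (fun V hV s => ?_)
  -- `y = ι' s` lies in `I(V)^k • ⊤`
  have hy : ι'.app V s ∈ ((I.ideal ⟨V, hV⟩) ^ k) •
      (⊤ : Submodule Γ(X, V) Γ((Dual3.idealMul (I ^ n)).obj G, V)) := by
    have h1 : (Dual3.idealMulι (I ^ n) G).app V (ι'.app V s) ∈
        Groth.Agent.Lead.SubRange.rng (Dual3.idealMulι (I ^ (n + k)) G) V := by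
      refine ⟨s, ?_⟩
      have := congrArg (fun φ => Scheme.Modules.Hom.app φ V) hι'
      simp only [Scheme.Modules.Hom.comp_app] at this
      have h := ConcreteCategory.congr_hom this s
      rw [ConcreteCategory.comp_apply] at h
      exact h.symm
    rw [Groth.Agent.Lead.SubRange.rng_idealMulι _ hV] at h1
    have h2 : ((I ^ (n + k)).ideal ⟨V, hV⟩) • (⊤ : Submodule Γ(X, V) Γ(G, V)) =
        (((I.ideal ⟨V, hV⟩) ^ k) • (⊤ : Submodule Γ(X, V) Γ((Dual3.idealMul (I ^ n)).obj G, V))).map
          (Groth.Agent.Lead.SubRange.appLin (Dual3.idealMulι (I ^ n) G) V) := by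
      rw [Submodule.map_smul'', Submodule.map_top]
      have h3 : LinearMap.range (Groth.Agent.Lead.SubRange.appLin (Dual3.idealMulι (I ^ n) G) V) =
          ((I ^ n).ideal ⟨V, hV⟩) • (⊤ : Submodule Γ(X, V) Γ(G, V)) :=
        Groth.Agent.Lead.SubRange.rng_idealMulι _ hV
      rw [h3, ← mul_smul]
      change ((I.ideal ⟨V, hV⟩) ^ (n + k)) • _ = ((I.ideal ⟨V, hV⟩) ^ k * (I.ideal ⟨V, hV⟩) ^ n) • _
      rw [← pow_add, add_comm]
    rw [h2] at h1
    obtain ⟨y', hy', hyy'⟩ := h1
    have hinj := Groth.Agent.Lead.IdealMul.idealMulι_app_injective (I ^ n) G V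
    have : y' = ι'.app V s := hinj hyy'
    rw [← this]
    exact hy'
  -- hence `e y = 0`
  have hey : ∀ y ∈ ((I.ideal ⟨V, hV⟩) ^ k) •
      (⊤ : Submodule Γ(X, V) Γ((Dual3.idealMul (I ^ n)).obj G, V)), e.app V y = 0 := by
    intro y hy
    refine Submodule.smul_induction_on hy (fun a ha z _ => ?_) (fun z w hz hw => ?_)
    · rw [Scheme.Modules.Hom.app_smul]
      exact hk ⟨V, hV⟩ a ha _
    · rw [map_add, hz, hw, add_zero]
  rw [Scheme.Modules.Hom.comp_app, ConcreteCategory.comp_apply, ← hem,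
    Scheme.Modules.Hom.comp_app, ConcreteCategory.comp_apply, hey _ hy, map_zero]
  rfl

end Groth.Agent.S9516
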