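import Groth.Statements.S9517
import Groth.Agent.Lead.Coh.SubRange
import Groth.Agent.H44.FiniteSections

set_option autoImplicit false
universe u
open CategoryTheory CategoryTheory.Limits AlgebraicGeometry
attribute [local instance] HasDerivedCategory.standard
open Coherent

namespace Groth.Agent.S9517

/-- Artin–Rees with a larger constant -/
theorem artinRees_of_le {R M : Type*} [CommRing R] [AddCommGroup M] [Module R M] (J : Ideal R)
    (N : Submodule R M) (k : ℕ)
    (hk : ∀ n ≥ k, J ^ n • ⊤ ⊓ N = J ^ (n - k) • (J ^ k • ⊤ ⊓ N)) (c : ℕ) (hc : k ≤ c) (n : ℕ)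
    (hn : c ≤ n) : J ^ (n - c) • (J ^ c • ⊤ ⊓ N) = J ^ n • ⊤ ⊓ N := by
  rw [hk c hc, hk n (hc.trans hn), ← mul_smul, ← pow_add]
  congr 2
  omega

/-- Let X be a Noetherian scheme, F a coherent O_X-module, G ⊆ F a quasi-coherent submodule (given by a
monomorphism ι : G → F) and I a quasi-coherent sheaf of ideals. Then there is c ≥ 0 such that for
every n ≥ c the two subobjects I^(n-c)·(I^c F ∩ G) and I^n F ∩ G of F are equal. (Products J·M are
the submodule sheaves Dual3.idealMul J M; intersections are taken in the lattice of subobjects of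
F.) -/
theorem result (X : Scheme.{u}) [IsNoetherian X] (F G : X.Modules) (hF : Coh.IsCoh F)
    (hG : Coh.IsQCoh G) (ι : G ⟶ F) [Mono ι] (I : X.IdealSheafData) :
    ∃ c : ℕ, ∀ n : ℕ, c ≤ n →
      Subobject.mk (Dual3.idealMulι (I ^ (n - c))
          (Subobject.underlying.obj (Subobject.mk (Dual3.idealMulι (I ^ c) F) ⊓ Subobject.mk ι)) ≫
        (Subobject.mk (Dual3.idealMulι (I ^ c) F) ⊓ Subobject.mk ι).arrow) =
      Subobject.mk (Dual3.idealMulι (I ^ n) F) ⊓ Subobject.mk ι := by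
  classical
  obtain ⟨hFq, hFf⟩ := hF
  haveI : F.IsQuasicoherent := hFq
  haveI : SheafOfModules.IsFiniteType (R := X.ringCatSheaf) F := hFf
  haveI : G.IsQuasicoherent := hG
  -- finite affine cover
  obtain ⟨t, ht⟩ := isCompact_univ.elim_finite_subcover (fun U : X.affineOpens => (U.1 : Set X))
    (fun U => U.1.isOpen) (by
      intro x _
      obtain ⟨U, hU, hxU, -⟩ := exists_isAffineOpen_mem_and_subset
        (show x ∈ (⊤ : X.Opens) from trivial)
      exact Set.mem_iUnion.2 ⟨⟨U, hU⟩, hxU⟩)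
  -- Artin–Rees constants
  have hAR : ∀ U : X.affineOpens, ∃ k : ℕ, ∀ n ≥ k,
      (I.ideal U) ^ n • ⊤ ⊓ Groth.Agent.Lead.SubRange.rng ι U.1 =
        (I.ideal U) ^ (n - k) • ((I.ideal U) ^ k • ⊤ ⊓ Groth.Agent.Lead.SubRange.rng ι U.1) := by
    intro U
    haveI : IsNoetherianRing Γ(X, U.1) := IsLocallyNoetherian.component_noetherian U
    haveI : Module.Finite Γ(X, U.1) Γ(F, U.1) :=
      Groth.Agent.H44.finite_sections_of_isFiniteType F U.2
    exact Ideal.exists_pow_inf_eq_pow_smul (I.ideal U) (Groth.Agent.Lead.SubRange.rng ι U.1)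
  choose k hk using hAR
  refine ⟨t.sup k, fun n hn => ?_⟩
  set c := t.sup k with hc
  have hcov : ∀ x : X, ∃ U : {U : X.affineOpens // U ∈ t}, x ∈ U.1.1 := by
    intro x
    have hx := ht (Set.mem_univ x)
    simp only [Set.mem_iUnion] at hx
    obtain ⟨V, hVt, hxV⟩ := hx
    exact ⟨⟨V, hVt⟩, hxV⟩
  haveI hq1 : ∀ m : ℕ, ((Dual3.idealMul (I ^ m)).obj F).IsQuasicoherent :=
    fun m => Groth.Agent.Lead.SubRange.isQuasicoherent_idealMul _ F
  haveI hK : (Subobject.underlying.obj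
      (Subobject.mk (Dual3.idealMulι (I ^ c) F) ⊓ Subobject.mk ι)).IsQuasicoherent :=
    Groth.Agent.Lead.SubRange.isQuasicoherent_inf _ _
  haveI := Groth.Agent.Lead.SubRange.isQuasicoherent_idealMul (I ^ (n - c))
    (Subobject.underlying.obj (Subobject.mk (Dual3.idealMulι (I ^ c) F) ⊓ Subobject.mk ι))
  haveI := Groth.Agent.Lead.SubRange.isQuasicoherent_infHom (Dual3.idealMulι (I ^ n) F) ι
  rw [← Groth.Agent.Lead.SubRange.mk_infHom (Dual3.idealMulι (I ^ n) F) ι]
  refine Groth.Agent.Lead.SubRange.mk_eq_mk_of_rng_eq_cover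
    (fun U : {U : X.affineOpens // U ∈ t} => U.1.1) hcov (fun U => U.1.2) _ _ (fun U => ?_)
  rw [Groth.Agent.Lead.SubRange.rng_idealMulι_comp _ _ U.1.2,
    Groth.Agent.Lead.SubRange.rng_inf_arrow, Groth.Agent.Lead.SubRange.rng_infHom,
    Groth.Agent.Lead.SubRange.rng_idealMulι _ U.1.2,
    Groth.Agent.Lead.SubRange.rng_idealMulι _ U.1.2]
  exact artinRees_of_le (I.ideal U.1) (Groth.Agent.Lead.SubRange.rng ι U.1.1) (k U.1) (hk U.1) c
    (Finset.le_sup U.2) n hn

end Groth.Agent.S9517
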