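import Groth.Statements.S9557
import Groth.Agent.S1482
import Groth.Agent.H21.EtNbhd

set_option autoImplicit false
universe u
open EtLocal

namespace Groth.Agent.S9557

open AlgebraicGeometry CategoryTheory Limits in
/-- Let f : X ⟶ S be any morphism of schemes, s a point of S and x_1, …, x_n pairwise distinct points of
X over s such that f is étale at each x_i (the restriction of f to some open neighbourhood of x_i is
étale). Then there are an étale morphism g : U ⟶ S, a point u of U over s and finitely many opens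
V_k of X_U = X ×_S U, each labelled by one of the x_i, such that (1) each V_k ⟶ U is an isomorphism,
(2) no point of X_U over u lies in two different V_k, and (3) every point of X_U over u mapping to
x_i lies in some V_k labelled by x_i. -/
theorem result {X S : Scheme.{u}} (f : X ⟶ S) (s : S)
    {ι : Type} [Finite ι] (x : ι → ↑X) (hinj : Function.Injective x) (hs : ∀ i, f (x i) = s)
    (hx : ∀ i, ∃ W : X.Opens, x i ∈ W ∧ Etale (W.ι ≫ f)) :
    ∃ (U : Scheme.{u}) (g : U ⟶ S) (u : U), Etale g ∧ g u = s ∧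
      ∃ (K : Type) (_ : Finite K) (lab : K → ι) (V : K → (pullback f g).Opens),
        (∀ k, IsIso ((V k).ι ≫ pullback.snd f g)) ∧
        (∀ (k k' : K) (w : ↑(pullback f g)), w ∈ V k → w ∈ V k' → pullback.snd f g w = u → k = k') ∧
        (∀ (w : ↑(pullback f g)) (i : ι), pullback.snd f g w = u → pullback.fst f g w = x i →
          ∃ k, lab k = i ∧ w ∈ V k) := by
  classical
  choose W hxW het using hx
  let X' : X.Opens := ⨆ i, W i
  have hxX' : ∀ i, x i ∈ X' := fun i => (le_iSup W i) (hxW i)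
  have het' : Etale (X'.ι ≫ f) :=
    haveI := HasRingHomProperty.instIsZariskiLocalAtSource (P := @Etale)
    Groth.Agent.H21.EtNbhd.of_iSup_ι_comp @Etale W f het
  have hqf : LocallyQuasiFinite (X'.ι ≫ f) :=
    Groth.Agent.H21.EtNbhd.locallyQuasiFinite_of_unramified' _
  let x' : ι → X'.toScheme := fun i => ⟨x i, hxX' i⟩
  have hinj' : Function.Injective x' := fun i j h => hinj (congrArg Subtype.val h)
  have hs' : ∀ i, (X'.ι ≫ f) (x' i) = s := fun i => hs i
  obtain ⟨U, g, u, hg, hu, J, hJ, V', v', h1, h2, h3⟩ :=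
    Groth.Agent.S1482.result (X'.ι ≫ f) s x' hinj' hs' (fun i => (X'.ι ≫ f).quasiFiniteAt (x' i))
  have hfin : Finite (Σ i, J i) := inferInstance
  obtain ⟨U₁, g₁, u₁, hg₁, hu₁, V, hV1, hV2, hV3, -⟩ :=
    Groth.Agent.H21.EtNbhd.exists_of_data f s x X' hxX' g u hu
      (MorphismProperty.isomorphisms Scheme.{u})
      (K := Σ i, J i) (fun k => k.1) (fun k => V' k.1 k.2) (fun k => v' k.1 k.2)
      (fun k => ⟨(h1 k.1 k.2).1, (h1 k.1 k.2).2.2.1, (h1 k.1 k.2).2.2.2.1⟩)
      (fun k k' hkk' => Sigma.ext (h2 _ _ _ _ hkk').1 (h2 _ _ _ _ hkk').2)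
      (fun w i hw hwx => by
        obtain ⟨j, hj⟩ := h3 w i hw (Subtype.ext hwx)
        exact ⟨⟨i, j⟩, rfl, by rw [hj]; exact (h1 i j).1⟩)
      (fun k => by
        have : IsFinite ((V' k.1 k.2).ι ≫ pullback.snd (X'.ι ≫ f) g) := (h1 k.1 k.2).2.1
        exact Groth.Agent.H21.EtNbhd.exists_nhd_restrict_isIso
          (pullback.snd (X'.ι ≫ f) g) (V' k.1 k.2) u (v' k.1 k.2) (h1 k.1 k.2).1
          (h1 k.1 k.2).2.2.1 (h1 k.1 k.2).2.2.2.1 (h1 k.1 k.2).2.2.2.2.1.2)
  exact ⟨U₁, g₁, u₁, hg₁, hu₁, Σ i, J i, hfin, fun k => k.1, V, fun k => (hV1 k).1, hV2, hV3⟩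

end Groth.Agent.S9557
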