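import Groth.Statements.S9558
import Groth.Agent.S9778
import Groth.Agent.H21.EtNbhd

set_option autoImplicit false
universe u
open EtLocal

namespace Groth.Agent.S9558

open AlgebraicGeometry CategoryTheory Limits in
/-- Let f : X ⟶ S be a separated morphism of schemes, s a point of S and x_1, …, x_n pairwise distinct
points of X over s such that f is étale at each x_i (the restriction of f to some open neighbourhood
of x_i is étale). Then there are an étale morphism g : U ⟶ S, a point u of U over s, and a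
decomposition of X_U = X ×_S U into pairwise disjoint open subschemes W and finitely many V_k which
together cover X_U, such that each V_k ⟶ U is an isomorphism and no point of W over u maps to any of
the x_i. -/
theorem result {X S : Scheme.{u}} (f : X ⟶ S)
    [IsSeparated f] (s : S)
    {ι : Type} [Finite ι] (x : ι → ↑X) (hinj : Function.Injective x) (hs : ∀ i, f (x i) = s)
    (hx : ∀ i, ∃ W : X.Opens, x i ∈ W ∧ Etale (W.ι ≫ f)) :
    ∃ (U : Scheme.{u}) (g : U ⟶ S) (u : U), Etale g ∧ g u = s ∧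
      ∃ (K : Type) (_ : Finite K) (W : (pullback f g).Opens) (V : K → (pullback f g).Opens),
        W ⊔ (⨆ k, V k) = ⊤ ∧ (∀ k, Disjoint W (V k)) ∧ (∀ k k', k ≠ k' → Disjoint (V k) (V k')) ∧
        (∀ k, IsIso ((V k).ι ≫ pullback.snd f g)) ∧
        (∀ (w : ↑(pullback f g)) (i : ι), w ∈ W → pullback.snd f g w = u → pullback.fst f g w ≠ x i) := by
  classical
  choose W hxW het using hx
  let X' : X.Opens := ⨆ i, W i
  have hxX' : ∀ i, x i ∈ X' := fun i => (le_iSup W i) (hxW i)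
  have het' : Etale (X'.ι ≫ f) :=
    haveI := HasRingHomProperty.instIsZariskiLocalAtSource (P := @Etale)
    Groth.Agent.H21.EtNbhd.of_iSup_ι_comp @Etale W f het
  have hqf : LocallyQuasiFinite (X'.ι ≫ f) :=
    Groth.Agent.H21.EtNbhd.locallyQuasiFinite_of_unramified' _
  let x' : ι → X'.toScheme := fun i => ⟨x i, hxX' i⟩
  have hinj' : Function.Injective x' := fun i j h => hinj (congrArg Subtype.val h)
  have hs' : ∀ i, (X'.ι ≫ f) (x' i) = s := fun i => hs i
  obtain ⟨U, g, u, hg, hu, J, hJ, V', v', -, hdisj, h1, h3⟩ :=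
    Groth.Agent.S9778.result (X'.ι ≫ f) s x' hinj' hs' (fun i => (X'.ι ≫ f).quasiFiniteAt (x' i))
  have hfin : Finite (Σ i, J i) := inferInstance
  obtain ⟨U₁, g₁, u₁, hg₁, hu₁, V, hV1, hV2, hV3, hV4⟩ :=
    Groth.Agent.H21.EtNbhd.exists_of_data f s x X' hxX' g u hu (MorphismProperty.isomorphisms Scheme.{u})
      (K := Σ i, J i) (fun k => k.1) (fun k => V' k.1 k.2) (fun k => v' k.1 k.2)
      (fun k => ⟨(h1 k.1 k.2).1, (h1 k.1 k.2).2.2.1, (h1 k.1 k.2).2.2.2.1⟩)
      (fun k k' hkk' => by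
        have := hdisj k.1 k.2 k'.1 k'.2
          ⟨v' k.1 k.2, (h1 k.1 k.2).1, by rw [hkk']; exact (h1 k'.1 k'.2).1⟩
        exact Sigma.ext this.1 this.2)
      (fun w i hw hwx => by
        obtain ⟨j, hj⟩ := h3 w i hw (Subtype.ext hwx)
        exact ⟨⟨i, j⟩, rfl, hj⟩)
      (fun k => by
        have : IsFinite ((V' k.1 k.2).ι ≫ pullback.snd (X'.ι ≫ f) g) := (h1 k.1 k.2).2.1
        exact Groth.Agent.H21.EtNbhd.exists_nhd_restrict_isIso
          (pullback.snd (X'.ι ≫ f) g) (V' k.1 k.2) u (v' k.1 k.2) (h1 k.1 k.2).1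
          (h1 k.1 k.2).2.2.1 (h1 k.1 k.2).2.2.2.1 (h1 k.1 k.2).2.2.2.2.1)
  have hdisjV : ∀ k k', k ≠ k' → Disjoint (V k) (V k') := hV4 (fun k k' hkk' => by
    rw [disjoint_iff_inf_le]
    rintro w ⟨hw, hw'⟩
    have := hdisj k.1 k.2 k'.1 k'.2 ⟨w, hw, hw'⟩
    exact (hkk' (Sigma.ext this.1 this.2)).elim)
  have hcl : ∀ k, IsClosed (V k : Set ↑(pullback f g₁)) := fun k => by
      have : IsIso ((V k).ι ≫ pullback.snd f g₁) := (hV1 k).1
      exact Groth.Agent.H21.EtNbhd.isClosed_of_universallyClosed_ι_comp (pullback.snd f g₁) (V k)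
  obtain ⟨W₀, hW1, hW2, hW3⟩ := Groth.Agent.H21.EtNbhd.exists_compl_of_isClosed V hcl
  refine ⟨U₁, g₁, u₁, hg₁, hu₁, Σ i, J i, hfin, W₀, V, hW1, hW2, hdisjV, fun k => (hV1 k).1, ?_⟩
  intro w i hwW hw hwx
  obtain ⟨k, -, hk⟩ := hV3 w i hw hwx
  exact (hW3 w).1 hwW k hk

end Groth.Agent.S9558
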