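import Groth.Statements.S9559
import Groth.Agent.H21.FEtSplit

set_option autoImplicit false
open CategoryTheory CategoryTheory.Limits AlgebraicGeometry Opposite
universe u
open EtLocal

namespace Groth.Agent.S9559

/-- A finite étale morphism f : X ⟶ S becomes, after base change to a suitable étale neighbourhood (U,
u) of any point s of S, a finite disjoint union of copies of U: X_U is isomorphic over U to a finite
coproduct of schemes V_j each of which maps isomorphically onto U. -/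
theorem result {X S : Scheme.{u}} (f : X ⟶ S) [IsFinite f] [Etale f] (s : S) :
    ∃ (U : Scheme.{u}) (g : U ⟶ S) (_ : AlgebraicGeometry.Etale g) (u : U) (_ : g.base u = s)
      (n : ℕ) (V : Fin n → Scheme.{u}) (c : ∀ j, V j ⟶ U) (_ : ∀ j, IsIso (c j))
      (e : (∐ V) ≅ pullback f g), ∀ j, Sigma.ι V j ≫ e.hom ≫ pullback.snd f g = c j := by
  set n := f.finrank s with hn
  let W : S.Opens := ⟨{s' | f.finrank s' = n},
    (Scheme.Hom.isLocallyConstant_finrank f).isOpen_fiber n⟩
  have hsW : s ∈ W := rfl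
  have hrank : ∀ w : ↥W, (f ∣_ W).finrank w = n := fun w ↦ by
    rw [Scheme.Hom.finrank_of_isPullback _ _ _ _ (isPullback_morphismRestrict f W).flip w]
    exact w.2
  obtain ⟨Y, ψ, hψfin, hψet, hψsurj, hsplit⟩ :=
    Groth.Agent.H21.FEtSplit.exists_split n (f ∣_ W) hrank
  obtain ⟨u, hu⟩ := ψ.surjective ⟨s, hsW⟩
  obtain ⟨e', he'⟩ := hsplit.exists_iso
  have sq : IsPullback (pullback.fst (f ∣_ W) ψ ≫ (f ⁻¹ᵁ W).ι) (pullback.snd (f ∣_ W) ψ) f
      (ψ ≫ W.ι) :=
    (IsPullback.of_hasPullback (f ∣_ W) ψ).paste_horiz (isPullback_morphismRestrict f W).flip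
  refine ⟨Y, ψ ≫ W.ι, inferInstance, u, ?_, n, fun _ ↦ Y, fun _ ↦ 𝟙 Y, fun _ ↦ inferInstance,
    e'.symm ≪≫ sq.isoPullback, fun j ↦ ?_⟩
  · rw [Scheme.Hom.comp_base, TopCat.coe_comp, Function.comp_apply]
    rw [hu]; rfl
  · simp only [Iso.trans_hom, Iso.symm_hom, Category.assoc, IsPullback.isoPullback_hom_snd]
    exact he' j

end Groth.Agent.S9559
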