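import Groth.Statements.S9567
import Groth.Agent.H87.MonoCore

set_option autoImplicit false
universe u
open EtLocal

namespace Groth.Agent.S9567

open AlgebraicGeometry CategoryTheory in
/-- Let φ : X ⟶ Y be any morphism of schemes, x a point of X and V an affine open neighbourhood of φ(x),
with ring R = Γ(Y, V). If φ is étale on some open neighbourhood of x, then there are an affine open
neighbourhood U of x with φ(U) ⊆ V, a monic polynomial p over R and an open immersion j of U into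
Spec of (R[t]/(p))[1/p′] (the localization of R[t]/(p) away from the image of the derivative of p)
such that j followed by the projection to Spec R is the morphism U → Spec R induced by φ. -/
theorem result {X Y : Scheme.{u}} (φ : X ⟶ Y) (x : X)
    (V : Y.Opens) (hV : IsAffineOpen V) (hxV : φ.base x ∈ V)
    (hφ : ∃ W : X.Opens, x ∈ W ∧ Etale (W.ι ≫ φ)) :
    ∃ (U : X.Opens) (hU : IsAffineOpen U) (_ : x ∈ U) (e : U ≤ φ ⁻¹ᵁ V)
      (p : Polynomial Γ(Y, V)) (_ : p.Monic)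
      (j : U.toScheme ⟶ Spec (CommRingCat.of (Localization.Away (AdjoinRoot.mk p (Polynomial.derivative p))))),
      IsOpenImmersion j ∧
        j ≫ Spec.map (CommRingCat.ofHom
            (algebraMap Γ(Y, V) (Localization.Away (AdjoinRoot.mk p (Polynomial.derivative p))))) =
          hU.isoSpec.hom ≫ Spec.map (φ.appLE V U e) := by
  obtain ⟨W, hxW, hW⟩ := hφ
  -- an affine open neighbourhood inside `W ⊓ φ⁻¹ V`
  obtain ⟨U₀, hU₀, hxU₀, hU₀le⟩ : ∃ U₀ : X.Opens, IsAffineOpen U₀ ∧ x ∈ U₀ ∧ U₀ ≤ W ⊓ φ ⁻¹ᵁ V :=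
    (TopologicalSpace.Opens.isBasis_iff_nbhd.mp X.isBasis_affineOpens)
      (show x ∈ W ⊓ φ ⁻¹ᵁ V from ⟨hxW, hxV⟩)
  have e₀ : U₀ ≤ φ ⁻¹ᵁ V := hU₀le.trans inf_le_right
  have hUW : U₀ ≤ W := hU₀le.trans inf_le_left
  have hEt : Etale (U₀.ι ≫ φ) := by
    rw [← X.homOfLE_ι hUW, Category.assoc]
    infer_instance
  have hρ : (φ.appLE V U₀ e₀).hom.Etale := by
    have : IsAffine U₀.toScheme := hU₀
    have h1 := Etale.etale_appLE (U₀.ι ≫ φ) hV (isAffineOpen_top U₀.toScheme)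
      (show (⊤ : U₀.toScheme.Opens) ≤ (U₀.ι ≫ φ) ⁻¹ᵁ V from fun y _ => e₀ y.2)
    have h2 : (U₀.ι ≫ φ).appLE V ⊤ (fun y _ => e₀ y.2) =
        φ.appLE V U₀ e₀ ≫ U₀.ι.appLE U₀ ⊤ (by simp) := by
      rw [Scheme.Hom.appLE_comp_appLE]
    rw [h2] at h1
    exact (RingHom.Etale.respectsIso.cancel_right_isIso _ _).mp h1
  -- the étale algebra `Γ(Y, V) → Γ(X, U₀)` and the prime of `x`
  let _ : Algebra Γ(Y, V) Γ(X, U₀) := (φ.appLE V U₀ e₀).hom.toAlgebra
  have : Algebra.Etale Γ(Y, V) Γ(X, U₀) := hρ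
  let q : Ideal Γ(X, U₀) :=
    (IsLocalRing.maximalIdeal (X.presheaf.stalk x)).comap (X.presheaf.germ U₀ x hxU₀).hom
  have hq : q.IsPrime := Ideal.comap_isPrime _ _
  obtain ⟨f, hfq, p, hp, H⟩ := Groth.Agent.H87.MonoCore.ring_core (R := Γ(Y, V)) q
  have hxf : x ∈ X.basicOpen f := by
    rw [X.mem_basicOpen f x hxU₀]
    by_contra hnu
    exact hfq hnu
  have hU : IsAffineOpen (X.basicOpen f) := hU₀.basicOpen f
  have e : X.basicOpen f ≤ φ ⁻¹ᵁ V := (X.basicOpen_le f).trans e₀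
  let _ : Algebra Γ(Y, V) Γ(X, X.basicOpen f) := (φ.appLE V (X.basicOpen f) e).hom.toAlgebra
  have : IsScalarTower Γ(Y, V) Γ(X, U₀) Γ(X, X.basicOpen f) := by
    refine .of_algebraMap_eq' ?_
    simp only [RingHom.algebraMap_toAlgebra]
    rw [← CommRingCat.hom_comp, Scheme.Hom.appLE_map]
  have : IsLocalization.Away f Γ(X, X.basicOpen f) := hU₀.isLocalization_basicOpen f
  obtain ⟨χ, t, ht⟩ := H Γ(X, X.basicOpen f)
  refine ⟨X.basicOpen f, hU, hxf, e, p, hp,
    hU.isoSpec.hom ≫ Spec.map (CommRingCat.ofHom χ.toRingHom), ?_, ?_⟩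
  · let _ : Algebra (Localization.Away (AdjoinRoot.mk p (Polynomial.derivative p)))
      Γ(X, X.basicOpen f) := χ.toRingHom.toAlgebra
    have : IsOpenImmersion (Spec.map (CommRingCat.ofHom χ.toRingHom)) :=
      IsOpenImmersion.of_isLocalization t
    infer_instance
  · rw [Category.assoc, ← Spec.map_comp]
    congr 2
    ext r
    exact χ.commutes r

end Groth.Agent.S9567
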