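import Groth.Statements.S9571
import Groth.Agent.H18.TwistStalk

set_option autoImplicit false
universe u
open CategoryTheory CategoryTheory.Limits AlgebraicGeometry TopologicalSpace Opposite
open Constr

namespace Groth.Agent.S9571

/-- Let S be a graded ring, X = Proj S and d ≥ 1; let W_d be the union of the opens D_+(ab) over pairs
of homogeneous a, b with deg a = deg b + d (the open over which the twisting sheaves O_X(nd) are
invertible with compatible multiplications). For n ≥ 1 and f homogeneous of degree nd, with s the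
section of O_X(nd) over W_d defined by f, the non-vanishing locus (W_d)_s equals D_+(f) ∩ W_d.
Pointwise: for p in some D_+(ab) as above, p ∈ D_+(f) if and only if the value f/1 of s at p
generates the module of degree-nd fractions at p (the span of the fractions c/t with t ∉ p and deg c
= deg t + nd, over the degree-zero local ring at p). -/
theorem result {R A : Type u} [CommRing R] [CommRing A] [Algebra R A] (𝒜 : ℕ → Submodule R A) [GradedAlgebra 𝒜]
    {d : ℕ} (hd : 0 < d) {i j : ℕ} {a b : A} (ha : a ∈ 𝒜 i) (hb : b ∈ 𝒜 j) (hij : i = j + d)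
    (p : ProjectiveSpectrum 𝒜) (hp : p ∈ ProjectiveSpectrum.basicOpen 𝒜 (a * b))
    {n : ℕ} (hn : 0 < n) (f : 𝒜 (n * d)) :
    p ∈ ProjectiveSpectrum.basicOpen 𝒜 (f : A) ↔
      Submodule.span (Twist.A0 𝒜 p) {(Twist.globalOf 𝒜 f).1 ⟨p, trivial⟩} = ⊤ := by
  have hap : a ∉ p.asHomogeneousIdeal := fun h => hp (Ideal.mul_mem_right _ _ h)
  have hbp : b ∉ p.asHomogeneousIdeal := fun h => hp (Ideal.mul_mem_left _ _ h)
  constructor
  · intro hf
    have hfp : (f : A) ∉ p.asHomogeneousIdeal := hf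
    rw [eq_top_iff]
    rintro ⟨q, hq⟩ -
    obtain ⟨i', j', c, t, hc, ht, htp, hdeg, rfl⟩ :=
      Groth.Agent.H18.twistAt_eq_fraction 𝒜 ((n * d : ℕ) : ℤ) p q hq
    rw [Submodule.mem_span_singleton]
    have hmem : c ∈ 𝒜 (j' + n * d) := by
      have : i' = j' + n * d := by exact_mod_cast hdeg
      rw [← this]; exact hc
    have htf : t * (f : A) ∈ 𝒜 (j' + n * d) := SetLike.mul_mem_graded ht f.2
    have htfp : t * (f : A) ∉ p.asHomogeneousIdeal := fun h =>
      (p.isPrime.mem_or_mem h).elim htp hfp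
    refine ⟨HomogeneousLocalization.mk ⟨j' + n * d, ⟨c, hmem⟩, ⟨t * (f : A), htf⟩, htfp⟩, ?_⟩
    apply Subtype.ext
    rw [Twist.coe_smul_val, HomogeneousLocalization.val_mk]
    change Localization.mk c ⟨t * (f : A), htfp⟩ * Localization.mk (f : A) ⟨1, _⟩ = Localization.mk c ⟨t, htp⟩
    rw [Localization.mk_mul, Localization.mk_eq_mk_iff, Localization.r_iff_exists]
    refine ⟨1, ?_⟩
    simp only [OneMemClass.coe_one, one_mul, Submonoid.coe_mul, mul_one]
    ring
  · intro hspan hfp
    have han : a ^ n ∈ 𝒜 (n * i) := by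
      have := SetLike.pow_mem_graded n ha
      simpa [smul_eq_mul] using this
    have hbn : b ^ n ∈ 𝒜 (n * j) := by
      have := SetLike.pow_mem_graded n hb
      simpa [smul_eq_mul] using this
    have hanp : a ^ n ∉ p.asHomogeneousIdeal := fun h => hap (p.isPrime.mem_of_pow_mem n h)
    have hbnp : b ^ n ∉ p.asHomogeneousIdeal := fun h => hbp (p.isPrime.mem_of_pow_mem n h)
    have hq₀ : (Localization.mk (a ^ n) (⟨b ^ n, hbnp⟩ : p.asHomogeneousIdeal.toIdeal.primeCompl) :
        Twist.Loc 𝒜 p) ∈ Twist.twistAt 𝒜 ((n * d : ℕ) : ℤ) p :=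
      Submodule.subset_span ⟨n * i, n * j, ⟨a ^ n, han⟩, ⟨b ^ n, hbn⟩, hbnp,
        by subst hij; push_cast; ring, rfl⟩
    have hmem : (⟨_, hq₀⟩ : Twist.twistAt 𝒜 ((n * d : ℕ) : ℤ) p) ∈
        Submodule.span (Twist.A0 𝒜 p) {(Twist.globalOf 𝒜 f).1 ⟨p, trivial⟩} := by
      rw [hspan]; trivial
    rw [Submodule.mem_span_singleton] at hmem
    obtain ⟨c, hc⟩ := hmem
    have hval := congrArg Subtype.val hc
    rw [Twist.coe_smul_val] at hval
    change c.val * Localization.mk (f : A) ⟨1, _⟩ = Localization.mk (a ^ n) ⟨b ^ n, hbnp⟩ at hval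
    have hunit : IsUnit (Localization.mk (a ^ n) (⟨b ^ n, hbnp⟩ : p.asHomogeneousIdeal.toIdeal.primeCompl) :
        Twist.Loc 𝒜 p) := by
      rw [Localization.mk_eq_mk']
      exact (IsLocalization.AtPrime.isUnit_mk'_iff (Localization.AtPrime p.asHomogeneousIdeal.toIdeal)
        p.asHomogeneousIdeal.toIdeal (a ^ n) _).mpr hanp
    rw [← hval] at hunit
    have hunit2 := isUnit_of_mul_isUnit_right hunit
    have h1eq : (⟨1, fun h => p.isPrime.ne_top ((Ideal.eq_top_iff_one _).mpr h)⟩ :
        p.asHomogeneousIdeal.toIdeal.primeCompl) = 1 := rfl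
    rw [h1eq, Localization.mk_one_eq_algebraMap] at hunit2
    exact (IsLocalization.AtPrime.isUnit_to_map_iff (Localization.AtPrime p.asHomogeneousIdeal.toIdeal)
      p.asHomogeneousIdeal.toIdeal (f : A)).mp hunit2 hfp

end Groth.Agent.S9571
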