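import Groth.Statements.S9572
import Groth.Agent.H41.PConeIso

set_option autoImplicit false
universe u
open CategoryTheory CategoryTheory.Limits AlgebraicGeometry TopologicalSpace Opposite
open Constr

namespace Groth.Agent.S9572

/-- Let ψ : A → B be a homomorphism of graded rings such that A_d → B_d is bijective for all d ≥ d₀. Let
U(ψ) ⊆ Proj B be the union of the opens D_+(ψ f) over homogeneous f of positive degree, and r_ψ :
U(ψ) → Proj A the morphism whose restriction to each chart Spec B_(ψ f) is Spec of the induced map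
A_(f) → B_(ψ f) followed by the chart of Proj A. Then U(ψ) = Proj B and r_ψ is an isomorphism. (Here
r_ψ is any morphism with that chart description; it is unique.) -/
theorem result {R A : Type u} [CommRing R] [CommRing A] [Algebra R A] (𝒜 : ℕ → Submodule R A) [GradedAlgebra 𝒜]
    {B : Type u} [CommRing B] [Algebra R B] (ℬ : ℕ → Submodule R B) [GradedAlgebra ℬ] (ψ : 𝒜 →+*ᵍ ℬ)
    (d₀ : ℕ) (hbij : ∀ d : ℕ, d₀ ≤ d → Set.BijOn ψ (𝒜 d) (ℬ d))
    (r : (PCone.dom ψ : Scheme.{u}) ⟶ Proj 𝒜)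
    (hr : ∀ (d : ℕ) (f : A) (hd : 0 < d) (hf : f ∈ 𝒜 d),
      PCone.chart ψ hf hd ≫ r =
        Spec.map (CommRingCat.ofHom (HomogeneousLocalization.Away.map ψ f)) ≫ Proj.awayι 𝒜 f hf hd) :
    PCone.dom ψ = ⊤ ∧ IsIso r := by
  refine ⟨?_, ?_⟩
  · rw [eq_top_iff]
    intro x _
    obtain ⟨e, b, he, hb, hbx⟩ := Groth.Agent.H18.exists_pos_homogeneous_notMem ℬ x
    have hdeg : b ^ (d₀ + 1) ∈ ℬ ((d₀ + 1) • e) := SetLike.pow_mem_graded _ hb
    have hge : d₀ ≤ (d₀ + 1) • e := by
      have : (d₀ + 1) * 1 ≤ (d₀ + 1) * e := Nat.mul_le_mul le_rfl he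
      simp only [smul_eq_mul]
      omega
    have hpos : 0 < (d₀ + 1) • e := by
      simp only [smul_eq_mul]
      positivity
    obtain ⟨a, ha, hab⟩ := (hbij _ hge).surjOn hdeg
    refine TopologicalSpace.Opens.mem_iSup.mpr ⟨⟨a, _, hpos, ha⟩, ?_⟩
    change ψ a ∉ x.asHomogeneousIdeal
    rw [hab]
    intro hmem
    exact hbx (x.isPrime.mem_of_pow_mem _ hmem)
  · apply Groth.Agent.H41.PConeIso.isIso_of_awayMap_bijective ψ r hr
    intro d f hd hf
    exact Groth.Agent.H41.ProjGen.awayMap_bijective_of_bijOn_ge ψ d₀ hbij hd hf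

end Groth.Agent.S9572
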