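import Groth.Statements.S9575
import Groth.Agent.H18.TwistTriv

set_option autoImplicit false
universe u
open CategoryTheory CategoryTheory.Limits AlgebraicGeometry TopologicalSpace Opposite
open Constr

namespace Groth.Agent.S9575

/-- Let S be a graded ring, X = Proj S, d ≥ 1, and a, b homogeneous elements with deg a = deg b + d.
Then for every integer n the restriction of the twisting sheaf O_X(nd) to the standard open D_+(ab)
is isomorphic to the structure sheaf of D_+(ab): it is free of rank one, generated by the section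
(a/b)^n. (This is the invertibility half of the fact that D_+(ab) lies in the open W_d where the
O_X(nd) are invertible with compatible multiplications; existence of an isomorphism only. The
compatibility of the multiplication maps O_X(nd) ⊗ O_X(md) → O_X(nd+md) on this open, and the
converse statement that the largest such open is the union of the D_+(ab), are not stated here.) -/
theorem result {R A : Type u} [CommRing R] [CommRing A] [Algebra R A] (𝒜 : ℕ → Submodule R A) [GradedAlgebra 𝒜]
    {d : ℕ} (hd : 0 < d) {i j : ℕ} {a b : A} (ha : a ∈ 𝒜 i) (hb : b ∈ 𝒜 j) (hij : i = j + d) (n : ℤ) :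
    Nonempty ((Twist.twist 𝒜 (n * d)).restrict (Proj.basicOpen 𝒜 (a * b)).ι ≅
      Coh.structureModule ↑(Proj.basicOpen 𝒜 (a * b))) := by
  have hWa : ∀ k : ℕ, ∀ x : ProjectiveSpectrum 𝒜, x ∈ Proj.basicOpen 𝒜 (a * b) → a ^ k ∉ x.asHomogeneousIdeal :=
    fun k x hx h => hx (Ideal.mul_mem_right _ _ (x.isPrime.mem_of_pow_mem k h))
  have hWb : ∀ k : ℕ, ∀ x : ProjectiveSpectrum 𝒜, x ∈ Proj.basicOpen 𝒜 (a * b) → b ^ k ∉ x.asHomogeneousIdeal :=
    fun k x hx h => hx (Ideal.mul_mem_left _ _ (x.isPrime.mem_of_pow_mem k h))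
  have hpa : ∀ k : ℕ, a ^ k ∈ 𝒜 (k * i) := by
    intro k
    have := SetLike.pow_mem_graded k ha
    simpa [smul_eq_mul] using this
  have hpb : ∀ k : ℕ, b ^ k ∈ 𝒜 (k * j) := by
    intro k
    have := SetLike.pow_mem_graded k hb
    simpa [smul_eq_mul] using this
  rcases le_or_gt 0 n with hn | hn
  · obtain ⟨k, rfl⟩ := Int.eq_ofNat_of_zero_le hn
    exact Groth.Agent.H18.nonempty_twist_restrict_iso 𝒜 (hpa k) (hpb k)
      (by subst hij; push_cast; ring) _ (hWa k) (hWb k)
  · obtain ⟨k, hk⟩ := Int.eq_ofNat_of_zero_le (by omega : 0 ≤ -n)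
    have hn' : n = -(k : ℤ) := by omega
    subst hn'
    exact Groth.Agent.H18.nonempty_twist_restrict_iso 𝒜 (hpb k) (hpa k)
      (by subst hij; push_cast; ring) _ (hWb k) (hWa k)

end Groth.Agent.S9575
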