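import Groth.Statements.S9578
import Groth.Agent.H77.GrModTensorTwist

set_option autoImplicit false
universe u
open CategoryTheory CategoryTheory.Limits AlgebraicGeometry TopologicalSpace Opposite
open Constr

namespace Groth.Agent.S9578

/-- Let S be a graded ring, M a graded S-module (graded in non-negative degrees here), X = Proj S and d
≥ 1; let W_d ⊆ X be the union of the standard opens D_+(ab) over the pairs of homogeneous elements
a, b with deg a = deg b + d (the open over which the twisting sheaves O_X(nd) are invertible with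
compatible multiplications). Then for every integer n the restrictions to W_d of M~(nd) = M~ ⊗
O_X(nd) and of M(nd)~, the module attached to the shifted module, are isomorphic. (Existence of an
isomorphism only; in the published statement it is the canonical multiplication map M~ ⊗ O_X(nd) →
M(nd)~ that restricts to an isomorphism over W_d. That W_d is the largest open over which the
O_X(nd) are invertible with compatible multiplications is not stated here.) -/
theorem result {R A : Type u} [CommRing R] [CommRing A] [Algebra R A] (𝒜 : ℕ → Submodule R A) [GradedAlgebra 𝒜]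
    {M : Type u} [AddCommGroup M] [Module R M] [Module A M] [IsScalarTower R A M] (ℳ : ℕ → Submodule R M)
    [DirectSum.Decomposition ℳ] [SetLike.GradedSMul 𝒜 ℳ]
    {d : ℕ} (hd : 0 < d) (n : ℤ) :
    Nonempty ((Twist.twistBy 𝒜 (GrTilde.tilde 𝒜 ℳ 0) (n * d)).restrict
        (⨆ (j : ℕ) (a : 𝒜 (j + d)) (b : 𝒜 j), Proj.basicOpen 𝒜 ((a : A) * b)).ι ≅
      (GrTilde.tilde 𝒜 ℳ (n * d)).restrict
        (⨆ (j : ℕ) (a : 𝒜 (j + d)) (b : 𝒜 j), Proj.basicOpen 𝒜 ((a : A) * b)).ι) := by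
  classical
  have hk : (0 : ℤ) + n * d = n * d := zero_add _
  let μ : CohB1.tensorMod (GrMod.tilde 𝒜 ℳ 0) (GrTwist.twist 𝒜 (n * d)) ⟶ GrMod.tilde 𝒜 ℳ (n * d) :=
    Groth.Agent.H77.GrModTensorTwist.mul 𝒜 ℳ hk
  have hiso : IsIso ((Scheme.Modules.restrictFunctor
      (⨆ (j : ℕ) (a : 𝒜 (j + d)) (b : 𝒜 j), Proj.basicOpen 𝒜 ((a : A) * b)).ι).map μ) := by
    rw [Groth.Agent.H67.GenLocusAffine.isIso_restrict_iff]
    intro V hV
    let F : TopCat.Sheaf Ab (Proj 𝒜) :=
      ⟨(CohB1.tensorMod (GrMod.tilde 𝒜 ℳ 0) (GrTwist.twist 𝒜 (n * d))).presheaf,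
        (CohB1.tensorMod (GrMod.tilde 𝒜 ℳ 0) (GrTwist.twist 𝒜 (n * d))).isSheaf⟩
    let G : TopCat.Sheaf Ab (Proj 𝒜) :=
      ⟨(GrMod.tilde 𝒜 ℳ (n * d)).presheaf, (GrMod.tilde 𝒜 ℳ (n * d)).isSheaf⟩
    let g : F ⟶ G := ⟨μ.mapPresheaf⟩
    refine Groth.Agent.H77.SheafLocalBij.app_bijective_of_local_basis g
      (⨆ (j : ℕ) (a : 𝒜 (j + d)) (b : 𝒜 j), Proj.basicOpen 𝒜 ((a : A) * b))
      {V' | ∃ (j : ℕ) (a : 𝒜 (j + d)) (b : 𝒜 j), V' ≤ Proj.basicOpen 𝒜 ((a : A) * b)} ?_ ?_ V hV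
    · intro x hx V' hxV'
      obtain ⟨j, hx⟩ := Opens.mem_iSup.mp hx
      obtain ⟨a, hx⟩ := Opens.mem_iSup.mp hx
      obtain ⟨b, hx⟩ := Opens.mem_iSup.mp hx
      exact ⟨V' ⊓ Proj.basicOpen 𝒜 ((a : A) * b), ⟨j, a, b, inf_le_right⟩, ⟨hxV', hx⟩, inf_le_left⟩
    · rintro V' ⟨j, a, b, hV'⟩
      obtain ⟨p, q, hpq⟩ : ∃ p q : ℕ, (p : ℤ) - q = n :=
        ⟨n.toNat, (-n).toNat, Int.toNat_sub_toNat_neg n⟩
      have hnum : (a : A) ^ p * (b : A) ^ q ∈ 𝒜 (p • (j + d) + q • j) :=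
        SetLike.mul_mem_graded (SetLike.pow_mem_graded _ a.2) (SetLike.pow_mem_graded _ b.2)
      have hden : (b : A) ^ p * (a : A) ^ q ∈ 𝒜 (p • j + q • (j + d)) :=
        SetLike.mul_mem_graded (SetLike.pow_mem_graded _ b.2) (SetLike.pow_mem_graded _ a.2)
      have he : ((p • (j + d) + q • j : ℕ) : ℤ) = (p • j + q • (j + d) : ℕ) + n * d := by
        simp only [smul_eq_mul]
        push_cast
        rw [← hpq]
        ring
      have hab : ∀ x : ProjectiveSpectrum 𝒜, x ∈ Proj.basicOpen 𝒜 ((a : A) * b) →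
          (a : A) ∉ x.asHomogeneousIdeal ∧ (b : A) ∉ x.asHomogeneousIdeal := by
        intro x hx
        have h1 : (a : A) * b ∉ x.asHomogeneousIdeal := (Proj.mem_basicOpen _ _ _).mp hx
        exact ⟨fun h => h1 (Ideal.mul_mem_right _ _ h), fun h => h1 (Ideal.mul_mem_left _ _ h)⟩
      have hnin : ∀ (p q : ℕ) (u v : A) (x : ProjectiveSpectrum 𝒜),
          u ∉ x.asHomogeneousIdeal → v ∉ x.asHomogeneousIdeal →
          u ^ p * v ^ q ∉ x.asHomogeneousIdeal := by
        intro p q u v x hu hv h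
        rcases x.isPrime.mem_or_mem h with h | h
        · exact hu (x.isPrime.mem_of_pow_mem p h)
        · exact hv (x.isPrime.mem_of_pow_mem q h)
      exact Groth.Agent.H77.GrModTensorTwist.bijective_mul_app 𝒜 ℳ hk hnum hden he
        (Proj.basicOpen 𝒜 ((a : A) * b))
        (fun x hx => hnin _ _ _ _ x (hab x hx).1 (hab x hx).2)
        (fun x hx => hnin _ _ _ _ x (hab x hx).2 (hab x hx).1) V' hV'
  exact ⟨@asIso _ _ _ _ ((Scheme.Modules.restrictFunctor
      (⨆ (j : ℕ) (a : 𝒜 (j + d)) (b : 𝒜 j), Proj.basicOpen 𝒜 ((a : A) * b)).ι).map μ) hiso⟩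

end Groth.Agent.S9578
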