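import Groth.Statements.S9580
import Groth.Agent.H18.TwistInvertible

set_option autoImplicit false
universe u
open CategoryTheory CategoryTheory.Limits AlgebraicGeometry TopologicalSpace Opposite
open Constr

namespace Groth.Agent.S9580

/-- Let S be a graded ring, X = Proj S and Y ⊆ X a quasi-compact open subscheme. Then there is an
integer d ≥ 1 such that Y is contained in the open W_d, the union of the standard opens D_+(ab) over
homogeneous a, b with deg a = deg b + d, and such that the restriction O_Y(nd) of O_X(nd) to Y is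
invertible for every integer n. (The remaining assertions — the multiplication maps among the
O_Y(nd) and M~(nd) are isomorphisms, D_+(f) ∩ Y = Y_s, and the loci Y_s form a basis — are not
stated here.) -/
theorem result {R A : Type u} [CommRing R] [CommRing A] [Algebra R A] (𝒜 : ℕ → Submodule R A) [GradedAlgebra 𝒜]
    (Y : (Proj 𝒜).Opens) (hY : IsCompact (Y : Set (Proj 𝒜))) :
    ∃ d : ℕ, 0 < d ∧
      (∀ y : Proj 𝒜, y ∈ Y → ∃ (i j : ℕ) (a b : A), a ∈ 𝒜 i ∧ b ∈ 𝒜 j ∧ i = j + d ∧ y ∈ Proj.basicOpen 𝒜 (a * b)) ∧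
      ∀ n : ℤ, PicF.IsInvertible ((Twist.twist 𝒜 (n * d)).restrict Y.ι) := by
  classical
  have hpt : ∀ y : ProjectiveSpectrum 𝒜, ∃ (i : ℕ) (s : A), 0 < i ∧ s ∈ 𝒜 i ∧ s ∉ y.asHomogeneousIdeal :=
    fun y => Groth.Agent.H18.exists_pos_homogeneous_notMem 𝒜 y
  choose deg s hdeg hs hsy using hpt
  obtain ⟨T, hT⟩ := hY.elim_finite_subcover
    (fun y : Proj 𝒜 => ((Proj.basicOpen 𝒜 (s y) : (Proj 𝒜).Opens) : Set (Proj 𝒜)))
    (fun y => (Proj.basicOpen 𝒜 (s y)).2) (fun y _ => Set.mem_iUnion.mpr ⟨y, hsy y⟩)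
  let d := ∏ y ∈ T, deg y
  have hd : 0 < d := Finset.prod_pos (fun y _ => hdeg y)
  have hdvd : ∀ y ∈ T, deg y ∣ d := fun y hy => Finset.dvd_prod_of_mem deg hy
  have hg : ∀ y ∈ T, s y ^ (d / deg y) ∈ 𝒜 d := by
    intro y hy
    have := SetLike.pow_mem_graded (d / deg y) (hs y)
    rwa [smul_eq_mul, Nat.div_mul_cancel (hdvd y hy)] at this
  have hcov : ∀ z : Proj 𝒜, z ∈ Y → ∃ f : A, f ∈ 𝒜 d ∧ z ∈ Proj.basicOpen 𝒜 f := by
    intro z hz
    have := hT hz
    simp only [Set.mem_iUnion] at this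
    obtain ⟨y, hyT, hzy⟩ := this
    refine ⟨s y ^ (d / deg y), hg y hyT, ?_⟩
    intro h
    exact hzy (z.isPrime.mem_of_pow_mem _ h)
  refine ⟨d, hd, ?_, fun n => Groth.Agent.H18.isInvertible_twist_restrict 𝒜 Y d hcov n⟩
  intro y hy
  obtain ⟨f, hf, hyf⟩ := hcov y hy
  refine ⟨d + d, d, f * f, f, SetLike.mul_mem_graded hf hf, hf, rfl, ?_⟩
  intro h
  rcases y.isPrime.mem_or_mem h with h' | h'
  · rcases y.isPrime.mem_or_mem h' with h'' | h'' <;> exact hyf h''
  · exact hyf h'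

end Groth.Agent.S9580
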