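import Groth.Statements.S9581
import Groth.Agent.H48.WeakAss

set_option autoImplicit false
universe u
open CAlg

namespace Groth.Agent.S9581

/-- (1) ⇔ (3): for a ring R, an R-module M and a prime p of R, the prime p is weakly associated to M
(minimal among the primes containing the annihilator of some element of M) if and only if the
localization M_p contains an element whose annihilator in R_p has radical equal to the maximal ideal
p R_p. -/
theorem result {R : Type u} [CommRing R] (M : Type u) [AddCommGroup M] [Module R M] (p : Ideal R) [p.IsPrime] :
    p ∈ FlatCA.weakAss R M ↔ IsAssociatedPrime (IsLocalRing.maximalIdeal (Localization.AtPrime p)) (LocalizedModule p.primeCompl M) := by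
  have hS : Disjoint (p.primeCompl : Set R) (p : Set R) := by
    rw [Set.disjoint_left]
    intro x hx hxp
    exact hx hxp
  rw [Groth.Agent.H48.mem_weakAss_iff_map_mem p.primeCompl M p hS]
  have hmap : Ideal.map (algebraMap R (Localization p.primeCompl)) p =
      IsLocalRing.maximalIdeal (Localization.AtPrime p) :=
    Localization.AtPrime.map_eq_maximalIdeal
  rw [hmap]
  constructor
  · rintro ⟨x, hx⟩
    refine ⟨(IsLocalRing.maximalIdeal.isMaximal _).isPrime, x, ?_⟩
    rw [Submodule.bot_colon']
    exact (Groth.Agent.H48.maximalIdeal_mem_minimalPrimes_iff _).mp hx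
  · rintro ⟨_, x, hx⟩
    refine ⟨x, ?_⟩
    rw [Submodule.bot_colon'] at hx
    exact (Groth.Agent.H48.maximalIdeal_mem_minimalPrimes_iff _).mpr hx

end Groth.Agent.S9581
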