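import Groth.Statements.S9582
import Groth.Agent.H48.WeakAss

set_option autoImplicit false
universe u
open CAlg

namespace Groth.Agent.S9582

/-- For a reduced ring R, the primes weakly associated to the R-module R (primes minimal over the
annihilator of some element) are exactly the minimal primes of R. -/
theorem result {R : Type u} [CommRing R] [IsReduced R] :
    FlatCA.weakAss R R = minimalPrimes R := by
  ext p
  constructor
  · rintro ⟨x, hx⟩
    have hpp : p.IsPrime := hx.1.1
    have hann : ∀ r : R, r * x = 0 → r ∈ p := fun r hr =>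
      hx.1.2 (Groth.Agent.H48.mem_annE.mpr (by rw [smul_eq_mul]; exact hr))
    -- key: for a ∈ p there is t ∉ p with t * a * x = 0
    have key : ∀ a ∈ p, ∃ t ∉ p, t * a * x = 0 := by
      intro a ha
      obtain ⟨t, ht, n, hn⟩ := Groth.Agent.H48.exists_mul_pow_mem_of_mem_minimalPrimes hx ha
      rw [Groth.Agent.H48.mem_annE, smul_eq_mul] at hn
      refine ⟨t, ht, ?_⟩
      have : (t * a * x) ^ (n + 1) = 0 := by
        have : (t * a * x) ^ (n + 1) = (t * a ^ n * x) * (t ^ n * a * x ^ n) := by ring
        rw [this, hn, zero_mul]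
      exact IsReduced.eq_zero _ ⟨n + 1, this⟩
    -- step 1 : a prime q₀ ≤ p with x ∉ q₀
    have step1 : ∃ q₀ : Ideal R, q₀.IsPrime ∧ q₀ ≤ p ∧ x ∉ q₀ := by
      let T : Submonoid R := p.primeCompl ⊔ Submonoid.powers x
      have hT : Disjoint ((⊥ : Ideal R) : Set R) (T : Set R) := by
        rw [Set.disjoint_left]
        intro z hz hzT
        have hz0 : z = 0 := hz
        rw [hz0] at hzT
        obtain ⟨t, ht, y, ⟨n, rfl⟩, hty⟩ := Submonoid.mem_sup.mp hzT
        have h1 : (t * x) ^ (n + 1) = 0 := by
          have : (t * x) ^ (n + 1) = (t * x ^ n) * (t ^ n * x) := by ring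
          rw [this, hty, zero_mul]
        have h2 : t * x = 0 := IsReduced.eq_zero _ ⟨n + 1, h1⟩
        exact ht (hann t h2)
      obtain ⟨q₀, hq₀, _, hdisj⟩ := Ideal.exists_le_prime_disjoint ⊥ T hT
      refine ⟨q₀, hq₀, ?_, ?_⟩
      · intro a ha
        by_contra hap
        exact Set.disjoint_left.mp hdisj ha (Submonoid.mem_sup_left (show a ∈ p.primeCompl from hap))
      · intro hxq
        exact Set.disjoint_left.mp hdisj hxq (Submonoid.mem_sup_right (Submonoid.mem_powers x))
    obtain ⟨q₀, hq₀, hq₀p, hxq₀⟩ := step1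
    have hpq₀ : p ≤ q₀ := by
      intro a ha
      obtain ⟨t, ht, hta⟩ := key a ha
      have h0 : t * a * x ∈ q₀ := by rw [hta]; exact q₀.zero_mem
      rcases hq₀.mem_or_mem h0 with h1 | h1
      · rcases hq₀.mem_or_mem h1 with h2 | h2
        · exact absurd (hq₀p h2) ht
        · exact h2
      · exact absurd h1 hxq₀
    have hxp : x ∉ p := fun h => hxq₀ ((le_antisymm hq₀p hpq₀) ▸ h)
    refine ⟨⟨hpp, bot_le⟩, ?_⟩
    intro q hq hqp a ha
    obtain ⟨t, ht, hta⟩ := key a ha
    have h0 : t * a * x ∈ q := by rw [hta]; exact q.zero_mem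
    rcases hq.1.mem_or_mem h0 with h1 | h1
    · rcases hq.1.mem_or_mem h1 with h2 | h2
      · exact absurd (hqp h2) ht
      · exact h2
    · exact absurd (hqp h1) hxp
  · intro hp
    refine ⟨1, ?_⟩
    have : (Submodule.span R {(1 : R)}).annihilator = ⊥ := by
      rw [eq_bot_iff]
      intro r hr
      rw [Submodule.mem_annihilator_span_singleton, smul_eq_mul, mul_one] at hr
      exact hr
    rw [this]
    exact hp

end Groth.Agent.S9582
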