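import Groth.Statements.S9583
import Groth.Agent.H48.WeakAss

set_option autoImplicit false
universe u
open CAlg

namespace Groth.Agent.S9583

/-- For a ring R and a short exact sequence 0 → M' → M → M'' → 0 of R-modules, every prime weakly
associated to M' is weakly associated to M, and every prime weakly associated to M is weakly
associated to M' or to M''. -/
theorem result {R : Type u} [CommRing R] {M' M M'' : Type u} [AddCommGroup M'] [Module R M'] [AddCommGroup M] [Module R M] [AddCommGroup M''] [Module R M''] (f : M' →ₗ[R] M) (g : M →ₗ[R] M'') (hf : Function.Injective f) (hg : Function.Surjective g) (hfg : Function.Exact f g) :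
    FlatCA.weakAss R M' ⊆ FlatCA.weakAss R M ∧ FlatCA.weakAss R M ⊆ FlatCA.weakAss R M' ∪ FlatCA.weakAss R M'' := by
  constructor
  · rintro p ⟨m, hm⟩
    refine ⟨f m, ?_⟩
    have : Groth.Agent.H48.annE R (f m) = Groth.Agent.H48.annE R m := by
      ext r
      rw [Groth.Agent.H48.mem_annE, Groth.Agent.H48.mem_annE, ← map_smul, map_eq_zero_iff f hf]
    rw [Groth.Agent.H48.annE] at this
    rw [this]
    exact hm
  · rintro p ⟨m, hm⟩
    have hpp : p.IsPrime := hm.1.1
    by_cases hI : Groth.Agent.H48.annE R (g m) ≤ p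
    · right
      refine ⟨g m, ⟨hpp, hI⟩, ?_⟩
      intro q hq hqp
      apply hm.2 ⟨hq.1, ?_⟩ hqp
      refine le_trans ?_ hq.2
      intro r hr
      rw [Groth.Agent.H48.mem_annE] at hr ⊢
      rw [← map_smul, hr, map_zero]
    · left
      obtain ⟨y, hy, hyp⟩ := SetLike.not_le_iff_exists.mp hI
      rw [Groth.Agent.H48.mem_annE, ← map_smul] at hy
      obtain ⟨m', hm'⟩ := (hfg (y • m)).mp hy
      refine ⟨m', ?_⟩
      have hann : Groth.Agent.H48.annE R m' = Groth.Agent.H48.annE R (y • m) := by
        ext r
        rw [Groth.Agent.H48.mem_annE, Groth.Agent.H48.mem_annE, ← hm', ← map_smul, map_eq_zero_iff f hf]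
      rw [Groth.Agent.H48.annE] at hann
      rw [hann]
      refine ⟨⟨hpp, ?_⟩, ?_⟩
      · intro r hr
        rw [Groth.Agent.H48.mem_annE, smul_smul] at hr
        have : r * y ∈ p := hm.1.2 (Groth.Agent.H48.mem_annE.mpr hr)
        exact (hpp.mem_or_mem this).resolve_right hyp
      · intro q hq hqp
        apply hm.2 ⟨hq.1, ?_⟩ hqp
        refine le_trans ?_ hq.2
        intro r hr
        rw [Groth.Agent.H48.mem_annE] at hr ⊢
        rw [smul_comm, hr, smul_zero]

end Groth.Agent.S9583
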