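import Groth.Statements.S9584
import Groth.Agent.H48.WeakAss

set_option autoImplicit false
universe u
open CAlg

namespace Groth.Agent.S9584

/-- For a ring R and an R-module M, M has no weakly associated prime (no prime minimal over the
annihilator of an element) if and only if M = 0. -/
theorem result {R : Type u} [CommRing R] (M : Type u) [AddCommGroup M] [Module R M] :
    FlatCA.weakAss R M = ∅ ↔ Subsingleton M := by
  constructor
  · intro h
    refine ⟨fun a b => ?_⟩
    by_contra hab
    have hne : Groth.Agent.H48.annE R (a - b) ≠ ⊤ := by
      rw [Ne, Groth.Agent.H48.annE_eq_top_iff]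
      exact sub_ne_zero.mpr hab
    obtain ⟨⟨p, hp⟩⟩ := Ideal.nonempty_minimalPrimes hne
    have : p ∈ FlatCA.weakAss R M := ⟨a - b, hp⟩
    rw [h] at this
    exact this
  · intro h
    ext p
    simp only [Set.mem_empty_iff_false, iff_false]
    rintro ⟨m, hm⟩
    have : Groth.Agent.H48.annE R m = ⊤ := by
      rw [Groth.Agent.H48.annE_eq_top_iff]
      exact Subsingleton.elim _ _
    rw [Groth.Agent.H48.annE] at this
    rw [this, Ideal.minimalPrimes_top] at hm
    exact hm

end Groth.Agent.S9584
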