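import Groth.Statements.S9585
import Groth.Agent.H48.WeakAss

set_option autoImplicit false
universe u
open CAlg

namespace Groth.Agent.S9585

/-- For a ring R and an R-module M, an element of R lies in some weakly associated prime of M exactly
when multiplication by it on M is not injective; in other words the union of the weakly associated
primes of M equals the set of zerodivisors on M. -/
theorem result {R : Type u} [CommRing R] (M : Type u) [AddCommGroup M] [Module R M] :
    ⋃ q ∈ FlatCA.weakAss R M, (q : Set R) = {f : R | ¬ IsSMulRegular M f} := by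
  ext f
  simp only [Set.mem_iUnion, SetLike.mem_coe, Set.mem_setOf_eq, exists_prop]
  constructor
  · rintro ⟨q, ⟨m, hm⟩, hfq⟩
    obtain ⟨y, hy, hfy⟩ := Ideal.exists_mul_mem_of_mem_minimalPrimes hm hfq
    rw [Groth.Agent.H48.mem_annE] at hy hfy
    intro hreg
    apply hy
    apply hreg
    simp only [smul_zero]
    rw [← hfy, mul_smul]
  · intro hf
    have : ¬ Function.Injective (fun m : M => f • m) := hf
    rw [Function.Injective] at this
    push_neg at this
    obtain ⟨a, b, hab, hne⟩ := this
    have hm : f • (a - b) = 0 := by
      rw [smul_sub]; exact sub_eq_zero.mpr hab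
    have hne' : Groth.Agent.H48.annE R (a - b) ≠ ⊤ := by
      rw [Ne, Groth.Agent.H48.annE_eq_top_iff]
      exact sub_ne_zero.mpr hne
    obtain ⟨⟨p, hp⟩⟩ := Ideal.nonempty_minimalPrimes hne'
    exact ⟨p, ⟨a - b, hp⟩, hp.1.2 (Groth.Agent.H48.mem_annE.mpr hm)⟩

end Groth.Agent.S9585
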