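import Groth.Statements.S9591
import Groth.Agent.H48.WeakAss

set_option autoImplicit false
universe u
open CAlg

namespace Groth.Agent.S9591

/-- For a ring R and an R-module M, the map from M to the product of the localizations M_p over all
primes p weakly associated to M is injective: an element vanishing in every such M_p is zero. -/
theorem result {R : Type u} [CommRing R] {M : Type u} [AddCommGroup M] [Module R M] (x : M) (hx : ∀ (p : Ideal R) [p.IsPrime], p ∈ FlatCA.weakAss R M → LocalizedModule.mkLinearMap p.primeCompl M x = 0) :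
    x = 0 := by
  by_contra hx0
  have hne : Groth.Agent.H48.annE R x ≠ ⊤ := by
    rw [Ne, Groth.Agent.H48.annE_eq_top_iff]
    exact hx0
  obtain ⟨⟨p, hp⟩⟩ := Ideal.nonempty_minimalPrimes hne
  haveI : p.IsPrime := hp.1.1
  have h1 := hx p ⟨x, hp⟩
  rw [LocalizedModule.mkLinearMap_apply, ← LocalizedModule.zero_mk (1 : p.primeCompl),
    LocalizedModule.mk_eq] at h1
  obtain ⟨u, hu⟩ := h1
  simp only [one_smul, smul_zero] at hu
  apply u.2
  apply hp.1.2
  rw [Groth.Agent.H48.mem_annE]
  exact hu

end Groth.Agent.S9591
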