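import Groth.Statements.S9596
import Mathlib

set_option autoImplicit false
universe u
open CAlg

namespace Groth.Agent.S9596

/-- For a Noetherian ring R and any R-module M, a prime which is minimal among the primes in the support
of M is an associated prime of M. -/
theorem result {R : Type u} [CommRing R] [IsNoetherianRing R] (M : Type u) [AddCommGroup M] [Module R M] (p : PrimeSpectrum R) (hp : Minimal (fun q : PrimeSpectrum R => q ∈ Module.support R M) p) :
    p.asIdeal ∈ associatedPrimes R M := by
  obtain ⟨m, hm⟩ := (Module.mem_support_iff_exists_annihilator).mp hp.1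
  have hmin : p.asIdeal ∈ ((Submodule.span R {m}).annihilator).minimalPrimes := by
    refine ⟨⟨p.2, hm⟩, ?_⟩
    intro q hq hqp
    have hq' : (⟨q, hq.1⟩ : PrimeSpectrum R) ∈ Module.support R M :=
      (Module.mem_support_iff_exists_annihilator).mpr ⟨m, hq.2⟩
    have := hp.2 hq' hqp
    exact this
  rw [← Submodule.bot_colon'] at hmin
  obtain ⟨x', hx'⟩ := Submodule.exists_eq_colon_of_mem_minimalPrimes hmin
  rw [AssociatedPrimes.mem_iff, isAssociatedPrime_iff]
  exact ⟨p.2, x', hx'⟩

end Groth.Agent.S9596
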