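import Groth.Statements.S9597
import Mathlib

set_option autoImplicit false
universe u
open CAlg

namespace Groth.Agent.S9597

/-- Let R be a Noetherian ring, M a finite R-module whose associated primes are pairwise incomparable
under inclusion (M has no embedded associated primes), and I the annihilator of M. Then the
associated primes of R/I, viewed as a module over itself, are again pairwise incomparable: R/I has
no embedded primes either. -/
theorem result {R : Type u} [CommRing R] [IsNoetherianRing R] (M : Type u) [AddCommGroup M] [Module R M] [Module.Finite R M] (hM : ∀ p ∈ associatedPrimes R M, ∀ q ∈ associatedPrimes R M, p ≤ q → p = q) :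
    ∀ p ∈ associatedPrimes (R ⧸ Module.annihilator R M) (R ⧸ Module.annihilator R M), ∀ q ∈ associatedPrimes (R ⧸ Module.annihilator R M) (R ⧸ Module.annihilator R M), p ≤ q → p = q := by
  classical
  have key : ∀ p ∈ associatedPrimes (R ⧸ Module.annihilator R M) (R ⧸ Module.annihilator R M),
      p.comap (Ideal.Quotient.mk (Module.annihilator R M)) ∈ associatedPrimes R M := by
    intro p hp
    rw [AssociatedPrimes.mem_iff, isAssociatedPrime_iff] at hp
    obtain ⟨hpp, x, hx⟩ := hp
    obtain ⟨r, rfl⟩ := Ideal.Quotient.mk_surjective x
    obtain ⟨s, hs⟩ := (Module.Finite.fg_top : (⊤ : Submodule R M).FG)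
    have hmem : ∀ a : R, a ∈ p.comap (Ideal.Quotient.mk (Module.annihilator R M)) ↔ ∀ m ∈ s, (a * r) • m = 0 := by
      intro a
      rw [Ideal.mem_comap, hx, Submodule.mem_colon_singleton, Submodule.mem_bot, smul_eq_mul, ← map_mul,
        Ideal.Quotient.eq_zero_iff_mem, Module.mem_annihilator]
      constructor
      · intro h m _
        exact h m
      · intro h m
        have hm : m ∈ Submodule.span R (s : Set M) := by rw [hs]; trivial
        induction hm using Submodule.span_induction with
        | mem x hx => exact h x hx
        | zero => simp
        | add x y _ _ hx hy => rw [smul_add, hx, hy, add_zero]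
        | smul c x _ hx => rw [smul_comm, hx, smul_zero]
    have hprime : (p.comap (Ideal.Quotient.mk (Module.annihilator R M))).IsPrime := Ideal.IsPrime.comap _
    have hinf : s.inf (fun m => (⊥ : Submodule R M).colon {r • m}) ≤ p.comap (Ideal.Quotient.mk (Module.annihilator R M)) := by
      intro a ha
      rw [hmem]
      intro m hm
      have := (Finset.inf_le (f := fun m => (⊥ : Submodule R M).colon {r • m}) hm) ha
      rw [Submodule.mem_colon_singleton, Submodule.mem_bot, smul_smul] at this
      exact this
    obtain ⟨m, hm, hle⟩ := (Ideal.IsPrime.inf_le' hprime).mp hinf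
    rw [AssociatedPrimes.mem_iff, isAssociatedPrime_iff]
    refine ⟨hprime, r • m, le_antisymm ?_ hle⟩
    intro a ha
    rw [Submodule.mem_colon_singleton, Submodule.mem_bot, smul_smul]
    exact (hmem a).mp ha m hm
  intro p hp q hq hpq
  have h1 := hM _ (key p hp) _ (key q hq) (Ideal.comap_mono hpq)
  exact Ideal.comap_injective_of_surjective _ Ideal.Quotient.mk_surjective h1

end Groth.Agent.S9597
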