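import Groth.Statements.S9598
import Mathlib

set_option autoImplicit false
universe u
open CAlg

namespace Groth.Agent.S9598

/-- For a field k and a finite type k-algebra S with dim S > 0, some element of S is a nonzerodivisor
and a nonunit. -/
theorem result {k S : Type u} [Field k] [CommRing S] [Algebra k S] [Algebra.FiniteType k S] (hdim : 0 < ringKrullDim S) :
    ∃ f : S, f ∈ nonZeroDivisors S ∧ ¬ IsUnit f := by
  classical
  have : IsNoetherianRing S := Algebra.FiniteType.isNoetherianRing k S
  have : IsJacobsonRing S := isJacobsonRing_of_finiteType (A := k)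
  by_contra hcon
  push Not at hcon
  have hfinAss := associatedPrimes.finite S S
  -- every maximal ideal is an associated prime
  have hmax : ∀ m : Ideal S, m.IsMaximal → m ∈ associatedPrimes S S := by
    intro m hm
    have hsub : (m : Set S) ⊆ ⋃ p ∈ associatedPrimes S S, (p : Set S) := by
      intro f hf
      rw [biUnion_associatedPrimes_eq_compl_nonZeroDivisors]
      intro hnzd
      have hu := hcon f hnzd
      exact hm.ne_top (Ideal.eq_top_of_isUnit_mem _ hf hu)
    have hsub' : (m : Set S) ⊆ ⋃ p ∈ (hfinAss.toFinset : Set (Ideal S)), ((fun p => p) p : Set S) := by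
      simpa using hsub
    rw [Ideal.subset_union_prime (f := fun p => p) ⊥ ⊥] at hsub'
    · obtain ⟨p, hp, hmp⟩ := hsub'
      rw [Set.Finite.mem_toFinset] at hp
      have hpp : p.IsPrime := hp.isPrime
      have : m = p := hm.eq_of_le hpp.ne_top hmp
      rw [this]; exact hp
    · intro p hp _ _
      rw [Set.Finite.mem_toFinset] at hp
      exact hp.isPrime
  have hfin : {m : Ideal S | m.IsMaximal}.Finite := hfinAss.subset hmax
  -- a non-maximal prime
  have hnot : ¬ Ring.KrullDimLE 0 S := by
    intro h
    rw [Ring.KrullDimLE, Order.krullDimLE_iff] at h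
    have : ringKrullDim S ≤ 0 := by simpa [ringKrullDim] using h
    exact absurd hdim (not_lt.mpr this)
  rw [Ring.krullDimLE_zero_iff] at hnot
  push Not at hnot
  obtain ⟨p, hp, hpm⟩ := hnot
  have hj : p.jacobson = p := IsJacobsonRing.out' p hp.isRadical
  have hfin' : {m : Ideal S | p ≤ m ∧ m.IsMaximal}.Finite := hfin.subset (fun m hm => hm.2)
  have hle : hfin'.toFinset.inf (fun m => m) ≤ p := by
    intro x hx
    rw [← hj]
    rw [Ideal.jacobson, Ideal.mem_sInf]
    intro m hm
    have : m ∈ hfin'.toFinset := by rw [Set.Finite.mem_toFinset]; exact hm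
    exact (Finset.inf_le (f := fun m => m) this) hx
  obtain ⟨m, hm, hmp⟩ := (Ideal.IsPrime.inf_le' hp).mp hle
  rw [Set.Finite.mem_toFinset] at hm
  have : p = m := le_antisymm hm.1 hmp
  exact hpm (this ▸ hm.2)

end Groth.Agent.S9598
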