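import Groth.Statements.S9600
import Groth.Agent.H48.AdicExact

set_option autoImplicit false
universe u
open CAlg

namespace Groth.Agent.S9600

/-- Let R be a ring, I an ideal of R and 0 → M → N → Q → 0 a short exact sequence of R-modules in which
Q is killed by some power I^c of I. Then on I-adic completions the map M^ → N^ is injective, N^ → Q^
is surjective with kernel equal to the image of M^, and the canonical map Q → Q^ is bijective; so 0
→ M^ → N^ → Q → 0 is again short exact. -/
theorem result {R : Type u} [CommRing R] (I : Ideal R) {M N Q : Type u} [AddCommGroup M] [Module R M] [AddCommGroup N] [Module R N] [AddCommGroup Q] [Module R Q] (i : M →ₗ[R] N) (g : N →ₗ[R] Q) (hi : Function.Injective i) (hg : Function.Surjective g) (hig : Function.Exact i g) (c : ℕ) (hc : ∀ x ∈ I ^ c, ∀ q : Q, x • q = 0) :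
    Function.Injective (AdicCompletion.map I i) ∧ Function.Exact (AdicCompletion.map I i) (AdicCompletion.map I g) ∧ Function.Surjective (AdicCompletion.map I g) ∧ Function.Bijective (AdicCompletion.of I Q) := by
  have hbot : (I ^ c • ⊤ : Submodule R Q) = ⊥ := by
    rw [eq_bot_iff, Submodule.smul_le]
    intro r hr q _
    rw [Submodule.mem_bot]
    exact hc r hr q
  have hrange : (I ^ c • ⊤ : Submodule R N) ≤ LinearMap.range i := by
    rw [Submodule.smul_le]
    intro r hr y _
    rw [← hig.linearMap_ker_eq, LinearMap.mem_ker, map_smul]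
    exact hc r hr (g y)
  have hk : ∀ (n : ℕ) (x : M), i x ∈ (I ^ (n + c) • ⊤ : Submodule R N) → x ∈ (I ^ n • ⊤ : Submodule R M) := by
    intro n x hx
    rw [pow_add, mul_smul] at hx
    have h1 : (I ^ n • I ^ c • ⊤ : Submodule R N) ≤ Submodule.map i (I ^ n • ⊤ : Submodule R M) := by
      rw [Submodule.map_smul'', Submodule.map_top]
      exact smul_mono_right _ hrange
    obtain ⟨x', hx', hxx'⟩ := h1 hx
    rwa [← hi hxx']
  refine ⟨Groth.Agent.H48.adicMap_injective_of_strict I i c hk,
    Groth.Agent.H48.adicMap_exact_of_strict I i g hg hig c hk,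
    AdicCompletion.map_surjective I hg, ?_⟩
  rw [AdicCompletion.of_bijective_iff]
  have hH : IsHausdorff I Q := by
    refine ⟨fun x hx => ?_⟩
    have := hx c
    rw [SModEq.zero, hbot, Submodule.mem_bot] at this
    exact this
  have hP : IsPrecomplete I Q := by
    refine ⟨fun {f} hf => ⟨f c, fun n => ?_⟩⟩
    rcases le_total n c with h | h
    · exact hf h
    · have := hf h
      rw [SModEq.sub_mem, hbot, Submodule.mem_bot, sub_eq_zero] at this
      rw [this]
  exact { toIsHausdorff := hH, toIsPrecomplete := hP }

end Groth.Agent.S9600
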