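import Groth.Statements.S9602
import Groth.Agent.H48.AdicComplete

set_option autoImplicit false
universe u
open CAlg

namespace Groth.Agent.S9602

/-- Let R be a ring, I an ideal of R and R^ = lim R/Iⁿ the I-adic completion. An element of R^ whose
image in R/I is invertible is itself invertible in R^; and the kernel of R^ → R/I as well as the
extended ideal I R^ both lie inside the Jacobson radical of R^. -/
theorem result {R : Type u} [CommRing R] (I : Ideal R) :
    (∀ x : AdicCompletion I R, IsUnit (AdicCompletion.evalOneₐ I x) → IsUnit x) ∧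
      RingHom.ker (AdicCompletion.evalOneₐ I).toRingHom ≤ (⊥ : Ideal (AdicCompletion I R)).jacobson ∧
      I.map (algebraMap R (AdicCompletion I R)) ≤ (⊥ : Ideal (AdicCompletion I R)).jacobson := by
  have h1 : ∀ x : AdicCompletion I R, IsUnit (AdicCompletion.evalOneₐ I x) → IsUnit x :=
    Groth.Agent.H48.isUnit_adicCompletion_of_isUnit_evalOne I
  have h2 : RingHom.ker (AdicCompletion.evalOneₐ I).toRingHom ≤ (⊥ : Ideal (AdicCompletion I R)).jacobson := by
    intro y hy
    rw [Ideal.mem_jacobson_bot]
    intro z
    apply h1
    have hy0 : AdicCompletion.evalOneₐ I y = 0 := hy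
    rw [map_add, map_mul, hy0, zero_mul, zero_add, map_one]
    exact isUnit_one
  refine ⟨h1, h2, ?_⟩
  refine le_trans ?_ h2
  rw [Ideal.map_le_iff_le_comap]
  intro r hr
  rw [Ideal.mem_comap, RingHom.mem_ker]
  have : (AdicCompletion.evalOneₐ I).toRingHom (algebraMap R (AdicCompletion I R) r) = Ideal.Quotient.mk I r := by
    have := AdicCompletion.evalOneₐ_comp_algebraMap_eq_mk I
    exact congrArg (fun f => f r) this
  rw [this]
  exact Ideal.Quotient.eq_zero_iff_mem.mpr hr

end Groth.Agent.S9602
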