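import Groth.Statements.S9605
import Mathlib

set_option autoImplicit false
universe u
open CAlg

namespace Groth.Agent.S9605

/-- For a ring R, an ideal I of R, an I-adically complete R-module M and a submodule K of M, the
quotient M/K is I-adically complete if and only if K = ⋂ₙ (K + IⁿM). -/
theorem result {R : Type u} [CommRing R] (I : Ideal R) (M : Type u) [AddCommGroup M] [Module R M] [IsAdicComplete I M] (K : Submodule R M) :
    IsAdicComplete I (M ⧸ K) ↔ K = ⨅ n : ℕ, K ⊔ I ^ n • (⊤ : Submodule R M) := by
  have hP : IsPrecomplete I (M ⧸ K) := by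
    rw [← AdicCompletion.of_surjective_iff]
    intro y
    obtain ⟨z, hz⟩ := AdicCompletion.map_surjective I (Submodule.mkQ_surjective K) y
    obtain ⟨m, hm⟩ := AdicCompletion.of_surjective I M z
    refine ⟨K.mkQ m, ?_⟩
    rw [← AdicCompletion.map_of, hm, hz]
  have hmap : ∀ n : ℕ, Submodule.map K.mkQ (I ^ n • ⊤ : Submodule R M) = (I ^ n • ⊤ : Submodule R (M ⧸ K)) := by
    intro n
    rw [Submodule.map_smul'', Submodule.map_top, LinearMap.range_eq_top.mpr (Submodule.mkQ_surjective K)]
  have hmem : ∀ (n : ℕ) (x : M), K.mkQ x ∈ (I ^ n • ⊤ : Submodule R (M ⧸ K)) ↔ x ∈ K ⊔ I ^ n • ⊤ := by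
    intro n x
    rw [← hmap n]
    constructor
    · rintro ⟨y, hy, hxy⟩
      have : x - y ∈ K := by
        rw [← Submodule.Quotient.mk_eq_zero, Submodule.Quotient.mk_sub, sub_eq_zero]
        exact hxy.symm
      have e : x = (x - y) + y := by abel
      rw [e]
      exact Submodule.add_mem_sup this hy
    · intro hx
      obtain ⟨k, hk, y, hy, rfl⟩ := Submodule.mem_sup.mp hx
      refine ⟨y, hy, ?_⟩
      rw [map_add, Submodule.mkQ_apply, Submodule.mkQ_apply, (Submodule.Quotient.mk_eq_zero K).mpr hk, zero_add]
  constructor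
  · intro h
    apply le_antisymm
    · exact le_iInf (fun n => le_sup_left)
    · intro x hx
      rw [Submodule.mem_iInf] at hx
      rw [← Submodule.Quotient.mk_eq_zero]
      apply h.toIsHausdorff.haus
      intro n
      rw [SModEq.zero]
      exact (hmem n x).mpr (hx n)
  · intro h
    have hH : IsHausdorff I (M ⧸ K) := by
      refine ⟨fun x hx => ?_⟩
      obtain ⟨m, rfl⟩ := Submodule.Quotient.mk_surjective K x
      rw [Submodule.Quotient.mk_eq_zero, h, Submodule.mem_iInf]
      intro n
      have := hx n
      rw [SModEq.zero] at this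
      exact (hmem n m).mp this
    exact { toIsHausdorff := hH, toIsPrecomplete := hP }

end Groth.Agent.S9605
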