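import Groth.Statements.S9607
import Mathlib

set_option autoImplicit false
universe u
open CAlg

namespace Groth.Agent.S9607

/-- For a prime number p and integers n, m > 0 there exists an integer a such that (x + y)^(p^a) and p^a
(x + y) both belong to the subring ℤ[x^(p^n), p^n x, y^(p^m), p^m y] of the polynomial ring ℤ[x, y]. -/
theorem result (p : ℕ) (hp : p.Prime) (n m : ℕ) (hn : 0 < n) (hm : 0 < m) :
    ∃ a : ℕ, ((MvPolynomial.X 0 + MvPolynomial.X 1 : MvPolynomial (Fin 2) ℤ) ^ (p ^ a) ∈ Algebra.adjoin ℤ ({MvPolynomial.X 0 ^ (p ^ n), (p : MvPolynomial (Fin 2) ℤ) ^ n * MvPolynomial.X 0, MvPolynomial.X 1 ^ (p ^ m), (p : MvPolynomial (Fin 2) ℤ) ^ m * MvPolynomial.X 1} : Set (MvPolynomial (Fin 2) ℤ)) ∧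
      (p : MvPolynomial (Fin 2) ℤ) ^ a * (MvPolynomial.X 0 + MvPolynomial.X 1) ∈ Algebra.adjoin ℤ ({MvPolynomial.X 0 ^ (p ^ n), (p : MvPolynomial (Fin 2) ℤ) ^ n * MvPolynomial.X 0, MvPolynomial.X 1 ^ (p ^ m), (p : MvPolynomial (Fin 2) ℤ) ^ m * MvPolynomial.X 1} : Set (MvPolynomial (Fin 2) ℤ))) := by
  classical
  set X : MvPolynomial (Fin 2) ℤ := MvPolynomial.X 0 with hX
  set Y : MvPolynomial (Fin 2) ℤ := MvPolynomial.X 1 with hY
  set B := Algebra.adjoin ℤ ({X ^ (p ^ n), (p : MvPolynomial (Fin 2) ℤ) ^ n * X, Y ^ (p ^ m),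
    (p : MvPolynomial (Fin 2) ℤ) ^ m * Y} : Set (MvPolynomial (Fin 2) ℤ)) with hB
  have h1 : X ^ (p ^ n) ∈ B := Algebra.subset_adjoin (by simp)
  have h2 : (p : MvPolynomial (Fin 2) ℤ) ^ n * X ∈ B := Algebra.subset_adjoin (by simp)
  have h3 : Y ^ (p ^ m) ∈ B := Algebra.subset_adjoin (by simp)
  have h4 : (p : MvPolynomial (Fin 2) ℤ) ^ m * Y ∈ B := Algebra.subset_adjoin (by simp)
  have hP : (p : MvPolynomial (Fin 2) ℤ) ∈ B := natCast_mem B p
  have hppos : 0 < p := hp.pos
  set a := n * p ^ n + m * p ^ m + n + m with ha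
  have hna : n ≤ a := by omega
  have hma : m ≤ a := by omega
  refine ⟨a, ?_, ?_⟩
  · rw [add_pow]
    refine Subalgebra.sum_mem _ fun i hi => ?_
    have hile : i ≤ p ^ a := Nat.lt_succ_iff.mp (Finset.mem_range.mp hi)
    set j := p ^ a - i with hj
    have hij : i + j = p ^ a := by omega
    have hpn : 0 < p ^ n := pow_pos hppos n
    have hpm : 0 < p ^ m := pow_pos hppos m
    have hr : i % p ^ n < p ^ n := Nat.mod_lt _ hpn
    have hr' : j % p ^ m < p ^ m := Nat.mod_lt _ hpm
    -- divisibility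
    have hdvd : p ^ (n * (i % p ^ n) + m * (j % p ^ m)) ∣ (p ^ a).choose i := by
      by_cases h00 : i % p ^ n = 0 ∧ j % p ^ m = 0
      · rw [h00.1, h00.2]; simp
      · have hbound : n * (i % p ^ n) + m * (j % p ^ m) ≤ n * p ^ n + m * p ^ m :=
          Nat.add_le_add (Nat.mul_le_mul_left _ hr.le) (Nat.mul_le_mul_left _ hr'.le)
        have hpna : p ^ n ∣ p ^ a := pow_dvd_pow p hna
        have hpma : p ^ m ∣ p ^ a := pow_dvd_pow p hma
        have hi0 : i ≠ 0 := by
          rintro rfl
          apply h00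
          refine ⟨Nat.zero_mod _, ?_⟩
          have : j = p ^ a := by omega
          rw [this]
          exact Nat.mod_eq_zero_of_dvd hpma
        have hj0 : j ≠ 0 := by
          intro hj0
          apply h00
          have : i = p ^ a := by omega
          refine ⟨?_, ?_⟩
          · rw [this]; exact Nat.mod_eq_zero_of_dvd hpna
          · rw [hj0]; exact Nat.zero_mod _
        have hjle : j ≤ p ^ a := Nat.sub_le _ _
        have hch0 : (p ^ a).choose i ≠ 0 := (Nat.choose_pos hile).ne'
        have e1 := Nat.factorization_choose_prime_pow_add_factorization hp hile hi0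
        have e2 := Nat.factorization_choose_prime_pow_add_factorization hp hjle hj0
        have hsymm : (p ^ a).choose j = (p ^ a).choose i := by
          rw [hj]; exact Nat.choose_symm hile
        rw [hsymm] at e2
        rw [hp.pow_dvd_iff_le_factorization hch0]
        by_cases hri : i % p ^ n = 0
        · have hrj : j % p ^ m ≠ 0 := fun h => h00 ⟨hri, h⟩
          have hlt : j.factorization p < m := by
            by_contra hge
            push Not at hge
            have : p ^ m ∣ j := (hp.pow_dvd_iff_le_factorization hj0).mpr hge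
            exact hrj (Nat.mod_eq_zero_of_dvd this)
          omega
        · have hlt : i.factorization p < n := by
            by_contra hge
            push Not at hge
            have : p ^ n ∣ i := (hp.pow_dvd_iff_le_factorization hi0).mpr hge
            exact hri (Nat.mod_eq_zero_of_dvd this)
          omega
    obtain ⟨c, hc⟩ := hdvd
    have hidec : i = p ^ n * (i / p ^ n) + i % p ^ n := (Nat.div_add_mod i (p ^ n)).symm
    have hjdec : j = p ^ m * (j / p ^ m) + j % p ^ m := (Nat.div_add_mod j (p ^ m)).symm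
    have hterm : ∀ (q r q' r' : ℕ), i = p ^ n * q + r → j = p ^ m * q' + r' →
        (p ^ a).choose i = p ^ (n * r + m * r') * c →
        X ^ i * Y ^ j * ((p ^ a).choose i : MvPolynomial (Fin 2) ℤ) =
        (X ^ (p ^ n)) ^ q * ((p : MvPolynomial (Fin 2) ℤ) ^ n * X) ^ r *
          (Y ^ (p ^ m)) ^ q' * ((p : MvPolynomial (Fin 2) ℤ) ^ m * Y) ^ r' *
          (c : MvPolynomial (Fin 2) ℤ) := by
      intro q r q' r' e1 e2 e3
      rw [e3, e1, e2]
      push_cast
      ring
    rw [hterm _ _ _ _ hidec hjdec hc]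
    exact B.mul_mem (B.mul_mem (B.mul_mem (B.mul_mem (B.pow_mem h1 _) (B.pow_mem h2 _))
      (B.pow_mem h3 _)) (B.pow_mem h4 _)) (natCast_mem B c)
  · have : (p : MvPolynomial (Fin 2) ℤ) ^ a * (X + Y) =
        (p : MvPolynomial (Fin 2) ℤ) ^ (a - n) * ((p : MvPolynomial (Fin 2) ℤ) ^ n * X) +
          (p : MvPolynomial (Fin 2) ℤ) ^ (a - m) * ((p : MvPolynomial (Fin 2) ℤ) ^ m * Y) := by
      rw [← mul_assoc, ← mul_assoc, ← pow_add, ← pow_add, Nat.sub_add_cancel hna,
        Nat.sub_add_cancel hma, mul_add]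
    rw [this]
    exact B.add_mem (B.mul_mem (B.pow_mem hP _) h2) (B.mul_mem (B.pow_mem hP _) h4)

end Groth.Agent.S9607
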