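import Groth.Statements.S9608
import Mathlib

set_option autoImplicit false
universe u
open CAlg

namespace Groth.Agent.S9608

/-- Let k'/k be a field extension and p a prime number. Then k' is generated over k by elements x for
which some n > 0 has x^(p^n) ∈ k and p^n x ∈ k, if and only if either k' = k, or k has
characteristic p and k'/k is purely inseparable. -/
theorem result {k k' : Type u} [Field k] [Field k'] [Algebra k k'] (p : ℕ) (hp : p.Prime) :
    IntermediateField.adjoin k {x : k' | ∃ n : ℕ, 0 < n ∧ x ^ (p ^ n) ∈ Set.range (algebraMap k k') ∧ (p : k') ^ n * x ∈ Set.range (algebraMap k k')} = ⊤ ↔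
      (Function.Surjective (algebraMap k k') ∨ (CharP k p ∧ IsPurelyInseparable k k')) := by
  constructor
  · intro h
    by_cases hpk : (p : k) = 0
    · right
      have hchar : CharP k p := by
        have h1 : ringChar k ∣ p := (ringChar.spec k p).mp hpk
        rcases (Nat.dvd_prime hp).mp h1 with h2 | h2
        · exfalso
          have := CharP.ringChar_ne_one (R := k)
          exact this h2
        · rw [← h2]; exact ringChar.charP k
      refine ⟨hchar, ?_⟩
      have := hchar
      have : ExpChar k p := ExpChar.prime hp
      rw [isPurelyInseparable_iff_perfectClosure_eq_top, eq_top_iff, ← h, IntermediateField.adjoin_le_iff]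
      rintro x ⟨n, _, hx, _⟩
      rw [SetLike.mem_coe, mem_perfectClosure_iff_pow_mem p]
      exact ⟨n, hx⟩
    · left
      have hsub : IntermediateField.adjoin k {x : k' | ∃ n : ℕ, 0 < n ∧ x ^ (p ^ n) ∈ Set.range (algebraMap k k') ∧ (p : k') ^ n * x ∈ Set.range (algebraMap k k')} ≤ ⊥ := by
        rw [IntermediateField.adjoin_le_iff]
        rintro x ⟨n, _, _, ⟨y, hy⟩⟩
        rw [SetLike.mem_coe, IntermediateField.mem_bot]
        refine ⟨y / (p : k) ^ n, ?_⟩
        rw [map_div₀, hy, map_pow, map_natCast]
        have : (p : k') ≠ 0 := by
          intro h0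
          apply hpk
          apply (algebraMap k k').injective
          rw [map_natCast, h0, map_zero]
        field_simp
      rw [h] at hsub
      intro x
      have : x ∈ (⊥ : IntermediateField k k') := hsub (IntermediateField.mem_top)
      rw [IntermediateField.mem_bot] at this
      exact this
  · rintro (h | ⟨hchar, hpi⟩)
    · rw [eq_top_iff]
      intro x _
      obtain ⟨y, rfl⟩ := h x
      exact IntermediateField.algebraMap_mem _ y
    · have := hchar
      have : ExpChar k p := ExpChar.prime hp
      have : CharP k' p := charP_of_injective_algebraMap (algebraMap k k').injective p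
      rw [eq_top_iff]
      intro x _
      apply IntermediateField.subset_adjoin
      obtain ⟨n, hn⟩ := IsPurelyInseparable.pow_mem k p x
      refine ⟨n + 1, Nat.succ_pos n, ?_, ?_⟩
      · obtain ⟨y, hy⟩ := hn
        refine ⟨y ^ p, ?_⟩
        rw [map_pow, hy, pow_succ, pow_mul]
      · refine ⟨0, ?_⟩
        rw [map_zero, CharP.cast_eq_zero k' p, zero_pow (Nat.succ_ne_zero n), zero_mul]

end Groth.Agent.S9608
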