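import Groth.Statements.S9610
import Mathlib

set_option autoImplicit false
universe u
open CAlg

namespace Groth.Agent.S9610

/-- Let k be a field and V a nonzero k-vector space with dim_k V < #k as cardinals. Then every k-linear
endomorphism T of V admits a monic polynomial P over k for which P(T) is not invertible. -/
theorem result {k V : Type u} [Field k] [AddCommGroup V] [Module k V] [Nontrivial V] (hV : Module.rank k V < Cardinal.mk k) (T : Module.End k V) :
    ∃ P : Polynomial k, P.Monic ∧ ¬ IsUnit (Polynomial.aeval T P) := by
  classical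
  by_contra hcon
  push Not at hcon
  obtain ⟨v, hv⟩ := exists_ne (0 : V)
  -- units T - a
  have hu : ∀ a : k, IsUnit (Polynomial.aeval T (Polynomial.X - Polynomial.C a)) :=
    fun a => hcon _ (Polynomial.monic_X_sub_C a)
  let w : k → V := fun a => ((hu a).unit⁻¹ : (Module.End k V)ˣ).1 v
  have hw : ∀ a, Polynomial.aeval T (Polynomial.X - Polynomial.C a) (w a) = v := by
    intro a
    show ((hu a).unit : Module.End k V) ((((hu a).unit⁻¹ : (Module.End k V)ˣ) : Module.End k V) v) = v
    rw [← Module.End.mul_apply, Units.mul_inv, Module.End.one_apply]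
  have hli : LinearIndependent k w := by
    rw [linearIndependent_iff']
    intro s c hsum a₀ ha₀
    let Q : Polynomial k := ∑ a ∈ s, Polynomial.C (c a) * ∏ b ∈ s.erase a, (Polynomial.X - Polynomial.C b)
    have hprod : ∀ a ∈ s, Polynomial.aeval T (∏ b ∈ s.erase a, (Polynomial.X - Polynomial.C b)) v =
        Polynomial.aeval T (∏ b ∈ s, (Polynomial.X - Polynomial.C b)) (w a) := by
      intro a ha
      rw [← Finset.mul_prod_erase s _ ha, mul_comm, map_mul, Module.End.mul_apply, hw a]
    have hQv : Polynomial.aeval T Q v = 0 := by
      show Polynomial.aeval T (∑ a ∈ s, Polynomial.C (c a) * ∏ b ∈ s.erase a, (Polynomial.X - Polynomial.C b)) v = 0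
      rw [map_sum, LinearMap.sum_apply]
      have : ∀ a ∈ s, Polynomial.aeval T (Polynomial.C (c a) * ∏ b ∈ s.erase a, (Polynomial.X - Polynomial.C b)) v =
          Polynomial.aeval T (∏ b ∈ s, (Polynomial.X - Polynomial.C b)) (c a • w a) := by
        intro a ha
        rw [map_mul, Polynomial.aeval_C, Module.End.mul_apply, hprod a ha, Module.algebraMap_end_apply, map_smul]
      rw [Finset.sum_congr rfl this, ← map_sum, hsum, map_zero]
    have hQ0 : Q = 0 := by
      by_contra hQ
      have hmonic := Polynomial.monic_mul_leadingCoeff_inv hQ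
      have hunit := hcon _ hmonic
      have h1 : Polynomial.aeval T (Q * Polynomial.C Q.leadingCoeff⁻¹) v = 0 := by
        rw [mul_comm, map_mul, Module.End.mul_apply, hQv, map_zero]
      have h2 : v = 0 := by
        have := congrArg (fun x => ((hunit.unit⁻¹ : (Module.End k V)ˣ) : Module.End k V) x) h1
        simp only [map_zero] at this
        rw [← Module.End.mul_apply] at this
        rw [show ((hunit.unit⁻¹ : (Module.End k V)ˣ) : Module.End k V) * Polynomial.aeval T (Q * Polynomial.C Q.leadingCoeff⁻¹) = 1 from by
          have := Units.inv_mul hunit.unit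
          exact this] at this
        exact this
      exact hv h2
    have heval : Polynomial.eval a₀ Q = c a₀ * ∏ b ∈ s.erase a₀, (a₀ - b) := by
      show Polynomial.eval a₀ (∑ a ∈ s, Polynomial.C (c a) * ∏ b ∈ s.erase a, (Polynomial.X - Polynomial.C b)) = _
      rw [Polynomial.eval_finsetSum, Finset.sum_eq_single a₀]
      · simp [Polynomial.eval_prod]
      · intro a ha hne
        rw [Polynomial.eval_mul, Polynomial.eval_prod]
        have : ∏ b ∈ s.erase a, Polynomial.eval a₀ (Polynomial.X - Polynomial.C b) = 0 := by
          apply Finset.prod_eq_zero (Finset.mem_erase.mpr ⟨hne.symm, ha₀⟩)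
          simp
        rw [this, mul_zero]
      · intro h; exact absurd ha₀ h
    rw [hQ0, Polynomial.eval_zero] at heval
    have hne : ∏ b ∈ s.erase a₀, (a₀ - b) ≠ 0 := by
      rw [Finset.prod_ne_zero_iff]
      intro b hb
      exact sub_ne_zero.mpr (Finset.ne_of_mem_erase hb).symm
    rcases mul_eq_zero.mp heval.symm with h | h
    · exact h
    · exact absurd h hne
  have := hli.cardinal_le_rank
  exact absurd hV (not_lt.mpr this)

end Groth.Agent.S9610
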