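import Groth.Statements.S9611
import Mathlib

set_option autoImplicit false
universe u
open CAlg

namespace Groth.Agent.S9611

/-- Let R be a Jacobson ring, p a prime ideal of R which is not maximal, and f an element of R not in p.
Then the set of primes of R containing p and not containing f is infinite. -/
theorem result {R : Type u} [CommRing R] [IsJacobsonRing R] (p : Ideal R) [p.IsPrime] (hp : ¬ p.IsMaximal) (f : R) (hf : f ∉ p) :
    {q : PrimeSpectrum R | p ≤ q.asIdeal ∧ f ∉ q.asIdeal}.Infinite := by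
  classical
  intro hfin
  -- for each q in the finite set different from p choose g_q ∈ q \ p
  have hex : ∀ q : PrimeSpectrum R, ∃ g : R, (p ≤ q.asIdeal ∧ q.asIdeal ≠ p → g ∈ q.asIdeal) ∧ g ∉ p := by
    intro q
    by_cases hq : p ≤ q.asIdeal ∧ q.asIdeal ≠ p
    · have : ¬ q.asIdeal ≤ p := fun h => hq.2 (le_antisymm h hq.1)
      obtain ⟨g, hg, hgp⟩ := SetLike.not_le_iff_exists.mp this
      exact ⟨g, fun _ => hg, hgp⟩
    · exact ⟨1, fun h => absurd h hq, fun h => (inferInstance : p.IsPrime).ne_top ((Ideal.eq_top_iff_one p).mpr h)⟩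
  choose g hg hgp using hex
  let G : R := f * ∏ q ∈ hfin.toFinset, g q
  have hGp : G ∉ p := by
    intro h
    rcases (inferInstance : p.IsPrime).mem_or_mem h with h1 | h1
    · exact hf h1
    · rw [Ideal.IsPrime.prod_mem_iff] at h1
      obtain ⟨q, _, hq⟩ := h1
      exact hgp q hq
  have hj : p.jacobson = p := IsJacobsonRing.out' p (inferInstance : p.IsPrime).isRadical
  have hGj : G ∉ p.jacobson := by rw [hj]; exact hGp
  rw [Ideal.jacobson, Ideal.mem_sInf] at hGj
  push Not at hGj
  obtain ⟨m, ⟨hpm, hm⟩, hGm⟩ := hGj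
  have hfm : f ∉ m := fun h => hGm (Ideal.mul_mem_right _ _ h)
  let qm : PrimeSpectrum R := ⟨m, hm.isPrime⟩
  have hqmF : qm ∈ hfin.toFinset := by
    rw [Set.Finite.mem_toFinset]
    exact ⟨hpm, hfm⟩
  have hne : qm.asIdeal ≠ p := by
    intro h
    apply hp
    rw [← h]
    exact hm
  have hgm : g qm ∈ m := hg qm ⟨hpm, hne⟩
  apply hGm
  apply Ideal.mul_mem_left
  obtain ⟨u, hu⟩ := Finset.dvd_prod_of_mem g hqmF
  rw [hu]
  exact Ideal.mul_mem_right _ _ hgm

end Groth.Agent.S9611
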