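import Groth.Statements.S9612
import Mathlib

set_option autoImplicit false
universe u
open CAlg

namespace Groth.Agent.S9612

/-- A finite type ℤ-algebra is a Jacobson ring. -/
theorem result {S : Type u} [CommRing S] [Algebra.FiniteType ℤ S] :
    IsJacobsonRing S := by
  have hZ : IsJacobsonRing ℤ := by
    rw [isJacobsonRing_iff_prime_eq]
    intro P hP
    by_cases h0 : P = ⊥
    · subst h0
      rw [eq_bot_iff]
      intro x hx
      rw [Ideal.mem_jacobson_bot] at hx
      have h1 := hx (2 * x)
      rw [Int.isUnit_iff] at h1
      rw [Ideal.mem_bot]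
      rcases h1 with h1 | h1
      · nlinarith [sq_nonneg x]
      · nlinarith [sq_nonneg x]
    · have : P.IsMaximal := hP.isMaximal h0
      exact Ideal.jacobson_eq_self_of_isMaximal
  exact isJacobsonRing_of_finiteType (A := ℤ)

end Groth.Agent.S9612
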