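import Groth.Statements.S9613
import Mathlib

set_option autoImplicit false
universe u
open CAlg

namespace Groth.Agent.S9613

/-- Let R → K be an injective ring map into a field K which makes K an R-algebra of finite type. Then
for some nonzero f ∈ R the localization R_f is a field over which K is finite; here R_f is realised
as the R-subalgebra of K that is a localization of R away from f. -/
theorem result {R K : Type u} [CommRing R] [Field K] [Algebra R K] (hinj : Function.Injective (algebraMap R K)) [Algebra.FiniteType R K] :
    ∃ f : R, f ≠ 0 ∧ ∃ Rf : Subalgebra R K, IsLocalization.Away f Rf ∧ IsField Rf ∧ Module.Finite Rf K := by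
  classical
  have : IsDomain R := hinj.isDomain _
  let algFK : Algebra (FractionRing R) K := (IsFractionRing.lift hinj).toAlgebra
  have : IsScalarTower R (FractionRing R) K :=
    IsScalarTower.of_algebraMap_eq (fun x => (IsFractionRing.lift_algebraMap hinj x).symm)
  have : Algebra.FiniteType (FractionRing R) K := Algebra.FiniteType.of_restrictScalars_finiteType R (FractionRing R) K
  have : Module.Finite (FractionRing R) K := finite_of_finite_type_of_isJacobsonRing (FractionRing R) K
  obtain ⟨s, hs⟩ := (Algebra.FiniteType.out : (⊤ : Subalgebra R K).FG)
  have h3 : ∀ x : K, ∃ m : nonZeroDivisors R, IsIntegral R (m • x) := fun x =>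
    IsIntegral.exists_multiple_integral_of_isLocalization (nonZeroDivisors R) x
      (Algebra.IsIntegral.isIntegral (R := FractionRing R) x)
  choose m hm using h3
  let f : R := ∏ x ∈ s, (m x : R)
  have hf0 : f ≠ 0 := by
    rw [Finset.prod_ne_zero_iff]
    intro x _
    exact nonZeroDivisors.ne_zero (m x).2
  have hfx : ∀ x ∈ s, IsIntegral R (f • x) := by
    intro x hx
    obtain ⟨u, hu⟩ := Finset.dvd_prod_of_mem (fun x => (m x : R)) hx
    have : f • x = u • ((m x : R) • x) := by
      show (∏ x ∈ s, (m x : R)) • x = _
      rw [hu, smul_smul, mul_comm]
    rw [this]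
    exact (hm x).smul u
  have hfK : algebraMap R K f ≠ 0 := fun h => hf0 (hinj (by rw [h, map_zero]))
  let φ : Localization.Away f →ₐ[R] K :=
    IsLocalization.liftAlgHom (M := Submonoid.powers f) (f := Algebra.ofId R K) (by
      rintro ⟨_, n, rfl⟩
      rw [Algebra.ofId_apply, map_pow]
      exact (IsUnit.mk0 _ hfK).pow n)
  have hφinj : Function.Injective φ := by
    show Function.Injective (IsLocalization.lift _)
    rw [IsLocalization.lift_injective_iff]
    intro x y
    constructor
    · intro h
      have := congrArg φ h
      simpa using this
    · intro h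
      have : x = y := hinj h
      rw [this]
  have hinv : φ (IsLocalization.Away.invSelf f) * algebraMap R K f = 1 := by
    have h1 : algebraMap R K f = φ (algebraMap R (Localization.Away f) f) := (φ.commutes f).symm
    rw [h1, ← map_mul, mul_comm, IsLocalization.Away.mul_invSelf, map_one]
  have hint : Algebra.IsIntegral φ.range K := by
    have hle : Algebra.adjoin R (s : Set K) ≤ (integralClosure φ.range K).restrictScalars R := by
      apply Algebra.adjoin_le
      intro x hx
      show IsIntegral φ.range x
      have h1 : IsIntegral φ.range (f • x) := (hfx x hx).tower_top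
      have h2 : x = algebraMap φ.range K ⟨φ (IsLocalization.Away.invSelf f), AlgHom.mem_range_self _ _⟩ * (f • x) := by
        show x = φ (IsLocalization.Away.invSelf f) * (f • x)
        rw [Algebra.smul_def, ← mul_assoc, hinv, one_mul]
      rw [h2]
      exact IsIntegral.mul isIntegral_algebraMap h1
    rw [hs] at hle
    exact ⟨fun x => hle (Algebra.mem_top)⟩
  have : Algebra.FiniteType φ.range K := Algebra.FiniteType.of_restrictScalars_finiteType R φ.range K
  refine ⟨f, hf0, φ.range, ?_, ?_, ?_⟩
  · exact IsLocalization.isLocalization_of_algEquiv (Submonoid.powers f) (AlgEquiv.ofInjective φ hφinj)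
  · exact isField_of_isIntegral_of_isField (R := φ.range) (S := K) Subtype.val_injective (Field.toIsField K)
  · exact Algebra.IsIntegral.finite

end Groth.Agent.S9613
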