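import Groth.Statements.S9616
import Groth.Agent.H48.Graded

set_option autoImplicit false
universe u
open CAlg

namespace Groth.Agent.S9616

/-- Let S be an ℕ-graded ring, p_1, …, p_r homogeneous prime ideals of S and I ⊆ S₊ a homogeneous ideal
not contained in any p_i. Then there is a homogeneous element x ∈ I of positive degree with x ∉ p_i
for all i. -/
theorem result {R S : Type u} [CommRing R] [CommRing S] [Algebra R S] (𝒜 : ℕ → Submodule R S) [GradedAlgebra 𝒜]
    {r : ℕ} (p : Fin r → HomogeneousIdeal 𝒜) (hp : ∀ i, (p i).toIdeal.IsPrime) (I : HomogeneousIdeal 𝒜) (hI : I ≤ HomogeneousIdeal.irrelevant 𝒜) (h : ∀ i, ¬ I ≤ p i) :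
    ∃ x : S, ∃ d : ℕ, 0 < d ∧ x ∈ 𝒜 d ∧ x ∈ I ∧ ∀ i, x ∉ p i := by
  classical
  have key := Groth.Agent.H48.homogeneous_prime_avoidance 𝒜 (I := I.toIdeal) I.isHomogeneous
    (fun x hx => hI hx) (Finset.univ.image fun i => (p i).toIdeal)
    (by
      intro q hq
      obtain ⟨i, _, rfl⟩ := Finset.mem_image.mp hq
      exact ⟨hp i, (p i).isHomogeneous⟩)
    (by
      intro q hq
      obtain ⟨i, _, rfl⟩ := Finset.mem_image.mp hq
      exact fun hle => h i hle)
  obtain ⟨x, d, hd, hxd, hxI, hx⟩ := key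
  exact ⟨x, d, hd, hxd, hxI, fun i => hx _ (Finset.mem_image.mpr ⟨i, Finset.mem_univ i, rfl⟩)⟩

end Groth.Agent.S9616
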