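import Groth.Statements.S9618
import Groth.Agent.H48.Idem

set_option autoImplicit false
universe u
open CAlg

namespace Groth.Agent.S9618

/-- For a ring R and a subset T of Spec R the following are equivalent: (1) T is closed and contains the
connected component of each of its points; (2) T can be written as an intersection of subsets of
Spec R that are both open and closed; (3) T is the common zero locus of some set of idempotent
elements of R (equivalently, of the ideal they generate). -/
theorem result {R : Type u} [CommRing R] (T : Set (PrimeSpectrum R)) :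
    [IsClosed T ∧ ∀ x ∈ T, connectedComponent x ⊆ T,
      ∃ U : Set (Set (PrimeSpectrum R)), (∀ u ∈ U, IsClopen u) ∧ T = ⋂₀ U,
      ∃ E : Set R, (∀ e ∈ E, IsIdempotentElem e) ∧ T = PrimeSpectrum.zeroLocus E].TFAE := by
  tfae_have 3 → 2 := by
    rintro ⟨E, hE, rfl⟩
    refine ⟨(fun e : R => PrimeSpectrum.zeroLocus ({e} : Set R)) '' E, ?_, ?_⟩
    · rintro u ⟨e, he, rfl⟩
      exact PrimeSpectrum.isClopen_iff_zeroLocus.mpr ⟨e, hE e he, rfl⟩
    · ext x
      simp only [PrimeSpectrum.mem_zeroLocus, Set.sInter_image, Set.mem_iInter,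
        Set.singleton_subset_iff]
      exact Iff.rfl
  tfae_have 2 → 1 := by
    rintro ⟨U, hU, rfl⟩
    refine ⟨isClosed_sInter fun u hu => (hU u hu).1, fun x hx => ?_⟩
    intro y hy
    rw [Set.mem_sInter] at hx ⊢
    intro u hu
    exact (hU u hu).connectedComponent_subset (hx u hu) hy
  tfae_have 1 → 3 := by
    rintro ⟨hclosed, hcomp⟩
    refine ⟨{e : R | IsIdempotentElem e ∧ T ⊆ PrimeSpectrum.zeroLocus ({e} : Set R)},
      fun e he => he.1, ?_⟩
    apply Set.Subset.antisymm
    · intro t ht
      rw [PrimeSpectrum.mem_zeroLocus]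
      intro e he
      have := he.2 ht
      rw [PrimeSpectrum.mem_zeroLocus, Set.singleton_subset_iff] at this
      exact this
    · intro x hx
      by_contra hxT
      obtain ⟨I, rfl⟩ := (PrimeSpectrum.isClosed_iff_zeroLocus_ideal _).mp hclosed
      have htop : I ⊔ Ideal.span (Groth.Agent.H48.idemIn x) = ⊤ := by
        by_contra hne
        obtain ⟨m, hm, hle⟩ := Ideal.exists_le_maximal _ hne
        let q : PrimeSpectrum R := ⟨m, hm.isPrime⟩
        have hqT : q ∈ PrimeSpectrum.zeroLocus (I : Set R) := by
          rw [PrimeSpectrum.mem_zeroLocus]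
          exact fun a ha => hle (Ideal.mem_sup_left ha)
        have hqx : q ∈ connectedComponent x := by
          rw [Groth.Agent.H48.connectedComponent_eq_zeroLocus, PrimeSpectrum.mem_zeroLocus]
          exact fun a ha => hle (Ideal.mem_sup_right (Ideal.subset_span ha))
        have hxq : x ∈ connectedComponent q := by
          rw [← connectedComponent_eq hqx]
          exact mem_connectedComponent
        exact hxT (hcomp q hqT hxq)
      have h1 : (1 : R) ∈ I ⊔ Ideal.span (Groth.Agent.H48.idemIn x) := by
        rw [htop]; trivial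
      obtain ⟨a, ha, b, hb, hab⟩ := Submodule.mem_sup.mp h1
      obtain ⟨e₀, ⟨he₀, he₀x⟩, hb'⟩ := Groth.Agent.H48.exists_idem_span_singleton x b hb
      rw [Ideal.mem_span_singleton'] at hb'
      obtain ⟨c, rfl⟩ := hb'
      have he₀' : e₀ * e₀ = e₀ := he₀
      have hmem : (1 - e₀) ∈ I := by
        have : (1 - e₀) = (1 - e₀) * a := by
          have h2 : (1 - e₀) * (c * e₀) = 0 := by
            have : (1 - e₀) * (c * e₀) = c * (e₀ - e₀ * e₀) := by ring
            rw [this, he₀', sub_self, mul_zero]
          calc (1 - e₀) = (1 - e₀) * (a + c * e₀) := by rw [hab, mul_one]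
            _ = (1 - e₀) * a := by rw [mul_add, h2, add_zero]
        rw [this]
        exact Ideal.mul_mem_left _ _ ha
      have hE : (1 - e₀) ∈ {e : R | IsIdempotentElem e ∧
          PrimeSpectrum.zeroLocus (I : Set R) ⊆ PrimeSpectrum.zeroLocus ({e} : Set R)} := by
        refine ⟨he₀.one_sub, ?_⟩
        apply PrimeSpectrum.zeroLocus_anti_mono
        rw [Set.singleton_subset_iff]
        exact hmem
      have h3 : (1 - e₀) ∈ x.asIdeal := by
        rw [PrimeSpectrum.mem_zeroLocus] at hx
        exact hx hE
      have : (1 : R) ∈ x.asIdeal := by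
        have := x.asIdeal.add_mem h3 he₀x
        rwa [sub_add_cancel] at this
      exact x.2.ne_top ((Ideal.eq_top_iff_one _).mpr this)
  tfae_finish

end Groth.Agent.S9618
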