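import Groth.Statements.S9621
import Groth.Agent.H48.WeakAss

set_option autoImplicit false
universe u
open CAlg

namespace Groth.Agent.S9621

/-- Let R be a ring, p a minimal prime of R and W a quasi-compact open subset of Spec R not containing
p. Then there is an f ∈ R, f ∉ p, whose basic open D(f) is disjoint from W. -/
theorem result {R : Type u} [CommRing R] (p : PrimeSpectrum R) (hp : p.asIdeal ∈ minimalPrimes R) (W : Set (PrimeSpectrum R)) (hWo : IsOpen W) (hWc : IsCompact W) (hpW : p ∉ W) :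
    ∃ f : R, f ∉ p.asIdeal ∧ Disjoint (PrimeSpectrum.basicOpen f : Set (PrimeSpectrum R)) W := by
  classical
  obtain ⟨t, rfl⟩ := PrimeSpectrum.isCompact_isOpen_iff.mp ⟨hWc, hWo⟩
  have hpt : p ∈ PrimeSpectrum.zeroLocus (t : Set R) := by
    by_contra h
    exact hpW h
  have hmin : p.asIdeal ∈ (⊥ : Ideal R).minimalPrimes := hp
  have h3 : ∀ g : R, ∃ f : R, ∃ n : ℕ, g ∈ t → f ∉ p.asIdeal ∧ f * g ^ n = 0 := by
    intro g
    by_cases hg : g ∈ t
    · obtain ⟨f, hf, n, hn⟩ :=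
        Groth.Agent.H48.exists_mul_pow_mem_of_mem_minimalPrimes hmin (hpt (Finset.mem_coe.mpr hg))
      exact ⟨f, n, fun _ => ⟨hf, by simpa using hn⟩⟩
    · exact ⟨0, 0, fun h => absurd h hg⟩
  choose F N hFN using h3
  haveI := p.2
  refine ⟨∏ g ∈ t, F g, Groth.Agent.H48.prod_notMem_of_prime t F (fun g hg => (hFN g hg).1), ?_⟩
  rw [Set.disjoint_left]
  intro q hq hqW
  have hq' : (∏ g ∈ t, F g) ∉ q.asIdeal := hq
  have hex : ∃ g ∈ t, g ∉ q.asIdeal := by
    by_contra hcon
    push Not at hcon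
    apply hqW
    rw [PrimeSpectrum.mem_zeroLocus]
    intro g hg
    exact hcon g (Finset.mem_coe.mp hg)
  obtain ⟨g, hg, hgq⟩ := hex
  have h0 : F g * g ^ N g ∈ q.asIdeal := by
    rw [(hFN g hg).2]; exact q.asIdeal.zero_mem
  rcases q.2.mem_or_mem h0 with h | h
  · apply hq'
    obtain ⟨u, hu⟩ := Finset.dvd_prod_of_mem F hg
    rw [hu]
    exact q.asIdeal.mul_mem_right _ h
  · exact hgq (q.2.mem_of_pow_mem _ h)

end Groth.Agent.S9621
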