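import Groth.Statements.S9622
import Groth.Agent.H48.ArtinLocal

set_option autoImplicit false
universe u
open CAlg

namespace Groth.Agent.S9622

/-- Let R → S be a ring map whose target S is a local Artinian ring, and write m for the maximal ideal
of S. Then S is a finite R-module exactly when S/m is, and S is an R-algebra of finite type exactly
when S/m is. -/
theorem result {R S : Type u} [CommRing R] [CommRing S] [Algebra R S] [IsArtinianRing S] [IsLocalRing S] :
    (Module.Finite R S ↔ Module.Finite R (S ⧸ IsLocalRing.maximalIdeal S)) ∧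
      (Algebra.FiniteType R S ↔ Algebra.FiniteType R (S ⧸ IsLocalRing.maximalIdeal S)) := by
  have hsurj : Function.Surjective (Ideal.Quotient.mkₐ R (IsLocalRing.maximalIdeal S)) :=
    Ideal.Quotient.mkₐ_surjective R _
  refine ⟨⟨fun h => ?_, fun h => ?_⟩, ⟨fun h => ?_, fun h => ?_⟩⟩
  · exact Module.Finite.of_surjective (Ideal.Quotient.mkₐ R (IsLocalRing.maximalIdeal S)).toLinearMap
      hsurj
  · have h1 : Algebra.IsIntegral R (S ⧸ IsLocalRing.maximalIdeal S) := Algebra.IsIntegral.of_finite R _
    have h2 : Algebra.FiniteType R (S ⧸ IsLocalRing.maximalIdeal S) := Module.Finite.finiteType _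
    have h3 : Algebra.IsIntegral R S := Groth.Agent.H48.isIntegral_of_residue h1
    have h4 : Algebra.FiniteType R S := Groth.Agent.H48.finiteType_of_residue h2
    exact Algebra.IsIntegral.finite
  · exact Algebra.FiniteType.of_surjective (Ideal.Quotient.mkₐ R (IsLocalRing.maximalIdeal S)) hsurj
  · exact Groth.Agent.H48.finiteType_of_residue h

end Groth.Agent.S9622
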