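import Groth.Statements.S9633
import Mathlib

set_option autoImplicit false
universe u
open CAlg

namespace Groth.Agent.S9633

/-- For a ring R with spectrum X the following are equivalent: (1) X is profinite, i.e. compact,
Hausdorff and totally disconnected; (2) X is Hausdorff; (3) X is totally disconnected; (4) every
quasi-compact open subset of X is closed; (5) there are no nontrivial inclusions among prime ideals
of R; (6) every prime ideal of R is maximal; (7) every prime ideal of R is a minimal prime; (8)
every standard open D(f) is closed. -/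
theorem result {R : Type u} [CommRing R] :
    [CompactSpace (PrimeSpectrum R) ∧ T2Space (PrimeSpectrum R) ∧ TotallyDisconnectedSpace (PrimeSpectrum R),
      T2Space (PrimeSpectrum R),
      TotallyDisconnectedSpace (PrimeSpectrum R),
      ∀ W : Set (PrimeSpectrum R), IsOpen W → IsCompact W → IsClosed W,
      ∀ p q : PrimeSpectrum R, p ≤ q → p = q,
      ∀ p : Ideal R, p.IsPrime → p.IsMaximal,
      ∀ p : Ideal R, p.IsPrime → p ∈ minimalPrimes R,
      ∀ f : R, IsClosed (PrimeSpectrum.basicOpen f : Set (PrimeSpectrum R))].TFAE := by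
  tfae_have 1 → 2 := fun h => h.2.1
  tfae_have 1 → 3 := fun h => h.2.2
  tfae_have 2 → 5 := by
    intro h p q hpq
    exact ((PrimeSpectrum.le_iff_specializes p q).mp hpq).eq
  tfae_have 3 → 5 := by
    intro h p q hpq
    have hsp := (PrimeSpectrum.le_iff_specializes p q).mp hpq
    have hpre : IsPreconnected (closure ({p} : Set (PrimeSpectrum R))) :=
      isPreconnected_singleton.closure
    have hp : p ∈ closure ({p} : Set (PrimeSpectrum R)) := subset_closure rfl
    have hq : q ∈ closure ({p} : Set (PrimeSpectrum R)) := specializes_iff_mem_closure.mp hsp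
    exact hpre.subsingleton hp hq
  tfae_have 5 → 6 := by
    intro h p hp
    obtain ⟨m, hm, hpm⟩ := Ideal.exists_le_maximal p hp.ne_top
    have := h ⟨p, hp⟩ ⟨m, hm.isPrime⟩ hpm
    have hpm' : p = m := congrArg PrimeSpectrum.asIdeal this
    rw [hpm']
    exact hm
  tfae_have 6 → 7 := by
    intro h p hp
    refine ⟨⟨hp, bot_le⟩, ?_⟩
    rintro q ⟨hq, _⟩ hqp
    have hqm := h q hq
    exact (hqm.eq_of_le hp.ne_top hqp).ge
  tfae_have 7 → 5 := by
    intro h p q hpq
    have hq := h q.asIdeal q.2
    have : q.asIdeal ≤ p.asIdeal := hq.2 ⟨p.2, bot_le⟩ hpq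
    exact le_antisymm hpq this
  tfae_have 5 → 8 := by
    intro h f
    rw [← PrimeSpectrum.localization_away_comap_range (Localization.Away f) f]
    apply PrimeSpectrum.isClosed_range_of_stableUnderSpecialization
    intro x y hxy hx
    have := h x y ((PrimeSpectrum.le_iff_specializes x y).mpr hxy)
    rwa [← this]
  tfae_have 8 → 4 := by
    intro h W hWo hWc
    obtain ⟨t, rfl⟩ := PrimeSpectrum.isCompact_isOpen_iff.mp ⟨hWc, hWo⟩
    have : (PrimeSpectrum.zeroLocus (t : Set R))ᶜ =
        ⋃ g ∈ t, (PrimeSpectrum.basicOpen g : Set (PrimeSpectrum R)) := by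
      ext x
      simp only [Set.mem_compl_iff, PrimeSpectrum.mem_zeroLocus, Set.mem_iUnion, SetLike.mem_coe,
        PrimeSpectrum.mem_basicOpen, exists_prop]
      constructor
      · intro hx
        by_contra hcon
        push Not at hcon
        exact hx fun g hg => hcon g (Finset.mem_coe.mp hg)
      · rintro ⟨g, hg, hgx⟩ hsub
        exact hgx (hsub (Finset.mem_coe.mpr hg))
    rw [this]
    exact t.finite_toSet.isClosed_biUnion fun g _ => h g
  tfae_have 4 → 8 := by
    intro h f
    exact h _ (PrimeSpectrum.basicOpen f).isOpen (PrimeSpectrum.isCompact_basicOpen f)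
  tfae_have 8 → 1 := by
    intro h
    have hts : TotallySeparatedSpace (PrimeSpectrum R) := by
      rw [totallySeparatedSpace_iff_exists_isClopen]
      intro x y hxy
      have hne : x.asIdeal ≠ y.asIdeal := fun he => hxy (PrimeSpectrum.ext he)
      have hex : ∃ f, ¬ (f ∈ x.asIdeal ↔ f ∈ y.asIdeal) := by
        by_contra hcon
        push Not at hcon
        exact hne (Ideal.ext hcon)
      obtain ⟨f, hf⟩ := hex
      have hclopen : IsClopen (PrimeSpectrum.basicOpen f : Set (PrimeSpectrum R)) :=
        ⟨h f, (PrimeSpectrum.basicOpen f).isOpen⟩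
      by_cases hfx : f ∈ x.asIdeal
      · have hfy : f ∉ y.asIdeal := fun hfy => hf ⟨fun _ => hfy, fun _ => hfx⟩
        refine ⟨(PrimeSpectrum.basicOpen f : Set (PrimeSpectrum R))ᶜ, hclopen.compl, ?_, ?_⟩
        · exact fun hx => hx hfx
        · rw [compl_compl]; exact hfy
      · have hfy : f ∈ y.asIdeal := by
          by_contra hfy
          exact hf ⟨fun h' => absurd h' hfx, fun h' => absurd h' hfy⟩
        refine ⟨(PrimeSpectrum.basicOpen f : Set (PrimeSpectrum R)), hclopen, hfx, ?_⟩
        exact fun hy => hy hfy
    exact ⟨inferInstance, inferInstance, inferInstance⟩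
  tfae_finish

end Groth.Agent.S9633
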