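import Groth.Statements.S9641
import Groth.Agent.H48.FieldTensor

set_option autoImplicit false
universe u
open CAlg

namespace Groth.Agent.S9641

open TensorProduct in
/-- Let k be a field and R, S two k-algebras. If R ⊗_k S is not reduced then there are finitely
generated k-subalgebras R' ⊆ R and S' ⊆ S such that R' ⊗_k S' is not reduced. -/
theorem result {k R S : Type u} [Field k] [CommRing R] [CommRing S] [Algebra k R] [Algebra k S] (h : ¬ IsReduced (R ⊗[k] S)) :
    ∃ (R' : Subalgebra k R) (S' : Subalgebra k S), R'.FG ∧ S'.FG ∧ ¬ IsReduced (R' ⊗[k] S') := by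
  have hex : ∃ x : R ⊗[k] S, IsNilpotent x ∧ x ≠ 0 := by
    by_contra hcon
    push Not at hcon
    exact h ⟨fun x hx => hcon x hx⟩
  obtain ⟨x, ⟨n, hn⟩, hx0⟩ := hex
  classical
  obtain ⟨T, hT⟩ := TensorProduct.exists_finset x
  let R' : Subalgebra k R := Algebra.adjoin k ((T.image Prod.fst : Finset R) : Set R)
  let S' : Subalgebra k S := Algebra.adjoin k ((T.image Prod.snd : Finset S) : Set S)
  have hR' : ∀ t ∈ T, t.1 ∈ R' := fun t ht =>
    Algebra.subset_adjoin (Finset.mem_coe.mpr (Finset.mem_image_of_mem _ ht))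
  have hS' : ∀ t ∈ T, t.2 ∈ S' := fun t ht =>
    Algebra.subset_adjoin (Finset.mem_coe.mpr (Finset.mem_image_of_mem _ ht))
  refine ⟨R', S', Subalgebra.fg_adjoin_finset _, Subalgebra.fg_adjoin_finset _, ?_⟩
  let φ : R' ⊗[k] S' →ₐ[k] R ⊗[k] S := Algebra.TensorProduct.map R'.val S'.val
  have hφ : Function.Injective φ :=
    Groth.Agent.H48.tensorMap_injective _ _ Subtype.val_injective Subtype.val_injective
  let x' : R' ⊗[k] S' := ∑ t ∈ T.attach, (⟨t.1.1, hR' t.1 t.2⟩ : R') ⊗ₜ[k] (⟨t.1.2, hS' t.1 t.2⟩ : S')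
  have hx' : φ x' = x := by
    rw [hT, map_sum, ← Finset.sum_attach T]
    apply Finset.sum_congr rfl
    intro t _
    simp [φ]
  intro hred
  have hnil : IsNilpotent x' := by
    refine ⟨n, hφ ?_⟩
    rw [map_pow, hx', hn, map_zero]
  have h0 : x' = 0 := hred.eq_zero x' hnil
  apply hx0
  rw [← hx', h0, map_zero]

end Groth.Agent.S9641
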