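import Groth.Statements.S9642
import Mathlib

set_option autoImplicit false
universe u
open CAlg

namespace Groth.Agent.S9642

/-- In the general form stated there: let R → S be a ring map inducing an open map Spec(S) → Spec(R),
with Spec(R) irreducible, such that for a dense set of primes p of R the fibre ring κ(p) ⊗_R S has
irreducible spectrum. Then Spec(S) is irreducible. The flat and finitely presented case is the
special case in which the map on spectra is open by fppf-openness. -/
theorem result {R S : Type u} [CommRing R] [CommRing S] [Algebra R S]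
    (hopen : IsOpenMap (PrimeSpectrum.comap (algebraMap R S))) [IrreducibleSpace (PrimeSpectrum R)]
    (D : Set (PrimeSpectrum R)) (hD : Dense D) (hfib : ∀ p ∈ D, IrreducibleSpace (PrimeSpectrum (p.asIdeal.Fiber S))) :
    IrreducibleSpace (PrimeSpectrum S) := by
  have hfibre : ∀ p ∈ D, IsIrreducible (PrimeSpectrum.comap (algebraMap R S) ⁻¹' {p}) := by
    intro p hp
    have := hfib p hp
    have : IrreducibleSpace ↥(PrimeSpectrum.comap (algebraMap R S) ⁻¹' {p}) :=
      (PrimeSpectrum.preimageHomeomorphFiber R S p).irreducibleSpace_iff.mpr this
    exact IsIrreducible.of_subtype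
  have hpre : IsPreirreducible (PrimeSpectrum.comap (algebraMap R S) ⁻¹' Set.univ) := by
    apply IsPreirreducible.preimage_of_dense_isPreirreducible_fiber
      (PreirreducibleSpace.isPreirreducible_univ) _ hopen
    intro x _
    have hsub : D ⊆ Set.univ ∩ {x | IsPreirreducible (PrimeSpectrum.comap (algebraMap R S) ⁻¹' {x})} :=
      fun p hp => ⟨trivial, (hfibre p hp).isPreirreducible⟩
    exact closure_mono hsub (hD x)
  rw [Set.preimage_univ] at hpre
  obtain ⟨p, hp⟩ := hD.nonempty
  obtain ⟨q, _⟩ := (hfibre p hp).nonempty
  exact { toNonempty := ⟨q⟩, isPreirreducible_univ := hpre }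

end Groth.Agent.S9642
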