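import Groth.Statements.S9643
import Mathlib

set_option autoImplicit false
universe u
open CAlg

namespace Groth.Agent.S9643

/-- Let R be a Noetherian ring, M a finite R-module and 0 = M_0 ⊆ M_1 ⊆ ⋯ ⊆ M_n = M a chain of
submodules whose successive quotients M_i/M_{i-1} are isomorphic to R/p_i for prime ideals p_i. Then
the primes minimal among p_1, …, p_n are exactly the primes minimal in the support of M. -/
theorem result {R : Type u} [CommRing R] [IsNoetherianRing R] (M : Type u) [AddCommGroup M] [Module R M] [Module.Finite R M]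
    {n : ℕ} (N : Fin (n + 1) → Submodule R M) (hN : Monotone N) (h0 : N 0 = ⊥) (hlast : N (Fin.last n) = ⊤)
    (p : Fin n → PrimeSpectrum R)
    (hquot : ∀ i : Fin n, Nonempty ((↥(N i.succ) ⧸ Submodule.comap (N i.succ).subtype (N i.castSucc)) ≃ₗ[R] (R ⧸ (p i).asIdeal))) :
    {q : PrimeSpectrum R | Minimal (fun x => x ∈ Set.range p) q} = {q : PrimeSpectrum R | Minimal (fun x => x ∈ Module.support R M) q} := by
  -- support of R ⧸ p
  have hsuppq : ∀ I : Ideal R, Module.support R (R ⧸ I) = PrimeSpectrum.zeroLocus (I : Set R) := by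
    intro I
    rw [Module.support_eq_zeroLocus, Ideal.annihilator_quotient]
  -- support of N i
  have hsupp : ∀ i : Fin (n + 1), Module.support R ↥(N i) =
      {q | ∃ j : Fin n, j.castSucc < i ∧ p j ≤ q} := by
    intro i
    induction i using Fin.induction with
    | zero =>
      have : Subsingleton ↥(N 0) := by rw [h0]; infer_instance
      rw [Module.support_eq_empty]
      ext q
      simp only [Set.mem_empty_iff_false, Set.mem_setOf_eq, false_iff, not_exists, not_and]
      intro j hj
      exact absurd hj (Fin.not_lt_zero _)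
    | succ i ih =>
      have hle : N i.castSucc ≤ N i.succ := hN (Fin.castSucc_le_succ i)
      obtain ⟨e⟩ := hquot i
      have hex : Function.Exact
          (Submodule.comap (N i.succ).subtype (N i.castSucc)).subtype
          (Submodule.comap (N i.succ).subtype (N i.castSucc)).mkQ :=
        LinearMap.exact_subtype_mkQ _
      have h1 := Module.support_of_exact hex (Submodule.injective_subtype _)
        (Submodule.mkQ_surjective _)
      rw [h1, (Submodule.comapSubtypeEquivOfLe hle).support_eq, ih, e.support_eq, hsuppq]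
      ext q
      simp only [Set.mem_union, Set.mem_setOf_eq, PrimeSpectrum.mem_zeroLocus, SetLike.coe_subset_coe]
      constructor
      · rintro (⟨j, hj, hjq⟩ | hq)
        · exact ⟨j, lt_trans hj (Fin.castSucc_lt_succ), hjq⟩
        · exact ⟨i, Fin.castSucc_lt_succ, hq⟩
      · rintro ⟨j, hj, hjq⟩
        have hji : j ≤ i := by
          rw [Fin.lt_def] at hj
          rw [Fin.le_def]
          simp only [Fin.val_castSucc, Fin.val_succ] at hj
          omega
        rcases lt_or_eq_of_le hji with h | h
        · left
          exact ⟨j, Fin.castSucc_lt_castSucc_iff.mpr h, hjq⟩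
        · right
          rw [← h]
          exact hjq
  have hM : Module.support R M = {q | ∃ j : Fin n, p j ≤ q} := by
    have e : ↥(N (Fin.last n)) ≃ₗ[R] M := by
      rw [hlast]
      exact Submodule.topEquiv
    rw [← e.support_eq, hsupp]
    ext q
    simp only [Set.mem_setOf_eq]
    constructor
    · rintro ⟨j, -, hj⟩
      exact ⟨j, hj⟩
    · rintro ⟨j, hj⟩
      exact ⟨j, Fin.castSucc_lt_last j, hj⟩
  have hmem : ∀ j, p j ∈ Module.support R M := by
    intro j
    rw [hM]
    exact ⟨j, le_refl _⟩
  ext q
  simp only [Set.mem_setOf_eq]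
  constructor
  · rintro ⟨⟨i, rfl⟩, hmin⟩
    refine ⟨hmem i, ?_⟩
    intro q' hq' hle
    rw [hM] at hq'
    obtain ⟨j, hj⟩ := hq'
    have h1 : p j ≤ p i := le_trans hj hle
    have h2 : p i ≤ p j := hmin ⟨j, rfl⟩ h1
    exact le_trans h2 hj
  · rintro ⟨hq, hmin⟩
    have hq' := hq
    rw [hM] at hq'
    obtain ⟨i, hi⟩ := hq'
    have h1 : q ≤ p i := hmin (hmem i) hi
    have hqi : q = p i := le_antisymm h1 hi
    refine ⟨⟨i, hqi.symm⟩, ?_⟩
    rintro q' ⟨j, rfl⟩ hle
    exact hmin (hmem j) hle

end Groth.Agent.S9643
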