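import Groth.Statements.S9645
import Mathlib

set_option autoImplicit false
universe u
open CAlg

namespace Groth.Agent.S9645

/-- Integral closure commutes with localization. Let A → B be a ring map, S a multiplicative subset of
A, and A_S, B_S the localizations of A at S and of B at the image of S. Then an element x of B_S is
integral over A_S if and only if x·s = b for some s ∈ S and some b ∈ B integral over A (images taken
in B_S); that is, the integral closure of A_S in B_S is S⁻¹B' for B' the integral closure of A in B. -/
theorem result {A B As Bs : Type u} [CommRing A] [CommRing B] [CommRing As] [CommRing Bs] [Algebra A B] [Algebra A As] [Algebra B Bs] [Algebra As Bs] [Algebra A Bs] [IsScalarTower A B Bs] [IsScalarTower A As Bs]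
    (S : Submonoid A) [IsLocalization S As] [IsLocalization (Algebra.algebraMapSubmonoid B S) Bs] (x : Bs) :
    IsIntegral As x ↔ ∃ b : B, IsIntegral A b ∧ ∃ s ∈ S, x * algebraMap A Bs s = algebraMap B Bs b := by
  constructor
  · intro hx
    obtain ⟨⟨m, hm⟩, hmx⟩ := IsIntegral.exists_multiple_integral_of_isLocalization S (Rₘ := As) x hx
    obtain ⟨b', ⟨t, ht⟩, hxb⟩ := IsLocalization.exists_mk'_eq (Algebra.algebraMapSubmonoid B S) x
    obtain ⟨s₁, hs₁, rfl⟩ := ht
    have hspec : x * algebraMap B Bs (algebraMap A B s₁) = algebraMap B Bs b' := by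
      rw [← hxb]
      exact IsLocalization.mk'_spec _ _ _
    have hint1 : IsIntegral A (algebraMap B Bs (m • b')) := by
      have h1 : algebraMap B Bs (m • b') = algebraMap A Bs s₁ * (m • x) := by
        rw [Algebra.smul_def, Algebra.smul_def, map_mul, ← hspec,
          ← IsScalarTower.algebraMap_apply A B Bs, ← IsScalarTower.algebraMap_apply A B Bs]
        ring
      rw [h1]
      exact IsIntegral.mul isIntegral_algebraMap hmx
    obtain ⟨m₂, hm₂, hint2⟩ :=
      IsLocalization.exists_isIntegral_smul_of_isIntegral_map (Sₘ := Bs) S hint1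
    refine ⟨m₂ • (m • b'), hint2, m₂ * m * s₁, S.mul_mem (S.mul_mem hm₂ hm) hs₁, ?_⟩
    rw [Algebra.smul_def, Algebra.smul_def, map_mul, map_mul, map_mul, map_mul, ← hspec,
      ← IsScalarTower.algebraMap_apply A B Bs, ← IsScalarTower.algebraMap_apply A B Bs,
      ← IsScalarTower.algebraMap_apply A B Bs]
    ring
  · rintro ⟨b, hb, s, hs, hxs⟩
    have hb' : IsIntegral As (algebraMap B Bs b) := by
      have : IsIntegral A (algebraMap B Bs b) := hb.map (IsScalarTower.toAlgHom A B Bs)
      exact this.tower_top
    have hunit : IsUnit (algebraMap A As s) := IsLocalization.map_units As (⟨s, hs⟩ : S)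
    obtain ⟨u, hu⟩ := hunit
    have hx : x = algebraMap B Bs b * algebraMap As Bs (↑u⁻¹ : As) := by
      rw [← hxs, IsScalarTower.algebraMap_apply A As Bs, ← hu, mul_assoc, ← map_mul,
        Units.mul_inv, map_one, mul_one]
    rw [hx]
    exact IsIntegral.mul hb' isIntegral_algebraMap

end Groth.Agent.S9645
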