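import Groth.Statements.S9646
import Mathlib

set_option autoImplicit false
universe u
open CAlg

namespace Groth.Agent.S9646

/-- (2) ⇒ (1): let R → S be a ring map and x ∈ S. If for every prime ideal p of R the image of x in S_p
(the localization of S at the image of R ∖ p) is integral over R_p, then x is integral over R. Here
R_p and S_p are any rings satisfying the localization universal properties. -/
theorem result {R S : Type u} [CommRing R] [CommRing S] [Algebra R S] (x : S)
    (h : ∀ (p : Ideal R) [p.IsPrime] (Rp Sp : Type u) [CommRing Rp] [CommRing Sp] [Algebra R Rp] [Algebra S Sp] [Algebra Rp Sp] [Algebra R Sp] [IsScalarTower R S Sp] [IsScalarTower R Rp Sp] [IsLocalization.AtPrime Rp p] [IsLocalization (Algebra.algebraMapSubmonoid S p.primeCompl) Sp], IsIntegral Rp (algebraMap S Sp x)) :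
    IsIntegral R x := by
  by_contra hx
  let I : Ideal R :=
    { carrier := {r | IsIntegral R (r • x)}
      add_mem' := by
        intro a b ha hb
        show IsIntegral R ((a + b) • x)
        rw [add_smul]
        exact IsIntegral.add ha hb
      zero_mem' := by
        show IsIntegral R ((0 : R) • x)
        rw [zero_smul]
        exact isIntegral_zero
      smul_mem' := by
        intro c a ha
        show IsIntegral R ((c • a) • x)
        rw [smul_assoc, Algebra.smul_def c]
        exact IsIntegral.mul isIntegral_algebraMap ha }
  have hI : I ≠ ⊤ := by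
    intro h
    apply hx
    have h1 : (1 : R) ∈ I := by rw [h]; trivial
    have h2 : IsIntegral R ((1 : R) • x) := h1
    rwa [one_smul] at h2
  obtain ⟨m, hm, hIm⟩ := Ideal.exists_le_maximal I hI
  haveI := hm.isPrime
  have h1 := h m (Localization.AtPrime m) (Localization (Algebra.algebraMapSubmonoid S m.primeCompl))
  obtain ⟨⟨t, ht⟩, hint⟩ :=
    IsIntegral.exists_multiple_integral_of_isLocalization m.primeCompl
      (Rₘ := Localization.AtPrime m) _ h1
  have hint1 : IsIntegral R (algebraMap S (Localization (Algebra.algebraMapSubmonoid S m.primeCompl))
      (t • x)) := by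
    have : algebraMap S (Localization (Algebra.algebraMapSubmonoid S m.primeCompl)) (t • x) =
        (⟨t, ht⟩ : m.primeCompl) • algebraMap S
          (Localization (Algebra.algebraMapSubmonoid S m.primeCompl)) x := by
      rw [Submonoid.smul_def, Algebra.smul_def, Algebra.smul_def, map_mul,
        ← IsScalarTower.algebraMap_apply]
    rw [this]
    exact hint
  obtain ⟨t₂, ht₂, hint2⟩ :=
    IsLocalization.exists_isIntegral_smul_of_isIntegral_map
      (Sₘ := Localization (Algebra.algebraMapSubmonoid S m.primeCompl)) m.primeCompl hint1
  have hmem : t₂ * t ∈ I := by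
    show IsIntegral R ((t₂ * t) • x)
    rw [mul_smul]
    exact hint2
  have := hIm hmem
  rcases hm.isPrime.mem_or_mem this with h' | h'
  · exact ht₂ h'
  · exact ht h'

end Groth.Agent.S9646
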