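import Groth.Statements.S9654
import Groth.Agent.H73.AdjoinInv

set_option autoImplicit false
universe u
open CAlg

namespace Groth.Agent.S9654

/-- Let R be a ring and x, y ∈ R nonzerodivisors. In the localization R_{xy} let a = x/y and b = y/x,
and let R[a], R[b], R[a, b] be the R-subalgebras they generate. If R is integrally closed in R_x or
in R_y, then the sequence 0 → R → R[a] ⊕ R[b] → R[a, b] → 0 (difference map, then sum map) is short
exact; equivalently R[a] ∩ R[b] is the image of R and R[a] + R[b] = R[a, b] inside R_{xy}. -/
theorem result {R : Type u} [CommRing R] (x y : R) (hx : x ∈ nonZeroDivisors R) (hy : y ∈ nonZeroDivisors R)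
    (hint : IsIntegrallyClosedIn R (Localization.Away x) ∨ IsIntegrallyClosedIn R (Localization.Away y)) :
    (Algebra.adjoin R {algebraMap R (Localization.Away (x * y)) (x * x) * IsLocalization.Away.invSelf (x * y)}).toSubmodule ⊓
        (Algebra.adjoin R {algebraMap R (Localization.Away (x * y)) (y * y) * IsLocalization.Away.invSelf (x * y)}).toSubmodule =
        (⊥ : Subalgebra R (Localization.Away (x * y))).toSubmodule ∧
      (Algebra.adjoin R {algebraMap R (Localization.Away (x * y)) (x * x) * IsLocalization.Away.invSelf (x * y)}).toSubmodule ⊔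
        (Algebra.adjoin R {algebraMap R (Localization.Away (x * y)) (y * y) * IsLocalization.Away.invSelf (x * y)}).toSubmodule =
        (Algebra.adjoin R {algebraMap R (Localization.Away (x * y)) (x * x) * IsLocalization.Away.invSelf (x * y), algebraMap R (Localization.Away (x * y)) (y * y) * IsLocalization.Away.invSelf (x * y)}).toSubmodule := by
  classical
  set S := Localization.Away (x * y)
  set inv : S := IsLocalization.Away.invSelf (x * y) with hinv
  have hmulinv : algebraMap R S (x * y) * inv = 1 := IsLocalization.Away.mul_invSelf (x * y)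
  set a : S := algebraMap R S (x * x) * inv with ha
  set b : S := algebraMap R S (y * y) * inv with hb
  have hab : a * b = 1 := by
    have : a * b = (algebraMap R S (x * y) * inv) ^ 2 := by
      rw [ha, hb]; simp only [map_mul]; ring
    rw [this, hmulinv, one_pow]
  have hay : a * algebraMap R S y = algebraMap R S x := by
    have : a * algebraMap R S y = algebraMap R S x * (algebraMap R S (x * y) * inv) := by
      rw [ha]; simp only [map_mul]; ring
    rw [this, hmulinv, mul_one]
  have hbx : b * algebraMap R S x = algebraMap R S y := by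
    have : b * algebraMap R S x = algebraMap R S y * (algebraMap R S (x * y) * inv) := by
      rw [hb]; simp only [map_mul]; ring
    rw [this, hmulinv, mul_one]
  have hinj : Function.Injective (algebraMap R S) := by
    refine IsLocalization.injective S (M := Submonoid.powers (x * y)) ?_
    exact Submonoid.powers_le.mpr (mul_mem hx hy)
  have hxu : IsUnit (algebraMap R S x) := by
    refine IsUnit.of_mul_eq_one (algebraMap R S y * inv) ?_
    rw [← hmulinv, map_mul]; ring
  have hyu : IsUnit (algebraMap R S y) := by
    refine IsUnit.of_mul_eq_one (algebraMap R S x * inv) ?_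
    rw [← hmulinv, map_mul]; ring
  refine ⟨?_, H73.AdjoinInv.sup_adjoin_eq_adjoin_pair hab⟩
  apply le_antisymm
  · intro z hz
    obtain ⟨hza, hzb⟩ := Submodule.mem_inf.mp hz
    have hza' : z ∈ Algebra.adjoin R {a} := hza
    have hzb' : z ∈ Algebra.adjoin R {b} := hzb
    have hzint : IsIntegral R z :=
      H73.AdjoinInv.isIntegral_of_mem_adjoin_of_mem_adjoin_inv hab hza' hzb'
    change z ∈ (⊥ : Subalgebra R S)
    rw [Algebra.mem_bot]
    rcases hint with h | h
    · rw [Algebra.adjoin_singleton_eq_range_aeval] at hzb'
      obtain ⟨q, rfl⟩ := hzb'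
      obtain ⟨r, hr⟩ := H73.AdjoinInv.exists_aeval_mul_pow_eq b x y hbx q
      exact H73.AdjoinInv.exists_algebraMap_eq_of_isIntegral x hxu hinj h _ hzint _ r hr
    · rw [Algebra.adjoin_singleton_eq_range_aeval] at hza'
      obtain ⟨q, rfl⟩ := hza'
      obtain ⟨r, hr⟩ := H73.AdjoinInv.exists_aeval_mul_pow_eq a y x hay q
      exact H73.AdjoinInv.exists_algebraMap_eq_of_isIntegral y hyu hinj h _ hzint _ r hr
  · exact le_inf (Subalgebra.toSubmodule.monotone bot_le) (Subalgebra.toSubmodule.monotone bot_le)

end Groth.Agent.S9654
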