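import Groth.Statements.S9656
import Mathlib

set_option autoImplicit false
universe u
open CAlg

namespace Groth.Agent.S9656

/-- Let R_i → S_i be ring maps indexed by a finite type ι, with product map R = Π R_i → S = Π S_i. Then
an element (s_i) of S is integral over R exactly when s_i is integral over R_i for every i; so
integral closure in a finite product is computed factor by factor. -/
theorem result {ι : Type u} [Fintype ι] {R S : ι → Type u} [∀ i, CommRing (R i)] [∀ i, CommRing (S i)] (f : ∀ i, R i →+* S i) (s : ∀ i, S i) :
    (RingHom.pi fun i => (f i).comp (Pi.evalRingHom R i)).IsIntegralElem s ↔ ∀ i, (f i).IsIntegralElem (s i) := by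
  classical
  constructor
  · rintro ⟨p, hp, hps⟩ i
    refine ⟨p.map (Pi.evalRingHom R i), hp.map _, ?_⟩
    rw [Polynomial.eval₂_map]
    have h1 : (f i).comp (Pi.evalRingHom R i) =
        (Pi.evalRingHom S i).comp (RingHom.pi fun i => (f i).comp (Pi.evalRingHom R i)) := by
      ext x; simp
    rw [h1]
    have h2 := Polynomial.hom_eval₂ p (RingHom.pi fun i => (f i).comp (Pi.evalRingHom R i))
      (Pi.evalRingHom S i) s
    rw [hps, map_zero] at h2
    exact h2.symm
  · intro h
    choose p hp hps using h
    set n := ∑ i, (p i).natDegree with hn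
    let q : ∀ i, Polynomial (R i) := fun i => p i * Polynomial.X ^ (n - (p i).natDegree)
    have hle : ∀ i, (p i).natDegree ≤ n := fun i =>
      Finset.single_le_sum (f := fun i => (p i).natDegree) (fun _ _ => Nat.zero_le _)
        (Finset.mem_univ i)
    have hqm : ∀ i, (q i).Monic := fun i => (hp i).mul (Polynomial.monic_X_pow _)
    have hqd : ∀ i, (q i).natDegree ≤ n := by
      intro i
      refine (Polynomial.natDegree_mul_le).trans ?_
      refine (Nat.add_le_add_left (Polynomial.natDegree_X_pow_le _) _).trans ?_
      exact (Nat.add_sub_cancel' (hle i)).le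
    have hqc : ∀ i, (q i).coeff n = 1 := by
      intro i
      show (p i * Polynomial.X ^ (n - (p i).natDegree)).coeff n = 1
      rw [Polynomial.coeff_mul_X_pow', if_pos (Nat.sub_le _ _), Nat.sub_sub_self (hle i)]
      exact (hp i).coeff_natDegree
    have hqs : ∀ i, Polynomial.eval₂ (f i) (s i) (q i) = 0 := by
      intro i
      rw [Polynomial.eval₂_mul, hps i, zero_mul]
    let P : Polynomial (∀ i, R i) :=
      ∑ j ∈ Finset.range (n + 1), Polynomial.monomial j (fun i => (q i).coeff j)
    have hPmap : ∀ i, P.map (Pi.evalRingHom R i) = q i := by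
      intro i
      rw [Polynomial.map_sum]
      have h3 : ∀ j ∈ Finset.range (n + 1),
          (Polynomial.monomial j (fun i => (q i).coeff j)).map (Pi.evalRingHom R i) =
            Polynomial.monomial j ((q i).coeff j) := by
        intro j _
        rw [Polynomial.map_monomial]
        rfl
      rw [Finset.sum_congr rfl h3]
      exact ((q i).as_sum_range' (n + 1) (Nat.lt_succ_of_le (hqd i))).symm
    have hPmonic : P.Monic := by
      apply Polynomial.monic_of_natDegree_le_of_coeff_eq_one n
      · apply Polynomial.natDegree_sum_le_of_forall_le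
        intro j hj
        exact (Polynomial.natDegree_monomial_le _).trans (Nat.lt_succ_iff.mp (Finset.mem_range.mp hj))
      · funext i
        have : (P.coeff n) i = (P.map (Pi.evalRingHom R i)).coeff n := by
          rw [Polynomial.coeff_map]; rfl
        rw [this, hPmap i]
        exact hqc i
    refine ⟨P, hPmonic, ?_⟩
    funext i
    have h1 : (f i).comp (Pi.evalRingHom R i) =
        (Pi.evalRingHom S i).comp (RingHom.pi fun i => (f i).comp (Pi.evalRingHom R i)) := by
      ext x; simp
    have h2 := Polynomial.hom_eval₂ P (RingHom.pi fun i => (f i).comp (Pi.evalRingHom R i))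
      (Pi.evalRingHom S i) s
    have h4 : Polynomial.eval₂ ((f i).comp (Pi.evalRingHom R i)) (s i) P = 0 := by
      rw [← Polynomial.eval₂_map, hPmap i]
      exact hqs i
    rw [← h1] at h2
    have h5 : (Pi.evalRingHom S i) s = s i := rfl
    rw [h5, h4] at h2
    exact h2

end Groth.Agent.S9656
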