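import Groth.Statements.S9657
import Mathlib
import Groth.Agent.H48.RatFunc

set_option autoImplicit false
universe u
open CAlg

namespace Groth.Agent.S9657

open TensorProduct in
/-- Let K/k be a field extension and let k(t) ⊆ K(t) be the purely transcendental extensions in one
variable, realised as fraction fields of k[t] and K[t] compatibly with k[t] → K[t]. Then K is
geometrically irreducible over k (Spec(k' ⊗_k K) irreducible for every field extension k'/k) if and
only if K(t) is geometrically irreducible over k(t). Here the test fields range over field
extensions of k, respectively of k(t), in the universe of k; this is equivalent to the unrestricted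
notions, since an algebraic closure of the base field suffices as a test. -/
theorem result {k K : Type u} [Field k] [Field K] [Algebra k K]
    (kt Kt : Type u) [Field kt] [Field Kt] [Algebra (Polynomial k) kt] [IsFractionRing (Polynomial k) kt] [Algebra (Polynomial K) Kt] [IsFractionRing (Polynomial K) Kt]
    [Algebra kt Kt] (hcompat : ∀ p : Polynomial k, algebraMap kt Kt (algebraMap (Polynomial k) kt p) = algebraMap (Polynomial K) Kt (Polynomial.map (algebraMap k K) p)) :
    (∀ (k' : Type u) [Field k'] [Algebra k k'], IrreducibleSpace (PrimeSpectrum (k' ⊗[k] K))) ↔
      ∀ (L : Type u) [Field L] [Algebra kt L], IrreducibleSpace (PrimeSpectrum (L ⊗[kt] Kt)) := by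
  let _ : Algebra k kt := ((algebraMap (Polynomial k) kt).comp Polynomial.C).toAlgebra
  have : IsScalarTower k (Polynomial k) kt := IsScalarTower.of_algebraMap_eq' rfl
  let _ : Algebra K Kt := ((algebraMap (Polynomial K) Kt).comp Polynomial.C).toAlgebra
  have : IsScalarTower K (Polynomial K) Kt := IsScalarTower.of_algebraMap_eq' rfl
  let _ : Algebra k Kt := ((algebraMap kt Kt).comp (algebraMap k kt)).toAlgebra
  have : IsScalarTower k kt Kt := IsScalarTower.of_algebraMap_eq' rfl
  have : IsScalarTower k K Kt := IsScalarTower.of_algebraMap_eq' (by
    ext a
    show algebraMap kt Kt (algebraMap (Polynomial k) kt (Polynomial.C a)) =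
      algebraMap (Polynomial K) Kt (Polynomial.C (algebraMap k K a))
    rw [hcompat, Polynomial.map_C])
  constructor
  · intro h L _ _
    let _ : Algebra k L := ((algebraMap kt L).comp (algebraMap k kt)).toAlgebra
    have : IsScalarTower k kt L := IsScalarTower.of_algebraMap_eq' rfl
    have := h L
    exact Groth.Agent.H48.irreducibleSpace_tensor_ratFunc L hcompat
  · intro h k' _ _
    obtain ⟨L, _, _, _⟩ : ∃ (L : Type u) (_ : Field L) (_ : Algebra (Polynomial k') L),
        IsFractionRing (Polynomial k') L :=
      ⟨FractionRing (Polynomial k'), inferInstance, inferInstance, inferInstance⟩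
    let g : Polynomial k →+* L :=
      (algebraMap (Polynomial k') L).comp (Polynomial.mapRingHom (algebraMap k k'))
    have hg : Function.Injective g :=
      (IsFractionRing.injective (Polynomial k') L).comp
        (Polynomial.map_injective _ (algebraMap k k').injective)
    let _ : Algebra kt L := (IsFractionRing.lift hg).toAlgebra
    let _ : Algebra k L := ((algebraMap kt L).comp (algebraMap k kt)).toAlgebra
    have : IsScalarTower k kt L := IsScalarTower.of_algebraMap_eq' rfl
    have hL := h L
    let j : k' →ₐ[k] L :=
      { toRingHom := (algebraMap (Polynomial k') L).comp Polynomial.C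
        commutes' := fun a => by
          show algebraMap (Polynomial k') L (Polynomial.C (algebraMap k k' a)) =
            IsFractionRing.lift hg (algebraMap (Polynomial k) kt (Polynomial.C a))
          rw [IsFractionRing.lift_algebraMap]
          show _ = algebraMap (Polynomial k') L (Polynomial.map (algebraMap k k') (Polynomial.C a))
          rw [Polynomial.map_C] }
    have hj : Function.Injective j := j.toRingHom.injective
    have h1 : Function.Injective (Algebra.TensorProduct.map j (AlgHom.id k K)) :=
      Groth.Agent.H48.tensorMap_injective _ _ hj Function.injective_id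
    have h2 := Groth.Agent.H48.Phi_injective (k := k) (K := K) (kt := kt) (Kt := Kt) L hcompat
    exact Groth.Agent.H48.irreducibleSpace_of_injective
      ((Groth.Agent.H48.Phi (k := k) (K := K) (kt := kt) (Kt := Kt) L).toRingHom.comp
        (Algebra.TensorProduct.map j (AlgHom.id k K)).toRingHom)
      (h2.comp h1)

end Groth.Agent.S9657
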