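import Groth.Statements.S9658
import Mathlib

set_option autoImplicit false
universe u
open CAlg

namespace Groth.Agent.S9658

/-- Let R be a ring, f_1, …, f_n ∈ R generating the unit ideal and M an R-module. With M_i = M_{f_i},
M_ij = M_{f_i f_j} (any localizations, with the canonical compatible maps M → M_i → M_ij), the
sequence 0 → M → ⊕ M_i → ⊕ M_ij is exact: an element of M whose image vanishes in every M_i is zero,
and every family (m_i ∈ M_i) such that m_i and m_j have the same image in M_ij for all i, j is the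
image of an element of M. -/
theorem result {R : Type u} [CommRing R] {ι : Type u} [Fintype ι] (f : ι → R) (hf : Ideal.span (Set.range f) = ⊤)
    (M : Type u) [AddCommGroup M] [Module R M]
    (Mi : ι → Type u) [∀ i, AddCommGroup (Mi i)] [∀ i, Module R (Mi i)] (g : ∀ i, M →ₗ[R] Mi i) [∀ i, IsLocalizedModule (Submonoid.powers (f i)) (g i)]
    (Mij : ι → ι → Type u) [∀ i j, AddCommGroup (Mij i j)] [∀ i j, Module R (Mij i j)] (gij : ∀ i j, M →ₗ[R] Mij i j) [∀ i j, IsLocalizedModule (Submonoid.powers (f i * f j)) (gij i j)]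
    (ρ₁ : ∀ i j, Mi i →ₗ[R] Mij i j) (hρ₁ : ∀ i j, ρ₁ i j ∘ₗ g i = gij i j) (ρ₂ : ∀ i j, Mi j →ₗ[R] Mij i j) (hρ₂ : ∀ i j, ρ₂ i j ∘ₗ g j = gij i j) :
    (∀ m : M, (∀ i, g i m = 0) → m = 0) ∧
      ∀ s : ∀ i, Mi i, (∀ i j, ρ₁ i j (s i) = ρ₂ i j (s j)) → ∃ m : M, ∀ i, g i m = s i := by
  classical
  -- partition of unity for powers
  have hpu : ∀ N : ℕ, ∃ a : ι → R, ∑ i, a i * f i ^ N = 1 := by
    intro N
    have h1 := Ideal.span_pow_eq_top (Set.range f) hf N
    rw [← Set.range_comp] at h1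
    have h2 : (1 : R) ∈ Ideal.span (Set.range ((fun x : R => x ^ N) ∘ f)) := by
      rw [h1]; trivial
    obtain ⟨a, ha⟩ := Ideal.mem_span_range_iff_exists_fun.mp h2
    exact ⟨a, ha⟩
  have hpow_mem : ∀ (i : ι) (n : ℕ), f i ^ n ∈ Submonoid.powers (f i) := fun i n => ⟨n, rfl⟩
  -- part 1
  have part1 : ∀ m : M, (∀ i, g i m = 0) → m = 0 := by
    intro m hm
    have h1 : ∀ i, ∃ n : ℕ, f i ^ n • m = 0 := by
      intro i
      obtain ⟨⟨c, n, rfl⟩, hc⟩ := (IsLocalizedModule.eq_zero_iff (Submonoid.powers (f i)) (g i)).mp (hm i)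
      exact ⟨n, hc⟩
    choose n hn using h1
    set N := ∑ i, n i with hN
    have hle : ∀ i, n i ≤ N := fun i =>
      Finset.single_le_sum (f := n) (fun _ _ => Nat.zero_le _) (Finset.mem_univ i)
    have h2 : ∀ i, f i ^ N • m = 0 := by
      intro i
      rw [← Nat.sub_add_cancel (hle i), pow_add, mul_smul, hn i, smul_zero]
    obtain ⟨a, ha⟩ := hpu N
    calc m = (1 : R) • m := (one_smul R m).symm
      _ = (∑ i, a i * f i ^ N) • m := by rw [ha]
      _ = ∑ i, (a i * f i ^ N) • m := Finset.sum_smul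
      _ = 0 := Finset.sum_eq_zero fun i _ => by rw [mul_smul, h2 i, smul_zero]
  refine ⟨part1, ?_⟩
  intro s hs
  -- step A: common denominators
  have hA : ∃ (n : ℕ) (m : ι → M), ∀ i, f i ^ n • s i = g i (m i) := by
    have h1 : ∀ i, ∃ (n : ℕ) (m : M), f i ^ n • s i = g i m := by
      intro i
      obtain ⟨⟨m, ⟨c, n, rfl⟩⟩, hc⟩ := IsLocalizedModule.surj (Submonoid.powers (f i)) (g i) (s i)
      exact ⟨n, m, hc⟩
    choose n m hnm using h1
    set N := ∑ i, n i with hN
    have hle : ∀ i, n i ≤ N := fun i =>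
      Finset.single_le_sum (f := n) (fun _ _ => Nat.zero_le _) (Finset.mem_univ i)
    refine ⟨N, fun i => f i ^ (N - n i) • m i, fun i => ?_⟩
    rw [map_smul, ← hnm i, ← mul_smul, ← pow_add, Nat.sub_add_cancel (hle i)]
  obtain ⟨n, m, hnm⟩ := hA
  -- step B: compatibility up to a power
  have hB : ∃ k : ℕ, ∀ i j, (f i * f j) ^ k • (f j ^ n • m i) = (f i * f j) ^ k • (f i ^ n • m j) := by
    have h1 : ∀ i j, ∃ k : ℕ,
        (f i * f j) ^ k • (f j ^ n • m i) = (f i * f j) ^ k • (f i ^ n • m j) := by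
      intro i j
      have e : gij i j (f j ^ n • m i) = gij i j (f i ^ n • m j) := by
        have e1 : gij i j (f j ^ n • m i) = (f i ^ n * f j ^ n) • ρ₁ i j (s i) := by
          rw [← hρ₁ i j, LinearMap.comp_apply, map_smul, ← hnm i, map_smul, map_smul, ← mul_smul,
            mul_comm]
        have e2 : gij i j (f i ^ n • m j) = (f i ^ n * f j ^ n) • ρ₂ i j (s j) := by
          rw [← hρ₂ i j, LinearMap.comp_apply, map_smul, ← hnm j, map_smul, map_smul, ← mul_smul]
        rw [e1, e2, hs i j]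
      obtain ⟨⟨c, k, rfl⟩, hc⟩ :=
        IsLocalizedModule.exists_of_eq (S := Submonoid.powers (f i * f j)) (f := gij i j) e
      exact ⟨k, hc⟩
    choose k hk using h1
    set K := ∑ i, ∑ j, k i j with hK
    have hle : ∀ i j, k i j ≤ K := by
      intro i j
      calc k i j ≤ ∑ j', k i j' :=
            Finset.single_le_sum (f := k i) (fun _ _ => Nat.zero_le _) (Finset.mem_univ j)
        _ ≤ K := Finset.single_le_sum (f := fun i => ∑ j, k i j) (fun _ _ => Nat.zero_le _)
            (Finset.mem_univ i)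
    refine ⟨K, fun i j => ?_⟩
    rw [← Nat.sub_add_cancel (hle i j), pow_add, mul_smul, mul_smul, hk i j]
  obtain ⟨k, hk⟩ := hB
  -- new representatives
  set N := n + k with hN
  let m' : ι → M := fun i => f i ^ k • m i
  have hm' : ∀ i, f i ^ N • s i = g i (m' i) := by
    intro i
    show f i ^ N • s i = g i (f i ^ k • m i)
    rw [map_smul, ← hnm i, ← mul_smul, ← pow_add, add_comm]
  have hcomp : ∀ i j, f j ^ N • m' i = f i ^ N • m' j := by
    intro i j
    show f j ^ N • (f i ^ k • m i) = f i ^ N • (f j ^ k • m j)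
    have e1 : f j ^ N • (f i ^ k • m i) = (f i * f j) ^ k • (f j ^ n • m i) := by
      rw [← mul_smul, ← mul_smul, hN, pow_add, mul_pow]
      congr 1; ring
    have e2 : f i ^ N • (f j ^ k • m j) = (f i * f j) ^ k • (f i ^ n • m j) := by
      rw [← mul_smul, ← mul_smul, hN, pow_add, mul_pow]
      congr 1; ring
    rw [e1, e2, hk i j]
  obtain ⟨a, ha⟩ := hpu N
  refine ⟨∑ j, a j • m' j, fun i => ?_⟩
  have h3 : f i ^ N • (∑ j, a j • m' j) = m' i := by
    calc f i ^ N • (∑ j, a j • m' j) = ∑ j, a j • (f i ^ N • m' j) := by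
          rw [Finset.smul_sum]
          exact Finset.sum_congr rfl fun j _ => smul_comm _ _ _
      _ = ∑ j, (a j * f j ^ N) • m' i := by
          refine Finset.sum_congr rfl fun j _ => ?_
          rw [← hcomp i j, mul_smul]
      _ = (∑ j, a j * f j ^ N) • m' i := Finset.sum_smul.symm
      _ = m' i := by rw [ha, one_smul]
  have h4 : (⟨f i ^ N, hpow_mem i N⟩ : Submonoid.powers (f i)) • g i (∑ j, a j • m' j) =
      (⟨f i ^ N, hpow_mem i N⟩ : Submonoid.powers (f i)) • s i := by
    show f i ^ N • g i (∑ j, a j • m' j) = f i ^ N • s i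
    rw [← map_smul, h3, hm' i]
  exact IsLocalizedModule.smul_injective (g i) _ h4

end Groth.Agent.S9658
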