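import Groth.Statements.S9660
import Mathlib

set_option autoImplicit false
universe u
open CAlg

namespace Groth.Agent.S9660

/-- Let S be an ℕ-graded ring and I a homogeneous ideal of S. Then V₊(I) ⊆ Proj(S) is empty if and only
if S₊ ⊆ √I. -/
theorem result {R S : Type u} [CommRing R] [CommRing S] [Algebra R S] (𝒜 : ℕ → Submodule R S) [GradedAlgebra 𝒜] (I : HomogeneousIdeal 𝒜) :
    ProjectiveSpectrum.zeroLocus 𝒜 (I : Set S) = ∅ ↔ (HomogeneousIdeal.irrelevant 𝒜).toIdeal ≤ I.toIdeal.radical := by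
  constructor
  · intro hempty
    by_contra hnot
    obtain ⟨f, hf, hfI⟩ := SetLike.not_le_iff_exists.mp hnot
    rw [Ideal.IsHomogeneous.radical_eq I.isHomogeneous, Ideal.mem_sInf] at hfI
    push Not at hfI
    obtain ⟨J, ⟨hJh, hIJ, hJp⟩, hfJ⟩ := hfI
    let x : ProjectiveSpectrum 𝒜 :=
      { asHomogeneousIdeal := ⟨J, hJh⟩
        isPrime := hJp
        not_irrelevant_le := fun hle => hfJ (hle hf) }
    have hx : x ∈ ProjectiveSpectrum.zeroLocus 𝒜 (I : Set S) := by
      rw [ProjectiveSpectrum.mem_zeroLocus]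
      exact hIJ
    rw [hempty] at hx
    exact hx
  · intro hle
    rw [Set.eq_empty_iff_forall_notMem]
    intro x hx
    rw [ProjectiveSpectrum.mem_zeroLocus] at hx
    apply x.not_irrelevant_le
    intro f hf
    have h1 : f ∈ I.toIdeal.radical := hle hf
    have h2 : I.toIdeal.radical ≤ x.asHomogeneousIdeal.toIdeal := by
      rw [← x.isPrime.radical]
      exact Ideal.radical_mono hx
    exact h2 h1

end Groth.Agent.S9660
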