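import Groth.Statements.S9662
import Groth.Agent.H17.HS.GradedK
import Groth.Agent.H17.K0.Basic

set_option autoImplicit false
universe u
open CategoryTheory
open CAlg

namespace Groth.Agent.S9662

/-- Let S be a Noetherian ℕ-graded ring, presented as a graded algebra over a ring A mapping onto S₀,
whose irrelevant ideal S₊ is generated as an ideal by the degree-1 part S₁, and let M be a finitely
generated graded S-module, graded in nonnegative degrees. (The published statement allows modules
graded in all integer degrees; this row takes modules graded in degrees ≥ 0, which loses nothing for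
large n.) Write K'₀(A) for the Grothendieck group of finite A-modules (the free abelian group on the
finite A-modules modulo the relations given by short exact sequences) and [M_n] for the class of the
finite A-module M_n. Then n ↦ [M_n] is a numerical polynomial: there are a_0, …, a_{r-1} in K'₀(A)
with [M_n] = Σ_i C(n, i) · a_i for all large n. (When A → S₀ is bijective K'₀(A) is K'₀(S₀), the
group of the published statement; in general the classes are taken after restricting scalars along A
→ S₀.) -/
theorem result {A S : Type u} [CommRing A] [CommRing S] [Algebra A S] [IsNoetherianRing S] (𝒜 : ℕ → Submodule A S) [GradedAlgebra 𝒜]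
    (h0 : ∀ s ∈ 𝒜 0, s ∈ Set.range (algebraMap A S))
    (h1 : (HomogeneousIdeal.irrelevant 𝒜).toIdeal = Ideal.span (𝒜 1 : Set S))
    (M : Type u) [AddCommGroup M] [Module A M] [Module S M] [IsScalarTower A S M] [Module.Finite S M] (ℳ : ℕ → Submodule A M) [DirectSum.Decomposition ℳ] [SetLike.GradedSMul 𝒜 ℳ] :
    ∃ (r : ℕ) (a : Fin r → KZero.K0sub (fun X : ModuleCat.{u} A => Module.Finite A X)) (N : ℕ), ∀ n : ℕ, N ≤ n →
      KZero.clSub (fun X : ModuleCat.{u} A => Module.Finite A X) (ModuleCat.of A ↥(ℳ n)) = ∑ i : Fin r, ((n.choose (i : ℕ) : ℕ) : ℤ) • a i := by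
  classical
  set P : ObjectProperty (ModuleCat.{u} A) := fun X : ModuleCat.{u} A => Module.Finite A X
    with hP
  -- the additive function `N ↦ [N]`
  let L : Groth.Agent.H17.HS.AddFun.{u, u + 1} A (KZero.K0sub P) :=
    { val := fun N _ _ => KZero.clSub P (ModuleCat.of A N)
      additive := by
        intro N₁ N₂ N₃ _ _ _ _ _ _ f g hf hg hfg hN
        have h1' : IsNoetherian A N₁ := isNoetherian_of_injective f hf
        have h3' : IsNoetherian A N₃ :=
          isNoetherian_of_surjective g (LinearMap.range_eq_top.mpr hg)
        exact Groth.Agent.H17.K0.clSub_module_exact P f g hf hg hfg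
          (inferInstance : Module.Finite A N₁) (inferInstance : Module.Finite A N₂)
          (inferInstance : Module.Finite A N₃) }
  -- a finite set of generators of degree one
  have hfg : (Ideal.span (𝒜 1 : Set S)).FG := IsNoetherian.noetherian _
  obtain ⟨T, hTsub, hTspan⟩ := (Submodule.fg_span_iff_fg_span_finset_subset _).mp hfg
  have hMN : IsNoetherian S M := isNoetherian_of_isNoetherianRing_of_finite S M
  have hgen : ∀ b : S, b ∈ Algebra.adjoin A (T : Set S) :=
    Groth.Agent.H17.HS.mem_adjoin_of_irrelevant_eq_span 𝒜 h0 (T : Set S) hTsub (h1.trans hTspan)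
  have hnum := Groth.Agent.H17.HS.hilbert_serre_addFun L T (N := M) ⊥
    (by
      intro b hb y
      rw [Ideal.mem_bot.mp hb, zero_smul])
    (fun b => ⟨b, hgen b, by simp⟩)
    ℳ (Groth.Agent.H17.HS.isGrading_of_decomposition ℳ)
    (by
      intro b hb n y hy
      have := Groth.Agent.H17.HS.smul_mem_graded 𝒜 ℳ (hTsub hb) hy
      rwa [add_comm] at this)
    (fun n => Groth.Agent.H17.HS.isNoetherian_gradedPiece 𝒜 ℳ h0 n)
  obtain ⟨r, a, N, h⟩ := hnum
  refine ⟨r, fun i => a i, N, fun n hn => ?_⟩
  have := h n hn
  change KZero.clSub P (ModuleCat.of A ↥(ℳ n)) = _ at this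
  rw [this]
  unfold Groth.Agent.H17.HS.npf
  rw [Finset.sum_range]

end Groth.Agent.S9662
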