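import Groth.Statements.S9674
import Groth.Agent.H38.NagataResidue
import Groth.Agent.H38.ResidueFrac
import Groth.Agent.H38.MinPrimesComp
import Groth.Agent.H38.RelNormFinite

set_option autoImplicit false
universe u
open CategoryTheory CategoryTheory.Limits AlgebraicGeometry
open Mor

namespace Groth.Agent.S9674

/-- Let f : X ⟶ S be quasi-compact and quasi-separated. Assume every affine open of S has Nagata
coordinate ring, X is reduced, the irreducible components of X are locally finite (equivalently
every quasi-compact open of X has finitely many), and at each point x that is generic in a component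
of X, the residue field of x is essentially of finite type over the residue field of f x. Then the
normalization of S in X is finite over S. -/
theorem result {X S : Scheme.{u}} (f : X ⟶ S)
    [QuasiCompact f] [QuasiSeparated f] [IsReduced X]
    (hS : ∀ U : S.affineOpens, CAlg.IsNagata Γ(S, U))
    (hfin : LocallyFinite (fun Z : ↥(irreducibleComponents ↥X) => (Z : Set ↥X)))
    (hres : ∀ x : X, closure {x} ∈ irreducibleComponents ↥X → (f.residueFieldMap x).hom.EssFiniteType) :
    IsFinite f.fromNormalization := by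
  refine Groth.Agent.H38.RelNormFinite.isFinite_fromNormalization_of_finite_integralClosure f ?_
  intro U hU
  have hNag : CAlg.IsNagata Γ(S, U) := hS ⟨U, hU⟩
  haveI : IsNoetherianRing Γ(S, U) := hNag.1
  refine Groth.Agent.H38.RelNormFinite.finite_integralClosure_of_affine_pieces f hU ?_
  intro V hV e
  letI algV : Algebra Γ(S, U) Γ(X, V) := (f.appLE U V e).hom.toAlgebra
  refine Groth.Agent.H38.NagataIC.finite_integralClosure_of_minimalPrimes
    (Groth.Agent.H38.MinPrimesComp.finite_minimalPrimes_of_locallyFinite hfin hV) ?_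
  intro q hq
  haveI hqp : q.IsPrime := hq.1.1
  have hxV : hV.fromSpec ⟨q, hqp⟩ ∈ V := Groth.Agent.H38.fromSpec_mem hV _
  have hxU : f (hV.fromSpec ⟨q, hqp⟩) ∈ U := e hxV
  have hgen : closure {hV.fromSpec ⟨q, hqp⟩} ∈ irreducibleComponents X :=
    Groth.Agent.H38.MinPrimesComp.closure_fromSpec_mem_irreducibleComponents hV ⟨q, hqp⟩ hq
  have hess := hres _ hgen
  refine ⟨X.residueField (hV.fromSpec ⟨q, hqp⟩), inferInstance,
    (X.evaluation V (hV.fromSpec ⟨q, hqp⟩) hxV).hom, ?_, ?_⟩
  · rw [Groth.Agent.H38.ker_evaluation hV _ hxV, Groth.Agent.H38.primeIdealOf_fromSpec hV ⟨q, hqp⟩ hxV]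
  · have key : (X.evaluation V (hV.fromSpec ⟨q, hqp⟩) hxV).hom.comp (algebraMap Γ(S, U) Γ(X, V)) =
        (f.residueFieldMap (hV.fromSpec ⟨q, hqp⟩)).hom.comp
          (S.evaluation U (f (hV.fromSpec ⟨q, hqp⟩)) hxU).hom := by
      have h1 := Scheme.evaluation_naturality f (V := U) (hV.fromSpec ⟨q, hqp⟩) hxU
      have h2 : f.appLE U V e ≫ X.evaluation V (hV.fromSpec ⟨q, hqp⟩) hxV =
          f.app U ≫ X.evaluation (f ⁻¹ᵁ U) (hV.fromSpec ⟨q, hqp⟩) hxU := by
        rw [Scheme.Hom.appLE, Category.assoc]
        congr 1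
        exact X.presheaf.germ_res_assoc (homOfLE e) _ hxV _
      rw [← h1] at h2
      exact congrArg CommRingCat.Hom.hom h2
    have hmain := Groth.Agent.H38.NagataResidue.finite_integralClosure_of_nagata hNag
      (S.evaluation U (f (hV.fromSpec ⟨q, hqp⟩)) hxU).hom
      (f.residueFieldMap (hV.fromSpec ⟨q, hqp⟩)).hom hess
      (Groth.Agent.H38.ResidueFrac.exists_evaluation_mul_eq hU _ hxU)
    have hgoal : ∀ φ : Γ(S, U) →+* X.residueField (hV.fromSpec ⟨q, hqp⟩),
        φ = (f.residueFieldMap (hV.fromSpec ⟨q, hqp⟩)).hom.comp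
          (S.evaluation U (f (hV.fromSpec ⟨q, hqp⟩)) hxU).hom →
        (letI := φ.toAlgebra
         Module.Finite Γ(S, U) (integralClosure Γ(S, U) (X.residueField (hV.fromSpec ⟨q, hqp⟩)))) := by
      rintro _ rfl
      exact hmain
    exact hgoal _ key

end Groth.Agent.S9674
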