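import Groth.Statements.S9681
-- import your own Groth.Agent.* helpers here
import Groth.Agent.H6.BiratResidue

set_option autoImplicit false
universe u
open CategoryTheory CategoryTheory.Limits AlgebraicGeometry
open Mor

namespace Groth.Agent.S9681

/-- Suppose X and Y are integral S-schemes, each locally of finite type over S, with generic points x
and y. Then X and Y are S-birational (they admit S-isomorphic nonempty opens) if and only if x and y
map to the same point s of S and the residue fields of x and y are isomorphic as extensions of the
residue field of s. -/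
theorem result {S X Y : Scheme.{u}}
    [IsIntegral X] [IsIntegral Y] (sX : X ⟶ S) (sY : Y ⟶ S)
    [LocallyOfFiniteType sX] [LocallyOfFiniteType sY] :
    Scheme.BirationalOver sX sY ↔
      ∃ (hs : sX.base (genericPoint ↥X) = sY.base (genericPoint ↥Y))
        (e : X.residueField (genericPoint ↥X) ≅ Y.residueField (genericPoint ↥Y)),
        sX.residueFieldMap (genericPoint ↥X) ≫ e.hom =
          eqToHom (congrArg S.residueField hs) ≫ sY.residueFieldMap (genericPoint ↥Y) := by
  have := Groth.Agent.H6.BiratResidue.isIso_residue_genericPoint X
  have := Groth.Agent.H6.BiratResidue.isIso_residue_genericPoint Y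
  rw [← Groth.Agent.H6.BiratResidue.stalk_iso_iff_residue_iso sX sY (genericPoint X)
    (genericPoint Y)]
  constructor
  · rintro ⟨p, hp⟩
    exact Groth.Agent.H6.BiratStalk.exists_stalk_iso_of_partialIso sX sY p hp
  · rintro ⟨hs, e, he⟩
    have he' := Groth.Agent.H6.BiratStalk.fromSpecStalk_comp_of_stalkMap_comp sX sY hs e he
    obtain ⟨U, V, i, hx, hy, hi⟩ := Groth.Agent.H6.BiratStalk.exists_iso_of_stalk_iso sX sY e he'
      (fun φ h => spread_out_of_isGermInjective' sX sY φ h)
      (fun ψ h => spread_out_of_isGermInjective' sY sX ψ h)
    exact Groth.Agent.H6.BiratStalk.birationalOver_of_iso_opens sX sY U V i hx hy hi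

end Groth.Agent.S9681
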