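import Groth.Statements.S9682
import Mathlib
import Groth.Agent.H17.QFGeneric

set_option autoImplicit false
universe u
open CategoryTheory CategoryTheory.Limits AlgebraicGeometry
open Mor

namespace Groth.Agent.S9682

/-- Take f : X ⟶ Y locally of finite type and η the generic point of some irreducible component of Y.
Three conditions turn out to coincide: (1) each point of X mapping to η is the generic point of some
irreducible component of X; (2) f is quasi-finite at every point over η; (3) f is quasi-finite at
each point over η that is generic in some irreducible component of X. Stated as (1) iff (2) together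
with (1) iff (3). -/
theorem result {X Y : Scheme.{u}} (f : X ⟶ Y)
    [LocallyOfFiniteType f] (η : Y) (hη : closure {η} ∈ irreducibleComponents ↥Y) :
    ((∀ x : X, f.base x = η → closure {x} ∈ irreducibleComponents ↥X) ↔
      (∀ x : X, f.base x = η → f.QuasiFiniteAt x)) ∧
    ((∀ x : X, f.base x = η → closure {x} ∈ irreducibleComponents ↥X) ↔
      (∀ x : X, f.base x = η → closure {x} ∈ irreducibleComponents ↥X → f.QuasiFiniteAt x)) := by
  open AlgebraicGeometry Groth.Agent.H17 in
  -- η has no proper generization
  have hηmax : ∀ y : Y, y ⤳ η → y = η := fun y hy =>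
    eq_of_specializes_of_mem_irreducibleComponents hη hy
  -- (2) → (1) in pointwise form
  have h21 : ∀ x : X, f.base x = η → f.QuasiFiniteAt x →
      closure {x} ∈ irreducibleComponents ↥X := by
    intro x hx hq
    obtain ⟨x', hsp, hx'⟩ := exists_specializes_mem_irreducibleComponents x
    have hfx' : f.base x' = η := hηmax _ (hx ▸ hsp.map f.continuous)
    have : x' = x := eq_of_specializes_of_quasiFiniteAt hq hsp (hfx'.trans hx.symm)
    rwa [this] at hx'
  -- (1) → (2)
  have h12 : (∀ x : X, f.base x = η → closure {x} ∈ irreducibleComponents ↥X) →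
      ∀ x : X, f.base x = η → f.QuasiFiniteAt x := by
    intro h1 x hx
    rw [Scheme.Hom.quasiFiniteAt_iff_isOpen_singleton_asFiber]
    have hJ : JacobsonSpace (f.fiber (f.base x)) := jacobsonSpace_fiber f _
    have hN : IsLocallyNoetherian (f.fiber (f.base x)) := isLocallyNoetherian_fiber f _
    have hT1 : T1Space (f.fiber (f.base x)) := by
      refine ⟨fun q => ?_⟩
      obtain ⟨c, hcq, hc⟩ := nonempty_inter_closedPoints (Z := closure {q})
        ⟨q, subset_closure (Set.mem_singleton q)⟩ isClosed_closure.isLocallyClosed
      have hsp : q ⤳ c := specializes_iff_mem_closure.mpr hcq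
      have hsp' : f.fiberι (f.base x) q ⤳ f.fiberι (f.base x) c :=
        hsp.map (f.fiberι (f.base x)).continuous
      have hfc : f.base (f.fiberι (f.base x) c) = η := by
        have : f.fiberι (f.base x) c ∈ Set.range (f.fiberι (f.base x)) := Set.mem_range_self c
        rw [f.range_fiberι] at this
        exact this.trans hx
      have heq := eq_of_specializes_of_mem_irreducibleComponents (h1 _ hfc) hsp'
      have : q = c := (f.fiberι (f.base x)).isEmbedding.injective heq
      rw [this]
      exact hc
    have := discreteTopology_of_t1 (f.fiber (f.base x))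
    exact isOpen_discrete _
  -- (3) → (1)
  have h31 : (∀ x : X, f.base x = η → closure {x} ∈ irreducibleComponents ↥X → f.QuasiFiniteAt x) →
      ∀ x : X, f.base x = η → closure {x} ∈ irreducibleComponents ↥X := by
    intro h3 x hx
    obtain ⟨x', hsp, hx'⟩ := exists_specializes_mem_irreducibleComponents x
    have hfx' : f.base x' = η := hηmax _ (hx ▸ hsp.map f.continuous)
    have hq := h3 x' hfx' hx'
    have : x = x' := eq_of_specializes_of_quasiFiniteAt' hq hsp (hx.trans hfx'.symm)
    rwa [this]
  refine ⟨⟨h12, fun h2 x hx => h21 x hx (h2 x hx)⟩, ⟨fun h1 x hx _ => h12 h1 x hx, h31⟩⟩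

end Groth.Agent.S9682
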