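import Groth.Statements.S9685
import Mathlib
import Groth.Agent.H48.ChainLiftClosed
import Groth.Agent.H48.CycDim
import Groth.Agent.H51.FibreDimTrdeg

set_option autoImplicit false
universe u
open CategoryTheory CategoryTheory.Limits AlgebraicGeometry
open Mor

namespace Groth.Agent.S9685

/-- Let X and Y be integral schemes with Y locally Noetherian and f : X ⟶ Y dominant and locally of
finite type. If n is the transcendence degree of the function field of X over the function field of
Y (computed on residue fields at the generic points), then dim X ≤ dim Y + n, and equality holds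
when the underlying map of f is closed. -/
theorem result {X Y : Scheme.{u}} [IsIntegral X] [IsIntegral Y]
    [IsLocallyNoetherian Y] (f : X ⟶ Y) [IsDominant f] [LocallyOfFiniteType f] (n : ℕ)
    (hn : letI := (f.residueFieldMap (genericPoint ↥X)).hom.toAlgebra
      Algebra.trdeg (Y.residueField (f.base (genericPoint ↥X))) (X.residueField (genericPoint ↥X)) = n) :
    topologicalKrullDim ↥X ≤ topologicalKrullDim ↥Y + n ∧
      (IsClosedMap f.base → topologicalKrullDim ↥X = topologicalKrullDim ↥Y + n) := by
  classical
  set ξ := genericPoint ↥X with hξdef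
  have hgen : ∀ ξ' : X, closure {ξ'} ∈ irreducibleComponents ↥X → ξ' = ξ := by
    intro ξ' h
    rw [irreducibleComponents_eq_singleton, Set.mem_singleton_iff] at h
    exact ((genericPoint_spec ↥X).eq (isGenericPoint_def.mpr h)).symm
  have hdense : Dense (Set.range f) := IsDominant.denseRange (f := f)
  have hfξ : f ξ = genericPoint ↥Y :=
    Groth.Agent.H48.CycDim.map_genericPoint_of_dense f hdense
  refine ⟨?_, fun hc => ?_⟩
  · refine Groth.Agent.H48.DimIneqSch2.topologicalKrullDim_le_add f n ?_
    intro ξ' h
    rw [hgen ξ' h]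
    exact le_of_eq hn
  · refine le_antisymm ?_ ?_
    · refine Groth.Agent.H48.DimIneqSch2.topologicalKrullDim_le_add f n ?_
      intro ξ' h
      rw [hgen ξ' h]
      exact le_of_eq hn
    -- the generic fibre has dimension at least `n`
    have h1 := Groth.Agent.H51.fibreDimAt_eq_dim_stalk_add_trdeg f ξ
    have hres : Dual3.resTrdeg f ξ = n := hn
    rw [hres] at h1
    have h2 : (n : WithBot ℕ∞) ≤ FlatMor.fibreDimAt f ξ := by
      rw [h1]
      have h0 : (0 : WithBot ℕ∞) ≤
          ringKrullDim ((f.fiber (f ξ)).presheaf.stalk (f.asFiber ξ)) :=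
        ringKrullDim_nonneg_of_nontrivial
      calc (n : WithBot ℕ∞) = 0 + (n : WithBot ℕ∞) := by rw [zero_add]
        _ ≤ _ := by
          refine add_le_add h0 (le_of_eq ?_)
          simp
    have h3 : FlatMor.fibreDimAt f ξ ≤ topologicalKrullDim ↥(f.fiber (f ξ)) := by
      unfold FlatMor.fibreDimAt FlatMor.localDim
      refine (iInf_le _ ⟨⊤, trivial⟩).trans ?_
      exact topologicalKrullDim_subspace_le _ _
    have h4 : (n : WithBot ℕ∞) ≤ topologicalKrullDim ↥(f.fiber (f ξ)) := h2.trans h3
    rw [Groth.Agent.H48.DimIneqSch2.topologicalKrullDim_eq_krullDim] at h4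
    obtain ⟨r₀, hr₀⟩ := Order.le_krullDim_iff.mp h4
    -- transport the chain to `X`
    have hmono : StrictMono (f.fiberι (f ξ) : f.fiber (f ξ) → X) := by
      intro a b hab
      have e : ∀ s t : f.fiber (f ξ), f.fiberι (f ξ) s ⤳ f.fiberι (f ξ) t ↔ s ⤳ t :=
        fun s t => (f.fiberι (f ξ)).isEmbedding.isInducing.specializes_iff
      refine lt_of_le_not_ge ?_ ?_
      · exact Scheme.le_iff_specializes.mpr ((e _ _).mpr (Scheme.le_iff_specializes.mp hab.le))
      · intro hle
        exact hab.not_ge (Scheme.le_iff_specializes.mpr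
          ((e _ _).mp (Scheme.le_iff_specializes.mp hle)))
    let r : LTSeries X := r₀.map _ hmono
    have hrlen : r.length = n := hr₀
    have hrhead : f r.head = f ξ := by
      have : r.head = f.fiberι (f ξ) r₀.head := rfl
      rw [this]
      have hmem : f.fiberι (f ξ) r₀.head ∈ Set.range (f.fiberι (f ξ)) := Set.mem_range_self _
      rw [Scheme.Hom.range_fiberι] at hmem
      exact hmem
    -- heights
    have hA := Groth.Agent.H48.ChainLiftClosed.height_map_le_of_isClosedMap f hc r.head
    have hB := Groth.Agent.H48.ChainLiftClosed.height_head_add_length_le r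
    have hC : Order.krullDim Y ≤ ((Order.height (f r.head) : ℕ∞) : WithBot ℕ∞) := by
      rw [Order.krullDim_eq_iSup_height]
      refine iSup_le fun y => ?_
      have hy : y ≤ f r.head := by
        rw [hrhead, hfξ]
        exact Scheme.le_iff_specializes.mpr (genericPoint_specializes y)
      exact WithBot.coe_le_coe.mpr (Order.height_mono hy)
    have hD : ((Order.height r.last : ℕ∞) : WithBot ℕ∞) ≤ Order.krullDim X :=
      Order.height_le_krullDim r.last
    rw [Groth.Agent.H48.DimIneqSch2.topologicalKrullDim_eq_krullDim,
      Groth.Agent.H48.DimIneqSch2.topologicalKrullDim_eq_krullDim]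
    refine le_trans ?_ hD
    have hE : ((Order.height (f r.head) + (n : ℕ∞) : ℕ∞) : WithBot ℕ∞) ≤
        ((Order.height r.last : ℕ∞) : WithBot ℕ∞) := by
      refine WithBot.coe_le_coe.mpr ?_
      rw [← hrlen]
      exact (add_le_add_left hA _).trans hB
    refine le_trans ?_ hE
    rw [WithBot.coe_add]
    exact add_le_add hC (le_of_eq (by simp))

end Groth.Agent.S9685
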