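import Groth.Statements.S9693
import Groth.Agent.H48.ProjSpace

set_option autoImplicit false
universe u
open CategoryTheory CategoryTheory.Limits AlgebraicGeometry
open Mor

namespace Groth.Agent.S9693

/-- A base change of an H-projective morphism (a closed immersion into some P^n over the base followed
by the projection) is H-projective. -/
theorem result {X S S' : Scheme.{u}} (f : X ⟶ S) (hf : RelProj.IsHProjective f)
    (g : S' ⟶ S) : RelProj.IsHProjective (pullback.snd f g) := by
  obtain ⟨n, i, hi, hif⟩ := hf
  obtain ⟨i', hi'1, hi'2⟩ := Groth.Agent.H48.isPullback_lift_projSpaceOver n f g i hif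
  refine ⟨n, i', ?_, hi'1⟩
  exact MorphismProperty.of_isPullback (P := @IsClosedImmersion) hi'2.flip hi

end Groth.Agent.S9693
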