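import Groth.Statements.S9694
import Groth.Agent.H18.UC.Core
import Groth.Agent.H18.STL.RestrictSection

set_option autoImplicit false
universe u
open CategoryTheory CategoryTheory.Limits AlgebraicGeometry
open Mor

namespace Groth.Agent.S9694

/-- Let f : X ⟶ S be universally closed, L an O_X-module ample relative to f and s a global section of
L, viewed as a morphism O_X ⟶ L. Then the open subscheme X_s of X where s generates L is affine over
S: the inclusion of X_s followed by f is an affine morphism. -/
theorem result {X S : Scheme.{u}} (f : X ⟶ S) [UniversallyClosed f]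
    (L : X.Modules) (hL : RelAmple.IsRelAmple f L) (s : Coh.structureModule X ⟶ L) :
    IsAffineHom ((CohB1.genLocus L s).ι ≫ f) := by
  refine ⟨fun V hV => ?_⟩
  set G := CohB1.genLocus L s with hG
  set W := f ⁻¹ᵁ V with hW
  haveI : IsAffine (V : Scheme.{u}) := hV
  haveI : UniversallyClosed (f ∣_ V) := IsZariskiLocalAtTarget.restrict ‹_› V
  have hA : CohB1.IsAmple (L.restrict W.ι) := hL.2 ⟨V, hV⟩
  have h1 := Groth.Agent.H18.UC.isAffineOpen_genLocus_of_universallyClosed (f ∣_ V) hA
    (Groth.Agent.H18.STL.restrictSection s W)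
  rw [Groth.Agent.H18.STL.genLocus_restrictSection] at h1
  have h2 := h1.image_of_isOpenImmersion W.ι
  rw [Scheme.Hom.image_preimage_eq_opensRange_inf, Scheme.Opens.opensRange_ι] at h2
  have h3 : IsAffineOpen (G.ι ''ᵁ ((G.ι ≫ f) ⁻¹ᵁ V)) := by
    have : (G.ι ≫ f) ⁻¹ᵁ V = G.ι ⁻¹ᵁ W := rfl
    rw [this, Scheme.Hom.image_preimage_eq_opensRange_inf, Scheme.Opens.opensRange_ι, inf_comm]
    exact h2
  exact (G.ι.isAffineOpen_iff_of_isOpenImmersion).1 h3

end Groth.Agent.S9694
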