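import Groth.Statements.S9695
import Groth.Agent.H18.VA.RelAmpleOfVA
import Groth.Agent.S4380

set_option autoImplicit false
universe u
open CategoryTheory CategoryTheory.Limits AlgebraicGeometry
open Mor

namespace Groth.Agent.S9695

/-- Suppose f : X ⟶ S is a morphism of finite type and L is an invertible O_X-module. Then L is
f-relatively ample exactly when S can be covered by open subsets V with the following property: for
every such V there is an integer d ≥ 1 for which the tensor power L^{⊗d}, restricted to f⁻¹(V), is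
isomorphic to the pullback of O(1) under some V-immersion of f⁻¹(V) into a projective space P^n_V. -/
theorem result {X S : Scheme.{u}} (f : X ⟶ S)
    [LocallyOfFiniteType f] [QuasiCompact f] (L : X.Modules) (hLinv : PicF.IsInvertible L) :
    RelAmple.IsRelAmple f L ↔
      ∃ (ι : Type u) (V : ι → S.Opens), (⨆ j, V j) = ⊤ ∧
        ∀ j, ∃ d : ℕ, 0 < d ∧
          RelAmple.IsRelVeryAmplePn (f ∣_ V j) ((CohB1.tensorPow L d).restrict (f ⁻¹ᵁ V j).ι) := by
  constructor
  · intro hL
    refine ⟨↥S.affineOpens, fun j => j.1, ?_, fun j => ?_⟩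
    · exact iSup_affineOpens_eq_top S
    · have hA : CohB1.IsAmple (L.restrict (f ⁻¹ᵁ j.1).ι) := hL.2 j
      obtain ⟨𝔘, c, e, hc⟩ := Groth.Agent.H18.STL.exists_cover_cocycle hLinv
      have hcU := hc.restrict (f ⁻¹ᵁ j.1)
      have hc' := Groth.Agent.H18.STL.hasCocycle_unit (𝔘.restrict (f ⁻¹ᵁ j.1))
      obtain ⟨d₀, h⟩ := Groth.Agent.H18.VA.exists_forall_isRelVeryAmplePn (f ∣_ j.1) hA hcU hc'
      refine ⟨max d₀ 1, lt_of_lt_of_le Nat.zero_lt_one (le_max_right _ _), ?_⟩
      have h1 := (hc.lpow (max d₀ 1)).restrict (f ⁻¹ᵁ j.1)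
      rw [Groth.Agent.H18.STL.Cover.Cocycle.restrict_pow, ← mul_one (_ ^ _)] at h1
      exact h _ (le_max_left _ _) _ _ h1
  · rintro ⟨ι, V, hV, h⟩
    refine (Groth.Agent.S4380.result f L V hV).2 (fun j => ?_)
    obtain ⟨d, hd, hva⟩ := h j
    have h1 := Groth.Agent.H18.VA.isRelAmple_of_isRelVeryAmplePn (f ∣_ V j) hva
    have hLr : PicF.IsInvertible (L.restrict (f ⁻¹ᵁ V j).ι) :=
      Groth.Agent.H67.ParaMono.isInvertible_restrict _ L hLinv
    refine (Groth.Agent.H18.STL.isRelAmple_tensorPow_iff (f ∣_ V j) hLr hd).2 ?_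
    obtain ⟨𝔘, c, e, hc⟩ := Groth.Agent.H18.STL.exists_cover_cocycle hLinv
    have w₁ := (hc.lpow d).restrict (f ⁻¹ᵁ V j)
    have w₂ := (hc.restrict (f ⁻¹ᵁ V j)).lpow d
    rw [Groth.Agent.H18.STL.Cover.Cocycle.restrict_pow] at w₁
    exact ⟨h1.1, fun W => Groth.Agent.H18.STL.isAmple_of_hasCocycle (w₁.restrict _)
      (w₂.restrict _) (h1.2 W)⟩

end Groth.Agent.S9695
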