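import Groth.Statements.S9700
import Groth.Agent.H22.CenterDense

set_option autoImplicit false
universe u
open CategoryTheory CategoryTheory.Limits AlgebraicGeometry
open Mor

namespace Groth.Agent.S9700

/-- Let f : X ⟶ S and h : U ⟶ X be quasi-compact with h(U) dense in X. Suppose each valuative square
over f, whose map Spec K ⟶ X factors through h, has a unique diagonal lift. Then f is universally
closed, and f is also separated provided it is quasi-separated. -/
theorem result {U X S : Scheme.{u}} (f : X ⟶ S) (h : U ⟶ X)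
    [QuasiCompact f] [QuasiCompact h] (hd : DenseRange h.base)
    (H : ∀ sq : ValuativeCommSq f, (∃ i : Spec (.of sq.K) ⟶ U, i ≫ h = sq.i₁) →
      Nonempty (Unique sq.commSq.LiftStruct)) :
    UniversallyClosed f ∧ (QuasiSeparated f → IsSeparated f) := by
  have hE : ∀ u : U, Groth.Agent.H22.CenterLemma.ExistsLiftAt (L := U.residueField u) f
      (U.fromSpecResidueField u ≫ h) := by
    intro u R i₂ w
    have hsq : CommSq (U.fromSpecResidueField u ≫ h)
        (Spec.map (CommRingCat.ofHom (algebraMap R (U.residueField u)))) f i₂ := ⟨w⟩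
    let sq : ValuativeCommSq f := ⟨R, U.residueField u, U.fromSpecResidueField u ≫ h, i₂, hsq⟩
    obtain ⟨huniq⟩ := H sq ⟨U.fromSpecResidueField u, rfl⟩
    let l := huniq.default
    exact ⟨l.l, l.fac_left, l.fac_right⟩
  have hU : ∀ u : U, Groth.Agent.H22.CenterLemma.UniqueLiftAt (L := U.residueField u) f
      (U.fromSpecResidueField u ≫ h) := by
    intro u R l₁ l₂ h1 h2 h12
    have hsq : CommSq (U.fromSpecResidueField u ≫ h)
        (Spec.map (CommRingCat.ofHom (algebraMap R (U.residueField u)))) f (l₁ ≫ f) :=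
      ⟨by rw [← h1, Category.assoc]; rfl⟩
    let sq : ValuativeCommSq f :=
      ⟨R, U.residueField u, U.fromSpecResidueField u ≫ h, l₁ ≫ f, hsq⟩
    obtain ⟨huniq⟩ := H sq ⟨U.fromSpecResidueField u, rfl⟩
    let s₁ : sq.commSq.LiftStruct := ⟨l₁, h1, rfl⟩
    let s₂ : sq.commSq.LiftStruct := ⟨l₂, h2, h12.symm⟩
    exact congrArg CommSq.LiftStruct.l ((huniq.uniq s₁).trans (huniq.uniq s₂).symm)
  refine ⟨Groth.Agent.H22.CenterDense.universallyClosed_of_dense f h hd hE hU, fun hqs => ?_⟩
  exact Groth.Agent.H22.CenterDense.isSeparated_of_dense f h hd hU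


end Groth.Agent.S9700
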