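import Groth.Statements.S9701
import Groth.Agent.H22.ExtendProper
import Groth.Agent.H22.GlueOpens
import Groth.Agent.H22.GermInjDomain

set_option autoImplicit false
universe u
open CategoryTheory CategoryTheory.Limits AlgebraicGeometry
open Mor

namespace Groth.Agent.S9701

/-- Let p : X ⟶ S and q : Y ⟶ S with q proper, let x be a point of X whose local ring is a valuation
ring, U ⊆ X an open with x in the closure of U, and f : U ⟶ Y a morphism over S. Assume that X is
Noetherian, or else that X is reduced and has only finitely many irreducible components. Then there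
are an open U' of X containing U and x and a morphism f' : U' ⟶ Y over S extending f. -/
theorem result {X Y S : Scheme.{u}} (p : X ⟶ S) (q : Y ⟶ S)
    [IsProper q] (x : X) (U : X.Opens) (f : (U : Scheme.{u}) ⟶ Y) (hf : f ≫ q = U.ι ≫ p)
    (hx : x ∈ closure (U : Set ↥X))
    (hX : (IsReduced X ∧ (irreducibleComponents ↥X).Finite) ∨ IsNoetherian X)
    (hdom : IsDomain (X.presheaf.stalk x)) (hval : @ValuationRing (X.presheaf.stalk x) _ hdom) :
    ∃ (U' : X.Opens) (hUU' : U ≤ U'), x ∈ U' ∧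
      ∃ f' : (U' : Scheme.{u}) ⟶ Y, f' ≫ q = U'.ι ≫ p ∧ X.homOfLE hUU' ≫ f' = f := by
  classical
  have hgi : X.IsGermInjectiveAt x := by
    rcases hX with ⟨hred, hfin⟩ | hN
    · exact H22.GermInjDomain.isGermInjectiveAt_of_isDomain_stalk hfin x
    · infer_instance
  obtain ⟨W₀, hxW₀, hW₀, hinj⟩ := X.exists_germ_injective x
  obtain ⟨w, hwW₀, hwU⟩ := mem_closure_iff.mp hx W₀ W₀.2 hxW₀
  obtain ⟨V, hxV, v, hv, hvf⟩ := H22.exists_extension_of_valuationRing_stalk p q U f hf x W₀
    hW₀ hxW₀ hinj ⟨w, hwW₀, hwU⟩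
  obtain ⟨k, hk1, hk2⟩ := H22.exists_glue_sup U V f v hvf.symm
  refine ⟨U ⊔ V, le_sup_left, Or.inr hxV, k, ?_, hk1⟩
  apply H22.hom_ext_sup
  · rw [← Category.assoc, hk1, hf, Scheme.homOfLE_ι_assoc]
  · rw [← Category.assoc, hk2, hv, Scheme.homOfLE_ι_assoc]


end Groth.Agent.S9701
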