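import Groth.Statements.S9702
import Groth.Agent.H20.GenericFiniteIntegral

set_option autoImplicit false
universe u
open CategoryTheory CategoryTheory.Limits AlgebraicGeometry
open Mor

namespace Groth.Agent.S9702

/-- Let X, Y be integral and f : X ⟶ Y dominant and locally of finite type, with ξ the generic point of
X (so f ξ is the generic point of Y). Then the following are equivalent: the residue field of ξ is
finite over that of f ξ; some nonempty affine opens U ⊆ X and V ⊆ Y with f(U) ⊆ V have U ⟶ V finite;
every point of X that f sends to the generic point of Y equals ξ. Under the extra assumption that f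
is quasi-compact or separated, these are also equivalent to: f⁻¹(V) ⟶ V is finite for some nonempty
affine open V ⊆ Y. (The published statement also lists transcendence degree 0 of the function field
extension, which for this finitely generated extension is equivalent to finiteness; this row omits
it.) -/
theorem result {X Y : Scheme.{u}} [IsIntegral X] [IsIntegral Y] (f : X ⟶ Y)
    [IsDominant f] [LocallyOfFiniteType f] :
    let ξ := genericPoint ↥X
    let A := letI := (f.residueFieldMap ξ).hom.toAlgebra
      Module.Finite (Y.residueField (f.base ξ)) (X.residueField ξ)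
    let B := ∃ (U : X.Opens) (V : Y.Opens) (hUV : U ≤ f ⁻¹ᵁ V), IsAffineOpen U ∧ IsAffineOpen V ∧
      Nonempty ↥U ∧ IsFinite (f.resLE V U hUV)
    let C := ∀ x : X, f.base x = genericPoint ↥Y → x = ξ
    let D := ∃ V : Y.Opens, IsAffineOpen V ∧ Nonempty ↥V ∧ IsFinite (f ∣_ V)
    (A ↔ B) ∧ (A ↔ C) ∧ (IsSeparated f ∨ QuasiCompact f → (A ↔ D)) := by
  intro ξ A B C D
  have hAQ : f.QuasiFiniteAt (genericPoint X) ↔ A :=
    Groth.Agent.H20.quasiFiniteAt_genericPoint_iff f
  have hQC : f.QuasiFiniteAt (genericPoint X) ↔ C :=
    Groth.Agent.H20.quasiFiniteAt_genericPoint_iff_forall_eq f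
  have hfξ : f (genericPoint X) = genericPoint Y :=
    Groth.Agent.H20.map_genericPoint_of_isDominant f
  refine ⟨?_, hAQ.symm.trans hQC, ?_⟩
  · rw [← hAQ]
    constructor
    · intro hQ
      exact Groth.Agent.H20.exists_isFinite_resLE_of_forall_eq f (hQC.mp hQ)
    · rintro ⟨U, V, hUV, hU, hV, hne, hfin⟩
      haveI := hfin
      exact Groth.Agent.H20.quasiFiniteAt_of_isFinite_resLE f hUV
        (((genericPoint_spec X).mem_open_set_iff U.isOpen).mpr
          (by obtain ⟨u⟩ := hne; exact ⟨u.1, trivial, u.2⟩))
  · intro hsq
    rw [← hAQ]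
    constructor
    · intro hQ
      rcases hsq with h | h
      · exact Groth.Agent.H20.exists_isFinite_morphismRestrict_of_forall_eq_of_isSeparated f
          (hQC.mp hQ)
      · exact Groth.Agent.H20.exists_isFinite_morphismRestrict_of_forall_eq_of_quasiCompact f
          (hQC.mp hQ)
    · rintro ⟨V, hV, hne, hfin⟩
      haveI := hfin
      refine Groth.Agent.H20.quasiFiniteAt_of_isFinite_morphismRestrict f (V := V) ?_
      rw [hfξ]
      exact ((genericPoint_spec Y).mem_open_set_iff V.isOpen).mpr
        (by obtain ⟨v⟩ := hne; exact ⟨v.1, trivial, v.2⟩)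

end Groth.Agent.S9702
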