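import Groth.Statements.S9723
import Mathlib

set_option autoImplicit false
universe u
open FlatMor

namespace Groth.Agent.S9723

open AlgebraicGeometry CategoryTheory in
/-- Let f : X ⟶ S be formally étale (unique infinitesimal lifting against square-zero thickenings of
affine schemes), and let U be an open subscheme of X and V an open subscheme of S such that f maps U
into V. Then the restricted morphism U ⟶ V is formally étale. -/
theorem result {X S : Scheme.{u}} (f : X ⟶ S) (hf : MoreMor.IsFormallyEtaleHom f)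
    (U : X.Opens) (V : S.Opens) (h : U ≤ f ⁻¹ᵁ V) : MoreMor.IsFormallyEtaleHom (f.resLE V U h) := by
  intro A _ I hI a b hab
  have hab' : Spec.map (CommRingCat.ofHom (Ideal.Quotient.mk I)) ≫ (b ≫ V.ι) = (a ≫ U.ι) ≫ f := by
    rw [← Category.assoc, hab, Category.assoc, Category.assoc, Scheme.Hom.resLE_comp_ι]
  obtain ⟨l', ⟨hl'1, hl'2⟩, hl'uniq⟩ := hf A I hI (a ≫ U.ι) (b ≫ V.ι) hab'
  have hsurj : ∀ x : ↥(Spec (CommRingCat.of A)), ∃ y : ↥(Spec (CommRingCat.of (A ⧸ I))),
      (Spec.map (CommRingCat.ofHom (Ideal.Quotient.mk I))) y = x := by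
    intro x
    let x' : PrimeSpectrum A := x
    have := x'.2
    have hIx : I ≤ x'.asIdeal := by
      apply Ideal.IsPrime.le_of_pow_le (n := 2)
      rw [hI]; exact bot_le
    have hx : x' ∈ Set.range (PrimeSpectrum.comap (Ideal.Quotient.mk I)) := by
      rw [range_comap_of_surjective _ _ Ideal.Quotient.mk_surjective, Ideal.mk_ker,
        PrimeSpectrum.mem_zeroLocus]
      exact hIx
    obtain ⟨y, hy⟩ := hx
    exact ⟨y, hy⟩
  have hrange : Set.range l' ⊆ Set.range U.ι := by
    rintro _ ⟨x, rfl⟩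
    obtain ⟨y, rfl⟩ := hsurj x
    refine ⟨a y, ?_⟩
    have e1 := Scheme.Hom.comp_apply (Spec.map (CommRingCat.ofHom (Ideal.Quotient.mk I))) l' y
    have e2 := Scheme.Hom.comp_apply a U.ι y
    rw [← e1, ← e2, hl'1]
  refine ⟨IsOpenImmersion.lift U.ι l' hrange, ⟨?_, ?_⟩, ?_⟩
  · rw [← cancel_mono U.ι, Category.assoc, IsOpenImmersion.lift_fac, hl'1]
  · rw [← cancel_mono V.ι, Category.assoc, Scheme.Hom.resLE_comp_ι, ← Category.assoc,
      IsOpenImmersion.lift_fac, hl'2]
  · rintro l₂ ⟨h1, h2⟩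
    rw [← cancel_mono U.ι, IsOpenImmersion.lift_fac]
    apply hl'uniq
    refine ⟨?_, ?_⟩
    · rw [← Category.assoc, h1]
    · rw [Category.assoc, ← Scheme.Hom.resLE_comp_ι f h, ← Category.assoc, h2]

end Groth.Agent.S9723
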