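import Groth.Statements.S9728
import Groth.Agent.S8657

set_option autoImplicit false
universe u
open FlatMor

namespace Groth.Agent.S9728

open AlgebraicGeometry CategoryTheory Limits in
/-- Given S-schemes U, P, P' with P and P' smooth over S, immersions i : U ⟶ P and i' : U ⟶ P'
compatible with the structure maps to S, and a point u of U, some restriction of i to an open
neighbourhood of u is a Koszul-regular immersion exactly when some restriction of i' to an open
neighbourhood of u is. -/
theorem result {S U P P' : Scheme.{u}} (q : U ⟶ S)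
    (p : P ⟶ S) (p' : P' ⟶ S) [Smooth p] [Smooth p'] (i : U ⟶ P) (i' : U ⟶ P') [IsImmersion i] [IsImmersion i']
    (hi : i ≫ p = q) (hi' : i' ≫ p' = q) (u : U) :
    (∃ V : U.Opens, u ∈ V ∧ RegImm.IsRegularImmersion RegImm.Kind.koszul (V.ι ≫ i)) ↔
      (∃ V : U.Opens, u ∈ V ∧ RegImm.IsRegularImmersion RegImm.Kind.koszul (V.ι ≫ i')) := by
  -- the product `P ×_S P'` with both (smooth) projections
  let j : U ⟶ pullback p p' := pullback.lift i i' (hi.trans hi'.symm)
  have hj1 : j ≫ pullback.fst p p' = i := pullback.lift_fst _ _ _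
  have hj2 : j ≫ pullback.snd p p' = i' := pullback.lift_snd _ _ _
  have : IsImmersion j := by
    have : IsImmersion (j ≫ pullback.fst p p') := by rw [hj1]; infer_instance
    exact IsImmersion.of_comp j (pullback.fst p p')
  have key : ∀ V : U.Opens, RegImm.IsRegularImmersion RegImm.Kind.koszul (V.ι ≫ i) ↔
      RegImm.IsRegularImmersion RegImm.Kind.koszul (V.ι ≫ i') := by
    intro V
    rw [Groth.Agent.S8657.result (V.ι ≫ i) (V.ι ≫ j) (pullback.fst p p')
        (by rw [Category.assoc, hj1]),
      Groth.Agent.S8657.result (V.ι ≫ i') (V.ι ≫ j) (pullback.snd p p')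
        (by rw [Category.assoc, hj2])]
  constructor
  · rintro ⟨V, hV, h⟩
    exact ⟨V, hV, (key V).1 h⟩
  · rintro ⟨V, hV, h⟩
    exact ⟨V, hV, (key V).2 h⟩

end Groth.Agent.S9728
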