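import Groth.Statements.S9734
import Groth.Agent.H49.EtaleNbhdRes

set_option autoImplicit false
universe u
open FlatMor

namespace Groth.Agent.S9734

open AlgebraicGeometry CategoryTheory Limits in
/-- Let S be a scheme, s a point of S and k a finite separable field extension of the residue field
κ(s). Then there is an étale neighbourhood (U, u) ⟶ (S, s) whose residue field extension κ(u)/κ(s)
is isomorphic to k/κ(s). -/
theorem result (S : Scheme.{u}) (s : S) (k : Type u) [Field k]
    [Algebra (S.residueField s) k] [FiniteDimensional (S.residueField s) k] [Algebra.IsSeparable (S.residueField s) k] :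
    ∃ (U : Scheme.{u}) (g : U ⟶ S) (u : U) (hu : g u = s), Etale g ∧
      letI := ((S.residueFieldCongr hu).inv ≫ g.residueFieldMap u).hom.toAlgebra
      Nonempty (k ≃ₐ[S.residueField s] U.residueField u) := by
  classical
  let alg : S.residueField s ⟶ CommRingCat.of k := CommRingCat.ofHom (algebraMap (S.residueField s) k)
  let x₀ : Spec (CommRingCat.of k) ⟶ S := (Scheme.SpecToEquivOfField k S).symm ⟨s, alg⟩
  have hinst : (algebraMap (S.residueField s) k).toAlgebra = (inferInstance : Algebra (S.residueField s) k) :=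
    Algebra.algebra_ext _ _ (fun r => rfl)
  have halg : Groth.Agent.H49.EtaleNbhdRes.FinSep alg.hom := by
    unfold Groth.Agent.H49.EtaleNbhdRes.FinSep
    change (letI := (algebraMap (S.residueField s) k).toAlgebra
      Module.Finite (S.residueField s) k ∧ Algebra.IsSeparable (S.residueField s) k)
    rw [hinst]
    exact ⟨inferInstance, inferInstance⟩
  have key : (Scheme.SpecToEquivOfField k S) x₀ = ⟨s, alg⟩ := Equiv.apply_symm_apply _ _
  obtain ⟨e, he⟩ := Scheme.SpecToEquivOfField_eq_iff.mp key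
  have hfs : Groth.Agent.H49.EtaleNbhdRes.FinSep (Groth.Agent.H49.EtaleNbhdRes.ptMap x₀).hom := by
    have he' : Groth.Agent.H49.EtaleNbhdRes.ptMap x₀ = (S.residueFieldCongr e).hom ≫ alg := he
    rw [he']
    exact Groth.Agent.H49.EtaleNbhdRes.FinSep.comp_equiv
      (S.residueFieldCongr e).commRingCatIsoToRingEquiv _ halg
  obtain ⟨U, g, x₁, hg, hfac, hsurj⟩ := Groth.Agent.H49.EtaleNbhdRes.exists_etale_point S k x₀ hfs
  have key' : (Scheme.SpecToEquivOfField k S) (x₁ ≫ g) = ⟨s, alg⟩ := by rw [hfac]; exact key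
  obtain ⟨e', he'⟩ := Scheme.SpecToEquivOfField_eq_iff.mp key'
  have he'' : Groth.Agent.H49.EtaleNbhdRes.ptMap (x₁ ≫ g) = (S.residueFieldCongr e').hom ≫ alg := he'
  rw [Groth.Agent.H49.EtaleNbhdRes.ptMap_comp] at he''
  have hu : g (x₁ (IsLocalRing.closedPoint k)) = s := e'
  refine ⟨U, g, x₁ (IsLocalRing.closedPoint k), hu, hg, ?_⟩
  have hcomm : (S.residueFieldCongr hu).inv ≫ g.residueFieldMap (x₁ (IsLocalRing.closedPoint k)) ≫
      Groth.Agent.H49.EtaleNbhdRes.ptMap x₁ = alg := by
    rw [Iso.inv_comp_eq]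
    exact he''
  let E : U.residueField (x₁ (IsLocalRing.closedPoint k)) ≃+* k :=
    RingEquiv.ofBijective (Groth.Agent.H49.EtaleNbhdRes.ptMap x₁).hom
      ⟨(Groth.Agent.H49.EtaleNbhdRes.ptMap x₁).hom.injective, hsurj⟩
  letI := ((S.residueFieldCongr hu).inv ≫ g.residueFieldMap (x₁ (IsLocalRing.closedPoint k))).hom.toAlgebra
  refine ⟨AlgEquiv.ofRingEquiv (f := E.symm) ?_⟩
  intro r
  rw [RingEquiv.symm_apply_eq]
  exact (congrArg (fun f => f.hom r) hcomm).symm

end Groth.Agent.S9734
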