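import Groth.Statements.S9740
import Groth.Agent.H49.Thickening

set_option autoImplicit false
universe u
open OmegaSh

namespace Groth.Agent.S9740

open AlgebraicGeometry CategoryTheory Limits in
/-- Let h : Z ⟶ X be formally unramified with universal first order thickening (i : Z ⟶ Z', h' : Z' ⟶
X), let V ⊆ Z and U ⊆ X be opens with h(V) ⊆ U, and let V' ⊆ Z' be the open with i⁻¹(V') = V (so
h'(V') ⊆ U). Then the restricted pair (V ⟶ V', V' ⟶ U) is a universal first-order thickening for the
restriction V ⟶ U of h. The published statement also asserts that this restriction is formally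
unramified and that the conormal sheaf of Z over X restricts on V to that of V over U; this row
states only the thickening part. -/
theorem result {Z Z' X : Scheme.{u}} (h : Z ⟶ X) [FormallyUnramified h] (i : Z ⟶ Z') (h' : Z' ⟶ X)
    (hu : OmegaSh.IsUnivThickening h i h') (V : Z.Opens) (U : X.Opens) (hVU : V ≤ h ⁻¹ᵁ U)
    (V' : Z'.Opens) (hV' : i ⁻¹ᵁ V' = V) (hV'U : V' ≤ h' ⁻¹ᵁ U) :
    OmegaSh.IsUnivThickening (h.resLE U V hVU) (i.resLE V' V hV'.ge) (h'.resLE U V' hV'U) := by
  obtain ⟨hi, hih, huniv⟩ := hu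
  refine ⟨Groth.Agent.H49.isFirstOrderThickening_resLE hi V' V hV', ?_, ?_⟩
  · rw [← cancel_mono U.ι, Category.assoc, Scheme.Hom.resLE_comp_ι, Scheme.Hom.resLE_comp_ι_assoc,
      Scheme.Hom.resLE_comp_ι, hih]
  · intro T T' jT b a hT hcomm
    have comm : jT ≫ (b ≫ U.ι) = (a ≫ V.ι) ≫ h := by
      rw [← Category.assoc, hcomm, Category.assoc, Scheme.Hom.resLE_comp_ι, Category.assoc]
    obtain ⟨e, ⟨he1, he2⟩, heu⟩ := huniv T T' jT (b ≫ U.ι) (a ≫ V.ι) hT comm
    have hrange : Set.range e ⊆ Set.range V'.ι := by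
      rintro _ ⟨p, rfl⟩
      obtain ⟨q, rfl⟩ := Groth.Agent.H49.IsFirstOrderThickening.surjective hT p
      have h1 : e (jT q) = i (V.ι (a q)) := by
        rw [← Scheme.Hom.comp_apply, he1, Scheme.Hom.comp_apply, Scheme.Hom.comp_apply]
      rw [h1, Scheme.Opens.range_ι]
      have h2 : V.ι (a q) ∈ V := (a q).2
      have h3 : ∀ z : Z, z ∈ V → i z ∈ V' := by
        intro z hz
        rw [← hV'] at hz
        exact hz
      exact h3 _ h2
    refine ⟨IsOpenImmersion.lift V'.ι e hrange, ⟨?_, ?_⟩, ?_⟩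
    · rw [← cancel_mono V'.ι, Category.assoc, IsOpenImmersion.lift_fac, he1, Category.assoc,
        Category.assoc, Scheme.Hom.resLE_comp_ι]
    · rw [← cancel_mono U.ι, Category.assoc, Scheme.Hom.resLE_comp_ι, ← Category.assoc,
        IsOpenImmersion.lift_fac, he2]
    · rintro a'' ⟨h1, h2⟩
      rw [← cancel_mono V'.ι, IsOpenImmersion.lift_fac]
      apply heu
      refine ⟨?_, ?_⟩
      · rw [← Category.assoc, h1, Category.assoc, Scheme.Hom.resLE_comp_ι, Category.assoc]
      · rw [Category.assoc, ← Scheme.Hom.resLE_comp_ι h' hV'U, ← Category.assoc, h2]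

end Groth.Agent.S9740
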