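import Groth.Statements.S9741
import Groth.Agent.H49.Thickening

set_option autoImplicit false
universe u
open OmegaSh

namespace Groth.Agent.S9741

open AlgebraicGeometry CategoryTheory Limits in
/-- Let a : Z ⟶ Y and b : Y ⟶ X be formally unramified, let (i : Z ⟶ Z', c : Z' ⟶ X) be universal among
first order thickenings of Z relative to X (for a ≫ b), and (j : Y ⟶ Y', d : Y' ⟶ X) likewise for Y
relative to X (for b). Then there is a morphism of thickenings m : Z' ⟶ Y' over X (i ≫ m = a ≫ j and
m ≫ d = c) such that Z ⟶ Y ×_{Y'} Z' (components a and i), together with the projection to Y, is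
universal among first order thickenings of Z relative to Y (for a). The published statement also
asserts an exact sequence of conormal sheaves; this row states only the thickening assertion. -/
theorem result {Z Y X Z' Y' : Scheme.{u}} (a : Z ⟶ Y) (b : Y ⟶ X)
    [FormallyUnramified a] [FormallyUnramified b] (i : Z ⟶ Z') (c : Z' ⟶ X) (hZ : OmegaSh.IsUnivThickening (a ≫ b) i c)
    (j : Y ⟶ Y') (d : Y' ⟶ X) (hY : OmegaSh.IsUnivThickening b j d) :
    ∃ (m : Z' ⟶ Y') (hm : i ≫ m = a ≫ j), m ≫ d = c ∧
      OmegaSh.IsUnivThickening a (pullback.lift a i hm.symm) (pullback.fst j m) := by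
  obtain ⟨hi, hic, hZu⟩ := hZ
  obtain ⟨hj, hjd, hYu⟩ := hY
  obtain ⟨m, ⟨hm1, hm2⟩, -⟩ := hYu Z Z' i c a hi hic
  refine ⟨m, hm1, hm2, ?_, pullback.lift_fst _ _ _, ?_⟩
  · haveI : IsClosedImmersion j := hj.1.1
    refine Groth.Agent.H49.isFirstOrderThickening_of_comp _ (pullback.snd j m) ?_
    rw [pullback.lift_snd]
    exact hi
  · intro T T' jT bT aT hT hcomm
    have comm1 : jT ≫ (bT ≫ b) = aT ≫ (a ≫ b) := by
      rw [← Category.assoc, hcomm, Category.assoc]
    obtain ⟨e, ⟨he1, he2⟩, heu⟩ := hZu T T' jT (bT ≫ b) aT hT comm1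
    have comm2 : jT ≫ (bT ≫ b) = (aT ≫ a) ≫ b := by
      rw [comm1, Category.assoc]
    obtain ⟨x, -, hxu⟩ := hYu T T' jT (bT ≫ b) (aT ≫ a) hT comm2
    have hx1 : bT ≫ j = x := by
      apply hxu
      refine ⟨?_, ?_⟩
      · rw [← Category.assoc, hcomm, Category.assoc]
      · rw [Category.assoc, hjd]
    have hx2 : e ≫ m = x := by
      apply hxu
      refine ⟨?_, ?_⟩
      · rw [← Category.assoc, he1, Category.assoc, hm1, Category.assoc]
      · rw [Category.assoc, hm2, he2]
    have compat : bT ≫ j = e ≫ m := hx1.trans hx2.symm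
    refine ⟨pullback.lift bT e compat, ⟨?_, pullback.lift_fst _ _ _⟩, ?_⟩
    · apply pullback.hom_ext
      · rw [Category.assoc, pullback.lift_fst, Category.assoc, pullback.lift_fst, hcomm]
      · rw [Category.assoc, pullback.lift_snd, Category.assoc, pullback.lift_snd, he1]
    · rintro a'' ⟨h1, h2⟩
      have hsnd : a'' ≫ pullback.snd j m = e := by
        apply heu
        refine ⟨?_, ?_⟩
        · rw [← Category.assoc, h1, Category.assoc, pullback.lift_snd]
        · rw [Category.assoc, ← hm2, ← Category.assoc (pullback.snd j m), ← pullback.condition,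
            Category.assoc, hjd, ← Category.assoc, h2]
      apply pullback.hom_ext
      · rw [h2, pullback.lift_fst]
      · rw [hsnd, pullback.lift_snd]

end Groth.Agent.S9741
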