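import Groth.Statements.S9780
import Groth.Agent.H49.RelAssBridge
import Groth.Agent.H49.RelAssMax

set_option autoImplicit false
universe u
open FlatMor

namespace Groth.Agent.S9780

open AlgebraicGeometry CategoryTheory Limits in
/-- Let f : X ⟶ S be locally of finite type, F a quasi-coherent O_X-module of finite type and U ⊆ X an
open subscheme. For a base change f' : X' ⟶ S' of f along S' ⟶ S with projection g' : X' ⟶ X, F' =
(g')^*F and U' = (g')⁻¹(U), and a point s' of S' with image s: the associated points of F on the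
fibre X_s lie in U if and only if the associated points of F' on the fibre X'_{s'} lie in U'. -/
theorem result {X S X' S' : Scheme.{u}} (f : X ⟶ S) [LocallyOfFiniteType f] (F : X.Modules) [Coh.IsQCoh F]
    (hF : CohB1.IsFT F) (U : X.Opens) (g : S' ⟶ S) (f' : X' ⟶ S') (g' : X' ⟶ X) (hc : IsPullback g' f' f g) (s' : S') :
    {x : ↑X | x ∈ MoreMor.relAss f F ∧ f x = g s'} ⊆ (U : Set ↑X) ↔
      {x' : ↑X' | x' ∈ MoreMor.relAss f' ((Scheme.Modules.pullback g').obj F) ∧ f' x' = s'} ⊆ (g' ⁻¹ᵁ U : Set ↑X') := by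

  haveI : F.IsQuasicoherent := ‹Coh.IsQCoh F›
  obtain ⟨e, h1, h2⟩ : ∃ e : X' ≅ pullback f g, g' = e.hom ≫ pullback.fst f g ∧
      f' = e.hom ≫ pullback.snd f g :=
    ⟨hc.isoPullback, hc.isoPullback_hom_fst.symm, hc.isoPullback_hom_snd.symm⟩
  clear hc
  subst h1 h2
  have hcond : ∀ z : ↥(pullback f g), f (pullback.fst f g z) = g (pullback.snd f g z) := by
    intro z
    have h := congrArg (fun h : pullback f g ⟶ S => h z) (pullback.condition (f := f) (g := g))
    simpa only [Scheme.Hom.comp_apply] using h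
  have key : ∀ z : ↥(pullback f g),
      z ∈ MoreMor.relAss (pullback.snd f g) ((Scheme.Modules.pullback (pullback.fst f g)).obj F) ↔
        pullback.fst f g z ∈ MoreMor.relAss f F ∧
        ∀ x'' : ↥(pullback f g), (pullback.snd f g) x'' = (pullback.snd f g) z →
          (pullback.fst f g) x'' = (pullback.fst f g) z → x'' ⤳ z → x'' = z := by
    intro z
    rw [Groth.Agent.H49.RelAssBridge.mem_relAss_iff, Groth.Agent.H49.RelAssBridge.mem_relAss_iff]
    exact Groth.Agent.H29.AssTensor.relAssPoint_baseChange_iff f g F z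
  constructor
  · rintro h x' ⟨hx', hs⟩
    rw [Groth.Agent.H49.RelAssBridge.mem_relAss_comp_openImm] at hx'
    have h3 := ((key _).mp hx').1
    have h4 : pullback.fst f g (e.hom x') ∈ (U : Set ↑X) := by
      refine h ⟨h3, ?_⟩
      rw [hcond]
      exact congrArg g hs
    exact h4
  · rintro h x ⟨hx, hfx⟩
    obtain ⟨z, hzx, hzs, hmax⟩ := Groth.Agent.H49.RelAssBridge.exists_maximal_over f g x s' hfx
    have hz : z ∈ MoreMor.relAss (pullback.snd f g)
        ((Scheme.Modules.pullback (pullback.fst f g)).obj F) :=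
      (key z).mpr ⟨hzx ▸ hx, hmax⟩
    have hez : e.hom (e.inv z) = z := by
      rw [← Scheme.Hom.comp_apply, e.inv_hom_id]
      rfl
    have h5 : e.inv z ∈ MoreMor.relAss (e.hom ≫ pullback.snd f g)
        ((Scheme.Modules.pullback (e.hom ≫ pullback.fst f g)).obj F) := by
      rw [Groth.Agent.H49.RelAssBridge.mem_relAss_comp_openImm, hez]
      exact hz
    have h6 : e.inv z ∈ ((e.hom ≫ pullback.fst f g) ⁻¹ᵁ U : Set ↑X') := by
      refine h ⟨h5, ?_⟩
      rw [Scheme.Hom.comp_apply, hez, hzs]
    have h7 : pullback.fst f g (e.hom (e.inv z)) ∈ (U : Set ↑X) := h6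
    rw [hez, hzx] at h7
    exact h7


end Groth.Agent.S9780
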