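import Groth.Statements.S9791
import Groth.Agent.H68.NormSmooth.Iso
-- import your own Groth.Agent.* helpers here

set_option autoImplicit false
universe u
open CategoryTheory CategoryTheory.Limits AlgebraicGeometry
open FlatMor

namespace Groth.Agent.S9791

/-- In the case of integral schemes: let f : X ⟶ Y be a smooth morphism with X and Y integral, and let
X^ν ⟶ X and Y^ν ⟶ Y be the normalizations (in the function fields). Then X^ν is isomorphic over X to
the fibre product X ×_Y Y^ν, and such an isomorphism is unique. (The published statement requires
only that each quasi-compact open subset of Y meet finitely many irreducible components of Y, and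
also derives this for X; this row assumes X and Y integral, the case in which the normalization used
here is defined. The quasi-compactness and quasi-separatedness binders on Spec K(X) → X and Spec
K(Y) → Y always hold and are needed only to form the normalization.) -/
theorem result {X Y : Scheme.{u}} (f : X ⟶ Y) [Smooth f] [IsIntegral X] [IsIntegral Y]
    [QuasiCompact (X.fromSpecStalk (genericPoint X))] [QuasiSeparated (X.fromSpecStalk (genericPoint X))]
    [QuasiCompact (Y.fromSpecStalk (genericPoint Y))] [QuasiSeparated (Y.fromSpecStalk (genericPoint Y))] :
    ∃! e : Curv2.normalization X ≅ pullback f (Curv2.normalizationι Y),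
      e.hom ≫ pullback.fst f (Curv2.normalizationι Y) = Curv2.normalizationι X := by
  obtain ⟨h, hiso, hh, hk⟩ := Groth.Agent.H68.NormSmooth.exists_isIso f
  have := hiso
  refine ⟨(asIso h).symm, ?_, ?_⟩
  · change inv h ≫ pullback.fst f (Y.fromSpecStalk (genericPoint Y)).fromNormalization =
      (X.fromSpecStalk (genericPoint X)).fromNormalization
    rw [IsIso.inv_comp_eq]
    exact hh.symm
  · intro e' he'
    have h1 : e'.hom ≫ h = 𝟙 _ := hk e'.hom he'
    apply Iso.ext
    exact @IsIso.eq_inv_of_inv_hom_id _ _ _ _ h hiso _ h1

end Groth.Agent.S9791
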