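import Groth.Statements.S9793
import Mathlib.RingTheory.Ideal.KrullsHeightTheorem
import Mathlib.AlgebraicGeometry.Stalk

set_option autoImplicit false
universe u
open CategoryTheory AlgebraicGeometry TopologicalSpace
open Props

namespace Groth.Agent.S9793

/-- Let S be a Noetherian scheme and T a set of points of S. Every point of T is a specialization of
some point of T which admits no non-trivial generization lying in T. -/
theorem result (S : Scheme.{u}) [IsNoetherian S]
    (T : Set S) (t : S) (ht : t ∈ T) :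
    ∃ t₀ ∈ T, (∀ t' ∈ T, t' ⤳ t₀ → t' = t₀) ∧ t₀ ⤳ t := by
  classical
  let R := S.presheaf.stalk t
  let f : PrimeSpectrum R → S := fun q => S.fromSpecStalk t q
  have hf : Topology.IsEmbedding f := Scheme.Hom.isEmbedding (S.fromSpecStalk t)
  have hfr : Set.range f = {y | y ⤳ t} := Scheme.range_fromSpecStalk
  let A : Set (PrimeSpectrum R) := f ⁻¹' T
  have hA : A.Nonempty := ⟨IsLocalRing.closedPoint _, by
    change f (IsLocalRing.closedPoint _) ∈ T
    rw [show f (IsLocalRing.closedPoint _) = t from Scheme.fromSpecStalk_closedPoint]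
    exact ht⟩
  obtain ⟨p, hpA, hpmin⟩ : ∃ p ∈ A, ∀ q ∈ A, p.asIdeal.height ≤ q.asIdeal.height := by
    obtain ⟨a, ⟨p, hpA, hpa⟩, hmin⟩ := (wellFounded_lt (α := ℕ∞)).has_min
      ((fun q : PrimeSpectrum R => q.asIdeal.height) '' A) (hA.image _)
    refine ⟨p, hpA, fun q hq => ?_⟩
    have := hmin _ ⟨q, hq, rfl⟩
    rw [← hpa] at this
    exact not_lt.mp this
  have hrange : ∀ y, y ⤳ t → ∃ q, f q = y := by
    intro y hy
    have : y ∈ Set.range f := by rw [hfr]; exact hy
    exact this
  have hpt : f p ⤳ t := by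
    have : f p ∈ Set.range f := ⟨p, rfl⟩
    rw [hfr] at this
    exact this
  refine ⟨f p, hpA, ?_, hpt⟩
  intro t' ht' hsp
  obtain ⟨q, rfl⟩ := hrange t' (hsp.trans hpt)
  have hqp : q ⤳ p := hf.isInducing.specializes_iff.mp hsp
  have hle : q ≤ p := (PrimeSpectrum.le_iff_specializes q p).mpr hqp
  have hh := hpmin q ht'
  congr 1
  by_contra hne
  have hlt : q.asIdeal < p.asIdeal := lt_of_le_of_ne hle (fun h => hne (PrimeSpectrum.ext h))
  have := Ideal.height_strict_mono_of_isPrime_of_isPrime hlt
  exact absurd hh (not_le.mpr this)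

end Groth.Agent.S9793
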