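import Groth.Statements.S9797
import Groth.Agent.H49.Dim0
import Groth.Agent.H49.T1Scheme

set_option autoImplicit false
universe u
open CategoryTheory AlgebraicGeometry TopologicalSpace
open Props

namespace Groth.Agent.S9797

/-- In a separated scheme of dimension at most zero, every quasi-compact open is affine. -/
theorem result (X : Scheme.{u}) [X.IsSeparated]
    (h : topologicalKrullDim X ≤ 0) (U : X.Opens) (hU : IsCompact (U : Set X)) :
    IsAffineOpen U := by
  have : T1Space X := Groth.Agent.H49.t1Space_of_krullDim_le_zero h
  have : T2Space X := Groth.Agent.H49.t2Space_of_t1Space X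
  -- finite unions of affine opens are affine
  classical
  have key : ∀ (s : Finset X.affineOpens), IsAffineOpen (⨆ V ∈ s, (V : X.Opens)) := by
    intro s
    induction s using Finset.induction_on with
    | empty =>
      simp only [Finset.notMem_empty, iSup_false, iSup_bot]
      exact isAffineOpen_bot X
    | @insert B s hB ih =>
      rw [Finset.iSup_insert]
      set A : X.Opens := ⨆ V ∈ s, (V : X.Opens) with hA
      have hAcl : IsClosed (A : Set X) := ih.isCompact.isClosed
      let B' : X.Opens := ⟨(B : Set X) \ A, B.1.isOpen.sdiff hAcl⟩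
      have hB' : IsAffineOpen B' := by
        refine Groth.Agent.H49.isAffineOpen_of_le_of_isOpen_diff B.2 (fun x hx => hx.1) ?_
        have : ((B : X.Opens) : Set X) \ (B' : X.Opens) = (B : Set X) ∩ A := by
          ext x
          simp only [Set.mem_sdiff, SetLike.mem_coe, Set.mem_inter_iff, B']
          constructor
          · rintro ⟨hxB, hx⟩
            refine ⟨hxB, ?_⟩
            by_contra hxA
            exact hx ⟨hxB, hxA⟩
          · rintro ⟨hxB, hxA⟩
            exact ⟨hxB, fun hx => hx.2 hxA⟩
        rw [this]
        exact B.1.isOpen.inter A.isOpen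
      have hdisj : Disjoint B' A := by
        rw [← Opens.coe_disjoint]
        exact Set.disjoint_sdiff_left
      have hsup : (B : X.Opens) ⊔ A = B' ⊔ A := by
        ext x
        simp only [Opens.coe_sup, Set.mem_union, SetLike.mem_coe, B']
        constructor
        · rintro (hx | hx)
          · by_cases hxA : x ∈ A
            · exact Or.inr hxA
            · exact Or.inl ⟨hx, hxA⟩
          · exact Or.inr hx
        · rintro (hx | hx)
          · exact Or.inl hx.1
          · exact Or.inr hx
      rw [hsup]
      exact hB'.sup_of_disjoint ih hdisj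
  -- cover `U` by finitely many affine opens
  obtain ⟨s, hs⟩ : ∃ s : Finset X.affineOpens, U = ⨆ V ∈ s, (V : X.Opens) := by
    have hbasis := X.isBasis_affineOpens
    have hcov : (U : Set X) ⊆ ⋃ V : {V : X.affineOpens // (V : X.Opens) ≤ U}, ((V : X.affineOpens) : Set X) := by
      intro x hx
      obtain ⟨_, ⟨(V : X.Opens), hV, rfl⟩, hxV, hVU⟩ :=
        hbasis.exists_subset_of_mem_open hx U.isOpen
      exact Set.mem_iUnion.mpr ⟨⟨⟨V, hV⟩, hVU⟩, hxV⟩
    obtain ⟨t, ht⟩ := hU.elim_finite_subcover
      (fun V : {V : X.affineOpens // (V : X.Opens) ≤ U} => ((V : X.affineOpens) : Set X))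
      (fun V => (V : X.affineOpens).1.isOpen) hcov
    refine ⟨t.image Subtype.val, ?_⟩
    apply le_antisymm
    · intro x hx
      obtain ⟨V, hVt, hxV⟩ := Set.mem_iUnion₂.mp (ht hx)
      simp only [Opens.mem_iSup]
      exact ⟨V.1, Finset.mem_image_of_mem _ hVt, hxV⟩
    · simp only [iSup_le_iff]
      intro V hV
      obtain ⟨W, -, rfl⟩ := Finset.mem_image.mp hV
      exact W.2
  rw [hs]
  exact key s

end Groth.Agent.S9797
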