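import Groth.Statements.S9798
import Groth.Agent.H49.Dim0
import Groth.Agent.H49.T1Scheme

set_option autoImplicit false
universe u
open CategoryTheory AlgebraicGeometry TopologicalSpace
open Props

namespace Groth.Agent.S9798

/-- A point of a locally Noetherian scheme has local dimension zero exactly when it is isolated. -/
theorem result (X : Scheme.{u}) [IsLocallyNoetherian X] (x : X) :
    FlatMor.localDim X x = 0 ↔ IsOpen ({x} : Set X) := by
  unfold FlatMor.localDim
  constructor
  · intro h
    -- some open neighbourhood has dimension at most zero
    obtain ⟨U, hU⟩ : ∃ U : {U : Opens X // x ∈ U}, topologicalKrullDim (U.1 : Set X) ≤ 0 := by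
      by_contra hcon
      push Not at hcon
      have : (1 : WithBot ℕ∞) ≤ ⨅ U : {U : Opens X // x ∈ U}, topologicalKrullDim (U.1 : Set X) := by
        refine le_iInf fun U => ?_
        have hpos := hcon U
        generalize topologicalKrullDim ((U.1 : Opens X) : Set X) = a at hpos
        induction a using WithBot.recBotCoe with
        | bot => exact absurd hpos (by simp)
        | coe m =>
          have h0 : (0 : ℕ∞) < m := by exact_mod_cast hpos
          have h1 : (1 : ℕ∞) ≤ m := Order.one_le_iff_pos.mpr h0
          exact_mod_cast h1
      rw [h] at this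
      exact absurd this (by decide)
    obtain ⟨U, hxU⟩ := U
    obtain ⟨_, ⟨(V : X.Opens), hV, rfl⟩, hxV, hVU⟩ :=
      X.isBasis_affineOpens.exists_subset_of_mem_open hxU U.isOpen
    have hdimV : topologicalKrullDim (V : Scheme.{u}) ≤ 0 := by
      refine le_trans ?_ hU
      let f : ((V : Opens X) : Set X) → ((U : Opens X) : Set X) := Set.inclusion hVU
      have hf : Topology.IsInducing f := (Topology.IsEmbedding.inclusion hVU).isInducing
      exact hf.topologicalKrullDim_le
    have : IsAffine V := hV
    have : T1Space (V : Scheme.{u}) := Groth.Agent.H49.t1Space_of_krullDim_le_zero hdimV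
    have : T2Space (V : Scheme.{u}) := Groth.Agent.H49.t2Space_of_t1Space _
    have : NoetherianSpace (V : Scheme.{u}) := by
      have := IsLocallyNoetherian.component_noetherian (X := X) ⟨V, hV⟩
      have := noetherianSpace_of_isAffineOpen V hV
      exact this
    have : DiscreteTopology (V : Scheme.{u}) := NoetherianSpace.discrete
    have hopen : IsOpen ({⟨x, hxV⟩} : Set (V : Scheme.{u})) := isOpen_discrete _
    have := V.ι.isOpenEmbedding.isOpenMap _ hopen
    rw [Set.image_singleton] at this
    exact this
  · intro h
    apply le_antisymm
    · let U₀ : {U : Opens X // x ∈ U} := ⟨⟨{x}, h⟩, rfl⟩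
      refine (iInf_le _ U₀).trans ?_
      have : DiscreteTopology ((U₀.1 : Opens X) : Set X) := by
        have : Subsingleton ((U₀.1 : Opens X) : Set X) := by
          constructor
          rintro ⟨a, ha⟩ ⟨b, hb⟩
          have ha' : a = x := ha
          have hb' : b = x := hb
          subst ha' hb'
          rfl
        infer_instance
      exact topologicalKrullDim_zero_of_discreteTopology _
    · refine le_iInf fun U => ?_
      have : Nonempty (IrreducibleCloseds ((U.1 : Opens X) : Set X)) :=
        ⟨⟨closure {⟨x, U.2⟩}, isIrreducible_singleton.closure, isClosed_closure⟩⟩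
      exact Order.krullDim_nonneg

end Groth.Agent.S9798
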