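import Groth.Statements.S9799
import Mathlib

set_option autoImplicit false
universe u
open CategoryTheory AlgebraicGeometry TopologicalSpace
open Props

namespace Groth.Agent.S9799

/-- Let X be a normal scheme (all local rings are integrally closed domains) such that every
quasi-compact open subset has finitely many irreducible components. Then the irreducible components
of X are open and pairwise disjoint; hence X is the disjoint union of its irreducible components,
each an open subscheme which is normal and integral. -/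
theorem result (X : Scheme.{u})
    (hfin : ∀ U : X.Opens, IsCompact (U : Set X) → (irreducibleComponents ↥U).Finite)
    (hN : Pi1.IsNormalScheme X) :
    (∀ Z ∈ irreducibleComponents X, IsOpen Z) ∧
      ∀ Z ∈ irreducibleComponents X, ∀ Z' ∈ irreducibleComponents X, Z ≠ Z' → Disjoint Z Z' := by
  -- every component through `x` is the closure of the image of the generic point of the stalk
  have key : ∀ (x : X) (Z : Set X), Z ∈ irreducibleComponents X → x ∈ Z →
      Z = closure {X.fromSpecStalk x ⟨⊥, by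
        have := (hN x).1
        exact Ideal.isPrime_bot⟩} := by
    intro x Z hZ hx
    have := (hN x).1
    obtain ⟨η, hη⟩ := QuasiSober.sober hZ.1 (isClosed_of_mem_irreducibleComponents Z hZ)
    have hηx : η ⤳ x := by
      rw [specializes_iff_mem_closure, hη.def]
      exact hx
    have hηr : η ∈ Set.range (X.fromSpecStalk x) := by
      rw [Scheme.range_fromSpecStalk]
      exact hηx
    obtain ⟨p, rfl⟩ := hηr
    have h1 : (⟨⊥, Ideal.isPrime_bot⟩ : PrimeSpectrum (X.presheaf.stalk x)) ⤳ p := by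
      rw [← PrimeSpectrum.le_iff_specializes]
      exact bot_le
    have h2 : X.fromSpecStalk x ⟨⊥, Ideal.isPrime_bot⟩ ⤳ X.fromSpecStalk x p :=
      h1.map (X.fromSpecStalk x).continuous
    have h3 : closure {X.fromSpecStalk x p} ⊆ closure {X.fromSpecStalk x ⟨⊥, Ideal.isPrime_bot⟩} :=
      specializes_iff_closure_subset.1 h2
    rw [hη.def] at h3
    exact subset_antisymm h3 (hZ.2 isIrreducible_singleton.closure h3)
  have hdisj : ∀ Z ∈ irreducibleComponents X, ∀ Z' ∈ irreducibleComponents X, Z ≠ Z' →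
      Disjoint Z Z' := by
    intro Z hZ Z' hZ' hne
    rw [Set.disjoint_left]
    intro x hx hx'
    exact hne ((key x Z hZ hx).trans (key x Z' hZ' hx').symm)
  refine ⟨?_, hdisj⟩
  intro Z hZ
  rw [isOpen_iff_mem_nhds]
  intro x hxZ
  obtain ⟨_, ⟨U, hU : IsAffineOpen U, rfl⟩, hxU, -⟩ :=
    X.isBasis_affineOpens.exists_subset_of_mem_open (Set.mem_univ x) isOpen_univ
  have hfinU := hfin U hU.isCompact
  let x' : ↥U := ⟨x, hxU⟩
  let 𝒞' : Set (Set ↥U) := {C | C ∈ irreducibleComponents ↥U ∧ x' ∉ C}
  have h𝒞'fin : 𝒞'.Finite := hfinU.subset fun C hC => hC.1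
  have hclosed : IsClosed (⋃₀ 𝒞') := by
    rw [Set.sUnion_eq_biUnion]
    exact h𝒞'fin.isClosed_biUnion fun C hC => isClosed_of_mem_irreducibleComponents C hC.1
  have hWopen : IsOpen (Subtype.val '' (⋃₀ 𝒞')ᶜ : Set X) :=
    U.isOpen.isOpenMap_subtype_val _ hclosed.isOpen_compl
  have hxW : x ∈ (Subtype.val '' (⋃₀ 𝒞')ᶜ : Set X) := by
    refine ⟨x', ?_, rfl⟩
    rintro ⟨C, hC, hxC⟩
    exact hC.2 hxC
  refine Filter.mem_of_superset (hWopen.mem_nhds hxW) ?_
  rintro _ ⟨w, hw, rfl⟩
  have hwU : w ∈ ⋃₀ irreducibleComponents ↥U := by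
    rw [sUnion_irreducibleComponents]
    trivial
  obtain ⟨C, hC, hwC⟩ := hwU
  have hxC : x' ∈ C := by
    by_contra hxC
    exact hw ⟨C, ⟨hC, hxC⟩, hwC⟩
  have hirr : IsIrreducible (Subtype.val '' C : Set X) :=
    hC.1.image _ continuous_subtype_val.continuousOn
  obtain ⟨Z'', hZ'', hCZ''⟩ := exists_mem_irreducibleComponents_subset_of_isIrreducible _ hirr
  have hxZ'' : x ∈ Z'' := hCZ'' ⟨x', hxC, rfl⟩
  have hZZ'' : Z'' = Z := by
    by_contra hne
    exact Set.disjoint_left.1 (hdisj Z'' hZ'' Z hZ hne) hxZ'' hxZ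
  rw [← hZZ'']
  exact hCZ'' ⟨w, hwC, rfl⟩

end Groth.Agent.S9799
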