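import Groth.Statements.S9800
import Mathlib

set_option autoImplicit false
universe u
open CategoryTheory AlgebraicGeometry TopologicalSpace
open Props

namespace Groth.Agent.S9800

/-- A locally Noetherian normal scheme of dimension at most one is regular, that is, all of its local
rings are regular local rings. -/
theorem result (X : Scheme.{u})
    [IsLocallyNoetherian X] (hN : Pi1.IsNormalScheme X) (hd : topologicalKrullDim X ≤ 1) (x : X) :
    IsRegularLocalRing (X.presheaf.stalk x) := by
  obtain ⟨hdom, hic⟩ := hN x
  have hdimA : ringKrullDim (X.presheaf.stalk x) ≤ 1 := by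
    rw [← PrimeSpectrum.topologicalKrullDim_eq_ringKrullDim]
    exact ((X.fromSpecStalk x).isEmbedding.isInducing.topologicalKrullDim_le).trans hd
  have hK : Ring.KrullDimLE 1 (X.presheaf.stalk x) := Ring.krullDimLE_iff.2 hdimA
  have hP : ∀ I : Ideal (X.presheaf.stalk x), I ≠ ⊥ → I.IsPrime → I.IsMaximal :=
    Ring.krullDimLE_one_iff_of_noZeroDivisors.1 hK
  have hpid : IsPrincipalIdealRing (X.presheaf.stalk x) := by
    by_cases hf : IsField (X.presheaf.stalk x)
    · exact hf.isPrincipalIdealRing
    · have hm : IsLocalRing.maximalIdeal (X.presheaf.stalk x) ≠ ⊥ :=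
        IsLocalRing.isField_iff_maximalIdeal_eq.not.mp hf
      have h3 : IsIntegrallyClosed (X.presheaf.stalk x) ∧
          ∃! P : Ideal (X.presheaf.stalk x), P ≠ ⊥ ∧ P.IsPrime :=
        ⟨hic, IsLocalRing.maximalIdeal _, ⟨hm, inferInstance⟩,
          fun P hP' => IsLocalRing.eq_maximalIdeal (hP P hP'.1 hP'.2)⟩
      have hdvr : IsDiscreteValuationRing (X.presheaf.stalk x) :=
        ((IsDiscreteValuationRing.TFAE (X.presheaf.stalk x) hf).out 0 3).2 h3
      infer_instance
  infer_instance

end Groth.Agent.S9800
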