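import Groth.Statements.S9801
import Groth.Agent.S0601
import Groth.Agent.H49.CMLocalize
import Groth.Agent.H72.FlatCM

set_option autoImplicit false
universe u
open CategoryTheory AlgebraicGeometry TopologicalSpace
open Props

namespace Groth.Agent.S9801

/-- A locally Noetherian normal scheme of dimension at most two is Cohen-Macaulay, that is, all of its
local rings are Cohen-Macaulay local rings. -/
theorem result (X : Scheme.{u})
    [IsLocallyNoetherian X] (hN : Pi1.IsNormalScheme X) (hd : topologicalKrullDim X ≤ 2) (x : X) :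
    LocCoh.IsCohenMacaulayLocalRing (X.presheaf.stalk x) := by
  obtain ⟨hdom, hic⟩ := hN x
  have hdimA : ringKrullDim (X.presheaf.stalk x) ≤ 2 := by
    rw [← PrimeSpectrum.topologicalKrullDim_eq_ringKrullDim]
    exact ((X.fromSpecStalk x).isEmbedding.isInducing.topologicalKrullDim_le).trans hd
  have hS := (Groth.Agent.S0601.result (X.presheaf.stalk x)).mp (by
    intro p _
    exact ⟨inferInstance, isIntegrallyClosed_of_isLocalization (Localization.AtPrime p) p.primeCompl
      p.primeCompl_le_nonZeroDivisors⟩)
  have hS2 := hS.2 (IsLocalRing.maximalIdeal (X.presheaf.stalk x))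
  set m := IsLocalRing.maximalIdeal (X.presheaf.stalk x) with hm
  haveI hloc : IsLocalization.AtPrime (X.presheaf.stalk x) m := by
    refine IsLocalization.of_le_isUnit ?_
    intro a ha
    by_contra hcon
    exact ha ((IsLocalRing.mem_maximalIdeal a).mpr hcon)
  let e' : Localization.AtPrime m ≃ₐ[X.presheaf.stalk x] X.presheaf.stalk x :=
    IsLocalization.algEquiv m.primeCompl _ _
  have hdimB : ringKrullDim (Localization.AtPrime m) ≤ 2 := by
    rw [ringKrullDim_eq_of_ringEquiv e'.toRingEquiv]
    exact hdimA
  let e : LocalizedModule m.primeCompl (X.presheaf.stalk x) ≃ₗ[Localization.AtPrime m]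
      Localization.AtPrime m := LinearEquiv.refl _ _
  unfold LocCoh.depth at hS2
  rw [Module.supportDim_eq_of_equiv e, Groth.Agent.H15.idealDepth_congr e,
    Module.supportDim_self_eq_ringKrullDim] at hS2
  have h2 : ((2 : ℕ) : WithBot ℕ∞) = 2 := rfl
  rw [h2, min_eq_right hdimB] at hS2
  have hCM : LocCoh.IsCohenMacaulayLocalRing (Localization.AtPrime m) := by
    rw [Groth.Agent.H72.FlatCM.isCohenMacaulayLocalRing_iff]
    exact le_antisymm hS2 (Groth.Agent.H72.FlatCM.depth_le_ringKrullDim _)
  exact Groth.Agent.H49.isCohenMacaulayLocalRing_of_ringEquiv e'.toRingEquiv hCM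

end Groth.Agent.S9801
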