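import Groth.Statements.S9835
import Groth.Agent.S9392
import Groth.Agent.S9394

set_option autoImplicit false
universe u
open CategoryTheory AlgebraicGeometry TopologicalSpace
open Props

namespace Groth.Agent.S9835

/-- If an integral scheme has an affine open covering by spectra of Japanese (N-2) domains, then the
coordinate ring of every nonempty affine open is a Japanese domain. -/
theorem result (X : Scheme.{u}) [IsIntegral X] {ι : Type u}
    (U : ι → X.Opens) [∀ i, Nonempty (U i)] (hU : iSup U = ⊤) (haff : ∀ i, IsAffineOpen (U i))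
    (hJ : ∀ i, CAlg.IsN2 Γ(X, U i)) (V : X.Opens) [Nonempty V] (hV : IsAffineOpen V) :
    CAlg.IsN2 Γ(X, V) := by
  let U' : ι → X.affineOpens := fun i => ⟨U i, haff i⟩
  have hU' : (⨆ i, (U' i : X.Opens)) = ⊤ := hU
  have key : ∀ W : X.affineOpens, ∀ [Nonempty W.1], CAlg.IsN2 Γ(X, W.1) := by
    intro W
    refine of_affine_open_cover (P := fun W => ∀ [Nonempty W.1], CAlg.IsN2 Γ(X, W.1)) U' hU' W ?_ ?_ ?_
    · intro W f hW hne
      obtain ⟨⟨x, hx⟩⟩ := hne
      haveI : Nonempty W.1 := ⟨⟨x, X.basicOpen_le f hx⟩⟩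
      haveI : Nonempty (X.basicOpen f) := ⟨⟨x, hx⟩⟩
      haveI := W.2.isLocalization_basicOpen f
      exact Groth.Agent.S9392.result Γ(X, W.1) (Submonoid.powers f) Γ(X, X.basicOpen f) hW
    · intro W s hs hW hne
      let κ := {f : Γ(X, W.1) // f ∈ s ∧ f ≠ 0}
      haveI : Finite κ := Set.Finite.subset s.finite_toSet (fun f hf => hf.1)
      have hne' : ∀ k : κ, Nonempty (X.basicOpen k.1) := by
        intro k
        by_contra hcon
        have : X.basicOpen k.1 = ⊥ := by
          rw [← Opens.not_nonempty_iff_eq_bot]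
          intro ⟨x, hx⟩
          exact hcon ⟨⟨x, hx⟩⟩
        rw [basicOpen_eq_bot_iff] at this
        exact k.2.2 this
      have hspan : Ideal.span (Set.range (fun k : κ => k.1)) = ⊤ := by
        rw [eq_top_iff, ← hs, Ideal.span_le]
        intro f hf
        by_cases h0 : f = 0
        · rw [h0]; exact Ideal.zero_mem _
        · exact Ideal.subset_span ⟨⟨f, hf, h0⟩, rfl⟩
      haveI : ∀ k : κ, IsLocalization.Away k.1 Γ(X, X.basicOpen k.1) :=
        fun k => W.2.isLocalization_basicOpen k.1
      refine Groth.Agent.S9394.result Γ(X, W.1) (fun k : κ => k.1) hspan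
        (fun k => Γ(X, X.basicOpen k.1)) ?_
      intro k
      exact @hW ⟨k.1, k.2.1⟩ (hne' k)
    · intro i hne
      exact hJ i
  exact @key ⟨V, hV⟩ _

end Groth.Agent.S9835
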