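import Groth.Statements.S9802
import Groth.Agent.S9835
import Groth.Agent.H47.N2Equiv
import Groth.Agent.H22.RedImm

set_option autoImplicit false
universe u
open CategoryTheory AlgebraicGeometry TopologicalSpace
open Props

namespace Groth.Agent.S9802

/-- A locally Noetherian scheme is Nagata (every affine open has a Nagata coordinate ring) if and only
if every integral closed subscheme is Japanese (every nonempty affine open of it has an N-2
coordinate ring). -/
theorem result (X : Scheme.{u})
    [IsLocallyNoetherian X] :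
    (∀ U : X.Opens, IsAffineOpen U → CAlg.IsNagata Γ(X, U)) ↔
      ∀ (Z : Scheme.{u}) (i : Z ⟶ X) [IsClosedImmersion i] [IsIntegral Z]
        (V : Z.Opens) [Nonempty V], IsAffineOpen V → CAlg.IsN2 Γ(Z, V) := by
  constructor
  · intro hN Z i _ _ V _ hV
    let ι := {U : X.affineOpens // Nonempty (i ⁻¹ᵁ U.1)}
    refine @Groth.Agent.S9835.result Z _ ι (fun U => i ⁻¹ᵁ U.1.1) (fun U => U.2) ?_ ?_ ?_ V _ hV
    · rw [eq_top_iff]
      intro z _
      obtain ⟨_, ⟨U, hU, rfl⟩, hzU, -⟩ := X.isBasis_affineOpens.exists_subset_of_mem_open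
        (Set.mem_univ (i z)) isOpen_univ
      have hz : z ∈ i ⁻¹ᵁ U := hzU
      exact TopologicalSpace.Opens.mem_iSup.mpr ⟨⟨⟨U, hU⟩, ⟨⟨z, hz⟩⟩⟩, hz⟩
    · exact fun U => U.1.2.preimage i
    · intro U
      haveI : Nonempty (i ⁻¹ᵁ U.1.1) := U.2
      have hsurj : Function.Surjective (i.app U.1.1).hom := i.app_surjective U.1.1 U.1.2
      haveI : (RingHom.ker (i.app U.1.1).hom).IsPrime := RingHom.ker_isPrime _
      have h1 : CAlg.IsN2 (Γ(X, U.1.1) ⧸ RingHom.ker (i.app U.1.1).hom) :=
        (hN U.1.1 U.1.2).2 (RingHom.ker (i.app U.1.1).hom)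
      exact Groth.Agent.H47.isN2_of_ringEquiv (RingHom.quotientKerEquivOfSurjective hsurj) h1
  · intro h U hU
    haveI : IsNoetherianRing Γ(X, U) := IsLocallyNoetherian.component_noetherian ⟨U, hU⟩
    refine ⟨inferInstance, fun p _ => ?_⟩
    let P : PrimeSpectrum Γ(X, U) := ⟨p, inferInstance⟩
    let x : X := hU.fromSpec P
    have hxU : x ∈ U := by
      have : x ∈ Set.range hU.fromSpec := ⟨P, rfl⟩
      rwa [hU.range_fromSpec] at this
    let T : TopologicalSpace.Closeds X := ⟨closure {x}, isClosed_closure⟩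
    let I := Scheme.IdealSheafData.vanishingIdeal T
    have : IsReduced I.subscheme := Groth.Agent.H22.isReduced_subscheme_vanishingIdeal T
    have hirr : IsIrreducible (I.support : Set X) := by
      rw [Scheme.IdealSheafData.coe_support_vanishingIdeal]
      exact isIrreducible_singleton.closure
    haveI : IrreducibleSpace I.subscheme := Subtype.irreducibleSpace hirr
    haveI : IsIntegral I.subscheme := isIntegral_of_irreducibleSpace_of_isReduced _
    have hpre : hU.fromSpec ⁻¹' (T : Set X) = closure {P} := by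
      change hU.fromSpec ⁻¹' closure {x} = closure {P}
      rw [hU.fromSpec.isOpenEmbedding.isOpenMap.preimage_closure_eq_closure_preimage
        hU.fromSpec.continuous]
      congr 1
      ext Q
      simp only [Set.mem_preimage, Set.mem_singleton_iff]
      exact hU.fromSpec.isOpenEmbedding.injective.eq_iff
    have hideal : I.ideal ⟨U, hU⟩ = p := by
      rw [Scheme.IdealSheafData.vanishingIdeal_ideal]
      have hp' : PrimeSpectrum.vanishingIdeal (closure {P}) = p := by
        rw [PrimeSpectrum.vanishingIdeal_closure, PrimeSpectrum.vanishingIdeal_singleton]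
      exact (congrArg PrimeSpectrum.vanishingIdeal hpre).trans hp'
    have hxT : x ∈ I.support := by
      rw [← SetLike.mem_coe, Scheme.IdealSheafData.coe_support_vanishingIdeal]
      exact subset_closure rfl
    haveI : Nonempty (I.subschemeι ⁻¹ᵁ U) := ⟨⟨⟨x, hxT⟩, hxU⟩⟩
    have hV : IsAffineOpen (I.subschemeι ⁻¹ᵁ U) := hU.preimage I.subschemeι
    have h2 := h I.subscheme I.subschemeι (I.subschemeι ⁻¹ᵁ U) hV
    let e : Γ(I.subscheme, I.subschemeι ⁻¹ᵁ U) ≃+* (Γ(X, U) ⧸ p) :=
      (I.subschemeObjIso ⟨U, hU⟩).commRingCatIsoToRingEquiv.trans (Ideal.quotEquivOfEq hideal)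
    exact Groth.Agent.H47.isN2_of_ringEquiv e h2

end Groth.Agent.S9802
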