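import Groth.Statements.S9804

set_option autoImplicit false
universe u
open CategoryTheory AlgebraicGeometry TopologicalSpace
open Props

namespace Groth.Agent.S9804

/-- For a quasi-compact quasi-separated scheme `X` and a global section `r` whose basic open is
affine, the basic open `D(r)` of `Spec Γ(X)` lies in the range of `X ⟶ Spec Γ(X)`. -/
theorem basicOpen_subset_range_toSpecΓ (X : Scheme.{u}) [CompactSpace X] [QuasiSeparatedSpace X]
    (r : Γ(X, ⊤)) (hr : IsAffineOpen (X.basicOpen r)) :
    (PrimeSpectrum.basicOpen r : Set (PrimeSpectrum Γ(X, ⊤))) ⊆ Set.range X.toSpecΓ := by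
  intro q hq
  have hloc := isLocalization_basicOpen_of_qcqs (X := X) (U := ⊤) isCompact_univ
    isQuasiSeparated_univ r
  have hrange := PrimeSpectrum.localization_away_comap_range Γ(X, X.basicOpen r) r
  rw [← hrange] at hq
  obtain ⟨q', rfl⟩ := hq
  -- `q'` is a point of `Spec Γ(X, X.basicOpen r)`, which is `X.basicOpen r`
  have hiso : IsIso (X.basicOpen r).toSpecΓ := by
    rw [← hr.isoSpec_hom]; infer_instance
  obtain ⟨x, rfl⟩ : ∃ x, (X.basicOpen r).toSpecΓ x = q' :=
    ((X.basicOpen r).toSpecΓ.homeomorph).surjective q'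
  refine ⟨(X.basicOpen r).ι x, ?_⟩
  have := Scheme.Opens.toSpecΓ_SpecMap_presheaf_map_top (X.basicOpen r)
  have h2 := congrArg (fun f => f x) this
  simp only [Scheme.Hom.comp_apply] at h2
  exact h2.symm

/-- For quasi-affine schemes U and V and an open immersion j : U → V, the scheme U is the fibre product
of the composite U → V → Spec Γ(V, O_V) and the morphism Spec Γ(U, O_U) → Spec Γ(V, O_V) induced by
restriction of sections along j: the square whose sides are the identity of U, the canonical
morphism U → Spec Γ(U, O_U), that composite and that induced morphism is cartesian. -/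
theorem result {U V : Scheme.{u}} (j : U ⟶ V)
    [IsOpenImmersion j] [U.IsQuasiAffine] [V.IsQuasiAffine] :
    IsPullback (𝟙 U) U.toSpecΓ (j ≫ V.toSpecΓ) (Spec.map j.appTop) := by
  have hcomm : U.toSpecΓ ≫ Spec.map j.appTop = 𝟙 U ≫ j ≫ V.toSpecΓ := by
    rw [Category.id_comp, Scheme.toSpecΓ_naturality]
  refine IsOpenImmersion.isPullback _ _ _ _ hcomm ?_
  apply le_antisymm
  · rintro p ⟨u, hu⟩
    -- `hu : (j ≫ V.toSpecΓ) u = Spec.map j.appTop p`
    obtain ⟨_, ⟨_, ⟨r, hr, rfl⟩, rfl⟩, hur, hrj⟩ :=
      (Scheme.IsQuasiAffine.isBasis_basicOpen V).exists_subset_of_mem_open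
        (show j u ∈ (j.opensRange : Set V) from ⟨u, rfl⟩) j.opensRange.isOpen
    have haff : IsAffineOpen (U.basicOpen (j.appTop r)) := by
      rw [← Scheme.preimage_basicOpen_top]
      exact hr.preimage_of_isOpenImmersion j hrj
    have hp : p ∈ (PrimeSpectrum.basicOpen (j.appTop r) : Set (PrimeSpectrum Γ(U, ⊤))) := by
      have h1 : (j ≫ V.toSpecΓ) u ∈ PrimeSpectrum.basicOpen r := by
        rw [Scheme.Hom.comp_apply]
        have : j u ∈ V.toSpecΓ ⁻¹ᵁ PrimeSpectrum.basicOpen r := by
          rw [Scheme.toSpecΓ_preimage_basicOpen]; exact hur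
        exact this
      rw [hu] at h1
      exact h1
    obtain ⟨x, hx⟩ := basicOpen_subset_range_toSpecΓ U _ haff hp
    exact ⟨x, hx⟩
  · rintro _ ⟨u, rfl⟩
    refine ⟨u, ?_⟩
    have := congrArg (fun f => f u) hcomm
    simp only [Category.id_comp] at this
    exact this.symm

end Groth.Agent.S9804
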