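import Groth.Statements.S9810
import Groth.Agent.H38.BranchSum2

set_option autoImplicit false
universe u
open Brnch

namespace Groth.Agent.S9810

/-- Branches, in terms of the local ring: for a local ring A with finitely many minimal prime ideals,
the number of branches of A is the sum over the minimal primes p of the numbers of branches of the
local domains A/p. Geometrically: the number of branches of a scheme at a point is the sum of the
numbers of branches at that point of the irreducible components passing through it. -/
theorem result (A : Type u) [CommRing A] [IsLocalRing A]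
    (h : (minimalPrimes A).Finite) :
    Brnch.numBranches A =
      ∑ᶠ p : minimalPrimes A,
        haveI : p.1.IsPrime := p.2.1.1
        Brnch.numBranches (A ⧸ p.1) := by
  classical
  have hfinR : Finite (Groth.Agent.H38.MinPrime (CAlg2.red A)) :=
    Groth.Agent.H38.finite_minPrime_red A h
  have : Fintype (Groth.Agent.H38.MinPrime (CAlg2.red A)) := Fintype.ofFinite _
  have hredR : IsReduced (CAlg2.red A) :=
    (Ideal.isRadical_iff_quotient_reduced _).mp (Ideal.radical_isRadical _)
  have hL : Brnch.numBranches A = ∑ P : Groth.Agent.H38.MinPrime (CAlg2.red A),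
      ENat.card (MaximalSpectrum (Groth.Agent.H38.BB P)) := by
    unfold Brnch.numBranches
    rw [if_pos h,
      ENat.card_congr (Groth.Agent.H38.maxSpecEquiv
        (Groth.Agent.H38.BEquiv (A := CAlg2.red A)).toRingEquiv),
      ← ENat.card_congr (Equiv.ofBijective _
        ⟨Groth.Agent.H38.sigmaToPiMax_injective
          (fun P : Groth.Agent.H38.MinPrime (CAlg2.red A) => Groth.Agent.H38.BB P),
         Groth.Agent.H38.sigmaToPiMax_surjective _⟩)]
    exact Groth.Agent.H38.enat_card_sigma _
  have hR : ∀ (P : Groth.Agent.H38.MinPrime (CAlg2.red A))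
      (inst : IsLocalRing (A ⧸ (Groth.Agent.H38.minPrimeRedMap A P).1)),
      @Brnch.numBranches (A ⧸ (Groth.Agent.H38.minPrimeRedMap A P).1) _ inst =
        ENat.card (MaximalSpectrum (Groth.Agent.H38.BB P)) := by
    intro P _
    haveI : (Groth.Agent.H38.minPrimeRedMap A P).1.IsPrime :=
      (Groth.Agent.H38.minPrimeRedMap A P).2.1.1
    have hfinP : (minimalPrimes (A ⧸ (Groth.Agent.H38.minPrimeRedMap A P).1)).Finite := by
      have h1 := IsDomain.minimalPrimes_eq_singleton_bot
        (R := A ⧸ (Groth.Agent.H38.minPrimeRedMap A P).1)
      rw [h1]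
      exact Set.finite_singleton _
    unfold Brnch.numBranches
    rw [if_pos hfinP]
    exact ENat.card_congr (Groth.Agent.H38.maxSpecEquiv
      (Groth.Agent.H38.integralClosureFracEquiv (Groth.Agent.H38.redQuotEquiv P)))
  rw [hL, ← finsum_comp_equiv (Groth.Agent.H38.minPrimeRedEquiv A), finsum_eq_sum_of_fintype]
  refine Finset.sum_congr rfl fun P _ => ?_
  exact (hR P _).symm

end Groth.Agent.S9810
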