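import Groth.Statements.S9811
import Groth.Agent.H38.BranchSum6

set_option autoImplicit false
universe u
open Brnch

namespace Groth.Agent.S9811

/-- Geometric branches, in terms of the local ring: for a local ring A with finitely many minimal prime
ideals, the number of geometric branches of A is the sum over the minimal primes p of the numbers of
geometric branches of the local domains A/p. -/
theorem result (A : Type u) [CommRing A] [IsLocalRing A]
    (h : (minimalPrimes A).Finite) :
    Brnch.numGeomBranches A =
      ∑ᶠ p : minimalPrimes A,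
        haveI : p.1.IsPrime := p.2.1.1
        Brnch.numGeomBranches (A ⧸ p.1) := by
  classical
  have hfinR : Finite (Groth.Agent.H38.MinPrime (CAlg2.red A)) :=
    Groth.Agent.H38.finite_minPrime_red A h
  have : Fintype (Groth.Agent.H38.MinPrime (CAlg2.red A)) := Fintype.ofFinite _
  have hL : Brnch.numGeomBranches A = ∑ P : Groth.Agent.H38.MinPrime (CAlg2.red A),
      ENat.card (Groth.Agent.H38.FactorHom A P) := by
    rw [Groth.Agent.H38.numGeomBranches_eq_card A h]
    exact Groth.Agent.H38.card_closureHom_eq_sum A
  have hR : ∀ (P : Groth.Agent.H38.MinPrime (CAlg2.red A))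
      (inst : IsLocalRing (A ⧸ (Groth.Agent.H38.minPrimeRedMap A P).1)),
      @Brnch.numGeomBranches (A ⧸ (Groth.Agent.H38.minPrimeRedMap A P).1) _ inst =
        ENat.card (Groth.Agent.H38.FactorHom A P) := by
    intro P _
    haveI : (Groth.Agent.H38.minPrimeRedMap A P).1.IsPrime :=
      (Groth.Agent.H38.minPrimeRedMap A P).2.1.1
    have hfinP : (minimalPrimes (A ⧸ (Groth.Agent.H38.minPrimeRedMap A P).1)).Finite := by
      have h1 := IsDomain.minimalPrimes_eq_singleton_bot
        (R := A ⧸ (Groth.Agent.H38.minPrimeRedMap A P).1)
      rw [h1]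
      exact Set.finite_singleton _
    rw [Groth.Agent.H38.numGeomBranches_eq_card _ hfinP]
    exact (Groth.Agent.H38.card_factorHom_eq A P).symm
  rw [hL, ← finsum_comp_equiv (Groth.Agent.H38.minPrimeRedEquiv A), finsum_eq_sum_of_fintype]
  refine Finset.sum_congr rfl fun P _ => ?_
  exact (hR P _).symm

end Groth.Agent.S9811
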