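import Groth.Statements.S9812
import Groth.Agent.H14.GeomUnibranchNormal

set_option autoImplicit false
universe u
open CAlg2

namespace Groth.Agent.S9812

/-- At the level of the local ring: an integrally closed local domain is geometrically unibranch.
Consequently a normal scheme is geometrically unibranch. -/
theorem result (A : Type u) [CommRing A] [IsLocalRing A]
    [IsDomain A] [IsIntegrallyClosed A] : CAlg2.IsGeomUnibranch A := by
  exact Groth.Agent.H14.isGeomUnibranch_of_isIntegrallyClosed A

end Groth.Agent.S9812
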