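import Groth.Statements.S9814
import Groth.Agent.H18.STL.Invertible
import Groth.Agent.H67.GenLocusAffine

set_option autoImplicit false
universe u
open CategoryTheory CategoryTheory.Limits AlgebraicGeometry TopologicalSpace
open Props

namespace Groth.Agent.S9814

/-- Let L be an invertible module on a scheme X. If the opens X_s (s a global section of a positive
tensor power of L) form a basis for the topology, then so do the affine ones among them. -/
theorem result (X : Scheme.{u}) (L : X.Modules) (hL : PicF.IsInvertible L)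
    (hB : Opens.IsBasis {U : X.Opens | ∃ (n : ℕ) (s : Coh.structureModule X ⟶ CohB1.tensorPow L (n + 1)),
      U = CohB1.genLocus _ s}) :
    Opens.IsBasis {U : X.Opens | IsAffineOpen U ∧ ∃ (n : ℕ) (s : Coh.structureModule X ⟶ CohB1.tensorPow L (n + 1)),
      U = CohB1.genLocus _ s} := by
  rw [TopologicalSpace.Opens.isBasis_iff_nbhd] at hB ⊢
  intro W x hx
  obtain ⟨A, hAaff, hxA, hAW⟩ :=
    TopologicalSpace.Opens.isBasis_iff_nbhd.1 X.isBasis_affineOpens hx
  obtain ⟨U, ⟨n, s, rfl⟩, hxU, hUA⟩ := hB hxA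
  refine ⟨CohB1.genLocus _ s, ⟨?_, n, s, rfl⟩, hxU, hUA.trans hAW⟩
  have hLn : PicF.IsInvertible (CohB1.tensorPow L (n + 1)) :=
    Groth.Agent.H18.STL.isInvertible_tensorPow hL (n + 1)
  have haff := Groth.Agent.H67.GenLocusAffine.isAffineHom_genLocus _ hLn s
  have h1 : IsAffineOpen ((CohB1.genLocus _ s).ι ⁻¹ᵁ A) := hAaff.preimage _
  have h2 := h1.image_of_isOpenImmersion (CohB1.genLocus _ s).ι
  rw [Scheme.Hom.image_preimage_eq_opensRange_inf, Scheme.Opens.opensRange_ι,
    inf_eq_left.2 hUA] at h2
  exact h2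

end Groth.Agent.S9814
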