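import Groth.Statements.S9821
import Mathlib

set_option autoImplicit false
universe u
open CategoryTheory CategoryTheory.Limits AlgebraicGeometry TopologicalSpace Opposite
open Props

namespace Groth.Agent.S9821

/-- An integral scheme is normal if and only if the coordinate ring of every nonempty affine open is an
integrally closed domain. -/
theorem result (X : Scheme.{u}) [IsIntegral X] :
    Pi1.IsNormalScheme X ↔ ∀ (U : X.Opens) [Nonempty U], IsAffineOpen U → IsIntegrallyClosed Γ(X, U) := by
  constructor
  · intro hN U hne hU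
    have : IsDomain Γ(X, U) := inferInstance
    refine IsIntegrallyClosed.of_localization_maximal fun p hp hpm => ?_
    let y : PrimeSpectrum Γ(X, U) := ⟨p, hpm.isPrime⟩
    have hy : hU.fromSpec y ∈ U := by
      have : hU.fromSpec y ∈ Set.range hU.fromSpec := Set.mem_range_self y
      rwa [hU.range_fromSpec] at this
    let _ := TopCat.Presheaf.algebra_section_stalk X.presheaf ⟨hU.fromSpec y, hy⟩
    have hloc : IsLocalization p.primeCompl (X.presheaf.stalk (hU.fromSpec y)) :=
      hU.isLocalization_stalk' y hy
    have hic : IsIntegrallyClosed (X.presheaf.stalk (hU.fromSpec y)) := (hN _).2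
    exact hic.of_equiv
      (IsLocalization.algEquiv p.primeCompl (X.presheaf.stalk (hU.fromSpec y))
        (Localization.AtPrime p)).toRingEquiv
  · intro h x
    refine ⟨inferInstance, ?_⟩
    obtain ⟨_, ⟨U, hU : IsAffineOpen U, rfl⟩, hxU, -⟩ :=
      X.isBasis_affineOpens.exists_subset_of_mem_open (Set.mem_univ x) isOpen_univ
    have hne : Nonempty U := ⟨⟨x, hxU⟩⟩
    have hic : IsIntegrallyClosed Γ(X, U) := h U hU
    have : IsDomain Γ(X, U) := inferInstance
    let _ := TopCat.Presheaf.algebra_section_stalk X.presheaf ⟨x, hxU⟩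
    have hloc : IsLocalization (hU.primeIdealOf ⟨x, hxU⟩).asIdeal.primeCompl
        (X.presheaf.stalk x) := hU.isLocalization_stalk ⟨x, hxU⟩
    exact isIntegrallyClosed_of_isLocalization (X.presheaf.stalk x)
      (hU.primeIdealOf ⟨x, hxU⟩).asIdeal.primeCompl
      (hU.primeIdealOf ⟨x, hxU⟩).asIdeal.primeCompl_le_nonZeroDivisors

end Groth.Agent.S9821
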