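import Groth.Statements.S9822
import Mathlib.AlgebraicGeometry.Limits

set_option autoImplicit false
universe u
open CategoryTheory CategoryTheory.Limits AlgebraicGeometry TopologicalSpace Opposite
open Props

namespace Groth.Agent.S9822

/-- A scheme is irreducible if and only if it is nonempty and every nonempty affine open subset is
irreducible. -/
theorem result (X : Scheme.{u}) :
    IrreducibleSpace X ↔ Nonempty X ∧ ∀ U : X.Opens, IsAffineOpen U → (U : Set X).Nonempty → IsIrreducible (U : Set X) := by
  constructor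
  · intro h
    refine ⟨inferInstance, fun U _ hne => ⟨hne, ?_⟩⟩
    exact (PreirreducibleSpace.isPreirreducible_univ (X := X)).open_subset U.isOpen (Set.subset_univ _)
  · rintro ⟨hne, h⟩
    have : PreirreducibleSpace X := by
      constructor
      rintro u v hu hv ⟨x, -, hxu⟩ ⟨y, -, hyv⟩
      obtain ⟨_, ⟨U, hU, rfl⟩, hxU, hUu⟩ :=
        X.isBasis_affineOpens.exists_subset_of_mem_open hxu hu
      obtain ⟨_, ⟨V, hV, rfl⟩, hyV, hVv⟩ :=
        X.isBasis_affineOpens.exists_subset_of_mem_open hyv hv
      by_cases hdisj : Disjoint U V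
      · have haff : IsAffineOpen (U ⊔ V) := hU.sup_of_disjoint hV hdisj
        have hirr := h (U ⊔ V) haff ⟨x, Or.inl hxU⟩
        obtain ⟨z, -, hzU, hzV⟩ := hirr.2 U V U.isOpen V.isOpen
          ⟨x, Or.inl hxU, hxU⟩ ⟨y, Or.inr hyV, hyV⟩
        exact absurd (show z ∈ (U ⊓ V : X.Opens) from ⟨hzU, hzV⟩) (by
          rw [disjoint_iff.mp hdisj]; exact fun h => h)
      · rw [← Opens.coe_disjoint, Set.not_disjoint_iff] at hdisj
        obtain ⟨z, hzU, hzV⟩ := hdisj
        exact ⟨z, trivial, hUu hzU, hVv hzV⟩
    exact { toPreirreducibleSpace := this, toNonempty := hne }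

end Groth.Agent.S9822
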