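import Groth.Statements.S9824
import Groth.Agent.H71.QCoh.LocFreeRank

set_option autoImplicit false
universe u
open CategoryTheory CategoryTheory.Limits AlgebraicGeometry TopologicalSpace Opposite
open Props

namespace Groth.Agent.S9824

/-- Over a reduced scheme, a quasi-coherent module is finite locally free if and only if it is of finite
type and its fibre rank (the dimension of the stalk tensored with the residue field) is a locally
constant function. -/
theorem result (X : Scheme.{u}) [IsReduced X]
    (M : X.Modules) [Coh.IsQCoh M] :
    FlatMod.IsFinLocFree M ↔ CohB1.IsFT M ∧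
      IsLocallyConstant (fun x : X => Module.finrank (IsLocalRing.ResidueField (X.presheaf.stalk x))
          (TensorProduct (X.presheaf.stalk x) (IsLocalRing.ResidueField (X.presheaf.stalk x)) (M.presheaf.stalk x))) := by
  constructor
  · intro h
    exact ⟨Groth.Agent.H71.QCoh.isFiniteType_of_isFinLocFree M h,
      Groth.Agent.H71.QCoh.isLocallyConstant_fibreRank_of_isFinLocFree M h⟩
  · rintro ⟨hFT, hlc⟩
    rw [Groth.Agent.H44.isFinLocFree_iff]
    intro V
    haveI : SheafOfModules.IsFiniteType (R := X.ringCatSheaf) M := hFT
    have hfin := Groth.Agent.H44.finite_sections_of_isFiniteType M V.2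
    exact (Groth.Agent.H71.Fib.finite_projective_iff_fibreRank_locallyConstant
      (R := Γ(X, V.1)) (M := Γ(M, V.1))).2
      ⟨hfin, Groth.Agent.H71.QCoh.isLocallyConstant_affineRank M hlc V.2⟩

end Groth.Agent.S9824
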