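import Groth.Statements.S9832
import Groth.Agent.H17.JacSpace

set_option autoImplicit false
universe u
open Props

namespace Groth.Agent.S9832

/-- For a Noetherian ring R and an ideal I inside the Jacobson radical of R, the complement of V(I) in
Spec R is a Jacobson topological space. -/
theorem result (R : Type u) [CommRing R] [IsNoetherianRing R]
    (I : Ideal R) (hI : I ≤ (⊥ : Ideal R).jacobson) :
    JacobsonSpace ↥((PrimeSpectrum.zeroLocus (I : Set R))ᶜ) := by
  apply Groth.Agent.H17.jacobsonSpace_compl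
  · intro y
    exact ⟨R, inferInstance, inferInstance, id, Topology.IsOpenEmbedding.id, ⟨y, rfl⟩⟩
  · exact PrimeSpectrum.isClosed_zeroLocus _
  · intro Z hZ hne
    obtain ⟨J, rfl⟩ := (PrimeSpectrum.isClosed_iff_zeroLocus_ideal Z).mp hZ
    obtain ⟨p, hp⟩ := hne
    obtain ⟨m, hm, hpm⟩ := Ideal.exists_le_maximal p.asIdeal p.isPrime.ne_top
    refine ⟨⟨m, hm.isPrime⟩, ?_, ?_⟩
    · intro x hx
      exact hpm (hp hx)
    · intro x hx
      have h1 : x ∈ (⊥ : Ideal R).jacobson := hI hx
      rw [Ideal.jacobson, Ideal.mem_sInf] at h1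
      exact h1 ⟨bot_le, hm⟩

end Groth.Agent.S9832
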