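import Groth.Statements.S9834
import Groth.Agent.H49.AffineLocalRing
import Groth.Agent.S9398
import Groth.Agent.S9399

set_option autoImplicit false
universe u
open CategoryTheory AlgebraicGeometry TopologicalSpace
open Props

namespace Groth.Agent.S9834

/-- If a scheme has an affine open covering by spectra of universally Japanese rings, then the
coordinate ring of every affine open is universally Japanese. -/
theorem result (X : Scheme.{u}) {ι : Type u} (U : ι → X.Opens)
    (hU : iSup U = ⊤) (haff : ∀ i, IsAffineOpen (U i)) (hJ : ∀ i, CAlg.IsUniversallyJapanese Γ(X, U i))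
    (V : X.Opens) (hV : IsAffineOpen V) : CAlg.IsUniversallyJapanese Γ(X, V) := by
  refine Groth.Agent.H49.ring_property_of_affine_cover
    (fun R _ => CAlg.IsUniversallyJapanese R) ?_ ?_ ?_ X U hU haff hJ V hV
  · intro R S _ _ e hR
    letI : Algebra R S := e.toRingHom.toAlgebra
    haveI : Algebra.FiniteType R S := Algebra.FiniteType.of_surjective (Algebra.ofId R S) e.surjective
    exact Groth.Agent.S9398.result R hR S
  · intro R _ f hR
    haveI : Algebra.FiniteType R (Localization.Away f) := IsLocalization.finiteType_of_monoid_fg (Submonoid.powers f) _
    exact Groth.Agent.S9398.result R hR (Localization.Away f)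
  · intro R _ ι _ f hf h
    exact Groth.Agent.S9399.result R f hf h

end Groth.Agent.S9834
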