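import Groth.Statements.S9839
import Groth.Agent.H49.FpqcOpens

set_option autoImplicit false
open CategoryTheory CategoryTheory.Limits AlgebraicGeometry Opposite
universe u
open Desc

namespace Groth.Agent.S9839

/-- Let f i : T i ⟶ T be an fpqc covering family of a scheme T (a family in the fpqc precoverage) and W
i ⊆ T i open subsets such that for all i, j the inverse images of W i and W j under the two
projections of T i ×_T T j coincide. Then there is a unique open subset W ⊆ T with (f i)⁻¹(W) = W i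
for every i. -/
theorem result {ι : Type u} {T : Scheme.{u}} {Ti : ι → Scheme.{u}}
    (f : ∀ i, Ti i ⟶ T) (hf : Presieve.ofArrows Ti f ∈ Scheme.fpqcPrecoverage T)
    (W : ∀ i, (Ti i).Opens)
    (hW : ∀ i j, (pullback.fst (f i) (f j)) ⁻¹ᵁ (W i) = (pullback.snd (f i) (f j)) ⁻¹ᵁ (W j)) :
    ∃! V : T.Opens, ∀ i, (f i) ⁻¹ᵁ V = W i := by
  have hqc : QuasiCompactCover (PreZeroHypercover.mk ι Ti f) :=
    Scheme.presieve₀_mem_qcPrecoverage_iff.1 hf.1
  have hfl := hf.2
  rw [Scheme.ofArrows_mem_precoverage_iff] at hfl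
  obtain ⟨hsurj, hflat⟩ := hfl
  have key : ∀ i j (x : Ti i) (y : Ti j), f i x = f j y → (x ∈ W i ↔ y ∈ W j) := by
    intro i j x y h
    obtain ⟨z, hz1, hz2⟩ := Scheme.Pullback.exists_preimage_pullback x y h
    have h1 : z ∈ (pullback.fst (f i) (f j)) ⁻¹ᵁ (W i) ↔ z ∈ (pullback.snd (f i) (f j)) ⁻¹ᵁ (W j) := by
      rw [hW i j]
    change pullback.fst (f i) (f j) z ∈ W i ↔ pullback.snd (f i) (f j) z ∈ W j at h1
    rwa [hz1, hz2] at h1
  have hpre : ∀ i, (f i) ⁻¹' (⋃ j, f j '' (W j : Set (Ti j))) = (W i : Set (Ti i)) := by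
    intro i
    ext x
    constructor
    · intro hx
      obtain ⟨j, y, hy, hxy⟩ := Set.mem_iUnion.1 hx
      exact (key i j x y hxy.symm).2 hy
    · intro hx
      exact Set.mem_iUnion.2 ⟨i, x, hx, rfl⟩
  have hopen : IsOpen (⋃ j, f j '' (W j : Set (Ti j))) := by
    refine Groth.Agent.H49.isOpen_of_fpqc_family f hflat _ fun i => ?_
    rw [hpre i]
    exact (W i).isOpen
  refine ⟨⟨_, hopen⟩, fun i => ?_, fun V' hV' => ?_⟩
  · ext x
    exact Set.ext_iff.1 (hpre i) x
  · ext t
    obtain ⟨i, x, rfl⟩ := hsurj t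
    have h1 : f i x ∈ V' ↔ x ∈ W i := by
      rw [← hV' i]
      rfl
    have h2 : f i x ∈ (⋃ j, f j '' (W j : Set (Ti j))) ↔ x ∈ W i := by
      have := Set.ext_iff.1 (hpre i) x
      exact this
    exact h1.trans h2.symm

end Groth.Agent.S9839
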