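import Groth.Statements.S9842
import Groth.Agent.H49.Dominant

set_option autoImplicit false
open CategoryTheory CategoryTheory.Limits AlgebraicGeometry Opposite
universe u
open Desc

namespace Groth.Agent.S9842

/-- Let E/k be a field extension, Y a scheme over k and f : X ⟶ Y a morphism. Writing Y_E = Y ×_k Spec
E, the morphism f is dominant if and only if its base change X ×_Y Y_E ⟶ Y_E is dominant. -/
theorem result {k E : Type u} [Field k] [Field E] [Algebra k E]
    {X Y : Scheme.{u}} (f : X ⟶ Y) (q : Y ⟶ Spec (.of k)) :
    IsDominant f ↔
      IsDominant (pullback.snd f (pullback.fst q (Spec.map (CommRingCat.ofHom (algebraMap k E))))) := by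
  set g := pullback.fst q (Spec.map (CommRingCat.ofHom (algebraMap k E))) with hg
  have hs : Surjective (Spec.map (CommRingCat.ofHom (algebraMap k E))) := by
    refine ⟨fun y => ⟨IsLocalRing.closedPoint E, Subsingleton.elim _ _⟩⟩
  have hgs : Surjective g := inferInstance
  have hgo : IsOpenMap g := g.isOpenMap
  constructor
  · intro hf
    exact Groth.Agent.H49.isDominant_pullback_snd_of_isOpenMap f g hgo
  · intro h
    exact Groth.Agent.H49.isDominant_of_pullback_snd f (fun _ : Unit => _) (fun _ => g)
      (fun y => ⟨(), hgs.surj y⟩) (fun _ => h)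

end Groth.Agent.S9842
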