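import Groth.Statements.S9843
import Groth.Agent.H49.Dominant

set_option autoImplicit false
open CategoryTheory CategoryTheory.Limits AlgebraicGeometry Opposite
universe u
open Desc

namespace Groth.Agent.S9843

/-- Being dominant is fppf local on the base: for every fppf covering family Y i ⟶ Y (flat, locally of
finite presentation, jointly surjective), a morphism X ⟶ Y is dominant if and only if all its base
changes X ×_Y Y i ⟶ Y i are. -/
theorem result :
    MorphismProperty.IsLocalAtTarget (@IsDominant : MorphismProperty Scheme.{u}) Scheme.fppfPrecoverage := by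
  refine MorphismProperty.IsLocalAtTarget.mk_of_iff_of_zeroHypercover fun {X Y} f 𝒰 => ?_
  have hmem : Presieve.ofArrows 𝒰.X 𝒰.f ∈
      Scheme.precoverage (@Flat ⊓ @LocallyOfFinitePresentation) Y := 𝒰.mem₀
  rw [Scheme.ofArrows_mem_precoverage_iff] at hmem
  obtain ⟨hsurj, hP⟩ := hmem
  constructor
  · intro hf i
    have : IsDominant f := hf
    have : Flat (𝒰.f i) := (hP i).1
    have : LocallyOfFinitePresentation (𝒰.f i) := (hP i).2
    exact Groth.Agent.H49.isDominant_pullback_snd_of_isOpenMap f (𝒰.f i) (𝒰.f i).isOpenMap
  · intro h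
    exact Groth.Agent.H49.isDominant_of_pullback_snd f 𝒰.X 𝒰.f hsurj h

end Groth.Agent.S9843
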