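import Groth.Statements.S9846
import Groth.Agent.S9845

set_option autoImplicit false
open CategoryTheory CategoryTheory.Limits AlgebraicGeometry Opposite
universe u
open Desc

namespace Groth.Agent.S9846

/-- Being universally open is fppf local on the source: for every fppf covering family g i : X i ⟶ X, a
morphism f : X ⟶ Y is universally open if and only if every composite g i ≫ f is. -/
theorem result :
    MorphismProperty.IsLocalAtSource (@UniversallyOpen : MorphismProperty Scheme.{u}) Scheme.fppfPrecoverage := by
  have hloc := Groth.Agent.S9845.result.{u}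
  refine MorphismProperty.IsLocalAtSource.mk_of_iff_of_zeroHypercover fun {X Y} f 𝒰 => ?_
  have hmem : Presieve.ofArrows 𝒰.X 𝒰.f ∈
      Scheme.precoverage (@Flat ⊓ @LocallyOfFinitePresentation) X := 𝒰.mem₀
  rw [Scheme.ofArrows_mem_precoverage_iff] at hmem
  obtain ⟨hsurj, hP⟩ := hmem
  constructor
  · intro hf i
    have : Flat (𝒰.f i) := (hP i).1
    have : LocallyOfFinitePresentation (𝒰.f i) := (hP i).2
    infer_instance
  · intro hf
    rw [UniversallyOpen.eq]
    apply MorphismProperty.universally_mk'
    intro T g _
    rw [MorphismProperty.IsLocalAtSource.iff_of_zeroHypercover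
      (P := topologically (fun f => IsOpenMap f)) (K := Scheme.fppfPrecoverage)
      (𝒰.pullback₁ <| pullback.snd g f)]
    intro (i : 𝒰.I₀)
    change topologically (fun f => IsOpenMap f)
      (pullback.fst (pullback.snd g f) (𝒰.f i) ≫ pullback.fst g f)
    rw [← pullbackLeftPullbackSndIso_hom_fst,
      (topologically (fun f => IsOpenMap f)).cancel_left_of_respectsIso]
    have := hf i
    rw [UniversallyOpen.eq] at this
    exact this _ _ _ (IsPullback.of_hasPullback ..)

end Groth.Agent.S9846
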