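import Groth.Statements.S9853
import Groth.Agent.H40.PullDD

set_option autoImplicit false
open CategoryTheory CategoryTheory.Limits AlgebraicGeometry Opposite
universe u
open Desc

namespace Groth.Agent.S9853

/-- Let g : X ⟶ X' be a morphism of schemes over S, with structure morphisms a : X ⟶ S and a' : X' ⟶ S,
and assume that the single morphism a is an fpqc covering of S (for instance surjective, flat and
quasi-compact). Then the pullback functor along g, from descent data for schemes relative to X' ⟶ S
to descent data relative to X ⟶ S, is full and faithful. (Descent data relative to a single morphism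
are written as descent data relative to the corresponding one-member family.) -/
theorem result {X X' S : Scheme.{u}} (a : X ⟶ S) (a' : X' ⟶ S) (g : X ⟶ X')
    (h : g ≫ a' = a) (ha : Presieve.singleton a ∈ Scheme.fpqcPrecoverage S) :
    (Desc.pullDDFam (f := fun _ : PUnit.{u + 1} => a') (f' := fun _ : PUnit.{u + 1} => a) (α := fun j => j)
        (p := 𝟙 S) (p' := fun _ => g) (fun _ => (h).trans (Category.comp_id a).symm)).Full ∧
    (Desc.pullDDFam (f := fun _ : PUnit.{u + 1} => a') (f' := fun _ : PUnit.{u + 1} => a) (α := fun j => j)
        (p := 𝟙 S) (p' := fun _ => g) (fun _ => (h).trans (Category.comp_id a).symm)).Faithful := by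
  apply Groth.Agent.H40.PullDD.full_faithful
    (a := fun _ : PUnit.{u + 1} => a) (b := fun _ : PUnit.{u + 1} => a') (α := fun j => j)
    (g := fun _ => g) (fun _ => (h).trans (Category.comp_id a).symm)
  intro j
  let E₀ : PreZeroHypercover.{u} S := ⟨PUnit.{u + 1}, fun _ => X, fun _ => a⟩
  have hE₀ : E₀.presieve₀ ∈ Scheme.fpqcPrecoverage S := by
    have : E₀.presieve₀ = Presieve.singleton a := Presieve.ofArrows_pUnit a
    rw [this]
    exact ha
  let 𝒰 : Scheme.fpqcPrecoverage.ZeroHypercover.{u} S := ⟨E₀, hE₀⟩
  refine ⟨𝒰.pullback₁ a', fun k => k, fun k => pullback.snd a' a, ?_⟩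
  intro k
  exact pullback.condition.symm

end Groth.Agent.S9853
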