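import Groth.Statements.S9862
import Groth.Agent.H49.SyntCM

set_option autoImplicit false
open CategoryTheory CategoryTheory.Limits AlgebraicGeometry Opposite
universe u
open Desc

namespace Groth.Agent.S9862

/-- Being Cohen-Macaulay is local in the syntomic topology: for a jointly surjective family of syntomic
morphisms f i : X i ⟶ S, the scheme S is locally Noetherian with Cohen-Macaulay local rings if and
only if every X i is. -/
theorem result {ι : Type u} {S : Scheme.{u}} {X : ι → Scheme.{u}} (f : ∀ i, X i ⟶ S)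
    (hsurj : ∀ s : S, ∃ i, s ∈ Set.range (f i).base) (hsyn : ∀ i, Synt.IsSyntomicMor (f i)) :
    (IsLocallyNoetherian S ∧ ∀ s : S, LocCoh.IsCohenMacaulayLocalRing (S.presheaf.stalk s)) ↔
      ∀ i, IsLocallyNoetherian (X i) ∧ ∀ x : X i, LocCoh.IsCohenMacaulayLocalRing ((X i).presheaf.stalk x) := by
  have hfl : ∀ i, Flat (f i) := fun i => Groth.Agent.H49.SyntCM.flat_of_isSyntomicMor _ (hsyn i)
  have hfp : ∀ i, LocallyOfFinitePresentation (f i) :=
    fun i => Groth.Agent.H49.SyntCM.lfp_of_isSyntomicMor _ (hsyn i)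
  constructor
  · rintro ⟨hN, hcm⟩ i
    have hNi : IsLocallyNoetherian (X i) := LocallyOfFiniteType.isLocallyNoetherian (f i)
    refine ⟨hNi, fun x => ?_⟩
    refine Groth.Agent.H49.SyntCM.stalk_of_isSyntomicMor
      (fun A _ => LocCoh.IsCohenMacaulayLocalRing A) (fun A _ => LocCoh.IsCohenMacaulayLocalRing A)
      (fun A B _ _ e h => Groth.Agent.H49.isCohenMacaulayLocalRing_of_ringEquiv e h)
      (fun A B _ _ e h => Groth.Agent.H49.isCohenMacaulayLocalRing_of_ringEquiv e h)
      (fun A B _ _ _ _ _ _ _ _ _ hA hF =>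
        (Groth.Agent.H72.FlatCM.isCohenMacaulayLocalRing_iff_of_flat (A := A) (B := B)).mpr
          ⟨hA, hF⟩)
      (fun k T _ _ _ hlci q _ =>
        (Groth.Agent.H46.CIField.isCohenMacaulayRing_of_isLCIOver k T
          hlci).isCohenMacaulayLocalRing_localization q)
      (f i) (hsyn i) hcm x
  · intro h
    have hNi : ∀ i, IsLocallyNoetherian (X i) := fun i => (h i).1
    have hN : IsLocallyNoetherian S :=
      Groth.Agent.H49.SyntCM.isLocallyNoetherian_of_family f hsurj
    refine ⟨hN, fun s => ?_⟩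
    obtain ⟨i, x, rfl⟩ := hsurj s
    exact Groth.Agent.H49.SyntCM.stalk_of_flat_descent
      (fun A _ => LocCoh.IsCohenMacaulayLocalRing A)
      (fun A B _ _ _ _ _ _ _ _ _ hB =>
        ((Groth.Agent.H72.FlatCM.isCohenMacaulayLocalRing_iff_of_flat (A := A) (B := B)).mp hB).1)
      (f i) x ((h i).2 x)

end Groth.Agent.S9862
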