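import Groth.Statements.S9863
import Groth.Agent.H49.SyntSk

set_option autoImplicit false
open CategoryTheory CategoryTheory.Limits AlgebraicGeometry Opposite
universe u
open Desc

namespace Groth.Agent.S9863

/-- The property 'locally Noetherian and (S_k)' is local in the syntomic topology: for a jointly
surjective family of syntomic morphisms f i : X i ⟶ S and k a natural number, S is locally
Noetherian with all local rings satisfying Serre's condition (S_k) if and only if every X i is. -/
theorem result {ι : Type u} {S : Scheme.{u}} {X : ι → Scheme.{u}} (f : ∀ i, X i ⟶ S)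
    (hsurj : ∀ s : S, ∃ i, s ∈ Set.range (f i).base) (hsyn : ∀ i, Synt.IsSyntomicMor (f i)) (k : ℕ) :
    (IsLocallyNoetherian S ∧ ∀ s : S, LocCoh.HasSk k (S.presheaf.stalk s) (S.presheaf.stalk s)) ↔
      ∀ i, IsLocallyNoetherian (X i) ∧ ∀ x : X i, LocCoh.HasSk k ((X i).presheaf.stalk x) ((X i).presheaf.stalk x) := by
  have hfl : ∀ i, Flat (f i) := fun i => Groth.Agent.H49.SyntCM.flat_of_isSyntomicMor _ (hsyn i)
  have hfp : ∀ i, LocallyOfFinitePresentation (f i) :=
    fun i => Groth.Agent.H49.SyntCM.lfp_of_isSyntomicMor _ (hsyn i)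
  constructor
  · rintro ⟨hN, hsk⟩ i
    have hNi : IsLocallyNoetherian (X i) := LocallyOfFiniteType.isLocallyNoetherian (f i)
    refine ⟨hNi, ?_⟩
    rw [Groth.Agent.H49.SyntSk.forall_hasSk_stalk_iff]
    rw [Groth.Agent.H49.SyntSk.forall_hasSk_stalk_iff] at hsk
    intro x
    refine Groth.Agent.H49.SyntCM.stalk_of_isSyntomicMor
      (fun A _ => Groth.Agent.H26.SkFlat.SkClosed k A)
      (fun A _ => Groth.Agent.H26.SkFlat.SkClosed k A)
      (fun A B _ _ e h => @Groth.Agent.H26.SkFlat.skClosed_of_ringEquiv k A B _ _ e h)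
      (fun A B _ _ e h => @Groth.Agent.H26.SkFlat.skClosed_of_ringEquiv k A B _ _ e h)
      (fun A B _ _ _ _ _ _ _ _ _ hA hF =>
        @Groth.Agent.H26.SkFlat.skClosed_of_flat k A B _ _ _ _ _ _ _ _ _ hA hF)
      (fun κ T _ _ _ hlci q _ => ?_)
      (f i) (hsyn i) hsk x
    have hcm := Groth.Agent.H46.CIField.isCohenMacaulayRing_of_isLCIOver κ T hlci
    have : IsNoetherianRing T := hcm.toIsNoetherian
    have h1 := Groth.Agent.H26.SkTensor.hasSk_of_isCohenMacaulayRing k T hcm
    have h2 := (Groth.Agent.H26.SkFlat.hasSk_self_iff_skClosed k T).mp h1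
    exact @h2 q _
  · intro h
    have hNi : ∀ i, IsLocallyNoetherian (X i) := fun i => (h i).1
    have hN : IsLocallyNoetherian S :=
      Groth.Agent.H49.SyntCM.isLocallyNoetherian_of_family f hsurj
    refine ⟨hN, fun s => ?_⟩
    obtain ⟨i, x, rfl⟩ := hsurj s
    exact Groth.Agent.H49.SyntCM.stalk_of_flat_descent
      (fun A _ => LocCoh.HasSk k A A)
      (fun A B _ _ _ _ _ _ _ _ _ hB => by
        have : Module.FaithfullyFlat A B := Module.FaithfullyFlat.of_flat_of_isLocalHom
        exact (Groth.Agent.H14.hasSk_of_faithfullyFlat k A B hB).2)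
      (f i) x ((h i).2 x)

end Groth.Agent.S9863
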