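import Groth.Statements.S9865
import Groth.Agent.H40.DF.Endo
import Groth.Agent.H40.DF.Comp

set_option autoImplicit false
open CategoryTheory CategoryTheory.Limits AlgebraicGeometry Opposite
universe u
open Desc

namespace Groth.Agent.S9865

/-- Let f : X' ⟶ X be a morphism of schemes over S, with structure morphisms a' : X' ⟶ S and a : X ⟶ S,
and assume there exists a morphism g : X ⟶ X' over S (for instance a section of f). Then the
pullback functor along f, from descent data for schemes relative to X ⟶ S to descent data relative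
to X' ⟶ S, is an equivalence of categories. (Descent data relative to a single morphism are written
as descent data relative to the corresponding one-member family.) -/
theorem result {X X' S : Scheme.{u}} (a : X ⟶ S) (a' : X' ⟶ S) (f : X' ⟶ X)
    (h : f ≫ a = a') (hg : ∃ g : X ⟶ X', g ≫ a' = a) :
    (Desc.pullDDFam (f := fun _ : PUnit.{u + 1} => a) (f' := fun _ : PUnit.{u + 1} => a') (α := fun j => j)
        (p := 𝟙 S) (p' := fun _ => f) (fun _ => (h).trans (Category.comp_id a').symm)).IsEquivalence := by
  obtain ⟨g, hg⟩ := hg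
  let F := Desc.pullDDFam (f := fun _ : PUnit.{u + 1} => a) (f' := fun _ : PUnit.{u + 1} => a')
    (α := fun j => j) (p := 𝟙 S) (p' := fun _ => f)
    (fun _ => (h).trans (Category.comp_id a').symm)
  let G := Desc.pullDDFam (f := fun _ : PUnit.{u + 1} => a') (f' := fun _ : PUnit.{u + 1} => a)
    (α := fun j => j) (p := 𝟙 S) (p' := fun _ => g)
    (fun _ => (hg).trans (Category.comp_id a).symm)
  let e₁ : F ⋙ G ≅ 𝟭 _ :=
    Groth.Agent.H40.DF.pullCompIso
      (f := fun _ : PUnit.{u + 1} => a) (f' := fun _ : PUnit.{u + 1} => a')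
      (f'' := fun _ : PUnit.{u + 1} => a) (α₁ := fun j => j) (p₁ := 𝟙 S) (p'₁ := fun _ => f)
      (fun _ => (h).trans (Category.comp_id a').symm)
      (α₂ := fun j => j) (p₂ := 𝟙 S) (p'₂ := fun _ => g)
      (fun _ => (hg).trans (Category.comp_id a).symm) ≪≫
    Groth.Agent.H40.DF.pullEndoIso _ (fun _ => by rw [Category.comp_id, Category.comp_id])
  let e₂ : G ⋙ F ≅ 𝟭 _ :=
    Groth.Agent.H40.DF.pullCompIso
      (f := fun _ : PUnit.{u + 1} => a') (f' := fun _ : PUnit.{u + 1} => a)
      (f'' := fun _ : PUnit.{u + 1} => a') (α₁ := fun j => j) (p₁ := 𝟙 S) (p'₁ := fun _ => g)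
      (fun _ => (hg).trans (Category.comp_id a).symm)
      (α₂ := fun j => j) (p₂ := 𝟙 S) (p'₂ := fun _ => f)
      (fun _ => (h).trans (Category.comp_id a').symm) ≪≫
    Groth.Agent.H40.DF.pullEndoIso _ (fun _ => by rw [Category.comp_id, Category.comp_id])
  exact (CategoryTheory.Equivalence.mk F G e₁.symm e₂).isEquivalence_functor

end Groth.Agent.S9865
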