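import Groth.Statements.S9867
import Groth.Agent.H1.Descent
import Groth.Agent.H53.FlatSource

set_option autoImplicit false
open CategoryTheory CategoryTheory.Limits AlgebraicGeometry Opposite
universe u
open Desc

namespace Groth.Agent.S9867

/-- Being finite locally free (finite, flat and locally of finite presentation), and being finite
locally free of a given degree d, are fpqc local on the base; the descent directions, stated as
descent along surjective flat quasi-compact morphisms: if the base change of f along such a morphism
is finite locally free then so is f, and if moreover that base change has constant rank d (Mathlib's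
rank function of a finite flat morphism) then f has constant rank d. (With Zariski-locality on the
target these give the statements for arbitrary fpqc coverings; stability under base change is the
other direction.) -/
theorem result :
    MorphismProperty.DescendsAlong (fun _ _ f => Mor2.IsFinLocFree f : MorphismProperty Scheme.{u})
      (@Surjective ⊓ @Flat ⊓ @QuasiCompact : MorphismProperty Scheme.{u}) ∧
    ∀ d : ℕ, MorphismProperty.DescendsAlong (fun _ _ f => Mor2.IsFinLocFreeOfDeg d f : MorphismProperty Scheme.{u})
      (@Surjective ⊓ @Flat ⊓ @QuasiCompact : MorphismProperty Scheme.{u}) := by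
  have key : ∀ {A X Y Z : Scheme.{u}} {fst : A ⟶ X} {snd : A ⟶ Y} {f : X ⟶ Z} {g : Y ⟶ Z},
      IsPullback fst snd f g →
      (@Surjective ⊓ @Flat ⊓ @QuasiCompact : MorphismProperty Scheme.{u}) f →
      Mor2.IsFinLocFree fst → Mor2.IsFinLocFree g := by
    intro A X Y Z fst snd f g h hf hfst
    obtain ⟨⟨hf1, hf2⟩, hf3⟩ := hf
    obtain ⟨h1, h2, h3⟩ := hfst
    refine ⟨?_, ?_, ?_⟩
    · exact Groth.Agent.H1.isFinite_descendsAlong_fpqc.of_isPullback h ⟨⟨hf1, hf2⟩, hf3⟩ h1
    · have hs1 : Surjective snd := MorphismProperty.of_isPullback h hf1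
      have hs2 : Flat snd := MorphismProperty.of_isPullback h hf2
      refine Groth.Agent.H53.flat_of_forall_comp_flat g (Presieve.singleton snd) ?_ ?_ ?_
      · intro y
        obtain ⟨a, ha⟩ := hs1.surj y
        exact ⟨A, snd, ⟨⟩, a, ha⟩
      · rintro U k ⟨⟩
        exact hs2
      · rintro U k ⟨⟩
        rw [← h.w]
        infer_instance
    · exact MorphismProperty.DescendsAlong.of_isPullback (P := @LocallyOfFinitePresentation)
        (Q := (@Surjective ⊓ @Flat ⊓ @QuasiCompact : MorphismProperty Scheme.{u})) h
        ⟨⟨hf1, hf2⟩, hf3⟩ h3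
  refine ⟨⟨fun h hf hfst => key h hf hfst⟩, fun d => ⟨fun h hf hfst => ?_⟩⟩
  obtain ⟨hfst1, hfst2⟩ := hfst
  have hg := key h hf hfst1
  refine ⟨hg, fun z => ?_⟩
  rename_i A X Y Z fst snd f g
  obtain ⟨x, rfl⟩ := hf.1.1.surj z
  have : Flat g := hg.2.1
  have : IsFinite g := hg.1
  rw [← Scheme.Hom.finrank_of_isPullback snd fst g f h.flip x]
  exact hfst2 x

end Groth.Agent.S9867
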