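import Groth.Statements.S9870
import Groth.Agent.H51.SpQuotChart2

set_option autoImplicit false
universe u
open CategoryTheory CategoryTheory.Limits AlgebraicGeometry
open AlgSp

namespace Groth.Agent.S9870

/-- Let `s, t : R ⟶ U` be a pre-relation on a scheme `U` over `S` which is an equivalence relation (on
`T`-points, for every scheme `T` over `S`), with `s` and `t` surjective, flat and locally of finite
presentation, and let `g : U' ⟶ U` be flat and locally of finite presentation. Let `s', t' : R' ⟶
U'` be the restriction of the pre-relation to `U'`, i.e. `R'` with `(t', s')` and `R' ⟶ R` is the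
fibre product of `U' ×_S U'` and `R` over `U ×_S U`. Then the map of fppf quotient sheaves `U'/R' ⟶
U/R` induced by `g` (the unique map under the quotient maps compatible with `h_g`) is representable
and an open immersion. -/
theorem result (S : Scheme.{u}) {R U R' U' : Over S} (s t : R ⟶ U)
    (g : U' ⟶ U) (s' t' : R' ⟶ U') (r : R' ⟶ R)
    (hsq : IsPullback (prod.lift t' s') r (prod.map g g) (prod.lift t s))
    (hR : AlgSp.IsEqvRel s t)
    [Surjective s.left] [Flat s.left] [LocallyOfFinitePresentation s.left]
    [Surjective t.left] [Flat t.left] [LocallyOfFinitePresentation t.left]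
    [Flat g.left] [LocallyOfFinitePresentation g.left]
    (φ : QuotSh.quot Scheme.fppfPrecoverage s' t' ⟶ QuotSh.quot Scheme.fppfPrecoverage s t)
    (hφ : QuotSh.quotπ Scheme.fppfPrecoverage s' t' ≫ φ = QuotSh.repMap Scheme.fppfPrecoverage g ≫ QuotSh.quotπ Scheme.fppfPrecoverage s t) :
    AlgSp.RepWith @IsOpenImmersion φ := by
  classical
  have hpre := Groth.Agent.H51.isPreEqvRelSp_of_isEqvRel hR
  have sqP : IsPullback (pullback.fst g t) (pullback.snd g t) g t := IsPullback.of_hasPullback _ _
  have sqP' : IsPullback (pullback.fst g t).left (pullback.snd g t).left g.left t.left :=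
    sqP.map (Over.forget S)
  have hflat : Flat (pullback.snd g t).left := MorphismProperty.of_isPullback sqP' inferInstance
  have hlfp : LocallyOfFinitePresentation (pullback.snd g t).left :=
    MorphismProperty.of_isPullback sqP' inferInstance
  let h : pullback g t ⟶ U := pullback.snd g t ≫ s
  have hhl : h.left = (pullback.snd g t).left ≫ s.left := rfl
  have hflat' : Flat h.left := by rw [hhl]; infer_instance
  have hlfp' : LocallyOfFinitePresentation h.left := by rw [hhl]; infer_instance
  let W : U.left.Opens := ⟨Set.range h.left, h.left.isOpenMap.isOpen_range⟩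
  obtain ⟨hlift, hh⟩ := Groth.Agent.H51.exists_factor_opensOv W h (fun τ => ⟨τ, rfl⟩)
  have hhl' : hlift.left ≫ W.ι = h.left := congr(($hh).left)
  have h1 : Flat hlift.left := MorphismProperty.of_postcomp (W := @Flat) (W' := @IsOpenImmersion)
    hlift.left W.ι inferInstance (by rw [hhl']; exact hflat')
  have h2 : LocallyOfFinitePresentation hlift.left :=
    MorphismProperty.of_postcomp (W := @LocallyOfFinitePresentation) (W' := @IsOpenImmersion)
    hlift.left W.ι inferInstance (by rw [hhl']; exact hlfp')
  have h3 : Surjective hlift.left := by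
    refine ⟨fun w => ?_⟩
    have hw : W.ι w ∈ Set.range W.ι := ⟨w, rfl⟩
    rw [Scheme.Opens.range_ι] at hw
    obtain ⟨τ, hτ⟩ : W.ι w ∈ Set.range h.left := hw
    refine ⟨τ, ?_⟩
    apply W.ι.isOpenEmbedding.injective
    rw [← Scheme.Hom.comp_apply, hhl', hτ]
  haveI := Groth.Agent.H51.isLocallySurjective_yon_map_of_fppf hlift
  have hφ' : Groth.Agent.H49.quotMap s' t' ≫ φ =
      (yon S).map g ≫ Groth.Agent.H49.quotMap s t := by
    unfold Groth.Agent.H49.quotMap
    rw [Category.assoc, hφ, ← Category.assoc, Groth.Agent.H49.repIso_inv_comp_repMap,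
      Category.assoc]
  exact Groth.Agent.H51.repWith_isOpenImmersion_quot_of_chart s t g s' t' hpre
    (Groth.Agent.H51.exists_lift_restrict hsq) (pullback.fst g t) (pullback.snd g t)
    pullback.condition
    (fun T a ρ h => ⟨pullback.lift a ρ h, pullback.lift_fst _ _ _, pullback.lift_snd _ _ _⟩)
    W hlift hh φ hφ'

end Groth.Agent.S9870
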