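import Groth.Statements.S9876
import Groth.Agent.H49.AlgSpRep

set_option autoImplicit false
universe u
open CategoryTheory CategoryTheory.Limits AlgebraicGeometry
open AlgSp

namespace Groth.Agent.S9876

/-- Let `X` be an algebraic space over `S` and `G` a presheaf of sets on schemes over `S` with a map `a
: G ⟶ X` of presheaves which is representable by schemes. Then `G` is an fppf sheaf and an algebraic
space over `S`. -/
theorem result (S : Scheme.{u}) (X : AlgSp.Space S)
    (G : AlgSp.PSp S) (a : G ⟶ X.obj.obj) (ha : (AlgSp.pyon S).relativelyRepresentable a) :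
    AlgSp.IsAlgSpaceP G := by
  have hG : Presheaf.IsSheaf (AlgSp.J S) G := by
    have hX : Presheaf.IsSheaf (AlgSp.J S) X.obj.obj := X.obj.property
    rw [isSheaf_iff_isSheaf_of_type] at hX ⊢
    refine Groth.Agent.H49.isSheaf_of_relativelyRepresentable.{u+1} (AlgSp.J S) ?_ a ha hX
    intro V
    rw [← isSheaf_iff_isSheaf_of_type]
    exact ((AlgSp.yon S).obj V).property
  refine ⟨hG, ?_⟩
  let a' : (⟨G, hG⟩ : AlgSp.Sp S) ⟶ X.obj := ObjectProperty.homMk a
  exact Groth.Agent.H49.isAlgSpace_of_representable_to a'
    ((Groth.Agent.H49.representable_iff_pyon a').2 ha) X.property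

end Groth.Agent.S9876
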