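import Groth.Statements.S9879
import Groth.Agent.H49.AlgSpCoprod

set_option autoImplicit false
universe u
open CategoryTheory CategoryTheory.Limits AlgebraicGeometry
open AlgSp

namespace Groth.Agent.S9879

/-- Let `U` be a scheme over `S` and `F_i` a family of fppf sheaves of sets over `S` whose coproduct in
sheaves is isomorphic to `h_U`. Then each `F_i` is representable by a scheme `V_i` over `S` such
that `V_i ⟶ U` (the morphism inducing `h_{V_i} ≅ F_i ⟶ ∐ F_i ≅ h_U`) is an open and closed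
immersion, and `U` is the coproduct of the `V_i` in schemes. -/
theorem result (S : Scheme.{u}) (U : Over S) {ι : Type u}
    (F : ι → AlgSp.Sp S) (c : Cofan F) (hc : IsColimit c) (e : c.pt ≅ (AlgSp.yon S).obj U) :
    ∃ (V : ι → Over S) (g : ∀ i, V i ⟶ U) (ei : ∀ i, (AlgSp.yon S).obj (V i) ≅ F i),
      (∀ i, IsOpenImmersion (g i).left ∧ IsClosedImmersion (g i).left) ∧
      (∀ i, (ei i).hom ≫ c.inj i ≫ e.hom = (AlgSp.yon S).map (g i)) ∧
      Nonempty (IsColimit (Cofan.mk U.left (fun i => (g i).left))) := by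
  classical
  set x := (AlgSp.J S).uliftYonedaEquiv e.inv with hx
  have key := fun i : ι => Groth.Agent.H49.exists_isPullback_goodIncl
    (F := Discrete.functor F) (c := c) hc e.inv ⟨i⟩
  choose b sq using key
  have hiso : ∀ i, IsIso (b i) := fun i => (sq i).isIso_fst_of_isIso
  refine ⟨fun i => Groth.Agent.H49.goodOver c x ⟨i⟩, fun i => Groth.Agent.H49.goodIncl c x ⟨i⟩,
    fun i => @asIso _ _ _ _ (b i) (hiso i), ?_, ?_, ?_⟩
  · intro i
    refine ⟨inferInstanceAs (IsOpenImmersion (Groth.Agent.H49.goodOpen c x ⟨i⟩).ι), ?_⟩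
    have : IsClosedImmersion (Groth.Agent.H49.goodOpen c x ⟨i⟩).ι := by
      apply IsClosedImmersion.of_isPreimmersion
      rw [Scheme.Opens.range_ι]
      exact Groth.Agent.H49.isClosed_goodOpen (F := Discrete.functor F) hc x ⟨i⟩
    exact this
  · intro i
    have h := (sq i).w
    change b i ≫ c.inj i ≫ e.hom = _
    have h' : b i ≫ c.inj i = (AlgSp.yon S).map (Groth.Agent.H49.goodIncl c x ⟨i⟩) ≫ e.inv := h
    rw [reassoc_of% h', Iso.inv_hom_id, Category.comp_id]
  · have : ∀ i : ι, IsOpenImmersion ((Groth.Agent.H49.goodIncl c x ⟨i⟩).left) :=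
      fun i => inferInstanceAs (IsOpenImmersion (Groth.Agent.H49.goodOpen c x ⟨i⟩).ι)
    refine nonempty_isColimit_cofanMk_of (fun i : ι => (Groth.Agent.H49.goodIncl c x ⟨i⟩).left)
      ?_ ?_
    · have h1 := Groth.Agent.H49.iSup_goodOpen (F := Discrete.functor F) hc x
      rw [eq_top_iff] at h1 ⊢
      intro t ht
      obtain ⟨⟨i⟩, hi⟩ := TopologicalSpace.Opens.mem_iSup.1 (h1 ht)
      refine TopologicalSpace.Opens.mem_iSup.2 ⟨i, ?_⟩
      change t ∈ (Groth.Agent.H49.goodOpen c x ⟨i⟩).ι.opensRange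
      rw [Scheme.Opens.opensRange_ι]
      exact hi
    · intro i j hij
      change Disjoint (Groth.Agent.H49.goodOpen c x ⟨i⟩).ι.opensRange
        (Groth.Agent.H49.goodOpen c x ⟨j⟩).ι.opensRange
      rw [Scheme.Opens.opensRange_ι, Scheme.Opens.opensRange_ι]
      exact Groth.Agent.H49.goodOpen_disjoint (F := Discrete.functor F) hc x
        (fun h => hij (congrArg Discrete.as h))

end Groth.Agent.S9879
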