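import Groth.Statements.S9885
import Groth.Agent.H49.AlgSpCover

set_option autoImplicit false
universe u
open CategoryTheory CategoryTheory.Limits AlgebraicGeometry
open AlgSp

namespace Groth.Agent.S9885

/-- Let `a : F ⟶ G` be a map of fppf sheaves of sets over `S` which is representable by schemes, flat,
locally of finite presentation and surjective (in the representable sense). Then `a` is surjective
as a map of sheaves (locally surjective). -/
theorem result (S : Scheme.{u}) (F G : AlgSp.Sp S) (a : F ⟶ G)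
    (h₁ : AlgSp.RepWith @Flat a) (h₂ : AlgSp.RepWith @LocallyOfFinitePresentation a)
    (h₃ : AlgSp.RepWith @Surjective a) : Sheaf.IsLocallySurjective a := by
  refine ⟨fun {T} s => ?_⟩
  set ξ : (AlgSp.yon S).obj T ⟶ G := (AlgSp.J S).uliftYonedaEquiv.symm s with hξ
  obtain ⟨V, p, fst, sq⟩ := h₁.rep ξ
  refine Groth.Agent.H49.mem_J_of_fppf_cover p (h₁.property ξ fst p sq) (h₂.property ξ fst p sq)
    (h₃.property ξ fst p sq) _ ?_
  refine ⟨(AlgSp.J S).uliftYonedaEquiv fst, ?_⟩
  have h1 : a.hom.app (Opposite.op V) ((AlgSp.J S).uliftYonedaEquiv fst) =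
      (AlgSp.J S).uliftYonedaEquiv (fst ≫ a) := ((AlgSp.J S).uliftYonedaEquiv_comp fst a).symm
  have h2 : G.obj.map p.op ((AlgSp.J S).uliftYonedaEquiv ξ) =
      (AlgSp.J S).uliftYonedaEquiv ((AlgSp.yon S).map p ≫ ξ) :=
    (AlgSp.J S).uliftYonedaEquiv_naturality ξ p
  have h3 : (AlgSp.J S).uliftYonedaEquiv ξ = s := by rw [hξ]; simp
  rw [h3] at h2
  exact h1.trans ((congrArg _ sq.w).trans h2.symm)

end Groth.Agent.S9885
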