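import Groth.Statements.S9886
import Groth.Agent.H49.DiagPullback

set_option autoImplicit false
universe u
open CategoryTheory CategoryTheory.Limits AlgebraicGeometry
open AlgSp

namespace Groth.Agent.S9886

/-- Let `F` be an fppf sheaf of sets over `S` and `P` a property of morphisms of schemes stable under
base change. Assume that for all schemes `U`, `V` over `S` and all `a : h_U ⟶ F`, `b : h_V ⟶ F` the
fibre product `h_U ×_F h_V` is represented by some scheme `W` over `S` with its projections induced
by morphisms `W ⟶ U`, `W ⟶ V`, and that for every such represented fibre product the morphism `W ⟶ U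
×_S V` has `P`. Then the diagonal `F ⟶ F × F` is representable by schemes and has `P`. (The
published statement is for a presheaf of sets `F` and a property `P` that is also fppf local on the
base; this row takes `F` an fppf sheaf and `P` only stable under base change.) -/
theorem result (S : Scheme.{u}) (F : AlgSp.Sp S) (P : MorphismProperty Scheme.{u})
    [P.IsStableUnderBaseChange]
    (h₁ : ∀ ⦃U V : Over S⦄ (a : (AlgSp.yon S).obj U ⟶ F) (b : (AlgSp.yon S).obj V ⟶ F),
      ∃ (W : Over S) (fst : W ⟶ U) (snd : W ⟶ V), IsPullback ((AlgSp.yon S).map fst) ((AlgSp.yon S).map snd) a b)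
    (h₂ : ∀ ⦃U V W : Over S⦄ (a : (AlgSp.yon S).obj U ⟶ F) (b : (AlgSp.yon S).obj V ⟶ F) (fst : W ⟶ U)
      (snd : W ⟶ V), IsPullback ((AlgSp.yon S).map fst) ((AlgSp.yon S).map snd) a b → P (prod.lift fst snd).left) :
    AlgSp.RepWith P (Limits.diag F) := by
  have hrep : AlgSp.Representable (Limits.diag F) := by
    refine Functor.relativelyRepresentable.diag_of_map_from_obj ?_
    intro U g V g'
    obtain ⟨W, fst, snd, sq⟩ := h₁ g g'
    exact ⟨W, snd, (AlgSp.yon S).map fst, sq⟩
  refine ⟨hrep, ?_⟩
  intro U V g fst snd sq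
  obtain ⟨W, p₁, p₂, sqW⟩ := h₁ (g ≫ prod.fst) (g ≫ prod.snd)
  have hP := h₂ _ _ p₁ p₂ sqW
  obtain ⟨k, sqk⟩ := Groth.Agent.H49.exists_isPullback_diag_of_isPullback sq sqW
  obtain ⟨k', rfl⟩ := (AlgSp.yon S).map_surjective k
  have e1 : prod.lift ((AlgSp.yon S).map p₁) ((AlgSp.yon S).map p₂) =
      (AlgSp.yon S).map (prod.lift p₁ p₂) ≫ prodComparison (AlgSp.yon S) U U := by
    apply Limits.prod.hom_ext
    · rw [Category.assoc, prodComparison_fst, ← Functor.map_comp, prod.lift_fst, prod.lift_fst]
    · rw [Category.assoc, prodComparison_snd, ← Functor.map_comp, prod.lift_snd, prod.lift_snd]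
  rw [e1, AlgSp.diag_yon_obj U] at sqk
  have sqk' := Groth.Agent.H49.isPullback_of_comp_mono _ sqk
  have sqO : IsPullback k' snd (prod.lift p₁ p₂) (Limits.diag U) :=
    IsPullback.of_map_of_faithful (AlgSp.yon S) sqk'
  exact MorphismProperty.of_isPullback (P := P.inverseImage (Over.forget S)) sqO hP

end Groth.Agent.S9886
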