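import Groth.Statements.S9888
import Groth.Agent.H49.AlgSpBasic

set_option autoImplicit false
universe u
open CategoryTheory CategoryTheory.Limits AlgebraicGeometry
open AlgSp

namespace Groth.Agent.S9888

theorem result (S : Scheme.{u}) (F F₁ F₂ : AlgSp.Sp S) (hF : AlgSp.IsAlgSpace F)
    (f₁ : F₁ ⟶ F) (f₂ : F₂ ⟶ F) (P : MorphismProperty Scheme.{u}) [P.IsStableUnderBaseChange]
    (h₁ : AlgSp.RepWith P f₁) (h₂ : AlgSp.RepWith @IsImmersion f₂) (g : F₁ ⟶ F₂) (w : g ≫ f₂ = f₁) :
    AlgSp.RepWith P g := by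
  have hmono : Mono f₂ := by
    refine Groth.Agent.H49.mono_of_repWith_mono (P := @IsImmersion) ?_ f₂ h₂
    intro A B g hg
    have : IsImmersion g := hg
    exact (inferInstance : Mono g)
  have sq : IsPullback (𝟙 F₁) g f₁ f₂ := by
    refine ⟨⟨by simp [w]⟩, ⟨PullbackCone.IsLimit.mk _ (fun s => s.fst) (fun s => by simp)
      (fun s => ?_) (fun s m h1 h2 => by simpa using h1)⟩⟩
    rw [← cancel_mono f₂, Category.assoc, w, s.condition]
  exact MorphismProperty.of_isPullback (P := AlgSp.RepWith P) sq h₁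

end Groth.Agent.S9888
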