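import Groth.Statements.S9890
import Groth.Agent.S9889
import Groth.Agent.S9868
import Groth.Agent.H49.AlgSpDiagProps
import Groth.Agent.H49.AlgSpQuot
import Groth.Agent.H49.FppfLocal2
import Groth.Agent.H51.SpQc
import Groth.Agent.H65.CoprodClosedImm
-- import your own Groth.Agent.* helpers here

set_option autoImplicit false
universe u
open CategoryTheory CategoryTheory.Limits AlgebraicGeometry
open AlgSp

namespace Groth.Agent.S9890

/-- Let a finite group `G` act freely (no non-identity element fixes a point together with its residue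
field) by `S`-automorphisms on a scheme `U` over `S`, and let `s, t : R = ∐_{g ∈ G} U ⟶ U` be the
identity and the action. When `U ⟶ S` is quasi-separated, so is the quotient sheaf `U/G = U/R` over
`S`; when `U ⟶ S` is separated, `U/G` is also separated over `S`. -/
theorem result (S : Scheme.{u}) (U : Over S) (G : Type u) [Group G] [Finite G]
    (ρ : G →* Aut U)
    (hfree : ∀ (g : G) (x : U.left), g ≠ 1 →
      U.left.fromSpecResidueField x ≫ (ρ g).hom.left ≠ U.left.fromSpecResidueField x)
    (c : Cofan (fun _ : G => U)) (hc : IsColimit c) (s t : c.pt ⟶ U)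
    (hs : ∀ g, c.inj g ≫ s = 𝟙 U) (ht : ∀ g, c.inj g ≫ t = (ρ g).hom) :
    (QuasiSeparated U.hom → AlgSp.IsQuasiSeparatedSp (QuotSh.quot Scheme.fppfPrecoverage s t)) ∧
      (IsSeparated U.hom → AlgSp.IsSeparatedSp (QuotSh.quot Scheme.fppfPrecoverage s t)) := by
  have hE : AlgSp.IsEtaleEqvRel s t := Groth.Agent.S9889.result S U G ρ hfree c hc s t hs ht
  have hX : AlgSp.IsAlgSpace (QuotSh.quot Scheme.fppfPrecoverage s t) :=
    Groth.Agent.S9868.result S s t hE
  have hP := Groth.Agent.H49.isPresentation_quotMap hE hX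
  let 𝒰 : c.pt.left.OpenCover :=
    { I₀ := G
      X := fun _ => U.left
      f := fun g => (c.inj g).left
      mem₀ := by
        rw [Scheme.presieve₀_mem_precoverage_iff]
        exact ⟨fun v => Groth.Agent.H49.exists_inj_left_eq hc v,
          Groth.Agent.H49.isOpenImmersion_inj_left hc⟩ }
  have : Finite 𝒰.I₀ := inferInstanceAs (Finite G)
  have hfg : ∀ g : G, 𝒰.f g ≫ (prod.lift t s).left = (prod.lift (ρ g).hom (𝟙 U)).left := by
    intro g
    change (c.inj g).left ≫ (prod.lift t s).left = _
    rw [← Over.comp_left, prod.comp_lift, ht, hs]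
  have hpb : IsPullback (prod.fst : U ⨯ U ⟶ U).left (prod.snd : U ⨯ U ⟶ U).left U.hom U.hom :=
    Over.isPullback_of_binaryFan_isLimit (BinaryFan.mk prod.fst prod.snd) (prodIsProd U U)
  have hsnd : ∀ g : G, (prod.lift (ρ g).hom (𝟙 U)).left ≫ (prod.snd : U ⨯ U ⟶ U).left = 𝟙 _ := by
    intro g
    rw [← Over.comp_left, prod.lift_snd]
    rfl
  have hfst : ∀ g : G, (prod.lift (ρ g).hom (𝟙 U)).left ≫ (prod.fst : U ⨯ U ⟶ U).left =
      (ρ g).hom.left := by
    intro g
    rw [← Over.comp_left, prod.lift_fst]
  constructor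
  · intro hqs
    refine Groth.Agent.H49.repWith_diag_of_atlas @QuasiCompact hX (Groth.Agent.H49.quotMap s t)
      hP.etale hP.surjective s t hP.isPullback ?_
    have h1 : QuasiSeparated (prod.snd : U ⨯ U ⟶ U).left :=
      MorphismProperty.of_isPullback (P := @QuasiSeparated) hpb hqs
    have h2 : QuasiCompact s.left := by
      refine Groth.Agent.H65.CoprodClosedImm.quasiCompact_of_finite_openCover s.left 𝒰 fun g => ?_
      change QuasiCompact ((c.inj g).left ≫ s.left)
      rw [← Over.comp_left, hs g]
      exact (inferInstance : QuasiCompact (𝟙 U.left))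
    have e : (prod.lift t s).left ≫ (prod.snd : U ⨯ U ⟶ U).left = s.left := by
      rw [← Over.comp_left, prod.lift_snd]
    have : QuasiCompact ((prod.lift t s).left ≫ (prod.snd : U ⨯ U ⟶ U).left) := by
      rw [e]; exact h2
    exact QuasiCompact.of_comp _ (prod.snd : U ⨯ U ⟶ U).left
  · intro hsep
    refine Groth.Agent.H49.repWith_diag_of_atlas @IsClosedImmersion hX (Groth.Agent.H49.quotMap s t)
      hP.etale hP.surjective s t hP.isPullback ?_
    have h1 : IsSeparated (prod.snd : U ⨯ U ⟶ U).left :=
      MorphismProperty.of_isPullback (P := @IsSeparated) hpb hsep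
    refine Groth.Agent.H65.CoprodClosedImm.isClosedImmersion_of_finite_openCover _ 𝒰 ?_ ?_
    · intro g
      rw [hfg g]
      have : IsClosedImmersion ((prod.lift (ρ g).hom (𝟙 U)).left ≫ (prod.snd : U ⨯ U ⟶ U).left) := by
        rw [hsnd g]; infer_instance
      exact IsClosedImmersion.of_comp _ (prod.snd : U ⨯ U ⟶ U).left
    · intro g h hgh
      rw [hfg g, hfg h, Set.disjoint_iff]
      rintro z ⟨⟨x, hx⟩, ⟨y, hy⟩⟩
      obtain ⟨w, -, -⟩ := Scheme.Pullback.exists_preimage_pullback
        (f := (prod.lift (ρ g).hom (𝟙 U)).left) (g := (prod.lift (ρ h).hom (𝟙 U)).left) x y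
        (hx.trans hy.symm)
      have hcond := pullback.condition (f := (prod.lift (ρ g).hom (𝟙 U)).left)
        (g := (prod.lift (ρ h).hom (𝟙 U)).left)
      have e1 : pullback.fst (prod.lift (ρ g).hom (𝟙 U)).left (prod.lift (ρ h).hom (𝟙 U)).left =
          pullback.snd _ _ := by
        have := congrArg (fun k => k ≫ (prod.snd : U ⨯ U ⟶ U).left) hcond
        simpa only [Category.assoc, hsnd, Category.comp_id] using this
      have e2 : pullback.fst (prod.lift (ρ g).hom (𝟙 U)).left (prod.lift (ρ h).hom (𝟙 U)).left ≫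
          (ρ g).hom.left = pullback.fst _ _ ≫ (ρ h).hom.left := by
        have := congrArg (fun k => k ≫ (prod.fst : U ⨯ U ⟶ U).left) hcond
        simp only [Category.assoc, hfst] at this
        rw [this, e1]
      have hem := Groth.Agent.H49.isEmpty_of_comp_rho_eq ρ hfree
        (Y := Over.mk (pullback.fst (prod.lift (ρ g).hom (𝟙 U)).left
          (prod.lift (ρ h).hom (𝟙 U)).left ≫ U.hom))
        (Over.homMk (pullback.fst _ _) rfl) hgh (by
          ext
          simpa using e2)
      exact hem.false w

end Groth.Agent.S9890
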