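import Groth.Statements.S9894
import Groth.Agent.H65.SchDDEffective
import Groth.Agent.H65.AlgSpBoot
import Groth.Agent.H49.AlgSpLocal
import Groth.Agent.H49.AlgSpCover
-- import your own Groth.Agent.* helpers here

set_option autoImplicit false
universe u
open CategoryTheory CategoryTheory.Limits AlgebraicGeometry
open AlgSp

namespace Groth.Agent.S9894

/-- Let `P` be a property of morphisms of schemes which is stable under base change, fppf local on the
base, and such that morphisms of type `P` satisfy descent: for every surjective, flat, locally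
finitely presented `p : X' ⟶ S'` every descent datum relative to `p` whose scheme has structure
morphism in `P` is effective (descent is asked along single fppf covers, the case the argument
uses). Let `F` be an algebraic space over `S`, `G` an fppf sheaf of sets with a map `f : G ⟶ F`, and
`q : h_U ⟶ F` representable etale and surjective such that the base change of `f` along `q` is
represented by a scheme `V` over `S` with `g : V ⟶ U` having `P`. Then `G` is an algebraic space
over `S` and `f` is representable by schemes with property `P`. -/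
theorem result (S : Scheme.{u}) (P : MorphismProperty Scheme.{u})
    [P.IsStableUnderBaseChange] [P.IsLocalAtTarget Scheme.fppfPrecoverage]
    (hdesc : ∀ ⦃X' S' : Scheme.{u}⦄ (p : X' ⟶ S'), Surjective p → Flat p → LocallyOfFinitePresentation p →
      ∀ D : Desc.SchDD p, P D.obj.hom → (Desc.toDD p).essImage D)
    (F : AlgSp.Space S) (G : AlgSp.Sp S) (f : G ⟶ F.obj) {U V : Over S} (q : (AlgSp.yon S).obj U ⟶ F.obj)
    (hqe : AlgSp.RepWith @Etale q) (hqs : AlgSp.RepWith @Surjective q) (fst : (AlgSp.yon S).obj V ⟶ G)
    (g : V ⟶ U) (sq : IsPullback fst ((AlgSp.yon S).map g) f q) (hP : P g.left) :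
    AlgSp.IsAlgSpace G ∧ AlgSp.RepWith P f := by
  have hfste : AlgSp.RepWith @Etale fst := MorphismProperty.of_isPullback sq.flip hqe
  have hfsts : AlgSp.RepWith @Surjective fst := MorphismProperty.of_isPullback sq.flip hqs
  have hG : AlgSp.IsAlgSpace G := Groth.Agent.H65.AlgSpBoot.isAlgSpace_of_yon_cover fst hfste hfsts
  have hrep : AlgSp.Representable f := by
    intro T ξ
    obtain ⟨X', p, b₀, sqX⟩ := hqe.rep ξ
    have hpe : Etale p.left := hqe.property ξ b₀ p sqX
    have hps : Surjective p.left := hqs.property ξ b₀ p sqX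
    obtain ⟨b, rfl⟩ := (AlgSp.yon S).map_surjective b₀
    have sqV := IsPullback.of_hasPullback g b
    have hP' : P (pullback.snd g b).left :=
      P.of_isPullback (sqV.map (Over.forget S)) hP
    have sqVy := sqV.map (AlgSp.yon S)
    have sqH := IsPullback.of_hasPullback f ξ
    have hw : ((AlgSp.yon S).map (pullback.fst g b) ≫ fst) ≫ f =
        (AlgSp.yon S).map (pullback.snd g b ≫ p) ≫ ξ := by
      rw [Category.assoc, sq.w, ← Category.assoc, sqVy.w, Category.assoc, sqX.w,
        Functor.map_comp, Category.assoc]
    have big := sqVy.paste_horiz sq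
    have hbot : (AlgSp.yon S).map b ≫ q = (AlgSp.yon S).map p ≫ ξ := sqX.w
    rw [hbot] at big
    have hc1 : pullback.lift _ _ hw ≫ pullback.fst f ξ =
        (AlgSp.yon S).map (pullback.fst g b) ≫ fst := pullback.lift_fst _ _ _
    have hc2 : pullback.lift _ _ hw ≫ pullback.snd f ξ =
        (AlgSp.yon S).map (pullback.snd g b) ≫ (AlgSp.yon S).map p := by
      rw [pullback.lift_snd, Functor.map_comp]
    rw [← hc1] at big
    have sqc : IsPullback (pullback.lift _ _ hw) ((AlgSp.yon S).map (pullback.snd g b))
        (pullback.snd f ξ) ((AlgSp.yon S).map p) := IsPullback.of_right big hc2 sqH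
    have hfl : Flat p.left := inferInstance
    have hfp : LocallyOfFinitePresentation p.left := inferInstance
    obtain ⟨W, ⟨e⟩⟩ := Groth.Agent.H65.SchDDEff.exists_iso_yon_of_essImage sqc hps hfl hfp
      (hdesc p.left hps hfl hfp (Groth.Agent.H65.SchDDEff.dd sqc) hP')
    obtain ⟨w, hw'⟩ := (AlgSp.yon S).map_surjective (e.hom ≫ pullback.snd f ξ)
    have sqL : IsPullback e.hom (e.hom ≫ pullback.snd f ξ) (pullback.snd f ξ) (𝟙 _) :=
      IsPullback.of_horiz_isIso ⟨by simp⟩
    have sqB := sqL.paste_horiz sqH
    rw [Category.id_comp, ← hw'] at sqB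
    exact ⟨W, w, e.hom ≫ pullback.fst f ξ, sqB⟩
  refine ⟨hG, ?_⟩
  have : Sheaf.IsLocallySurjective q :=
    Groth.Agent.H49.isLocallySurjective_of_repWith_etale_surjective q hqe hqs
  exact Groth.Agent.H49.repWith_of_isLocallySurjective_base f hrep q fst ((AlgSp.yon S).map g) sq P
    ((AlgSp.repWith_yon_map_iff P g).2 hP)

end Groth.Agent.S9894
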