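import Groth.Statements.S9900
import Groth.Agent.H49.AlgSpDiagProps

set_option autoImplicit false
universe u
open CategoryTheory CategoryTheory.Limits AlgebraicGeometry
open AlgSp

namespace Groth.Agent.S9900

/-- For a morphism of algebraic spaces the relative diagonal is representable by schemes, locally of
finite type, a monomorphism, separated and locally quasi-finite (each in the representable sense). -/
theorem result {S : Scheme.{u}} {X Y : AlgSp.Space S} (f : X ⟶ Y) :
    AlgSp.Representable (pullback.diagonal f.hom) ∧
    AlgSp.RepWith @LocallyOfFiniteType (pullback.diagonal f.hom) ∧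
    AlgSp.RepWith (MorphismProperty.monomorphisms Scheme.{u}) (pullback.diagonal f.hom) ∧
    AlgSp.RepWith @IsSeparated (pullback.diagonal f.hom) ∧
    AlgSp.RepWith (@LocallyQuasiFinite ⊓ @LocallyOfFiniteType) (pullback.diagonal f.hom) := by
  obtain ⟨h1, h2⟩ := Groth.Agent.H49.repWith_diag_lft_mono X.property
  set j : pullback f.hom f.hom ⟶ X.obj ⨯ X.obj :=
    prod.lift (pullback.fst f.hom f.hom) (pullback.snd f.hom f.hom) with hj
  have hjm : Mono j := by
    refine ⟨fun {Z} u v huv => ?_⟩
    apply pullback.hom_ext
    · have := huv =≫ prod.fst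
      rwa [Category.assoc, Category.assoc, prod.lift_fst] at this
    · have := huv =≫ prod.snd
      rwa [Category.assoc, Category.assoc, prod.lift_snd] at this
  have e : Limits.diag X.obj = pullback.diagonal f.hom ≫ j := by
    apply Limits.prod.hom_ext
    · rw [Category.assoc, hj, prod.lift_fst, prod.lift_fst, pullback.diagonal_fst]
    · rw [Category.assoc, hj, prod.lift_snd, prod.lift_snd, pullback.diagonal_snd]
  have key : ∀ (P : MorphismProperty (AlgSp.Sp S)) [P.IsStableUnderBaseChange],
      P (Limits.diag X.obj) → P (pullback.diagonal f.hom) := by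
    intro P _ hP
    rw [e] at hP
    exact P.of_postcomp (W' := MorphismProperty.monomorphisms _) _ j hjm hP
  have h3 : AlgSp.RepWith @IsSeparated (Limits.diag X.obj) := by
    refine Groth.Agent.H49.repWith_of_le ?_ h2
    intro A B g hg
    have : Mono g := hg
    exact (inferInstance : IsSeparated g)
  have h4 : AlgSp.RepWith (@LocallyQuasiFinite ⊓ @LocallyOfFiniteType) (Limits.diag X.obj) := by
    refine Groth.Agent.H49.repWith_of_le ?_ (Groth.Agent.H49.repWith_inf h1 h2)
    rintro A B g ⟨hg1, hg2⟩
    have : LocallyOfFiniteType g := hg1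
    have : Mono g := hg2
    exact ⟨(inferInstance : LocallyQuasiFinite g), hg1⟩
  exact ⟨key _ X.property.diag, key _ h1, key _ h2, key _ h3, key _ h4⟩

end Groth.Agent.S9900
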