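import Groth.Statements.S9931
import Groth.Agent.H51.SpAffine
import Groth.Agent.H49.AlgSpSep
set_option backward.isDefEq.respectTransparency false

set_option autoImplicit false
universe u
open CategoryTheory CategoryTheory.Limits AlgebraicGeometry
open AlgSp

namespace Groth.Agent.S9931

/-- (3) ⇒ (1): for P = closed immersion, open immersion or immersion, a morphism of algebraic spaces
whose base change to every affine scheme over the target is representable with P is itself
representable with P. -/
theorem result {S : Scheme.{u}} (P : MorphismProperty Scheme.{u})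
    (hP : P = @IsClosedImmersion ∨ P = @IsOpenImmersion ∨ P = @IsImmersion) {X Y : AlgSp.Space S} (f : X ⟶ Y)
    (h : ∀ (Z : Over S), IsAffine Z.left → ∀ (g : (AlgSp.yon S).obj Z ⟶ Y.obj) (P₀ : AlgSp.Sp S)
      (fst : P₀ ⟶ X.obj) (snd : P₀ ⟶ (AlgSp.yon S).obj Z), IsPullback fst snd f.hom g → AlgSp.RepWith P snd) :
    AlgSp.RepWith P f.hom := by
  have hrep : AlgSp.Representable f.hom := by
    refine Groth.Agent.H51.representable_of_affine_test f.hom (fun Z hZ g => ?_)
    have sq := IsPullback.of_hasPullback f.hom g
    have hs : AlgSp.RepWith P (pullback.snd f.hom g) := h Z hZ g _ _ _ sq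
    have sq' := hs.rep.isPullback (𝟙 ((AlgSp.yon S).obj Z))
    refine ⟨_, hs.rep.snd (𝟙 _), hs.rep.fst (𝟙 _) ≫ pullback.fst f.hom g, ?_⟩
    have := sq'.paste_horiz sq
    rwa [Category.id_comp] at this
  have key : ∀ (Q : MorphismProperty Scheme.{u}) [IsZariskiLocalAtTarget Q]
      [Q.IsStableUnderBaseChange], P = Q → AlgSp.RepWith P f.hom := by
    intro Q _ _ hPQ
    subst hPQ
    refine Groth.Agent.H49.repWith_of_affine_test P f.hom hrep ?_
    intro T V hT ζ fst snd sq
    exact (AlgSp.repWith_yon_map_iff P snd).1 (h T hT ζ _ fst _ sq)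
  rcases hP with hP | hP | hP
  · exact key _ hP
  · exact key _ hP
  · exact key _ hP

end Groth.Agent.S9931
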