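import Groth.Statements.S9934
import Groth.Agent.H50.Mor
set_option backward.isDefEq.respectTransparency false

set_option autoImplicit false
universe u
open CategoryTheory CategoryTheory.Limits AlgebraicGeometry
open AlgSp

namespace Groth.Agent.S9934

/-- An immersion of algebraic spaces is a closed immersion exactly when its image on points is closed. -/
theorem result {S : Scheme.{u}} {Z X : AlgSp.Space S} (i : Z ⟶ X)
    (hi : AlgSp.RepWith @IsImmersion i.hom) :
    AlgSp.RepWith @IsClosedImmersion i.hom ↔ IsClosed (Set.range (AlgSp.Points.map i.hom)) := by
  rw [Groth.Agent.H50.isClosed_points_iff]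
  constructor
  · intro h T g
    rw [Groth.Agent.H50.preimage_range_points i.hom h.rep g]
    have : IsClosedImmersion (h.rep.snd g).left := h.property_snd g
    exact (h.rep.snd g).left.isClosedEmbedding.isClosed_range
  · intro h
    refine MorphismProperty.relative_of_snd hi.rep (fun T g => ?_)
    have him : IsImmersion (hi.rep.snd g).left := hi.property_snd g
    have hcl := h T g
    rw [Groth.Agent.H50.preimage_range_points i.hom hi.rep g] at hcl
    change IsClosedImmersion (hi.rep.snd g).left
    exact IsClosedImmersion.of_isPreimmersion _ hcl

end Groth.Agent.S9934
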