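import Groth.Statements.S9935
import Groth.Agent.H50.ImmClosureSp

set_option autoImplicit false
universe u
open CategoryTheory CategoryTheory.Limits AlgebraicGeometry
open AlgSp

namespace Groth.Agent.S9935

/-- A quasi-compact immersion of algebraic spaces factors as an open immersion followed by a closed
immersion. -/
theorem result {S : Scheme.{u}} {Z X : AlgSp.Space S}
    (i : Z ⟶ X) (hi : AlgSp.RepWith @IsImmersion i.hom) (hq : AlgSp.IsQuasiCompactMor i.hom) :
    ∃ (Zbar : AlgSp.Space S) (j : Z ⟶ Zbar) (c : Zbar ⟶ X), j ≫ c = i ∧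
      AlgSp.RepWith @IsOpenImmersion j.hom ∧ AlgSp.RepWith @IsClosedImmersion c.hom := by
  obtain ⟨j, hj⟩ := Groth.Agent.H50.exists_factor_qcImgι i.hom
  have hZbar := Groth.Agent.H50.isAlgSpace_qcImg X.property hq
  have hc := Groth.Agent.H50.isSchImage_qcImgι X.property hq
  refine ⟨⟨Groth.Agent.H50.qcImg i.hom, hZbar⟩, ObjectProperty.homMk j,
    ObjectProperty.homMk (Groth.Agent.H50.qcImgι i.hom), ?_, ?_, hc.1⟩
  · ext : 1
    exact hj
  · exact (Groth.Agent.H50.immersion_into_schImage Z.property X.property hZbar i.hom hi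
      (Or.inl hq) _ hc j hj).1

end Groth.Agent.S9935
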