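import Groth.Statements.S9939
import Groth.Agent.H50.Mor
import Mathlib.AlgebraicGeometry.Morphisms.UniversallyInjective
set_option backward.isDefEq.respectTransparency false

set_option autoImplicit false
universe u
open CategoryTheory CategoryTheory.Limits AlgebraicGeometry
open AlgSp

namespace Groth.Agent.S9939

/-- For a morphism of algebraic spaces representable by schemes, representable universal injectivity is
equivalent to injectivity on K-valued points for every field K. -/
theorem result {S : Scheme.{u}} {X Y : AlgSp.Space S} (f : X ⟶ Y)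
    (hf : AlgSp.Representable f.hom) :
    AlgSp.RepWith @UniversallyInjective f.hom ↔
      ∀ (K : Type u) [Field K] (str : Spec (CommRingCat.of K) ⟶ S),
        Function.Injective (fun a : (AlgSp.yon S).obj (Over.mk str) ⟶ X.obj => a ≫ f.hom) := by
  constructor
  · intro h K _ str a a' haa'
    dsimp only at haa'
    have sq := h.rep.isPullback (a ≫ f.hom)
    have hv : UniversallyInjective (h.rep.snd (a ≫ f.hom)).left := h.property_snd (a ≫ f.hom)
    obtain ⟨s, hs1, hs2⟩ := sq.exists_lift a (𝟙 _) (by simp)
    obtain ⟨s', hs'1, hs'2⟩ := sq.exists_lift a' (𝟙 _) (by simp [haa'])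
    obtain ⟨σ, rfl⟩ := (AlgSp.yon S).map_surjective s
    obtain ⟨σ', rfl⟩ := (AlgSp.yon S).map_surjective s'
    rw [← Functor.map_comp, ← (AlgSp.yon S).map_id] at hs2 hs'2
    have e1 : σ ≫ h.rep.snd (a ≫ f.hom) = 𝟙 _ := (AlgSp.yon S).map_injective hs2
    have e2 : σ' ≫ h.rep.snd (a ≫ f.hom) = 𝟙 _ := (AlgSp.yon S).map_injective hs'2
    have key0 : UniversallyInjective (h.rep.snd (a ≫ f.hom)).left ↔
        ∀ (K : Type u) [Field K], Function.Injective
          (fun g : Spec (.of K) ⟶ (h.rep.pullback (a ≫ f.hom)).left =>
            g ≫ (h.rep.snd (a ≫ f.hom)).left) :=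
      (tfae_universallyInjective (h.rep.snd (a ≫ f.hom)).left).out 0 1
    have key := key0.1 hv K
    have : σ.left = σ'.left := key (by
      change σ.left ≫ (h.rep.snd (a ≫ f.hom)).left = σ'.left ≫ (h.rep.snd (a ≫ f.hom)).left
      rw [← Over.comp_left, ← Over.comp_left, e1, e2])
    have : σ = σ' := Over.OverMorphism.ext this
    rw [← hs1, ← hs'1, this]
  · intro h
    refine MorphismProperty.relative_of_snd hf (fun T g => ?_)
    change UniversallyInjective (hf.snd g).left
    have key0 : UniversallyInjective (hf.snd g).left ↔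
        ∀ (K : Type u) [Field K], Function.Injective
          (fun b : Spec (.of K) ⟶ (hf.pullback g).left => b ≫ (hf.snd g).left) :=
      (tfae_universallyInjective (hf.snd g).left).out 0 1
    refine key0.2 (fun K _ b b' hbb' => ?_)
    dsimp only at hbb'
    have sq := hf.isPullback g
    let B : Over.mk (b ≫ (hf.pullback g).hom) ⟶ hf.pullback g := Over.homMk b rfl
    let B' : Over.mk (b ≫ (hf.pullback g).hom) ⟶ hf.pullback g := Over.homMk b' (by
      change b' ≫ (hf.pullback g).hom = b ≫ (hf.pullback g).hom
      rw [← Over.w (hf.snd g), ← Category.assoc, ← hbb', Category.assoc])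
    have hBB' : B ≫ hf.snd g = B' ≫ hf.snd g := Over.OverMorphism.ext hbb'
    have h1 : (AlgSp.yon S).map B ≫ hf.fst g = (AlgSp.yon S).map B' ≫ hf.fst g := by
      apply h K (b ≫ (hf.pullback g).hom)
      dsimp only
      rw [Category.assoc, Category.assoc, sq.w, ← Category.assoc, ← Category.assoc,
        ← Functor.map_comp, ← Functor.map_comp, hBB']
    have h2 : (AlgSp.yon S).map B = (AlgSp.yon S).map B' := by
      apply sq.hom_ext h1
      rw [← Functor.map_comp, ← Functor.map_comp, hBB']
    exact congrArg (fun m => m.left) ((AlgSp.yon S).map_injective h2)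

end Groth.Agent.S9939
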