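import Groth.Statements.S9945
import Groth.Agent.S10533
import Groth.Agent.H49.AlgSpQC
import Groth.Agent.H50.LimAffineE
import Groth.Agent.H50.AffineLocal2
import Groth.Agent.H52.FppfFpqc
import Groth.Agent.H51.SpBasic

set_option autoImplicit false
universe u
open CategoryTheory CategoryTheory.Limits AlgebraicGeometry
open AlgSp

namespace Groth.Agent.S9945

/-- Over a base scheme with quasi-separated underlying space, every morphism from the spectrum of an
Artinian ring to an algebraic space quasi-separated over S is affine. (The published statement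
assumes X quasi-separated in the absolute sense over any base; this row assumes the base
quasi-separated and X quasi-separated over it, which on such bases is the same condition.) -/
theorem result {S : Scheme.{u}} [QuasiSeparatedSpace ↥S] (X : AlgSp.Space S)
    (hX : AlgSp.IsQuasiSeparatedSp X.obj) (A : Type u) [CommRing A] [IsArtinianRing A]
    (str : Spec (CommRingCat.of A) ⟶ S) (a : (AlgSp.yon S).obj (Over.mk str) ⟶ X.obj) :
    AlgSp.IsAffineMor a := by
  classical
  let T : Over S := Over.mk str
  have hTaff : IsAffine T.left := (inferInstance : IsAffine (Spec (CommRingCat.of A)))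
  have hTart : IsLocallyArtinian T.left :=
    Scheme.isLocallyArtinianScheme_Spec.2 (inferInstanceAs (IsArtinianRing A))
  have hTc : CompactSpace ↥T.left := inferInstance
  obtain ⟨U, p, hpe, hps⟩ := X.property.atlas
  -- the covering of `X` by the affine opens of the atlas
  let ι : Type u := U.left.affineOpens
  let Ui : ι → Over S := fun i => Groth.Agent.H51.overOpen U i.1
  let bi : ∀ i : ι, (AlgSp.yon S).obj (Ui i) ⟶ X.obj := fun i =>
    (AlgSp.yon S).map (Groth.Agent.H51.overOpenι U i.1) ≫ p
  have hbie : ∀ i, AlgSp.RepWith @Etale (bi i) := fun i =>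
    Groth.Agent.H51.repWith_etale_restrict p hpe i.1
  have hUiaff : ∀ i : ι, IsAffine (Ui i).left := fun i => i.2
  have hUisp : ∀ i : ι, AlgSp.IsAlgSpace ((AlgSp.yon S).obj (Ui i)) := fun i =>
    AlgSp.IsAlgSpace.yon_obj _
  have hcov : AlgSp.IsFpqcCover (fun i : ι => (AlgSp.yon S).obj (Ui i)) bi := by
    refine ⟨fun i => Groth.Agent.H50.goodClass_flat.locP_of_repWith_etale (bi i) (hbie i),
      Groth.Agent.H52.fpqcRefine_of_isFppfCover X.property _ hUisp _
        ⟨fun i => ⟨Groth.Agent.H50.goodClass_flat.locP_of_repWith_etale (bi i) (hbie i),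
          Groth.Agent.H50.goodClass_lfp.locP_of_repWith_etale (bi i) (hbie i)⟩, fun x => ?_⟩⟩
    obtain ⟨u, hu⟩ := Groth.Agent.H51.surjective_ofPt_of_surjective p hps x
    obtain ⟨_, ⟨(O : U.left.Opens), hO, rfl⟩, huO, -⟩ :=
      U.left.isBasis_affineOpens.exists_subset_of_mem_open (Set.mem_univ u) isOpen_univ
    refine ⟨⟨O, hO⟩, AlgSp.Points.ofScheme _ ⟨u, huO⟩, ?_⟩
    rw [← AlgSp.Points.ofPt_eq_map_ofScheme]
    exact (Groth.Agent.H51.ofPt_restrict p O ⟨u, huO⟩).trans hu
  -- the base changes
  let Pi : ι → Over S := fun i => (hbie i).rep.pullback a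
  let pr₁ : ∀ i, Pi i ⟶ Ui i := fun i => (hbie i).rep.fst' a
  let pr₂ : ∀ i, Pi i ⟶ T := fun i => (hbie i).rep.snd a
  have sqi : ∀ i, IsPullback ((AlgSp.yon S).map (pr₁ i)) ((AlgSp.yon S).map (pr₂ i)) (bi i) a :=
    fun i => (hbie i).rep.isPullback' a
  have hPiaff : ∀ i, IsAffine (Pi i).left := by
    intro i
    have het : Etale (pr₂ i).left := (hbie i).property_snd a
    have hqc : AlgSp.IsQuasiCompactSp ((AlgSp.yon S).obj (Pi i)) := by
      have hUc : CompactSpace ↥(Ui i).left := by
        have := hUiaff i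
        infer_instance
      exact (Groth.Agent.H49.isQuasiCompactSp_and_isQuasiSeparatedSp_of_isPullback
        (hUisp i) X.property (AlgSp.IsAlgSpace.yon_obj T) (sqi i)
        ⟨Groth.Agent.H49.isQuasiCompactSp_yon (Ui i),
          Groth.Agent.H50.isQuasiSeparatedSp_yon_of_isAffine (Ui i) (hUiaff i)⟩ hX
        ⟨Groth.Agent.H49.isQuasiCompactSp_yon T,
          Groth.Agent.H50.isQuasiSeparatedSp_yon_of_isAffine T hTaff⟩).1
    have hc : CompactSpace ↥(Pi i).left :=
      Groth.Agent.H49.compactSpace_of_isQuasiCompactSp_yon (Pi i) hqc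
    have hlqf : LocallyQuasiFinite (pr₂ i).left := Groth.Agent.H50.locallyQuasiFinite_of_etale _
    have hart : IsLocallyArtinian (Pi i).left := IsLocallyArtinian.of_locallyQuasiFinite (pr₂ i).left
    have : IsArtinianScheme (Pi i).left := { }
    infer_instance
  have hloc := (Groth.Agent.S10533.result S) (fun i : ι => (AlgSp.yon S).obj (Ui i)) bi X.property
    hUisp hcov a (AlgSp.IsAlgSpace.yon_obj T) (fun i => (AlgSp.yon S).obj (Pi i))
    (fun i => (AlgSp.yon S).map (pr₁ i)) (fun i => (AlgSp.yon S).map (pr₂ i))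
    (fun i => AlgSp.IsAlgSpace.yon_obj _) (fun i => (sqi i).flip)
  exact hloc.2 fun i =>
    Groth.Agent.H50.isAffineMor_yon_map_of_isAffine (pr₁ i) (hPiaff i) (hUiaff i)

end Groth.Agent.S9945
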