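import Groth.Statements.S9951
import Groth.Agent.H50.LocPBase
set_option backward.isDefEq.respectTransparency false

set_option autoImplicit false
universe u
open CategoryTheory CategoryTheory.Limits AlgebraicGeometry
open AlgSp

namespace Groth.Agent.S9951

/-- The source of a morphism locally of finite type with locally Noetherian target is locally
Noetherian. -/
theorem result {S : Scheme.{u}} {X Y : AlgSp.Space S} (f : X ⟶ Y)
    (hf : AlgSp.LocP @LocallyOfFiniteType f.hom) (hY : AlgSp.IsLocNoethSp Y.obj) : AlgSp.IsLocNoethSp X.obj := by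
  obtain ⟨V₀, p₀, hp1, hp2, hN⟩ := hY
  obtain ⟨U₀, a₀, ha1, ha2⟩ := X.property.atlas
  obtain ⟨W, w₁, w₂, sq⟩ := Groth.Agent.H53.exists_pullback_yon (a₀ ≫ f.hom) p₀ hp1.rep
  have hw : Etale w₁.left := Groth.Agent.H53.prop_of_isPullback_yon sq hp1
  have hws : Surjective w₁.left := Groth.Agent.H53.prop_of_isPullback_yon sq hp2
  have hc1 : AlgSp.RepWith @Etale ((AlgSp.yon S).map w₁ ≫ a₀) :=
    Groth.Agent.H53.repWith_etale_map_comp w₁ hw a₀ ha1
  have hc2 : AlgSp.RepWith @Surjective ((AlgSp.yon S).map w₁ ≫ a₀) :=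
    (AlgSp.RepWith @Surjective).comp_mem _ _ ((AlgSp.repWith_yon_map_iff _ _).2 hws) ha2
  have hft : LocallyOfFiniteType w₂.left :=
    hf ((AlgSp.yon S).map w₁ ≫ a₀) p₀ w₂ hc1 hp1 (by rw [Category.assoc]; exact sq.w)
  exact ⟨W, _, hc1, hc2, LocallyOfFiniteType.isLocallyNoetherian w₂.left⟩

end Groth.Agent.S9951
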