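import Groth.Statements.S9954
import Groth.Agent.H50.GeomPts
import Mathlib.FieldTheory.IsAlgClosed.AlgebraicClosure

set_option autoImplicit false
universe u
open CategoryTheory CategoryTheory.Limits AlgebraicGeometry
open AlgSp

namespace Groth.Agent.S9954

/-- A morphism locally of finite type is surjective if and only if it is surjective on k-valued points
for every algebraically closed field k over the base. -/
theorem result {S : Scheme.{u}} {X Y : AlgSp.Space S} (f : X ⟶ Y)
    (hf : AlgSp.LocP @LocallyOfFiniteType f.hom) :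
    AlgSp.IsSurjectiveMor f.hom ↔
      ∀ (k : Type u) [Field k] [IsAlgClosed k] (str : Spec (CommRingCat.of k) ⟶ S)
        (y : (AlgSp.yon S).obj (Over.mk str) ⟶ Y.obj),
        ∃ x : (AlgSp.yon S).obj (Over.mk str) ⟶ X.obj, x ≫ f.hom = y := by
  constructor
  · intro hs k _ _ str y
    exact Groth.Agent.H50.exists_geometric_lift X.property Y.property f.hom hf hs k str y
  · intro h y
    obtain ⟨p, rfl⟩ := Quot.exists_rep y
    let k := AlgebraicClosure p.K
    let str' : Spec (CommRingCat.of k) ⟶ S :=
      Spec.map (CommRingCat.ofHom (algebraMap p.K k)) ≫ p.str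
    let α : Over.mk str' ⟶ p.pt := Over.homMk (Spec.map (CommRingCat.ofHom (algebraMap p.K k))) rfl
    obtain ⟨x, hx⟩ := h k str' ((AlgSp.yon S).map α ≫ p.toHom)
    refine ⟨Points.mk (Groth.Agent.H50.fieldPtOfHom str' x), ?_⟩
    rw [Points.map_mk, Groth.Agent.H50.fieldPtOfHom_map, hx]
    have := Groth.Agent.H50.mk_fieldPtOfHom_map_comp p.str str' α p.toHom
    rw [Groth.Agent.H50.fieldPtOfHom_toHom] at this
    exact this

end Groth.Agent.S9954
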