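import Groth.Statements.S9958
import Groth.Agent.H50.LocPBase
set_option backward.isDefEq.respectTransparency false

set_option autoImplicit false
universe u
open CategoryTheory CategoryTheory.Limits AlgebraicGeometry
open AlgSp

namespace Groth.Agent.S9958

/-- Over a locally Noetherian algebraic space, locally of finite type implies locally of finite
presentation. -/
theorem result {S : Scheme.{u}} {X Y : AlgSp.Space S} (f : X ⟶ Y)
    (hY : AlgSp.IsLocNoethSp Y.obj) (hf : AlgSp.LocP @LocallyOfFiniteType f.hom) :
    AlgSp.LocP @LocallyOfFinitePresentation f.hom := by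
  intro U V a b h ha hb hcomm
  obtain ⟨V₀, p₀, hp1, hp2, hN⟩ := hY
  obtain ⟨V', v, k, sq⟩ := Groth.Agent.H53.exists_pullback_yon b p₀ hp1.rep
  have hv : Etale v.left := Groth.Agent.H53.prop_of_isPullback_yon sq hp1
  have hvs : Surjective v.left := Groth.Agent.H53.prop_of_isPullback_yon sq hp2
  have hk : Etale k.left := Groth.Agent.H53.prop_of_isPullback_yon sq.flip hb
  have hN' : IsLocallyNoetherian V'.left := LocallyOfFiniteType.isLocallyNoetherian k.left
  have hh : LocallyOfFiniteType h.left := hf a b h ha hb hcomm
  have sqU := (IsPullback.of_hasPullback h v).map (Over.forget S)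
  have hh' : LocallyOfFiniteType (pullback.snd h v).left :=
    MorphismProperty.of_isPullback (P := @LocallyOfFiniteType) sqU hh
  have hfp : LocallyOfFinitePresentation (pullback.snd h v).left := inferInstance
  exact Groth.Agent.H50.goodClass_lfp.desc h.left v.left _ _ sqU hv hvs hfp

end Groth.Agent.S9958
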