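import Groth.Statements.S9995
import Groth.Agent.H50.QFinFibre

set_option backward.isDefEq.respectTransparency false

set_option autoImplicit false
universe u
open CategoryTheory CategoryTheory.Limits AlgebraicGeometry
open AlgSp

namespace Groth.Agent.S9995

/-- For a morphism f : X ⟶ Y of algebraic spaces of finite type and a point y of |Y|, the set of points
of |X| over y where f is quasi-finite is finite (in the neighbourhood sense, through some chart
diagram). -/
theorem result {S : Scheme.{u}} {X Y : AlgSp.Space S} (f : X ⟶ Y)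
    (hf : AlgSp.IsFiniteTypeMor f.hom) (y : AlgSp.Points Y.obj) :
    {x : AlgSp.Points X.obj | AlgSp.Points.map f.hom x = y ∧
      AlgSp.HasAtMor (fun U _ h u => ∃ W : U.Opens, u ∈ W ∧ LocallyQuasiFinite (W.ι ≫ h) ∧
        LocallyOfFiniteType (W.ι ≫ h)) f.hom x}.Finite := by
  refine (Groth.Agent.H50.finite_quasiFiniteAt_over_point X.property Y.property f.hom hf.1 hf.2 y).subset ?_
  rintro x ⟨hxy, U, V, a, b, h, u, ha, hb, hcomm, hx, W, hu, h1, h2⟩
  exact ⟨hxy, U, V, a, b, h, u, ha, hb, hcomm, hx, W, hu, ⟨h1, h2⟩⟩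

end Groth.Agent.S9995
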